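import Cfsg.Agent.JankoThree.Group
import Cfsg.Prelude.Def_Sporadic
import Mathlib.GroupTheory.Sylow

/-!
The central quotient of `threeJ3` is simple.
-/

set_option autoImplicit false

namespace Cfsg.Agent.JankoThree

open Cfsg.Spor (F9)
open Matrix

/-- An element acting on an `r`-subgroup that it normalises, when no power of `r` can move. -/
theorem le_centralizer_of_normalizes {Q : Type*} [Group Q] [Finite Q] {p r k : ℕ} [Fact p.Prime]
    [Fact r.Prime] {x : Q} (hx : orderOf x = p) {R : Subgroup Q}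
    (hR : Nat.card R = r ^ k) (hnorm : ∀ y ∈ R, x * y * x⁻¹ ∈ R)
    (hord : ∀ j ≤ k, r ^ k % p = r ^ j % p → j = k) : ∀ y ∈ R, x * y = y * x := by
  have hnorm' : ∀ g ∈ Subgroup.zpowers x, ∀ y ∈ R, g * y * g⁻¹ ∈ R := by
    intro g hg
    rw [← mem_powers_iff_mem_zpowers] at hg
    obtain ⟨n, rfl⟩ := hg
    induction n with
    | zero => intro y hy; simpa using hy
    | succ n ih =>
      intro y hy
      simp only at ih ⊢
      rw [show x ^ (n + 1) * y * (x ^ (n + 1))⁻¹ = x * (x ^ n * y * (x ^ n)⁻¹) * x⁻¹ by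
        rw [pow_succ']; group]
      exact hnorm _ (ih y hy)
  letI : MulAction (Subgroup.zpowers x) R :=
    { smul := fun g y => ⟨g.1 * y.1 * g.1⁻¹, hnorm' g.1 g.2 y.1 y.2⟩
      one_smul := fun y => Subtype.ext (show (1 : Q) * y.1 * (1 : Q)⁻¹ = y.1 by group)
      mul_smul := fun g h y => Subtype.ext (show (g.1 * h.1) * y.1 * (g.1 * h.1)⁻¹ =
        g.1 * (h.1 * y.1 * h.1⁻¹) * g.1⁻¹ by group) }
  have hsmul : ∀ (g : Subgroup.zpowers x) (y : R), ((g • y : R) : Q) = g.1 * y.1 * g.1⁻¹ :=
    fun _ _ => rfl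
  have hp : IsPGroup p (Subgroup.zpowers x) :=
    IsPGroup.of_card (n := 1) (by rw [Nat.card_zpowers, hx, pow_one])
  have hmod := hp.card_modEq_card_fixedPoints R
  let S : Subgroup Q := R ⊓ Subgroup.centralizer {x}
  have hS : Nat.card (MulAction.fixedPoints (Subgroup.zpowers x) R) = Nat.card S := by
    refine Nat.card_congr
      { toFun := fun y => ⟨y.1.1, y.1.2, Subgroup.mem_centralizer_singleton_iff.mpr ?_⟩
        invFun := fun y => ⟨⟨y.1, y.2.1⟩, fun g => ?_⟩
        left_inv := fun y => rfl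
        right_inv := fun y => rfl }
    · have h := congrArg Subtype.val (y.2 ⟨x, Subgroup.mem_zpowers x⟩)
      rw [hsmul] at h
      exact (mul_inv_eq_iff_eq_mul.mp h).symm
    · apply Subtype.ext
      rw [hsmul]
      obtain ⟨g, n, rfl⟩ := g
      have hc : Commute x y.1 := (Subgroup.mem_centralizer_singleton_iff.mp y.2.2).symm
      change x ^ n * y.1 * (x ^ n)⁻¹ = y.1
      rw [(hc.zpow_left n).eq, mul_inv_cancel_right]
  have hd : Nat.card S ∣ r ^ k := hR ▸ Subgroup.card_dvd_of_le inf_le_left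
  obtain ⟨j, hj, e⟩ := (Nat.dvd_prime_pow Fact.out).mp hd
  rw [hS, hR, e] at hmod
  have hjk := hord j hj hmod
  have hSR : S = R := Subgroup.eq_of_le_of_card_ge inf_le_left (by rw [e, hjk, hR])
  intro y hy
  rw [← hSR] at hy
  exact (Subgroup.mem_centralizer_singleton_iff.mp hy.2).symm

theorem small_orders : ∀ r ∈ ({2, 3, 5, 17} : Finset ℕ), ∀ k < 8, ∀ j ≤ k,
    r ^ k ∣ 50232960 → r ^ k % 19 = r ^ j % 19 → j = k := by decide +kernel

theorem prime_dvd_order {r : ℕ} (hr : r.Prime) (h : r ∣ 50232960) :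
    r ∈ ({2, 3, 5, 17, 19} : Finset ℕ) := by
  have h' : r ∣ 2 ^ 7 * (3 ^ 5 * (5 * (17 * 19))) := by norm_num; exact h
  rcases (Nat.Prime.dvd_mul hr).mp h' with h1 | h1
  · simp [(Nat.prime_dvd_prime_iff_eq hr Nat.prime_two).mp (hr.dvd_of_dvd_pow h1)]
  rcases (Nat.Prime.dvd_mul hr).mp h1 with h1 | h1
  · simp [(Nat.prime_dvd_prime_iff_eq hr Nat.prime_three).mp (hr.dvd_of_dvd_pow h1)]
  rcases (Nat.Prime.dvd_mul hr).mp h1 with h1 | h1
  · simp [(Nat.prime_dvd_prime_iff_eq hr (by norm_num)).mp h1]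
  rcases (Nat.Prime.dvd_mul hr).mp h1 with h1 | h1
  · simp [(Nat.prime_dvd_prime_iff_eq hr (by norm_num)).mp h1]
  · simp [(Nat.prime_dvd_prime_iff_eq hr (by norm_num)).mp h1]

theorem small_exp {r k : ℕ} (hr : 2 ≤ r) (h : r ^ k ∣ 50232960) (hk : r ∈ ({2, 3, 5, 17} : Finset ℕ)) :
    k < 8 := by
  by_contra hcon
  have h8 : r ^ 8 ∣ 50232960 := (pow_dvd_pow r (by omega)).trans h
  revert hk h8
  intro hk h8
  simp only [Finset.mem_insert, Finset.mem_singleton] at hk
  rcases hk with rfl | rfl | rfl | rfl <;> norm_num at h8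

/-- The criterion. -/
theorem isSimple_of_nineteen {Q : Type*} [Group Q] [Finite Q] (hQ : Nat.card Q = 50232960)
    {S : Set Q} (hS : ∀ x ∈ S, orderOf x = 19) (hgen : Subgroup.closure S = ⊤)
    (hZ : Subgroup.center Q = ⊥) : IsSimpleGroup Q := by
  have hp19 : Fact (Nat.Prime 19) := ⟨by norm_num⟩
  have : Nontrivial Q := Finite.one_lt_card_iff_nontrivial.mp (by rw [hQ]; norm_num)
  constructor
  intro N hN
  by_cases hd : 19 ∣ Nat.card N
  · refine Or.inr (top_le_iff.mp ?_)
    rw [← hgen, Subgroup.closure_le]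
    intro x hx
    obtain ⟨n, hn⟩ := exists_prime_orderOf_dvd_card' 19 hd
    have hsyl : ∀ y : Q, orderOf y = 19 → ∃ P : Sylow 19 Q, (P : Subgroup Q) = Subgroup.zpowers y := by
      intro y hy
      have h1 : IsPGroup 19 (Subgroup.zpowers y) :=
        IsPGroup.of_card (n := 1) (by rw [Nat.card_zpowers, hy, pow_one])
      obtain ⟨P, hP⟩ := h1.exists_le_sylow
      refine ⟨P, (Subgroup.eq_of_le_of_card_ge hP ?_).symm⟩
      rw [Nat.card_zpowers, hy, P.card_eq_multiplicity, hQ]
      calc 19 ^ (50232960 : ℕ).factorization 19 ≤ 19 ^ 1 := by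
            refine Nat.pow_le_pow_right (by norm_num) ?_
            by_contra h
            have h2 : 19 ^ 2 ∣ 50232960 :=
              (pow_dvd_pow 19 (by omega)).trans (Nat.ordProj_dvd 50232960 19)
            norm_num at h2
        _ = 19 := pow_one _
    obtain ⟨P, hP⟩ := hsyl x (hS x hx)
    obtain ⟨R, hR⟩ := hsyl n.1 (by rw [Subgroup.orderOf_coe, hn])
    obtain ⟨g, hg⟩ := MulAction.exists_smul_eq Q R P
    have hx' : x ∈ ((g • R : Sylow 19 Q) : Subgroup Q) := by
      rw [hg, hP]; exact Subgroup.mem_zpowers x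
    rw [Sylow.coe_subgroup_smul, hR] at hx'
    obtain ⟨y, hy, rfl⟩ := hx'
    exact hN.conj_mem y (Subgroup.zpowers_le.mpr n.2 hy) g
  · refine Or.inl ?_
    have hcent : ∀ x ∈ S, N ≤ Subgroup.centralizer {x} := by
      intro x hx
      have hle : ∀ r : ℕ, r.Prime → ∀ k, r ^ k ∣ Nat.card N →
          r ^ k ∣ Nat.card (N ⊓ Subgroup.centralizer {x} : Subgroup Q) := by
        intro r hr k hk
        rcases Nat.eq_zero_or_pos k with rfl | hkpos
        · simp
        have := Fact.mk hr
        obtain ⟨P₀⟩ : Nonempty (Sylow r N) := inferInstance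
        have hx19 : orderOf (x : Q) = 19 := hS x hx
        have hpz : IsPGroup 19 (Subgroup.zpowers x) :=
          IsPGroup.of_card (n := 1) (by rw [Nat.card_zpowers, hx19, pow_one])
        letI : MulAction (Subgroup.zpowers x) (Sylow r N) :=
          MulAction.compHom (Sylow r N)
            ((MulAut.conjNormal (H := N)).comp (Subgroup.zpowers x).subtype)
        have hne : (MulAction.fixedPoints (Subgroup.zpowers x) (Sylow r N)).Nonempty := by
          refine hpz.nonempty_fixed_point_of_prime_not_dvd_card _ fun h => hd (h.trans ?_)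
          exact P₀.card_dvd_index.trans (Subgroup.index_dvd_card _)
        obtain ⟨P, hP⟩ := hne
        let R : Subgroup Q := (P : Subgroup N).map N.subtype
        have hRN : R ≤ N := Subgroup.map_subtype_le _
        have hnorm : ∀ y ∈ R, x * y * x⁻¹ ∈ R := by
          rintro _ ⟨y, hy, rfl⟩
          refine ⟨MulAut.conjNormal (H := N) x y, ?_, MulAut.conjNormal_apply x y⟩
          have h2 : MulAut.conjNormal (H := N) x • (P : Sylow r N) = P := by
            have h3 := hP ⟨x, Subgroup.mem_zpowers x⟩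
            exact h3
          rw [← h2, Sylow.pointwise_smul_def]
          exact Subgroup.smul_mem_pointwise_smul _ (MulAut.conjNormal (H := N) x) _ hy
        have hRcard : Nat.card R = r ^ (Nat.card N).factorization r := by
          rw [Subgroup.card_map_of_injective N.subtype_injective, P.card_eq_multiplicity]
        have hdQ : r ^ (Nat.card N).factorization r ∣ 50232960 := hQ ▸
          (Nat.ordProj_dvd _ _).trans (Subgroup.card_subgroup_dvd_card N)
        have hmem : r ∈ ({2, 3, 5, 17} : Finset ℕ) := by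
          have h5 := prime_dvd_order hr (((dvd_pow_self r hkpos.ne').trans hk).trans
            (hQ ▸ Subgroup.card_subgroup_dvd_card N))
          have hne19 : r ≠ 19 := by
            rintro rfl
            exact hd ((dvd_pow_self 19 hkpos.ne').trans hk)
          simp only [Finset.mem_insert, Finset.mem_singleton] at h5 ⊢
          omega
        have hc := le_centralizer_of_normalizes hx19 hRcard hnorm fun j hj e =>
          small_orders r hmem _ (small_exp hr.two_le hdQ hmem) j hj hdQ e
        have hRle : R ≤ N ⊓ Subgroup.centralizer {x} :=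
          le_inf hRN fun y hy => Subgroup.mem_centralizer_singleton_iff.mpr (hc y hy).symm
        refine ((pow_dvd_pow r ?_).trans hRcard.symm.dvd).trans (Subgroup.card_dvd_of_le hRle)
        exact (hr.pow_dvd_iff_le_factorization Nat.card_pos.ne').mp hk

      have hdvd : Nat.card N ∣ Nat.card (N ⊓ Subgroup.centralizer {x} : Subgroup Q) := by
        rw [Nat.dvd_iff_prime_pow_dvd_dvd]
        intro p k hp hpk
        exact hle p hp k hpk
      exact inf_eq_left.mp (Subgroup.eq_of_le_of_card_ge inf_le_left (Nat.le_of_dvd Nat.card_pos hdvd))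
    rw [eq_bot_iff, ← hZ]
    intro n hn
    rw [Subgroup.mem_center_iff]
    intro g
    have hg : g ∈ Subgroup.centralizer ({n} : Set Q) := by
      refine (Subgroup.closure_le _).mpr ?_ (hgen ▸ Subgroup.mem_top g)
      intro x hx
      exact Subgroup.mem_centralizer_singleton_iff.mpr
        (Subgroup.mem_centralizer_singleton_iff.mp (hcent x hx hn)).symm
    exact Subgroup.mem_centralizer_singleton_iff.mp hg

section

variable {F : Type*} [Field F] {ω : F}

/-- Row `k` of the data of elements of order nineteen. -/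
def nineAt (k : ℕ) : ℕ × ℕ × ℕ := nineteenData.getD k (0, 0, 0)

/-- A power of a code. -/
noncomputable def powM (A n : ℕ) : ℕ :=
  Nat.rec (motive := fun _ => ℕ) idM (fun _ r => mmul A r) n

theorem nine_checks : (allB 4 (fun k =>
    (Nat.beq (powM (nineAt k).1 19) idM || Nat.beq (powM (nineAt k).1 19) scalM ||
      Nat.beq (powM (nineAt k).1 19) (wvM scalM)) &&
    !(Nat.beq (nineAt k).1 idM || Nat.beq (nineAt k).1 scalM || Nat.beq (nineAt k).1 (wvM scalM)) &&
    Nat.blt (nineAt k).1 (2 ^ 162)) &&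
    Nat.beq (mmul (nineAt 0).1 (nineAt 1).1) C0.g0 && Nat.beq (mmul (nineAt 2).1 (nineAt 3).1) C0.g1 &&
    Nat.blt idM (2 ^ 162) && Nat.blt scalM (2 ^ 162) && Nat.blt (wvM scalM) (2 ^ 162)) = true := by
  decide +kernel

theorem den_wvM (hr : Root F ω) (A : ℕ) : den ω (wvM A) = ω • den ω A := by
  ext w z
  simp only [den, Matrix.of_apply, Matrix.smul_apply, smul_eq_mul, col_wvM _ (fi_lt z),
    hr.ent_wv (col_lt _ _) (fi_lt w)]

theorem scalar_cases (hr : Root F ω) {n : ℕ} (hn : n = idM ∨ n = scalM ∨ n = wvM scalM) :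
    ∃ c : F, den ω n = c • (1 : Matrix F9 F9 F) := by
  rcases hn with rfl | rfl | rfl
  · exact ⟨1, by rw [Root.den_idM, one_smul]⟩
  · exact ⟨ω, by rw [scalM, den_wvM hr, Root.den_idM]⟩
  · exact ⟨ω * ω, by rw [den_wvM hr, scalM, den_wvM hr, Root.den_idM, smul_smul]⟩

variable [Fintype F]

theorem scalar_mem_center {g : Spor.threeJ3 F ω} {c : F}
    (h : ((g : GL F9 F) : Matrix F9 F9 F) = c • (1 : Matrix F9 F9 F)) :
    g ∈ Subgroup.center (Spor.threeJ3 F ω) := by
  rw [Subgroup.mem_center_iff]
  intro x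
  apply Subtype.ext
  apply Units.ext
  simp [h]

theorem center_scalar (hr : Root F ω) {g : Spor.threeJ3 F ω}
    (hg : g ∈ Subgroup.center (Spor.threeJ3 F ω)) :
    ((g : GL F9 F) : Matrix F9 F9 F) =
      ((g : GL F9 F) : Matrix F9 F9 F) 0 0 • (1 : Matrix F9 F9 F) :=
  scalar_of_commute hr (fun h hh => by
    have := congrArg (fun x : Spor.threeJ3 F ω => ((x : GL F9 F) : Matrix F9 F9 F))
      (Subgroup.mem_center_iff.mp hg ⟨h, hh⟩)
    simpa using this)

/-- The four elements of order nineteen modulo the centre. -/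
theorem exists_nineteen (hr : Root F ω) : ∃ p : Fin 4 → Spor.threeJ3 F ω,
    (∀ k, p k ^ 19 ∈ Subgroup.center (Spor.threeJ3 F ω) ∧
      p k ∉ Subgroup.center (Spor.threeJ3 F ω)) ∧ Subgroup.closure (Set.range p) = ⊤ := by
  have h := nine_checks
  simp only [Bool.and_eq_true, Bool.or_eq_true, Bool.not_eq_true', Nat.blt_eq, Nat.beq_eq] at h
  obtain ⟨⟨⟨⟨⟨hk, e0⟩, e1⟩, l0⟩, l1⟩, l2⟩ := h
  have hrow : ∀ k : Fin 4, nineAt k ∈ genData ++ subData ++ nineteenData := fun k => by
    have hl : k.1 < nineteenData.length := by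
      have : nineteenData.length = 4 := rfl
      omega
    rw [nineAt, List.getD_eq_getElem _ _ hl]
    exact List.mem_append_right _ (List.getElem_mem hl)
  choose p hp ep using fun k : Fin 4 => mem_threeJ3 hr (hrow k)
  have hpow : ∀ (k : Fin 4) (n : ℕ),
      ((p k : GL F9 F) : Matrix F9 F9 F) ^ n = den ω (powM (nineAt k).1 n) := by
    intro k n
    induction n with
    | zero => rw [pow_zero]; exact Root.den_idM.symm
    | succ n ih =>
      rw [pow_succ', ih, ep]
      exact (hr.den_mmul _ _).symm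
  refine ⟨fun k => ⟨p k, hp k⟩, fun k => ?_, ?_⟩
  · have h' := allB_spec hk k k.2
    simp only [Bool.and_eq_true, Bool.or_eq_true, Bool.not_eq_true', Nat.beq_eq, Nat.blt_eq] at h'
    obtain ⟨⟨hsc, hnot⟩, hlt⟩ := h'
    constructor
    · obtain ⟨c, hc⟩ := scalar_cases hr (or_assoc.mp hsc)
      refine scalar_mem_center (c := c) ?_
      rw [SubmonoidClass.coe_pow, Units.val_pow_eq_pow_val, hpow, hc]
    · intro hcen
      have hs := center_scalar hr hcen
      simp only [ep] at hs
      have hne : ∀ n, n < 2 ^ 162 → den ω (nineAt k).1 = den ω n → (nineAt k).1 = n :=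
        fun n hn e => hr.den_inj hlt hn e
      simp only [Bool.or_eq_false_iff] at hnot
      rcases hr.all (den ω (nineAt k).1 0 0) with e | e | e | e <;> rw [e] at hs
      · have hu := congrArg (fun A : Matrix F9 F9 F => A 0 0) (Units.mul_inv (p k))
        simp [ep, hs] at hu
      · have := hne idM l0 (by rw [hs, one_smul, Root.den_idM])
        simp [this] at hnot
      · have := hne scalM l1 (by rw [hs, scalM, den_wvM hr, Root.den_idM])
        simp [this] at hnot
      · have := hne (wvM scalM) l2 (by rw [hs, den_wvM hr, scalM, den_wvM hr, Root.den_idM,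
          smul_smul, pow_two])
        simp [this] at hnot
  · rw [eq_top_iff]
    have hle : Spor.threeJ3 F ω ≤ (Subgroup.closure (Set.range fun k => (⟨p k, hp k⟩ :
        Spor.threeJ3 F ω))).map (Spor.threeJ3 F ω).subtype := by
      conv_lhs => rw [threeJ3_eq hr]
      rw [Subgroup.closure_le]
      have hm : ∀ k : Fin 4, p k ∈ (Subgroup.closure (Set.range fun k => (⟨p k, hp k⟩ :
          Spor.threeJ3 F ω))).map (Spor.threeJ3 F ω).subtype := fun k =>
        ⟨⟨p k, hp k⟩, Subgroup.subset_closure ⟨k, rfl⟩, rfl⟩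
      rintro g (rfl | rfl)
      · rw [show aX hr = p 0 * p 1 from Units.ext (by
          rw [Units.val_mul, ep, ep, ← hr.den_mmul]
          change den ω C0.g0 = den ω (mmul (nineAt 0).1 (nineAt 1).1)
          rw [e0])]
        exact mul_mem (hm 0) (hm 1)
      · rw [show aY hr = p 2 * p 3 from Units.ext (by
          rw [Units.val_mul, ep, ep, ← hr.den_mmul]
          change den ω C0.g1 = den ω (mmul (nineAt 2).1 (nineAt 3).1)
          rw [e1])]
        exact mul_mem (hm 2) (hm 3)
    intro g _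
    obtain ⟨y, hy, e⟩ := hle g.2
    exact (Subtype.ext e : y = g) ▸ hy

theorem isSimple_J3 (hr : Root F ω) : IsSimpleGroup (Spor.J3 F ω) := by
  obtain ⟨p, hp, hgen⟩ := exists_nineteen hr
  let π := QuotientGroup.mk' (Subgroup.center (Spor.threeJ3 F ω))
  have hord : ∀ k, orderOf (π (p k)) = 19 := fun k => by
    have := Fact.mk (show Nat.Prime 19 by norm_num)
    refine orderOf_eq_prime ?_ fun e => (hp k).2 ((QuotientGroup.eq_one_iff _).mp e)
    rw [← map_pow]
    exact (QuotientGroup.eq_one_iff _).mpr (hp k).1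
  have hgen' : Subgroup.closure (Set.range fun k => π (p k)) = ⊤ := by
    rw [show (Set.range fun k => π (p k)) = π '' Set.range p from Set.range_comp π p,
      ← MonoidHom.map_closure, hgen]
    exact Subgroup.map_top_of_surjective π (QuotientGroup.mk'_surjective _)
  have hZ : Subgroup.center (Spor.J3 F ω) = ⊥ := by
    rw [eq_bot_iff]
    intro z hz
    obtain ⟨Z, rfl⟩ := QuotientGroup.mk'_surjective (Subgroup.center (Spor.threeJ3 F ω)) z
    rw [Subgroup.mem_bot]
    refine (QuotientGroup.eq_one_iff _).mpr ?_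
    have hcomm : ∀ k, Z * p k = p k * Z := by
      intro k
      have hc : Z * p k * Z⁻¹ * (p k)⁻¹ ∈ Subgroup.center (Spor.threeJ3 F ω) := by
        refine (QuotientGroup.eq_one_iff _).mp ?_
        change π (Z * p k * Z⁻¹ * (p k)⁻¹) = 1
        rw [map_mul, map_mul, map_mul, map_inv, map_inv,
          ← Subgroup.mem_center_iff.mp hz (π (p k)), mul_inv_cancel_right, mul_inv_cancel]
      obtain ⟨c, hcd⟩ : ∃ c, c = Z * p k * Z⁻¹ * (p k)⁻¹ := ⟨_, rfl⟩
      rw [← hcd] at hc
      have h3 : c ^ 3 = 1 := by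
        have h := pow_card_eq_one' (x := (⟨c, hc⟩ : Subgroup.center (Spor.threeJ3 F ω)))
        rw [card_center hr] at h
        exact congrArg Subtype.val h
      have h19 : c ^ 19 = 1 := by
        have e : Z * p k * Z⁻¹ = c * p k := by rw [hcd]; group
        have e2 := congrArg (· ^ 19) e
        simp only [conj_pow] at e2
        rw [Commute.mul_pow ((Subgroup.mem_center_iff.mp hc (p k)).symm : Commute c (p k)) 19]
          at e2
        rw [Subgroup.mem_center_iff.mp (hp k).1 Z, mul_inv_cancel_right] at e2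
        exact mul_eq_right.mp e2.symm
      have h1 : c = 1 := by
        rw [← pow_one c, show c ^ 1 = c ^ 19 * ((c ^ 3) ^ 6)⁻¹ by
          rw [← pow_mul, eq_mul_inv_iff_mul_eq, ← pow_add], h19, h3, one_pow, inv_one, mul_one]
      rw [hcd] at h1
      exact mul_inv_eq_iff_eq_mul.mp (mul_inv_eq_one.mp h1)
    rw [Subgroup.mem_center_iff]
    intro g
    have hg : g ∈ Subgroup.centralizer ({Z} : Set (Spor.threeJ3 F ω)) := by
      refine (Subgroup.closure_le _).mpr ?_ (hgen ▸ Subgroup.mem_top g)
      rintro _ ⟨k, rfl⟩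
      exact Subgroup.mem_centralizer_singleton_iff.mpr (hcomm k).symm
    exact Subgroup.mem_centralizer_singleton_iff.mp hg
  refine isSimple_of_nineteen (card_J3 hr) (S := Set.range fun k => π (p k)) ?_ hgen' hZ
  rintro _ ⟨k, rfl⟩
  exact hord k

end

end Cfsg.Agent.JankoThree
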