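import Cfsg.Prelude.Def_Spor_J3

/-!
`9 × 9` matrices over a field with four elements, packed in natural numbers (nine columns, two bit
planes of nine bits each), with a product that the kernel evaluates quickly.
-/

set_option autoImplicit false

namespace Cfsg.Agent.JankoThree

open Cfsg.Spor (F9)
open Matrix

/-- The index of a point. -/
def fi (z : F9) : ℕ := 3 * z.1.val + z.2.val

/-- Column `k`. -/
def col (A k : ℕ) : ℕ := A / 2 ^ (18 * k) % 262144

/-- Multiply a column by the cube root of unity. -/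
def wv (x : ℕ) : ℕ := x / 512 + 512 * ((x % 512) ^^^ (x / 512))

/-- `x` if the bit `j` of `v` is set. -/
def sel (v j x : ℕ) : ℕ := cond (Nat.beq (v &&& 2 ^ j) 0) 0 x

/-- A matrix (given by columns) applied to a column. -/
def app9 (a0 a1 a2 a3 a4 a5 a6 a7 a8 v : ℕ) : ℕ :=
  sel v 0 a0 ^^^ sel v 1 a1 ^^^ sel v 2 a2 ^^^ sel v 3 a3 ^^^ sel v 4 a4 ^^^ sel v 5 a5 ^^^
    sel v 6 a6 ^^^ sel v 7 a7 ^^^ sel v 8 a8 ^^^
  sel v 9 (wv a0) ^^^ sel v 10 (wv a1) ^^^ sel v 11 (wv a2) ^^^ sel v 12 (wv a3) ^^^
    sel v 13 (wv a4) ^^^ sel v 14 (wv a5) ^^^ sel v 15 (wv a6) ^^^ sel v 16 (wv a7) ^^^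
    sel v 17 (wv a8)

/-- A matrix applied to a column. -/
def app (A v : ℕ) : ℕ :=
  app9 (col A 0) (col A 1) (col A 2) (col A 3) (col A 4) (col A 5) (col A 6) (col A 7) (col A 8) v

/-- Pack nine columns. -/
def pack (c0 c1 c2 c3 c4 c5 c6 c7 c8 : ℕ) : ℕ :=
  c0 + 262144 * (c1 + 262144 * (c2 + 262144 * (c3 + 262144 * (c4 + 262144 * (c5 + 262144 *
    (c6 + 262144 * (c7 + 262144 * c8)))))))

/-- One bit in each column. -/
def onesM : ℕ := 22300830269446873167754772512960987242168321

/-- The first plane in each column. -/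
def lowM : ℕ := 11395724267687352188722688754123064480748012031

/-- `wv` on all columns at once. -/
def wvM (A : ℕ) : ℕ := (A / 512 &&& lowM) + 512 * ((A ^^^ A / 512) &&& lowM)

/-- The columns having bit `j` set, times `x`. -/
def part (B j x : ℕ) : ℕ := (B / 2 ^ j &&& onesM) * x

/-- The product, all columns of the result at once. -/
def mmul' (A W B : ℕ) : ℕ :=
  part B 0 (col A 0) ^^^ part B 1 (col A 1) ^^^ part B 2 (col A 2) ^^^
  part B 3 (col A 3) ^^^ part B 4 (col A 4) ^^^ part B 5 (col A 5) ^^^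
  part B 6 (col A 6) ^^^ part B 7 (col A 7) ^^^ part B 8 (col A 8) ^^^
  part B 9 (col W 0) ^^^ part B 10 (col W 1) ^^^ part B 11 (col W 2) ^^^
  part B 12 (col W 3) ^^^ part B 13 (col W 4) ^^^ part B 14 (col W 5) ^^^
  part B 15 (col W 6) ^^^ part B 16 (col W 7) ^^^ part B 17 (col W 8)

/-- The product. -/
def mmul (A B : ℕ) : ℕ := mmul' A (wvM A) B

/-- The identity. -/
def idM : ℕ := pack 1 2 4 8 16 32 64 128 256

/-- The three multiples of a column: the smallest one. -/
def canon (v : ℕ) : ℕ := min v (min (wv v) (wv (wv v)))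

variable {F : Type*} [Field F]

/-- The denoted entry. -/
def ent (ω : F) (n i : ℕ) : F :=
  (if n.testBit i then 1 else 0) + (if n.testBit (i + 9) then ω else 0)

/-- The denoted column. -/
def dvec (ω : F) (n : ℕ) : F9 → F := fun w => ent ω n (fi w)

/-- The denoted matrix. -/
def den (ω : F) (A : ℕ) : Matrix F9 F9 F := Matrix.of fun w z => ent ω (col A (fi z)) (fi w)

theorem fi_lt (z : F9) : fi z < 9 := by
  have := ZMod.val_lt z.1
  have := ZMod.val_lt z.2
  unfold fi; omega

theorem fi_inj : ∀ y z : F9, fi y = fi z → y = z := by decide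

theorem fi_surj : ∀ i < 9, ∃ z : F9, fi z = i := by decide

theorem col_lt (A k : ℕ) : col A k < 262144 := Nat.mod_lt _ (by norm_num)

theorem wv_lt {x : ℕ} (hx : x < 262144) : wv x < 262144 := by
  have h : (x % 512) ^^^ (x / 512) < 2 ^ 9 :=
    Nat.xor_lt_two_pow (by omega) (by omega)
  unfold wv; omega

theorem sel_eq (v j x : ℕ) : sel v j x = if v.testBit j then x else 0 := by
  unfold sel
  rw [Nat.and_two_pow]
  have hp : 2 ^ j ≠ 0 := Nat.pos_iff_ne_zero.mp (Nat.two_pow_pos j)
  cases h : v.testBit j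
  · simp
  · have : Nat.beq (true.toNat * 2 ^ j) 0 = false := by
      rw [Bool.toNat_true, one_mul]
      exact Bool.eq_false_iff.mpr fun e => hp (Nat.eq_of_beq_eq_true e)
    rw [this]; rfl

theorem sel_lt {v j x : ℕ} (hx : x < 262144) : sel v j x < 262144 := by
  rw [sel_eq]; split_ifs <;> omega

theorem app_lt (A v : ℕ) : app A v < 262144 := by
  have h : ∀ {a b : ℕ}, a < 2 ^ 18 → b < 2 ^ 18 → a ^^^ b < 2 ^ 18 := fun ha hb =>
    Nat.xor_lt_two_pow ha hb
  unfold app app9
  repeat' apply h
  all_goals first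
    | exact sel_lt (col_lt _ _)
    | exact sel_lt (wv_lt (col_lt _ _))

theorem col_pack {c0 c1 c2 c3 c4 c5 c6 c7 c8 : ℕ} (h0 : c0 < 262144) (h1 : c1 < 262144)
    (h2 : c2 < 262144) (h3 : c3 < 262144) (h4 : c4 < 262144) (h5 : c5 < 262144) (h6 : c6 < 262144)
    (h7 : c7 < 262144) (h8 : c8 < 262144) :
    let A := pack c0 c1 c2 c3 c4 c5 c6 c7 c8
    col A 0 = c0 ∧ col A 1 = c1 ∧ col A 2 = c2 ∧ col A 3 = c3 ∧ col A 4 = c4 ∧ col A 5 = c5 ∧
      col A 6 = c6 ∧ col A 7 = c7 ∧ col A 8 = c8 := by
  have step : ∀ {a b k : ℕ}, a < 262144 → col (a + 262144 * b) (k + 1) = col b k := by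
    intro a b k ha
    unfold col
    rw [show 2 ^ (18 * (k + 1)) = 262144 * 2 ^ (18 * k) by
      rw [Nat.mul_succ, pow_add]; ring, ← Nat.div_div_eq_div_mul]
    congr 2
    omega
  have base : ∀ {a b : ℕ}, a < 262144 → col (a + 262144 * b) 0 = a := by
    intro a b ha
    simp only [col, Nat.mul_zero, pow_zero, Nat.div_one]
    omega
  simp only [pack]
  refine ⟨base h0, ?_, ?_, ?_, ?_, ?_, ?_, ?_, ?_⟩
  · rw [step h0, base h1]
  · rw [step h0, step h1, base h2]
  · rw [step h0, step h1, step h2, base h3]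
  · rw [step h0, step h1, step h2, step h3, base h4]
  · rw [step h0, step h1, step h2, step h3, step h4, base h5]
  · rw [step h0, step h1, step h2, step h3, step h4, step h5, base h6]
  · rw [step h0, step h1, step h2, step h3, step h4, step h5, step h6, base h7]
  · rw [step h0, step h1, step h2, step h3, step h4, step h5, step h6, step h7]
    simp only [col, Nat.mul_zero, pow_zero, Nat.div_one]
    omega

theorem testBit_col (A k : ℕ) {i : ℕ} (hi : i < 18) :
    (col A k).testBit i = A.testBit (i + 18 * k) := by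
  unfold col
  rw [show (262144 : ℕ) = 2 ^ 18 by norm_num, Nat.testBit_mod_two_pow, Nat.testBit_div_two_pow]
  simp [hi]

theorem eq_of_testBit {x y : ℕ} (hx : x < 262144) (hy : y < 262144)
    (h : ∀ i < 18, x.testBit i = y.testBit i) : x = y := by
  apply Nat.eq_of_testBit_eq
  intro i
  by_cases hi : i < 18
  · exact h i hi
  · have hp : (262144 : ℕ) ≤ 2 ^ i := by
      rw [show (262144 : ℕ) = 2 ^ 18 by norm_num]
      exact Nat.pow_le_pow_right (by norm_num) (by omega)
    rw [Nat.testBit_lt_two_pow (hx.trans_le hp), Nat.testBit_lt_two_pow (hy.trans_le hp)]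

theorem col_xor (x y k : ℕ) : col (x ^^^ y) k = col x k ^^^ col y k := by
  refine eq_of_testBit (col_lt _ _) (Nat.xor_lt_two_pow (n := 18) (col_lt _ _) (col_lt _ _)) ?_
  intro i hi
  simp only [Nat.testBit_xor, testBit_col _ _ hi]

theorem col_and (x y k : ℕ) : col (x &&& y) k = col x k &&& col y k := by
  refine eq_of_testBit (col_lt _ _) (Nat.and_le_left.trans_lt (col_lt _ _)) ?_
  intro i hi
  simp only [Nat.testBit_and, testBit_col _ _ hi]

theorem eq_pack {A : ℕ} (hA : A < 2 ^ 162) :
    A = pack (col A 0) (col A 1) (col A 2) (col A 3) (col A 4) (col A 5) (col A 6) (col A 7)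
      (col A 8) := by
  simp only [col, pack]
  norm_num at *
  omega

theorem masks_lt : onesM < 2 ^ 162 ∧ lowM < 2 ^ 162 := by
  unfold onesM lowM; norm_num

theorem col_masks : ∀ k < 9, col onesM k = 1 ∧ col lowM k = 511 := by decide +kernel

/-- One bit as a number. -/
def bit (v j : ℕ) : ℕ := (v.testBit j).toNat

theorem col_bit (B : ℕ) {j k : ℕ} (hj : j < 18) (hk : k < 9) :
    col (B / 2 ^ j &&& onesM) k = bit (col B k) j := by
  rw [col_and, (col_masks k hk).1, Nat.and_one_is_mod, bit, testBit_col _ _ hj]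
  unfold col
  rw [Nat.div_div_eq_div_mul, ← pow_add, Nat.mod_mod_of_dvd _ (by norm_num), Nat.toNat_testBit]

theorem col_part (B : ℕ) {j k x : ℕ} (hj : j < 18) (hk : k < 9) (hx : x < 262144) :
    col (part B j x) k = sel (col B k) j x := by
  have e := eq_pack (A := B / 2 ^ j &&& onesM) (Nat.and_le_right.trans_lt masks_lt.1)
  simp only [col_bit B hj (show 0 < 9 by norm_num), col_bit B hj (show 1 < 9 by norm_num),
    col_bit B hj (show 2 < 9 by norm_num), col_bit B hj (show 3 < 9 by norm_num),
    col_bit B hj (show 4 < 9 by norm_num), col_bit B hj (show 5 < 9 by norm_num),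
    col_bit B hj (show 6 < 9 by norm_num), col_bit B hj (show 7 < 9 by norm_num),
    col_bit B hj (show 8 < 9 by norm_num)] at e
  have e' : part B j x = pack (bit (col B 0) j * x) (bit (col B 1) j * x) (bit (col B 2) j * x) (bit (col B 3) j * x) (bit (col B 4) j * x) (bit (col B 5) j * x) (bit (col B 6) j * x) (bit (col B 7) j * x) (bit (col B 8) j * x) := by
    unfold part
    rw [e]
    unfold pack
    ring
  have hlt : ∀ v : ℕ, bit v j * x < 262144 := fun v => by
    unfold bit; cases v.testBit j <;> simp [hx]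
  have hsel : ∀ v : ℕ, bit v j * x = sel v j x := fun v => by
    rw [sel_eq]; unfold bit; cases v.testBit j <;> simp
  obtain ⟨e0, e1, e2, e3, e4, e5, e6, e7, e8⟩ := col_pack (hlt (col B 0)) (hlt (col B 1))
    (hlt (col B 2)) (hlt (col B 3)) (hlt (col B 4)) (hlt (col B 5)) (hlt (col B 6)) (hlt (col B 7))
    (hlt (col B 8))
  rw [e', ← hsel]
  interval_cases k <;> assumption

theorem col_wvM (A : ℕ) {k : ℕ} (hk : k < 9) : col (wvM A) k = wv (col A k) := by
  have hH : ∀ k < 9, col (A / 512 &&& lowM) k = col A k / 512 := by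
    intro k hk
    rw [col_and, (col_masks k hk).2]
    refine eq_of_testBit (Nat.and_le_left.trans_lt (col_lt _ _))
      ((Nat.div_le_self _ _).trans_lt (col_lt _ _)) ?_
    intro i hi
    rw [Nat.testBit_and, testBit_col _ _ hi, show (511 : ℕ) = 2 ^ 9 - 1 from rfl,
      Nat.testBit_two_pow_sub_one, show (512 : ℕ) = 2 ^ 9 from rfl, Nat.testBit_div_two_pow,
      Nat.testBit_div_two_pow]
    by_cases h9 : i < 9
    · rw [testBit_col _ _ (by omega)]
      simp [h9, Nat.add_right_comm i 9]
    · rw [Nat.testBit_lt_two_pow ((col_lt A k).trans_le (Nat.pow_le_pow_right (n := 2) (by norm_num)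
        (show 18 ≤ i + 9 by omega)))]
      simp [h9]
  have hL : ∀ k < 9, col ((A ^^^ A / 512) &&& lowM) k = (col A k % 512) ^^^ (col A k / 512) := by
    intro k hk
    have hb : (col A k % 512) ^^^ (col A k / 512) < 2 ^ 18 := by
      have := col_lt A k
      exact Nat.xor_lt_two_pow (by omega) (by omega)
    refine eq_of_testBit (col_lt _ _) hb ?_
    intro i hi
    rw [col_and, (col_masks k hk).2, col_xor, Nat.testBit_and, Nat.testBit_xor, Nat.testBit_xor,
      testBit_col _ _ hi, testBit_col _ _ hi, show (511 : ℕ) = 2 ^ 9 - 1 from rfl,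
      Nat.testBit_two_pow_sub_one, show (512 : ℕ) = 2 ^ 9 from rfl, Nat.testBit_div_two_pow,
      Nat.testBit_div_two_pow, Nat.testBit_mod_two_pow, testBit_col _ _ hi]
    by_cases h9 : i < 9
    · rw [testBit_col _ _ (by omega)]
      simp [h9, Nat.add_right_comm i 9]
    · rw [Nat.testBit_lt_two_pow ((col_lt A k).trans_le (Nat.pow_le_pow_right (n := 2) (by norm_num)
        (show 18 ≤ i + 9 by omega)))]
      simp [h9]
  have eH := eq_pack (A := A / 512 &&& lowM) (Nat.and_le_right.trans_lt masks_lt.2)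
  have eL := eq_pack (A := (A ^^^ A / 512) &&& lowM) (Nat.and_le_right.trans_lt masks_lt.2)
  simp only [hH, hL, Nat.reduceLT] at eH eL
  have e : wvM A = pack (wv (col A 0)) (wv (col A 1)) (wv (col A 2)) (wv (col A 3)) (wv (col A 4))
      (wv (col A 5)) (wv (col A 6)) (wv (col A 7)) (wv (col A 8)) := by
    unfold wvM
    rw [eH, eL]
    unfold pack wv
    ring
  obtain ⟨e0, e1, e2, e3, e4, e5, e6, e7, e8⟩ := col_pack (wv_lt (col_lt A 0)) (wv_lt (col_lt A 1))
    (wv_lt (col_lt A 2)) (wv_lt (col_lt A 3)) (wv_lt (col_lt A 4)) (wv_lt (col_lt A 5))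
    (wv_lt (col_lt A 6)) (wv_lt (col_lt A 7)) (wv_lt (col_lt A 8))
  rw [e]
  interval_cases k <;> assumption

theorem col_mmul (A B : ℕ) {k : ℕ} (hk : k < 9) : col (mmul A B) k = app A (col B k) := by
  simp only [mmul, mmul', col_xor, app, app9, col_wvM, col_part, col_lt, hk, wv_lt, Nat.reduceLT]

/-- The assumptions on the root. -/
structure Root (F : Type*) [Field F] (ω : F) : Prop where
  char : (2 : F) = 0
  sq : ω ^ 2 + ω + 1 = 0
  all : ∀ a : F, a = 0 ∨ a = 1 ∨ a = ω ∨ a = ω ^ 2

namespace Root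

theorem of_card [Fintype F] {ω : F} (hF : Fintype.card F = 4) (hω : ω ^ 2 + ω + 1 = 0) :
    Root F ω := by
  classical
  have h4 : (4 : F) = 0 := by
    have h := FiniteField.cast_card_eq_zero F
    rw [hF] at h
    exact_mod_cast h
  have h2 : (2 : F) = 0 := by
    have : (2 : F) * 2 = 0 := by linear_combination h4
    exact mul_self_eq_zero.mp this
  refine ⟨h2, hω, ?_⟩
  have h0 : ω ≠ 0 := fun e => by simp [e] at hω
  have h1 : ω ≠ 1 := fun e => by
    rw [e] at hω
    exact one_ne_zero (α := F) (by linear_combination hω - h2)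
  have hs0 : ω ^ 2 ≠ 0 := pow_ne_zero 2 h0
  have hs1 : ω ^ 2 ≠ 1 := fun e => h0 (by linear_combination hω - e - h2)
  have hs2 : ω ^ 2 ≠ ω := fun e => h1 (by
    have : ω * (ω - 1) = 0 := by linear_combination e
    exact sub_eq_zero.mp ((mul_eq_zero.mp this).resolve_left h0))
  have hu : ({0, 1, ω, ω ^ 2} : Finset F) = Finset.univ := by
    apply Finset.eq_univ_of_card
    rw [hF]
    rw [Finset.card_insert_of_notMem, Finset.card_insert_of_notMem, Finset.card_insert_of_notMem,
      Finset.card_singleton]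
    · simpa using hs2.symm
    · simp [h1.symm, hs1.symm]
    · simp [h0.symm, hs0.symm]
  intro a
  have := hu ▸ Finset.mem_univ a
  simpa using this

variable {ω : F} (hr : Root F ω)
include hr

theorem add_self (a : F) : a + a = 0 := by linear_combination a * hr.char

theorem ne_zero : ω ≠ 0 := fun e => by
  have := hr.sq
  simp [e] at this

theorem ne_one : ω ≠ 1 := fun e => by
  have := hr.sq
  rw [e] at this
  exact one_ne_zero (α := F) (by linear_combination this - hr.char)

theorem cube : ω ^ 3 = 1 := by linear_combination (ω - 1) * hr.sq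

theorem ent_xor (a b i : ℕ) : ent ω (a ^^^ b) i = ent ω a i + ent ω b i := by
  unfold ent
  rw [Nat.testBit_xor, Nat.testBit_xor]
  cases a.testBit i <;> cases b.testBit i <;> cases a.testBit (i + 9) <;>
    cases b.testBit (i + 9) <;> simp
  all_goals first
    | linear_combination -hr.add_self (1 : F)
    | linear_combination -hr.add_self ω
    | linear_combination -hr.add_self (1 : F) - hr.add_self ω
    | ring

omit hr in
theorem ent_sel (v j x i : ℕ) :
    ent ω (sel v j x) i = (if v.testBit j then 1 else 0) * ent ω x i := by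
  rw [sel_eq]
  split_ifs <;> simp [ent]

theorem ent_wv {x i : ℕ} (hx : x < 262144) (hi : i < 9) : ent ω (wv x) i = ω * ent ω x i := by
  have hl : x / 512 < 2 ^ 9 := by omega
  have hw : wv x = 2 ^ 9 * ((x % 2 ^ 9) ^^^ (x / 512)) + x / 512 := by unfold wv; ring
  unfold ent
  rw [hw, Nat.testBit_two_pow_mul_add _ hl, Nat.testBit_two_pow_mul_add _ hl, if_pos hi,
    if_neg (show ¬ i + 9 < 9 by omega), show i + 9 - 9 = i by omega, Nat.testBit_xor,
    Nat.testBit_mod_two_pow, show x / 512 = x / 2 ^ 9 from rfl, Nat.testBit_div_two_pow]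
  simp only [hi, decide_true, Bool.true_and]
  cases x.testBit i <;> cases x.testBit (i + 9) <;> simp
  all_goals first
    | linear_combination hr.sq - hr.char
    | linear_combination -hr.sq + hr.char
    | linear_combination hr.sq - ω ^ 2 * hr.char

omit hr in
/-- A sum over the nine points. -/
theorem sum_fi (f : ℕ → F) :
    ∑ z : F9, f (fi z) = f 0 + f 1 + f 2 + f 3 + f 4 + f 5 + f 6 + f 7 + f 8 := by
  rw [Fintype.sum_prod_type]
  change ∑ a : Fin 3, ∑ b : Fin 3, f (3 * a.val + b.val) = _
  simp only [Fin.sum_univ_three]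
  norm_num
  ring

theorem dvec_app (A v : ℕ) : dvec ω (app A v) = den ω A *ᵥ dvec ω v := by
  funext w
  have hw := fi_lt w
  simp only [dvec, app, app9, hr.ent_xor, ent_sel, hr.ent_wv (col_lt _ _) hw, mulVec, dotProduct,
    den, Matrix.of_apply]
  rw [sum_fi (fun k => ent ω (col A k) (fi w) * ent ω v k)]
  simp only [ent]
  have key : ∀ (p q : Prop) [Decidable p] [Decidable q] (e : F),
      e * ((if p then 1 else 0) + if q then ω else 0) =
        (if p then 1 else 0) * e + (if q then 1 else 0) * (ω * e) := by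
    intro p q _ _ e
    split_ifs <;> ring
  simp only [key]
  ring

theorem den_mmul (A B : ℕ) : den ω (mmul A B) = den ω A * den ω B := by
  ext w z
  have h := congrFun (hr.dvec_app A (col B (fi z))) w
  simp only [dvec, den, Matrix.of_apply, col_mmul A B (fi_lt z), Matrix.mul_apply] at h ⊢
  exact h

omit hr in
theorem den_idM : den ω idM = 1 := by
  ext w z
  have hz : col idM (fi z) = 2 ^ fi z := by
    obtain ⟨e0, e1, e2, e3, e4, e5, e6, e7, e8⟩ := col_pack (c0 := 1) (c1 := 2) (c2 := 4) (c3 := 8)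
      (c4 := 16) (c5 := 32) (c6 := 64) (c7 := 128) (c8 := 256) (by norm_num) (by norm_num)
      (by norm_num) (by norm_num) (by norm_num) (by norm_num) (by norm_num) (by norm_num)
      (by norm_num)
    have := fi_lt z
    unfold idM
    interval_cases fi z <;> assumption
  have h1 := fi_lt w
  have h2 := fi_lt z
  simp only [den, Matrix.of_apply, hz, ent, Nat.testBit_two_pow, Matrix.one_apply]
  rw [if_neg (show ¬ decide (fi z = fi w + 9) = true by simp; omega), add_zero]
  by_cases h : w = z
  · simp [h]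
  · rw [if_neg h, if_neg]
    simp only [decide_eq_true_eq]
    exact fun e => h (fi_inj _ _ e).symm

theorem ent_inj {m n i : ℕ} (h : ent ω m i = ent ω n i) :
    m.testBit i = n.testBit i ∧ m.testBit (i + 9) = n.testBit (i + 9) := by
  have h0 := hr.ne_zero
  have h1 := hr.ne_one
  have hc := hr.sq
  have hw : (1 : F) + ω ≠ 0 := fun e => h0 (sq_eq_zero_iff.mp (by linear_combination hc - e))
  unfold ent at h
  cases hm : m.testBit i <;> cases hm' : m.testBit (i + 9) <;> cases hn : n.testBit i <;>
    cases hn' : n.testBit (i + 9) <;>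
    simp only [hm, hm', hn, hn', if_true, Bool.false_eq_true, if_false, add_zero, zero_add] at h <;>
    first | exact ⟨rfl, rfl⟩ | skip
  all_goals
    exfalso
    first
      | exact h1 (by linear_combination h)
      | exact h1 (by linear_combination -h)
      | exact hw (by linear_combination h)
      | exact hw (by linear_combination -h)
      | exact h0 (by linear_combination h)
      | exact h0 (by linear_combination -h)
      | exact one_ne_zero (α := F) (by linear_combination h)
      | exact one_ne_zero (α := F) (by linear_combination -h)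

theorem dvec_inj {m n : ℕ} (hm : m < 262144) (hn : n < 262144) (h : dvec ω m = dvec ω n) :
    m = n := by
  apply Nat.eq_of_testBit_eq
  intro k
  by_cases hk : k < 18
  · by_cases hk' : k < 9
    · obtain ⟨z, rfl⟩ := fi_surj k hk'
      exact (hr.ent_inj (congrFun h z)).1
    · obtain ⟨z, hz⟩ := fi_surj (k - 9) (by omega)
      have h' := (hr.ent_inj (congrFun h z)).2
      rwa [hz, Nat.sub_add_cancel (by omega)] at h'
  · have hp : (262144 : ℕ) ≤ 2 ^ k := by
      rw [show (262144 : ℕ) = 2 ^ 18 by norm_num]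
      exact Nat.pow_le_pow_right (by norm_num) (by omega)
    rw [Nat.testBit_lt_two_pow (hm.trans_le hp), Nat.testBit_lt_two_pow (hn.trans_le hp)]

theorem den_inj {A B : ℕ} (hA : A < 2 ^ 162) (hB : B < 2 ^ 162) (h : den ω A = den ω B) :
    A = B := by
  have hc : ∀ k < 9, col A k = col B k := by
    intro k hk
    obtain ⟨z, rfl⟩ := fi_surj k hk
    exact hr.dvec_inj (col_lt _ _) (col_lt _ _) (funext fun w => congrFun (congrFun h w) z)
  have := hc 0; have := hc 1; have := hc 2; have := hc 3; have := hc 4; have := hc 5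
  have := hc 6; have := hc 7; have := hc 8
  simp only [col] at *
  norm_num at *
  omega

theorem dvec_wv {x : ℕ} (hx : x < 262144) : dvec ω (wv x) = ω • dvec ω x :=
  funext fun w => by simp [dvec, hr.ent_wv hx (fi_lt w)]

theorem canon_spec {v : ℕ} (hv : v < 262144) :
    canon v < 262144 ∧ ∃ c : F, c ≠ 0 ∧ dvec ω (canon v) = c • dvec ω v := by
  have h1 := wv_lt hv
  refine ⟨(min_le_left _ _).trans_lt hv, ?_⟩
  unfold canon
  rcases min_choice v (min (wv v) (wv (wv v))) with e | e <;> rw [e]
  · exact ⟨1, one_ne_zero, (one_smul _ _).symm⟩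
  rcases min_choice (wv v) (wv (wv v)) with e | e <;> rw [e]
  · exact ⟨ω, hr.ne_zero, hr.dvec_wv hv⟩
  · exact ⟨ω ^ 2, pow_ne_zero 2 hr.ne_zero, by rw [hr.dvec_wv h1, hr.dvec_wv hv, smul_smul, pow_two]⟩

/-- Canonical columns agree exactly when the columns are proportional. -/
theorem canon_eq {u v : ℕ} (hu : u < 262144) (hv : v < 262144) {c : F} (hc : c ≠ 0)
    (h : dvec ω u = c • dvec ω v) : canon u = canon v := by
  have h1 := wv_lt hv
  have h2 := wv_lt h1
  have h3 : wv (wv (wv v)) = v := hr.dvec_inj (wv_lt h2) hv (by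
    rw [hr.dvec_wv h2, hr.dvec_wv h1, hr.dvec_wv hv, smul_smul, smul_smul,
      show ω * ω * ω = ω ^ 3 by ring, hr.cube, one_smul])
  rcases hr.all c with e | e | e | e <;> rw [e] at h hc
  · exact absurd rfl hc
  · rw [hr.dvec_inj hu hv (by rw [h, one_smul])]
  · rw [hr.dvec_inj hu h1 (by rw [h, hr.dvec_wv hv])]
    unfold canon
    rw [h3]
    simp [min_comm, min_left_comm]
  · rw [hr.dvec_inj hu h2 (by rw [h, hr.dvec_wv h1, hr.dvec_wv hv, smul_smul, pow_two])]
    unfold canon
    rw [h3]
    simp [min_comm]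

end Root

end Cfsg.Agent.JankoThree
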