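import Cfsg.Agent.JankoThree.Arith

/-!
A certificate for the order of a two-generated matrix group: an orbit on lines with movers, and
the table of the stabiliser of the base line.
-/

set_option autoImplicit false

namespace Cfsg.Agent.JankoThree

open Cfsg.Spor (F9)
open Matrix

/-- A binary tree of numbers, indexed from the least significant bit. -/
inductive NT where
  | leaf : ℕ → NT
  | node : NT → NT → NT

/-- Lookup. -/
noncomputable def NT.get (t : NT) (k : ℕ) : ℕ :=
  NT.rec (motive := fun _ => ℕ → ℕ) (fun n _ => n)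
    (fun _ _ fl fr k => cond (Nat.beq (k % 2) 0) (fl (k / 2)) (fr (k / 2))) t k

/-- `∀ j < n, f j` as a Bool. -/
noncomputable def allB (n : ℕ) (f : ℕ → Bool) : Bool :=
  Nat.rec (motive := fun _ => Bool) true (fun k r => f k && r) n

theorem allB_spec {n : ℕ} {f : ℕ → Bool} (h : allB n f = true) : ∀ j, j < n → f j = true := by
  induction n with
  | zero => intro j hj; omega
  | succ k ih =>
    rw [show allB (k + 1) f = (f k && allB k f) from rfl, Bool.and_eq_true] at h
    intro j hj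
    rcases Nat.lt_succ_iff_lt_or_eq.mp hj with h' | h'
    · exact ih h.2 j h'
    · exact h' ▸ h.1

/-- The certificate. -/
structure Cert where
  /-- first generator -/
  g0 : ℕ
  /-- second generator -/
  g1 : ℕ
  /-- word of the first stabiliser generator -/
  w0 : List ℕ
  /-- word of the second stabiliser generator -/
  w1 : List ℕ
  /-- first stabiliser generator -/
  h0 : ℕ
  /-- second stabiliser generator -/
  h1 : ℕ
  /-- base column -/
  v : ℕ
  /-- orbit length -/
  N : ℕ
  /-- stabiliser order -/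
  m : ℕ
  /-- movers -/
  M : NT
  /-- stabiliser elements -/
  H : NT
  /-- edges `8192 * i' + j` of the first generator -/
  E0 : NT
  /-- edges of the second generator -/
  E1 : NT
  /-- left products by the first stabiliser generator -/
  HE0 : NT
  /-- left products by the second stabiliser generator -/
  HE1 : NT
  /-- parents `2 * p + gen` -/
  P : NT
  /-- parents in the stabiliser -/
  HP : NT
  /-- canonical images -/
  K : NT
  /-- order of the images -/
  OM : NT
  /-- order of the stabiliser elements -/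
  OH : NT

namespace Cert

variable (c : Cert)

/-- A statement proved on consecutive blocks. -/
theorem forall_of_blocks {n b : ℕ} {f : ℕ → Bool} (hb : 0 < b)
    (h : ∀ a, a * b < n → allB b (fun i => cond (Nat.blt (a * b + i) n) (f (a * b + i)) true) = true) :
    ∀ i < n, f i = true := by
  intro i hi
  have e : i / b * b + i % b = i := by rw [Nat.mul_comm]; exact Nat.div_add_mod i b
  have h' := allB_spec (h (i / b) (by omega)) (i % b) (Nat.mod_lt _ hb)
  rw [e, (Nat.blt_eq ▸ hi : Nat.blt i n = true)] at h'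
  exact h'

/-- The value of a word in the generators. -/
noncomputable def word (w : List ℕ) : ℕ :=
  List.rec (motive := fun _ => ℕ) idM (fun a _ r => mmul (cond (Nat.beq a 0) c.g0 c.g1) r) w

/-- The check of an edge. -/
noncomputable def edgeB (g i e : ℕ) : Bool :=
  Nat.blt (e / 8192) c.N && Nat.blt (e % 8192) c.m &&
    cond (Nat.beq (e % 8192) 0) (Nat.beq (mmul g (c.M.get i)) (c.M.get (e / 8192)))
      (Nat.beq (mmul g (c.M.get i)) (mmul (c.M.get (e / 8192)) (c.H.get (e % 8192))))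

/-- The check at an orbit point. -/
noncomputable def pointB (i : ℕ) : Bool :=
  c.edgeB c.g0 i (c.E0.get i) && c.edgeB c.g1 i (c.E1.get i)

/-- The check at a stabiliser element. -/
noncomputable def stabB (j : ℕ) : Bool :=
  Nat.blt (c.HE0.get j) c.m && Nat.beq (mmul c.h0 (c.H.get j)) (c.H.get (c.HE0.get j)) &&
  Nat.blt (c.HE1.get j) c.m && Nat.beq (mmul c.h1 (c.H.get j)) (c.H.get (c.HE1.get j)) &&
  Nat.beq (canon (app (c.H.get j) c.v)) (canon c.v) && Nat.blt (c.H.get j) (2 ^ 162)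

/-- The parent of a point. -/
noncomputable def parB (i : ℕ) : Bool :=
  Nat.beq i 0 || (Nat.blt (c.P.get i / 2) i &&
    Nat.beq (cond (Nat.beq (c.P.get i % 2) 0) (c.E0.get (c.P.get i / 2)) (c.E1.get (c.P.get i / 2)))
      (8192 * i))

/-- The parent of a stabiliser element. -/
noncomputable def hparB (j : ℕ) : Bool :=
  Nat.beq j 0 || (Nat.blt (c.HP.get j / 2) j &&
    Nat.beq (cond (Nat.beq (c.HP.get j % 2) 0) (c.HE0.get (c.HP.get j / 2))
      (c.HE1.get (c.HP.get j / 2))) j)

/-- The key of a point. -/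
noncomputable def keyB (i : ℕ) : Bool :=
  Nat.beq (canon (app (c.M.get i) c.v)) (c.K.get i)

/-- The images are sorted. -/
noncomputable def sortB (i : ℕ) : Bool :=
  Nat.blt (c.OM.get i) c.N && (Nat.beq (i + 1) c.N ||
    Nat.blt (c.K.get (c.OM.get i)) (c.K.get (c.OM.get (i + 1))))

/-- The stabiliser is sorted. -/
noncomputable def hsortB (j : ℕ) : Bool :=
  Nat.blt (c.OH.get j) c.m && (Nat.beq (j + 1) c.m ||
    Nat.blt (c.H.get (c.OH.get j)) (c.H.get (c.OH.get (j + 1))))

/-- The base facts. -/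
noncomputable def baseB : Bool :=
  Nat.blt 0 c.N && Nat.blt 0 c.m && Nat.beq (c.M.get 0) idM && Nat.beq (c.H.get 0) idM &&
    Nat.blt c.v 262144 && !(Nat.beq c.v 0) && Nat.beq (c.word c.w0) c.h0 &&
    Nat.beq (c.word c.w1) c.h1

/-- A valid certificate. -/
structure Valid : Prop where
  base : c.baseB = true
  point : ∀ i < c.N, c.pointB i = true
  stab : ∀ j < c.m, c.stabB j = true
  par : ∀ i < c.N, c.parB i = true
  hpar : ∀ j < c.m, c.hparB j = true
  key : ∀ i < c.N, c.keyB i = true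
  sort : ∀ i < c.N, c.sortB i = true
  hsort : ∀ j < c.m, c.hsortB j = true

/-- A permutation sorting a function strictly proves injectivity. -/
theorem inj_of_sorted {n : ℕ} {o f : ℕ → ℕ} (hb : ∀ i < n, o i < n)
    (hs : ∀ i, i + 1 < n → f (o i) < f (o (i + 1))) :
    ∀ a < n, ∀ b < n, f a = f b → a = b := by
  have hmono : StrictMono (fun i : Fin n => f (o i)) := by
    intro i j hij
    have key : ∀ d, i.1 + d + 1 < n → f (o i) < f (o (i.1 + d + 1)) := by
      intro d
      induction d with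
      | zero => exact hs i.1
      | succ d ih => exact fun h => (ih (by omega)).trans (hs _ h)
    have := key (j.1 - i.1 - 1) (by omega)
    rwa [show i.1 + (j.1 - i.1 - 1) + 1 = j.1 by omega] at this
  have ho : Function.Injective (fun i : Fin n => (⟨o i, hb i i.2⟩ : Fin n)) := fun i j h =>
    hmono.injective (congrArg (fun k : Fin n => f k) h)
  have hsurj := Finite.injective_iff_surjective.mp ho
  intro a ha b hb' e
  obtain ⟨i, hi⟩ := hsurj ⟨a, ha⟩
  obtain ⟨j, hj⟩ := hsurj ⟨b, hb'⟩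
  have hi' := congrArg Fin.val hi
  have hj' := congrArg Fin.val hj
  simp only at hi' hj'
  rw [← hi', ← hj'] at e ⊢
  exact congrArg (fun k : Fin n => o k) (hmono.injective e)

variable {F : Type*} [Field F] {ω : F}

/-- The products of a mover and a stabiliser element. -/
def elts (ω : F) : Set (Matrix F9 F9 F) :=
  {A | ∃ i < c.N, ∃ j < c.m, A = den ω (c.M.get i) * den ω (c.H.get j)}

section
variable (hv : c.Valid) (hr : Root F ω)
include hv hr

theorem den_zero : den ω (c.M.get 0) = 1 ∧ den ω (c.H.get 0) = 1 := by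
  have h := hv.base
  simp only [baseB, Bool.and_eq_true, Nat.beq_eq] at h
  rw [h.1.1.1.1.1.2, h.1.1.1.1.2]
  exact ⟨Root.den_idM, Root.den_idM⟩

omit hv in
theorem word_den {a0 a1 : GL F9 F} (h0 : (a0 : Matrix F9 F9 F) = den ω c.g0)
    (h1 : (a1 : Matrix F9 F9 F) = den ω c.g1) (w : List ℕ) :
    ∃ g ∈ Subgroup.closure ({a0, a1} : Set (GL F9 F)),
      (g : Matrix F9 F9 F) = den ω (c.word w) := by
  induction w with
  | nil => exact ⟨1, one_mem _, by rw [Units.val_one, ← Root.den_idM (ω := ω)]; rfl⟩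
  | cons a w ih =>
    obtain ⟨g, hg, e⟩ := ih
    change ∃ g' ∈ _, _ = den ω (mmul (cond (Nat.beq a 0) c.g0 c.g1) (c.word w))
    cases Nat.beq a 0
    · exact ⟨a1 * g, mul_mem (Subgroup.subset_closure (by simp)) hg,
        by rw [cond_false, hr.den_mmul, Units.val_mul, h1, e]⟩
    · exact ⟨a0 * g, mul_mem (Subgroup.subset_closure (by simp)) hg,
        by rw [cond_true, hr.den_mmul, Units.val_mul, h0, e]⟩

theorem hH_step {j : ℕ} (hj : j < c.m) :
    (c.HE0.get j < c.m ∧
      den ω c.h0 * den ω (c.H.get j) = den ω (c.H.get (c.HE0.get j))) ∧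
    (c.HE1.get j < c.m ∧
      den ω c.h1 * den ω (c.H.get j) = den ω (c.H.get (c.HE1.get j))) := by
  have h := hv.stab j hj
  simp only [stabB, Bool.and_eq_true, Nat.beq_eq, Nat.blt_eq] at h
  exact ⟨⟨h.1.1.1.1.1, by rw [← hr.den_mmul, h.1.1.1.1.2]⟩,
    h.1.1.1.2, by rw [← hr.den_mmul, h.1.1.2]⟩

theorem hH_par {j : ℕ} (hj : j < c.m) (h0 : j ≠ 0) : ∃ p < j,
    den ω (c.H.get j) = den ω c.h0 * den ω (c.H.get p) ∨
    den ω (c.H.get j) = den ω c.h1 * den ω (c.H.get p) := by
  have h := hv.hpar j hj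
  simp only [hparB, Bool.or_eq_true, Bool.and_eq_true, Nat.beq_eq, Nat.blt_eq, h0, false_or] at h
  obtain ⟨hp, he⟩ := h
  refine ⟨_, hp, ?_⟩
  obtain ⟨s0, s1⟩ := c.hH_step hv hr (hp.trans hj)
  cases hb : Nat.beq (c.HP.get j % 2) 0 <;> simp only [hb, cond_true, cond_false] at he
  · exact Or.inr (by rw [s1.2, he])
  · exact Or.inl (by rw [s0.2, he])

theorem hH_mul : ∀ a, a < c.m → ∀ b, b < c.m →
    ∃ l < c.m, den ω (c.H.get a) * den ω (c.H.get b) = den ω (c.H.get l) := by
  intro a
  induction a using Nat.strong_induction_on with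
  | _ a ih =>
  intro ha b hb
  rcases eq_or_ne a 0 with rfl | h0
  · exact ⟨b, hb, by rw [(c.den_zero hv hr).2, one_mul]⟩
  obtain ⟨p, hp, he⟩ := c.hH_par hv hr ha h0
  obtain ⟨l, hl, e⟩ := ih p hp (hp.trans ha) b hb
  obtain ⟨s0, s1⟩ := c.hH_step hv hr hl
  rcases he with he | he
  · exact ⟨_, s0.1, by rw [he, mul_assoc, e, s0.2]⟩
  · exact ⟨_, s1.1, by rw [he, mul_assoc, e, s1.2]⟩

theorem edge {g i e : ℕ} (h : c.edgeB g i e = true) : e / 8192 < c.N ∧ e % 8192 < c.m ∧
    den ω g * den ω (c.M.get i) = den ω (c.M.get (e / 8192)) * den ω (c.H.get (e % 8192)) := by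
  simp only [edgeB, Bool.and_eq_true, Nat.blt_eq] at h
  refine ⟨h.1.1, h.1.2, ?_⟩
  cases hb : Nat.beq (e % 8192) 0 <;> simp only [hb, cond_true, cond_false, Nat.beq_eq] at h
  · rw [← hr.den_mmul, h.2, hr.den_mmul]
  · rw [Nat.eq_of_beq_eq_true hb, (c.den_zero hv hr).2, mul_one, ← hr.den_mmul, h.2]

theorem left_mul {g : ℕ} (hg : g = c.g0 ∨ g = c.g1) {A : Matrix F9 F9 F} (hA : A ∈ c.elts ω) :
    den ω g * A ∈ c.elts ω := by
  obtain ⟨i, hi, j, hj, rfl⟩ := hA
  have h := hv.point i hi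
  simp only [pointB, Bool.and_eq_true] at h
  have key : ∀ e, c.edgeB g i e = true →
      den ω g * (den ω (c.M.get i) * den ω (c.H.get j)) ∈ c.elts ω := by
    intro e he
    obtain ⟨h1, h2, he'⟩ := c.edge hv hr he
    obtain ⟨l, hl, el⟩ := c.hH_mul hv hr _ h2 j hj
    exact ⟨_, h1, l, hl, by rw [← mul_assoc, he', mul_assoc, el]⟩
  rcases hg with rfl | rfl
  · exact key _ h.1
  · exact key _ h.2

variable {a0 a1 : GL F9 F} (h0 : (a0 : Matrix F9 F9 F) = den ω c.g0)
  (h1 : (a1 : Matrix F9 F9 F) = den ω c.g1)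
include h0 h1

theorem exists_mover : ∀ i, i < c.N → ∃ g ∈ Subgroup.closure ({a0, a1} : Set (GL F9 F)),
    (g : Matrix F9 F9 F) = den ω (c.M.get i) := by
  intro i
  induction i using Nat.strong_induction_on with
  | _ i ih =>
  intro hi
  rcases eq_or_ne i 0 with rfl | hne
  · exact ⟨1, one_mem _, by rw [(c.den_zero hv hr).1, Units.val_one]⟩
  have h := hv.par i hi
  simp only [parB, Bool.or_eq_true, Bool.and_eq_true, Nat.beq_eq, Nat.blt_eq, hne, false_or] at h
  obtain ⟨hp, he⟩ := h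
  obtain ⟨g, hg, e⟩ := ih _ hp (hp.trans hi)
  have hpt := hv.point _ (hp.trans hi)
  simp only [pointB, Bool.and_eq_true] at hpt
  cases hb : Nat.beq (c.P.get i % 2) 0 <;> simp only [hb, cond_true, cond_false] at he
  · obtain ⟨-, -, e'⟩ := c.edge (ω := ω) hv hr hpt.2
    rw [he, Nat.mul_div_cancel_left _ (by norm_num), Nat.mul_mod_right, (c.den_zero hv hr).2,
      mul_one] at e'
    exact ⟨a1 * g, mul_mem (Subgroup.subset_closure (by simp)) hg,
      by rw [Units.val_mul, h1, e, e']⟩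
  · obtain ⟨-, -, e'⟩ := c.edge (ω := ω) hv hr hpt.1
    rw [he, Nat.mul_div_cancel_left _ (by norm_num), Nat.mul_mod_right, (c.den_zero hv hr).2,
      mul_one] at e'
    exact ⟨a0 * g, mul_mem (Subgroup.subset_closure (by simp)) hg,
      by rw [Units.val_mul, h0, e, e']⟩

theorem exists_stab : ∀ j, j < c.m → ∃ g ∈ Subgroup.closure ({a0, a1} : Set (GL F9 F)),
    (g : Matrix F9 F9 F) = den ω (c.H.get j) := by
  intro j
  induction j using Nat.strong_induction_on with
  | _ j ih =>
  intro hj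
  rcases eq_or_ne j 0 with rfl | hne
  · exact ⟨1, one_mem _, by rw [(c.den_zero hv hr).2, Units.val_one]⟩
  obtain ⟨p, hp, he⟩ := c.hH_par hv hr hj hne
  obtain ⟨g, hg, e⟩ := ih p hp (hp.trans hj)
  obtain ⟨u, hu, eu⟩ := c.word_den hr h0 h1 c.w0
  obtain ⟨u', hu', eu'⟩ := c.word_den hr h0 h1 c.w1
  have hb := hv.base
  simp only [baseB, Bool.and_eq_true, Nat.beq_eq] at hb
  rw [hb.1.2] at eu
  rw [hb.2] at eu'
  rcases he with he | he
  · exact ⟨u * g, mul_mem hu hg, by rw [Units.val_mul, eu, e, he]⟩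
  · exact ⟨u' * g, mul_mem hu' hg, by rw [Units.val_mul, eu', e, he]⟩

theorem mem_closure_iff [Finite F] (g : GL F9 F) :
    g ∈ Subgroup.closure ({a0, a1} : Set (GL F9 F)) ↔ (g : Matrix F9 F9 F) ∈ c.elts ω := by
  have hb := hv.base
  simp only [baseB, Bool.and_eq_true, Nat.blt_eq] at hb
  replace hb := hb.1.1
  constructor
  · intro hg
    suffices h : ∀ A ∈ c.elts ω, (g : Matrix F9 F9 F) * A ∈ c.elts ω by
      simpa using h 1 ⟨0, hb.1.1.1.1.1, 0, hb.1.1.1.1.2,
        by rw [(c.den_zero hv hr).1, (c.den_zero hv hr).2, one_mul]⟩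
    induction hg using Subgroup.closure_induction with
    | mem x hx =>
      intro A hA
      rcases hx with rfl | rfl
      · rw [h0]; exact c.left_mul hv hr (Or.inl rfl) hA
      · rw [h1]; exact c.left_mul hv hr (Or.inr rfl) hA
    | one => intro A hA; simpa using hA
    | mul x y _ _ hx hy => intro A hA; rw [Units.val_mul, mul_assoc]; exact hx _ (hy A hA)
    | inv x _ hx =>
      have hfin : ∀ n : ℕ, ∀ A ∈ c.elts ω, ((x ^ n : GL F9 F) : Matrix F9 F9 F) * A ∈ c.elts ω := by
        intro n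
        induction n with
        | zero => intro A hA; simpa using hA
        | succ n ih => intro A hA; rw [pow_succ', Units.val_mul, mul_assoc]; exact hx _ (ih A hA)
      rw [inv_eq_of_mul_eq_one_right (b := x ^ (orderOf x - 1)) (by
        rw [← pow_succ', Nat.sub_add_cancel (orderOf_pos x), pow_orderOf_eq_one])]
      exact hfin _
  · rintro ⟨i, hi, j, hj, e⟩
    obtain ⟨a, ha, ea⟩ := c.exists_mover hv hr h0 h1 i hi
    obtain ⟨b, hb', eb⟩ := c.exists_stab hv hr h0 h1 j hj
    rw [show g = a * b from Units.ext (by rw [Units.val_mul, ea, eb, e])]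
    exact mul_mem ha hb'

end

section
variable (hv : c.Valid) (hr : Root F ω)
include hv hr

theorem key_spec {i : ℕ} (hi : i < c.N) :
    c.K.get i < 262144 ∧ ∃ t : F, t ≠ 0 ∧
      den ω (c.M.get i) *ᵥ dvec ω c.v = t • dvec ω (c.K.get i) := by
  have h := hv.key i hi
  simp only [keyB, Nat.beq_eq] at h
  obtain ⟨hlt, t, ht, e⟩ := hr.canon_spec (app_lt (c.M.get i) c.v)
  rw [h] at hlt e
  refine ⟨hlt, t⁻¹, inv_ne_zero ht, ?_⟩
  rw [e, hr.dvec_app, inv_smul_smul₀ ht]

theorem stab_spec {j : ℕ} (hj : j < c.m) :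
    ∃ t : F, t ≠ 0 ∧ den ω (c.H.get j) *ᵥ dvec ω c.v = t • dvec ω c.v := by
  have hb := hv.base
  have h := hv.stab j hj
  simp only [baseB, stabB, Bool.and_eq_true, Nat.beq_eq, Nat.blt_eq] at hb h
  obtain ⟨-, t, ht, e⟩ := hr.canon_spec (app_lt (c.H.get j) c.v)
  obtain ⟨-, t', ht', e'⟩ := hr.canon_spec hb.1.1.1.2
  rw [h.1.2, e', hr.dvec_app] at e
  exact ⟨t⁻¹ * t', mul_ne_zero (inv_ne_zero ht) ht',
    by rw [mul_smul, e, inv_smul_smul₀ ht]⟩

/-- Distinct points give distinct lines. -/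
theorem key_inj {a b : ℕ} (ha : a < c.N) (hb : b < c.N) {t : F} (ht : t ≠ 0)
    (e : dvec ω (c.K.get a) = t • dvec ω (c.K.get b)) : a = b := by
  obtain ⟨la, -⟩ := c.key_spec hv hr ha
  obtain ⟨lb, -⟩ := c.key_spec hv hr hb
  refine inj_of_sorted (o := c.OM.get) (f := c.K.get) (fun i hi => ?_) (fun i hi => ?_) a ha b hb ?_
  · have h := hv.sort i hi
    simp only [sortB, Bool.and_eq_true, Nat.blt_eq] at h
    exact h.1
  · have h := hv.sort i (by omega)
    simp only [sortB, Bool.and_eq_true, Bool.or_eq_true, Nat.beq_eq, Nat.blt_eq] at h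
    exact h.2.resolve_left (by omega)
  · have hc : ∀ k < c.N, canon (c.K.get k) = c.K.get k := by
      intro k hk
      have h := hv.key k hk
      simp only [keyB, Nat.beq_eq] at h
      obtain ⟨lk, t', ht', e'⟩ := hr.canon_spec (app_lt (c.M.get k) c.v)
      rw [← h]
      exact hr.canon_eq lk (app_lt _ _) ht' e'
    rw [← hc a ha, ← hc b hb]
    exact hr.canon_eq la lb ht e

theorem den_H_inj {a b : ℕ} (ha : a < c.m) (hb : b < c.m)
    (e : den ω (c.H.get a) = den ω (c.H.get b)) : a = b := by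
  have hlt : ∀ j < c.m, c.H.get j < 2 ^ 162 := fun j hj => by
    have h := hv.stab j hj
    simp only [stabB, Bool.and_eq_true, Nat.blt_eq] at h
    exact h.2
  refine inj_of_sorted (o := c.OH.get) (f := c.H.get) (fun i hi => ?_) (fun i hi => ?_) a ha b hb
    (hr.den_inj (hlt a ha) (hlt b hb) e)
  · have h := hv.hsort i hi
    simp only [hsortB, Bool.and_eq_true, Nat.blt_eq] at h
    exact h.1
  · have h := hv.hsort i (by omega)
    simp only [hsortB, Bool.and_eq_true, Bool.or_eq_true, Nat.beq_eq, Nat.blt_eq] at h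
    exact h.2.resolve_left (by omega)

variable {a0 a1 : GL F9 F} (h0 : (a0 : Matrix F9 F9 F) = den ω c.g0)
  (h1 : (a1 : Matrix F9 F9 F) = den ω c.g1)
include h0 h1

theorem card_closure [Finite F] :
    Nat.card (Subgroup.closure ({a0, a1} : Set (GL F9 F))) = c.N * c.m := by
  choose mv hmv emv using fun i : Fin c.N => c.exists_mover hv hr h0 h1 i i.2
  choose st hst est using fun j : Fin c.m => c.exists_stab hv hr h0 h1 j j.2
  let f : Fin c.N × Fin c.m → Subgroup.closure ({a0, a1} : Set (GL F9 F)) := fun p =>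
    ⟨mv p.1 * st p.2, mul_mem (hmv p.1) (hst p.2)⟩
  have hf : Function.Bijective f := by
    constructor
    · rintro ⟨i, j⟩ ⟨i', j'⟩ h
      have e : mv i * st j = mv i' * st j' := congrArg Subtype.val h
      have hij : i = i' := by
        obtain ⟨-, t, ht, et⟩ := c.key_spec hv hr i.2
        obtain ⟨-, t', ht', et'⟩ := c.key_spec hv hr i'.2
        obtain ⟨s, hs, es⟩ := c.stab_spec hv hr j.2
        obtain ⟨s', hs', es'⟩ := c.stab_spec hv hr j'.2
        have hv' := congrArg (fun g : GL F9 F => (g : Matrix F9 F9 F) *ᵥ dvec ω c.v) e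
        simp only [Units.val_mul, emv, est, ← Matrix.mulVec_mulVec, es, es', Matrix.mulVec_smul,
          et, et', smul_smul] at hv'
        refine Fin.ext (c.key_inj hv hr i.2 i'.2 (t := (s * t)⁻¹ * (s' * t'))
          (mul_ne_zero (inv_ne_zero (mul_ne_zero hs ht)) (mul_ne_zero hs' ht')) ?_)
        rw [mul_smul, ← hv', inv_smul_smul₀ (mul_ne_zero hs ht)]
      subst hij
      have hj : den ω (c.H.get j) = den ω (c.H.get j') := by
        rw [← est, ← est, mul_left_cancel e]
      rw [Fin.ext (c.den_H_inj hv hr j.2 j'.2 hj)]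
    · rintro ⟨g, hg⟩
      obtain ⟨i, hi, j, hj, e⟩ := (c.mem_closure_iff hv hr h0 h1 g).mp hg
      exact ⟨(⟨i, hi⟩, ⟨j, hj⟩), Subtype.ext (Units.ext (by
        change ((mv _ * st _ : GL F9 F) : Matrix F9 F9 F) = g
        rw [Units.val_mul, emv, est, e]))⟩
  rw [← Nat.card_eq_of_bijective f hf, Nat.card_prod, Nat.card_fin, Nat.card_fin]

/-- The lines through the images of the base column. -/
theorem orbit_iff [Finite F] (u : F9 → F) :
    (∃ g ∈ Subgroup.closure ({a0, a1} : Set (GL F9 F)),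
        F ∙ ((g : Matrix F9 F9 F) *ᵥ dvec ω c.v) = F ∙ u) ↔
      ∃ i < c.N, F ∙ dvec ω (c.K.get i) = F ∙ u := by
  have hspan : ∀ (t : F) (x : F9 → F), t ≠ 0 → F ∙ (t • x) = F ∙ x := fun t x ht =>
    Submodule.span_singleton_smul_eq (IsUnit.mk0 t ht) x
  constructor
  · rintro ⟨g, hg, e⟩
    obtain ⟨i, hi, j, hj, eg⟩ := (c.mem_closure_iff hv hr h0 h1 g).mp hg
    obtain ⟨-, t, ht, et⟩ := c.key_spec hv hr hi
    obtain ⟨s, hs, es⟩ := c.stab_spec hv hr hj
    refine ⟨i, hi, ?_⟩
    rw [← e, eg, ← Matrix.mulVec_mulVec, es, Matrix.mulVec_smul, et, smul_smul,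
      hspan _ _ (mul_ne_zero hs ht)]
  · rintro ⟨i, hi, e⟩
    obtain ⟨g, hg, eg⟩ := c.exists_mover hv hr h0 h1 i hi
    obtain ⟨-, t, ht, et⟩ := c.key_spec hv hr hi
    exact ⟨g, hg, by rw [eg, et, hspan _ _ ht, e]⟩

end

end Cert

end Cfsg.Agent.JankoThree
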