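import Cfsg.Agent.JankoThree.Centralizer
import Cfsg.Agent.GroupSub.Criterion
import Cfsg.Agent.GroupSub.Saturation

/-!
The fusion system of `J3` at the prime two is simple.
-/

set_option autoImplicit false

namespace Cfsg.Agent.JankoThree

/-- What is needed of the centraliser of an involution `t`. -/
def CentHyp {G : Type*} [Group G] (t : G) : Prop :=
  orderOf t = 2 ∧ ∃ Q : Subgroup G,
    t ∈ Q ∧ Nat.card Q = 32 ∧ (∀ q ∈ Q, q * t = t * q) ∧
    (∀ c, c * t = t * c → ∀ q ∈ Q, c * q * c⁻¹ ∈ Q) ∧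
    (∀ g, (∀ q ∈ Q, g * q = q * g) → g = 1 ∨ g = t) ∧
    Q ≤ Subgroup.closure {q | q ∈ Q ∧ q * q = 1} ∧
    (∀ (c : G) (k : ℕ), c * t = t * c → orderOf c = 2 ^ k → ∃ q ∈ Q, q * c * (q * c) = 1) ∧
    ∀ M : Subgroup G, Q ≤ M → M ≤ Subgroup.centralizer ({t} : Set G) →
      (∀ c, c * t = t * c → ∀ m ∈ M, c * m * c⁻¹ ∈ M) →
      M = Q ∨ M = Subgroup.centralizer ({t} : Set G)

theorem CentHyp.map {G H : Type*} [Group G] [Group H] (e : G ≃* H) {t : G} (h : CentHyp t) :
    CentHyp (e t) := by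
  obtain ⟨ht, Q, htQ, hQ, hQt, hN, hC, hgen, hsq, hM⟩ := h
  refine ⟨by rw [MulEquiv.orderOf_eq, ht], Q.map e.toMonoidHom, ⟨t, htQ, rfl⟩, ?_, ?_, ?_, ?_, ?_,
    ?_, ?_⟩
  · rw [Subgroup.card_map_of_injective e.injective, hQ]
  · rintro _ ⟨q, hq, rfl⟩
    change e q * e t = e t * e q
    rw [← map_mul, hQt q hq, map_mul]
  · intro c hc x hx
    obtain ⟨q, hq, rfl⟩ := hx
    obtain ⟨a, rfl⟩ := e.surjective c
    rw [← map_mul, ← map_mul] at hc
    exact ⟨a * q * a⁻¹, hN a (e.injective hc) q hq, by simp⟩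
  · intro g hg
    obtain ⟨a, rfl⟩ := e.surjective g
    rcases hC a (fun q hq => e.injective (by rw [map_mul, map_mul]; exact hg _ ⟨q, hq, rfl⟩)) with
      h | h
    · exact Or.inl (by rw [h, map_one])
    · exact Or.inr (by rw [h])
  · refine (Subgroup.map_mono hgen).trans ?_
    rw [MonoidHom.map_closure]
    refine Subgroup.closure_mono ?_
    rintro _ ⟨q, ⟨hq, hq2⟩, rfl⟩
    exact ⟨⟨q, hq, rfl⟩, by change e q * e q = 1; rw [← map_mul, hq2, map_one]⟩
  · intro c k hc hk
    obtain ⟨a, rfl⟩ := e.surjective c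
    rw [← map_mul, ← map_mul] at hc
    obtain ⟨q, hq, e2⟩ := hsq a k (e.injective hc) (by rw [← MulEquiv.orderOf_eq e, hk])
    refine ⟨e q, ⟨q, hq, rfl⟩, ?_⟩
    rw [← map_mul, ← map_mul, e2, map_one]
  · intro M hQM hMC hMn
    have hcomm : ∀ a, a * t = t * a ↔ e a * e t = e t * e a := fun a => by
      rw [← map_mul, ← map_mul]; exact e.injective.eq_iff.symm
    rcases hM (M.comap e.toMonoidHom) (fun q hq => hQM ⟨q, hq, rfl⟩)
      (fun a ha => by
        rw [Subgroup.mem_centralizer_singleton_iff]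
        exact (hcomm a).mpr (Subgroup.mem_centralizer_singleton_iff.mp (hMC ha)))
      (fun c hc m hm => by
        change e (c * m * c⁻¹) ∈ M
        rw [map_mul, map_mul, map_inv]
        exact hMn _ ((hcomm c).mp hc) _ hm) with h | h
    · left
      rw [← h, Subgroup.map_comap_eq_self_of_surjective e.surjective]
    · right
      refine le_antisymm hMC fun x hx => ?_
      obtain ⟨a, rfl⟩ := e.surjective x
      have ha : a ∈ M.comap e.toMonoidHom := by
        rw [h, Subgroup.mem_centralizer_singleton_iff]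
        exact (hcomm a).mpr (Subgroup.mem_centralizer_singleton_iff.mp hx)
      exact ha

theorem CentHyp.of_isConj {G : Type*} [Group G] {t z : G} (h : CentHyp t) (hz : IsConj t z) :
    CentHyp z := by
  obtain ⟨g, hg⟩ := isConj_iff.mp hz
  rw [← hg]
  exact h.map (MulAut.conj g)

theorem isSimple_of_centHyp {G : Type*} [Group G] [Finite G]
    (hconj : ∀ x y : G, orderOf x = 2 → orderOf y = 2 → IsConj x y) {t : G} (ht0 : CentHyp t)
    (h64 : 2 ^ 6 ∣ Nat.card G) (S : Sylow 2 G) :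
    (Cfsg.groupFusionSystem (S : Subgroup G)).IsSimple 2 := by
  have := Fact.mk Nat.prime_two
  have hS64 : 64 ≤ Nat.card (S : Subgroup G) := by
    rw [S.card_eq_multiplicity]
    exact Nat.pow_le_pow_right (n := 2) (by norm_num)
      ((Nat.prime_two.pow_dvd_iff_le_factorization Nat.card_pos.ne').mp h64)
  have hSne : (S : Subgroup G) ≠ ⊥ := fun h => by
    rw [h, Subgroup.card_bot] at hS64; omega
  -- a central involution of `S`
  have : Nontrivial (S : Subgroup G) := (Subgroup.nontrivial_iff_ne_bot _).mpr hSne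
  have hZp : IsPGroup 2 (Subgroup.center (S : Subgroup G)) := S.isPGroup'.to_subgroup _
  have : Nontrivial (Subgroup.center (S : Subgroup G)) := S.isPGroup'.center_nontrivial
  obtain ⟨z0, hz0⟩ := exists_prime_orderOf_dvd_card' (G := Subgroup.center (S : Subgroup G)) 2 (by
    obtain ⟨n, hn⟩ := IsPGroup.iff_card.mp hZp
    have h1 : 1 < Nat.card (Subgroup.center (S : Subgroup G)) := Finite.one_lt_card
    rcases n with _ | n
    · rw [hn] at h1; simp at h1
    · rw [hn]; exact dvd_pow_self 2 n.succ_ne_zero)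
  obtain ⟨z, hz2, hzS, hzc⟩ : ∃ z : G, orderOf z = 2 ∧ z ∈ (S : Subgroup G) ∧
      ∀ s ∈ (S : Subgroup G), s * z = z * s :=
    ⟨z0.1.1, by rw [Subgroup.orderOf_coe, Subgroup.orderOf_coe, hz0], z0.1.2,
      fun s hs => congrArg Subtype.val (Subgroup.mem_center_iff.mp z0.2 ⟨s, hs⟩)⟩
  obtain ⟨-, Q, hzQ, hQ32, hQz, hN, hC, hgen, hsq, hM⟩ := ht0.of_isConj (hconj t z ht0.1 hz2)
  -- `Q` lies in `S`
  have hQp : IsPGroup 2 Q := IsPGroup.of_card (n := 5) (by rw [hQ32]; norm_num)
  have hSN : ∀ c, c * z = z * c → c ∈ Subgroup.normalizer (Q : Set G) := fun c hc =>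
    GroupSub.mem_normalizer_of_cj_le (by
      rintro _ ⟨q, hq, rfl⟩
      exact hN c hc q hq)
  have hQS : Q ≤ (S : Subgroup G) := by
    have hsup : IsPGroup 2 (Q ⊔ (S : Subgroup G) : Subgroup G) :=
      IsPGroup.to_sup_of_normal_left' hQp S.isPGroup' fun s hs => hSN s (hzc s hs)
    have := S.is_maximal' hsup le_sup_right
    exact le_sup_left.trans (le_of_eq this)
  -- every element of `S` is an element of `Q` times an involution
  have hdec : ∀ s ∈ (S : Subgroup G), ∃ q ∈ Q, q * s * (q * s) = 1 := by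
    intro s hs
    obtain ⟨k, hk⟩ := IsPGroup.iff_orderOf.mp S.isPGroup' ⟨s, hs⟩
    exact hsq s k (hzc s hs) (by rw [← hk, ← Subgroup.orderOf_coe])
  set F := Cfsg.groupFusionSystem (S : Subgroup G)
  refine GroupSub.isSimple_of_localGens (GroupSub.groupFusionSystem_isSaturated S) hSne ?_ ?_
  · intro T hT
    by_contra hcon
    push Not at hcon
    obtain ⟨hT0, hTS⟩ := hcon
    have hTp : IsPGroup 2 T := S.isPGroup'.to_le hT.1
    obtain ⟨u, hu⟩ := exists_prime_orderOf_dvd_card' (G := T) 2 (by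
      obtain ⟨n, hn⟩ := IsPGroup.iff_card.mp hTp
      have : Nontrivial T := (Subgroup.nontrivial_iff_ne_bot _).mpr hT0
      have h1 : 1 < Nat.card T := Finite.one_lt_card
      rcases n with _ | n
      · rw [hn] at h1; simp at h1
      · rw [hn]; exact dvd_pow_self 2 n.succ_ne_zero)
    have hinv : ∀ v ∈ (S : Subgroup G), v * v = 1 → v ∈ T := by
      intro v hv hv2
      rcases eq_or_ne v 1 with rfl | hne
      · exact T.one_mem
      have ho : orderOf v = 2 := orderOf_eq_prime (by rw [pow_two, hv2]) hne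
      obtain ⟨g, hg⟩ := isConj_iff.mp (hconj u.1 v (by rw [Subgroup.orderOf_coe, hu]) ho)
      have huS : Subgroup.zpowers (u : G) ≤ (S : Subgroup G) :=
        Subgroup.zpowers_le.mpr (hT.1 u.2)
      have hmap : ∀ x ∈ Subgroup.zpowers (u : G), g * x * g⁻¹ ∈ (S : Subgroup G) := by
        rintro _ ⟨i, rfl⟩
        change g * (u : G) ^ i * g⁻¹ ∈ _
        rw [← conj_zpow, hg]
        exact (S : Subgroup G).zpow_mem hv i
      have := hT.2 _ (Subgroup.zpowers_le.mpr u.2) _ (GroupSub.mem_groupHom S huS hmap)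
        ⟨(u : G), Subgroup.mem_zpowers _⟩
      change g * (u : G) * g⁻¹ ∈ T at this
      rwa [hg] at this
    have hQT : Q ≤ T := hgen.trans ((Subgroup.closure_le _).mpr fun q hq => hinv q (hQS hq.1) hq.2)
    refine hTS (le_antisymm hT.1 fun s hs => ?_)
    obtain ⟨q, hq, h2⟩ := hdec s hs
    have := hinv (q * s) ((S : Subgroup G).mul_mem (hQS hq) hs) h2
    exact (Subgroup.mul_mem_cancel_left T (hQT hq)).mp this
  · intro g hg
    -- `g` centralises the central involution
    have hgz : g * z = z * g := by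
      have hmem : g * z * g⁻¹ ∈ (S : Subgroup G) := (Subgroup.mem_normalizer_iff.mp hg z).mp hzS
      rcases hC (g * z * g⁻¹) (fun q hq => by
        have h1 : g⁻¹ * q * g ∈ (S : Subgroup G) :=
          (Subgroup.mem_normalizer_iff''.mp hg q).mp (hQS hq)
        have h2 := hzc _ h1
        calc g * z * g⁻¹ * q = g * (z * (g⁻¹ * q * g)) * g⁻¹ := by group
          _ = g * (g⁻¹ * q * g * z) * g⁻¹ := by rw [h2]
          _ = q * (g * z * g⁻¹) := by group) with h | h
      · rw [conj_eq_one_iff] at h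
        rw [h, orderOf_one] at hz2; omega
      · exact mul_inv_eq_iff_eq_mul.mp h
    refine Subgroup.mem_sup_right (Subgroup.subset_closure ⟨hg, Q, ?_, ?_, ?_⟩)
    · refine ⟨hQS, fun R _ => Subgroup.card_le_of_le ?_⟩
      exact le_trans inf_le_left (le_inf le_rfl fun s hs => hSN s (hzc s hs))
    · refine ⟨hQS, ?_⟩
      rintro R ⟨φ, ⟨-, -, a, ha⟩, rfl⟩ c ⟨-, hc⟩
      have hc' : ∀ q ∈ Q, c * (a * q * a⁻¹) = a * q * a⁻¹ * c := fun q hq =>
        (hc _ ⟨⟨q, hq⟩, ha ⟨q, hq⟩⟩).symm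
      have hmem : a⁻¹ * c * a ∈ Q := by
        rcases hC (a⁻¹ * c * a) (fun q hq => by
          calc a⁻¹ * c * a * q = a⁻¹ * (c * (a * q * a⁻¹)) * a := by group
            _ = a⁻¹ * (a * q * a⁻¹ * c) * a := by rw [hc' q hq]
            _ = q * (a⁻¹ * c * a) := by group) with h | h
        · rw [h]; exact Q.one_mem
        · rw [h]; exact hzQ
      exact ⟨⟨_, hmem⟩, (ha ⟨_, hmem⟩).trans (by group)⟩
    · -- the centraliser is generated by its elements of two-power order
      set U := Subgroup.closure {u : G | u ∈ Subgroup.normalizer (Q : Set G) ∧ ∃ k, orderOf u = 2 ^ k}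
      let M : Subgroup G := U ⊓ Subgroup.centralizer ({z} : Set G)
      have hpow : ∀ s ∈ (S : Subgroup G), s ∈ U := fun s hs => Subgroup.subset_closure
        ⟨hSN s (hzc s hs), by
          obtain ⟨k, hk⟩ := IsPGroup.iff_orderOf.mp S.isPGroup' ⟨s, hs⟩
          exact ⟨k, by rw [← hk, ← Subgroup.orderOf_coe]⟩⟩
      have hSM : (S : Subgroup G) ≤ M := fun s hs =>
        ⟨hpow s hs, Subgroup.mem_centralizer_singleton_iff.mpr (hzc s hs)⟩
      have hUn : ∀ c ∈ Subgroup.normalizer (Q : Set G), ∀ m ∈ U, c * m * c⁻¹ ∈ U := by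
        intro c hc m hm
        have hle : U ≤ U.comap (MulAut.conj c).toMonoidHom := by
          refine (Subgroup.closure_le _).mpr fun u ⟨hu, k, hk⟩ => Subgroup.subset_closure ⟨?_, k, ?_⟩
          · exact (Subgroup.normalizer _).mul_mem ((Subgroup.normalizer _).mul_mem hc hu)
              ((Subgroup.normalizer _).inv_mem hc)
          · rw [← hk]; exact orderOf_injective _ (MulAut.conj c).injective u
        exact hle hm
      rcases hM M (hQS.trans hSM) inf_le_right (fun c hc m hm => by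
          have hc' : c ∈ Subgroup.centralizer ({z} : Set G) :=
            Subgroup.mem_centralizer_singleton_iff.mpr hc
          exact ⟨hUn c (hSN c hc) m hm.1,
            Subgroup.mul_mem _ (Subgroup.mul_mem _ hc' hm.2) (Subgroup.inv_mem _ hc')⟩) with h | h
      · exfalso
        have := Subgroup.card_le_of_le hSM
        rw [h, hQ32] at this; omega
      · have : g ∈ M := by rw [h]; exact Subgroup.mem_centralizer_singleton_iff.mpr hgz
        exact this.1

theorem alt5_facts : (∀ x : alternatingGroup (Fin 5), (∀ y, x * y = y * x) → x = 1) ∧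
    ∀ x : alternatingGroup (Fin 5), x ^ 4 = 1 → x * x = 1 := by decide +kernel

theorem exists_centHyp {F : Type*} [Field F] [Fintype F] {ω : F} (hr : Root F ω) :
    ∃ t : Spor.J3 F ω, CentHyp t := by
  obtain ⟨t, ht, Q, hQn, hQe, hQ32, -, ⟨H, hH⟩, ⟨e⟩, hcent, hgen⟩ := centralizer_data hr
  haveI := hQn
  have hCt : ∀ c : (Subgroup.centralizer ({t} : Set (Spor.J3 F ω))), c.1 * t = t * c.1 := fun c =>
    Subgroup.mem_centralizer_singleton_iff.mp c.2
  let π : (Subgroup.centralizer ({t} : Set (Spor.J3 F ω))) →* alternatingGroup (Fin 5) := e.toMonoidHom.comp (QuotientGroup.mk' Q)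
  have hπ : Function.Surjective π := e.surjective.comp (QuotientGroup.mk'_surjective Q)
  have hker : ∀ c, π c = 1 ↔ c ∈ Q := fun c => by
    change e (QuotientGroup.mk' Q c) = 1 ↔ _
    rw [EmbeddingLike.map_eq_one_iff]
    exact QuotientGroup.eq_one_iff c
  let tC : (Subgroup.centralizer ({t} : Set (Spor.J3 F ω))) := ⟨t, Subgroup.mem_centralizer_singleton_iff.mpr rfl⟩
  have htQ : tC ∈ Q := by
    refine (hker _).mp (alt5_facts.1 _ fun y => ?_)
    obtain ⟨c, rfl⟩ := hπ y
    rw [← map_mul, ← map_mul]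
    exact congrArg π (Subtype.ext (hCt c).symm)
  refine ⟨t, ht, Q.map (Subgroup.centralizer ({t} : Set (Spor.J3 F ω))).subtype, ⟨tC, htQ, rfl⟩, ?_, ?_, ?_, ?_, ?_, ?_, ?_⟩
  · rw [Subgroup.card_map_of_injective (Subgroup.centralizer ({t} : Set (Spor.J3 F ω))).subtype_injective, hQ32]
  · rintro _ ⟨q, -, rfl⟩; exact hCt q
  · rintro c hc _ ⟨q, hq, rfl⟩
    exact ⟨_, hQn.conj_mem q hq ⟨c, Subgroup.mem_centralizer_singleton_iff.mpr hc⟩, rfl⟩
  · intro g hg
    have hgC : g ∈ (Subgroup.centralizer ({t} : Set (Spor.J3 F ω))) := Subgroup.mem_centralizer_singleton_iff.mpr (hg t ⟨tC, htQ, rfl⟩)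
    have hgQ : (⟨g, hgC⟩ : (Subgroup.centralizer ({t} : Set (Spor.J3 F ω)))) ∈ Q :=
      hcent _ fun q hq => Subtype.ext (hg _ ⟨q, hq, rfl⟩)
    have hctr : Nat.card (Subgroup.center Q) = 2 := hQe.2
    have hmem : ∀ x : Q, (∀ q : Q, x.1.1 * q.1.1 = q.1.1 * x.1.1) → x ∈ Subgroup.center Q :=
      fun x hx => Subgroup.mem_center_iff.mpr fun q => Subtype.ext (Subtype.ext (hx q).symm)
    have h1 := hmem ⟨_, hgQ⟩ fun q => hg _ ⟨q.1, q.2, rfl⟩
    have h2 := hmem ⟨tC, htQ⟩ fun q => (hCt q.1).symm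
    rw [Nat.card_eq_two_iff' (1 : Subgroup.center Q)] at hctr
    obtain ⟨w, -, huniq⟩ := hctr
    by_contra hcon
    push Not at hcon
    have htne : (⟨_, h2⟩ : Subgroup.center Q) ≠ 1 := fun h => by
      have : t = 1 := congrArg (fun x : Subgroup.center Q => x.1.1.1) h
      rw [this, orderOf_one] at ht; omega
    have hgne : (⟨_, h1⟩ : Subgroup.center Q) ≠ 1 := fun h =>
      hcon.1 (congrArg (fun x : Subgroup.center Q => x.1.1.1) h)
    exact hcon.2 (congrArg (fun x : Subgroup.center Q => x.1.1.1)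
      ((huniq _ hgne).trans (huniq _ htne).symm))
  · refine (Subgroup.map_mono hgen).trans ?_
    rw [MonoidHom.map_closure]
    refine Subgroup.closure_mono ?_
    rintro _ ⟨q, ⟨hq, hq2⟩, rfl⟩
    exact ⟨⟨q, hq, rfl⟩, congrArg Subtype.val hq2⟩
  · intro c k hc hk
    let cC : (Subgroup.centralizer ({t} : Set (Spor.J3 F ω))) := ⟨c, Subgroup.mem_centralizer_singleton_iff.mpr hc⟩
    obtain ⟨⟨⟨q, hq⟩, ⟨h, hh⟩⟩, hqh⟩ := hH.2 cC
    change q * h = cC at hqh
    have hπh : π h = π cC := by rw [← hqh, map_mul, (hker q).mpr hq, one_mul]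
    have hx4 : π cC ^ 4 = 1 := by
      have hd : orderOf (π cC) ∣ 2 ^ k := by
        refine (orderOf_map_dvd π cC).trans (dvd_of_eq ?_)
        rw [← hk, ← Subgroup.orderOf_coe]
      obtain ⟨j, -, hj⟩ := (Nat.dvd_prime_pow Nat.prime_two).mp hd
      have h60 : orderOf (π cC) ∣ 60 :=
        (orderOf_dvd_natCard _).trans (dvd_of_eq (by rw [Nat.card_eq_fintype_card]; decide +kernel))
      rw [hj] at h60
      have hj2 : j ≤ 2 := by
        by_contra hlt
        exact absurd ((pow_dvd_pow 2 (show 3 ≤ j by omega)).trans h60) (by norm_num)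
      refine orderOf_dvd_iff_pow_eq_one.mp ?_
      rw [hj]
      exact pow_dvd_pow 2 hj2
    have h1 : h * h = 1 := by
      have hin : h * h ∈ Q := (hker _).mp (by rw [map_mul, hπh]; exact alt5_facts.2 _ hx4)
      exact Subgroup.disjoint_def.mp hH.disjoint hin (H.mul_mem hh hh)
    refine ⟨q.1⁻¹, ⟨q⁻¹, Q.inv_mem hq, rfl⟩, ?_⟩
    have e1 : q.1⁻¹ * c = h.1 := by
      rw [inv_mul_eq_iff_eq_mul]
      exact (congrArg Subtype.val hqh).symm
    rw [e1]
    exact congrArg Subtype.val h1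
  · intro M hQM hMC hMn
    have hn : (M.subgroupOf (Subgroup.centralizer ({t} : Set (Spor.J3 F ω)))).Normal := ⟨fun m hm c =>
      hMn c.1 (hCt c) m.1 hm⟩
    have : IsSimpleGroup (alternatingGroup (Fin 5)) := alternatingGroup.isSimpleGroup_five
    rcases (hn.map π hπ).eq_bot_or_eq_top with h | h
    · left
      refine le_antisymm (fun m hm => ⟨⟨m, hMC hm⟩, (hker _).mp ?_, rfl⟩) hQM
      have : π ⟨m, hMC hm⟩ ∈ (M.subgroupOf (Subgroup.centralizer ({t} : Set (Spor.J3 F ω)))).map π := ⟨_, hm, rfl⟩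
      rw [h] at this
      exact this
    · right
      refine le_antisymm hMC fun c hc => ?_
      have : π ⟨c, hc⟩ ∈ (M.subgroupOf (Subgroup.centralizer ({t} : Set (Spor.J3 F ω)))).map π := by rw [h]; trivial
      obtain ⟨m, hm, e2⟩ := this
      have hmQ : m⁻¹ * ⟨c, hc⟩ ∈ Q := (hker _).mp (by rw [map_mul, map_inv, e2, inv_mul_cancel])
      have hmem : m.1 * (m.1⁻¹ * c) ∈ M := M.mul_mem hm (hQM ⟨_, hmQ, rfl⟩)
      rwa [mul_inv_cancel_left] at hmem

theorem isSimple_fusion_J3 {G : Type*} [Group G] [Finite G] (hG : Spor.IsoJ3 G) (S : Sylow 2 G) :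
    (Cfsg.groupFusionSystem (S : Subgroup G)).IsSimple 2 := by
  obtain ⟨F, _, _, ω, hF, hω, ⟨e⟩⟩ := hG
  have hr := Root.of_card hF hω
  obtain ⟨t, ht⟩ := exists_centHyp hr
  refine isSimple_of_centHyp (fun x y hx hy => ?_) (ht.map e.symm)
    (by rw [Nat.card_congr e.toEquiv, card_J3 hr]; norm_num) S
  obtain ⟨g, hg⟩ := isConj_iff.mp (involutions_conj hr (e x) (e y)
    (by rw [MulEquiv.orderOf_eq, hx]) (by rw [MulEquiv.orderOf_eq, hy]))
  exact isConj_iff.mpr ⟨e.symm g, e.injective (by simp [hg])⟩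

end Cfsg.Agent.JankoThree
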