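import Cfsg.Agent.JankoThree.Cert

/-! Generated data: codes of the defining generators and some elements with their decompositions. -/

set_option autoImplicit false

namespace Cfsg.Agent.JankoThree

/-- The defining generators `(code, (mover, stabiliser element))`. -/
def genData : List (ℕ × ℕ × ℕ) := [
  (5709001659880350221312270831439550521480314881, 0, 0),
  (2928717840618950098096884703085620821011413860353, 0, 2235),
  (2923008860737162000003068384336541835125139701761, 0, 1342),
  (2928717851518619663493580779713349266882473492481, 14972, 1942),
  (2923003285561496171070766805069308735748166385665, 14972, 1014),
  (5714565967778085655755754641564156794409320449, 14972, 2196),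
  (2923008849858739313351496822512189736434214109185, 7, 4240),
  (5714576856793057898738364902049419291856470017, 7, 25),
  (2928712276332299241407565734078872983307255545857, 7, 3569),
  (2928717851518598894345760797217831180071130365953, 14816, 468),
  (2928717840629583922063164030142638253513349005824, 14816, 4840),
  (2923008860747795823969347711393559127439609692672, 14816, 482),
  (2928717851518598894306146640329192424528151052800, 15612, 1190),
  (2928717840629583922023511338816998027584379814401, 15612, 5332),
  (2923008860747795803726552113441013171649342079489, 15612, 7302),
  (2923008849848126258572651634839329427486969168384, 11990, 1714),
  (2923003285561475422165742193852745426983853228545, 11990, 3804),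
  (5714565967757316428746219700289649333986918913, 11990, 6661),
  (5709001659880350221312270831439550521480314881, 0, 0),
  (1438398065346763577478375132368124027662761986, 20396, 4679),
  (1464356138160915795591758216916575752598786932740, 4845, 6120),
  (89203150935793048087997312899691042473771016, 0, 2375),
  (22301085813853659362916445716850577302880272, 17819, 5581),
  (44601576132267132866772503436118074490617888, 7939, 294),
  (365376107592145247470029272039471988980133658688, 0, 491),
  (178408683852372650736487228006888867639591040, 16727, 4478),
  (356812603751608408334452912271447605874000128, 20417, 4476),
  (713645624425760974613083439118676885204107265, 20423, 2220),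
  (2854496746542036799890543818707850506788667393, 20423, 5774),
  (5709001659880350221312270831439550521480314881, 0, 0),
  (44602171044871917124737009369501175149232129, 19704, 5581),
  (178406301912150283415210141186180846035402753, 20181, 6692),
  (356814645438021644659080568674709944715444225, 0, 2304),
  (1427247862857527940196385294773088010475929601, 20181, 4989),
  (89208425317185534343622878340545603656744961, 19704, 6188),
  (9277135864072640086349652447696027012413521921, 20423, 4452),
  (3924965183202745553170409633227922301248864257, 20423, 242),
  (8920333468782952511844587989092215563328421889, 0, 4274),
  (312216728060332120870730790997862446685749249, 19704, 205),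
  (1694857826175265309009650647776620503724195841, 20181, 5936),
  (6779441512800170770060285903806198697574793217, 0, 2398),
  (1650261099762494667691643907269282398860214273, 20181, 1423),
  (1561058629397114927667840624964181556681768961, 19704, 2337)]

/-- The generators of the subgroup. -/
def subData : List (ℕ × ℕ × ℕ) := [
  (1097911479164289843899444600941992332934524248370, 12633, 5261),
  (5833065151644200361296222935067751177600849702721, 8172, 3041)]

/-- Pairs of elements of order nineteen with the two generators as products. -/
def nineteenData : List (ℕ × ℕ × ℕ) := [
  (2698280256906722415566857054342765921394537105295, 6815, 3842),
  (5443059545608945559808810432118251508987082586930, 13990, 1981),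
  (4409609972610311753294990370777541928596891215359, 14207, 1781),
  (1408559952355921680523091304004701725354229074199, 10605, 4897)]

end Cfsg.Agent.JankoThree
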