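import Cfsg.Agent.JankoThree.MainValid
import Cfsg.Agent.JankoThree.GenData

/-!
The group `threeJ3` is generated by two matrices, has order 150698880 and has the scalars of order
three as its centre.
-/

set_option autoImplicit false

namespace Cfsg.Agent.JankoThree

open Cfsg.Spor (F9)
open Matrix

/-- The certificate of `threeJ3`. -/
noncomputable abbrev C0 : Cert := Main.cert

/-- The exponent encoded at a position. -/
def cod (n i : ℕ) : Option (ZMod 3) :=
  cond (n.testBit i) (cond (n.testBit (i + 9)) (some 2) (some 0))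
    (cond (n.testBit (i + 9)) (some 1) none)

/-- The exponent of a translation coefficient. -/
def lamE (Z z : F9) : ZMod 3 :=
  if z = 0 then 0
  else if F9.div Z z = F9.I - F9.one then 1
  else if F9.div Z z = -F9.I - F9.one then 2
  else 0

/-- Row `k` of the generator data. -/
def genAt (k : ℕ) : ℕ × ℕ × ℕ := genData.getD k (0, 0, 0)

/-- The shape of a code. -/
def codeIs (n : ℕ) (f : F9 → F9 → Option (ZMod 3)) : Prop :=
  ∀ z w : F9, cod (col n (fi z)) (fi w) = f w z

instance (n : ℕ) (f : F9 → F9 → Option (ZMod 3)) : Decidable (codeIs n f) := by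
  unfold codeIs; infer_instance

theorem codes_A : ∀ Z : F9, codeIs (genAt (fi Z)).1
    (fun w z => if w = z then some (Z.1 * w.1 + Z.2 * w.2) else none) := by decide +kernel

theorem codes_E : ∀ Z : F9, codeIs (genAt (9 + fi Z)).1
    (fun w z => if w = z then some ((Z.1 - w.1) ^ 2 + (Z.2 - w.2) ^ 2) else none) := by
  decide +kernel

theorem codes_D : ∀ Z : F9, codeIs (genAt (18 + fi Z)).1
    (fun w z => if w = z + Z then some (lamE Z z) else none) := by decide +kernel

theorem codes_B : ∀ Z : F9, Z ≠ 0 → codeIs (genAt (26 + fi Z)).1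
    (fun w z => if w = F9.mul Z z then some 0 else none) := by decide +kernel

theorem codes_C : ∀ Z : F9, Z ≠ 0 → codeIs (genAt (34 + fi Z)).1 (fun w z =>
    if z = 0 then (if w = 0 then some 0 else none)
    else if w = -F9.div Z z ∨ w = F9.mul F9.I (F9.div Z z) ∨ w = -F9.mul F9.I (F9.div Z z)
      then some 0 else none) := by decide +kernel

theorem gen_checks : (genData ++ subData ++ nineteenData).all (fun r =>
    Nat.blt r.2.1 20520 && Nat.blt r.2.2 7344 &&
      Nat.beq (mmul (C0.M.get r.2.1) (C0.H.get r.2.2)) r.1) = true := by decide +kernel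

theorem gen_len : genData.length = 43 ∧
    mmul (genAt (18 + fi (0, 1))).1 (genAt (26 + fi (1, 1))).1 = C0.g0 ∧
    (genAt (34 + fi (1, 0))).1 = C0.g1 := by decide +kernel

/-- Inverse codes of the two generators. -/
noncomputable def invX : ℕ := C0.word [0, 0, 0, 0, 0, 0, 0]

theorem inv_checks : (Nat.beq (mmul C0.g0 invX) idM && Nat.beq (mmul invX C0.g0) idM &&
    Nat.beq (mmul C0.g1 C0.g1) idM) = true := by decide +kernel

/-- The scalar code. -/
def scalM : ℕ := wvM idM

theorem scal_check : (Nat.beq (mmul (C0.M.get 0) (C0.H.get 249)) scalM &&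
    Nat.beq (mmul scalM (mmul scalM scalM)) idM && !(Nat.beq scalM idM)) = true := by decide +kernel

theorem inv_eqs : mmul C0.g0 invX = idM ∧ mmul invX C0.g0 = idM ∧ mmul C0.g1 C0.g1 = idM := by
  have h := inv_checks
  simp only [Bool.and_eq_true, Nat.beq_eq] at h
  exact ⟨h.1.1, h.1.2, h.2⟩

section

variable {F : Type*} [Field F] {ω : F}

/-- The value of an exponent. -/
def optVal (ω : F) : Option (ZMod 3) → F
  | none => 0
  | some k => Spor.omegaPow F ω k

theorem omega_vals (ω : F) : Spor.omegaPow F ω 0 = 1 ∧ Spor.omegaPow F ω 1 = ω ∧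
    Spor.omegaPow F ω 2 = ω ^ 2 :=
  ⟨pow_zero ω, pow_one ω, rfl⟩

theorem ent_cod (hr : Root F ω) (n i : ℕ) : ent ω n i = optVal ω (cod n i) := by
  unfold ent cod
  cases n.testBit i <;> cases n.testBit (i + 9) <;>
    simp [optVal, (omega_vals ω).1, (omega_vals ω).2.1, (omega_vals ω).2.2]
  all_goals linear_combination hr.sq - (ω ^ 2) * hr.char

theorem den_code (hr : Root F ω) {n : ℕ} {f : F9 → F9 → Option (ZMod 3)} (h : codeIs n f) :
    den ω n = Matrix.of fun w z => optVal ω (f w z) := by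
  ext w z
  simp only [den, Matrix.of_apply]
  rw [ent_cod hr, h z w]

theorem den_A (hr : Root F ω) (Z : F9) : den ω (genAt (fi Z)).1 = Spor.j3A F ω Z := by
  rw [den_code hr (codes_A Z)]
  ext w z
  simp only [Matrix.of_apply, Spor.j3A, Matrix.diagonal_apply]
  split_ifs <;> simp_all [optVal]

theorem den_E (hr : Root F ω) (Z : F9) : den ω (genAt (9 + fi Z)).1 = Spor.j3E F ω Z := by
  rw [den_code hr (codes_E Z)]
  ext w z
  simp only [Matrix.of_apply, Spor.j3E, Matrix.diagonal_apply]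
  split_ifs <;> simp_all [optVal]

theorem den_D (hr : Root F ω) (Z : F9) : den ω (genAt (18 + fi Z)).1 = Spor.j3D F ω Z := by
  rw [den_code hr (codes_D Z)]
  ext w z
  simp only [Matrix.of_apply, Spor.j3D, Spor.j3Lam, lamE]
  split_ifs <;> simp [optVal, (omega_vals ω).1, (omega_vals ω).2.1, (omega_vals ω).2.2]

theorem den_B (hr : Root F ω) (Z : F9) (hZ : Z ≠ 0) :
    den ω (genAt (26 + fi Z)).1 = Spor.j3B F Z := by
  rw [den_code hr (codes_B Z hZ)]
  ext w z
  simp only [Matrix.of_apply, Spor.j3B]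
  split_ifs <;> simp [optVal, (omega_vals ω).1]

theorem den_C (hr : Root F ω) (Z : F9) (hZ : Z ≠ 0) :
    den ω (genAt (34 + fi Z)).1 = Spor.j3C F Z := by
  rw [den_code hr (codes_C Z hZ)]
  ext w z
  simp only [Matrix.of_apply, Spor.j3C]
  split_ifs <;> simp [optVal, (omega_vals ω).1]

/-- The first generator as a unit. -/
noncomputable def aX (hr : Root F ω) : GL F9 F :=
  ⟨den ω C0.g0, den ω invX,
    by rw [← hr.den_mmul, inv_eqs.1, Root.den_idM],
    by rw [← hr.den_mmul, inv_eqs.2.1, Root.den_idM]⟩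

/-- The second generator as a unit. -/
noncomputable def aY (hr : Root F ω) : GL F9 F :=
  ⟨den ω C0.g1, den ω C0.g1,
    by rw [← hr.den_mmul, inv_eqs.2.2, Root.den_idM],
    by rw [← hr.den_mmul, inv_eqs.2.2, Root.den_idM]⟩

theorem unit_of_row (hr : Root F ω) {r : ℕ × ℕ × ℕ}
    (h : r ∈ genData ++ subData ++ nineteenData) :
    ∃ u ∈ Subgroup.closure ({aX hr, aY hr} : Set (GL F9 F)),
      (u : Matrix F9 F9 F) = den ω r.1 := by
  have h' := List.all_eq_true.mp gen_checks r h
  simp only [Bool.and_eq_true, Nat.blt_eq, Nat.beq_eq] at h'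
  obtain ⟨⟨hi, hj⟩, e⟩ := h'
  obtain ⟨a, ha, ea⟩ := Cert.exists_mover C0 Main.valid hr (a0 := aX hr) (a1 := aY hr) rfl rfl _ hi
  obtain ⟨b, hb, eb⟩ := Cert.exists_stab C0 Main.valid hr (a0 := aX hr) (a1 := aY hr) rfl rfl _ hj
  exact ⟨a * b, mul_mem ha hb, by rw [Units.val_mul, ea, eb, ← hr.den_mmul, e]⟩

theorem genAt_mem {k : ℕ} (hk : k < 43) : genAt k ∈ genData ++ subData ++ nineteenData := by
  have : k < genData.length := by rw [gen_len.1]; exact hk
  rw [genAt, List.getD_eq_getElem _ _ this]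
  exact List.mem_append_left _ (List.mem_append_left _ (List.getElem_mem this))

theorem gens_code (hr : Root F ω) {A : Matrix F9 F9 F} (h : A ∈ Spor.j3Gens F ω) :
    ∃ k < 43, den ω (genAt k).1 = A := by
  have hz : ∀ Z : F9, Z ≠ 0 → fi Z ≠ 0 := fun Z hZ e => hZ (fi_inj Z 0 (e.trans rfl))
  rcases h with (((⟨Z, rfl⟩ | ⟨Z, rfl⟩) | ⟨Z, rfl⟩) | ⟨Z, hZ, rfl⟩) | ⟨Z, hZ, rfl⟩
  · exact ⟨fi Z, by have := fi_lt Z; omega, den_A hr Z⟩
  · exact ⟨9 + fi Z, by have := fi_lt Z; omega, den_E hr Z⟩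
  · exact ⟨18 + fi Z, by have := fi_lt Z; omega, den_D hr Z⟩
  · exact ⟨26 + fi Z, by have := fi_lt Z; omega, den_B hr Z hZ⟩
  · exact ⟨34 + fi Z, by have := fi_lt Z; omega, den_C hr Z hZ⟩

theorem threeJ3_eq [Finite F] (hr : Root F ω) :
    Spor.threeJ3 F ω = Subgroup.closure ({aX hr, aY hr} : Set (GL F9 F)) := by
  apply le_antisymm
  · unfold Spor.threeJ3
    rw [Subgroup.closure_le]
    intro g hg
    obtain ⟨k, hk, e⟩ := gens_code hr hg
    obtain ⟨u, hu, eu⟩ := unit_of_row hr (genAt_mem hk)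
    rw [show g = u from Units.ext (by rw [eu, e])]
    exact hu
  · rw [Subgroup.closure_le]
    have hgen : ∀ k < 43, (den ω (genAt k).1 ∈ Spor.j3Gens F ω) →
        ∃ u ∈ Spor.threeJ3 F ω, (u : Matrix F9 F9 F) = den ω (genAt k).1 := by
      intro k hk hm
      obtain ⟨u, -, eu⟩ := unit_of_row hr (genAt_mem hk)
      exact ⟨u, Subgroup.subset_closure (show (u : Matrix F9 F9 F) ∈ Spor.j3Gens F ω by rw [eu]; exact hm), eu⟩
    have hD : Spor.j3D F ω (0, 1) ∈ Spor.j3Gens F ω :=
      Or.inl (Or.inl (Or.inr ⟨(0, 1), rfl⟩))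
    have hB : Spor.j3B F (1, 1) ∈ Spor.j3Gens F ω := Or.inl (Or.inr ⟨(1, 1), by decide, rfl⟩)
    have hC : Spor.j3C F (1, 0) ∈ Spor.j3Gens F ω := Or.inr ⟨(1, 0), by decide, rfl⟩
    obtain ⟨u, hu, eu⟩ := hgen (18 + fi (0, 1)) (by decide) (by rw [den_D hr]; exact hD)
    obtain ⟨v, hv, ev⟩ := hgen (26 + fi (1, 1)) (by decide)
      (by rw [den_B hr _ (by decide)]; exact hB)
    obtain ⟨y, hy, ey⟩ := hgen (34 + fi (1, 0)) (by decide)
      (by rw [den_C hr _ (by decide)]; exact hC)
    rintro g (rfl | rfl)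
    · rw [show aX hr = u * v from Units.ext (by
        rw [Units.val_mul, eu, ev, ← hr.den_mmul, gen_len.2.1]; rfl)]
      exact mul_mem hu hv
    · rw [show aY hr = y from Units.ext (by rw [ey, gen_len.2.2]; rfl)]
      exact hy

variable [Fintype F]

theorem card_threeJ3 (hr : Root F ω) : Nat.card (Spor.threeJ3 F ω) = 150698880 := by
  rw [threeJ3_eq hr, Cert.card_closure C0 Main.valid hr (a0 := aX hr) (a1 := aY hr) rfl rfl]
  rfl

theorem mem_threeJ3 (hr : Root F ω) {r : ℕ × ℕ × ℕ}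
    (h : r ∈ genData ++ subData ++ nineteenData) :
    ∃ u ∈ Spor.threeJ3 F ω, (u : Matrix F9 F9 F) = den ω r.1 := by
  rw [threeJ3_eq hr]
  exact unit_of_row hr h

theorem exists_scalar (hr : Root F ω) :
    ∃ u ∈ Spor.threeJ3 F ω, (u : Matrix F9 F9 F) = ω • (1 : Matrix F9 F9 F) := by
  have h := scal_check
  simp only [Bool.and_eq_true, Nat.beq_eq] at h
  obtain ⟨a, ha, ea⟩ := Cert.exists_mover C0 Main.valid hr (a0 := aX hr) (a1 := aY hr) rfl rfl 0
    (by decide)
  obtain ⟨b, hb, eb⟩ := Cert.exists_stab C0 Main.valid hr (a0 := aX hr) (a1 := aY hr) rfl rfl 249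
    (by decide)
  refine ⟨a * b, by rw [threeJ3_eq hr]; exact mul_mem ha hb, ?_⟩
  rw [Units.val_mul, ea, eb, ← hr.den_mmul, h.1.1, scalM]
  ext w z
  have hz := fi_lt z
  have hw := fi_lt w
  rw [← Root.den_idM (ω := ω)]
  simp only [den, Matrix.of_apply, Matrix.smul_apply, smul_eq_mul, col_wvM _ hz,
    hr.ent_wv (col_lt _ _) hw]

theorem separating : ∀ w z : F9, w ≠ z → ∃ Z : F9, Z.1 * w.1 + Z.2 * w.2 ≠ Z.1 * z.1 + Z.2 * z.2 := by
  decide +kernel

theorem omegaPow_inj (hr : Root F ω) {a b : ZMod 3}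
    (h : Spor.omegaPow F ω a = Spor.omegaPow F ω b) : a = b := by
  have h0 := hr.ne_zero
  have h1 := hr.ne_one
  have h2 : ω ^ 2 ≠ 1 := fun e => h0 (by linear_combination hr.sq - e - hr.char)
  have h3 : ω ^ 2 ≠ ω := fun e => h1 (mul_left_cancel₀ h0 (by linear_combination e))
  obtain ⟨o0, o1, o2⟩ := omega_vals ω
  have hall : ∀ c : ZMod 3, c = 0 ∨ c = 1 ∨ c = 2 := by decide
  rcases hall a with rfl | rfl | rfl <;> rcases hall b with rfl | rfl | rfl <;>
    first
      | rfl
      | (simp only [o0, o1, o2] at h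
         first
          | exact absurd h h1 | exact absurd h.symm h1 | exact absurd h h2 | exact absurd h.symm h2
          | exact absurd h h3 | exact absurd h.symm h3)

theorem scalar_of_commute (hr : Root F ω) {M : Matrix F9 F9 F}
    (hc : ∀ g ∈ Spor.threeJ3 F ω, (g : Matrix F9 F9 F) * M = M * g) :
    M = M 0 0 • (1 : Matrix F9 F9 F) := by
  have hcode : ∀ k < 43, den ω (genAt k).1 * M = M * den ω (genAt k).1 := by
    intro k hk
    obtain ⟨u, hu, eu⟩ := mem_threeJ3 hr (genAt_mem hk)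
    rw [← eu]; exact hc u hu
  have hoff : ∀ w z, w ≠ z → M w z = 0 := by
    intro w z hne
    obtain ⟨Z, hZ⟩ := separating w z hne
    have e := congrFun (congrFun (hcode (fi Z) (by have := fi_lt Z; omega)) w) z
    rw [den_A hr, Spor.j3A, Matrix.diagonal_mul, Matrix.mul_diagonal, mul_comm] at e
    by_contra hM
    exact hZ (omegaPow_inj hr (mul_left_cancel₀ hM e))
  have hdiag : ∀ Z : F9, M Z Z = M 0 0 := by
    intro Z
    have e := congrFun (congrFun (hcode (18 + fi Z) (by have := fi_lt Z; omega)) Z) 0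
    rw [den_D hr, Matrix.mul_apply, Matrix.mul_apply, Finset.sum_eq_single 0,
      Finset.sum_eq_single Z] at e
    · simp only [Spor.j3D, Spor.j3Lam, Matrix.of_apply, zero_add, if_true] at e
      simpa using e.symm
    · intro b _ hb; rw [hoff Z b (Ne.symm hb), zero_mul]
    · simp
    · intro b _ hb; rw [hoff b 0 hb, mul_zero]
    · simp
  ext w z
  rw [Matrix.smul_apply, Matrix.one_apply, smul_eq_mul]
  split_ifs with h
  · subst h; rw [hdiag, mul_one]
  · rw [hoff w z h, mul_zero]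

/-- The centre has order three. -/
theorem card_center (hr : Root F ω) : Nat.card (Subgroup.center (Spor.threeJ3 F ω)) = 3 := by
  obtain ⟨u, hu, eu⟩ := exists_scalar hr
  have hpow : ∀ n : ℕ, ((u ^ n : GL F9 F) : Matrix F9 F9 F) = ω ^ n • (1 : Matrix F9 F9 F) := by
    intro n
    rw [Units.val_pow_eq_pow_val, eu, smul_pow, one_pow]
  have hord : orderOf u = 3 := by
    have := Fact.mk Nat.prime_three
    refine orderOf_eq_prime (Units.ext (by rw [hpow, hr.cube, one_smul, Units.val_one])) fun e => ?_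
    have e' := congrArg (fun g : GL F9 F => (g : Matrix F9 F9 F) 0 0) e
    simp [eu] at e'
    exact hr.ne_one e'
  have hcu : (⟨u, hu⟩ : Spor.threeJ3 F ω) ∈ Subgroup.center (Spor.threeJ3 F ω) := by
    rw [Subgroup.mem_center_iff]
    intro g
    apply Subtype.ext
    apply Units.ext
    simp [eu]
  have heq : Subgroup.center (Spor.threeJ3 F ω) =
      Subgroup.zpowers (⟨u, hu⟩ : Spor.threeJ3 F ω) := by
    refine le_antisymm ?_ (Subgroup.zpowers_le.mpr hcu)
    intro g hg
    have hM := scalar_of_commute hr (M := ((g : GL F9 F) : Matrix F9 F9 F)) (fun h hh => by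
      have := congrArg (fun x : Spor.threeJ3 F ω => ((x : GL F9 F) : Matrix F9 F9 F))
        (Subgroup.mem_center_iff.mp hg ⟨h, hh⟩)
      simpa using this)
    have key : ∀ n : ℕ, ((g : GL F9 F) : Matrix F9 F9 F) 0 0 = ω ^ n →
        g ∈ Subgroup.zpowers (⟨u, hu⟩ : Spor.threeJ3 F ω) := by
      intro n hn
      refine ⟨(n : ℤ), Subtype.ext (Units.ext ?_)⟩
      simp only [zpow_natCast, SubmonoidClass.coe_pow]
      rw [hpow, hM, hn]
    rcases hr.all (((g : GL F9 F) : Matrix F9 F9 F) 0 0) with e | e | e | e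
    · exfalso
      rw [e, zero_smul] at hM
      have := congrArg (fun A : Matrix F9 F9 F => A 0 0) (Units.mul_inv (g : GL F9 F))
      rw [hM] at this
      simp at this
    · exact key 0 (by rw [e, pow_zero])
    · exact key 1 (by rw [e, pow_one])
    · exact key 2 e
  rw [heq, Nat.card_zpowers, ← Subgroup.orderOf_coe]
  exact hord

theorem card_J3 (hr : Root F ω) : Nat.card (Spor.J3 F ω) = 50232960 := by
  have h := Subgroup.card_eq_card_quotient_mul_card_subgroup (Subgroup.center (Spor.threeJ3 F ω))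
  rw [card_threeJ3 hr, card_center hr] at h
  show Nat.card (Spor.threeJ3 F ω ⧸ Subgroup.center (Spor.threeJ3 F ω)) = 50232960
  omega

end

end Cfsg.Agent.JankoThree
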