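import Cfsg.Agent.JankoThree.MainData

/-! Checks of the certificate `Main`. -/

set_option autoImplicit false

namespace Cfsg.Agent.JankoThree.Main

theorem par_0 : allB 2000 (fun i => cond (Nat.blt (0 * 2000 + i) 20520) (cert.parB (0 * 2000 + i)) true) = true := by
  decide +kernel

theorem par_1 : allB 2000 (fun i => cond (Nat.blt (1 * 2000 + i) 20520) (cert.parB (1 * 2000 + i)) true) = true := by
  decide +kernel

theorem par_2 : allB 2000 (fun i => cond (Nat.blt (2 * 2000 + i) 20520) (cert.parB (2 * 2000 + i)) true) = true := by
  decide +kernel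

theorem par_3 : allB 2000 (fun i => cond (Nat.blt (3 * 2000 + i) 20520) (cert.parB (3 * 2000 + i)) true) = true := by
  decide +kernel

theorem par_4 : allB 2000 (fun i => cond (Nat.blt (4 * 2000 + i) 20520) (cert.parB (4 * 2000 + i)) true) = true := by
  decide +kernel

theorem par_5 : allB 2000 (fun i => cond (Nat.blt (5 * 2000 + i) 20520) (cert.parB (5 * 2000 + i)) true) = true := by
  decide +kernel

theorem par_6 : allB 2000 (fun i => cond (Nat.blt (6 * 2000 + i) 20520) (cert.parB (6 * 2000 + i)) true) = true := by
  decide +kernel

theorem par_7 : allB 2000 (fun i => cond (Nat.blt (7 * 2000 + i) 20520) (cert.parB (7 * 2000 + i)) true) = true := by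
  decide +kernel

theorem par_8 : allB 2000 (fun i => cond (Nat.blt (8 * 2000 + i) 20520) (cert.parB (8 * 2000 + i)) true) = true := by
  decide +kernel

theorem par_9 : allB 2000 (fun i => cond (Nat.blt (9 * 2000 + i) 20520) (cert.parB (9 * 2000 + i)) true) = true := by
  decide +kernel

theorem par_10 : allB 2000 (fun i => cond (Nat.blt (10 * 2000 + i) 20520) (cert.parB (10 * 2000 + i)) true) = true := by
  decide +kernel

theorem par_ok : ∀ i < 20520, cert.parB i = true := by
  refine Cert.forall_of_blocks (b := 2000) (by norm_num) fun a ha => ?_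
  have : a < 11 := by omega
  interval_cases a
  · exact par_0
  · exact par_1
  · exact par_2
  · exact par_3
  · exact par_4
  · exact par_5
  · exact par_6
  · exact par_7
  · exact par_8
  · exact par_9
  · exact par_10

theorem key_0 : allB 2000 (fun i => cond (Nat.blt (0 * 2000 + i) 20520) (cert.keyB (0 * 2000 + i)) true) = true := by
  decide +kernel

theorem key_1 : allB 2000 (fun i => cond (Nat.blt (1 * 2000 + i) 20520) (cert.keyB (1 * 2000 + i)) true) = true := by
  decide +kernel

theorem key_2 : allB 2000 (fun i => cond (Nat.blt (2 * 2000 + i) 20520) (cert.keyB (2 * 2000 + i)) true) = true := by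
  decide +kernel

theorem key_3 : allB 2000 (fun i => cond (Nat.blt (3 * 2000 + i) 20520) (cert.keyB (3 * 2000 + i)) true) = true := by
  decide +kernel

theorem key_4 : allB 2000 (fun i => cond (Nat.blt (4 * 2000 + i) 20520) (cert.keyB (4 * 2000 + i)) true) = true := by
  decide +kernel

theorem key_5 : allB 2000 (fun i => cond (Nat.blt (5 * 2000 + i) 20520) (cert.keyB (5 * 2000 + i)) true) = true := by
  decide +kernel

theorem key_6 : allB 2000 (fun i => cond (Nat.blt (6 * 2000 + i) 20520) (cert.keyB (6 * 2000 + i)) true) = true := by
  decide +kernel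

theorem key_7 : allB 2000 (fun i => cond (Nat.blt (7 * 2000 + i) 20520) (cert.keyB (7 * 2000 + i)) true) = true := by
  decide +kernel

theorem key_8 : allB 2000 (fun i => cond (Nat.blt (8 * 2000 + i) 20520) (cert.keyB (8 * 2000 + i)) true) = true := by
  decide +kernel

theorem key_9 : allB 2000 (fun i => cond (Nat.blt (9 * 2000 + i) 20520) (cert.keyB (9 * 2000 + i)) true) = true := by
  decide +kernel

theorem key_10 : allB 2000 (fun i => cond (Nat.blt (10 * 2000 + i) 20520) (cert.keyB (10 * 2000 + i)) true) = true := by
  decide +kernel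

theorem key_ok : ∀ i < 20520, cert.keyB i = true := by
  refine Cert.forall_of_blocks (b := 2000) (by norm_num) fun a ha => ?_
  have : a < 11 := by omega
  interval_cases a
  · exact key_0
  · exact key_1
  · exact key_2
  · exact key_3
  · exact key_4
  · exact key_5
  · exact key_6
  · exact key_7
  · exact key_8
  · exact key_9
  · exact key_10

theorem sort_0 : allB 2000 (fun i => cond (Nat.blt (0 * 2000 + i) 20520) (cert.sortB (0 * 2000 + i)) true) = true := by
  decide +kernel

theorem sort_1 : allB 2000 (fun i => cond (Nat.blt (1 * 2000 + i) 20520) (cert.sortB (1 * 2000 + i)) true) = true := by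
  decide +kernel

theorem sort_2 : allB 2000 (fun i => cond (Nat.blt (2 * 2000 + i) 20520) (cert.sortB (2 * 2000 + i)) true) = true := by
  decide +kernel

theorem sort_3 : allB 2000 (fun i => cond (Nat.blt (3 * 2000 + i) 20520) (cert.sortB (3 * 2000 + i)) true) = true := by
  decide +kernel

theorem sort_4 : allB 2000 (fun i => cond (Nat.blt (4 * 2000 + i) 20520) (cert.sortB (4 * 2000 + i)) true) = true := by
  decide +kernel

theorem sort_5 : allB 2000 (fun i => cond (Nat.blt (5 * 2000 + i) 20520) (cert.sortB (5 * 2000 + i)) true) = true := by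
  decide +kernel

theorem sort_6 : allB 2000 (fun i => cond (Nat.blt (6 * 2000 + i) 20520) (cert.sortB (6 * 2000 + i)) true) = true := by
  decide +kernel

theorem sort_7 : allB 2000 (fun i => cond (Nat.blt (7 * 2000 + i) 20520) (cert.sortB (7 * 2000 + i)) true) = true := by
  decide +kernel

theorem sort_8 : allB 2000 (fun i => cond (Nat.blt (8 * 2000 + i) 20520) (cert.sortB (8 * 2000 + i)) true) = true := by
  decide +kernel

theorem sort_9 : allB 2000 (fun i => cond (Nat.blt (9 * 2000 + i) 20520) (cert.sortB (9 * 2000 + i)) true) = true := by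
  decide +kernel

theorem sort_10 : allB 2000 (fun i => cond (Nat.blt (10 * 2000 + i) 20520) (cert.sortB (10 * 2000 + i)) true) = true := by
  decide +kernel

theorem sort_ok : ∀ i < 20520, cert.sortB i = true := by
  refine Cert.forall_of_blocks (b := 2000) (by norm_num) fun a ha => ?_
  have : a < 11 := by omega
  interval_cases a
  · exact sort_0
  · exact sort_1
  · exact sort_2
  · exact sort_3
  · exact sort_4
  · exact sort_5
  · exact sort_6
  · exact sort_7
  · exact sort_8
  · exact sort_9
  · exact sort_10

end Cfsg.Agent.JankoThree.Main
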