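import Cfsg.Agent.JankoThree.MainData

/-! Checks of the certificate `Main`. -/

set_option autoImplicit false

namespace Cfsg.Agent.JankoThree.Main

theorem point_0 : allB 1000 (fun i => cond (Nat.blt (0 * 1000 + i) 20520) (cert.pointB (0 * 1000 + i)) true) = true := by
  decide +kernel

theorem point_1 : allB 1000 (fun i => cond (Nat.blt (1 * 1000 + i) 20520) (cert.pointB (1 * 1000 + i)) true) = true := by
  decide +kernel

theorem point_2 : allB 1000 (fun i => cond (Nat.blt (2 * 1000 + i) 20520) (cert.pointB (2 * 1000 + i)) true) = true := by
  decide +kernel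

theorem point_3 : allB 1000 (fun i => cond (Nat.blt (3 * 1000 + i) 20520) (cert.pointB (3 * 1000 + i)) true) = true := by
  decide +kernel

theorem point_4 : allB 1000 (fun i => cond (Nat.blt (4 * 1000 + i) 20520) (cert.pointB (4 * 1000 + i)) true) = true := by
  decide +kernel

theorem point_5 : allB 1000 (fun i => cond (Nat.blt (5 * 1000 + i) 20520) (cert.pointB (5 * 1000 + i)) true) = true := by
  decide +kernel

theorem point_6 : allB 1000 (fun i => cond (Nat.blt (6 * 1000 + i) 20520) (cert.pointB (6 * 1000 + i)) true) = true := by
  decide +kernel

theorem point_7 : allB 1000 (fun i => cond (Nat.blt (7 * 1000 + i) 20520) (cert.pointB (7 * 1000 + i)) true) = true := by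
  decide +kernel

theorem point_8 : allB 1000 (fun i => cond (Nat.blt (8 * 1000 + i) 20520) (cert.pointB (8 * 1000 + i)) true) = true := by
  decide +kernel

theorem point_9 : allB 1000 (fun i => cond (Nat.blt (9 * 1000 + i) 20520) (cert.pointB (9 * 1000 + i)) true) = true := by
  decide +kernel

theorem point_10 : allB 1000 (fun i => cond (Nat.blt (10 * 1000 + i) 20520) (cert.pointB (10 * 1000 + i)) true) = true := by
  decide +kernel

theorem point_11 : allB 1000 (fun i => cond (Nat.blt (11 * 1000 + i) 20520) (cert.pointB (11 * 1000 + i)) true) = true := by
  decide +kernel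

theorem point_12 : allB 1000 (fun i => cond (Nat.blt (12 * 1000 + i) 20520) (cert.pointB (12 * 1000 + i)) true) = true := by
  decide +kernel

theorem point_13 : allB 1000 (fun i => cond (Nat.blt (13 * 1000 + i) 20520) (cert.pointB (13 * 1000 + i)) true) = true := by
  decide +kernel

theorem point_14 : allB 1000 (fun i => cond (Nat.blt (14 * 1000 + i) 20520) (cert.pointB (14 * 1000 + i)) true) = true := by
  decide +kernel

theorem point_15 : allB 1000 (fun i => cond (Nat.blt (15 * 1000 + i) 20520) (cert.pointB (15 * 1000 + i)) true) = true := by
  decide +kernel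

theorem point_16 : allB 1000 (fun i => cond (Nat.blt (16 * 1000 + i) 20520) (cert.pointB (16 * 1000 + i)) true) = true := by
  decide +kernel

theorem point_17 : allB 1000 (fun i => cond (Nat.blt (17 * 1000 + i) 20520) (cert.pointB (17 * 1000 + i)) true) = true := by
  decide +kernel

theorem point_18 : allB 1000 (fun i => cond (Nat.blt (18 * 1000 + i) 20520) (cert.pointB (18 * 1000 + i)) true) = true := by
  decide +kernel

theorem point_19 : allB 1000 (fun i => cond (Nat.blt (19 * 1000 + i) 20520) (cert.pointB (19 * 1000 + i)) true) = true := by
  decide +kernel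

theorem point_20 : allB 1000 (fun i => cond (Nat.blt (20 * 1000 + i) 20520) (cert.pointB (20 * 1000 + i)) true) = true := by
  decide +kernel

theorem point_ok : ∀ i < 20520, cert.pointB i = true := by
  refine Cert.forall_of_blocks (b := 1000) (by norm_num) fun a ha => ?_
  have : a < 21 := by omega
  interval_cases a
  · exact point_0
  · exact point_1
  · exact point_2
  · exact point_3
  · exact point_4
  · exact point_5
  · exact point_6
  · exact point_7
  · exact point_8
  · exact point_9
  · exact point_10
  · exact point_11
  · exact point_12
  · exact point_13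
  · exact point_14
  · exact point_15
  · exact point_16
  · exact point_17
  · exact point_18
  · exact point_19
  · exact point_20

end Cfsg.Agent.JankoThree.Main
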