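import Cfsg.Agent.JankoThree.MainData

/-! Checks of the certificate `Main`. -/

set_option autoImplicit false

namespace Cfsg.Agent.JankoThree.Main

theorem stab_0 : allB 1000 (fun i => cond (Nat.blt (0 * 1000 + i) 7344) (cert.stabB (0 * 1000 + i)) true) = true := by
  decide +kernel

theorem stab_1 : allB 1000 (fun i => cond (Nat.blt (1 * 1000 + i) 7344) (cert.stabB (1 * 1000 + i)) true) = true := by
  decide +kernel

theorem stab_2 : allB 1000 (fun i => cond (Nat.blt (2 * 1000 + i) 7344) (cert.stabB (2 * 1000 + i)) true) = true := by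
  decide +kernel

theorem stab_3 : allB 1000 (fun i => cond (Nat.blt (3 * 1000 + i) 7344) (cert.stabB (3 * 1000 + i)) true) = true := by
  decide +kernel

theorem stab_4 : allB 1000 (fun i => cond (Nat.blt (4 * 1000 + i) 7344) (cert.stabB (4 * 1000 + i)) true) = true := by
  decide +kernel

theorem stab_5 : allB 1000 (fun i => cond (Nat.blt (5 * 1000 + i) 7344) (cert.stabB (5 * 1000 + i)) true) = true := by
  decide +kernel

theorem stab_6 : allB 1000 (fun i => cond (Nat.blt (6 * 1000 + i) 7344) (cert.stabB (6 * 1000 + i)) true) = true := by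
  decide +kernel

theorem stab_7 : allB 1000 (fun i => cond (Nat.blt (7 * 1000 + i) 7344) (cert.stabB (7 * 1000 + i)) true) = true := by
  decide +kernel

theorem stab_ok : ∀ i < 7344, cert.stabB i = true := by
  refine Cert.forall_of_blocks (b := 1000) (by norm_num) fun a ha => ?_
  have : a < 8 := by omega
  interval_cases a
  · exact stab_0
  · exact stab_1
  · exact stab_2
  · exact stab_3
  · exact stab_4
  · exact stab_5
  · exact stab_6
  · exact stab_7

theorem hpar_0 : allB 1000 (fun i => cond (Nat.blt (0 * 1000 + i) 7344) (cert.hparB (0 * 1000 + i)) true) = true := by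
  decide +kernel

theorem hpar_1 : allB 1000 (fun i => cond (Nat.blt (1 * 1000 + i) 7344) (cert.hparB (1 * 1000 + i)) true) = true := by
  decide +kernel

theorem hpar_2 : allB 1000 (fun i => cond (Nat.blt (2 * 1000 + i) 7344) (cert.hparB (2 * 1000 + i)) true) = true := by
  decide +kernel

theorem hpar_3 : allB 1000 (fun i => cond (Nat.blt (3 * 1000 + i) 7344) (cert.hparB (3 * 1000 + i)) true) = true := by
  decide +kernel

theorem hpar_4 : allB 1000 (fun i => cond (Nat.blt (4 * 1000 + i) 7344) (cert.hparB (4 * 1000 + i)) true) = true := by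
  decide +kernel

theorem hpar_5 : allB 1000 (fun i => cond (Nat.blt (5 * 1000 + i) 7344) (cert.hparB (5 * 1000 + i)) true) = true := by
  decide +kernel

theorem hpar_6 : allB 1000 (fun i => cond (Nat.blt (6 * 1000 + i) 7344) (cert.hparB (6 * 1000 + i)) true) = true := by
  decide +kernel

theorem hpar_7 : allB 1000 (fun i => cond (Nat.blt (7 * 1000 + i) 7344) (cert.hparB (7 * 1000 + i)) true) = true := by
  decide +kernel

theorem hpar_ok : ∀ i < 7344, cert.hparB i = true := by
  refine Cert.forall_of_blocks (b := 1000) (by norm_num) fun a ha => ?_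
  have : a < 8 := by omega
  interval_cases a
  · exact hpar_0
  · exact hpar_1
  · exact hpar_2
  · exact hpar_3
  · exact hpar_4
  · exact hpar_5
  · exact hpar_6
  · exact hpar_7

theorem hsort_0 : allB 1000 (fun i => cond (Nat.blt (0 * 1000 + i) 7344) (cert.hsortB (0 * 1000 + i)) true) = true := by
  decide +kernel

theorem hsort_1 : allB 1000 (fun i => cond (Nat.blt (1 * 1000 + i) 7344) (cert.hsortB (1 * 1000 + i)) true) = true := by
  decide +kernel

theorem hsort_2 : allB 1000 (fun i => cond (Nat.blt (2 * 1000 + i) 7344) (cert.hsortB (2 * 1000 + i)) true) = true := by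
  decide +kernel

theorem hsort_3 : allB 1000 (fun i => cond (Nat.blt (3 * 1000 + i) 7344) (cert.hsortB (3 * 1000 + i)) true) = true := by
  decide +kernel

theorem hsort_4 : allB 1000 (fun i => cond (Nat.blt (4 * 1000 + i) 7344) (cert.hsortB (4 * 1000 + i)) true) = true := by
  decide +kernel

theorem hsort_5 : allB 1000 (fun i => cond (Nat.blt (5 * 1000 + i) 7344) (cert.hsortB (5 * 1000 + i)) true) = true := by
  decide +kernel

theorem hsort_6 : allB 1000 (fun i => cond (Nat.blt (6 * 1000 + i) 7344) (cert.hsortB (6 * 1000 + i)) true) = true := by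
  decide +kernel

theorem hsort_7 : allB 1000 (fun i => cond (Nat.blt (7 * 1000 + i) 7344) (cert.hsortB (7 * 1000 + i)) true) = true := by
  decide +kernel

theorem hsort_ok : ∀ i < 7344, cert.hsortB i = true := by
  refine Cert.forall_of_blocks (b := 1000) (by norm_num) fun a ha => ?_
  have : a < 8 := by omega
  interval_cases a
  · exact hsort_0
  · exact hsort_1
  · exact hsort_2
  · exact hsort_3
  · exact hsort_4
  · exact hsort_5
  · exact hsort_6
  · exact hsort_7

end Cfsg.Agent.JankoThree.Main
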