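import Cfsg.Agent.JankoThree.Cert

/-! Generated certificate tables (Main, part B). -/

set_option autoImplicit false
set_option linter.all false

namespace Cfsg.Agent.JankoThree.Main

def hT0 : NT := .node (.node (.node (.node (.node (.node (.node (.node (.leaf 5709001659880350221312270831439550521480314881) (.leaf 3467686097068342288485833129141176986984851132311)) (.node (.leaf 1510475492304724237280400871979590863178842853808) (.leaf 5278818827804596739752855308379684319402457843254))) (.node (.node (.leaf 3820238136209860239258494820281561446090103808336) (.leaf 5421198789273031098051278383442277904773141430449)) (.node (.leaf 4325334448858621357468627062204142120059381888438) (.leaf 3622813306202166893504024539164047979793338961222)))) (.node (.node (.node (.leaf 5045228298661776289838064516623561924183750896740) (.leaf 3856343865204661238735325530685760803235762015357)) (.node (.leaf 1828586980029378298573961157517750305568813734454) (.leaf 1443488146934292397139466330387067298724797418701))) (.node (.node (.leaf 2701676640190917640219734362611356787791250999955) (.leaf 3894545147641633429274443574040001163722580844968))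 (.node (.leaf 10860502979937665698456016131327559760439935025) (.leaf 0))))) (.node (.node (.node (.node (.leaf 1507229577050938061455472684269717192899219951616) (.leaf 928686507933821052148051684186120893189620296704)) (.node (.leaf 356814645438021644659080568674709944715444225) (.leaf 3621559980047055616476825578105551692932420496468))) (.node (.node (.leaf 5423027448451873865040067196849702971165625551882) (.leaf 4326186045637746449798552893944874433521003934892)) (.node (.leaf 443406708693244550064072957193629600464054283364) (.leaf 0)))) (.node (.node (.node (.leaf 2857857056247258191717456247142493120758696643594) (.leaf 5277533557096976171482735727599957092192747809286)) (.node (.leaf 206283465191068392389741361333820041829801787456) (.leaf 368587439402080513255634010886664736361519516684))) (.node (.node (.leaf 5437371656046029014706451280939485664785833897446) (.leaf 3238359086710534853329280969158050181677805290416)) (.node (.leaf 851691088165678309806516658534053635878600769871) (.leaf 0)))))) (.node (.node (.node (.node (.node (.leaf 2043341514598101854758153503751218580437453466899) (.leaf 4957928932273188412451488598486334932980743853661))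 (.node (.leaf 5201396598129841819008862025377003004368967219766) (.leaf 4054839447622847289029619914954978525607198324614))) (.node (.node (.leaf 2122999992837567531387028349922615844172042821806) (.leaf 5151826417234579705325632891699663873118509165843)) (.node (.leaf 725050158025579119024700044914426393276351844736) (.leaf 1896802824404901517029531198731657293881131826560)))) (.node (.node (.node (.leaf 1747008888121083025163894897510566557272381533744) (.leaf 5340436893251584608889395732229996184126068407919)) (.node (.leaf 5602495846864171642881739569536671178495530716086) (.leaf 3072558142523495648662622849164796452939959304375))) (.node (.node (.leaf 765564073671838356933855969315904452420379970886) (.leaf 2535097783924786358328796524290066551390067949903)) (.node (.leaf 228761308668647726829680116597217761287904232320) (.leaf 0))))) (.node (.node (.node (.node (.leaf 2386447462383264150206489571243412340356915760454) (.leaf 1567330215675837476555415339568012791082186178945)) (.node (.leaf 5564703183907137289714800330036744398988570526135) (.leaf 1792824226257447713220580506286172676492645087213))) (.node (.node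 (.leaf 2058439017437034340427539457074339566248246050945) (.leaf 3648692709851426390701112033889932138251368730624)) (.node (.leaf 4903496377023205108901669059975652161181364754950) (.leaf 0)))) (.node (.node (.node (.leaf 1977992146970009133765433702609367392901354945275) (.leaf 2435343240181854610083574330910820212093583854018)) (.node (.leaf 678538333065680455556643306331388754475345507321) (.leaf 770593615060731751543659972527507761776898979766))) (.node (.node (.leaf 5181315059971970048564578541407733387717669863472) (.leaf 1634045008705858328194350716417404171725962022663)) (.node (.leaf 1713668995594975609658710590955360702918374416657) (.leaf 0))))))) (.node (.node (.node (.node (.node (.node (.leaf 1668398156175700663983041522204953467809259319808) (.leaf 1003484963668553318123479249674476210354910969904)) (.node (.leaf 4536211800405946214276405230204864255612241314297) (.leaf 1690721353973602232400931470223683978867919555594))) (.node (.node (.leaf 2181182227987835953504942422721875319381734613888) (.leaf 790252127251605608037444339321039479844610203984)) (.node (.leaf 5827846860776348345664911562383301148848657967330)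 (.leaf 3214808627287759205056356759703798032315357518774)))) (.node (.node (.node (.leaf 3238008840405597533909310572320786679067184202120) (.leaf 3107548926922441427488542422262062754351699722751)) (.node (.leaf 1691323478147162051542118599516992222240652135876) (.leaf 4635834607683054836220837135875041913452930728833))) (.node (.node (.leaf 4345199594198021493554674617437034895686854180999) (.leaf 1824084078357477405201549913013361529629635576577)) (.node (.leaf 3182234377888316761286166258264220991166519643517) (.leaf 0))))) (.node (.node (.node (.node (.leaf 4076473927870136176178713153077929291696063409259) (.leaf 4619583853962502238217108293107874173365599801736)) (.node (.leaf 49856086923257414505606204879670709015334231424) (.leaf 3072554348713886273327882817063391086046377242423))) (.node (.node (.leaf 2643411510742377664349188486293012477610253877297) (.leaf 3399021797259192863309480743657432775950123600771)) (.node (.leaf 872933015428760496685683887315787867782169831205) (.leaf 0)))) (.node (.node (.node (.leaf 2702325234642228319065872668067060156765385574482) (.leaf 3111327244982207746935079613578573480275847312572))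 (.node (.leaf 5284449314400465981974339889020626779444026281085) (.leaf 1616722512525494725754841817199203152809858927042))) (.node (.node (.leaf 1958066605531504999666523131686520603891262614646) (.leaf 770596506862487044357265469346891089623538129627)) (.node (.leaf 1116824885786818722985507372923017996078198317073) (.leaf 0)))))) (.node (.node (.node (.node (.node (.leaf 3446845048599472778944078848277524477190032865322) (.leaf 795158300894325398012445658666129194815602035770)) (.node (.leaf 3694082429799508265030612483249254600135265223167) (.leaf 5497220858744218924732041971379487662349377601585))) (.node (.node (.leaf 868840266531846670158274630593523481471207866438) (.leaf 3720263438030073015214288361252459632776165154977)) (.node (.leaf 5318219463304693869014054862543630299514314148912) (.leaf 0)))) (.node (.node (.node (.leaf 2974311463907801882671958725559746095992482752754) (.leaf 856106655792658310424882448880649951335884456254)) (.node (.leaf 5621424261850065156624955458962850623085748436016) (.leaf 723349738188525767258819589399900052124391730604))) (.node (.node (.leaf 394634869457242348700162870955207917470447763696)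 (.leaf 3933588472121443528250557393335766550747727503408)) (.node (.leaf 189468537254475361431947074075772619633505337345) (.leaf 0))))) (.node (.node (.node (.node (.leaf 2569149757118620167734480556791728326279877299459) (.leaf 1370029197374354229735207314352336770406124842131)) (.node (.leaf 1567000419177672517763373906113326367704738280368) (.leaf 176065067382827396319230710019525238274650734775))) (.node (.node (.leaf 1633027907260237840972618218101900399904977472438) (.leaf 2946603224814755052566571899217738145831800733936)) (.node (.leaf 846584199493485439790222774918335014148593680398) (.leaf 0)))) (.node (.node (.node (.leaf 5623809020624069806521024796465657112998289653359) (.leaf 295884063716168754270866444214495503260595180464)) (.node (.leaf 2979617851155511982052865838030733357987061882416) (.leaf 3461060328477216747199068048221327718604610364288))) (.node (.node (.leaf 3111696852428606684398515658438199546040650301951) (.leaf 3461263431554265765460612744493576764219558262278)) (.node (.leaf 2676268728865567218305204003673154911872228253232) (.leaf 0)))))))) (.node (.node (.node (.node (.node (.node (.node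 (.leaf 2470960274722777797388127854148412424798811466275) (.leaf 2237053635471295101590556626248764928025397944688)) (.node (.leaf 997427644765915570318949031253989703734938766602) (.leaf 3692833616043379975319448123351844298948863290708))) (.node (.node (.leaf 2162673095023156394801126802421334901963906313581) (.leaf 2010849157417514597330736455334001533782816129281)) (.node (.leaf 3521933459567984801288236217329009034131268574592) (.leaf 4190009003436187426260123684319854182444349294598)))) (.node (.node (.node (.leaf 2213099063143327858218389555967217897615806736482) (.leaf 4965933989493899665420671944707417641430230963206)) (.node (.leaf 581491064355332783692108323210033553449235780620) (.leaf 2856318321416309175127673258242272831183655796854))) (.node (.node (.leaf 2470960549792341097912413268095402955467731528725) (.leaf 3878711688826957671862324954772889759640423784481)) (.node (.leaf 2081530457719058673149992679853307652630092317568) (.leaf 0))))) (.node (.node (.node (.node (.leaf 5319886320680517261283141474349785004415813217398) (.leaf 1491996839658238399448225569961949736719424470639)) (.node (.leaf 3280161527686633079193048230543096584522040542081)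 (.leaf 1108261366963349146509327273955466578771724754961))) (.node (.node (.leaf 2951956796380251841850915130859745107291680296471) (.leaf 189117997426167354858339180724870865890979086848)) (.node (.leaf 2040850279164204028938954456894072310639783664054) (.leaf 0)))) (.node (.node (.node (.leaf 1442383301895563416298169777019709161462119074694) (.leaf 3918025378563297596176849195265540999903307495302)) (.node (.leaf 995174988258826082992440055555118394884917354608) (.leaf 2900881664876682786146236513398259892843881699338))) (.node (.node (.leaf 3319134260953903391780633584743907211376632919942) (.leaf 1793484339536403629155684215200369369947500134960)) (.node (.leaf 1932219330707518969368509208238035669514928044598) (.leaf 0)))))) (.node (.node (.node (.node (.node (.leaf 3397853142491622064405450783374354943812485993526) (.leaf 1754524103873199108758936630066512078311066460640)) (.node (.leaf 1539382320094764670312662829179229705523369378822) (.leaf 183179715367856376595052420672636026960358670721))) (.node (.node (.leaf 679822855856807895090170786868344395596695425456) (.leaf 4143901319643921534491977162210261149027142278414))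 (.node (.leaf 3748968318015366493508287304316662544999369169950) (.leaf 4438667966056354939206257498480643661746320706628)))) (.node (.node (.node (.leaf 2180923791731051385799822731317562596073447693582) (.leaf 1494963163235436406650931744004469948113317425024)) (.node (.leaf 5577566770181927950773513595524828359918581620431) (.leaf 725539122510558648305307391963799273692793313158))) (.node (.node (.leaf 46519443361679737300117150574572624881899536448) (.leaf 5499868297066223859807907449475474184467797208576)) (.node (.leaf 996789353078955948092735436428281624216001714314) (.leaf 0))))) (.node (.node (.node (.node (.leaf 846738962779420028306572108869819494306689419654) (.leaf 750203750980221513067312663607752838779711327110)) (.node (.leaf 3672249827874971051505454643197758632357831336297) (.leaf 4938371918843230841162701312647168032515823374472))) (.node (.node (.leaf 375542067869495669032236370665388211744600695713) (.leaf 825653693206671054927625621195113878306762758093)) (.node (.leaf 2640814678771776700290663218728266046499334780806) (.leaf 0)))) (.node (.node (.node (.leaf 108476400608242503669227926948874932826947063944)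 (.leaf 2996267100422374329521947876269962396764065172852)) (.node (.leaf 1006633912380293251342921538071174184592598598662) (.leaf 1698838810479472060027159390835831509607695188225))) (.node (.node (.leaf 5338680680940840993228459635382857320646880017456) (.leaf 1182841601811849305071081888440282590462600045056)) (.node (.leaf 2116880974325856241738919004461896278843176434614) (.leaf 0))))))) (.node (.node (.node (.node (.node (.node (.leaf 5915664679851545314109619358792171127245574536) (.leaf 3977737473836712609079648303103819648647248162352)) (.node (.leaf 3957871419394081670935843016318465260157881155456) (.leaf 1512888151408318358131133273503864005522253680648))) (.node (.node (.leaf 177074069365310374545035380829826839282302914944) (.leaf 235675776137318185757623221258209068483389645136)) (.node (.leaf 2923209949336448108700922776696717321059160953216) (.leaf 1319586064071755418579439470081408574937859093497)))) (.node (.node (.node (.leaf 2311264940900034267558863976573269775768207635628) (.leaf 2954163175247549481395762276607275756898925699089)) (.node (.leaf 4118479994176325476110118545229638920233847609910) (.leaf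 3460971090303126617058210501820713658878471921944))) (.node (.node (.leaf 4677532942768527516140754021349492365036417674477) (.leaf 4055801217397902011195706359268773672930559680992)) (.node (.leaf 5128632266552811790140475613668574431437475258416) (.leaf 0))))) (.node (.node (.node (.node (.leaf 26292778080639287168228548276633101774693884327) (.leaf 1109841455099402089268496394516753046272935947776)) (.node (.leaf 822139452838851091554044676657205321648442446860) (.leaf 3318091042196527104028499825775491058099000713761))) (.node (.node (.leaf 3626169740017158702427986975059781723467782239286) (.leaf 2256225104203914113493276193681159036878925557018)) (.node (.leaf 388301448455074644436228779511167266389860810816) (.leaf 0)))) (.node (.node (.node (.leaf 543901370740521232750062139891119770096649232752) (.leaf 22836137308033375136783546313644255553022623744)) (.node (.leaf 868773661101773491858465311863837769563113758768) (.leaf 3692843715182462985106153679266960143312684959158))) (.node (.node (.leaf 2317418711459673022980208655708438745560970169412) (.leaf 3438555312799613839963791984449623275001245195099)) (.node (.leaf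 3184227578089682044612840477778771359859353886768) (.leaf 0)))))) (.node (.node (.node (.node (.node (.leaf 4749897777810862071656510517226444901500164505670) (.leaf 357783272732413562860554439403881432298816415397)) (.node (.leaf 2493261475608975558470404898610161009961342364700) (.leaf 2543730350845177479935452612618460325364497466129))) (.node (.node (.leaf 3793387873102327405324009367727279628058094428440) (.leaf 2625695747267153347244963066275922676605717519360)) (.node (.leaf 1109844982636687933561881215647956811994017263543) (.leaf 0)))) (.node (.node (.node (.leaf 5465814795838619786483212808540627799218449431984) (.leaf 4142246202922391414225865301943061428246730653104)) (.node (.leaf 2885911592375190874983222659319075024744600366198) (.leaf 699697689351795919922584840744307002734369450659))) (.node (.node (.leaf 4943204559969682417106150896648508025177699495398) (.leaf 1539387263928963571770827747268177768980656950340)) (.node (.leaf 821540278883061597218061082799190984754807202193) (.leaf 0))))) (.node (.node (.node (.node (.leaf 498499552743029048080645020084548142471242986934) (.leaf 4038584856545463399358297740981702113649170514055))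 (.node (.leaf 2954866956525401757601288895084751719720204960513) (.leaf 2888323992932015367234931084424270710174212584636))) (.node (.node (.leaf 2056208809531792736981310769491569812163399591862) (.leaf 549716683544768039074646672568921321732545608894)) (.node (.leaf 4595217371723488378946900892079604508223731977302) (.leaf 0)))) (.node (.node (.node (.leaf 5831185961808398642201683476673498821295974996250) (.leaf 4962782257519369871750868019580944421915877903674)) (.node (.leaf 1214480319969839135473803308869586228253694889018) (.leaf 5617781024675066052869262111969573495292504607814))) (.node (.node (.leaf 2234196562349431354787825694190280385971629962160) (.leaf 1376877070759687459136068608730338243750434047621)) (.node (.leaf 3496721054735173990865947956876594906631728446390) (.leaf 0))))))))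

def hT1 : NT := .node (.node (.node (.node (.node (.node (.node (.node (.leaf 822183967216962282184648768479563543013920639042) (.leaf 3420606479769153939112056728529928711252173937694)) (.node (.leaf 1156796109278417390452235494048748217239446162307) (.leaf 1135245463976660848009540051168283050062923721756))) (.node (.node (.leaf 4927077841377753181119205592359549319631095164141) (.leaf 677722326294781423233700025629888943245731237106)) (.node (.leaf 5620878892750491036838151238196378869496565137606) (.leaf 3214815988084472340659295175879380914836760541037)))) (.node (.node (.node (.leaf 4102732449929237333632801007448460016621257770550) (.leaf 3115719427482127488184982056837479764469943806390)) (.node (.leaf 4556222164925654891003238007875904762332419064449) (.leaf 4076465302805875837712117408907311099527989876317))) (.node (.node (.leaf 472197093522760011751746546797859882657939393802) (.leaf 2863782808763284310988246705407854139310113875974)) (.node (.leaf 4117886019184619883628248448603169683538620573044) (.leaf 0))))) (.node (.node (.node (.node (.leaf 3938221242845977141047301933968484662010445588021) (.leaf 3111331444938612481886726541354747659823788423558))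 (.node (.leaf 1932375131622578522494987611336907544702612374534) (.leaf 704890468827538485630098500180171786102294961712))) (.node (.node (.leaf 3294133158634821107862356866839597659951647875456) (.leaf 725334496939912487449033750017332845621664812491)) (.node (.leaf 5155792053563837616120256542914943658668325881398) (.leaf 0)))) (.node (.node (.node (.leaf 1394961616329732761124507452169693817217293512090) (.leaf 3581240884100478727416291052731984609526663753896)) (.node (.leaf 3526923957679137089211434135443275650186891266054) (.leaf 5582096913910460002779049972951005048976690358754))) (.node (.node (.leaf 2884216481102460692396743940498885036331348003906) (.leaf 4575685048633517982375176300577753766371207700903)) (.node (.leaf 2841346868310288185073172176044438671415686822278) (.leaf 0)))))) (.node (.node (.node (.node (.node (.leaf 979602300460902337468168731931142788797588202368) (.leaf 1612835169722272311366613091684176065941580883894)) (.node (.leaf 153139727604612787966756293526423472214109258063) (.leaf 2676515651062768432212258534979749028291750758790))) (.node (.node (.leaf 128866666788484480367421411127308654038229085062)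 (.leaf 5780709813902747547323152604503452253696207290686)) (.node (.leaf 4057838832989711096110180149773754511672040826806) (.leaf 5497763727092056282131802941752625022492333335089)))) (.node (.node (.node (.leaf 1986135419137186239068762159394757018074777140272) (.leaf 3983195721676595054980852274747418323441952524294)) (.node (.leaf 4645777908882613829711563806397216622679751222065) (.leaf 2184960400298997117566497819261076980712678059520))) (.node (.node (.leaf 47277673228395056964671774182726786475041492034) (.leaf 1183462801738151447808701171993712449312198814720)) (.node (.leaf 4777127146248623054452369837623775982849062562963) (.leaf 0))))) (.node (.node (.node (.node (.leaf 5802635432382118350188560362612016114200050642406) (.leaf 3628633124042157226610776432543730027716189724544)) (.node (.leaf 4829380857395096134334710827460810502669888162886) (.leaf 5254967584287758799090609523297035326818464066667))) (.node (.node (.leaf 5154667535822274823519377244281305605991216968192) (.leaf 1715118549626328711425289061500118080709404134410)) (.node (.leaf 437398348323176429732873225078339528531085828656) (.leaf 0)))) (.node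 (.node (.node (.leaf 4826411889268155388165898392943673483148688911444) (.leaf 4739066456611826355049433011364500768538359419609)) (.node (.leaf 5090855710280114655964407983916617374984920301832) (.leaf 4488645999728319144683010004684115987685874243462))) (.node (.node (.leaf 3471401568165094796404122597482036687787393645886) (.leaf 791399748139898042058490398078399415585755771048)) (.node (.leaf 1793740429670130277161145576688278762670101842835) (.leaf 0))))))) (.node (.node (.node (.node (.node (.node (.leaf 4882001752037019110770156343382295445579581867062) (.leaf 3649123220467261481738713642350457064404919876926)) (.node (.leaf 2928913375810008065954929566794297787716385444224) (.leaf 2645479807326439652448342769927357666888940611381))) (.node (.node (.leaf 817306680915500611647838487962759524161780475445) (.leaf 1532953421133087666333956758485897405538790281216)) (.node (.leaf 5196048887370240174563327426075767043022093836711) (.leaf 1176186172065159854914397778605518357566586318775)))) (.node (.node (.node (.leaf 2162663317253651522459709372122346413384076736438) (.leaf 49096988762732587134175629312845295696552263552))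 (.node (.leaf 1031436501695634746226227211385970158171354590620) (.leaf 2946558623656633922121741136732231904875925496288))) (.node (.node (.leaf 4934595834976839638627654051875973155569048951808) (.leaf 2570376300288174155656269674068567577050283508217)) (.node (.leaf 2281197837787062799810417887619004150632639415350) (.leaf 0))))) (.node (.node (.node (.node (.leaf 388570452023716804533735575769704727931399733248) (.leaf 2625593012774635648894322864499683511954527682743)) (.node (.leaf 5422738708508641978592765615129614543691392312192) (.leaf 2391079179080137341567336216579931041971740796148))) (.node (.node (.leaf 5383198111125842518111023569646832252250545417493) (.leaf 2389551963019836484590604187452765140506914410928)) (.node (.leaf 1158046847508466033480034093644176177682223726080) (.leaf 0)))) (.node (.node (.node (.leaf 2698223639775585177151196734243932237124000266221) (.leaf 4965948939121607845427389026159783755909178330508)) (.node (.leaf 4321583217857606060209651486936599917019258683406) (.leaf 207420805217537074358024395200251700322321326160))) (.node (.node (.leaf 4943202004624393590505447547780634898393985737174)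 (.leaf 3113458613936499346155897254118572752488386199792)) (.node (.leaf 2540522420668990202305273861424711153671176012720) (.leaf 0)))))) (.node (.node (.node (.node (.node (.leaf 2951637703908720230791022355928306011915755733552) (.leaf 25835675005614750550570232265750660434201153544)) (.node (.leaf 1792725241392135982508727699379106669457926651776) (.leaf 2657419714396504616602014977606554151636325149744))) (.node (.node (.leaf 3295047186446798274252724344706134899792837891126) (.leaf 1830291568658761014235584694471265523332432397184)) (.node (.leaf 4058098218730905912552718446215912701366132801648) (.leaf 0)))) (.node (.node (.node (.leaf 10503692417890879279732032905861366823626735734) (.leaf 4060099382227718288455094366646238909002403461046)) (.node (.leaf 5383140543610286730138150769741897680065004644278) (.leaf 1612846125023367369118806904736048967756781940005))) (.node (.node (.leaf 2462132083880224557625180891023673983197928182838) (.leaf 5621592515228803905824766352027922638436747971980)) (.node (.leaf 79078745559343675662629190521125511920943300913) (.leaf 0))))) (.node (.node (.node (.node (.leaf 744334805001781538308229094611466981723346067473)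 (.leaf 3897052809792292163190819246751559539895670531462)) (.node (.leaf 723358713898598518628963485250892747400532145206) (.leaf 3437416537380006917063732560413349778255650625674))) (.node (.node (.leaf 3792043514258335962595549422398588701098465233795) (.leaf 4594831764015911987391760789204162862429555086390)) (.node (.leaf 5130140632636339378329111573319788007006078714416) (.leaf 0)))) (.node (.node (.node (.leaf 5036290092570260927557625073171746329371830823138) (.leaf 5807225320053565360071310273302497286275631877442)) (.node (.leaf 3398907851080546684274586827017268455572097666429) (.leaf 2458335787937724931822232459497609486751735791215))) (.node (.node (.leaf 5319952921765879460524207617236602092934381461990) (.leaf 4962084861468822371178257141427118226026978396214)) (.node (.leaf 2954464236410011487616464447831878705143642374224) (.leaf 0)))))))) (.node (.node (.node (.node (.node (.node (.node (.leaf 3461257210427128954113728399815509025944907872891) (.leaf 1370041228461356201252636070138930958701342378934)) (.node (.leaf 1799342403054793907492289338442517332267926753672) (.leaf 2616382818193597479065463172590139033890792107301)))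 (.node (.node (.leaf 972116099134688283690894162323978955158245367888) (.leaf 2882365484109862945031146885851279937268703060447)) (.node (.leaf 5181774275057625149500136684653993813445959440794) (.leaf 2003268430417039930701576789156289808842388032147)))) (.node (.node (.node (.leaf 2461072899545442239860462368699266466529618477136) (.leaf 1381105893122936421180174279285252574821788162058)) (.node (.leaf 5755065721364822949584116689889045202325754295724) (.leaf 5130149904491575229839267353190569517186713411985))) (.node (.node (.leaf 4058107751218719983155756413163583695550796324864) (.leaf 1213778756775122766360248923135712296476195347382)) (.node (.leaf 2497946093250452503060753988027644341877924426745) (.leaf 0))))) (.node (.node (.node (.node (.leaf 5643358215754241411667926667051885969671485393986) (.leaf 928562685424903630675298695732347112387545361643)) (.node (.leaf 520128222213869831542126241118537503641353195904) (.leaf 3627108555071618911053948730844236190753449190320))) (.node (.node (.leaf 2139627821337396287534086454246466759482395167110) (.leaf 128866425270762688056061392585235785126250899253)) (.node (.leaf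 2934181554762867865571223585804654340461574753676) (.leaf 0)))) (.node (.node (.node (.leaf 4597329626868294169077268105589978006665071216722) (.leaf 3443732430078850841899365052540239788046644612234)) (.node (.leaf 549718776600406497175917738285265972185533611392) (.leaf 996790981162272796167511636584310762923463873926))) (.node (.node (.leaf 1935688634989133742277835658919741227118068541538) (.leaf 5419535938413769214838937559173052520961900495761)) (.node (.leaf 23908489930712873260389471087789244033362067520) (.leaf 0)))))) (.node (.node (.node (.node (.node (.leaf 1117822507965852443826619143724692060933443924841) (.leaf 3111691764589836675219359554912584485448597372416)) (.node (.leaf 2882640523708441181436828786220458298950669672320) (.leaf 153155189233366423308450805336083292219245961088))) (.node (.node (.leaf 1690722113661620357852343763916979611047070013446) (.leaf 877738296116759129078841427363963441885575671212)) (.node (.leaf 4618502555522544661798594176523644932906589121636) (.leaf 232185474672023572487618135729745462887870582679)))) (.node (.node (.node (.leaf 1489165895225736364556260877662321920067648646572)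 (.leaf 4514778973850705921708449597076870240593134991341)) (.node (.leaf 657584570491973693762086699187720175761237672072) (.leaf 5495213798758517902763572265969219122583622847810))) (.node (.node (.leaf 1317941710066562905259271572574741877540226120246) (.leaf 1820212464326164687055488483095998889462464562230)) (.node (.leaf 1819029951598094265284553428201543951101776741814) (.leaf 0))))) (.node (.node (.node (.node (.leaf 4904386888028551532529295575450930245495179941837) (.leaf 3357340431160164547176237297586247337979174462000)) (.node (.leaf 1058131440247536552156164560101331894695662690352) (.leaf 5699289505644306951610154622081629848681892310444))) (.node (.node (.leaf 5805062133401369540647226446313625679457589423514) (.leaf 850164172536748969756550391489880807047114455803)) (.node (.leaf 5129101784417334939805197942585880391212707548298) (.leaf 0)))) (.node (.node (.node (.leaf 1592686346813076427497416547626968903661969739204) (.leaf 2641370411016900887834165080900183254696202226614)) (.node (.leaf 1510486727046057214086886897879073099646379634856) (.leaf 130348453123976967487078250466577245452452782559))) (.node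 (.node (.leaf 3649458384987384161984723251749884513684526144910) (.leaf 4288993101850120405830693052555172722238875685808)) (.node (.leaf 5284446819754757812858949232525788253082479032955) (.leaf 0))))))) (.node (.node (.node (.node (.node (.node (.leaf 192586320025032582341945119060563857744716424308) (.leaf 3791068188828473123094520693249924694156772391984)) (.node (.leaf 2310563032047492568689812105589649278085451899776) (.leaf 4102521396646592415892865016956109965126365897190))) (.node (.node (.leaf 2701689606568286870194980199176098220552428005302) (.leaf 2315567756327788514518169519425785196229146143981)) (.node (.leaf 3342876708741414435773435870129616870431024723949) (.leaf 25824459120689677279875902989648090406825754632)))) (.node (.node (.node (.leaf 2035915349346679354148646856502084689576252632211) (.leaf 4179349122186492216290051476608915299732143817648)) (.node (.leaf 1698844486028757020012426660710718326339992158849) (.leaf 3597317444320557195615675089219385360511032449462))) (.node (.node (.leaf 2253011647781626293566805003459155459275124969223) (.leaf 3720272615914767893811216826161345642019985376017))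 (.node (.leaf 4966135086271408177561603794062865356956048867376) (.leaf 0))))) (.node (.node (.node (.node (.leaf 1469673401362286427889010909683744073582516929604) (.leaf 677733154223882387997437476549527740820831987060)) (.node (.leaf 3975162638878372985015875290501842276373285503216) (.leaf 2433249165931006061564202999530615359860210080768))) (.node (.node (.leaf 5679137853508774488063356955445281007050016250294) (.leaf 768116289424401852363673779054896927943163072920)) (.node (.leaf 174425475522369442878921833711266187334297921462) (.leaf 0)))) (.node (.node (.node (.leaf 5209384773989657887004123164443348365767904619932) (.leaf 2258927312484983713741980146379268446971230683135)) (.node (.leaf 3600244168220821613950308234794960821188332355583) (.leaf 316955007276699400164681041660861302241781535449))) (.node (.node (.leaf 1981991089149305519836431628390364948667824078966) (.leaf 3110492647300725050962295198667703487352619950497)) (.node (.leaf 2996276696471188363677055878605090232945973324018) (.leaf 0)))))) (.node (.node (.node (.node (.node (.leaf 1634098934176684948828672400453213016805608718465) (.leaf 3066767024425289931555917813221584816747250176))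 (.node (.leaf 1772478091260490412612910109406295614272988563510) (.leaf 3540139737294096601271061928411225212340110844134))) (.node (.node (.leaf 3399015834831393845644661654393500838705749231110) (.leaf 3395950827843240468559583062583614206653811274924)) (.node (.leaf 3400758825437303478323950001479977374668134747506) (.leaf 0)))) (.node (.node (.node (.leaf 5803005713790297772676471889314562535242448971318) (.leaf 3177014264752873107982944233901933510441275582261)) (.node (.leaf 3241477792471128350348628162878932749577434704419) (.leaf 3476982068322160196315621523454600292558066842814))) (.node (.node (.leaf 229163244627168311846992738349103512694136967560) (.leaf 2951436408675755098536810577258048677158292363654)) (.node (.leaf 1005546003734187086921074692168214265644873111606) (.leaf 0))))) (.node (.node (.node (.node (.leaf 1903400291726074209058803303578390342050109672339) (.leaf 2441673217466323684996691896846378485590538263552)) (.node (.leaf 3341706134979217158914647373106026721372521628153) (.leaf 1492164224026733855295340592215877145084447293312))) (.node (.node (.leaf 2011509428368336844030507495470087932891434719370)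 (.leaf 3340457288428259081931173322982712647640794295717)) (.node (.leaf 3105787165074398884670408383433870921215376559363) (.leaf 0)))) (.node (.node (.node (.leaf 3316974687073196815165356960025190227163685872096) (.leaf 3791573499918425642088035309978791128235503379828)) (.node (.leaf 678025961075621750855242563313492526760066382214) (.leaf 437385500782323056423094402723446856326399943073))) (.node (.node (.leaf 680180363306342552685842153685329588518214116918) (.leaf 2538261659322932402069294686454953159173287811915)) (.node (.leaf 3582310569306449176536495847359072668928776274110) (.leaf 0))))))))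

def hT2 : NT := .node (.node (.node (.node (.node (.node (.node (.node (.leaf 3415678194193511139187142666083648325627305725194) (.leaf 5314243941820293624164436727654747489092206002318)) (.node (.leaf 3460971212387059724400985287655007518337083986352) (.leaf 2595343677831253446769831788543169026789208803382))) (.node (.node (.leaf 1259918868202605977427901544976150963876556969990) (.leaf 3875214973347546717719958014938386650621361904475)) (.node (.leaf 4100224990869074118661636873020159810085693956656) (.leaf 3738801617274676603164603485394679486829202647715)))) (.node (.node (.node (.leaf 5284433138215721350888550866935596611255767201286) (.leaf 5560601826611715008708164397166278386838542273622)) (.node (.leaf 4038473544041214955714201588057457944923634647023) (.leaf 4116682381004295326809277942069338007628293803187))) (.node (.node (.leaf 550831639966432143367495937221693700841806793728) (.leaf 4100217208337492462996695565798559632946686345745)) (.node (.leaf 3517437404286172070908084968901359710791350815882) (.leaf 0))))) (.node (.node (.node (.node (.leaf 1510485314057880810906028705694516552341977784600) (.leaf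 4965951233300180060207402396449656734321473427850)) (.node (.leaf 1003471153775542925054625887049235336702530445392) (.leaf 2112684817565324536483224392277362448000584188801))) (.node (.node (.leaf 5623818315117912725263778469073718814025198657072) (.leaf 3720419543510678918640310572783508996827029704139)) (.node (.leaf 1241374916140051466251256999252670050908548066539) (.leaf 0)))) (.node (.node (.node (.leaf 1318299217516097580181448722542970516084869709232) (.leaf 817443236954070023420176619728399907127979617840)) (.node (.leaf 3261783971059196038552759523180574521906503285499) (.leaf 4802030887922559701525874431616594201056380224518))) (.node (.node (.leaf 4822163289017951865629485106559005750586641007670) (.leaf 2974003540744527602845624655144942775835019980336)) (.node (.leaf 5621585131098077762132840632391112103112630802826) (.leaf 0)))))) (.node (.node (.node (.node (.node (.leaf 5281327232970046626806145729437482877460671393243) (.leaf 3048936248151648428708359598880434464828809941128)) (.node (.leaf 229519970777920359754844049696542050434250051968) (.leaf 5577557354225777598815087406746241638405630697344))) (.node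 (.node (.leaf 4105815648900093921380952315896376717804428916230) (.leaf 3029485131708985493432945708699430109419741820854)) (.node (.leaf 358877778285581272658617081138061706964287232390) (.leaf 5195558272847425339728376033976480142451459514448)))) (.node (.node (.node (.leaf 2017647229310260775335500032515320341775165234446) (.leaf 1936850625780500270610647334322274371944825683711)) (.node (.leaf 3103690164702687354943342464865746730966209555540) (.leaf 3420450536148423891433936522472833679575375940666))) (.node (.node (.leaf 766949420319837121199768362321297083241294774352) (.leaf 1669338448642790567469473167893102911766585244038)) (.node (.leaf 3072984503132178392227248471401659558499218126854) (.leaf 0))))) (.node (.node (.node (.node (.leaf 3297662087860779042404633396714063194510478806082) (.leaf 4823459002236326304398377559620598487888659882928)) (.node (.leaf 1827691742717883803687335695896309183772077878300) (.leaf 3793187162971381998102076108577781547529206522342))) (.node (.node (.leaf 1061356009013334652080546383854575701053033399350) (.leaf 3926793395581645620883080082134377077542700376448)) (.node (.leaf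 5181328869927332787496254701988333505216776020064) (.leaf 0)))) (.node (.node (.node (.leaf 2393122223541240695222684590273362719417341749474) (.leaf 5604449618152562582500070567507556873093517876224)) (.node (.leaf 2754110548785355852029542302982012377963019557814) (.leaf 4032092600540320280244635342151448694564873250358))) (.node (.node (.leaf 2679489271745102669460572190107665281331612947724) (.leaf 3254883850393244837594090598839583141000332644744)) (.node (.leaf 3547655083973071825469340735187456836093066019121) (.leaf 0))))))) (.node (.node (.node (.node (.node (.node (.leaf 2475468335520901274442146805049568209499338483938) (.leaf 2331891821847734704278674761799659146962582596843)) (.node (.leaf 2161902734224556881673400550097307813528628189622) (.leaf 2701683490430360252749655621985303876454343208229))) (.node (.node (.leaf 51945796748196413374056723523604632408871253869) (.leaf 750206482195756353609467840843098667094289811077)) (.node (.leaf 797428339549577568759739691406582272555409640832) (.leaf 72780991811681701586150134574888548420260163072)))) (.node (.node (.node (.leaf 2459988543255563119914640834421799104789733113998)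 (.leaf 419477821513631011052506619940301910372046627239)) (.node (.leaf 3936105025031664893507095495023195946260127470512) (.leaf 3295164385342749419776983008488072028864977567745))) (.node (.node (.leaf 4081290903115873104197016313724906078354427543857) (.leaf 1723164902396186596789331745059643810595330442678)) (.node (.leaf 3178875113839980380991487912026574725856330307165) (.leaf 0))))) (.node (.node (.node (.node (.leaf 4116678464437995702171147435092540810606783916934) (.leaf 2863075444340287577457337913568926704449833664526)) (.node (.leaf 849293441646961614056007967421863729144421249336) (.leaf 4572919751286700610162705989613407550801738465281))) (.node (.node (.leaf 4859724138638297603539800897714273782698701917568) (.leaf 3952275198907969816773797518584119403827304026520)) (.node (.leaf 4034269249674032068112888192950897797667142741040) (.leaf 0)))) (.node (.node (.node (.leaf 4701707099494044227880681946976161452679964066049) (.leaf 1181371248327111963140140759699867902243084398080)) (.node (.leaf 821554614896430990358157975317589921358030258736) (.leaf 2391881803523288625124388042804738782394868067740))) (.node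 (.node (.leaf 229163942652474952855742187172714887295320719752) (.leaf 2273197020207948358300893220035975787880416880566)) (.node (.leaf 3113454881793126375793741550239088491589032927616) (.leaf 0)))))) (.node (.node (.node (.node (.node (.leaf 3620348551194876853423492310229647253626598072993) (.leaf 76993062049742890886045689507538589547346731937)) (.node (.leaf 4064210760145632760788287650931225866897826407296) (.leaf 51833988172611515697462737423532333529494849157))) (.node (.node (.leaf 1116025962135326145978936875483059441610165981056) (.leaf 5542915173201625437501549646629899623768282325353)) (.node (.leaf 4592369991319154707684444990432053835510786053174) (.leaf 0)))) (.node (.node (.node (.leaf 154856866970119766839005212213470131119750581562) (.leaf 5318232058366969858395395714214008311322518990310)) (.node (.leaf 2317424911976957440329833211170146157355860789314) (.leaf 1956256083465179413343654931434447601104414075925))) (.node (.node (.leaf 1194549319716947226604997434738224051037015778224) (.leaf 4393174326866759766457028453701341257165363478536)) (.node (.leaf 2499185011755848192205403001603316906385693492790)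 (.leaf 0))))) (.node (.node (.node (.node (.leaf 3903957606756374237612918361738178285018790577072) (.leaf 361681999221285166262147819218199643478440148864)) (.node (.leaf 795811288479142345878339730484539015047851157157) (.leaf 3002243688119441773934389259392367155201819279409))) (.node (.node (.leaf 2203930207523062165104933617451684608638981591472) (.leaf 5596263375528491747496523697624507971531327593179)) (.node (.leaf 549180420304581079258021460075243765603873620032) (.leaf 0)))) (.node (.node (.node (.leaf 2234192049284191258297262214904592893455083725161) (.leaf 4319586594788092391603006817949145103898766187014)) (.node (.leaf 582203159017553784617943410781247041020724560950) (.leaf 2080452294761505921734822485031621093263227491334))) (.node (.node (.leaf 3025905142066300189764077291047288647708311490560) (.leaf 851003412233824509621699622558406129259758965144)) (.node (.leaf 3463468792884010478993848334400797770104177975398) (.leaf 0)))))))) (.node (.node (.node (.node (.node (.node (.node (.leaf 5747481482449544945010674144445281178373694123234) (.leaf 4080582229380290766850324329490020423309038469649)) (.node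 (.leaf 751694090114644817812719257029179586576273599853) (.leaf 3444825169301601786726341220819225473259034837232))) (.node (.node (.leaf 5729690208509589815620578077042088705489925471616) (.leaf 2461085209514819159801728162751453211147602010160)) (.node (.leaf 5210582569766315597417308583332207475932958176428) (.leaf 5808028142231109148281124267742976791455047355460)))) (.node (.node (.node (.leaf 5338061330121880760821911513383958132878510067060) (.leaf 2339005754091257725367063333760588244548804152434)) (.node (.leaf 3219089324882398128879627756796003901472362579284) (.leaf 184498292696902539003780332864097277661110902880))) (.node (.node (.leaf 548154494978730691983640605520770455102384836992) (.leaf 360633116970936162985416337673875618703449135494)) (.node (.leaf 49252002940004979430103265320996750478952643632) (.leaf 0))))) (.node (.node (.node (.node (.leaf 2469832949793830176395704175393406344256565409670) (.leaf 5204506962525355920312065263555415487025544358278)) (.node (.leaf 4533787092218371910074631175547694278672740829266) (.leaf 2468302413899363156604388010673811519275840517174))) (.node (.node (.leaf 1442693147342037284179849910825135195184263043021)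 (.leaf 2886984118874168843297569185192010685552703630454)) (.node (.leaf 2293815838203340370403850796852042423382662714374) (.leaf 0)))) (.node (.node (.node (.leaf 49855973031923379098166798682459767311812599054) (.leaf 4161180182216516670396689246418053163829459064710)) (.node (.leaf 1644479755333423229578574848170184450014794603355) (.leaf 3473167464895367933140416098442686344030575477521))) (.node (.node (.leaf 3897042848806524140493644794909894062463085120884) (.leaf 1748572211054843270506311700368499039526199519750)) (.node (.leaf 5786485693658479246976838591126709398724058311708) (.leaf 0)))))) (.node (.node (.node (.node (.node (.leaf 515975571761830290525781418091230669480651628592) (.leaf 5319932578215199990820456991089220736096419687472)) (.node (.leaf 2061665590256786621043876718620238511526269751560) (.leaf 4349817537001930057325862182046541829510185258368))) (.node (.node (.leaf 3235651592134264422786258756712109043380054516080) (.leaf 78878038533566093113560852796083993458622595190)) (.node (.leaf 4384566413612357607002385719759492544709910380592) (.leaf 1636752701843864984090873422536847138991918247189))))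 (.node (.node (.node (.leaf 2602065815837240550195302548062915204607372717531) (.leaf 653882658527763825477595433949867061613627113729)) (.node (.leaf 4112328734437241159347531250398523450027582773530) (.leaf 600405155682548571160162794400883979372939971980))) (.node (.node (.leaf 5284137105499003819685528836409667571475090468115) (.leaf 2954458508774563078463802633120658680508364398640)) (.node (.leaf 3438868742784210831278944174834716809890947094938) (.leaf 0))))) (.node (.node (.node (.node (.leaf 4760761333211023370066799239670222099814585942929) (.leaf 795161442198729800883220481480500522795597330438)) (.node (.leaf 4572914162489768967555912604967320716870655934976) (.leaf 2470512604695779570047872730152760496471829905407))) (.node (.node (.leaf 1793684286559506984388280676121873505517287730323) (.leaf 751711986327013781293516106475944720075612600246)) (.node (.leaf 4162905425925797887245762964347738037389759256454) (.leaf 0)))) (.node (.node (.node (.leaf 1933765938840489029583335076014543822644506198528) (.leaf 5521528862022413119237525864273401131478384078043)) (.node (.leaf 1591562616687683594633748889189789583340448722992)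 (.leaf 229858272936907328364748123465177557488231030832))) (.node (.node (.leaf 2161914865037711242449745870900775825047933119770) (.leaf 4823465366941481195202612679289315502915434136337)) (.node (.leaf 5231246170544564969613412016756184396994232733207) (.leaf 0))))))) (.node (.node (.node (.node (.node (.node (.leaf 2459698630421387703615622768922313740963475292343) (.leaf 4186862529471248197052848483550110087007120203022)) (.node (.leaf 826770908273745789733270731880442149508564936245) (.leaf 826758688053551078490876159050199723469928401971))) (.node (.node (.leaf 4932988290035756740142484189658776759824972275792) (.leaf 4219958219284595211074591828676584282295898500524)) (.node (.leaf 3156551675504943100143359983777746396592005571956) (.leaf 4103194662739556612293332674649840580498867445022)))) (.node (.node (.node (.leaf 1820333830795415075545848742884025878067031531800) (.leaf 3719827210844531166063499038751456321600696301994)) (.node (.leaf 1243885909224703931927684405426505201059547521584) (.leaf 2779387769383825282862711577663066254232858131968))) (.node (.node (.leaf 4826403577240833001155557235769766433389365471330)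 (.leaf 2494140329393841841086402491489189267908492784128)) (.node (.leaf 4760472338229622061937184183452229157605883346238) (.leaf 0))))) (.node (.node (.node (.node (.leaf 1817055646240631372986529867570461103754945695101) (.leaf 5211312605848524815898667441912651147829948466742)) (.node (.leaf 2723293085879300964007687787219947447254754549855) (.leaf 1699351732063930287553236950279499519777523564742))) (.node (.node (.leaf 4108394699939120737355698351709857867223703824165) (.leaf 4822951970729921694650417582219555936056089543748)) (.node (.leaf 3498615688708501402981288215784674474727527678064) (.leaf 0)))) (.node (.node (.node (.leaf 5545056056981852419063320152220594041327850643502) (.leaf 2256218773752718039965554855544017166485402039468)) (.node (.leaf 821201558329460417910841573527407571153838132694) (.leaf 2971093097143873218460277486499708796847307474358))) (.node (.node (.leaf 2232051146439134124400417323685566162842403147066) (.leaf 2676282989088294316592704382014943931516246581727)) (.node (.leaf 49240155821017606558220108018932934815755558958) (.leaf 0)))))) (.node (.node (.node (.node (.node (.leaf 2644085297093879930178891289151354448609859072512)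 (.leaf 1879626477384039156110079617703827607418561273551)) (.node (.leaf 2775856931789578085550519759323554151209295965284) (.leaf 3367678273768613258602475449399432709584996877073))) (.node (.node (.leaf 2389562533508870862327448696994227403232390897944) (.leaf 251331056243259140854372064651065819830116417921)) (.node (.leaf 2821738628046343593225635848281238434303986720030) (.leaf 0)))) (.node (.node (.node (.leaf 4497858762200288310693918448970890293571010847409) (.leaf 370326904234938668576669870846992361626463898636)) (.node (.leaf 2779758302590447371738293323303451119649881127547) (.leaf 877667773921027628631086097106374101717117029424))) (.node (.node (.leaf 2040843850254421791556436832273605449694563757338) (.leaf 3314214371278908744577532442878484868563589171266)) (.node (.leaf 5521522879673165511600944349564041026461451082678) (.leaf 0))))) (.node (.node (.node (.node (.leaf 5128618401577759571426072181113737689984046186960) (.leaf 2455156450861303217519130287323902046075404998237)) (.node (.leaf 1491708209790904959048828618994874004424929840138) (.leaf 2675234862261048981634606613280151587515354013870))) (.node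 (.node (.leaf 3668886123662989141026813408206928445869231027049) (.leaf 3517236696814747480461651734259692213276850020369)) (.node (.leaf 5128856475220623028932164368713123472994761990161) (.leaf 0)))) (.node (.node (.node (.leaf 954902594406471973983986494317656009938370559488) (.leaf 360627412894725075643188168350740935021688720522)) (.node (.leaf 3622273857863630692732653531385572761705364698032) (.leaf 4940494104819306991602829392150544432696407941232))) (.node (.node (.leaf 1462909350112134435264928113942476070267180966577) (.leaf 1823340357272401797641544658092614025728253871444)) (.node (.leaf 4436946391029083862329213411514801219171326143536) (.leaf 0))))))))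

def hT3 : NT := .node (.node (.node (.node (.node (.node (.node (.node (.leaf 1716913362026024860903765504785786175823853790128) (.leaf 2009712058735532026286628878031025232277034245120)) (.node (.leaf 4266319781524111019840072425884970227693318507395) (.leaf 3578638535210177860982856282344136563906398598572))) (.node (.node (.leaf 519028747649403325946008642663208887128946076965) (.leaf 2012789301068189402454751218135746800061190769674)) (.node (.leaf 1669326096137474911154981931999933815591952348348) (.leaf 2386462750775573439617572772947119916124433744070)))) (.node (.node (.node (.leaf 5211163347358050076011779537104532210636604163412) (.leaf 3931420521099875211698030587344915088736957241350)) (.node (.leaf 184138655152692341407271672280204993958033514592) (.leaf 4120785731051554725998654648813051343144832232469))) (.node (.node (.leaf 700412010085948268527244142059508689412512543737) (.leaf 3794194839282028377535527265878686436298880116978)) (.node (.leaf 2456484888829851006692763621806280869159234673158) (.leaf 0))))) (.node (.node (.node (.node (.leaf 1644915535875271209783748889778762776600855448586) (.leaf 768228620661709444538548526646667952945586481634))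 (.node (.leaf 3649116206652162382786444689327958943018830691712) (.leaf 5173368855946978089767571848153761139161793064404))) (.node (.node (.leaf 2331882458782684595536644259526322363633184397149) (.leaf 133769078969153874841044678654079256158053906998)) (.node (.leaf 313719597810038913953203860405245514641552504326) (.leaf 0)))) (.node (.node (.node (.leaf 3960319147386740789894785079910482206098803922954) (.leaf 4060147516636504849065753545358063783630663601687)) (.node (.leaf 2859529608308971331947753791430787778956970885318) (.leaf 5628888017919125873776506265716728249107514967094))) (.node (.node (.leaf 4806184922056336280249185766652379988609354919252) (.leaf 3314220478815453248785222493231530665895731430406)) (.node (.leaf 5699287121869197942808366705384579853641466459190) (.leaf 0)))))) (.node (.node (.node (.node (.node (.leaf 205658953662855450557144835257412360873520989056) (.leaf 1183504350095237944785424620138927908603501437264)) (.node (.leaf 2441013291764779343182756482286069688250315884626) (.leaf 5564792386654065007487898149816483872650349707447))) (.node (.node (.leaf 3779173109736627287966660822531831802875162510676)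 (.leaf 1002393661720811625914307674119571728978237369776)) (.node (.leaf 4958130118088396749476218626362487137028508851019) (.leaf 3254221303552508179059606399012315580220609584054)))) (.node (.node (.node (.leaf 2979608258120864891985568805460158042463112552543) (.leaf 1317243240686375009422153113239198606132662701378)) (.node (.leaf 4316810217523388124747617856298735886210534202928) (.leaf 5383153509912002896810329533539821241466752036133))) (.node (.node (.leaf 5760482875194802886651785225990366214503509462388) (.leaf 2777524482280724495639580387418192504274812869002)) (.node (.leaf 3289882117328266645116360809285752675058668714934) (.leaf 0))))) (.node (.node (.node (.node (.leaf 2923454878598398318162010119493270869825754169479) (.leaf 3152015597977363555910240631703734931346745046966)) (.node (.leaf 1111941007709836880667407574621561654315120525447) (.leaf 1214491685056461011077458424449557243838512265222))) (.node (.node (.leaf 5437640571715277094709291186253856513825181968610) (.leaf 1186171971458226492121366903650212471839784444464)) (.node (.leaf 2258923470477036947928376310852559144432703111679) (.leaf 0))))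 (.node (.node (.node (.leaf 1422993580194610502084111630044462100710662824297) (.leaf 3217514299804999011160327947733597194803783139713)) (.node (.leaf 5499864788311361530151076486691422862645182558135) (.leaf 3997107344119328388352615307672278974483036319280))) (.node (.node (.leaf 1898206969041851213859123327877224296522594847949) (.leaf 791402425143484037172099889484231009311528145328)) (.node (.leaf 3741761503851138516590732321521575099926235081828) (.leaf 0))))))) (.node (.node (.node (.node (.node (.node (.leaf 2570377450514254980116158688405001581517136982528) (.leaf 1378832546437305396159995475439493850159859440006)) (.node (.leaf 1510374395737497228565350671243161453942050203429) (.leaf 3033580747418563420002039462769120554423630289755))) (.node (.node (.leaf 1109844714853406665723230167714566536437834973623) (.leaf 5621428024100090717846343179041375112146486844446)) (.node (.leaf 3526927331427185174267893722881560204480088933444) (.leaf 5780699513606879276968215046200498017940643413182)))) (.node (.node (.node (.leaf 1058690048545710688928299704151368117127943762998) (.leaf 45761129317692337905959954924756392513065979904))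 (.node (.leaf 3477979896511750826143683499119323308540705137152) (.leaf 3031674817679550475594063519828192784295361449984))) (.node (.node (.leaf 1423709340136952946905435880228323441372530635136) (.leaf 1757419064878288490672209751347419997441488446854)) (.node (.leaf 2059754766997223118918649420325033440075859889611) (.leaf 0))))) (.node (.node (.node (.node (.leaf 2281562177202735440174289698811797278281365342867) (.leaf 5569837247301721858521020163785608208961772405296)) (.node (.leaf 2340090799779076994293723251222464035080870003718) (.leaf 3401413665183535264321042866398913242916095943552))) (.node (.node (.leaf 3420378987532444344416564163666685451775634248710) (.leaf 2436706386790230026974669830484307996412994584774)) (.node (.leaf 412119863559072966156268765568565454001399861640) (.leaf 0)))) (.node (.node (.node (.leaf 478396714638550447324156714643293714808008802639) (.leaf 2660322564925247619281370610706533734446089758068)) (.node (.leaf 2472499339675335204664578359219340859736020250021) (.leaf 951877717616665711249341910893048932531587175344))) (.node (.node (.leaf 1299974719888380155977405069248585693873623906230)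 (.leaf 5626572565859679819477107307858645617410286849024)) (.node (.leaf 5412882389119434513453053083765001918798945532330) (.leaf 0)))))) (.node (.node (.node (.node (.node (.leaf 5335152357082810637707467307779541137766266298736) (.leaf 2682281904094826459971748206683357718904932625555)) (.node (.leaf 5135858042298428375112189176200359823174139405877) (.leaf 2418843594876642833735632700306619166923566612592))) (.node (.node (.leaf 2229573172778815514994303856902270304539228860728) (.leaf 2064889441758444165929149935510635342128716583048)) (.node (.leaf 4755930085899179235909295895398052766345416713316) (.leaf 0)))) (.node (.node (.node (.leaf 5317332014197673668718502877499429129281792974094) (.leaf 2273183064185607588916391106471987408393955854995)) (.node (.leaf 4741880215603755100163368648769127436124451619248) (.leaf 3973912305572646888091795065559069369198690288048))) (.node (.node (.leaf 1002392110437266782038864917618773172938295594326) (.leaf 2001415421399835928047584342382739774118685307897)) (.node (.leaf 1470796191570746580956125023303722984022879537218) (.leaf 0))))) (.node (.node (.node (.node (.leaf 4412106429264116425360259698831433614670961108084)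 (.leaf 2294947154252618482802307891966313426234658161860)) (.node (.leaf 4805629648751946224269249255002196296567633618597) (.leaf 3397212989511263484675900636183643108555393297580))) (.node (.node (.leaf 2391324879270248246405300869305256252638238280579) (.leaf 1718463664638756735875718093738966410677480784001)) (.node (.leaf 3931465035323686915318495854637292451073898087430) (.leaf 0)))) (.node (.node (.node (.leaf 1035499614256548663162675137055598567013396985260) (.leaf 1774552685792762428703400184751001699160202028709)) (.node (.leaf 5700437977767679500906424832544419706484596187184) (.leaf 3443733615462445869993780048582028810147626292492))) (.node (.node (.leaf 3463478671512159283892302708278893532862041861168) (.leaf 368599262182937682271665104485320642351717160970)) (.node (.leaf 4157515431819665946698008397443299707008011012998) (.leaf 0)))))))) (.node (.node (.node (.node (.node (.node (.node (.leaf 5217950439781729473293690162827342688885086709557) (.leaf 4536202228014215740083228649810240735544716030464)) (.node (.leaf 794831764465762293966904891481762458173434396032) (.leaf 1031447862670806774926035887914195035065850483766)))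 (.node (.node (.leaf 3926489569874949610341307292889658150762059228981) (.leaf 5332307749161841994182971585844619964154745392442)) (.node (.leaf 1954182142944912629844577887674934885433242250387) (.leaf 2653536054536194265290511329637895604388547226861)))) (.node (.node (.node (.leaf 175990978060560382586221984036318977610353797126) (.leaf 3481652141318149353509021375572018609004982726528)) (.node (.leaf 3752176002972969876248262980698226050989692313695) (.leaf 4323812671422175472526006930042092949574031200151))) (.node (.node (.leaf 4156391174193742814806403865338164962253733535968) (.leaf 773129178585579406891587912230040999914883159942)) (.node (.leaf 2065627500580773759285449141679972854760509611278) (.leaf 0))))) (.node (.node (.node (.node (.leaf 1750452505444711097480897533370370514086355926912) (.leaf 5599643637080803546555003014881868220154614453516)) (.node (.leaf 5786418793719814852834747998730001182539444849843) (.leaf 1851086557751150919965889976333562633313893813126))) (.node (.node (.leaf 5517994319246987633475990558032181436746360684032) (.leaf 3873762506649717871502856651743168742256169471511)) (.node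 (.leaf 394619846187729688749764482094873254296394870832) (.leaf 0)))) (.node (.node (.node (.leaf 5422759789873183339366035220952115268019051717297) (.leaf 4520833414154972696227549600381791842201818281910)) (.node (.leaf 928682354085677034983333307399362953001039359094) (.leaf 2615835104093936339089076413111489799398266576142))) (.node (.node (.leaf 1421745386282536366422573008771017436602282348295) (.leaf 2203916339336424087296582068277397912629422469288)) (.node (.leaf 2007430142418744619453018220148113136499891947574) (.leaf 0)))))) (.node (.node (.node (.node (.node (.leaf 1836061361685567323278279136696153167780659855359) (.leaf 3025899186018999674037597159363418120093976695176)) (.node (.leaf 5516956231869743971335507287911204978329838040502) (.leaf 312356590024270802591425992556279903026911257520))) (.node (.node (.leaf 2831921139375873403442597690550499794425206300718) (.leaf 3105608036680000978464895657080191543370610404764)) (.node (.leaf 399472420557967175014677496699885525997147608118) (.leaf 3875219032833629809649960791564316694615031986102)))) (.node (.node (.node (.leaf 1798951214574532656066150966542368831102161322880)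 (.leaf 2950313684479752722886232643947888954667650783242)) (.node (.leaf 769958559607263125858226481744912596552714579365) (.leaf 2885012942077594804028816172050463218368607300259))) (.node (.node (.leaf 1317586289212881949406852581706857999217717830528) (.leaf 5784217978833009998630201523875310830080186575090)) (.node (.leaf 2727864714400837800861323438650174592971672612115) (.leaf 0))))) (.node (.node (.node (.node (.leaf 214846984022392211400563876583159545833406881872) (.leaf 2841356968252405661149136483710040217324543177916)) (.node (.leaf 5544351072863444297319108101494558771292180023746) (.leaf 3422145397782316619304707188288360440427450401151))) (.node (.node (.leaf 3441850089140850315999500689352069663420760487942) (.leaf 1298717096035013823920654133148973577335189742497)) (.node (.leaf 4394722002762275210299609151315068658738377006080) (.leaf 0)))) (.node (.node (.node (.leaf 2946135376913535786148792365567794214528031265152) (.leaf 391077019919686580136067003538998830011419429314)) (.node (.leaf 4986635871239871501880041892289637993476815381620) (.leaf 3444981273923490620030453916787192875975883120735))) (.node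 (.node (.leaf 5544364737878995199629708079388095049395242012100) (.leaf 3152011513844177118741892982158201897550996495067)) (.node (.leaf 3357539844355980758543166871057410782338664328364) (.leaf 0))))))) (.node (.node (.node (.node (.node (.node (.leaf 1900909577257202665663650709055090318917819029341) (.leaf 4002341278663677159816654926375740301305358760886)) (.node (.leaf 4033006802720773985023552748020004052487052511286) (.leaf 130116557296049980937524752679388066957488378288))) (.node (.node (.leaf 3582305445311523369511882755633056116627678854528) (.leaf 3647664669480131052011756377735110810774148565942)) (.node (.leaf 478415536918870479223661260358107554214468296399) (.leaf 1747209445093351963742879817225893229032665713843)))) (.node (.node (.node (.leaf 1443183781261016417901774578606902939035403486726) (.leaf 315005966344507166430276147750445272123904235910)) (.node (.leaf 31460950856516666960587789814888788961692524640) (.leaf 2954168011154128478623418665893324239536972112417))) (.node (.node (.leaf 2436996297414570480865327904464349015886586995167) (.leaf 930974060520653884596808905263781088381003741037)) (.node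 (.leaf 811081203843542573945121107323469003997537132624) (.leaf 0))))) (.node (.node (.node (.node (.leaf 1618073140840759388511932314876560067733372111238) (.leaf 3712547362845985583877045293389886044735834975260)) (.node (.leaf 772927818117606852124413323198144247129224690614) (.leaf 2466634162129827164521561893488664495778627481472))) (.node (.node (.leaf 2649588852899985045420044451978131339344243854461) (.leaf 1817045536318136271536193133135607916538143636219)) (.node (.leaf 2136023001774928226637006648194757765380288225840) (.leaf 0)))) (.node (.node (.node (.leaf 4143893154225596503736633491843495207732923211136) (.leaf 2947807472818093540127165367928400757348813725976)) (.node (.leaf 4613685612879170413000416617666546149571807674760) (.leaf 5623562623563219994183913895243200372043986443662))) (.node (.node (.leaf 5725878041753593854386840268431251131504240563206) (.leaf 4619590713456750264073161731477072093942579662848)) (.node (.leaf 3478180995981483983732979334911800373161636232576) (.leaf 0)))))) (.node (.node (.node (.node (.node (.leaf 2033405450195330396741441427700501538669459872138) (.leaf 851646487015581555838865817762045161349896143088))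 (.node (.leaf 3105742724385570426201478428142029642959965931062) (.leaf 2059746944380331195355622752198241813357272734214))) (.node (.node (.leaf 232542397779129740914262321862728851301060249094) (.leaf 844975416262428816908906205719394048747216312330)) (.node (.leaf 2645485473324225190759190907927042536600965942451) (.leaf 0)))) (.node (.node (.node (.leaf 5543892139427232470322292603063625155509397150646) (.leaf 53642482784698090984040980613637552651021676343)) (.node (.leaf 1719913218542405271993051015040926115313688997090) (.leaf 5419704655537478964276970743587447021344515711015))) (.node (.node (.leaf 872930512053682692919672674144422946232231414710) (.leaf 659153714895315574939977288072800502650726714243)) (.node (.leaf 3694078253436743063762358399586304109369213844992) (.leaf 0))))) (.node (.node (.node (.node (.leaf 1158036738699267527395859668123646356268424888831) (.leaf 2433782643603921519148904089024694959349842922422)) (.node (.leaf 851652536200330047158166265497526914422214418816) (.leaf 3977727250926796802545503240675962716034223858087))) (.node (.node (.leaf 3627112855307950396636310180294937493520163496097)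 (.leaf 722323907644545590596112536035348178776134975671)) (.node (.leaf 5417363069777139330515866908581756694409828827319) (.leaf 0)))) (.node (.node (.node (.leaf 4298753178091014112010641555417440837874554049926) (.leaf 2882906828539296898438479422467816488313227582464)) (.node (.leaf 3933589526166947450191599739020999622508750815696) (.leaf 5785192266485990687929124256131807154412054121482))) (.node (.node (.leaf 3034088621084922789292836481270611501823412014976) (.leaf 5419694765299464070967001818476520286716251090480)) (.node (.leaf 440291685244693219721331333664537605164209230902) (.leaf 0))))))))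

def hT4 : NT := .node (.node (.node (.node (.node (.node (.node (.node (.leaf 2389626799471257674163348936848566969331349572950) (.leaf 1111951531872331897499956433418034400856250322695)) (.node (.leaf 1881035231911395618155893287152452284429496180910) (.leaf 4938385062092679643784094618468088119081227976968))) (.node (.node (.leaf 2439921152596404615435012142606662441461314557318) (.leaf 420700075276876498244197959259314482235782140296)) (.node (.leaf 2009578018258935742471720037345785197859864313870) (.leaf 4556239338530490643930781425689998287743752930176)))) (.node (.node (.node (.leaf 4543758406152683936217129374650738303043695825974) (.leaf 4134358822065244213416425828902504210530964988272)) (.node (.leaf 3797599403280695766539564849067357847921869372342) (.leaf 2569662677802971129699529624682175420084015005894))) (.node (.node (.leaf 4180571267289027992448782675228990382050239867398) (.leaf 3158037889764761871233631670085624790509684198714)) (.node (.leaf 3607903385335853307393532983020658307881262361058) (.leaf 0))))) (.node (.node (.node (.node (.leaf 150689975349742669424770419437992523095748305280) (.leaf 4909199803460860419462467358154343690192445934976))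 (.node (.leaf 4960632498124109041948319313565488441178928585094) (.leaf 1594087648352682897578771272061056607579219208290))) (.node (.node (.leaf 4141279893181684127512068108914615899090548697635) (.leaf 1956491050943775463815400457561843489539824896950)) (.node (.leaf 4347273665005087854581641578143722905415080682401) (.leaf 0)))) (.node (.node (.node (.leaf 4110683487679432041940607476096754260572407005319) (.leaf 5808362655770728903691370932080454925009921270246)) (.node (.leaf 1834768784251311165042892165904209645040457753136) (.leaf 4820702909321638350981999978678189782051463651367))) (.node (.node (.leaf 1398424403341116756630138588886823887598044951472) (.leaf 183803617515645560700149675991104986499367600128)) (.node (.leaf 1370046117234276947684540989057029023876615841573) (.leaf 0)))))) (.node (.node (.node (.node (.node (.leaf 2535052674004205995287736343920449931174920314416) (.leaf 2537258233338354826075319094753574096817372272646)) (.node (.leaf 3540937208710084947744260594998418781125231723409) (.leaf 4456527074755940349075498275507051018504603042433))) (.node (.node (.leaf 1402288291119053578383033938209907289841107303742)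 (.leaf 3522789574968040715460324905388545398309719572744)) (.node (.leaf 1034181300486057940865388968556002504090517070641) (.leaf 4113292671136942272703878927579268076683752574333)))) (.node (.node (.node (.leaf 4059809079603243755556713715882280411134120344502) (.leaf 1443498326224923987326665633679810297580775906123)) (.node (.leaf 4567192652050768582969744379511598084438285091329) (.leaf 2412755479684324147943066317698709576197713453480))) (.node (.node (.leaf 75496080912544160827370552028905376667383831950) (.leaf 394612573328064117399739411759776977593877946792)) (.node (.leaf 2865751523555640454410299338353902738398444457226) (.leaf 0))))) (.node (.node (.node (.node (.leaf 3642344431020546875541440803870338785891953351680) (.leaf 1748224826331168151125572269346035038500850565889)) (.node (.leaf 4300775522154182714163455581758144799460155150744) (.leaf 678023717235366764349778404670060190430011225276))) (.node (.node (.leaf 52295347789816105389208043519485870007084674460) (.leaf 2803041761348188659786621998568867276743870625645)) (.node (.leaf 4929759341138490927021492158175179504021326397312) (.leaf 0)))) (.node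 (.node (.node (.leaf 1819039057472268769462853228274139620467706603746) (.leaf 4108391187991188928238756615430867089957053418422)) (.node (.leaf 1568201665991486508916331171667421022753845805697) (.leaf 3918027999954054351503449145907491659718676385149))) (.node (.node (.leaf 1512451631745678520552700487801248789453886390015) (.leaf 3581237096159447299549378111881549362273448186288)) (.node (.leaf 4141271355409374874777523570730474034561298744886) (.leaf 0))))))) (.node (.node (.node (.node (.node (.node (.leaf 55615053370142601102535022551037673441693143176) (.leaf 4619595300233387763010037188181283947264228983176)) (.node (.leaf 3460966821550562324934356284415497454374453653672) (.leaf 924990578999616905207758274023263897733274591344))) (.node (.node (.leaf 1417527801383326754417910234745103245589956299846) (.leaf 3365371758256519670644307030281991865301704205105)) (.node (.leaf 232543680391441107171483797435919355093787020163) (.leaf 2463935787143661433920496546616910993885572063406)))) (.node (.node (.node (.leaf 339160335544239989011083125003389392736742103478) (.leaf 55615003749823646351778125169542038354724196736))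 (.node (.leaf 2882923118364108637279815551888213729333424692238) (.leaf 2013502949425507925184387703345945395542657866766))) (.node (.node (.leaf 1565927888620049711079697955798672127620617236864) (.leaf 2033417689079506165424496610269820975028784860556)) (.node (.leaf 5131951796764070472629305758052594109629820844074) (.leaf 0))))) (.node (.node (.node (.node (.leaf 5416479284758957385493061112537180305326648826374) (.leaf 750333717634402468356365281208242466863018697184)) (.node (.leaf 3461100800310584550455754877180545330313635283408) (.leaf 494084729007710461435646714943702165428871915061))) (.node (.node (.leaf 1215227982570466647367507261682332869537089460234) (.leaf 1484683458912200352482955182499071648473140391205)) (.node (.leaf 2926232725827861973146085128256877387323843543552) (.leaf 0)))) (.node (.node (.node (.leaf 3238203198809853488872989110690608305094170120576) (.leaf 2138676815549398094732690175142942700601312748449)) (.node (.leaf 2540457020959158118872666616519942172733890368518) (.leaf 2214188084171243527551677591810043691720748002581))) (.node (.node (.leaf 788599828577602799238550116012854774906152700563)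 (.leaf 2493259277987856947833270065663495976973336590378)) (.node (.leaf 3361300275359043922781337676992898558000456352688) (.leaf 0)))))) (.node (.node (.node (.node (.node (.leaf 2821105232752918443459120850214301045144727612828) (.leaf 1875493390059226294672937199159969497277646796806)) (.node (.leaf 3440956315060174572389620222577296592215438987264) (.leaf 3110505488193180445251680628314045781690901799472))) (.node (.node (.leaf 4822754557633973311562184730264356635226602496017) (.leaf 5311389468275692767905177749227650554869125964112)) (.node (.leaf 4041943095750618088380561432185357072583403881812) (.leaf 0)))) (.node (.node (.node (.leaf 258266598634717958191622327275423789032642473388) (.leaf 3291239485493768126677227122092205367614909713476)) (.node (.leaf 2865645768665779497536976703844853968690745352) (.leaf 1190428871076243894342116076847298173359083618176))) (.node (.node (.leaf 2703574866404171237899273205540557959043184537136) (.leaf 797425653381425034536835401006960426336893635910)) (.node (.leaf 5339577775924132270589828259817811188107445472522) (.leaf 0))))) (.node (.node (.node (.node (.leaf 2165728329472512556853037441263259687572357447863)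 (.leaf 107579216945763604944340953160072948926002785301)) (.node (.leaf 543477003244437197434452880916849993457023194252) (.leaf 257670575624351330603677481258613863517631038000))) (.node (.node (.leaf 5236960736502853802113326034093713064800102226763) (.leaf 3081173829630395345509299225205227223831311618432)) (.node (.leaf 3255174239194746083139307441862687816761284891788) (.leaf 0)))) (.node (.node (.node (.leaf 3101103259372889034537194530832862035813374058670) (.leaf 4365227986594311877267846872747590409995353443670)) (.node (.leaf 3748052898576382795568163134363696283638909561074) (.leaf 1491998121768465693116026490843499930653670269023))) (.node (.node (.leaf 4157508215004531454770272017085451294650737755781) (.leaf 4577714393043070149080710463956984442947864912342)) (.node (.leaf 5521448077025746494848693087845647760803318342305) (.leaf 0)))))))) (.node (.node (.node (.node (.node (.node (.node (.leaf 2676260688939580869171916336443296607204356877605) (.leaf 1641100145650700552922908954110484742539111201982)) (.node (.leaf 2494153503439067145261132424088951295902167335417) (.leaf 2391324284297869012446358076695079453676161469829)))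 (.node (.node (.leaf 174414803667211290004752357323726522353198001445) (.leaf 817398809353428107166203800420693187981425710086)) (.node (.leaf 1163380610214915220536629814224008963954758838662) (.leaf 934889104493899639551123407347605601481888607718)))) (.node (.node (.node (.leaf 2950960885181029864603143942233975431515993370423) (.leaf 2410949138392434028992008260892256567167904345323)) (.node (.leaf 5623571393232516233169995485342268209747661102080) (.leaf 3957877869194238902098739951486514626159128280831))) (.node (.node (.leaf 1512893824598437158805837689171484584506793394184) (.leaf 1425571749862108673853148255096252871812775885226)) (.node (.leaf 2183700147368882430909144622718558557713094304433) (.leaf 0))))) (.node (.node (.node (.node (.leaf 5495205195718282957127895389763067987086636909764) (.leaf 2992918866314311154608004074472297816636465683726)) (.node (.leaf 3072560395613966707106048825698818878948747669376) (.leaf 2311867627251418341670473938475059387813618042962))) (.node (.node (.leaf 4006930057108094453541811690607280261645858963199) (.leaf 5831198792665633100067890328419867461799392537772)) (.node (.leaf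 4301489842862327294217628562208581498346217727092) (.leaf 0)))) (.node (.node (.node (.leaf 849282612279066103272049699741097258675258982584) (.leaf 3820232958640360146341152469803922847188245397936)) (.node (.leaf 1242779890169152390243920202473142844362472055254) (.leaf 2644080532077484281981814577425842515581230121465))) (.node (.node (.leaf 1634790261446277916995359323435452758136868569486) (.leaf 2777630140285659631606695959793516167028246950832)) (.node (.leaf 3417407510761155430979174368481881551531316922422) (.leaf 0)))))) (.node (.node (.node (.node (.node (.leaf 5386807764982652042694564487234219180882922294742) (.leaf 3773480888059868979443061848909834582181382354108)) (.node (.leaf 2001661034502496640243096465702634321454937623443) (.leaf 440202569242704694748087339966264261253689066416))) (.node (.node (.leaf 3579673773232814093886100315566290649594015391104) (.leaf 3238366272261846873168440416466694053111298925217)) (.node (.leaf 3295791342036900403592991921883323376224175640022) (.leaf 1485096719015843040390354300950959745218199323844)))) (.node (.node (.node (.leaf 4300411388297247789112408931994872293882353147440)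 (.leaf 4980312188239114368868694142011154246281048605750)) (.node (.leaf 337193335381253371697325763953877517844575682048) (.leaf 5643347068229896059218991196532127166757755979782))) (.node (.node (.leaf 1828530635289633780378030861616896088497443502843) (.leaf 1510373808660685558897195135708686794984065559699)) (.node (.leaf 5618738700917598347664196468995634332368363359232) (.leaf 0))))) (.node (.node (.node (.node (.leaf 365375410695187021383845841188948640610526462016) (.leaf 3501314050046579308107851295478191976008391027989)) (.node (.leaf 2753753041325021690381311913300857438804856230966) (.leaf 2165371520326395680264432952595005794735493180642))) (.node (.node (.leaf 1241378450110360762984591051436781907708808182710) (.leaf 3580102791193088022310665842483413418608808717722)) (.node (.leaf 875686598392521365913242569291533310495394390055) (.leaf 0)))) (.node (.node (.node (.leaf 1693375533187825867107017400066546438638146664429) (.leaf 2185107811197255147325431890497784208329409560961)) (.node (.leaf 2654990970691801236183672641877184201356028261296) (.leaf 2393130686704154539383153569802037573993439128916))) (.node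 (.node (.leaf 1837458617942455339434884969699849864725237307910) (.leaf 4939403393961959370981976360103066629825875468288)) (.node (.leaf 5159207939308917748753447336985920600789468081259) (.leaf 0))))))) (.node (.node (.node (.node (.node (.node (.leaf 745717480987919185152324382479859707767951199357) (.leaf 2951430986616536481712566331850093230572140106892)) (.node (.leaf 3284038198583548434998062386051857044539792118168) (.leaf 209752231844422308170211836388890248382036456620))) (.node (.node (.leaf 56777173374509714044975901089517408026905942406) (.leaf 1933776760407617283082201645611853653444247159169)) (.node (.leaf 3238209544815483454091803121710861794308999544968) (.leaf 3648544040301886170458693275859349328328460823827)))) (.node (.node (.node (.leaf 159426373288527163396269803946968815017720657773) (.leaf 5338055649023357090910279799947110833560311424390)) (.node (.leaf 5765254722776545251969258473387243603711477889450) (.leaf 229521450304342870207028841808070055801000628488))) (.node (.node (.leaf 3477490409335779709621263530658053050984193589760) (.leaf 68954168617144568993834179228955150635888738561)) (.node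 (.leaf 366825661559638282995853125630281888920638611473) (.leaf 0))))) (.node (.node (.node (.node (.leaf 2010290920717616259966273929400620052195192083462) (.leaf 2416460244760275819030010967248429140173788858422)) (.node (.leaf 722757792682743739027164497699412491560098561342) (.leaf 3498628093009558794718524697617730216035199279104))) (.node (.node (.leaf 3698479934047434968200047531135861209935740840374) (.leaf 499956401923573161408790078470052234663327869154)) (.node (.leaf 1380376790198469927794583034463179103464701758834) (.leaf 0)))) (.node (.node (.node (.leaf 622884479365822052064664656146592696536108106120) (.leaf 2856306003076366883905387362407684630622352239734)) (.node (.leaf 182687707389953705416822119207200421869819789825) (.leaf 106074976281888609055691473559452224105617537005))) (.node (.node (.leaf 129055003202094414822411855141608978741890346261) (.leaf 3870740537821185106282462213468164058670694849243)) (.node (.leaf 2653535472478890199298371705835213883303346428763) (.leaf 0)))))) (.node (.node (.node (.node (.node (.leaf 2010291640745155574854176326054736728586926951436) (.leaf 2181292905766127772194527032771278409241398292016))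 (.node (.leaf 5197050778415352326105965833509197869175664866822) (.leaf 4538216751991219534130278871010001439688207224150))) (.node (.node (.leaf 2910544124523444758939078375786735442693854717318) (.leaf 848435191886449020554984557930428604595254526087)) (.node (.leaf 2056007710054418334240058968002517568023826797574) (.leaf 0)))) (.node (.node (.node (.leaf 2719646337064769992968454844484185037757312888759) (.leaf 3096089732788700629062391710268296175703668997046)) (.node (.leaf 1494964100044519666968198152311170499542611329207) (.leaf 1896792650557309940083860199310972942740717141310))) (.node (.node (.leaf 2841354340272828963548767366052365740370340810042) (.leaf 3896217695627946572368247679317753245651550539011)) (.node (.leaf 1792712417614450310794919423193539524445680369407) (.leaf 0))))) (.node (.node (.node (.node (.leaf 869375474144238887424493434320853797772023827524) (.leaf 230682744233344899431050525866691293460053656644)) (.node (.leaf 2330071873411808220233315169119568338883768867675) (.leaf 3540851653784170902604213964739888461620638806400))) (.node (.node (.leaf 2232031045942617753422935872888268422355220938735)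 (.leaf 603924045859935012343368059645444634068710418229)) (.node (.leaf 4940503637161380753313528884045445996778708795504) (.leaf 0)))) (.node (.node (.node (.leaf 3854780956967271457303277611503300173803450032689) (.leaf 5359856388962622522068309225430295019437725493686)) (.node (.leaf 2464987943434579429443508532725446703550918992096) (.leaf 3718918239762134145975774861389089988571900076416))) (.node (.node (.leaf 1032383869100442469228457437068303354168388296078) (.leaf 3649450065764054962583479087986089287244201008128)) (.node (.leaf 4039418102563560383421947688546695355384585112918) (.leaf 0))))))))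

def hT5 : NT := .node (.node (.node (.node (.node (.node (.node (.node (.leaf 925460593311262704165102687032028071094661579972) (.leaf 3642478251218203373727608000946375960946504630670)) (.node (.leaf 3444888425053790937524965300594460439249205007366) (.leaf 5542887499348004770238582928337904326012292589109))) (.node (.node (.leaf 4900497209307106641466398806129213690204293616560) (.leaf 2113834400541800919393836387881228318508200455533)) (.node (.leaf 1298712272960145721484127472671894764538095682096) (.leaf 3482059015888250338958458495853428789925207199062)))) (.node (.node (.node (.leaf 1756648715057075966014620663311561416882484192356) (.leaf 4180478418467394312339864767910804276747031854703)) (.node (.leaf 4349469504398224126859902836854859075844494129787) (.leaf 5260854950330976091818455614018053999468300755414))) (.node (.node (.leaf 679822977930131192839636972822751655612287692968) (.leaf 1819429800036720298032186518861433901661891793926)) (.node (.leaf 257669259579321428736574176255644606056320999969) (.leaf 0))))) (.node (.node (.node (.node (.leaf 412631479714830646511916770915633585228574321811) (.leaf 3500465319583351403699612179549235007549567156753))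 (.node (.leaf 2469998076016083945351204230073242794708362697547) (.leaf 4077876597452669430135816296705166464974766055296))) (.node (.node (.leaf 3873649456834735919461422269871865483504467312752) (.leaf 878358586338562688477548527971577540720602473265)) (.node (.leaf 1485107173551169560880932442643246950032581791042) (.leaf 0)))) (.node (.node (.node (.leaf 1820266928976232347770247636631717074868100926923) (.leaf 2166700333169534848401608674749749486472421937)) (.node (.leaf 5699798689698443949448906400711871321701084854278) (.leaf 3102151397431566067134874580323279556022012243026))) (.node (.node (.leaf 2058339248005174489452565991519755771216611456054) (.leaf 4288570039757433821273396174358101635889147097136)) (.node (.leaf 3794190725280512854647166441316632504823582494068) (.leaf 0)))))) (.node (.node (.node (.node (.node (.leaf 993811898743024675849328188186940815126135619664) (.leaf 4982999144344181752040623659445537258833905522054)) (.node (.leaf 5708678081686592837538832626532997399781774483536) (.leaf 1898943975580003614780519562416104272898221238069))) (.node (.node (.leaf 3581953760097439474922021335149963077591670743142)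 (.leaf 515973524042338536235261334512578245713453670880)) (.node (.leaf 2643322307931683316690896696074275886574151142451) (.leaf 4884332506012402259969896323451200998148600538166)))) (.node (.node (.node (.leaf 875781935632705157265571833992122056495711523980) (.leaf 4780026253673226822618516048398873816832626093333)) (.node (.leaf 10880977857352039289394446746353743181983539761) (.leaf 2727870433748429259911449536991430863619719833253))) (.node (.node (.leaf 210030016934432184255802868842905006762611404058) (.leaf 4301479737414138566222966794665537719159367460870)) (.node (.leaf 4759157465358586111378580479422687284922746440704) (.leaf 0))))) (.node (.node (.node (.node (.leaf 1905708026866982185218559570563685339658477426269) (.leaf 1690308788716575827169196557231669933550695706936)) (.node (.leaf 3956207112996812443464673204645061726516164168818) (.leaf 1752799832921041830452305144396143339131646419168))) (.node (.node (.leaf 74222727451512275263083980195751537118527644160) (.leaf 3100188674640457176444075601608857199075435942280)) (.node (.leaf 5151423627776991467514468723853546651162478011264) (.leaf 0)))) (.node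 (.node (.node (.leaf 2654985641234677529277312146299626953614002708841) (.leaf 3751102917515916974691107640146546300119065588796)) (.node (.leaf 2624210372471547132630170099849083593776651767154) (.leaf 1757431288334127243985141364176850321096047519986))) (.node (.node (.leaf 391780384952848350053601433288030090071283535170) (.leaf 828724662622623191017881929602050802239773281155)) (.node (.leaf 4759912946722261501539283682023938811187337634337) (.leaf 0))))))) (.node (.node (.node (.node (.node (.node (.leaf 848845771600574523310836927856443984437779253907) (.leaf 3870750144585247083459174293415573955998195496886)) (.node (.leaf 4266321551440374035596427872818713932258438286725) (.leaf 770582981600092550669959524788203547561572658541))) (.node (.node (.leaf 3256295381085803949085758682152435156495126954119) (.leaf 2956660877821317939451963330465160000892364917811)) (.node (.leaf 131017476266747563434372720602751521117711917102) (.leaf 4053683027396588851800834455636577800019848883078)))) (.node (.node (.node (.leaf 2231784474631640803607646504248194062743065929509) (.leaf 3133337253280623914730067164554378235806148370656))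 (.node (.leaf 1748537646537972956195021628505859691803170622550) (.leaf 3073963094491161339795500943161680651540488544657))) (.node (.node (.leaf 2234476984652946483015341486309281230392737669665) (.leaf 2339010290884771665972126968129648868147638625396)) (.node (.leaf 1514832802540843700378210408462333877696045900144) (.leaf 0))))) (.node (.node (.node (.node (.leaf 3619544940371229638777323659969840774865551600098) (.leaf 1595148148804490258577714728142220639063265508864)) (.node (.leaf 1507899123104449358875259912347877071418812037126) (.leaf 1773859402603410301205095194134584926004185268865))) (.node (.node (.leaf 3527843447792503034395693628850740218660342871212) (.leaf 1594781018592225232964114360583252436150459590197)) (.node (.leaf 3176365583108024916188961712634865985691028476633) (.leaf 0)))) (.node (.node (.node (.leaf 443423707369652359995573290261378732443589199954) (.leaf 5647483865262697273003296636318292445331396521370)) (.node (.leaf 210846492879539782976034709878936724331465871111) (.leaf 5128854313898098873267187374853270506233776849456))) (.node (.node (.leaf 4318907138642253389675040173400831616705844677900)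 (.leaf 3719913689030923474494232798319459161213951854646)) (.node (.leaf 5357942523528642144163432491129067638194596798000) (.leaf 0)))))) (.node (.node (.node (.node (.node (.leaf 337038229957449970250537735546710684683494340534) (.leaf 722890528725786704238334243708007601835239916982)) (.node (.leaf 926308892713838743544131930569068279603911499872) (.leaf 1198772594267023255911968491149941672743648908342))) (.node (.node (.leaf 3711961319859350459292281080340330337601820668777) (.leaf 5045209302095127540100967238292237255545565520950)) (.node (.leaf 2139480410021433268112624188473061828488289083487) (.leaf 0)))) (.node (.node (.node (.leaf 3527829565726315779369837067985396060657883770138) (.leaf 1642311790417375152495938610248913962640405670370)) (.node (.leaf 29504073209897596852226233307438579306428129326) (.leaf 1905014656563846130164939832603983042282510998363))) (.node (.node (.leaf 5600614851987340446408140294185183758257720413719) (.leaf 235185152542158426177541156181271818422376751137)) (.node (.leaf 2822064158352440414699570070050752312171717684459) (.leaf 0))))) (.node (.node (.node (.node (.leaf 5419539920905344182446985940062108319217496039984)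 (.leaf 3779164946596630844804019303445840645641638685110)) (.node (.leaf 5619317853849640294193543729146656601426089738310) (.leaf 4570416503527865903321602568886743084084635369985))) (.node (.node (.leaf 1773011557776937701038253412750122869920728050965) (.leaf 5582078444338333345029758261994576832428674106422)) (.node (.leaf 4775142400946391505742994935419310378045419293821) (.leaf 0)))) (.node (.node (.node (.leaf 1462920484066073150563288677736001161100119335808) (.leaf 4320512786235335276811023837961922900103756710206)) (.node (.leaf 369043992355812873985513110491557872316023601158) (.leaf 4599882452379436363556820019018962596669142771938))) (.node (.node (.leaf 5521461959014049946033203419111567545479560126737) (.leaf 186457951037583731290352905639258590193103405441)) (.node (.leaf 3278282810811609309862724831814534263571003156022) (.leaf 0)))))))) (.node (.node (.node (.node (.node (.node (.node (.leaf 4084100763940735256766797934398901308691041419447) (.leaf 1905008677357534753225529876319326551244233993453)) (.node (.leaf 5035438358413462437186854475491935089272638476672) (.leaf 3316610282867658438862131403915468896971147197488)))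 (.node (.node (.leaf 3316930085867332546016542099724345980012468855120) (.leaf 621648763929632266994186492394511690174961228800)) (.node (.leaf 4316141716840945316219217524406487463009676640816) (.leaf 3025765120201960638485406694222434473874934141320)))) (.node (.node (.node (.leaf 1493990360762813120329657742973848274660283703408) (.leaf 521335428744610915618333167509220190224892360198)) (.node (.leaf 2466261655763827047410806091822572684071310603436) (.leaf 4759910785267608318678063604722630632124390072337))) (.node (.node (.leaf 4102534054032666046413467432129230851317460610096) (.leaf 3668882444976825400960098839552804206363035263193)) (.node (.leaf 1690319936135469524644623043633986517560887541944) (.leaf 0))))) (.node (.node (.node (.node (.leaf 5216283544488063818248368217111712740557383964550) (.leaf 2660270892005586057566053793522764817175551700396)) (.node (.leaf 4183589764420039791528451963935090942123793221698) (.leaf 5213274382950664316732096944414925165382808352749))) (.node (.node (.leaf 3461056111701232154526023614642290474326619153201) (.leaf 4078993907504068393508079769756327993831884352619)) (.node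 (.leaf 1507898448147073552773414398600757764650560916538) (.leaf 0)))) (.node (.node (.node (.leaf 1653115250654007398263959188818131005504745898496) (.leaf 71507601345015490472969381502159331902032711688)) (.node (.leaf 5543883149231214523330141605280563570658872506221) (.leaf 2974630165147144542169025044688845275930990285184))) (.node (.node (.leaf 4289616914141270929856741359369728042910013804976) (.leaf 1443494774527555368161440013369931873549798250374)) (.node (.leaf 1648127538731319077335392194418589789636234582026) (.leaf 0)))))) (.node (.node (.node (.node (.node (.leaf 420682077003267938355524378501667998840328552840) (.leaf 1234057433690764680279622993620655899583162261728)) (.node (.leaf 3102199051962033478756566924311455061027066724816) (.leaf 4744669213954944947702270274658786967970885776233))) (.node (.node (.leaf 4460989037895838174886456821305596617091898762112) (.leaf 232174566316290683019910840760414675768502411687)) (.node (.leaf 2121349732531829782324578446295630946993809654152) (.leaf 2885019303328830579350142593994987789455486840085)))) (.node (.node (.node (.leaf 5700438477730651119461417475371230105308682305616)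 (.leaf 3875143600893206108956474565346356356355347737684)) (.node (.leaf 3100182968275266802576865418272752895053275009024) (.leaf 2253003237279907198765818767039372189666537508736))) (.node (.node (.leaf 1340043121158966527350756811394971632129969084253) (.leaf 1213775777198852106226547787359128260335681255277)) (.node (.leaf 4141280267747837015030880418281680469740816722965) (.leaf 0))))) (.node (.node (.node (.node (.leaf 3216421550613779859680743063336560888537010957419) (.leaf 4002343290346812061012486555114787176090634671965)) (.node (.leaf 521490733084005307929739867283523036964123685737) (.leaf 871838841571802757859117292698883905471553215502))) (.node (.node (.leaf 4758056960752516162473318300550918123937233404934) (.leaf 128542084617318531842121884333286353307735387283)) (.node (.leaf 1828295196550042533686625920347912622689314260406) (.leaf 0)))) (.node (.node (.node (.leaf 1422996411832893357760120680788700336640651539376) (.leaf 2476594226983873237462925878550554647574771915318)) (.node (.leaf 371849073140096321283612806908511797863931953616) (.leaf 851289676389794258455183651628383842345751350653))) (.node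 (.node (.leaf 1061357633008267458490072820036976719531484359138) (.leaf 1510386376242164351977508199408860265476863242288)) (.node (.leaf 4183584901318754074755482937366568836811053337668) (.leaf 0))))))) (.node (.node (.node (.node (.node (.node (.leaf 3924957016424040227974772183072335936759005198) (.leaf 74557370574975027714537624666422426180728066048)) (.node (.leaf 1826206003024425659750722626226540706448583806294) (.leaf 1220769138112603224208147208077256137155819277626))) (.node (.node (.leaf 725539679977831473535403066211443043905544493899) (.leaf 393430645882357859852682877906503750378758627807)) (.node (.leaf 1861019336846998690782759566955947225861533209612) (.leaf 3928197186128925522624252006099752119363821306040)))) (.node (.node (.node (.leaf 71563375733111221403451379667796585680359653815) (.leaf 1364164089677666827828378155620087779659118546316)) (.node (.leaf 579264138103944498937851189153259409252293501145) (.leaf 3540942562653731133019097819893284692077817389473))) (.node (.node (.leaf 1616734134271903963080304587842984511379752846342) (.leaf 2437893999743764514544772963535478587164406245766)) (.node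 (.leaf 1537635224811958549991343224906736615006683612080) (.leaf 0))))) (.node (.node (.node (.node (.leaf 3157077485277561241225889786041064416549710139143) (.leaf 4755936336123493641027074561567381770760668629046)) (.node (.leaf 4595220667711162930454578207728763743166023360614) (.leaf 2136010961819503016373879311549350289443637117841))) (.node (.node (.leaf 4436940922247437912546636378707346766926796082262) (.leaf 5151824169032553915847454830614561203224794450870)) (.node (.leaf 182689098464267082065449251161451491694307443200) (.leaf 0)))) (.node (.node (.node (.leaf 1237372249509136644612081226002601118862121744310) (.leaf 823792663846156432950995291644836010136426253378)) (.node (.leaf 289153275184541982654346892644572387090973286761) (.leaf 4595889693299786304792162783979270317894617202945))) (.node (.node (.leaf 5573531651039479761376395642565740932088529587584) (.leaf 3133284183054442221672945155487170586089171480020)) (.node (.leaf 3295052880063259743646283677007450520814705208348) (.leaf 0)))))) (.node (.node (.node (.node (.node (.leaf 4288577870279584082176894823955654004047952241064) (.leaf 494597951018595049000140663649804155900061044247))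 (.node (.leaf 2063274379932023636760887385024845210159760917844) (.leaf 216471768747625336730297556535633250350975366572))) (.node (.node (.leaf 4939980708531827663186032743698471680952701873270) (.leaf 549180242358046212415153920013270768423882719296)) (.node (.leaf 4349104608713878159520910181967017360581377371184) (.leaf 0)))) (.node (.node (.node (.leaf 2994824316926567952244465760717736581670543950465) (.leaf 956720184109857564005524279445667085492642183803)) (.node (.leaf 413104239857720201438296903117347072465674994694) (.leaf 72580127810406268215844414865370732967656954894))) (.node (.node (.leaf 5621582067685181595159269285035155440004623700998) (.leaf 4134321521644053468682430309048865494851101959222)) (.node (.leaf 189473418274695565191057448889870957645405356544) (.leaf 0))))) (.node (.node (.node (.node (.leaf 4105726532851310963270034849866838019221251234182) (.leaf 3976076968843980509184180006136866475455908613501)) (.node (.leaf 1183464751960159948759310379763094674004477013110) (.leaf 3261777224958496872795037836874685106261708633990))) (.node (.node (.leaf 4640067551289874282132008633351688987729592606816)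 (.leaf 3138022587552698542733287998616269276034423773915)) (.node (.leaf 2465019878271511908687702768449782296079517295152) (.leaf 0)))) (.node (.node (.node (.leaf 898573123339150512722672337388815601884697602723) (.leaf 2979623309818957276722148050386212495734789160559)) (.node (.leaf 5542878298474725141178613948570059952266041649670) (.leaf 2860622381092076496248523453942303672442221691215))) (.node (.node (.leaf 366089731439827457936692771205650187146338795584) (.leaf 234163489799238653125806436778278939491069266819)) (.node (.leaf 5216297135724604526493791194755252173557111036747) (.leaf 0))))))))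

def hT6 : NT := .node (.node (.node (.node (.node (.node (.node (.node (.leaf 3109912824118616444637684112287546185901917867467) (.leaf 411806345420952072869525508380897579004499853376)) (.node (.leaf 2656698084020465233114738277604008258958606997514) (.leaf 2762569785102360549580436619385877940474337408877))) (.node (.node (.leaf 79368653056380653012044747505461834362557563319) (.leaf 5114985296934555307281031968078660765870644555180)) (.node (.leaf 4820689011320125883613198292485440478546988912151) (.leaf 4823468180182043651825236585497072313797864284321)))) (.node (.node (.node (.leaf 1772468480769195575321333789253366798491314857060) (.leaf 1032135661717895918936219069730244400372564524416)) (.node (.leaf 1777516345390953940089408687674275043296525967761) (.leaf 4142734640687209964904206464019992358666993436678))) (.node (.node (.leaf 1690709679400674864701845558778410059112200803340) (.leaf 1699347264686277507743627475919728321635672034688)) (.node (.leaf 1957854058700781678043126316768492981762630046774) (.leaf 0))))) (.node (.node (.node (.node (.leaf 4578324433460780541345814617296874984030651054086) (.leaf 419085013498355062162463167841699832798327465332))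 (.node (.leaf 5388017577750214838682209415687665679676713254960) (.leaf 5081716144493971600571627692157210553736123715848))) (.node (.node (.leaf 5502215818265999090868811609324035560829373337495) (.leaf 3420383637400616392218487630667388540217293278604)) (.node (.leaf 3285821745471339478263413271791563089990817677817) (.leaf 0)))) (.node (.node (.node (.leaf 2336314894094411122056105622039139727374017086518) (.leaf 2281553951450822101267353557927001440106994280374)) (.node (.leaf 5332286711347860582093343744971249498815196198076) (.leaf 4365235046860779643974498340468477513239061769648))) (.node (.node (.leaf 4082648315043561746157075013481305916618070435493) (.leaf 4940548238481636690781007466383471472655437398414)) (.node (.leaf 5319865370686047012051876287039707501918439402496) (.leaf 0)))))) (.node (.node (.node (.node (.node (.leaf 2055941353030604497556527816452999969815885475091) (.leaf 5261842091911493822585875802065632342211866842032)) (.node (.leaf 3668894537229125904392558965721140692334595986352) (.leaf 2003266147581066164875263833143804512660005023013))) (.node (.node (.leaf 2035713882199529099587889703855430851771980059660)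 (.leaf 1836050921566968138025561313334534015216928161280)) (.node (.leaf 3697035762261755838693940263291817961277794853988) (.leaf 4704141268121165471359412704715283358471906897382)))) (.node (.node (.node (.leaf 3438024224099183684607783883820860285010141450240) (.leaf 2439917730850297063365115196738296031502632946956)) (.node (.leaf 129067523985822959157916289120346859189387799203) (.leaf 5384090152431655912912908223975431301886197067029))) (.node (.node (.leaf 2857031943846651562830124926667487939313191357892) (.leaf 4219594835881206901135220896665808917726213618614)) (.node (.leaf 2974300693792606130034434529872696830973402090868) (.leaf 0))))) (.node (.node (.node (.node (.leaf 3648536821984901879461482474510353270879510416310) (.leaf 74261753915143076152106208176588608863814049809)) (.node (.leaf 4349815866071697753945959825545864211440870555846) (.leaf 1464367283088934873732466602349103283456215875592))) (.node (.node (.leaf 5235027322910485228135670866421644928613343042574) (.leaf 1713669885954070704148397088156904839677698196400)) (.node (.leaf 3098193075139841601058572614142264202317638453302) (.leaf 0)))) (.node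 (.node (.node (.leaf 3438870884362294717544236818927152876237041200556) (.leaf 108225940619550898222920436951421123885542894811)) (.node (.leaf 2112460677658610403915577639326169824930254778295) (.leaf 2657416418455036963875546413897684901178541105254))) (.node (.node (.leaf 2293824347338575732815988390225235016431214267404) (.leaf 702542961122460452009129299669612628849717108910)) (.node (.leaf 2933668637261706626883361829430404578935667122449) (.leaf 0))))))) (.node (.node (.node (.node (.node (.node (.leaf 3437421330842338272663382199583155036824861871372) (.leaf 5542798209312811800518221742556846042361611255102)) (.node (.leaf 2310750325065195706501302776880609458253472346280) (.leaf 1824074633924110677934643912480917096254826218368))) (.node (.node (.leaf 1038564560648432902081250968244627545727168617472) (.leaf 4617674875280861251025856709680421525985301406820)) (.node (.leaf 2040841398493513373700523208158024662278993491116) (.leaf 1185438176927623455822645568026393886929615932342)))) (.node (.node (.node (.leaf 1820423033606086227848298904749091397805162892413) (.leaf 4623187645641113700284023825105409528244806736731))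 (.node (.leaf 1851085402484881248923450019865579013224984939779) (.leaf 746921714818031439040202011674311038080855838148))) (.node (.node (.leaf 5130253716922171437869349426195784822090705158673) (.leaf 2971630147746822305811218292016544322604337729544)) (.node (.leaf 438545144530588532939714547665582503814044085660) (.leaf 0))))) (.node (.node (.node (.node (.leaf 5605803608203305839848118863740075628834242464838) (.leaf 1900214016203200429650750791268783917533954510083)) (.node (.leaf 5106205673379012546756451218222573055599294444732) (.leaf 3926747599124877155581229617143927495315681643890))) (.node (.node (.leaf 2257362434297409391446499630556901580657336216723) (.leaf 1187763606156413388332326378857844032580851786112)) (.node (.leaf 4185748045040656633063716266311876068304470172128) (.leaf 0)))) (.node (.node (.node (.leaf 4083990279794315571485318336442503734838942130865) (.leaf 1834758336114807086622674769529233581605755306513)) (.node (.leaf 29950091007263845957598499883990628063573994964) (.leaf 653891697212670684113686836900079648429866877569))) (.node (.node (.leaf 5338522792027046172005096607462914362118250832816)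 (.leaf 2391867416460142779039947268348849769167377617974)) (.node (.leaf 2822052058071811482155974151158581170828708534109) (.leaf 0)))))) (.node (.node (.node (.node (.node (.leaf 654404919242235038565813080920702912751276720897) (.leaf 5542909843672076004308255133443380006764800037593)) (.node (.leaf 2597739497576889164962522280228432462405267030206) (.leaf 3098188141042651854398342941445428428928713008228))) (.node (.node (.leaf 2599144439390804462197866988555373193235675701409) (.leaf 4717094565360910996577837082647835986436645741014)) (.node (.leaf 1241174205945324772064549217467513957172909141332) (.leaf 0)))) (.node (.node (.node (.leaf 2257365946246789851386972584333215111268843015094) (.leaf 4216859951621795743668644869610002656403876003439)) (.node (.leaf 5336968574806551151563293797897424358879130225906) (.leaf 26661654077359141713632282141805519844302669366))) (.node (.node (.leaf 5281314349112836600007247662583833946881056552941) (.leaf 3751105563056292728644601352233587442044482096186)) (.node (.leaf 1820412692921287806273378127196408596271550232070) (.leaf 0))))) (.node (.node (.node (.node (.leaf 2463928576291704644001238158544491829328771956144)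 (.leaf 53642413451707610644893297836280561739217137536)) (.node (.leaf 205659043198285076407141226270753741143234773249) (.leaf 5573111463635502727420473826033682665670415226886))) (.node (.node (.leaf 2354058935438389679836895361010207037336989928716) (.leaf 3216419511116317764956813935150543124168161671734)) (.node (.leaf 1797421103138348635832694855689593727851906338688) (.leaf 0)))) (.node (.node (.node (.leaf 2161344911301391379503287171661518679254386164656) (.leaf 2538306173689057328150498418073899106008783080339)) (.node (.leaf 5492339549957400032504595261445879570018410018669) (.leaf 2464983919700974095424017880377192259081899303248))) (.node (.node (.leaf 4597339247266281124430917297445299576128570158180) (.leaf 4703008419048261576060069949991412861865794219568)) (.node (.leaf 3241465481751644966664102357095950490192324357141) (.leaf 0)))))))) (.node (.node (.node (.node (.node (.node (.node (.leaf 4756314098567039305925185742571574907090828821510) (.leaf 1837469052679945956743583494342967587016880920525)) (.node (.leaf 2616380535312204420987670478248650153320362616758) (.leaf 3025771087382913140096051539418730937437604282760)))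 (.node (.node (.leaf 1487281582081441338208511855490941604115182260224) (.leaf 3363919552864552455749740492229030195831697978540)) (.node (.leaf 257870358288725935346193703812465033204635219372) (.leaf 26415929992154033267338496610486284625881173318)))) (.node (.node (.node (.leaf 1243872618658056065624888776583878366378926825889) (.leaf 1380390555946812573330322121062880167586939398534)) (.node (.leaf 68864965742730056891806501452582953277845406081) (.leaf 5130395210902258498592193498271500738464617360805))) (.node (.node (.leaf 826768493034410147661654663925233295752147266054) (.leaf 3918674722046972630091899295311045016168627699761)) (.node (.leaf 1374913094608976724996890523524639308001296452989) (.leaf 0))))) (.node (.node (.node (.node (.leaf 3178516908109740888710066014569219711164036295331) (.leaf 3465329448451593670969934028536884474705418840306)) (.node (.leaf 235684484463934700435688911783620479142061261232) (.leaf 3239993627626466472051753939580071775475734348033))) (.node (.node (.leaf 5335318328070642138512621159603313514018387004467) (.leaf 69356016402402894631959672768829776153847037952)) (.node (.leaf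 5106222673633365537849137438728387333543139047814) (.leaf 0)))) (.node (.node (.node (.leaf 2340104464731990298932834677604169217794509343170) (.leaf 4620434505408119522586895055670368116464141772898)) (.node (.leaf 4616892040727492172853037194767373327837311865096) (.leaf 2717896297204291645545753226824860506174762451279))) (.node (.node (.leaf 1160897704186814812173399788015106048931351169923) (.leaf 2139636514651287347550232347551854544655184235842)) (.node (.leaf 234516128370530849695724172375343440614860193927) (.leaf 0)))))) (.node (.node (.node (.node (.node (.leaf 4118793426585515356883813726740123611196832962998) (.leaf 3033021355868197892630967784986829738811494250538)) (.node (.leaf 657610356597887758492876628693160971727019801984) (.leaf 2777640973710777289941341987612586866229072585065))) (.node (.node (.leaf 1185239781027729086835518043886632181513192983600) (.leaf 3918938623688240699884879928870293414415397810688)) (.node (.leaf 1156787897576861297851159368762876306026834693509) (.leaf 773131735720290797924051015172855685579915762507)))) (.node (.node (.node (.leaf 3437108626758200667173987894593752646254240299398)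 (.leaf 30717421413940661131472410193846637283272547888)) (.node (.leaf 2337238819029713193014684040428776573199881263835) (.leaf 388345439969390590084906255413390347479061659712))) (.node (.node (.leaf 1243448905272905424148377770096373656801926450301) (.leaf 3578643733171918914925635580977035119945561102390)) (.node (.leaf 5058229844512940232757707366886502325318357118052) (.leaf 0))))) (.node (.node (.node (.node (.leaf 3175120445700423428011600668449927547951436229907) (.leaf 5197052416969596184674170799762630608422233705597)) (.node (.leaf 75294982201469335720343638846882274213191770673) (.leaf 5561291188279356089188515415803509131427888259473))) (.node (.node (.leaf 2081631683019727534892434487454995949009636824204) (.leaf 4803486549488948132988645595634500890391058279717)) (.node (.leaf 3082273248713836117079942050595681491050031665881) (.leaf 0)))) (.node (.node (.node (.leaf 2970731497450557757624268595994453070769949229520) (.leaf 1512447784343434428257398876687878377754009469311)) (.node (.leaf 3471424609364058435446531148092216968955781186049) (.leaf 3621560929515779000805192641044690249043501171766))) (.node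 (.node (.leaf 4623172230533558959592530535648027825116987701174) (.leaf 1186158160181451462250502162947163530195410378785)) (.node (.leaf 1816386900273182645832339723623504983930116053382) (.leaf 0))))))) (.node (.node (.node (.node (.node (.node (.leaf 4344836819960486426858667963922765774255087108656) (.leaf 4857205915620064503384230990264803869772089318107)) (.node (.leaf 2316080675479736617325950834661614385091060891966) (.leaf 1535484630889994090923161723965608708627673582730))) (.node (.node (.leaf 4747472442651817828338954372191594020786051146112) (.leaf 498498360074202778377189199830169792638550628634)) (.node (.leaf 5131349981484479900299154856577096025393423304020) (.leaf 394685036603581963491855377415931958346683687136)))) (.node (.node (.node (.leaf 237526752026478411261483477350366434716382068993) (.leaf 1961134491070423328581451158219086878481638009904)) (.node (.leaf 1445497553139159116874127298724987774915552881315) (.leaf 5708656476199342695598685463006919220052668760112))) (.node (.node (.leaf 1567330238230178109033853443063401178728221049729) (.leaf 4640615586172485088341214628754576216648078017072))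 (.node (.leaf 3714722612597105287045757160780883957378340438960) (.leaf 0))))) (.node (.node (.node (.node (.leaf 4903502872569266289874605680460629646047927048141) (.leaf 3522784485882403247785545749028142301589485457792)) (.node (.leaf 2415520804585960617707555271181530791409088752661) (.leaf 4273363891674976013665492664585966536591868416))) (.node (.node (.leaf 4747490083992998690959810094109912566599571857776) (.leaf 1568199949587621646765151563705625402257666408705)) (.node (.leaf 3334347184890654158745923381553334616552079244720) (.leaf 0)))) (.node (.node (.node (.leaf 207422332044328500347517420958058292268360319024) (.leaf 3180824946964797055980560396651685839507667720070)) (.node (.leaf 3880922459254477275365424188907497002734814994480) (.leaf 131033125592111959981128114171128675026577415198))) (.node (.node (.leaf 5437386518221349977385425772270427922891960994864) (.leaf 4750031582792601451820280629618078854130515574854)) (.node (.leaf 604281679031099122588048757743075198172945500214) (.leaf 0)))))) (.node (.node (.node (.node (.node (.leaf 4412101025516365719285190603858909201693702416390) (.leaf 4393174446470866172980086106507976566179457404936))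 (.node (.leaf 5571438028708020552378792764871997136985970467377) (.leaf 2821751950364403383005491493595792438570721960110))) (.node (.node (.leaf 2060761321201561323597949387239254058043942198558) (.leaf 894074663864233718537064019646582359254051408822)) (.node (.leaf 622889653960027331326530028739895728452577464712) (.leaf 0)))) (.node (.node (.node (.leaf 5763158954410155415270611111571514659578662554994) (.leaf 2138677574454177061149754924205500575364013908369)) (.node (.leaf 5730380533823438624163494640329180437452642155904) (.leaf 5708677949693801775306939301766082245474138234976))) (.node (.node (.leaf 4940544872481262031480612759108824903168743644160) (.leaf 4038585178416242269890386340813979208723233836807)) (.node (.leaf 1850472129730259242048362808143243232693223393730) (.leaf 0))))) (.node (.node (.node (.node (.leaf 1446077378979708678265863159971337028558799158198) (.leaf 3180829425582213871905827944630816755873437650125)) (.node (.leaf 934873799802965318901368258997594082624811852246) (.leaf 5786401700389808060101621682513830183468289387398))) (.node (.node (.leaf 1852780235866512547739633477167795511821593501735)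 (.leaf 1564475742068497018190679578258410904900415979649)) (.node (.leaf 313720833016724420830256432737223193260256459387) (.leaf 0)))) (.node (.node (.node (.leaf 313862676684221450114280452413843165844224016582) (.leaf 3398906206132540276925534538043329808677457229702)) (.node (.leaf 1259916149837944527753095699579183008811362030604) (.leaf 70674857875428603436448986470888461508009225728))) (.node (.node (.leaf 1422101552372569307505264567442737595066069314667) (.leaf 1958062451737841157289981437269204053541707579510)) (.node (.leaf 3178510184151604981435228956906559718662894480661) (.leaf 0))))))))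

def hT7 : NT := .node (.node (.node (.node (.node (.node (.node (.node (.leaf 1651025948637540151926388082685993562422085705824) (.leaf 5254966512193633040564236338913359461143946770998)) (.node (.leaf 28953350221420096235587123402428126156025775670) (.leaf 1638090748491195499136901135443759813200228123063))) (.node (.node (.leaf 5753171895051796257199752044973308710937608776070) (.leaf 2466255061176792864853892274707421823926573427994)) (.node (.leaf 7113953966837307866811942006754964039624294798) (.leaf 4324972927789844714553680946674424898149924495462)))) (.node (.node (.node (.leaf 313193653413804203414292731894529644865061413288) (.leaf 5277134697878501875976190042101800387524343327981)) (.node (.leaf 1487292558396967044359983136935573085407680925704) (.leaf 2435234546560710635794024125081087310092282888590))) (.node (.node (.leaf 3235644998335301480525844702020079846369636319472) (.leaf 3031922000929237913256255746163551285406825822134)) (.node (.leaf 1163382799910659886767507559445845313908111959412) (.leaf 0))))) (.node (.node (.node (.node (.leaf 2994131032194699297006961167693183879686887842352) (.leaf 3420851952794568253263798617494315544712591117450))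 (.node (.leaf 4614891742055399752598181792289692469484481498038) (.leaf 4642867487382909908520846657281478988971295989022))) (.node (.node (.leaf 2467749266984130326447397301116274242957045162023) (.leaf 1215225740598540262579361140507848065583584384006)) (.node (.leaf 2676246732925476380679265097459669338692557023158) (.leaf 0)))) (.node (.node (.node (.leaf 5207734525140156253285318947213160972294602910804) (.leaf 1983281387217967648253288830330039707566206490762)) (.node (.leaf 2660307595414796501715866734279112910834584185222) (.leaf 4369832434372014911779813481602697799470860551088))) (.node (.node (.leaf 499939406512942888364528323609347000856980450644) (.leaf 2858637580486951190290887405351209209484899478893)) (.node (.leaf 3158033585721485708681526648933914429804111296902) (.leaf 0)))))) (.node (.node (.node (.node (.node (.leaf 5421180612398934107915595176476874734572598354816) (.leaf 2158958733351650549775371635932251007864234132241)) (.node (.leaf 3880919483614064340528918306623476970645940625888) (.leaf 1747197075579091760684074358592763458909168559925))) (.node (.node (.leaf 5395619681602711394189334610562995268291313205488)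 (.leaf 2139827441233517905110657738708064145853067851782)) (.node (.leaf 1591571305810188748570697701572794710446413210024) (.leaf 78898988592914091592218715357893729877522967552)))) (.node (.node (.node (.leaf 2388770572800264599070955119875126949876286282459) (.leaf 3115711012999947215478419817232901931825953729762)) (.node (.leaf 5573534337271143172698683307264434272596416987334) (.leaf 339159144792840031080554672240889822733945418924))) (.node (.node (.leaf 2112695639143062599575399568882532109272195727872) (.leaf 3288741782975738458146586671867108782409717383169)) (.node (.leaf 10524904261836868632982008606771786577748749312) (.leaf 0))))) (.node (.node (.node (.node (.leaf 5257393184349770018571455700472819255236960019249) (.leaf 3116625345793279413659277416427773019491711872468)) (.node (.leaf 3878703906299126152603460426941536067860537811504) (.leaf 2973998033931034576557830305154064254668941053463))) (.node (.node (.leaf 1653565411723344079524368076723878742921845774) (.leaf 3278665539791733679240629359551676551215283952182)) (.node (.leaf 2412753151684750193286917306289140605498360549784) (.leaf 0)))) (.node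 (.node (.node (.leaf 2727857813629523087466659516554701023808109497270) (.leaf 1668522485267582413453830727094240508537964973398)) (.node (.leaf 4344842784942222771961455442185198509208071856529) (.leaf 51833914671162040577146489013370230586036259718))) (.node (.node (.leaf 4316141824637817344217962348515659287540318364049) (.leaf 2516408061176060452530979975622392658995985207704)) (.node (.leaf 3521927086247206300520069470664878548277680479502) (.leaf 0))))))) (.node (.node (.node (.node (.node (.node (.leaf 5195559628001885971156966145661285798846804836400) (.leaf 998529136551219271069376036060945613804456449414)) (.node (.leaf 1751549644085128356905597661466840224465377367430) (.leaf 1939750651786373129947430130510782010419616412160))) (.node (.node (.leaf 313207436784853660749003135855639737623622668696) (.leaf 4324271012127199951058054334477248148046002617728)) (.node (.leaf 1691313672461521700499873045140451226240249203138) (.leaf 2946559309312544316694239696697553759277754589232)))) (.node (.node (.node (.leaf 2472303962933861145549211708422801495991832717750) (.leaf 5209518558894574533472332583329683596329098152970))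 (.node (.leaf 1372525681389229027295061896975953001562859198746) (.leaf 5259004010908822522864113034655389760910057016378))) (.node (.node (.leaf 2762565499021434913235358424009233896214607129819) (.leaf 3460302069477448973439853883430760515148363795724)) (.node (.leaf 3473170343549238447591839929309075273915627167905) (.leaf 0))))) (.node (.node (.node (.node (.leaf 873679534459031328696820521571434392131124358172) (.leaf 3738448346648905576038636262734161815350799279158)) (.node (.leaf 89203150935793048087997312899691042473771016) (.leaf 1164080246849202678974497585608107663489410752873))) (.node (.node (.leaf 1634879464313826634648017425387349083657146163480) (.leaf 926667098433589979890406248917615834990749737072)) (.node (.leaf 1793672612752878907223049279387233178229626185509) (.leaf 0)))) (.node (.node (.node (.leaf 2539602504842331589521392538494814866551621222584) (.leaf 5543896425548598635268622960837793275885047475419)) (.node (.leaf 5628908486754327025170952141363990903331476777058) (.leaf 3795885575620372039729029382839491891605498432882))) (.node (.node (.leaf 2467746503174382268055289648635885617030437285424)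 (.leaf 951876523244410075093789484775857395227545416553)) (.node (.leaf 957375430174049121272975993258295728275819618384) (.leaf 0)))))) (.node (.node (.node (.node (.node (.leaf 4158759495928896415418234372427022002684824908793) (.leaf 769032231531477304397896265631406117466678844702)) (.node (.leaf 5279931694233163303823555215617688763049473943094) (.leaf 4535609708669013288438654971209425164559535795347))) (.node (.node (.leaf 337033048945860761206602060826678458839271173485) (.leaf 4430282766874632481900824413565751412681770799104)) (.node (.leaf 1899646191194622735293406756401608027147631965104) (.leaf 0)))) (.node (.node (.node (.leaf 4716135625413761690873377367806783975893301395585) (.leaf 3314209427506853848070741612784950182899606096964)) (.node (.leaf 2114904832226967847907003621993958168192894042289) (.leaf 2832263534501957072900942390680859452540623397537))) (.node (.node (.leaf 2659608244229015408942073555430250082239103704334) (.leaf 4962779629476322212833215512574171952469604399494)) (.node (.leaf 999880718847485359895917545270628947656892940472) (.leaf 0))))) (.node (.node (.node (.node (.leaf 4053673854258846556627105793073523536561624672053)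 (.leaf 769678367483940481967913834576592769405400821168)) (.node (.leaf 2535053182264224604865678111210427838398643069407) (.leaf 2946598345479441020735920817438315378263917977968))) (.node (.node (.leaf 956361978379618059254697285992123885891664170903) (.leaf 3928188651502565330839807834585453784993882009912)) (.node (.leaf 5423071390531156922527447200140276606299891506574) (.leaf 0)))) (.node (.node (.node (.leaf 3977730933205822276843056154450372921773581619095) (.leaf 658788816517476713668691619355620470982436913457)) (.node (.leaf 5544358755609890369484590829662970492005088461830) (.leaf 2821748924799415229214288917813360217567654198704))) (.node (.node (.leaf 3241473504469410495790294085410937338115978970678) (.leaf 71507361786192832054581777558327516274985537536)) (.node (.leaf 1108260665897929329493822880496985295143887192624) (.leaf 0)))))))) (.node (.node (.node (.node (.node (.node (.node (.leaf 3440951728226784619751851782838535987555439939976) (.leaf 4038473352393158869522957787424627111883864039903)) (.node (.leaf 2116241742868678866633030536701075726360445649793) (.leaf 176080094118776420074427019439377103038363627392)))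 (.node (.node (.leaf 1935700078517197538069723379740791685221978522678) (.leaf 2391063804101494532607641853636177896811080575366)) (.node (.leaf 3111695947766499774614595659128731958557704191999) (.leaf 4121256371462313059081396946858325258859697929728)))) (.node (.node (.node (.leaf 3795891525272467846222696964207420121777309148404) (.leaf 977512894891749126997856742989476279524287602790)) (.node (.leaf 3116634936380488377155252886645793257030664307766) (.leaf 4032159808155785903945019908412570306737619535366))) (.node (.node (.leaf 130117009297329628712961991226111704903517089960) (.leaf 2001660491829221817397947552881935055946610929061)) (.node (.leaf 4103377128428005597022941936611934741737132311606) (.leaf 0))))) (.node (.node (.node (.node (.leaf 3539716024572454215189363495350548581197221462065) (.leaf 2886981751891167574057790152418309048469226258550)) (.node (.leaf 4433131806853127866367192333354457163767031533576) (.leaf 4943187142449253709179414462219800250801993534512))) (.node (.node (.leaf 5765299237154656458414563462497124029524437410916) (.leaf 107728267131427719728641294889762106100026601856)) (.node (.leaf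 4156399955074262656668176358677363828435077153200) (.leaf 0)))) (.node (.node (.node (.leaf 1115917754323718619755460106758563111596911678169) (.leaf 4053437344085416098140062460396580222210933809631)) (.node (.leaf 3749089631057680133042764822092440678535286519814) (.leaf 5205553144084530322052157474580678891947785759792))) (.node (.node (.leaf 3850725444478736324876339908037110671401369397490) (.leaf 4040279742615000419825345154689694527794397515020)) (.node (.leaf 4270213439336980641675947353910082781379425631422) (.leaf 0)))))) (.node (.node (.node (.node (.node (.leaf 2695693158598121602056859185159158471635009873701) (.leaf 4640424360427945111188841490255962370527315127378)) (.node (.leaf 4677524413746193203623820104268165260113165015899) (.leaf 2412975200953490020013093594230419418777055365570))) (.node (.node (.leaf 4752746001113347837539262773925421437270529967172) (.leaf 2118331566640270359266773956247390425980782121096)) (.node (.leaf 2466165858438820390844421920333264861399352806772) (.leaf 399451860973796021179601355078669797089796189596)))) (.node (.node (.node (.leaf 5398471621077158686520649182507875170915003341194)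 (.leaf 1004666516042221680199311764769733946148578519430)) (.node (.leaf 5195539845941824008863162547975211367746727878752) (.leaf 179298663101378284085582575291481836899750669787))) (.node (.node (.leaf 4392951351563493180091272660468980597347279699982) (.leaf 2433683663992228867426029873388004239799277889634)) (.node (.leaf 1773847076980234504589527030694009876971726635904) (.leaf 0))))) (.node (.node (.node (.node (.leaf 2621361056118615195496144454770859359980561261440) (.leaf 4456883189780829456766215346154730117896605854838)) (.node (.leaf 2991645241137845770928043405571353926139705319985) (.leaf 2597427251300067739388491959557444971259119755537))) (.node (.node (.leaf 4576265135357631267331913181421688670811255931777) (.leaf 4086400915396759321788168879719679758160371717510)) (.node (.leaf 216473025750563803033901643238523193394875815990) (.leaf 0)))) (.node (.node (.node (.leaf 2340098482524239920098040563574425657703269141956) (.leaf 4238015823984995842057109750056440293638621196600)) (.node (.leaf 947942184236645982326736890139195092174912359876) (.leaf 2643327680374573907936619992980182847882722830854))) (.node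 (.node (.leaf 5209510043283351084707920333588567292185973101580) (.leaf 1750465441467554299460129156217895679592590147327)) (.node (.leaf 4105819443048650918825810502687251116015542401659) (.leaf 0))))))) (.node (.node (.node (.node (.node (.node (.leaf 3603227154218493554795692225316859819285037013274) (.leaf 5388036004721075552613917885853331917341457686624)) (.node (.leaf 390936603787165260241484104425250878307277953078) (.leaf 1644447761713705060173585168003195065094334138294))) (.node (.node (.leaf 3105623827959969329718139903020620609472585742762) (.leaf 5388394168946193841139708504360234510138661142646)) (.node (.leaf 1860139499816975486186298967061169870344463343711) (.leaf 2235931488792437014053055965072061262403675381793)))) (.node (.node (.node (.leaf 2409254082502273117700587541188669932483472648582) (.leaf 2537260951700257219006920996545183953768725089290)) (.node (.leaf 1652676209737172698949650555527056640707148316870) (.leaf 5316897740345800804498909042686682914184606453108))) (.node (.node (.leaf 4725569540040155986070707594223784375267051245832) (.leaf 3239214833036439468356165358456607651276058736044))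 (.node (.leaf 1986147032953082780690297983212416850066480847902) (.leaf 0))))) (.node (.node (.node (.node (.leaf 1642305594791478413838960628193350056598655233492) (.leaf 790253132687476026519160724876184648062249902304)) (.node (.leaf 1810593560125461633885198006411688839980048384) (.leaf 596848761045707756101127784917110630736291091376))) (.node (.node (.leaf 1343227205866173555501026244066722690112740965999) (.leaf 336743154145651156629161472912568975354004791775)) (.node (.leaf 5786414079604591472454105907409583516353658971957) (.leaf 0)))) (.node (.node (.node (.leaf 981722847356014176393030905092756248879373843774) (.leaf 2163179174978000711013599206212249526591291441)) (.node (.leaf 1214490097897081443118277591654498800695209915452) (.leaf 2978850031082638098349682309759313616032933571810))) (.node (.node (.leaf 2884207763211906608919236535741250822964728071236) (.leaf 5540057537391175855092338212436493070592550130742)) (.node (.leaf 1652684292097621343192186860586936314271533796736) (.leaf 0)))))) (.node (.node (.node (.node (.node (.leaf 4259564439236161343317467308681655775384010976538) (.leaf 3465850511125581581668098684628558684176275345792))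 (.node (.leaf 5231105869720305539085582738577803748043805949966) (.leaf 5437656680028417150588092780294403167917537193300))) (.node (.node (.leaf 4435345141155228183732761859004753243365751327923) (.leaf 1381103484245539740443767709543970002810555864070)) (.node (.leaf 5442785839344036841720560027625290242629860524215) (.leaf 0)))) (.node (.node (.node (.leaf 1058135872276096898253309920146318727246171849168) (.leaf 5130387782773129013723456683551268255686632885139)) (.node (.leaf 5831189508316131454972333500077378319043460478390) (.leaf 878355572989351486263696093237495868471619773312))) (.node (.node (.leaf 1837043726953540585612997013454993237402814395564) (.leaf 2441679470677511076728216828404714665370573341070)) (.node (.leaf 4241919804596417552234652145863781996769388282385) (.leaf 0))))) (.node (.node (.node (.node (.leaf 1835362242093917153688718372379687901723119385211) (.leaf 5114613665978926449547284463338367158554407089590)) (.node (.leaf 3496812788580610811598760388860727163868753485936) (.leaf 358205721083222437500396401092583940960551425))) (.node (.node (.leaf 3416277260471141934907886248051324118082538237046)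 (.leaf 5090836539318752859246014784074776092663935209856)) (.node (.leaf 4340382642027723067229837934536609283792029024446) (.leaf 0)))) (.node (.node (.node (.leaf 5261856469415699036560748793609608209297237980009) (.leaf 582205385126141609747395325888560089317183367266)) (.node (.leaf 4747490614655535497391387841043405677446296699120) (.leaf 337952433491279281656522688862180804701902935430))) (.node (.node (.leaf 2492901072338697703065146810677598993129169278557) (.leaf 3974069905745112584596846138659102243490053513695)) (.node (.leaf 878041704547079236519661334787370035038156737584) (.leaf 0))))))))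

def hT8 : NT := .node (.node (.node (.node (.node (.node (.node (.node (.leaf 5214217179758776703690604225186886032602818536838) (.leaf 3391191958042539851010437484915128446206505139248)) (.node (.leaf 2419941047735341070393572297198018140634678616176) (.leaf 337947379186911478135264714950193029834722970892))) (.node (.node (.leaf 620039970765420982014690638160546674144843612720) (.leaf 4535614597399274772917945066225008073072119794614)) (.node (.leaf 209751036009444399477214838886356359348433803702) (.leaf 4219598369904933249874946618238264292823386150749)))) (.node (.node (.node (.leaf 49096876573145613997221275786983992415559810815) (.leaf 4577699401565434685947893624809598136469468990512)) (.node (.leaf 2139034387801329143320517178380612503473395098086) (.leaf 1421750004506974667516798564671138385812059459456))) (.node (.node (.leaf 817440746743403429878818658010845287982730006423) (.leaf 1830302020009307881720237332002146059833611191041)) (.node (.leaf 3465855258149374110532776163931672472764158906632) (.leaf 0))))) (.node (.node (.node (.node (.leaf 4956722427073125634137927274348697470334672680813) (.leaf 4162911908073053623501288507127121378574801505485))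 (.node (.leaf 2310571570670648579778725933425778011726236181297) (.leaf 2971087612451389901875827674104433642795785169122))) (.node (.node (.leaf 1507318627579925437920540318675560312993919270920) (.leaf 2139078988896584013101282064102690076783861566853)) (.node (.leaf 4040289530302721713105733522672190119142536124554) (.leaf 0)))) (.node (.node (.node (.leaf 315588054422376620607868331579925847160331689520) (.leaf 4259911845296023293149975097997060973014065197929)) (.node (.leaf 2227199798517604658018031022506074538186209301772) (.leaf 1718469041250106321904043122004265007278918861696))) (.node (.node (.leaf 3936965448903275258057931112222477113190192362416) (.leaf 4413709799563635452860911699763247339241300689792)) (.node (.leaf 1819442038866249413909038250600334865760346642826) (.leaf 0)))))) (.node (.node (.node (.node (.node (.leaf 4775666538189249281769368736495017527737410422790) (.leaf 856167247115160660543012715252924892842615040390)) (.node (.leaf 3072090729019196513725047524680201994004626669056) (.leaf 4567120802540711135554674538346361825897313955109))) (.node (.node (.leaf 3256543724569531847497686640285803971432833268662)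 (.leaf 2232053390216900467250522152509127603966957745340)) (.node (.leaf 111202208320829951144204458634059242348614090112) (.leaf 5806511697568300308341619694491639655616617319666)))) (.node (.node (.node (.leaf 4751793349639587643938717795842335308219985363134) (.leaf 4216869057854100810700343186397669989035420212784)) (.node (.leaf 75496357477001529742279006979025260011277196288) (.leaf 2113745187513607837350893546576887921371983315127))) (.node (.node (.leaf 2056008256032838688753832860320775574834176855052) (.leaf 2392430943934174963401684634336641507185160209748)) (.node (.leaf 154863138125226653521146527465658297681958762886) (.leaf 0))))) (.node (.node (.node (.node (.leaf 3297673228706137296965100726594943023926722200644) (.leaf 2393137495243561094499793929053833955033798788534)) (.node (.leaf 4108431078661692509996058705445239577787073301618) (.leaf 1372526893860293618878702904208206421768108469420))) (.node (.node (.leaf 3855987056003723403405645786532693088238894517507) (.leaf 997437834582211688999452368845529423219905075590)) (.node (.leaf 292213593321054180672562207511862245798252760406) (.leaf 0)))) (.node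 (.node (.node (.leaf 77428484566074987766419677442911664152104141185) (.leaf 397110275902009298100436988811280770144822627442)) (.node (.leaf 3209174496313562123761961053838578883872675813430) (.leaf 655344163963090905972747695350885446836328646738))) (.node (.node (.leaf 257871675096727514496514559821968047644642859062) (.leaf 4039415984114133190934220382087075583522889969072)) (.node (.leaf 5540720798994816365044078249376315781527325729585) (.leaf 0))))))) (.node (.node (.node (.node (.node (.node (.leaf 5781057719348188442451726406457110849823890832702) (.leaf 3539708359221321883605716303148607983310114677297)) (.node (.leaf 74222455736078634971730190415122493141292180017) (.leaf 4320516255392923002971206776767465803194322287806))) (.node (.node (.leaf 2414115820058425014576178956652467894277861543026) (.leaf 5400279941424431714397010342333913980516669367396)) (.node (.leaf 4638907907550715365658709196086570211617649197441) (.leaf 186468772617004098564693369520633524948013613953)))) (.node (.node (.node (.leaf 1646210878919113319721366589290733407927149428096) (.leaf 4567125487109532703223888034481237929229063965331))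 (.node (.leaf 1381447221884576521733271735351550887481237335461) (.leaf 495201769796442410769101467902780109337029386913))) (.node (.node (.leaf 523437725660937511491633945975132413965860732800) (.leaf 2660278050587044422357898734722208024972286974362)) (.node (.leaf 4921457551773724083168244493697154260544219164080) (.leaf 0))))) (.node (.node (.node (.node (.leaf 3924985848164719015813038933903228448826208029810) (.leaf 4595877247281762073659632182326813329940135150209)) (.node (.leaf 3960644952861368950864553735865109896353480204689) (.leaf 234164804671609078679674518170978138892913804806))) (.node (.node (.leaf 2139066684035621746906854885185746748200111769094) (.leaf 853408243015216371192219215274836712804873953697)) (.node (.leaf 3441836901933976428047303786529064026553290853434) (.leaf 0)))) (.node (.node (.node (.leaf 4576112950130176289184484895759448390565651546624) (.leaf 4567210771403916240109158300757802600844837257217)) (.node (.leaf 598085895251924644111050069925536969960115429855) (.leaf 4966150938258588889126458665437722940426536656992))) (.node (.node (.leaf 4325336352376873051409456940727684270928471873818)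 (.leaf 2579792787631063631033862280354977487429413397041)) (.node (.leaf 1402292321784983041798128655083074556865042087296) (.leaf 0)))))) (.node (.node (.node (.node (.node (.leaf 548154411992161091783964541383797293430816833800) (.leaf 794358908912506046314685180469923072219090996115)) (.node (.leaf 1469674901182774274884353791117273905295272971330) (.leaf 5362249305998489141671409385207852907384408753590))) (.node (.node (.leaf 654406026432986558059278404346618195200874513280) (.leaf 4799918420673501058147740035271202195198060006514)) (.node (.leaf 372356253864082194020471734654873047989080583578) (.leaf 0)))) (.node (.node (.node (.leaf 5180475367507203587331705168319052827615291503104) (.leaf 5760432851823438002123435295832713497594246273414)) (.node (.leaf 2389773317612903850667421032333948321783314409990) (.leaf 29958062076401960108843390766858195773268673590))) (.node (.node (.leaf 4820613706583741905386629634053684600509873024428) (.leaf 3621762636080618419226228397610276141850018121222)) (.node (.leaf 74267155054977012128702951727397744934946095664) (.leaf 0))))) (.node (.node (.node (.node (.leaf 3473172337587694359276481615898819891741443892144)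 (.leaf 3642671292565868624435004570725627618880277085374)) (.node (.leaf 993813417316639476011119669214782876038529851440) (.leaf 2536257418017528520189634687952333332427167239293))) (.node (.node (.leaf 5136104190783050303064757360369156201588922802215) (.leaf 2724467827859602921107258281386335011843860736675)) (.node (.leaf 4614876349576529599842247931101357838668959983269) (.leaf 0)))) (.node (.node (.node (.leaf 3791060277880162138425312335107448002395989105694) (.leaf 2120145519238154913887602413901012989329424515511)) (.node (.leaf 1827847697840973986570369208482679853125649852934) (.leaf 4826358801498019235405484687592481907498860167697))) (.node (.node (.leaf 1108258537176515059981462972980581667222216253985) (.leaf 1819486399244088879649456989140038986935389089061)) (.node (.leaf 5335197132855666407531392700651973053151066596001) (.leaf 0)))))))) (.node (.node (.node (.node (.node (.node (.node (.leaf 30351507928925674888116484446364493808430181741) (.leaf 5787087815119645254490153870512827154781721529714)) (.node (.leaf 5538655757941491008132944994001987494133603696975) (.leaf 2009577992409083885144937659176856846713529310208)))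 (.node (.node (.leaf 4004734217692733174768444507897165584855410130927) (.leaf 1397177995964905755796915065360281531251829300784)) (.node (.leaf 2696978013711168786877954718584552774982257017215) (.leaf 5803010485080939031528240992327355352289615834533)))) (.node (.node (.node (.leaf 3471430878716416727811634773079052054208222068737) (.leaf 2234485468403107732280957841980965861448900690480)) (.node (.leaf 2410467760843983522811033853675764034003499386052) (.leaf 5362450143875502080589039380506862831767304660358))) (.node (.node (.leaf 872485282331293614091950372452134964362637160496) (.leaf 1057377130717767029598110446813948066225202488192)) (.node (.leaf 153311177928071845433557261214933276638500935261) (.leaf 0))))) (.node (.node (.node (.node (.leaf 1376474140817932492170676805554101703920577179034) (.leaf 1830546216318249727696450976037206334889576652846)) (.node (.leaf 848489656554834758524800865847039768190767900770) (.leaf 5212235873841014610501401718932595355302967673924))) (.node (.node (.leaf 796206439461335768224247599573214625733508358568) (.leaf 4036908525017083714972558747682945762267628990848)) (.node (.leaf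 89290093246694847339131742430483417223139336) (.leaf 0)))) (.node (.node (.node (.leaf 3461104899878678530150206481974427062125998399968) (.leaf 1376875555422528646464535595353714235790531169539)) (.node (.leaf 3135738677625831355815591480392209945270782375789) (.leaf 4558405958691658433734649609530946580394353519494))) (.node (.node (.leaf 2885911320141155816757132694881262503530168057974) (.leaf 5497772801635628561733108341762654583027113943552)) (.node (.leaf 5377890559387064175189475958644789254070497443958) (.leaf 0)))))) (.node (.node (.node (.node (.node (.leaf 3793384085235862552642515083361223911769423360168) (.leaf 2007436392578163751321506656518580151519640054866)) (.node (.leaf 5378003413418743640545574812006850509650334903414) (.leaf 211158732406531573864375906244003311570399371136))) (.node (.node (.leaf 3398911382419965893459982988185938979311579495163) (.leaf 4060997283458016867374483751581792876560686014481)) (.node (.leaf 2675387676928021988858648256499507034565969640187) (.leaf 292214605147568200116997425633253145945519074736)))) (.node (.node (.node (.leaf 5604463734083326240020441109610783971693199302030)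 (.leaf 3357541530635199125072029163692432280050877478326)) (.node (.leaf 5781066623103707289168288529808284424813512425662) (.leaf 1115910531159718396425981056963806478038648709481))) (.node (.node (.leaf 4751484195220205409815868296176866368299450712624) (.leaf 658796524007113478660937706763192279434474906496)) (.node (.leaf 1957148123489632075448497099881647533409878172065) (.leaf 0))))) (.node (.node (.node (.node (.leaf 3546294733262753870052870934490777354909001125132) (.leaf 4704137885237375883202705913896877970943017509334)) (.node (.leaf 3481287828177919241972999105579488105676880478222) (.leaf 3937518909700940112216085307137018004624991349860))) (.node (.node (.leaf 558698956073914297265059119892591907961806031872) (.leaf 192568363784899324047567322845053032668099513458)) (.node (.leaf 4032089171705904212704338794787881665902820412307) (.leaf 0)))) (.node (.node (.node (.leaf 3283948459905595580855580972948389174998697536924) (.leaf 3597474636309451906074808999663599669602753027968)) (.node (.leaf 972114884880304023595770989114212738469554069600) (.leaf 5131943468778016648075067864829996180935020926006))) (.node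 (.node (.leaf 2415958186940465110145980815421820443991076713900) (.leaf 1537935590874879627478376640515232525545315590961)) (.node (.leaf 752786822460913611594318585059820262921471287766) (.leaf 0))))))) (.node (.node (.node (.node (.node (.node (.leaf 4032095351339402011949205666849091550267385343397) (.leaf 4087512803634126851306764143930625555870270292158)) (.node (.leaf 1794120282801478459839956478949721325540796746643) (.leaf 4392995952883749174086945045907841563757176160374))) (.node (.node (.leaf 558680399732037206995768304058710021133416792134) (.leaf 5260838251205156716479002613775771403449353882672)) (.node (.leaf 4938379559011873660942218923032418478303631708544) (.leaf 2469991448506400727823958348094959106048245274502)))) (.node (.node (.node (.leaf 2719658046973438776563782248941033891288331846071) (.leaf 134870849367158115529235772141971098755444957568)) (.node (.leaf 4983423946489010900733093354274978047036654651398) (.leaf 925217547272097487970233964749564547203255001184))) (.node (.node (.leaf 4118488731995246885124888126147478620747078594011) (.leaf 30708318554871933215409495953670496550261121503)) (.node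 (.leaf 2017650904022038649338955232067481480894250156174) (.leaf 0))))) (.node (.node (.node (.node (.leaf 4037624983214540701863455059418197633100331657314) (.leaf 1347205439642400628962023242138049726984904141702)) (.node (.leaf 3423623550100891012742690227363000202466157980672) (.leaf 2141280122665146246691220987376898300115999447771))) (.node (.node (.leaf 3496720103001093674570280449346090962863241784555) (.leaf 5131475633343033332775605376645970247237467152432)) (.node (.leaf 1518424397830102246239300768869491822390916615538) (.leaf 0)))) (.node (.node (.node (.leaf 2394290319231958602892169110322154611712828924000) (.leaf 3466569578945116748230127360320096146602978299222)) (.node (.leaf 678012245255021300840948646167597648355911470394) (.leaf 2081264152917153101622389475109394607097161584512))) (.node (.node (.leaf 3415388279997079161153009281032765547139473280314) (.leaf 2468295814782128173947324169906744360886771866010)) (.node (.leaf 601304971436576310693306952303444792430594900497) (.leaf 0)))))) (.node (.node (.node (.node (.node (.leaf 541008875911540353844420043215951113179220036534) (.leaf 3278658797160412394787404619126069711762111576045))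 (.node (.leaf 50793504080001475811749967361265009722753616774) (.leaf 4638896896585438278633203187167998055283837043200))) (.node (.node (.leaf 1716712262550990144088918731258274095508583355398) (.leaf 3894546043517423215055368665091905382670901653552)) (.node (.leaf 4105821869942657952458914067108762218560678268029) (.leaf 0)))) (.node (.node (.node (.leaf 5256216410302111058596079351938571071852610347494) (.leaf 4645733133177337720159369311760766697214052909520)) (.node (.leaf 4521453560756772207540654399422994879939384920979) (.leaf 211596442506050101916282380057374320810403325493))) (.node (.node (.leaf 2033417447807244041246110770951847059369527284742) (.leaf 2433785014533584709893693514739684703693738831123)) (.node (.leaf 3295097481327661656837953164184796606754816986426) (.leaf 0))))) (.node (.node (.node (.node (.leaf 875690305267440833163189719176090367440605163056) (.leaf 574814212544805623091378536461186190779791657875)) (.node (.leaf 4535364396813729446053410057390286621565893239201) (.leaf 211595233480129644124766082541558992631586122246))) (.node (.node (.leaf 4569017134572451525176971583821482721302054461910)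 (.leaf 1031444188918507596076658041126352603782326991274)) (.node (.leaf 2014528765901011424307362479438241025390801587210) (.leaf 0)))) (.node (.node (.node (.leaf 2158971188611755497225329284143812408136530354337) (.leaf 3748050394281471105754668323219686440045221449076)) (.node (.leaf 2682287797528672186528226886299927106504167073573) (.leaf 4121101879574842951874377648734090315984591563190))) (.node (.node (.leaf 725401397390146495613277617720277655110042714289) (.leaf 4063077383134900027941564957775786821995964964912)) (.node (.leaf 5230014193004094574906518660578389545294226445232) (.leaf 0))))))))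

def hT9 : NT := .node (.node (.node (.node (.node (.node (.node (.node (.leaf 2535141790050981270316385238692957163354779223558) (.leaf 657589317534304669523055464142253969351213191552)) (.node (.leaf 725047408459020152190298876318067765980601651336) (.leaf 3478719353340071159981214493931453995030035849728))) (.node (.node (.leaf 4037580468861614662063740351621552444268432799148) (.leaf 24486398577641427323155248264161503467412655114)) (.node (.leaf 4980310564244000481106226300169001822557549391316) (.leaf 1816386619567432054782354531526866457818661588234)))) (.node (.node (.node (.leaf 4166881457554386281058158361786110334305747537218) (.leaf 2039617312748441796906029079781173992433635847196)) (.node (.leaf 5542892871852912804199753524763272711291295239219) (.leaf 2968814678835492748847643148199352997908654350353))) (.node (.node (.leaf 4433137360093712327411721222514897984208255582216) (.leaf 1423707202687793907139473013096885226046149296312)) (.node (.leaf 3278663200958019217132591418507418357217667870171) (.leaf 0))))) (.node (.node (.node (.node (.leaf 2043707044256846843611011489021848313758605407292) (.leaf 1445498515992065464411152106899451653544752269238))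 (.node (.leaf 1820222327826967435100636215343682303205068270676) (.leaf 2857853335064886197285236244764557783805769552908))) (.node (.node (.leaf 1975815233682380304093884510917742297732179799088) (.leaf 1566564259935071576946953566536859026171872374711)) (.node (.leaf 4273336754178930367591739501747803075333260161) (.leaf 0)))) (.node (.node (.node (.leaf 27512398468212485212731205435484442660995983750) (.leaf 5519298772012579506602395276756467436660436721825)) (.node (.leaf 1771328834278422005566284963953677376412737444683) (.leaf 1053135627036888224441271218666723323218584963138))) (.node (.node (.leaf 3414475245589409215018825615595730201535934313526) (.leaf 1317252430061571562026547869009481890882920483206)) (.node (.leaf 3584347159661777540614072779694226306480884762550) (.leaf 0)))))) (.node (.node (.node (.node (.node (.leaf 1669639526100012073830863344229540630352637655803) (.leaf 995175241277707387649935833116963760753721737328)) (.node (.leaf 259567497667137362536877350463302497077956268464) (.leaf 3157073388086868118370921681352807290274379861888))) (.node (.node (.leaf 3582313410553228270058232520921647066898477186366)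 (.leaf 2144290035558914526711492863011573583042309450118)) (.node (.leaf 769021934765378520109732968384269310534684991662) (.leaf 4674668823674923476088286487947785702199025396102)))) (.node (.node (.node (.leaf 3926836801935548230723815108143690701609987498079) (.leaf 3581955204773705794279862988062918824711009389654)) (.node (.leaf 2055995800004434767442899147287623889852702660618) (.leaf 2389091257205443134371018160269321791190505562672))) (.node (.node (.leaf 1874726220645205772786993690139883179937561972608) (.leaf 1771485244389632559292617216403601181646511193711)) (.node (.leaf 5317343759502276218579490154971299231311523676302) (.leaf 0))))) (.node (.node (.node (.node (.leaf 748638865647882716367519766904934179829249674621) (.leaf 5335195589417125243063462470592382785407482414000)) (.node (.leaf 3648337288992098102823660870007300509542891810688) (.leaf 543470525283696019248854032150286372217333419274))) (.node (.node (.leaf 4882007947623742890296471969007788768500949478868) (.leaf 4413704068594425790496014098420234359467581440769)) (.node (.leaf 847654639410304727250812319453597864834679636286) (.leaf 0)))) (.node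 (.node (.node (.leaf 5341010737943499632890030676770744914080703029120) (.leaf 2858624055345739063947818483569065261676372015030)) (.node (.leaf 745583676070073978930458299207943182187816837159) (.leaf 3649405638173873990238160138840468018860449842230))) (.node (.node (.leaf 3647575553425515532594854472365443584246839135158) (.leaf 5136088450662815350811714475799261510841078918704)) (.node (.leaf 1535489390809625625968102121727890056330468201740) (.leaf 0))))))) (.node (.node (.node (.node (.node (.node (.leaf 3420852876836657731353393692063955510545927968012) (.leaf 3607182948544302605377860034901172850408222959542)) (.node (.leaf 391790839429144296596604443564728341161701902726) (.leaf 4110674472116992010190702290235481867215218740999))) (.node (.node (.leaf 5130250957849309397364490641758790747682873811504) (.leaf 1644647923090490297878567901484259492341523440040)) (.node (.leaf 5603794189096231772913039226669248577250695845898) (.leaf 4780017330173527321347125285699118418704553093795)))) (.node (.node (.node (.leaf 1779126472806797413366279904219134742889160821846) (.leaf 3500667321311120525130528760856238543578684656908))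 (.node (.leaf 3933593958185974739256475158463363039519038530016) (.leaf 995171024139263479134919903537410616368677052416))) (.node (.node (.leaf 3278127183784490647442828433237040061462723630086) (.leaf 1036647998366176934673454293350724865363677722550)) (.node (.leaf 5522666198978411040452579076623035500735581413799) (.leaf 0))))) (.node (.node (.node (.node (.leaf 5564782157753849536305542458152384685179820732288) (.leaf 153154767817842333085395674174251436476067126991)) (.node (.leaf 5606052141948116376177223591079986785629474084918) (.leaf 1936895140151941818978722984655033469306166860830))) (.node (.node (.leaf 1567129509734686006241756601427996013852193652993) (.leaf 2114548023018932510104608097256214135569913768988)) (.node (.leaf 3156757757252542359423984245844453478834780953526) (.leaf 0)))) (.node (.node (.node (.leaf 5802301661685842566653631876724078500107354868162) (.leaf 4055795865945758055264072643259593757675655512528)) (.node (.leaf 3278284081173901824833518275925781150894056041893) (.leaf 2493930491733614219224224393741016165820537793643))) (.node (.node (.leaf 3182236559182196241735845525606415927030682942203)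 (.leaf 3477987561882527563854489894929734883072474636849)) (.node (.leaf 3546288775438881724620172210835779442764254090630) (.leaf 0)))))) (.node (.node (.node (.node (.node (.leaf 3133715712631696730162232655161099271213853399450) (.leaf 3295788811213251181607803740996413880866528059878)) (.node (.leaf 1817058104331381595591407281486820501253134874502) (.leaf 2416562267104791581591657669008180662263146997108))) (.node (.node (.leaf 5151468055390392273162247446804265136731127721392) (.leaf 5130143476376556129848245383063087767970494227361)) (.node (.leaf 4349370913525252306760440875457468819554687663536) (.leaf 0)))) (.node (.node (.node (.leaf 3471044014414704549091112392489024560940075362530) (.leaf 1823429647341128635782415043612048611453138468158)) (.node (.leaf 1262025583652123089936716853284159672778434571346) (.leaf 2191619648766645121501285930724574462219199996327))) (.node (.node (.leaf 4114187405763184342903670177745923825097811482205) (.leaf 184495464353610055897715085925661537629695926352)) (.node (.leaf 3000778946024437829393017938927865614906470547888) (.leaf 0))))) (.node (.node (.node (.node (.leaf 4921440468575419539971635929811765435669480066390)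 (.leaf 5623577290427096492728570852441466473831903003022)) (.node (.leaf 5623733399016970813016080639628687779601605659962) (.leaf 2433236690921706647905328010391090892206567267726))) (.node (.node (.leaf 2854517163504173159748524618763645423416508424) (.leaf 3622808838785341154563752717713626990583963910342)) (.node (.leaf 850160885408608120254066975166865324615615510406) (.leaf 0)))) (.node (.node (.node (.leaf 4186863078102833592637938355289448337093811699854) (.leaf 3100188924303037791744181425505569411061409120648)) (.node (.leaf 5492359677807992663288936377900839868610175753142) (.leaf 3672584329610113396911123160077633427002507681838))) (.node (.node (.leaf 5335206823854565091925323874774722172234011730193) (.leaf 603926258224400120474284776398691736363705723782)) (.node (.leaf 3748964725600211329957917680249046241089818484782) (.leaf 0)))))))) (.node (.node (.node (.node (.node (.node (.node (.leaf 926310280979495961247971775269086514533457485904) (.leaf 2931936152301754228523085419208535561348317708800)) (.node (.leaf 5560557050852999205356657434658987976533851267633) (.leaf 2569149815557965769585663298103134910009790237574)))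 (.node (.node (.leaf 581490230666197151162820601263636734799632406534) (.leaf 2651339633136307369026465527460217741952663541597)) (.node (.leaf 5203062906521021991569488359923007622721949126102) (.leaf 1936854301016482699895184647353258778837786755455)))) (.node (.node (.node (.leaf 4103190417973778617683742413764093794716365578414) (.leaf 2597428800922082131793360394045587331195171119777)) (.node (.leaf 110768212356961737977481136588034597613687541195) (.leaf 844933944348959810352111125719806810290980396032))) (.node (.node (.leaf 5067706267722994601125342335691296482348462826612) (.leaf 521111112398868880800652101733468786448199885878)) (.node (.leaf 44601830679762846864407033647443934229561408) (.leaf 0))))) (.node (.node (.node (.node (.leaf 4642874698243102979331955916213277165978196786608) (.leaf 5317336129083486997953972277656898751860465081728)) (.node (.leaf 2569707279123250270489250970697914184171940766175) (.leaf 1532964484736352207391806681688229182798376734728))) (.node (.node (.leaf 522204157972022200205997244754810792844089831472) (.leaf 4460983390846075697513515838984738843456136438449)) (.node (.leaf 1110745026754754045322760122114479724737923608503)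 (.leaf 0)))) (.node (.node (.node (.leaf 1507887906204335490344009611876840691585380545596) (.leaf 3504845437599379435604889670491850417225972717958)) (.node (.leaf 1592679574766636337658524365962864626763417748486) (.leaf 494532224771759130025682299039204468278812363411))) (.node (.node (.leaf 2009698843019145027528076961361639578380124822542) (.leaf 5131354138330632109208718236925755347597187050722)) (.node (.leaf 4386219723705801093034876941841185398665790606384) (.leaf 0)))))) (.node (.node (.node (.node (.node (.leaf 3399019351139564405642898258421561585152225709445) (.leaf 1817169477642992152809306948148759344290781671472)) (.node (.leaf 5744961518753090039091060621450264618664370397654) (.leaf 131033286888286195351093992884628642397905763376))) (.node (.node (.leaf 582185557936299484211598218541659074894047243348) (.leaf 1445495207608480202560962694125910866682593635605)) (.node (.leaf 5628907142575008590166261146565232692618825329748) (.leaf 5465810551092859069818935286567607818925783735582)))) (.node (.node (.node (.leaf 5210588998747528587201243488940888604652547042586) (.leaf 4183592648671709323239484423441123227736672076806))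 (.node (.leaf 4622941945426152251137624838009811025806717996374) (.leaf 2310459762007923273108198942902606058083225897859))) (.node (.node (.leaf 1515748298197807421215226030158396875256453398536) (.leaf 107594475851320836991544616935089913780142615075)) (.node (.leaf 184496904429913497155726305310841441756784934960) (.leaf 0))))) (.node (.node (.node (.node (.leaf 2643416796391955504448884841772137334400994533888) (.leaf 3778114411989125337693465248988853720522526562310)) (.node (.leaf 2538219863858478897581798158784857886561596891238) (.leaf 107594200842379873920528928015365566951695337014))) (.node (.node (.leaf 2442459990209882560177947605218846046796698553716) (.leaf 2459683676409257974628085694183562464827837935488)) (.node (.leaf 2184773301295335800351145881098892862540504826161) (.leaf 0)))) (.node (.node (.node (.leaf 5342412946266988653775334619075424024074357756848) (.leaf 313364176964650139145468226507491296737201570736)) (.node (.leaf 5729707605370271077405744025656573109959153090750) (.leaf 2418266618902793923875080616735403368044290951250))) (.node (.node (.leaf 4142239230897994313319506573350647910201280127150)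 (.leaf 1037636113965036655888035534947887458833329818675)) (.node (.leaf 3366219556635463672273995028892500612965989648390) (.leaf 0))))))) (.node (.node (.node (.node (.node (.node (.leaf 1109242596592250970042282405500575576002194858464) (.leaf 925216150669519684555277751552488844398148755504)) (.node (.leaf 4083989264893515598777391704049714052614241059121) (.leaf 5379470784422964764425778228854625221542117887024))) (.node (.node (.leaf 3699104965922506273347186815816162382869342999606) (.leaf 179440918019621580032360165473280962148582956416)) (.node (.leaf 1036444434108765578304546331036345234411011612896) (.leaf 3444894909368217921189270487791973755440685324682)))) (.node (.node (.node (.leaf 4774988484833980881321454304800639967533388720518) (.leaf 3622118056939946561673779257201257867055859031600)) (.node (.leaf 3256298807632270102954423883706895443648878874496) (.leaf 2923762382079867329649546089144743503138069848288))) (.node (.node (.leaf 3471074069514503550127798739937941110221354041345) (.leaf 2951951049693951151218533593670883502443519553072)) (.node (.leaf 47370006126566342598480936054246564262433556546)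 (.leaf 0))))) (.node (.node (.node (.node (.leaf 3712212861110822444085668602954197002967181189599) (.leaf 1819486553229830087051795994396603500145330768531)) (.node (.leaf 5444188061789254940195565453552614631814007336422) (.leaf 1464567990561356995200252104587994365055149473921))) (.node (.node (.leaf 5159193157668717210379662938189960802606661286454) (.leaf 5439359849174471952250521069049656414824831297974)) (.node (.leaf 5175614303969044041659439576501632137523610347317) (.leaf 0)))) (.node (.node (.node (.leaf 3850735247226573815285967779245441500984551531910) (.leaf 54252138054701879634013440981870227789960974344)) (.node (.leaf 1752806943963002968552362956752210838075336778064) (.leaf 3476978580512931555237698399945172696718082145664))) (.node (.node (.leaf 3642477974672282504597668884663353631785848609792) (.leaf 1426822333821875691855476929355211493499071401030)) (.node (.leaf 5626428269294891925693145352302969261514434573372) (.leaf 0)))))) (.node (.node (.node (.node (.node (.leaf 4032156291763042563677860714667263364625753115523) (.leaf 3133707901728940977932734787709463614362160754092)) (.node (.leaf 3791582108378970996948372268190728769772210547078)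 (.leaf 1446703361448925357293819439923306859937166354229))) (.node (.node (.leaf 2064876298500962555549049591886616513825191039360) (.leaf 2863789950267113452633513559102752156625300415604)) (.node (.leaf 3444423759631150407405565772167693298183409437955) (.leaf 0)))) (.node (.node (.node (.leaf 3238003665824679342308435830282096945568642174976) (.leaf 2160264637519777191675413634425997222172562031103)) (.node (.leaf 3580950495234066436441029838307481576986824875406) (.leaf 3894536434602673261365320913855568700424195363224))) (.node (.node (.leaf 2010279097947411736992634351544589412171794880522) (.leaf 1034185659694925177812733237588054311643648254848)) (.node (.leaf 706222602200251739856479606188892584589214551245) (.leaf 0))))) (.node (.node (.node (.node (.leaf 4316957239404528115432043466825312870525236500762) (.leaf 1239191744638036028931578546789044433648096362960)) (.node (.leaf 5400261472431489220771116418989142926417460774966) (.leaf 33652038870268563340905145363190047534863900774))) (.node (.node (.leaf 3031680773205852679349932506433323915416271061384) (.leaf 3936113935680779825424807424419121818319429787865))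 (.node (.leaf 4613128624844840872931104134116762847428931150208) (.leaf 0)))) (.node (.node (.node (.leaf 1299959999387651015907897297792792011487547714925) (.leaf 5492359325214974818054737070982913651375505894619)) (.node (.leaf 154862647695936116416324031710995295454519522492) (.leaf 3444984199464799986123614654695238061787754315375))) (.node (.node (.leaf 315579825302216739864783680248716992381952745951) (.leaf 1669335031792091478970322464372189548728608034106)) (.node (.leaf 1975914910942796640543199151287011658868472234769) (.leaf 0))))))))

def hT10 : NT := .node (.node (.node (.node (.node (.node (.node (.node (.leaf 2762169155741605490008136968981726311134320417822) (.leaf 3937527698341274267964824056852707890373036918866)) (.node (.leaf 5335308941439502498701175505319473924430098622005) (.leaf 1009859506324808092446648525037410308253648522566))) (.node (.node (.leaf 601304376896849106694480860083686130323813311024) (.leaf 873842605682743658919816967914033107420157763968)) (.node (.leaf 71407269418766848184977313174647994829970341896) (.leaf 5787670103643539847069882543258862496398195344438)))) (.node (.node (.node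 (.leaf 2516030450003790721792062875964498200604596505612) (.leaf 4617667814187842456521360763019488106950901942326)) (.node (.leaf 4031048862251116998651152643785519729817988714928) (.leaf 2140351331500810642633394932803429812098136912745))) (.node (.node (.leaf 5808353719433291873567646099625456819808225438768) (.leaf 2979461440447124590110586564630583995377872127414)) (.node (.leaf 3579679081023671072550820377690092512712687026318) (.leaf 0))))) (.node (.node (.node (.node (.leaf 2888319793030090807071460831372479394620276149562) (.leaf 932666002876775203109914104691416012361258462443)) (.node (.leaf 336755963106039042842308072757412347653110881840) (.leaf 1828284760858590685671438997924420846335534213346))) (.node (.node (.leaf 3959440717108096061164438247399389038708634447323) (.leaf 438054521607007676042724840176320346483374186897)) (.node (.leaf 3283993061055692155265772008177320303394338832719) (.leaf 0)))) (.node (.node (.node (.leaf 1653127783934479435343302600240566925245603119617) (.leaf 4166892211816875999928291559639785196103753696452)) (.node (.leaf 4121265061186919228363823874596416860288045547519) (.leaf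 1378815743989479836265344046914087411180423023882))) (.node (.node (.leaf 5151810480004210448170013754149786487114922337957) (.leaf 4569976068806484387437235298962265614608339042374)) (.node (.leaf 1699356924026985792902748845513531149115860028742) (.leaf 0)))))) (.node (.node (.node (.node (.node (.leaf 1242728617921593165236020978806151724587572926854) (.leaf 2418256737187595526478913830945745426803664135222)) (.node (.leaf 3621756155081510299369802051598406601610979904387) (.leaf 1669649441864068045776297382749649686664019572614))) (.node (.node (.leaf 4436950800942592659367375389794603621950596866150) (.leaf 4060997906840364443877948924581343867935317303841)) (.node (.leaf 794355480077879690751617975483143061260895546789) (.leaf 3626174925750641172182528055643002447307046345114)))) (.node (.node (.node (.leaf 1900897476901490199878658256146988162624607665078) (.leaf 2035702207624919427706638508691993522539258976262)) (.node (.leaf 1874724106984429850755431067763193703005019635847) (.leaf 5678714965640659915174740873023342002254684902454))) (.node (.node (.leaf 4390308800718177090921231897692050641796447866888) (.leaf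 2754113528415043564169635108589661790169475280091)) (.node (.leaf 3527835896139935525050895516651821950812759611830) (.leaf 0))))) (.node (.node (.node (.node (.leaf 2596056606117394883164309624331550632221934521728) (.leaf 444630212566396749644149144714364319312970469271)) (.node (.leaf 3541227858886088042979092502290415035882960798609) (.leaf 4984882202357328807165913677225458714072453677192))) (.node (.node (.leaf 2475458236384577321398645197860295153178555827638) (.leaf 678525159068861312401265283157360906285992116729)) (.node (.leaf 5214214063179010267934516420909529710106652371186) (.leaf 0)))) (.node (.node (.node (.leaf 3718926469746072849436591518198691083370894319984) (.leaf 877756889983935470560041038238639919039461667894)) (.node (.leaf 5626414759978982188372139635021864137710352496646) (.leaf 1819083833129647989713308829567852353382543918725))) (.node (.node (.leaf 369044667303575791490888708115452295404488258620) (.leaf 2015525217593426157401744374520211877382520557014)) (.node (.leaf 4488644245817477024341357645530849802820191194317) (.leaf 0))))))) (.node (.node (.node (.node (.node (.node (.leaf 5236970958702418939357963854697390033902977354957)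 (.leaf 4415736790244240097583579113206313395667377723530)) (.node (.leaf 702457319490750531301123867302968297415192036241) (.leaf 5207716923991896010956689118593758792481520265314))) (.node (.node (.leaf 2439694719476041480249596043298368240810633464946) (.leaf 5420529784101350998170272143293008606387141042406)) (.node (.leaf 1421744743171631107572987544438615689782235431047) (.leaf 4568779097446014881981381255039470065458385505750)))) (.node (.node (.node (.leaf 1644916208283510291412261119558657675398769285126) (.leaf 1591370597485922221068933631136593013181882523865)) (.node (.leaf 4269378052969276503121043513207027560201007922688) (.leaf 847656732473975993110790422584903026740489780414))) (.node (.node (.leaf 2516028208050383312786988534826531384426503608330) (.leaf 3423629232561349280869394578670953648276931669110)) (.node (.leaf 3128889506484071648786165956126561695621438254640) (.leaf 0))))) (.node (.node (.node (.node (.leaf 1517687230317105203551683801089342063669728043008) (.leaf 229520751917112368971585570379898765686594011272)) (.node (.leaf 4777118923305368470638959770350499004526166952886) (.leaf 2081273477249539170637946179195501563022425526023)))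 (.node (.node (.leaf 3400763586079150080978638427048886770522159180166) (.leaf 1375233193593946517877109441879845893869166184502)) (.node (.leaf 1487292623896000572360647013619405055139432628232) (.leaf 0)))) (.node (.node (.node (.leaf 1566989585695802405727834895389734845607004263129) (.leaf 5437868699216679456404197728039458385578502258560)) (.node (.leaf 2183691735673806390962866229961945828756281713536) (.leaf 2596647360199384763943187463803729592085681479054))) (.node (.node (.leaf 5598592061193605769789407079551391095784198831871) (.leaf 2882922999535440612797956060423606366454807527438)) (.node (.leaf 2643402397109241681041797970698583385228533850673) (.leaf 0)))))) (.node (.node (.node (.node (.node (.leaf 1956501395264553101772226867910825258346683002131) (.leaf 2121342873094334210169417990960981777755179520000)) (.node (.leaf 1618062386642361759470784733723436284786021663940) (.leaf 3540184338436120826918667667838351110601366506634))) (.node (.node (.leaf 5807217554265160536448599148602475147174925928838) (.leaf 419487994923711217215231990928087766645260898199)) (.node (.leaf 1381458905124474123029881130978267443881432262198)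 (.leaf 0)))) (.node (.node (.node (.leaf 5618719485342604445372775974980127857677822626886) (.leaf 413103622566845816464782019307617478309929846850)) (.node (.leaf 3620265998079137503636539499220800070705910591536) (.leaf 4796218181038324802361454004463875256989656910214))) (.node (.node (.leaf 69310979179191425904846204557793424769835860032) (.leaf 5542789182469527902501648003547963853519618735488)) (.node (.leaf 3998239680390374670013934349624883890037159540662) (.leaf 0))))) (.node (.node (.node (.node (.leaf 1317251933948753292304774982655947814923490460868) (.leaf 2466246119066281750492117388019486925039564052918)) (.node (.leaf 1220005859324860419825483620443234767714819970054) (.leaf 1634054333018599991082748220048676782873498550407))) (.node (.node (.leaf 2015538444792042527715226767266671989024131361840) (.leaf 819600121451930802449112930738034697300188094934)) (.node (.leaf 4757613833957243416598725902489442408411715341426) (.leaf 0)))) (.node (.node (.node (.leaf 2391882789886102229129239323905816866349825341866) (.leaf 4565359035474950719786879835678672718272175803506)) (.node (.leaf 1632905449337442146510169210862961023934683639735)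 (.leaf 4219954484929822359624668060626814484038697310618))) (.node (.node (.leaf 3718925366883444102160824983205184881408076349680) (.leaf 519042703615101653419307983890324927120587770515)) (.node (.leaf 5416057790111693858025101787064951844433660091776) (.leaf 0)))))))) (.node (.node (.node (.node (.node (.node (.node (.leaf 2597744957392370457340945362697974948789390835072) (.leaf 1850482387181073495522431164191108481321278604294)) (.node (.leaf 1644435240941614400209379233755614604988371053219) (.leaf 4884348753966671674563811363061379676339372869714))) (.node (.node (.leaf 394640260864609091555400430890889665443914703216) (.leaf 5362245105383144291218848686809659561389223225570)) (.node (.leaf 1004653092513395531511586629087348812087177186674) (.leaf 4261677742031212941381464797759276501923810840327)))) (.node (.node (.node (.leaf 1747209203585243060027989714878274175506965752710) (.leaf 4316965757416937683909065778775263728461232092598)) (.node (.leaf 2389094232754058856897130901953979679221614141857) (.leaf 184140086977150980981561300852964800194305114192))) (.node (.node (.leaf 1849757809007301154849872905485671165987479457094)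 (.leaf 2039625519308891561180420604936423485566612427830)) (.node (.leaf 519041816265385556276119412975621992313301575606) (.leaf 0))))) (.node (.node (.node (.node (.leaf 1903410478503622725805372580169701013614391141942) (.leaf 231225279552781103630359840374709580293909868856)) (.node (.leaf 5560577525728082886695221043431773934042633757184) (.leaf 5412390029544398317835527786354917421194752844262))) (.node (.node (.leaf 4757606692510696342933922587658463798011495769204) (.leaf 3256897497726294675510657105151770677985279672504)) (.node (.leaf 1163366624363999537293785783913974098537426128114) (.leaf 0)))) (.node (.node (.node (.leaf 5106221138800689385919033543715834352434456759610) (.leaf 540627714607234775130357602881757883692216896438)) (.node (.leaf 1933778175391427671394054299965411571766822896513) (.leaf 997436640977627083302948422504466976098448970892))) (.node (.node (.leaf 76982455208102812700162948130805163892491182481) (.leaf 1860137996099453042022897724490179454557267222064)) (.node (.leaf 926667090180413354061558339836479874054771179632) (.leaf 0)))))) (.node (.node (.node (.node (.node (.leaf 2389558982555494452835544752149721989055196049576)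 (.leaf 2415512781817679232444678201418885487726689790499)) (.node (.leaf 5385439274548157603845131710627196272744641126512) (.leaf 5560577565794009985902839658844070476476586655793))) (.node (.node (.leaf 2442450394162727464869141477672266596124545639814) (.leaf 5230013141797732409358964065702199288825289335001)) (.node (.leaf 44776055417455348199936275747618428656058368) (.leaf 414002903098926882456889273801537159705347249206)))) (.node (.node (.node (.leaf 722846101070814373235981747617951794227162710912) (.leaf 1816374510425165890968807191952694398433885295756)) (.node (.leaf 4324281576134251735720191893073838686929973084478) (.leaf 2877532479435219071922376687876635872900013995885))) (.node (.node (.leaf 5386792732073312257945115380484826314347864894512) (.leaf 1379886175675655336300886348885584393056130985067)) (.node (.leaf 2137129570679485662262424552958724425010182982982) (.leaf 0))))) (.node (.node (.node (.node (.leaf 5383184971192592673616451329592933013368554735542) (.leaf 3444827789357229825406744343632283636952494891376)) (.node (.leaf 1819074379152694252146822994511957591697240165254) (.leaf 5502196957605261736199984803658083232591696571952)))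 (.node (.node (.leaf 3797441597425734081065610440987379946467908447232) (.leaf 5499874663168869548677766184386973887289382666679)) (.node (.leaf 185632821563475873684059537661320655098437132568) (.leaf 0)))) (.node (.node (.node (.leaf 3854776815454766293066166789865660386039718502912) (.leaf 4344111053454678882150036600197805573609759395735)) (.node (.leaf 1316061304848851422463365752037818507788556897418) (.leaf 418863592773752034912179850237843233681850490416))) (.node (.node (.leaf 1771495136601706795249256323578072631750414590047) (.leaf 5391655215331185776603161534739675950731054225802)) (.node (.leaf 1341068060141721473774318478393798375515259795334) (.leaf 0))))))) (.node (.node (.node (.node (.node (.node (.leaf 4699827011724400925602457397027674384830484708864) (.leaf 5362446029949552000994257849617958169946469624050)) (.node (.leaf 4007164395550344888270160899223745872780317688247) (.leaf 5314229151765607373458880183432148281676310650240))) (.node (.node (.leaf 2923456348576725282048686878785996090746126339968) (.leaf 4216548351017262912907045892250674273351285823898)) (.node (.leaf 151948001290786145933294103978452461952157997915)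 (.leaf 3297401548839492954973892270599164015555896807808)))) (.node (.node (.node (.leaf 4347262950366575748397014012657817655229583409712) (.leaf 3797601757207825274566683680817984312377097443165)) (.node (.leaf 1038566445810082320310080225612323794633556958606) (.leaf 5378024363347954506710345014210773823908996710518))) (.node (.node (.leaf 2857027095841784635708764500202391078806729491462) (.leaf 5516941410103104008089726492073760007880237734170)) (.node (.leaf 875775801203302270049328146188542391366540004618) (.leaf 0))))) (.node (.node (.node (.node (.leaf 1536644294927512305263054773287960966755792653682) (.leaf 1644492275959334507047593921196621472906844223414)) (.node (.leaf 31444257629588192669154764130673425529957802064) (.leaf 2923204384273569661130442405228996023114341617928))) (.node (.node (.leaf 388300664233195545639118973144786347641201262656) (.leaf 2284368849749611912628761129631274013198258037215)) (.node (.leaf 3648699288533096860900755586834793266815119856008) (.leaf 0)))) (.node (.node (.node (.leaf 5417715030256530293808191137617996425034225441822) (.leaf 3877103698327233173731475332110493179690390370285))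 (.node (.leaf 3315398706338529066981385389593397461727596111220) (.leaf 1650261610056755188508655906410320131847618574))) (.node (.node (.leaf 2466687025125448298311276980537779672154779825324) (.leaf 4592351725980006783825628630794616306937794672682)) (.node (.leaf 1181519595589547738473399201648372616239356775738) (.leaf 0)))))) (.node (.node (.node (.node (.node (.leaf 1539393371466713337886805194486820065180942633026) (.leaf 1135255399123651858060012041623427111287602828342)) (.node (.leaf 825643656068001324966290730134450710877691973067) (.leaf 2720538620960048766954363122365134537392727223808))) (.node (.node (.leaf 5311373228947107038438512462343646934721313022176) (.leaf 1954172947726954878789940858483744320566532581157)) (.node (.leaf 3741754028676352781838357800403083112732699960374) (.leaf 0)))) (.node (.node (.node (.leaf 3082267919193217109964773782106019841465067353008) (.leaf 1851130985359901537275421596479634136307592135552)) (.node (.leaf 2311263696085830621756764159723519233988773768474) (.leaf 4186951819571480513152257019413835657693536769629))) (.node (.node (.leaf 4288574967322528819801938247428359568189679161752)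 (.leaf 230684229738556401433708993194895662910226073606)) (.node (.leaf 2724480967797101362506326648180523011635156961206) (.leaf 0))))) (.node (.node (.node (.node (.leaf 1379899823534699535812385326308726760235155641949) (.leaf 496393581200483276873631283157692354449242587647)) (.node (.leaf 4886423477712350862421663638314643586274813242733) (.leaf 898567337019771411086488653893449364063228751125))) (.node (.node (.leaf 2141290780902033547378541642373478089201976719286) (.leaf 74217152757063347125492681351343601656472797233)) (.node (.leaf 3752172306790707641944934143346709987012213792304) (.leaf 0)))) (.node (.node (.node (.leaf 23283636057088100098573120853742261678420132736) (.leaf 4576264839075701769864680269259494229528042013057)) (.node (.leaf 3393441297028548707259972863651888540085190303968) (.leaf 1668388245194220001615132440683822375342719628281))) (.node (.node (.leaf 4960074152334522989428559786382381320959174680624) (.leaf 2777518418195921444377998803535271282057839842310)) (.node (.leaf 2569709036392925298462095267498238627807148105264) (.leaf 0))))))))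

def hT11 : NT := .node (.node (.node (.node (.node (.node (.node (.node (.leaf 2535097362448711000215722867260146156338103558016) (.leaf 1700689781369762609510081262145145981328996199852)) (.node (.leaf 1690230733380566261762045298072848188059500896536) (.leaf 3711969801120923980344241750508030986841218536368))) (.node (.node (.leaf 2754101469137234583691921022403523998613738207085) (.leaf 2656706786058786106357586159715371296687989724166)) (.node (.leaf 255378186677172644321290956724922690908476910640) (.leaf 3974061676576546542834409577459329264747267211247)))) (.node (.node (.node (.leaf 1634056010204883772406465245556738437972363186048) (.leaf 812885254517869147158161598307365365077607074742)) (.node (.leaf 1565223688964198624446715748875979219728499756567) (.leaf 3078268914672175047695203200683737786122494777293))) (.node (.node (.leaf 3216579794150442534897023782524803803843397415929) (.leaf 4287949936691653981387112231703949735728585560793)) (.node (.leaf 3133722871149076634904345629578780195183407084598) (.leaf 0))))) (.node (.node (.node (.node (.leaf 1036431878147968315845636672502890862073156690256) (.leaf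 4623015819822843233635409763066784791122955793926)) (.node (.leaf 4958100124570510367494047819771455066774490179974) (.leaf 5462761925961773333153241536725485897177606267553))) (.node (.node (.leaf 1588517714780730021300872507701461779612932977718) (.leaf 2465890698174347883950054263174486769981776418870)) (.node (.leaf 1872650133334421240764118057995219228959408152622) (.leaf 0)))) (.node (.node (.node (.leaf 1779121976593580916999733698828656004144626163814) (.leaf 5384076185095118233873860430562706946624007056035)) (.node (.leaf 1773647543997400268750306866245676537055430787632) (.leaf 4086408429785739137223563382218424529988988835978))) (.node (.node (.leaf 68866359093886375195103172999017928690672796160) (.leaf 4080984949549240152733773015626173451233098931598)) (.node (.leaf 4577717514880901022493217710068655043106723048934) (.leaf 0)))))) (.node (.node (.node (.node (.node (.leaf 3461145576016230600093491969108029311671571422027) (.leaf 5520320452114919912271787677593095127626404919931)) (.node (.leaf 5316886609093771764141823136202384666964816488690) (.leaf 2577908771598426005854738215974557120630826375046))) (.node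 (.node (.leaf 5155795946591458493840772862468693045351734340629) (.leaf 1155539029367629100662122301140912343043644522736)) (.node (.leaf 2009913158205265519736647371662032166824107402112) (.leaf 5205572437244156033234359191826060467069119941718)))) (.node (.node (.node (.leaf 5808018033691508649390147776847152622118651069446) (.leaf 5395605975346652117483148670516285761558838370672)) (.node (.leaf 4904397812433887544937187950221667786158536134091) (.leaf 2991650815795112661261666803620425139986614452273))) (.node (.node (.leaf 4568794130353023974478455537480037218966879887846) (.leaf 4410022224282699707305903278236216914795090889619)) (.node (.leaf 2257357723302086616750031299562615379601091012389) (.leaf 0))))) (.node (.node (.node (.node (.leaf 4775017084940817149170688490113489609128453620241) (.leaf 1611262797273958137625119277148567691065051778290)) (.node (.leaf 3341709839687718910837455385338744215946976818169) (.leaf 1831273936114214692671970397607400962511906735622))) (.node (.node (.leaf 3620355114157106131990199545686605619830364652464) (.leaf 543902473595989478139355492681339637355900756352)) (.node (.leaf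 3422680634033412496331633428085542648821716353142) (.leaf 0)))) (.node (.node (.node (.leaf 1425558188784372635151047119430032049537151692188) (.leaf 3395957422345204383904815925728464746285458872758)) (.node (.leaf 130363319270812780584774403734549331965873471471) (.leaf 52302011727790538526121092289014837426570613814))) (.node (.node (.leaf 998520378473314928273798943561149634592070896908) (.leaf 1394067498230334029574208526209339579336727559552)) (.node (.leaf 2472298634827752636564414593855263207677067750626) (.leaf 0))))))) (.node (.node (.node (.node (.node (.node (.leaf 4100708957191577236820679570284741698776593981808) (.leaf 5229994889718682262901860452806913388207098409833)) (.node (.leaf 5674803117785537007505122726792414499371931689040) (.leaf 27497023425686900891160907105338495007206870386))) (.node (.node (.leaf 3961495836656995748223131539732218568667569221504) (.leaf 3576401703710778072875696417290295179158271393152)) (.node (.leaf 3495315150630233829444350232809720120373555236299) (.leaf 2181182905903773423079272350386658835937272987825)))) (.node (.node (.node (.leaf 150689751465500082299990294424508059099073208688)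 (.leaf 4574657024675245700818424294671263129802885440432)) (.node (.leaf 3504837587630602827180791244045878531510619016330) (.leaf 151935480719355043252451710213270524471622462701))) (.node (.node (.leaf 3467683606930284449695672537443083902091017347495) (.leaf 5444190769695808835803811482719937373308700877270)) (.node (.leaf 1802359263320615316020887489607001467358680121480) (.leaf 0))))) (.node (.node (.node (.node (.leaf 1723289239175595506023320876335246021121802453905) (.leaf 2469109610752169775388316290752362416844349312259)) (.node (.leaf 5600124224874101272447329386981132765083047353904) (.leaf 2490661676793760392624807004788049520969257201832))) (.node (.node (.leaf 1566572020186638518134568112708269800096674611639) (.leaf 2139637010766658280215082418825612596497214244036)) (.node (.leaf 680537298675103303257007762222301268912159723656) (.leaf 0)))) (.node (.node (.node (.leaf 3102195998524785079237718471222822226026560250336) (.leaf 2934192149852512788917579265366716107894944371718)) (.node (.leaf 1852779777739569082657275011284078882138370625047) (.leaf 1998651022504442987821432313985743939703179248128))) (.node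 (.node (.leaf 2286175207482523067168082472066219569830306975042) (.leaf 4117099520518751338984724970835295380168795032454)) (.node (.leaf 5383192169591882729787590119487499635100789385891) (.leaf 0)))))) (.node (.node (.node (.node (.node (.leaf 3774922937406404606031316494214243328406504014142) (.leaf 2472490881190306984671195802420324131889153788819)) (.node (.leaf 3157078955318030262952618671044765521581727219847) (.leaf 725339589517755120529760411948239641814424852998))) (.node (.node (.leaf 4319577010713937050103607593601339076614249486285) (.leaf 3873760960930363605394527270820611788454634479655)) (.node (.leaf 5435093321369832818340406155803815254180957414065) (.leaf 0)))) (.node (.node (.node (.leaf 251240372886582904441272592909730452647579812609) (.leaf 1058335577144518017328019094713175023890844395618)) (.node (.leaf 5500581225399552700544848977626461517046552112560) (.leaf 4345196167606468029914922242344820145331927584519))) (.node (.node (.leaf 156596330094561337753480492732238470805770931379) (.leaf 4006920060609145084698301267807381424948752285568)) (.node (.leaf 3931410412310307806480697930805405645612938171404)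 (.leaf 0))))) (.node (.node (.node (.node (.leaf 2309256652050807449474274646628616691610080251339) (.leaf 68866095545320406201296676929228238311622116225)) (.node (.leaf 558654441865944218503832097976455280979070360576) (.leaf 2930122792925920637120480531422251482557057532168))) (.node (.node (.leaf 4980511271781305967516836464004436177245582593290) (.leaf 1416279561970565774528257741460609487380279494662)) (.node (.leaf 5442775819547874544254129715944730557017907949440) (.leaf 0)))) (.node (.node (.node (.leaf 951867135816470943964049698512328557058506580185) (.leaf 1794133199434008694395705658597696727601695893046)) (.node (.leaf 9294566490337979357358262957057413241553062912) (.leaf 2061677510877184202291319654511032995336766230912))) (.node (.node (.leaf 1425572734620755024005824889620557407619100922934) (.leaf 5747808483850689030976587392137829868915131394530)) (.node (.leaf 8938452826578364376754498106296169760578601472) (.leaf 0)))))))) (.node (.node (.node (.node (.node (.node (.node (.leaf 2389629432256574464737340103203106191519054520550) (.leaf 1649910912327630213250026240505739218487180001281)) (.node (.leaf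 4909214752363109968914318426870934984747637735622) (.leaf 417448449469191640469167272222215202752443121999))) (.node (.node (.leaf 2842652066604606278688314607457129135612743433839) (.leaf 1747008739144235068584438596606248203759104582055)) (.node (.leaf 1649916463014595050520903634425555172202193093120) (.leaf 5569168746640131498573688993246685269482620433328)))) (.node (.node (.node (.leaf 3400770227882867632533070939892622706591608268020) (.leaf 1379900895575754828147674034995425619056789338678)) (.node (.leaf 570945947639489998969608259622172279897044811840) (.leaf 5283147867579598821218918914566217116555374279222))) (.node (.node (.leaf 4080577280567761771951623054539751031686795124769) (.leaf 4033004678273738645540071310779210525152833217636)) (.node (.leaf 4570409523656285980918806555368256463665073488384) (.leaf 0))))) (.node (.node (.node (.node (.leaf 5545647129433018007054064533517203952335608505009) (.leaf 823792756913549939327833749092294402776890377284)) (.node (.leaf 853510852329190760137609950598884905924276788238) (.leaf 494074296141916299392296221422861323156342443059))) (.node (.node (.leaf 1652674538735618681402360148109437699587417410886)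 (.leaf 2442465671310065168935881193444241731624652433650)) (.node (.leaf 3316929225694814418892659693553714426325700092128) (.leaf 0)))) (.node (.node (.node (.leaf 89290263387553788945220036416737403759235072) (.leaf 3779160095892923863739496718725354123463314336994)) (.node (.leaf 2946129637793230054193517691214522507623725338888) (.leaf 4782346015772967356292389161606727913075373886806))) (.node (.node (.leaf 5365022821588182473046969464294704522167792897338) (.leaf 3503236641820369186921250732514211622781239205936)) (.node (.leaf 853412865821145629791393089671615698987281228336) (.leaf 0)))))) (.node (.node (.node (.node (.node (.leaf 232531375518204251203480279223789758278362467717) (.leaf 1806368612931139413953648538946359885718618224)) (.node (.leaf 5419548552789116590019556278268516167379457171873) (.leaf 1779116942770983875681082239628210564232087645232))) (.node (.node (.leaf 3797444650162611405857439674204100042893458730102) (.leaf 1975926433071212926394520741917054197187289424816)) (.node (.leaf 3055520449139664749272931057546120866190403854753) (.leaf 4936076019699174768809727263162354506867921063936)))) (.node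 (.node (.node (.leaf 3523502381222444068079928230162116579212877030644) (.leaf 5435114448459943147313212816107333775366851486592)) (.node (.leaf 954721620312848758841431812717912676427145637036) (.leaf 4456531019915639508046096499793963855051359977729))) (.node (.node (.leaf 3111446150854159356938068798099746609920199387654) (.leaf 894119352296775468085392443517491071903496321974)) (.node (.leaf 752805303001571373792785389894339377471270137318) (.leaf 0))))) (.node (.node (.node (.node (.leaf 4859719671241613757669446645353023124605867494726) (.leaf 3926847775605189145035645860302514916189564616303)) (.node (.leaf 5442774882726569266168979640631468547503394484023) (.leaf 1646208981549611368476300289414701865953840791742))) (.node (.node (.leaf 1181528531394885325942627732638582776039162608006) (.leaf 2624204422962211581150595650879618504415478409606)) (.node (.leaf 2251606593310198378136824317971921127805341074950) (.leaf 0)))) (.node (.node (.node (.leaf 844930640547459699479122187107230061193959840782) (.leaf 2615847606441906042104002261665677170437984026766)) (.node (.leaf 4987006748285046795106948979497734026926410864518)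 (.leaf 2386574254927878158283774689634920791789747596309))) (.node (.node (.leaf 2643366909592281019270610284673514143958364810580) (.leaf 5603796597981561958730733354458497705821370584076)) (.node (.leaf 3583525752214356107663111407374752009534821935202) (.leaf 0))))))) (.node (.node (.node (.node (.node (.node (.leaf 50778912606117639329099395682813594983763479811) (.leaf 2251598381615802787422221383134868022657880624003)) (.node (.leaf 1773858987278480606269135719472647734118886605057) (.leaf 2058348223720889969433722607097330036382508734874))) (.node (.node (.leaf 3642336128045746129211490369882126402986736033166) (.leaf 4958085342382750647087367044715331413850201449716)) (.node (.leaf 5573110629946186013538244701384778101092326312970) (.leaf 2946553569748568176327329073674943395812923654608)))) (.node (.node (.node (.leaf 3619992436149303565917539587788120071163220276652) (.leaf 977518075273227150774944425981890289143848152112)) (.node (.leaf 2043348838564277186158851387597535265191717643941) (.leaf 5744958960899244559596516408059335610447533689904))) (.node (.node (.leaf 682427797843741005515645792981406327604212624603)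 (.leaf 5522655976043865249251420396898999459708842758039)) (.node (.leaf 3438019049507657630524922485399090909045759873416) (.leaf 0))))) (.node (.node (.node (.node (.leaf 815643402484062580895265859191900936225816628310) (.leaf 1242794752336664462966211975155573820420447514086)) (.node (.leaf 2309648307312081433026992538475813757644163677568) (.leaf 49842279841385422799302431364761565471165579406))) (.node (.node (.leaf 3495310058049063583114410069948378785034076133325) (.leaf 4410201141653199259529621741421604561627273797680)) (.node (.leaf 3031926085125935227523986773931907981639235890541) (.leaf 0)))) (.node (.node (.node (.leaf 5263088499293021998301657978782710979735069761408) (.leaf 726321033635485675192487404494253428523440086286)) (.node (.leaf 2337247433025136338245374650395782556268090996662) (.leaf 77919099088889944056440822718291061052459188294))) (.node (.node (.leaf 24444753120332133832539187456640736593635710986) (.leaf 4755941270155788114438014004465355554754090265682)) (.node (.leaf 3938198095493696449648411475852336575924935680) (.leaf 0)))))) (.node (.node (.node (.node (.node (.leaf 2951420216331199545614743428144197079374957055242)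 (.leaf 4038576162914424575593750876936476399826556292992)) (.node (.leaf 5747802327696092687510457935956940732552792491062) (.leaf 5806496728002203669861751728814575145262665819508))) (.node (.node (.leaf 45761216259671257224818517633349317065961373704) (.leaf 5492183226963667306928612248930120997523823226807)) (.node (.leaf 2394091511948809544919062570782007871655573707318) (.leaf 0)))) (.node (.node (.node (.leaf 3316974001369875233459023226720827436232520483280) (.leaf 3180828868123266894688392863516712733364940806987)) (.node (.leaf 186470187599132182694380736597986169787290681856) (.leaf 2055930073781380865219438898996726824388765820581))) (.node (.node (.leaf 4412107853301915927251918166052249340043794844786) (.leaf 183805009589499772470612617379376130866746261568)) (.node (.leaf 3648700145099917895958942112346818845774416970120) (.leaf 0))))) (.node (.node (.node (.node (.leaf 365376107592145247470029272039471988980133658688) (.leaf 2698226839782323070646818932078226156439553207771)) (.node (.leaf 4616215429071723290531230217476936820620309693312) (.leaf 1834761095251137167777834022490101231532313698337))) (.node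 (.node (.leaf 2139435798161361392171091821679127510508910346382) (.leaf 5235018430648899839131152590595244131516088589312)) (.node (.leaf 4760468307619338119436453555200399386110681874622) (.leaf 0)))) (.node (.node (.node (.leaf 1565917059200486627812120593297680184970275287352) (.leaf 1591573892706698546156866363581237100262917099928)) (.node (.leaf 1532875434186117952181614532608012820108703694856) (.leaf 416235511183833999846658240989161237177187088310))) (.node (.node (.leaf 175195334759342809929678161199576432339868385457) (.leaf 2161913669196087842814931611610328466391105156268)) (.node (.leaf 3184231474068029734364413109107922318520476287056) (.leaf 0))))))))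

def hT12 : NT := .node (.node (.node (.node (.node (.node (.node (.node (.leaf 365822906528203858185523792291621747972343664904) (.leaf 3931775941978037700011275641654111444741630020534)) (.node (.leaf 2951682131512169308449400278006076537145571942960) (.leaf 399472902057641307785098058204898170549663644074))) (.node (.node (.leaf 2467244238821664669093451936441902275147371118591) (.leaf 4899073212842710355519584746457660565439314191476)) (.node (.leaf 2956670078696048166446785478737625053939843754502) (.leaf 5357943805648402494863503355678301082064875994735)))) (.node (.node (.node (.leaf 2012788628680202225685846766685910265558558839820) (.leaf 5699784307983533915377975755569515186432901674044)) (.node (.leaf 570945769629484170809457324807970687682013593600) (.leaf 3476983756868729336805240187502821612872189542718))) (.node (.node (.leaf 1998561906456489115546784561589814189759059548598) (.leaf 3470992778305388367142999920101478821539747682358)) (.node (.leaf 1564263493760093451595619923436665549963926373249) (.leaf 0))))) (.node (.node (.node (.node (.leaf 4393157721084771782242774071696380612767247503360) (.leaf 2854645654696342020042060720241134637976509225984))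 (.node (.leaf 183045913109705103710108331730126201639022887425) (.leaf 4694816204530972940681940374284969463376331148339))) (.node (.node (.leaf 434641612777048783377589144825622254268264513536) (.leaf 2619750147972585538106443574434651788534253749893)) (.node (.leaf 4080254521092123028881558492801222969504008904064) (.leaf 0)))) (.node (.node (.node (.leaf 2619735556491900441776219692055008400828801813382) (.leaf 3477987286064063061496035448817680039434872946737)) (.node (.leaf 3598675972860341491130404641040630456439381636524) (.leaf 723360304806387080404933040655409714476753574298))) (.node (.node (.leaf 2535082322247492211286535518815705865985700568783) (.leaf 2184760084824883211496953065735764389185929175936)) (.node (.leaf 230680399629179436554551616113279562246268652610) (.leaf 0)))))) (.node (.node (.node (.node (.node (.leaf 2978864213326135376944528732625427520493413582164) (.leaf 3219075356392585115773792663053594464039054044386)) (.node (.leaf 851296422547245877913798320784642798967951587206) (.leaf 5438986717829857113452443014692090902149860803924))) (.node (.node (.leaf 3496820287021647808806357342925971304134318546944)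 (.leaf 3574683275066140632352386354445690071380201526326)) (.node (.leaf 159406245419415556828856903706676184428832582875) (.leaf 4117106090046491041153428884525386197564478917891)))) (.node (.node (.node (.leaf 3500265527552248432081306022415380582494803727500) (.leaf 5105491352591129936472988170204637964525009534142)) (.node (.leaf 5173369732753352808281221087358086975711049401398) (.leaf 655332212843613752188621882885021524345836039268))) (.node (.node (.leaf 2946246414188849432878441821679874860594832346163) (.leaf 5422759835652169359571963947725433651699713769777)) (.node (.leaf 4716134288163296659332900476546889297156043834240) (.leaf 0))))) (.node (.node (.node (.node (.leaf 3749080910662663522745657919460699743572427043900) (.leaf 5685909629154696678911966133188610525361667447174)) (.node (.leaf 788601877438046944556403493205134966596708035877) (.leaf 1242712984501562625340901965724281128420671163530))) (.node (.node (.leaf 1956748204626372805234366114706208329521605332887) (.leaf 5203196972294153253281583185642713088597703931052)) (.node (.leaf 2832991571125866527916978556585712435548811365690) (.leaf 0)))) (.node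 (.node (.node (.leaf 3367664394075554249139381447700958007960175075489) (.leaf 5786369303873594139754771550475006036187981358885)) (.node (.leaf 229855270497273892067704331249479969809994637408) (.leaf 3526915239860013758135344016689496595198651927618))) (.node (.node (.leaf 3539715748793163645517232373393397848880262963712) (.leaf 2417908413224954095712349795267829247420198084720)) (.node (.leaf 2013502923552417294230125387253646512087657086990) (.leaf 0))))))) (.node (.node (.node (.node (.node (.node (.leaf 1957861745966874557906893737522823782940077747612) (.leaf 1975925279593758321050562751506392786495481798817)) (.node (.leaf 388569579858701524379570630719518754870246277184) (.leaf 2234187989681861726223904239724487227556517565145))) (.node (.node (.leaf 3873660674819592644859139365824341050472804442112) (.leaf 4921458064313586839736266912187653704184231846118)) (.node (.leaf 768231644687338322235347973869719037554297390134) (.leaf 2656742598414605133975387178151073961815410246724)))) (.node (.node (.node (.leaf 1213209176784803779999045156710604625133548563691) (.leaf 1567464304047217172214888136091639181141917790135))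 (.node (.leaf 2538251461680172024432784315603021857607323654022) (.leaf 1081462016516708878978456269696102806465977336593))) (.node (.node (.leaf 3461352547517981860738177372461301041702068039216) (.leaf 3500466613839696767847809093219419032198281453601)) (.node (.leaf 873041449747359455954200508968523331660528474678) (.leaf 0))))) (.node (.node (.node (.node (.leaf 4924145030700591677532411608131725276569822685574) (.leaf 2441003671365585178809497943005763698502062089270)) (.node (.leaf 3289875851626767393855785644756314574727264196445) (.leaf 1644646597305412773995045890058899163193558904880))) (.node (.node (.leaf 3156558747104244552524216674777914957892062734726) (.leaf 3794123823811530473871570411183247289445150908833)) (.node (.leaf 469677091194311817633543899827510902470862135632) (.leaf 0)))) (.node (.node (.node (.leaf 4489522769778763336879004528647861444483083695164) (.leaf 2293830113410115543285190672448444417030961240074)) (.node (.leaf 3106969103812165019452833609227172905719348292780) (.leaf 4185770349677756026323587425027253774849829724321))) (.node (.node (.leaf 1898200341616239395435397766984201065593442245451)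 (.leaf 5520051536465399671426738565433590934978684954850)) (.node (.leaf 596846564610750216200508102070403841820202742633) (.leaf 0)))))) (.node (.node (.node (.node (.node (.leaf 5277132755024600813904240216530541425500752361398) (.leaf 5518005334477609378514966062287396030142937039359)) (.node (.leaf 1642300173006857012527182654359153813827715318838) (.leaf 653893413596891140137707240816735272411540292480))) (.node (.node (.leaf 1694862930312693940973834730082290565673648198) (.leaf 2676528717139708087680839066855550558050611266756)) (.node (.leaf 1342532190568807002820886403173360672061955706237) (.leaf 0)))) (.node (.node (.node (.leaf 1342175377284522313041785207721326195924891861497) (.leaf 4300419608864501489126814845906253860528688226783)) (.node (.leaf 4941008720618108377619335356601899223354435075262) (.leaf 33672165609707719287796616478527919726877527126))) (.node (.node (.leaf 1177591727054054455765597530680344748454736897974) (.leaf 1648954887735540429390951012040072315612172551364)) (.node (.leaf 3928195952263077662789960699449096544214508794240) (.leaf 0))))) (.node (.node (.node (.node (.leaf 2113823767202344085864372962918467698546312141531)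 (.leaf 2309247681685348234021127990780779191916034496461)) (.node (.leaf 5763148238926546694983955901534750678086439528838) (.leaf 543894243603939108911292801328542413329197891824))) (.node (.node (.leaf 1426819837531725244750215651500410518733720423424) (.leaf 1156798346720367541979657591798682366656983795206)) (.node (.leaf 4390269840088560475679921356048305697315477839872) (.leaf 0)))) (.node (.node (.node (.leaf 2579787194685323241106830906014687575861656813617) (.leaf 1900207415659731716110499763023034296512837389190)) (.node (.leaf 53633397095631494439834462292618784841226191031) (.leaf 2256232655805878146691901192685003945031040588214))) (.node (.node (.leaf 5579243317096160176076283412037077420087473037585) (.leaf 3134592932960606816192018733173518231758009812534)) (.node (.leaf 4806903099726360486521009824382751924328449673666) (.leaf 0)))))))) (.node (.node (.node (.node (.node (.node (.node (.leaf 178057483872429915980425470319081834030118305152) (.leaf 2435333434541371664820006171308426799408030647302)) (.node (.leaf 2954861579915502769507817034876271884271291597696) (.leaf 3100027080411265805377458218589052682026267578752)))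 (.node (.node (.leaf 2116889580090293339841532466740359996238422306027) (.leaf 5643348568042618826262395242806791640848857334852)) (.node (.leaf 5801496482789215788351551138361437059930915170101) (.leaf 3648343335898979796449400185304191409660388901047)))) (.node (.node (.node (.leaf 4642877456415218017040485217110960871996861407406) (.leaf 4344380415314639464112867463016697372421775459334)) (.node (.leaf 153310990156387935581802326862127693511216380470) (.leaf 3461346500444795117474514302298238993731374304791))) (.node (.node (.leaf 2083661335587186829252251648989745117713479237646) (.leaf 5277119282711321718828265719117015185243964037979)) (.node (.leaf 1749530929132068633457807223421528259368248556976) (.leaf 0))))) (.node (.node (.node (.node (.leaf 3689821549778408120378863849348420247404109290422) (.leaf 2493915145995461265111100192328446032758724672054)) (.node (.leaf 2619750206417582630569587819887526720215289105667) (.leaf 3495448964344970301498500492826231464730974249384))) (.node (.node (.leaf 601297188957159714454743111117725265032272437281) (.leaf 3797446600447257504479537436521243914981139546230)) (.node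 (.leaf 416236093234492574896980599256520267501191682907) (.leaf 0)))) (.node (.node (.node (.leaf 2335072118646464755505600134806148312454343017812) (.leaf 1402276300963924988212136717749789996737638367422)) (.node (.leaf 1693375117215234374484763766875064744406550343131) (.leaf 1641101385418126002910410901198088783673607520574))) (.node (.node (.leaf 600410598674449990123946938378312172456367559686) (.leaf 3897045965334125516823355140289016698247008413938)) (.node (.leaf 2182008030506613867121387401834399305005681303769) (.leaf 0)))))) (.node (.node (.node (.node (.node (.leaf 4939988354825568664432924319916895848416963521536) (.leaf 680532209577175668918076672885710018719398428936)) (.node (.leaf 1756636574742306202075918741879757934482468948022) (.leaf 4438667519733702793886823982349423423896937071622))) (.node (.node (.leaf 1181531948169946928029286967866376515966861997244) (.leaf 1998649913431837582332236993585723318005981512065)) (.node (.leaf 33985725009607797909714365708326101840775921712) (.leaf 2310460876978774761278000980746737398072420601221)))) (.node (.node (.node (.leaf 3791581515378414199245093030146785132491768532210)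 (.leaf 3894745851315196647830944715940901334714971873297)) (.node (.leaf 2538296150100750995910709219606052822889899435574) (.leaf 4645776531180700796624862838281162714704125296817))) (.node (.node (.leaf 1634872444777213608299660110926856048813463187624) (.leaf 3856344970927664017815715129964219959551913163387)) (.node (.leaf 4116277229448124137304188256697064779732194076898) (.leaf 0))))) (.node (.node (.node (.node (.leaf 2433249800059629124524509007884074408755610255758) (.leaf 1900905336838289687820730984410498429458516765931)) (.node (.leaf 1053135009809665882137981131797238848595560238148) (.leaf 4365225870223244939609266554001903110418303246566))) (.node (.node (.leaf 1509832557383260699300064118341762531968853416330) (.leaf 2112474049886315287554076818231618765046713942455)) (.node (.leaf 3441629261375392930752160876186949306070266668422) (.leaf 0)))) (.node (.node (.node (.leaf 2928041224629799574553344582032914715145322652160) (.leaf 4594838912415439445427913868821170831393584003498)) (.node (.leaf 2416571879999102823238225320364846827202746444166) (.leaf 23282155508367566431093962435207203994482180225))) (.node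 (.node (.leaf 1115914240398041261741287822052618716413674238896) (.leaf 4757612950645911814004410052612769674868517038086)) (.node (.leaf 4116275479907627898197610107523786511621292934582) (.leaf 0))))))) (.node (.node (.node (.node (.node (.node (.leaf 4533804090957268363661490845803887843379268068406) (.leaf 3391191796877583719256561473341436260633924362286)) (.node (.leaf 3926748967954270552219707394007418614728674371974) (.leaf 5423026614754929342554096752670109711066050335756))) (.node (.node (.leaf 3547651783379668999238126592592964940801083794304) (.leaf 3397659000501981684356047551920194410639568625838)) (.node (.leaf 4803478323738242003101318802763814346957031361171) (.leaf 3395665724552059332443330080682900328376316386230)))) (.node (.node (.node (.leaf 4409596898530827614757754743902104988748655284953) (.leaf 2418846873910471870167544851942091944453251850352)) (.node (.leaf 979586884258673498611753292845166907561734242481) (.leaf 5441835638101396790833755540781507071901029965070))) (.node (.node (.leaf 5564693041691398835227176687348734073335996444160) (.leaf 3128890908780404711553914138478882457538841042983))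 (.node (.leaf 4751797627659761553440811180305109499012390485376) (.leaf 0))))) (.node (.node (.node (.node (.leaf 700045285827992071341265930038397251871760387331) (.leaf 4460632924232078569431801729561357871851776040960)) (.node (.leaf 5129100101973630565635813801832166852880379025798) (.leaf 2418263773971069009409546959156924974535054748772))) (.node (.node (.leaf 768219106406897943596729195483626743730376043988) (.leaf 2569664522215527698671399673499940143306226175360)) (.node (.leaf 292208465630165147808271033223110813115004707046) (.leaf 0)))) (.node (.node (.node (.leaf 3540579002959399119283596857131285844353049235720) (.leaf 5783631220051144003522453497492581916674031644076)) (.node (.leaf 2081542392867554463027537219850274107710740955905) (.leaf 3419053616151883193957874729735619812688918198253))) (.node (.node (.leaf 872487610269379740312222638954344230585460019608) (.leaf 523421999585968433956830875268827992084936327551)) (.node (.leaf 4344837961860709178583111523337087264073747997601) (.leaf 0)))))) (.node (.node (.node (.node (.node (.leaf 3096085606995712269281594369190152835407087103211) (.leaf 2441682836823626044920950005461513977852410142094))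 (.node (.leaf 4569978565104869168323025497158995200137253391360) (.leaf 2926227137030601268725882098377074611668476494337))) (.node (.node (.leaf 5203065890967044678423087313868601236680430038064) (.leaf 856151256942820605253583013242178310148268166386)) (.node (.leaf 2577913939745036625097762953697293846422921088205) (.leaf 0)))) (.node (.node (.node (.leaf 1875504606949727274607717583507780993431291825210) (.leaf 1983284537993460642980312972329005733181459991820)) (.node (.leaf 391557381359266027576464759779401779476815416332) (.leaf 1860305016112846578025989393974745988159976885590))) (.node (.node (.leaf 4704123024666004746945329630062836932546015251504) (.leaf 5617801409131122937567473148051135556651201593414)) (.node (.leaf 156819340034773087215534839216369724478122888306) (.leaf 0))))) (.node (.node (.node (.node (.leaf 2114550220655323288395462151239310493537234342966) (.leaf 4701689925834800343283874022032148084423523894144)) (.node (.leaf 1826196826462544018688557909453455731675590733232) (.leaf 5699802420138704932503716327013765347910822923322))) (.node (.node (.leaf 1030533138004723380501122870121281626666646320182)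 (.leaf 1372523239881907159953246439401410544045810922934)) (.node (.leaf 4158048910818875817007570985228297722472240819248) (.leaf 0)))) (.node (.node (.node (.leaf 2234481956943297260464052523198314662093520396305) (.leaf 4986643963856264648446604467285590350081522142322)) (.node (.leaf 3240003068579587840688765931440422434719241208449) (.leaf 3337257628486126558091943104210403696986470204470))) (.node (.node (.leaf 2516320355799288054158580355261192640867872476298) (.leaf 28953510834400672960484371926679435102630717987)) (.node (.leaf 3875151825221635687205960521718326312672781190198) (.leaf 0))))))))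

def hT13 : NT := .node (.node (.node (.node (.node (.node (.node (.node (.leaf 1900217600821561092050383875872946915996148303493) (.leaf 5435114402724177157120620676370438599554571632945)) (.node (.leaf 419076404973731247252394243870389080441579572466) (.leaf 3419045627291211060171224243460433537469207309787))) (.node (.node (.leaf 3711543837670297089052272941958733054021150376319) (.leaf 259569134999861906834392597672637365876022718632)) (.node (.leaf 4289624365453446093578684661584806382984692904104) (.leaf 4102476795423797303651092862149165579201161686188)))) (.node (.node (.node (.leaf 1187763830085303238069432848881457476272036184304) (.leaf 1344188097917239159459024132451139316806719652369)) (.node (.leaf 1883889705518733755900359238052797828970780036164) (.leaf 5130385024188592757207500156700494262883772212790))) (.node (.node (.leaf 1633017257950448031605353545605619188524829189925) (.leaf 4572784389703914709715946140070210601003973696798)) (.node (.leaf 4673630300024428150503540022420698082375706804559) (.leaf 0))))) (.node (.node (.node (.node (.leaf 228762525729700145208678631111639393057665908993) (.leaf 1793471514038470416945939348923603519831278822305))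 (.node (.leaf 3937474308436542811666019706715116052442851773578) (.leaf 654540092757092840367208313770902659019230309254))) (.node (.node (.leaf 1674694124177666504167648460159862320708126665606) (.leaf 3105618065892550046827945575285608304815401030710)) (.node (.leaf 723603456985450482491297136782371966343777969024) (.leaf 0)))) (.node (.node (.node (.leaf 366828491349128229366857991674741681914773520944) (.leaf 4541065672191830190163812033027459017830761601867)) (.node (.leaf 1131183790714857354938571585007119876274614773541) (.leaf 2083651082439022588645589068823139492622239538176))) (.node (.node (.leaf 854344899209898962481097336501944786510237401158) (.leaf 4826367288054183379921488926714594233898741293089)) (.node (.leaf 2934197693480726909622662167544612563706240244106) (.leaf 0)))))) (.node (.node (.node (.node (.node (.leaf 2458338289982424970568012525560058826795110916191) (.leaf 3116482680777818827132214547144595923826648611451)) (.node (.leaf 3621556450126421788329428368504490299656533223522) (.leaf 4180485076893878682748553988059770514786279514207))) (.node (.node (.leaf 5105507516380181284647611236429590292082492637502)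 (.leaf 419487405020371827332575817678583996078166584880)) (.node (.leaf 71574917620141449004383138823760072081557908992) (.leaf 5196030026774762202960995602105032617245262958487)))) (.node (.node (.node (.leaf 5915676334501843168885477949957503569006104576) (.leaf 898522735359232944438872679031751821977169390829)) (.node (.leaf 475258427502909814439071546726461219219930434486) (.leaf 4121109870598454935649617636579912844781630113108))) (.node (.node (.leaf 1077962954428262381605347577196826009609170932144) (.leaf 3699100115141688491636556561051658661921514351644)) (.node (.leaf 5180472643294748629994273628821312093541120078841) (.leaf 0))))) (.node (.node (.node (.node (.leaf 3111317776488396149881515830427331468062804086074) (.leaf 2214195327740553723099174913304263900963202804387)) (.node (.leaf 4318918094041182029353710213418388653033004537222) (.leaf 2992924174123704633057693471742174958869063802240))) (.node (.node (.leaf 3297666978399952053055018778341830805234703697926) (.leaf 791064583631086368476198502402191597981941269700)) (.node (.leaf 2803136213945858338248234305909234322674777265158) (.leaf 0)))) (.node (.node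 (.node (.leaf 4296795233544780924155229112841546712504997686704) (.leaf 5309853729378185396438387033317526007314868653142)) (.node (.leaf 2728422227840491606178651381442575813084395102247) (.leaf 1896802016735748216174324800119796539942263783614))) (.node (.node (.leaf 3937168461761967043567508867257768864371518293942) (.leaf 725337797253181162604686177249046548626069493709)) (.node (.leaf 3073967917566374080936012856883300801647806726704) (.leaf 0))))))) (.node (.node (.node (.node (.node (.node (.leaf 3818565608372046981588000320290851100139463598241) (.leaf 3025771075738855127832686732726894964844240506880)) (.node (.leaf 1905700007178392258767280349384095675486661274731) (.leaf 4721688501963990088535714992957953454013747847648))) (.node (.node (.leaf 3794127806368347300544216218669582985861693916049) (.leaf 74267231445725506778473712212041223329128915489)) (.node (.leaf 999278598203349620271303094814916677861015252205) (.leaf 3576397920108934850870815232891514074435437624510)))) (.node (.node (.node (.leaf 3715557987621054744078338140823624761030800338020) (.leaf 3777063829361427571200975931457474223262458383602))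 (.node (.leaf 1823353459674633075936303092674455740096424880566) (.leaf 157755985964280175867903666008426776297630556390))) (.node (.node (.leaf 1512899377831378234356049654372718572639160111104) (.leaf 3600251013595756095070164957043546475570384862720)) (.node (.leaf 2017659069432569393472530809518543970061842521472) (.leaf 0))))) (.node (.node (.node (.node (.leaf 2928717851518619663533194936528489417519401533953) (.leaf 2926220192547060874253332071600725525858701803521)) (.node (.leaf 869375393157201713740922485165573012566224963650) (.leaf 4108439214364964409258470786747539920434281899124))) (.node (.node (.leaf 2465903450022391317781209515951966691386444953004) (.leaf 4006919082843463698951146784657645393986766438783)) (.node (.leaf 5494433287968002001858082150971566123251418229997) (.leaf 0)))) (.node (.node (.node (.leaf 2800677553233994835824361608798366994515166432570) (.leaf 3101188727000668589116151886490272577834233262464)) (.node (.leaf 1317934559725452623352434032425164801231182130283) (.leaf 395326195812291427530881213421684590177249657224))) (.node (.node (.leaf 2624054267055706278786320159986699411847999089941)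 (.leaf 956349597757451874283979912213676590599825023399)) (.node (.leaf 2543728159470895642910952828045971227454533755041) (.leaf 0)))))) (.node (.node (.node (.node (.node (.leaf 4616884975123086216877226776985054420930626195840) (.leaf 1442379717361274153002057009245337318429999105669)) (.node (.leaf 4037625932688915576803783622827488135328615656532) (.leaf 4216858447944713828106495793137198173738464731231))) (.node (.node (.leaf 3446840587327024868744301662807906914881598411830) (.leaf 4179191638768654878689075556346746225577013022155)) (.node (.leaf 4247210416865298920037802016907161378928029638704) (.leaf 0)))) (.node (.node (.node (.leaf 4783039386057072266998809376420903723648952329781) (.leaf 1220786138436060169672519787595639459400401712316)) (.node (.leaf 3974731221586032513136493629420513671082049430193) (.leaf 5618808775374426044705923868395719215613096797284))) (.node (.node (.leaf 1320436018680016109235096742882232385599841926334) (.leaf 5157535397116368547352756434944946397361879936021)) (.node (.leaf 2139837219166411703367093522257664080041816624186) (.leaf 0))))) (.node (.node (.node (.node (.leaf 3257678039035826626751729521581752274026506682497)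 (.leaf 2410480410160723857853844523936323152327334005126)) (.node (.leaf 2719654589829092078421825035061326802077160009216) (.leaf 3311421813457968603759999932022759048314282314810))) (.node (.node (.leaf 1770804177201849999213573809511048625617572594560) (.leaf 3394660663716509226149648810734716329831223923072)) (.node (.leaf 1518424070997014438743253371603175743616580970886) (.leaf 0)))) (.node (.node (.node (.leaf 2863069880391431673258000685383181684783259327488) (.leaf 4369840712780310065376854651292104254496961602209)) (.node (.leaf 924994543052921257890622803469778933779469172848) (.leaf 2181294408021410827430533960867986270741137482151))) (.node (.node (.leaf 1773199352480579062403879006229916262585914568240) (.leaf 5498881029257350167398667570889200259633227554928)) (.node (.leaf 1748559990919718826475598088535199173413666842165) (.leaf 0)))))))) (.node (.node (.node (.node (.node (.node (.node (.leaf 2474731312843316743140851156493088097402239202742) (.leaf 4622940394204079658807483222648261886813545128166)) (.node (.leaf 656876389225440090873139566291312314409479467392) (.leaf 2775843171598763651876118230161190385552730933330)))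 (.node (.node (.leaf 2309656151179442574992999184001756303932578430270) (.leaf 2469845517806767856862050132057234456928822168957)) (.node (.leaf 523438868666769987601775892291518258014223007487) (.leaf 677731302474121632973001221128872926826750732678)))) (.node (.node (.node (.leaf 156605129152772157953847463819526063943951477638) (.leaf 2570990526716071067209788330978718409586118366348)) (.node (.leaf 1774540625334830369697047609785216186071126461366) (.leaf 3856299263884428959524147683568516395762144472236))) (.node (.node (.leaf 375542802113645681413927517613598815200564429360) (.leaf 1423710987887785861901586207939306493309470208312)) (.node (.leaf 4906356436704385755612660663543168574120563310080) (.leaf 0))))) (.node (.node (.node (.node (.leaf 2184973772545347539223995567858650734422341414839) (.leaf 22880739138713137943879129585248858156117819456)) (.node (.leaf 5548601851742721527879596220644461955656826249318) (.leaf 2439696143452818513311323946127797583204446955526))) (.node (.node (.leaf 2234521760436665044118922816800713598500919108724) (.leaf 1509843608820949037400344280534936404006181475334)) (.node (.leaf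 437853814142566038927958615559809648521007336458) (.leaf 0)))) (.node (.node (.node (.leaf 872564506215588529528188843628533103073590272095) (.leaf 2035714641875255111263828110415062537169117121546)) (.node (.leaf 723606179244422196077408542727855618303996879537) (.leaf 5151409589276675661744754252883624677902249976625))) (.node (.node (.leaf 1032380231394219149637685203491274595535734381568) (.leaf 4159933774890598306806181583841514715855986618880)) (.node (.leaf 3818574750882706605919282204001987979822829282224) (.leaf 0)))))) (.node (.node (.node (.node (.node (.leaf 2060747998870474385518583514209685030108880584112) (.leaf 469679920461111736813227541288702048442426180016)) (.node (.leaf 5441842841881291762152676067226787260333116235136) (.leaf 521491229659355653439950097805177610355452072880))) (.node (.node (.leaf 1509838621401458913571682884399735717544379288972) (.leaf 5338529643537010075888768883782195530031967723681)) (.node (.leaf 5209383789168672820767877390033268130738546889782) (.leaf 3058991880701726508706843360392828766041057336590)))) (.node (.node (.node (.leaf 3467616705119053807954719590107181966314373579087)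 (.leaf 2930125542511125141973880266478573528476244643976)) (.node (.leaf 4881996330233366643397633588908555196332098169314) (.leaf 3738445502249787651244207338411392987761283483730))) (.node (.node (.leaf 4703022848819165427417491532007840088735071625255) (.leaf 2600593971239985086578934718536076926036351320369)) (.node (.leaf 2181405911144914348212900544590982900358378643817) (.leaf 0))))) (.node (.node (.node (.node (.leaf 337686128679060680899857973474820966813779712438) (.leaf 3648341082802857247394012704691823088077703049015)) (.node (.leaf 208201333092953763083402898450353051519650852012) (.leaf 365823604979070825200616252116887286078338896256))) (.node (.node (.leaf 1700687666420163847772338224130757150259945092150) (.leaf 419084420553557691385882123386705819598944659846)) (.node (.leaf 1776461925763528817602741927092366492583694494838) (.leaf 0)))) (.node (.node (.node (.leaf 4321588781822729105948224673830394300202867235854) (.leaf 23283459259091894512331453304478358267163116289)) (.node (.leaf 3540178373551410337063334797336293203445554943244) (.leaf 934042183522904901759814495534693217766442806832))) (.node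 (.node (.leaf 175207896634830808257279359529871299633315144497) (.leaf 2947811991424653769315590332893982920229457318320)) (.node (.leaf 2181393806032541650991112320306334675851859907289) (.leaf 0))))))) (.node (.node (.node (.node (.node (.node (.leaf 1567129139518104620227016627257083088057820906113) (.leaf 3937523882582304404105232303991159292121160655926)) (.node (.leaf 5435783994542737135412640273790576132972003772470) (.leaf 3294138550113618603119011702106360054172818276592))) (.node (.node (.leaf 3101194168200824539841918437008315890335080083768) (.leaf 2055940418112766365658251958729545896381370944438)) (.node (.leaf 4086397764671782183197830076197455600518603410700) (.leaf 2180848368875943822659253279196780617576401273344)))) (.node (.node (.node (.leaf 5128633469640190696442502360572886135625448972768) (.leaf 1131186707827276279138747584667757131648118254739)) (.node (.leaf 4578338815164479108424953935305793835202504297530) (.leaf 175543061154953299571253161610576462776542323377))) (.node (.node (.leaf 5312361169395427966411778364824862854653891503348) (.leaf 5493919082482032285825212821572377766624845676592))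 (.node (.leaf 3926838084002224485453547842577954229469726432816) (.leaf 0))))) (.node (.node (.node (.node (.leaf 3318089726149814897979231236602287060565237981201) (.leaf 2389084264166132825977619470585849810070996206481)) (.node (.leaf 4162909350995624300449288939060000399412009737035) (.leaf 106062761613718275003841368358671382471031942619))) (.node (.node (.leaf 1417529885796132993460882752761382731777509687366) (.leaf 4040580093306732532649653765551335334284125291025)) (.node (.leaf 847653426269298516680693220626761765550746598784) (.leaf 0)))) (.node (.node (.node (.leaf 2569135165639084840639868480971808563589764744837) (.leaf 4676435486549681487648360437617830253357759129990)) (.node (.leaf 3852737215628856318896988105582552185200013210617) (.leaf 5388037359745399051728620338617259720677942386768))) (.node (.node (.leaf 5067707626420431325678826217612762939978036284530) (.leaf 3278127976892316013326996923550539586020079832460)) (.node (.leaf 3521212765475383885983338847067298268984180638916) (.leaf 0)))))) (.node (.node (.node (.node (.node (.leaf 956721822675811350063939916744351284865993602566) (.leaf 212891802185545646606313469321738009131292127544))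 (.node (.leaf 851649916092536949051385680348331223669950505328) (.leaf 5277519912138201341206677081532655645031900145205))) (.node (.node (.leaf 4783023188082126947512240986871403126975282833926) (.leaf 1976527398948477924093186833046625896679940317585)) (.node (.leaf 2033772868620606597818076789236186644263469664182) (.leaf 0)))) (.node (.node (.node (.leaf 5365005821410473624920223150850409429327288826246) (.leaf 2166707223884868848962928208237911194744152576)) (.node (.leaf 1111949418210742082935818477489139131679270113152) (.leaf 771720311927534833733985790119437986615018414175))) (.node (.node (.leaf 1467930545812403782201549883838420400979964888132) (.leaf 3033016090527299757620773928902877186568299238454)) (.node (.leaf 2113742949239841669010825678417727476518920023936) (.leaf 0))))) (.node (.node (.node (.node (.leaf 1375234917057587899742428489081357638061577249892) (.leaf 821557673354349419011921127318324145415435002785)) (.node (.leaf 1829777036825637151207796143422371504705874266502) (.leaf 4392945602501045572310130367477019219671446985742))) (.node (.node (.leaf 3647569660011687083983688532149557014563779323685)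 (.leaf 4269376771815782802162876947116405494468510220799)) (.node (.leaf 3607176098162098764278184667682237315629875162405) (.leaf 0)))) (.node (.node (.node (.leaf 1641703477146233021740244287674098984628319682945) (.leaf 51431366193595061500114409059209707489499554352)) (.node (.leaf 4900272191062598410479059308978902657322116386162) (.leaf 2284355432725303574418105540552328552228791762927))) (.node (.node (.leaf 1403181917190123841761102231866591037379748206470) (.leaf 2419936328647761334107455211761465959658775117936)) (.node (.leaf 30717229768439184994627741859374996760742576111) (.leaf 0))))))))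

def hT14 : NT := .node (.node (.node (.node (.node (.node (.node (.node (.leaf 3738438726312065704639522472467637858375552494692) (.leaf 2229564935581865875966589873382485910501568442752)) (.node (.leaf 3420847172771054506493152175602986280651753134470) (.leaf 3436908311296036356291786678263312670541400986678))) (.node (.node (.leaf 5203118207350689461964770434259962070890549633041) (.leaf 5571303962962900320693547574781737028203631308727)) (.node (.leaf 3672246740896975459569343581831199118889583752112) (.leaf 1898933262895895411484012179841033156034505632646)))) (.node (.node (.node (.leaf 1397169415766457321247646143096171360514967363679) (.leaf 127564793543767470940290634278884035224976722370)) (.node (.leaf 543476623917311551418415000325223941486753421702) (.leaf 1881034168421326330267597097085854641197532929310))) (.node (.node (.leaf 3792049833324491752648421766063444596738843479429) (.leaf 2675379133458159311619331188726552453570928441222)) (.node (.leaf 5319105499411220400674476591501909656693850180874) (.leaf 0))))) (.node (.node (.node (.node (.leaf 5239119333356092033762465462411871826613080549766) (.leaf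 4134902266586817172588804666899623824923882950028)) (.node (.leaf 2624048186593995234624341840654661291264932136886) (.leaf 2316077206258677929848484506672778013389696368000))) (.node (.node (.leaf 1484672787069316789382362035231033052063683201683) (.leaf 1573537075725256461720188200487784524085223076713)) (.node (.leaf 1464814800749233288468473948465047156659350499640) (.leaf 0)))) (.node (.node (.node (.leaf 1537623990307339466299543586583029724151161168545) (.leaf 1961144369704090246966313420143298553945903647830)) (.node (.leaf 413099798348456427776678805459428706312926006340) (.leaf 3984439761194903231546131050149321576726512536972))) (.node (.node (.leaf 5196049285310402657390639865918460401414881619504) (.leaf 5358612069623067015544081299968252977516801949184)) (.node (.leaf 1470789909957256948472194045446941309612624710724) (.leaf 0)))))) (.node (.node (.node (.node (.node (.leaf 2009912530712972888862893003173291565069715570993) (.leaf 620029994869446160942332209883028983856211976593)) (.node (.leaf 925214718846392869125202306274823805777231265872) (.leaf 5755130704514041333757479511033756867847029025876))) (.node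 (.node (.leaf 898526094189134560185821776355258357302587471798) (.leaf 5624217811047220133245301506582266425364828423174)) (.node (.leaf 237542652537240365930271179506294927885059818368) (.leaf 105828579121203705322595118066937154968287314561)))) (.node (.node (.node (.leaf 4856826236661389700641470032075282913197175003867) (.leaf 1060841393984997428988837151750260000478742170672)) (.node (.leaf 3401418822436541245376942065114949616676488962865) (.leaf 2656237378073438277143347979898667385208185002502))) (.node (.node (.leaf 313875398733060197266473964141455076235253550464) (.leaf 2462087395424031934478929392652931034368688310326)) (.node (.leaf 3471028742627313882602322099275967510260202040660) (.leaf 0))))) (.node (.node (.node (.node (.leaf 3777073442323344465056988989764699052579064505716) (.leaf 5257385072765254429927565005882537723885620716416)) (.node (.leaf 251330792759570921107958240387754648434162991616) (.leaf 726315725807446658723799444243821882179812524174))) (.node (.node (.leaf 748642468193416742793979430336587133548106283771) (.leaf 2456487347540425176414223494202115360835461451211)) (.node (.leaf 725490600192722138818454085168961832848930311482)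 (.leaf 0)))) (.node (.node (.node (.leaf 817436926186361521949449467990368561491279372711) (.leaf 2723283492797110283236662945840679665534455823983)) (.node (.leaf 1210712686673424863069501731185934175229345674678) (.leaf 2860577779941980188636439704432184146397761924564))) (.node (.node (.leaf 1830501812086375088018256907969976246395253132614) (.leaf 1158048783988536151817298399605284550988532285439)) (.node (.leaf 2465898252040632985893117484944162865715666513306) (.leaf 0))))))) (.node (.node (.node (.node (.node (.node (.leaf 3466563439482478148962582425153721590365981158832) (.leaf 4875854315464082435471572404635004874480068388870)) (.node (.leaf 5602503170690575535147538431727430550235311205651) (.leaf 2467258657055065201726545911662786804911284421119))) (.node (.node (.leaf 1342177720623927986966161503999620064555757728761) (.leaf 3238365649662378240104703911921843758354165096721)) (.node (.leaf 1861007335109210674181692868114097720058210424838) (.leaf 1036632583246400176214077335452799553998854253805)))) (.node (.node (.node (.leaf 1929695895913705676867960132989302543896288708150) (.leaf 2415973284053909766603039319822234257293538973750))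 (.node (.leaf 1397177805342935473380331907128010184725488254575) (.leaf 706237153450349022851910706469951013511345117062))) (.node (.node (.leaf 4102525117683005051410536984290871861225751825878) (.leaf 4568797187452129997922675767469177305801224858672)) (.node (.leaf 5699270911728732237554890905202046643485454850458) (.leaf 0))))) (.node (.node (.node (.node (.leaf 3669982388190379858800048550903327175158982073630) (.leaf 3395710238725744409280837401356753960130307392518)) (.node (.leaf 4105732667132982620267245625389324228189645114634) (.leaf 2417901316359793017019163169411605494633712377856))) (.node (.node (.leaf 1816742321074341455493874779900596445255536896902) (.leaf 3461060293113891903279225378921716051875423518897)) (.node (.leaf 24489360735811303073747173088595153449973192710) (.leaf 0)))) (.node (.node (.node (.leaf 2923767087783414030299574391500117395923377545552) (.leaf 5379473906256147883112789480732103702862829740502)) (.node (.leaf 549178329928816188231592122133331142190198718464) (.leaf 1484683742372049367756316266084895171952805488566))) (.node (.node (.leaf 4983008932104346295609843600191300276679568461068)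 (.leaf 1190240694138393415137304462125808016877205357636)) (.node (.leaf 1464557253982728960528702836018708739930888209280) (.leaf 0)))))) (.node (.node (.node (.node (.node (.leaf 2602070840413143843957543739527273047697794775021) (.leaf 369033450400784644891956387084629864482207960122)) (.node (.leaf 3712215153482224174735263412390941811121460338224) (.leaf 5213282371863501509945124892285586972943970982454))) (.node (.node (.leaf 2877748009657563620148505019506560838452859244416) (.leaf 3107546353969872103055395508210631992079653535743)) (.node (.leaf 5259594903824709160125588748446119377285118355698) (.leaf 0)))) (.node (.node (.node (.leaf 1342888999768750296957348000632997934882150113560) (.leaf 3851329524612628422233084707785605612667105811275)) (.node (.leaf 682444127749770184256082322357972592979453336502) (.leaf 4296784624223756788454678978160309155952783745254))) (.node (.node (.leaf 4623185702834616036900621364621010457136771591405) (.leaf 1241175955494055344951656289510537263694904411574)) (.node (.leaf 2232039674388793903090108829427342937979309881734) (.leaf 0))))) (.node (.node (.node (.node (.leaf 4159923640713419377870612616218149355267022127609)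 (.leaf 110777166789708115444436142954920472020756699085)) (.node (.leaf 4774972309235171049311930672246268818256157861236) (.leaf 3446459426071900438645627103947706888562033758208))) (.node (.node (.leaf 4517627894051316295974350458509881214156651885561) (.leaf 2885905756362441096018977992037619121623368526848)) (.node (.leaf 4576131069485654638576273638404306583987480429057) (.leaf 0)))) (.node (.node (.node (.leaf 4616222495693997591464984433648618029758315823873) (.leaf 5786481896506204153835234895895772617757986666538)) (.node (.leaf 4640421548590341914779036771838474554536109843556) (.leaf 1238730030692374658529289445273257191970630801414))) (.node (.node (.leaf 3748976339427817799069664173650197180554898586672) (.leaf 5747815992351464016819665281282024265864821894612)) (.node (.leaf 2203929755564441779282111206160748323504656965912) (.leaf 0)))))))) (.node (.node (.node (.node (.node (.node (.node (.leaf 5279940152802262922920458091957195247642206489491) (.leaf 5420564801186684792873524720222839921912919857670)) (.node (.leaf 624497049924966638397574107928217852450565005857) (.leaf 1461646854040584148566174311358662732332855988224)))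 (.node (.node (.leaf 3577292930304576463356048327906547770062810144870) (.leaf 5495203044622844517847740036411191202302675749254)) (.node (.leaf 1242467677418311216950871226751841531335435357235) (.leaf 1470785053447978919725188069978399180752351691782)))) (.node (.node (.node (.leaf 1835207112983809142931071268312770335405623738879) (.leaf 2600588324127868316231848992253178864844595618688)) (.node (.leaf 4340844778265404045215809969071607824626075394865) (.leaf 3689818640021556264589589423757522629137569003373))) (.node (.node (.leaf 4703024227269678509120031290171973332433191325207) (.leaf 1534146581511458058481508733435437024964655382711)) (.node (.leaf 70671330272271983121476707308257243868748317111) (.leaf 0))))) (.node (.node (.node (.node (.leaf 205657736664157325152291065146023492171871683201) (.leaf 1820269387856449564972311057908162784246707492813)) (.node (.leaf 2515415672814951083104342114051067326918910086022) (.leaf 2728412674911736724239254633794965636931821252144))) (.node (.node (.leaf 578015291552950032570204893689560256153874268343) (.leaf 4259207629971391974895327839785297058844323089522)) (.node (.leaf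 174425758980580937530522499495100492740041788051) (.leaf 0)))) (.node (.node (.node (.leaf 2979452152301990011271853146032103041169917701460) (.leaf 5395612569080371253567643349082413007305747652992)) (.node (.leaf 873682268169135423432982547921571822129751537706) (.leaf 1772476367859187746831160206238482912502894062674))) (.node (.node (.leaf 3931408519353852861316434967701661723787223632906) (.leaf 4415742887444833619766260112564658337010708843788)) (.node (.leaf 4856819564742682676584761125218762999185058150326) (.leaf 0)))))) (.node (.node (.node (.node (.node (.leaf 4435343282917128490723600795581892001784358070069) (.leaf 1381090412683672839420355021843266511083398237196)) (.node (.leaf 175542433674245981063104624302752478701950165888) (.leaf 2255905343693872327682086536641902958806489973521))) (.node (.node (.leaf 2033763655898563301884545511096893923531816839843) (.leaf 3482054162948626100077388712680972457853736365488)) (.node (.leaf 5567723996459748647458981567491220955053927019369) (.leaf 2762556508836628433234998753509741592638435285942)))) (.node (.node (.node (.leaf 4725550942949865263875558935946672149083862208896)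 (.leaf 2799981485120863312436834949807507700782375246214)) (.node (.leaf 2475465316315717723458806571248424120084414557524) (.leaf 1771386265282542346842296737933977988446509403014))) (.node (.node (.leaf 3603222490393091350031393167897253949695074645430) (.leaf 849290849479267418207421119082380167256163381632)) (.node (.leaf 3580102108676388709957524256754199683091662845356) (.leaf 0))))) (.node (.node (.node (.node (.leaf 127564670595207573898924330471839509263632008198) (.leaf 3133296849449327115325969509640857773275281081398)) (.node (.leaf 4410039101285890283701154281715140634374928541238) (.leaf 3179031523958194826133269769100712982708970043373))) (.node (.node (.leaf 210044126801308998936666777429049001477513238966) (.leaf 4120796440672255162468780150019847233213559220771)) (.node (.leaf 2013489708358023581328319898208511408077900094464) (.leaf 0)))) (.node (.node (.node (.leaf 5548602065328189653968838511798745760014385859670) (.leaf 3216577655235668788726506070043921772855720149497)) (.node (.leaf 2033774498225560763772407090056627933101267840277) (.leaf 4062045443123467754745439167211937895276866899123))) (.node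 (.node (.leaf 3399309260750890154918139081727062682927897250867) (.leaf 2974747983588129997198193414222170583972526361475)) (.node (.leaf 2777636290892216685721069001163778949444973286105) (.leaf 0))))))) (.node (.node (.node (.node (.node (.node (.leaf 3283993684193461131508523956104826507233375985359) (.leaf 357772928398348837242737408603067293966189423891)) (.node (.leaf 178049819255718768367762175870798500268491342142) (.leaf 4039410012778672747163105918136232773318283321574))) (.node (.node (.leaf 107728541675097021381709785883819199011224645944) (.leaf 1036646055500053854833620799338922295103082322779)) (.node (.leaf 521481822483306272587989594362020502604575105241) (.leaf 5802993638126098042641963478873973072835469331347)))) (.node (.node (.node (.leaf 5084153879716690007187245031667741817298866897926) (.leaf 1139322327774648202045591719575209309654166566918)) (.node (.leaf 5388283882522518804584562499086752453498036648326) (.leaf 3775614253616716506045584633512979874525729456312))) (.node (.node (.leaf 5571283970182728220062183609223776659601062587904) (.leaf 3415722795342624608442690351857682602033959365909))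 (.node (.leaf 5414861374711961875848351341886646732982277799296) (.leaf 0))))) (.node (.node (.node (.node (.leaf 5579235077558620793306958425068296031030578594736) (.leaf 4538218870422127750834934394153762119108389986534)) (.node (.leaf 394639748721125628129396677403550038790627058048) (.leaf 1796238590296613746028283864383517037148168586112))) (.node (.node (.leaf 132027262191876772056970770732573137376607491126) (.leaf 1139318597323175751998990466139877999348098561084)) (.node (.leaf 5581718684755570519785539253764438498594309041620) (.leaf 0)))) (.node (.node (.node (.leaf 4884349504758804827702875403881784089343579679844) (.leaf 4064219667546680106846845868207329723256152875825)) (.node (.leaf 3095594985433243601522475912844519594211211673864) (.leaf 2386462807823411716495900471055686402762951789952))) (.node (.node (.leaf 1573529836963763926925504611731441093043937829081) (.leaf 677677725079808514734413629831651854269397794945)) (.node (.leaf 1837459468660270790032360948432257913335077146059) (.leaf 0)))))) (.node (.node (.node (.node (.node (.leaf 5600629911729588354635331391823672455576373190695) (.leaf 2308376950793781433610300721248328500504897614136))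 (.node (.leaf 2753756715130737921237081432788269978413175434652) (.leaf 4030882666555072087052450829179879102101873827086))) (.node (.node (.leaf 1342892041369389547511414581165193943230836256936) (.leaf 1035498751747108176471722649533708482257639397430)) (.node (.leaf 3500661363993024175353612592482657045927013717382) (.leaf 0)))) (.node (.node (.node (.leaf 4107173429519697683743334216660852559386864370096) (.leaf 1799354455856087783488234133983371478372783689728)) (.node (.leaf 3109923748563125416176238845092086136992290544134) (.leaf 4161172477736398445728031352695129499595541515469))) (.node (.node (.leaf 3976071792612841986744678351488082007093107423995) (.leaf 3771354849535358190210812932553128971873983597834)) (.node (.leaf 4219601406000289179558291613937882058642525220075) (.leaf 0))))) (.node (.node (.node (.node (.leaf 3719916500868861574051413012685506722884726858852) (.leaf 872921316713895160006250059831719101262999809171)) (.node (.leaf 2232780298729434930263561933014090670637977147341) (.leaf 2043698323853797425555197549092852947203879078970))) (.node (.node (.leaf 5173350386320690583486903351370869863667301853666)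 (.leaf 5082673956419715137134244308561772016809066293638)) (.node (.leaf 5566331146889757189212135966171448492584042954935) (.leaf 0)))) (.node (.node (.node (.leaf 191216280441563415354555882952145058172513633200) (.leaf 924994796203931589744361664638505733462809174016)) (.node (.leaf 2974635652288381583543067759157421558163500830856) (.leaf 766946417816854418043063084747500306430964572208))) (.node (.node (.leaf 79099872659651026628490936080521412060882559665) (.leaf 725044588180153919510908622108354244548154556680)) (.node (.leaf 4340374676842305260778434968821834082212578688318) (.leaf 0))))))))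

def hT15 : NT := .node (.node (.node (.node (.node (.node (.node (.node (.leaf 2951687880755568461750419097762415919938692203025) (.leaf 4062051109060230824226356745516103684672068938630)) (.node (.leaf 108671934246782940350457708122652797499826962568) (.leaf 1802805284518839748096011518339255138578156686708))) (.node (.node (.leaf 2260120196956699110161932194645194353020156593072) (.leaf 1796247869711392478332849417195985058722112209537)) (.node (.leaf 4572907218007558450116254811508669649905458348545) (.leaf 4960592782370598837415425831186496239169363777546)))) (.node (.node (.node (.leaf 2651346929109664136534390940477591314824929393590) (.leaf 255322911335669355188933075620326756090590003585)) (.node (.leaf 1340043878459579537990173851389844698064121412534) (.leaf 1816743428760274537940939504121104712550140808371))) (.node (.node (.leaf 5319088193880790668865778253285152352989415807366) (.leaf 5388394210377898162756600310125086581442179820662)) (.node (.leaf 5316139525672184890317771916071906349256987577716) (.leaf 0))))) (.node (.node (.node (.node (.leaf 2191571538872848420931691402085546614620821614080) (.leaf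 3960315157233057879053675475234887944990843474950)) (.node (.leaf 3938211856223767927313982524112151753326900570630) (.leaf 5494417047308112006900983083513348463141209365339))) (.node (.node (.leaf 4750031810167222489414152653595537862998064139264) (.leaf 3738804460312665060274015928762396764374208694198)) (.node (.leaf 2455171796554316289855474644948386068340456340022) (.leaf 0)))) (.node (.node (.node (.leaf 794361659649235432156432710945078285615696389686) (.leaf 2499197374132271858135534084834461864186899868195)) (.node (.leaf 5803027535517465350021528104123048824937589840262) (.leaf 2641483179460076495728828076187135529234657777030))) (.node (.node (.leaf 745593755987240917529547028496949167844691299863) (.leaf 3698956152660355210663801276651525544718555348735)) (.node (.leaf 5339569579437665885897900456926406541471299737990) (.leaf 0)))))) (.node (.node (.node (.node (.node (.leaf 212893036051738145144590025336741569039466131840) (.leaf 4741893137905246727536497577613165676198731407696)) (.node (.leaf 5362458253329825311013610168774239223946566110580) (.leaf 3465333779483337548290201308772603151485959267718))) (.node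 (.node (.leaf 2886974105533913748600193244829004231339130809344) (.leaf 5319103486103477795486411298486255468573932524684)) (.node (.leaf 2409238911438755126508119410685981572589222552820) (.leaf 2596634250993856635114561060460398785727734160384)))) (.node (.node (.node (.leaf 5178463224169653326467208686486526923207467245792) (.leaf 1510363159361505559123239066698270361486964968374)) (.node (.leaf 2948755082306304506296490728074487278384118292480) (.leaf 2113734302835075737503570772712390961824077803319))) (.node (.node (.leaf 4287953450542247806159887985984160681307342070121) (.leaf 3896214556564367121400417479629162374645007321990)) (.node (.leaf 375522985364720713121429736978480984792875688337) (.leaf 0))))) (.node (.node (.node (.node (.leaf 315000001439544771715335502453186333797403790474) (.leaf 5628393870922978781879152968309458525736948840301)) (.node (.leaf 3793587616606794430181721090963784593325326157750) (.leaf 3936114432204462598451398561607549444494768845673))) (.node (.node (.leaf 4408345617649008430255438991250828176723240484607) (.leaf 3031927182004337999399574799106407173687710505691)) (.node (.leaf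 517368428980933213752947171106665308983413642246) (.leaf 0)))) (.node (.node (.node (.leaf 4060143809770855578819613013884416874217109466672) (.leaf 772924545468033917963281886681059721373835291883)) (.node (.leaf 1029117196236058279478272254911220175686012174534) (.leaf 1181363488147970748239460234672817262659615588791))) (.node (.node (.leaf 2140340749636123654142456263637534275850611643312) (.leaf 2272796218124482196287183677600987157793978396720)) (.node (.leaf 1467272140607752916473092848360314084188304744496) (.leaf 0))))))) (.node (.node (.node (.node (.node (.node (.leaf 4827665616009133188479546133582039498023692700672) (.leaf 176080021322513875017936219183132395564774551351)) (.node (.leaf 4645762492626319550778547160880062619648844260224) (.leaf 3058486469029504636000267009989039648160556802534))) (.node (.node (.leaf 46831656176474994348747850125978633698729984264) (.leaf 766947936453818485064516051133441556475452612704)) (.node (.leaf 2123007884834824776344821259857161647227332287774) (.leaf 604263210037975547609213432211152310704511937618)))) (.node (.node (.node (.leaf 3116478525675091598339209797573506728065250948614)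 (.leaf 4775030896276622752989128371959416310857307021345)) (.node (.leaf 1374920200361188082898089182707087182334114002822) (.leaf 1716924880063772494470855933749927101918803615905))) (.node (.node (.leaf 875779421370890176945061431264286961225638680966) (.leaf 4941595770337022062022885229783409042102918517128)) (.node (.leaf 2396512250371319027478871318629853318838345841206) (.leaf 0))))) (.node (.node (.node (.node (.leaf 4186907679260914227463443978793118252206529645747) (.leaf 4185745314428524776303757308279353658872328077776)) (.node (.leaf 2335086300953614076770671351125099928996926368182) (.leaf 4958515546397001903209989875052530820666711386210))) (.node (.node (.leaf 2616371367318312907545809690800237886681498143379) (.leaf 5335307311468776656028936957920405151640175798790)) (.node (.leaf 1160891223195642144509582954063140533003136273797) (.leaf 0)))) (.node (.node (.node (.leaf 1507318693092246053582194818837373385866771173376) (.leaf 1190236864092751245159554780933361519877533763590)) (.node (.leaf 2331891064611020045891709258196601015537163746230) (.leaf 2165735104312030941504263163940205720347074260864))) (.node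 (.node (.leaf 360632192931525910074825230129961823268962112780) (.leaf 794511586408123649629325671993365017756797960575)) (.node (.leaf 3517230601511508148470481915455853239868249350689) (.leaf 0)))))) (.node (.node (.node (.node (.node (.leaf 179441466660740032649719984296426894719904718094) (.leaf 133613278054408848516896640650121238744282546608)) (.node (.leaf 1536650936735353838597378570029654574888078928262) (.leaf 1485107674768233069973620698817436849182295296390))) (.node (.node (.leaf 2625710414205596420975038683111340250096658750862) (.leaf 49084052802228101238513147286691630401807384959)) (.node (.leaf 4940538619197418180770502666662025479080279481742) (.leaf 0)))) (.node (.node (.node (.leaf 822142414996688984824244029815933249639220775946) (.leaf 1644447219977880613061247739568863507904741731605)) (.node (.leaf 5564696321824304388521943892574936799569211518903) (.leaf 7122273201751819633661943453836007751309532160))) (.node (.node (.leaf 4344463695319012659972971119442993400384369197174) (.leaf 1981985591961730834465937320646508351837004164214)) (.node (.leaf 1461501659119628994299945512160371538879024467976)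 (.leaf 0))))) (.node (.node (.node (.node (.leaf 1006637745597640870836866645246099426567925762498) (.leaf 4340846595564990382753992452140183188656855606144)) (.node (.leaf 3999214001141025472756289337514851792333977317248) (.leaf 4247221066345358097693131938571501555928834293840))) (.node (.node (.leaf 4565359590377752020809707348188367660258507678836) (.leaf 5388304920328564764481580831856126764013477590204)) (.node (.leaf 3101104878105075574115883892237167703542572342558) (.leaf 0)))) (.node (.node (.node (.leaf 3918942328437182980408940105881786266480157917689) (.leaf 3417395370446078023451604258432671362277467778130)) (.node (.leaf 4300776418056468790813483902163643440294093676968) (.leaf 954900021438630481897120353037362449451086512639))) (.node (.node (.leaf 5416061464823622633156008152149324648297121783054) (.leaf 2821089859275306997776785304313184624633504020906)) (.node (.leaf 1775177716424137359773506619265163444480515094381) (.leaf 0)))))))) (.node (.node (.node (.node (.node (.node (.node (.leaf 3030886756454139286091879714592627628780589620622) (.leaf 2337244008861180910363531639839374531012439534957)) (.node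 (.leaf 251329663022239954864963046551743638377501754241) (.leaf 5569182038303288290943188700441777945115752583897))) (.node (.node (.leaf 179343264186612913147139563018971211915247774741) (.leaf 3720428938928349215663934795987835828056960767949)) (.node (.leaf 475259502284448679597183281119921404349378340517) (.leaf 5339565552599899420565491092315102215884596450444)))) (.node (.node (.node (.leaf 175208574562353590197215121917346296020887298944) (.leaf 4036910662519313220929606084910324199878755447096)) (.node (.leaf 3517235380780327388187857032735778291062003483184) (.leaf 654895513606283633550774136212898273275398983552))) (.node (.node (.leaf 819971227959103124482957044093067762470312690577) (.leaf 1883887899528603760987874104845362323637593998342)) (.node (.leaf 1611264648961382123677308345716716045762853529990) (.leaf 0))))) (.node (.node (.node (.node (.leaf 4958099108181609148759791468465662414068917407090) (.leaf 2336307385615277305000847238877306293479384313300)) (.node (.leaf 2161356455465447577221656567550350879257909142177) (.leaf 3541235428634685979894298086003553948209997095472))) (.node (.node (.leaf 924860738071179930990628003298190725320327823472)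 (.leaf 2158970251398995495048356376497603952587387839408)) (.node (.leaf 996780922844005779256106570691497070297475124492) (.leaf 0)))) (.node (.node (.node (.leaf 4287946227528968602484296934622692875291529425840) (.leaf 872574398379247842464527265963385896965537062448)) (.node (.leaf 3719906627405178916525364745307977550934383291474) (.leaf 2416457432921011736662582421266693568634648292434))) (.node (.node (.leaf 4134365949194665835368721985261795232594849882496) (.leaf 1394066285144896429021236468873376391291642477758)) (.node (.leaf 105627480409130239363208766540780281031555613441) (.leaf 0)))))) (.node (.node (.node (.node (.node (.leaf 775551976334816144918577982972076163725745396106) (.leaf 4261678385077040872073157657769379066532103851904)) (.node (.leaf 3775615487476263513642043924148791535554387603768) (.leaf 1461713516954016559682981084453023031255508386049))) (.node (.node (.leaf 287458397288923199307857048808555626308618092742) (.leaf 1648951950601587823565327993302790281336831806786)) (.node (.leaf 1754531183829380660494017482728885487008423059504) (.leaf 212884501431678805597977869837287148790181200056))))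 (.node (.node (.node (.leaf 1210711474273681985653248773561803968766608633004) (.leaf 706238907348100713776089447639671887763855743819)) (.node (.leaf 3620355736799670179942667794770884053036181971217) (.leaf 2058059927886629980444975924897071122908744781189))) (.node (.node (.leaf 1300308579340554744571101950216580509735740029494) (.leaf 5341023507397791271033646437285672743521964433103)) (.node (.leaf 5392965886543791823169932161539527932394042515630) (.leaf 0))))) (.node (.node (.node (.node (.leaf 255334868097396779639007534905765332009046180737) (.leaf 5540044197915230158660586021493487441306487371818)) (.node (.leaf 1835205831981036461626792705517487226127745548287) (.leaf 390509226058945735452585882713558844794178333989))) (.node (.node (.leaf 540628083045324679675332530016011393493659100965) (.leaf 3898247083424621277909289124829071613482854514800)) (.node (.leaf 3073961952584293097129240125376326729384597857185) (.leaf 0)))) (.node (.node (.node (.leaf 2515428328095894598785374417575763318026639183107) (.leaf 1648907349337049893822367418101615085885989088724)) (.node (.leaf 979600922761541967324544952069615891223091962673)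 (.leaf 391569837399944538660974804902106429686736753670))) (.node (.node (.leaf 3214815886806728272943220699206851091812583697627) (.leaf 32689800363908587785807457992611424323007727698)) (.node (.leaf 1588507148165183823516558276882796521051699501466) (.leaf 0))))))) (.node (.node (.node (.node (.node (.node (.leaf 2946134909017647295401470350240604944786764529800) (.leaf 4637416798514570459953870247473313178811260625792)) (.node (.leaf 5319953440693456064552019942681032695722015968726) (.leaf 4109087983109950609796695693217149301702168628115))) (.node (.node (.leaf 2974742498087538691256899741737700836139240195590) (.leaf 5423008319476135162067144995087744927791844169734)) (.node (.leaf 1638094205563114523880602377618854155524999966647) (.leaf 2676259801533222330117524993191721332902251350675)))) (.node (.node (.node (.leaf 4966149646658913366428546168449661458001262567504) (.leaf 2701362948845442105031657326212958287765147236394)) (.node (.leaf 3156543777585559101178183878511491501104711798002) (.leaf 1723276624735006271778104730642502476543298314800))) (.node (.node (.leaf 5082655389191763212677034623548537847932462163316)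 (.leaf 4142737935128075916918540541328781270941684237380)) (.node (.leaf 1670450280124998963902229713467817820616786798389) (.leaf 0))))) (.node (.node (.node (.node (.leaf 4521448789487772117476704803552708304356425100709) (.leaf 1618064537673708108921954470374761990719327112514)) (.node (.leaf 2462122297702409236508251623621307964616263023018) (.leaf 3415725136132754988471969193927925379653093115830))) (.node (.node (.leaf 4060149856834772125079469465636568774656146563111) (.leaf 56175705599486783448064062655293393218636549434)) (.node (.leaf 1379545474716426535242369459642262460608670188982) (.leaf 0)))) (.node (.node (.node (.leaf 621648129725854601229232755228743070418055929230) (.leaf 5135858884436100478253978195571308530927885093939)) (.node (.leaf 1140502061306098203029318835612081455977396656538) (.leaf 1494974119793278565746081096416613485718299569975))) (.node (.node (.leaf 1081460022481012024037018527211075413436843303856) (.leaf 3344123224561900152321888411641063850762045223424)) (.node (.leaf 622888880075497240483293162240807554190457901056) (.leaf 0)))))) (.node (.node (.node (.node (.node (.leaf 208203774592605958928055099296860221165820065206)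 (.leaf 659151944913808753007702463982280892116991149574)) (.node (.leaf 75287592609983167681668364993621431998380769329) (.leaf 5545970388067764875272942661595748838978053762476))) (.node (.node (.leaf 3952278844012999056863988046593636974733365555248) (.leaf 1780010719573918264924896545425986265542029383558)) (.node (.leaf 3918668454638235138114626698170569541878844252721) (.leaf 0)))) (.node (.node (.node (.leaf 45671926336898377989583291323239460324811739144) (.leaf 751709212663835212458999934175789847873370643163)) (.node (.leaf 524712493865075610384013373326414147590073854434) (.leaf 5617801456228018395444391112117744424740827728896))) (.node (.node (.leaf 3692840695923118585591436663194962915158801950946) (.leaf 2536254653804700185038542155395945644487687075334)) (.node (.leaf 2779745276854959829535789166625444931270779139590) (.leaf 0))))) (.node (.node (.node (.node (.leaf 522195444959558323165977813923972751431322067368) (.leaf 932668014495417883100099277196636407153295276982)) (.node (.leaf 871841910575674614981534213995812322474295565312) (.leaf 154483023582820711563374228801089213505524076928))) (.node (.node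 (.leaf 854359238846789953764611646690248076051147951174) (.leaf 3937483183979191606513165883405621029004128097548)) (.node (.leaf 3361411997697863887581530973727797504365820675078) (.leaf 0)))) (.node (.node (.node (.leaf 3997097170721260885490663915352740047518809411479) (.leaf 654529380054446190174409645921200696377747901619)) (.node (.leaf 3393444176248204339273266874935940569131954168144) (.leaf 443422956640007850511868586629418752166374712374))) (.node (.node (.leaf 1565925296449103839323453671637690051189115388088) (.leaf 394684176366985376318241008079135988076824609200)) (.node (.leaf 3938210226316537384850551753381513730780080639027) (.leaf 0))))))))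

def hT16 : NT := .node (.node (.node (.node (.node (.node (.node (.node (.leaf 5628394223543614454103899015459617038174938164443) (.leaf 3607189064606576159520117539325149323146878143123)) (.node (.leaf 4514011722988179020995809827574070378663829559862) (.leaf 1981995729802942635191526391818624353464373013504))) (.node (.node (.leaf 3235658704713522521571208795131837306370228937088) (.leaf 3460257467872766315101723756271201406296768318834)) (.node (.leaf 4782369057023538576922282815084862240712647549024) (.leaf 4860060785403667225096668360432167788910398007686)))) (.node (.node (.node (.leaf 981705450535773443209117118913031682245165514942) (.leaf 3540585753387953329453028882758684752578788393096)) (.node (.leaf 1243465081410246656545619422232385718771404569211) (.leaf 925462856477906668874695406430800295145633418562))) (.node (.node (.leaf 2649575827112829930733921197538923021321462151803) (.leaf 2181281997422032767098118240700468645994725068695)) (.node (.leaf 3796408508049062691777152936965594768298802736128) (.leaf 0))))) (.node (.node (.node (.node (.leaf 5336962942368408547495172858502478231798628869492) (.leaf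 358865666522430252826153633503527166901605043338)) (.node (.leaf 1775165657136131357302737444848394619302954064822) (.leaf 873839375212569688227291473818217237022332019056))) (.node (.node (.leaf 4536207332847552501488238708013606364422944322553) (.leaf 50437447550672121674108380326807258798570442054)) (.node (.leaf 2273196132849995980265853774540911742098469514533) (.leaf 0)))) (.node (.node (.node (.leaf 2009899941723227618516848725117987075789732078257) (.leaf 4939410892458564978206720359763656295324701425776)) (.node (.leaf 5438538245308113580428659344524433275383773984262) (.leaf 4829377867536271424031151950502081970022299467846))) (.node (.node (.leaf 71418311246613169998103094781092548995320909832) (.leaf 1347210153826727963714351695941204065548470675253)) (.node (.leaf 1820425797958686002134290470051240553151520897659) (.leaf 0)))))) (.node (.node (.node (.node (.node (.leaf 2308385468337944154568907086588857117276279828864) (.leaf 2865667546716493250154827642730676180337299456)) (.node (.leaf 3642344447257421867350860426329204719112928362894) (.leaf 3105742563754051402580289894736798124464794528789))) (.node (.node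 (.leaf 1060845107932708557066472919617063224598039342566) (.leaf 1299973952147499998758769058745229599147524807387)) (.node (.leaf 604282251553518143296667883985933524776833295460) (.leaf 4749880355356001868599988193058078154925178653766)))) (.node (.node (.node (.leaf 4390319853251454344988796725837887557312081821704) (.leaf 109436595839852350701652642245383585969576899644)) (.node (.leaf 3495265282343417462123262387509982408043227077918) (.leaf 1879636836342584749833307098820912634465152769920))) (.node (.node (.leaf 750337817342267887185715913109072687839737782320) (.leaf 4134314046406543489804740433311236596001441630290)) (.node (.leaf 5805047036227373616300149416392729160485306325046) (.leaf 0))))) (.node (.node (.node (.node (.leaf 4541073376696578399499483530726535388582320213197) (.leaf 1567464020657470005865538423991627111138521514423)) (.node (.leaf 5620870810318720678428226882219557872881763454278) (.leaf 5235030783180568998150441725023098746906179534862))) (.node (.node (.leaf 5236964026799419218554144059649141077116726974342) (.leaf 1830300912807919293074956100794549037530396950657)) (.node (.leaf 2017346076218032669626964066573511747185993782278)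 (.leaf 0)))) (.node (.node (.node (.leaf 4433126133662858164565036748668298376498066493440) (.leaf 4325329741073093748486307520491787828877340404908)) (.node (.leaf 2991606116486806610974901686955577696076068561456) (.leaf 5569854641768361925589384212798966903195449188753))) (.node (.node (.leaf 3235763226491108803410080467537792607573548024593) (.leaf 1693362902669225804772091819681311871138823133750)) (.node (.leaf 2466172365622182783275212883744974965434892085490) (.leaf 0))))))) (.node (.node (.node (.node (.node (.node (.leaf 4543774907823975963212975410529683081653129852970) (.leaf 4514022643578647235948020746365250996490463899099)) (.node (.leaf 3103701608288033218715693724496132968501356046434) (.leaf 5784835457285114537980073906059819081071387216954))) (.node (.node (.leaf 5802921282214489846955271536809329440984358939941) (.leaf 5760477366031408056722804626460887076249394079110)) (.node (.leaf 5131341567003750225527445784008569076760670808502) (.leaf 3773483516039403814150009028540058983469262141830)))) (.node (.node (.node (.leaf 2255616261649258625644304600853417419564367594836) (.leaf 108242012299840441749818752384892777817459055542))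 (.node (.leaf 4103373417116744532872259462415163826129125025890) (.leaf 2928918548091372209440835183563821366503915323656))) (.node (.node (.leaf 5445951867822422362929829130047554192740278111302) (.leaf 657589003963806941920293000328873796424778191112)) (.node (.leaf 389283900645918795172403149653659455130016448576) (.leaf 0))))) (.node (.node (.node (.node (.leaf 1537679652363346646185966097951030420204810791302) (.leaf 5365021286901254418454491835356239770463188972732)) (.node (.leaf 872576900371782821783929866895610457933924318831) (.leaf 5211168807744042125130389283413877034592145468642))) (.node (.node (.leaf 722332554067957060122366004342342253732072091447) (.leaf 5765299805532381302544766556562194727297706388562)) (.node (.leaf 2251608830744036863897000376564451113776454569349) (.leaf 0)))) (.node (.node (.node (.leaf 3621760688775343087293657537406137178820727016837) (.leaf 110777489186380984848382461719101264580513864198)) (.node (.leaf 1057372168574736281600174032066861427906714992945) (.leaf 338154435225695749087986984911842565685453084954))) (.node (.node (.leaf 1780014009860097789574430281502846844754269244621)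 (.leaf 3856300456561456462115659267898198726351461898522)) (.node (.leaf 5577570751082870035328119087756296250827044487503) (.leaf 0)))))) (.node (.node (.node (.node (.node (.leaf 4216546235916943131515414853300202186621923388844) (.leaf 4179347747310781411308464778631945845024817897745)) (.node (.leaf 2923003285561496191313523641837763437677985137153) (.leaf 1837035751354902631437546038600952112598606114074))) (.node (.node (.leaf 5389909142595639516899645850067364496717620051840) (.leaf 1756642648891624155082669642047803101484841462866)) (.node (.leaf 570943857263766970836600858795028246065297260608) (.leaf 0)))) (.node (.node (.node (.leaf 3975159408481350039577710396118703790263104627072) (.leaf 2991650544098215520755282348547148713823381250560)) (.node (.leaf 2079077376512875102752995769987789441076198244993) (.leaf 5283145188026264384158455799977013368758197868125))) (.node (.node (.leaf 819618234769714201467558186364315176389599546416) (.leaf 2466699890178121467190041072274173125090247793078)) (.node (.leaf 3420444101723770432513067872484353102481247991814) (.leaf 0))))) (.node (.node (.node (.node (.leaf 2116242851928994105458073913377500029429654487425)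 (.leaf 4186952280921476051385767501554397616882298678379)) (.node (.leaf 1370961406070752542643835784785111145442518272066) (.leaf 315161887997766563145591061101975378988079178996))) (.node (.node (.leaf 4102643333929467996810044629213676840661420693942) (.leaf 925461939146994257568284152149658270838819490182)) (.node (.leaf 5175621210702052433716736837194138870928419261619) (.leaf 0)))) (.node (.node (.node (.leaf 5582097790768236513080872056318748293650926824916) (.leaf 3113410367520356717322119328713119271343658315824)) (.node (.leaf 4782345503214837774857487562563171009695329509606) (.leaf 1771497638597991910974735704800903315581833109040))) (.node (.node (.leaf 3175121520490073958936958434000021057714055367606) (.leaf 5497778394643512956611513802108109110662095962161)) (.node (.leaf 2391078975101129748438234048752473454212201778546) (.leaf 0)))))))) (.node (.node (.node (.node (.node (.node (.node (.leaf 5829816151737700796344263460916246196702185745690) (.leaf 3852738664784831596590694819191871100265253040640)) (.node (.leaf 1648910373301206519973865723681301825558587615714) (.leaf 4645731929957829786661099489653506636667002577376)))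 (.node (.node (.leaf 5385440515749395591015200915552840347078657105920) (.leaf 3337246011056577352062442367681099541697236069844)) (.node (.leaf 5730396697551867634884847988625602443417613663422) (.leaf 4077878869457137454647416766735348401875427983695)))) (.node (.node (.node (.leaf 3399312273096227874798723064932552952074166101557) (.leaf 4085639542837109646788608742302401754213453422609)) (.node (.leaf 3714714373002647946113173392312251295671283491489) (.leaf 5462767470038192035501607779004518481378170069265))) (.node (.node (.leaf 2467259193994806578984842838842501015907103931904) (.leaf 318362872507626146036513617536993138236928229119)) (.node (.leaf 3698944007573605343408506461169495294136510775679) (.leaf 0))))) (.node (.node (.node (.node (.leaf 367541419658323224016503981033894386401846239792) (.leaf 2678594802833194233863192348453542832071983853367)) (.node (.leaf 2001650277153362328029947826396852593983361066550) (.leaf 2272782434817524828781458894343299550287007797656))) (.node (.node (.leaf 434642396936456762521237169046805030715042857024) (.leaf 309939070903380007428681547188633522540164842692)) (.node (.leaf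 3177261337656448475573383001652859861928938004697) (.leaf 0)))) (.node (.node (.node (.leaf 3470984141549926881603183432268467307096490929562) (.leaf 3256537154503866621081007592402074348813434083165)) (.node (.leaf 2412743172752855624955090425684134097542955872304) (.leaf 5217930582452723190119351175934832286234650766214))) (.node (.node (.leaf 4180482151304170944081329144301111924165569732144) (.leaf 5437869677041917136155854000215227968673199619839)) (.node (.leaf 494332063277386355684871660837454307249149322160) (.leaf 0)))))) (.node (.node (.node (.node (.node (.leaf 1716724172599336190264318131142489791800617995276) (.leaf 3078263822088689686003463817931874710588947405318)) (.node (.leaf 4822174732482117309168921284485872074590257441876) (.leaf 4438662043250474464004253701741850230330005948482))) (.node (.node (.leaf 5318235772297156984575476441702647540220853248470) (.leaf 844978551964273839857450596892157322139686407180)) (.node (.leaf 1471882653426588981367594012652050451302923046260) (.leaf 0)))) (.node (.node (.node (.leaf 5786112007521868647563121995707365707389364545078) (.leaf 3081917133699767020588623366714787430572141430100))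 (.node (.leaf 1956735794015356860530651891640169680902497971760) (.leaf 4575681991598426488825803869174127254970071199280))) (.node (.node (.leaf 4059812352186630481662101707565245979564985145181) (.leaf 3394648435948863519940531355228689247486289313928)) (.node (.leaf 79099826870467984429507124051325649426175320960) (.leaf 0))))) (.node (.node (.node (.node (.leaf 370342844386941973948904791395971558047793026054) (.leaf 5203110318563847537678055837790553526541954335280)) (.node (.leaf 5342432249475756822814052922177765175711390458073) (.leaf 1495588195026005083197469609116186306190808257926))) (.node (.node (.leaf 105627893426832320464791126309710185499315536768) (.leaf 111202492544783213453542200267324610352264674494)) (.node (.leaf 722847082785146330185374234587352639701678948993) (.leaf 0)))) (.node (.node (.node (.leaf 722334792360259728247403207270896904865793601408) (.leaf 4886426251329375104480663731577658460492961602267)) (.node (.leaf 5277536110101133957392471489432562387874333068339) (.leaf 2701371276756915724621222902824492946276943162396))) (.node (.node (.leaf 1176189431885035207390719009834759299649664937472)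 (.leaf 2079089702125398253326172417628075134513004609793)) (.node (.leaf 3289923725511561448287929560003101309330180238611) (.leaf 0))))))) (.node (.node (.node (.node (.node (.node (.leaf 1819084988383625546980274902314945781115273022723) (.leaf 1513747592072864531374910640985671888112981673990)) (.node (.leaf 4899090242286431469183267093012036640427213851762) (.leaf 4822751046175823725702903240151731015126690046497))) (.node (.node (.leaf 3721836629944950816700553238206879210366410972190) (.leaf 3294138037962201634611720394051111403818836681072)) (.node (.leaf 5204523138112455824831378225044106848266240068850) (.leaf 2720546381202685282063851420574073210897136578487)))) (.node (.node (.node (.leaf 4760456317416798342131721166527454425133088406912) (.leaf 2462084844432055659269321552551150194163218934866)) (.node (.leaf 2516306659271672914065325220812994880383758506374) (.leaf 3471074054553687434270866382748773733158294127104))) (.node (.node (.leaf 1773657519882767227340678638076667873327827329953) (.leaf 3441622754131408200868100195419782925825856694514)) (.node (.leaf 1321971013746274062560351588624173675388826512677)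 (.leaf 0))))) (.node (.node (.node (.node (.leaf 956478123907554455629326830034884710344965579648) (.leaf 1673438370958176351197180013897115284343711334905)) (.node (.leaf 1194547569051892624764242089610596425705915499281) (.leaf 5260851759902161218710120350746578815221796941286))) (.node (.node (.leaf 4988503560686557653152845725205299494300891527734) (.leaf 4760758212734321964338970589878048266720784179617)) (.node (.leaf 2597414386837503976260563949351677549802309632944) (.leaf 0)))) (.node (.node (.node (.leaf 133760453953434048075015431081410409891143380075) (.leaf 4956738756960887988011484623946266965523813067995)) (.node (.leaf 4614889855735798687944547479287876608213991517459) (.leaf 1817167149710424140075442572517828080219400987048))) (.node (.node (.leaf 677688378478977988690351731698385093758848926465) (.leaf 4578342545564299562878511695803875214333902615612)) (.node (.leaf 1237370575213531735707221817743614302508353772251) (.leaf 0)))))) (.node (.node (.node (.node (.node (.leaf 4186943194495209418496209242935094078681780107830) (.leaf 5204520948364561676064698622799770564406341920116)) (.node (.leaf 4801189564652806254828161067007885216284026039573)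 (.leaf 365509476567163589769214840713561126532966023232))) (.node (.node (.leaf 397126750404923444848138831654457093883312268404) (.leaf 4802036995522453472593225966830649875049970404420)) (.node (.leaf 5135612167897648197309512042420250515217220349414) (.leaf 0)))) (.node (.node (.node (.leaf 2994829992474647650321445633138010111470165099392) (.leaf 1983292052329369992224623001591360190567337497990)) (.node (.leaf 309937725120311000394635908727370666744368794946) (.leaf 388346049605230887257916798557396514680925847616))) (.node (.node (.leaf 316940187461382036141570898815698788078379032937) (.leaf 3444821740176231470493520675878172841929440158080)) (.node (.leaf 2081997858952742930903616210740940572085127748608) (.leaf 0))))) (.node (.node (.node (.node (.leaf 4180522932833518901206517780512881341696932773631) (.leaf 4623031235528554791171816970172519757437594827387)) (.node (.leaf 5562160912663093584134022629007265635354995614113) (.leaf 4000573262711402537575982511769000091538536492544))) (.node (.node (.leaf 1510752921753422905446284992334586879581355797532) (.leaf 3112455044232596545463937896176149899519799157553))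 (.node (.leaf 3000771834967212312084528710157088090582832865616) (.leaf 0)))) (.node (.node (.node (.leaf 1568190910941888720815383482253121089019439022976) (.leaf 848848054491194941943353331946873761421751822262)) (.node (.leaf 3029473034736510704071233118374952561229607955693) (.leaf 5131487943248527477354995232783947761714790686816))) (.node (.node (.leaf 656870948005754613588208895284229740883861766328) (.leaf 4107182210445357407381886550613207885459827155280)) (.node (.leaf 4986639426999279746524257438993648010027178977286) (.leaf 0))))))))

def hT17 : NT := .node (.node (.node (.node (.node (.node (.node (.node (.leaf 337189152141866028176774307827886611311395865087) (.leaf 3000784757283968318666089055415836356037059977440)) (.node (.leaf 2139422104898397709585293443663564826780003343744) (.leaf 5725888636788474324692014487142161820820325472650))) (.node (.node (.leaf 3397859806411058050646072543799275300265304209834) (.leaf 4751481136759969918688983973174981888241217593745)) (.node (.leaf 794823799159162120171264903292707254931144245438) (.leaf 3295165788677200460733318958496711322413721190913)))) (.node (.node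 (.node (.leaf 5548581724930854698534448777947027260841399200816) (.leaf 3959445816895344228680962076304427780569863019062)) (.node (.leaf 2456531948691517645942698138670147745514672816263) (.leaf 2258918826542290741136476101446211862145185873408))) (.node (.node (.leaf 1186082855440720430949210598928650494651468623408) (.leaf 875334191645508387408879264652848080920663546422)) (.node (.leaf 1220784603680028160708355799644605663395059956102) (.leaf 0))))) (.node (.node (.node (.node (.leaf 4982384505283840888155233780528184062762754703624) (.leaf 4958144552167313282801287421772711426428367443846)) (.node (.leaf 2191581413678688866974762004834032787178579783607) (.leaf 3584353101143074782568370403114883792892455692963))) (.node (.node (.leaf 1594792035130595415238990785597730048285567904262) (.leaf 4752752251419198178301969225787252052513949486146)) (.node (.leaf 2456474851776251543943109689302834242720103897037) (.leaf 0)))) (.node (.node (.node (.leaf 2885369057071767913177279514175678632326880086098) (.leaf 3796398494772320421290482327973468963751063715958)) (.node (.leaf 1653571877087991058375973564349279425441831936)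 (.leaf 1467261000786555421626863939422619800684737904720))) (.node (.node (.leaf 255367512540649059229456378262899913395560276454) (.leaf 24441797427526905061843380028195699682541833228)) (.node (.leaf 188448451380648980324563367054920548723849440816) (.leaf 0)))))) (.node (.node (.node (.node (.node (.leaf 1116838748956576174809500941362187850883893568033) (.leaf 2436996805602145840154438095567260930299149664239)) (.node (.leaf 388569059949572473176302000807273167135298289728) (.leaf 2003256979596402011988126755444333142434683627446))) (.node (.node (.leaf 3873772396953918972868569028291536323047655747120) (.leaf 4591973266631255712774920914341127274512810025056)) (.node (.leaf 1510396111255234409553436647833260829422554210728) (.leaf 3998244082498521351566818742955750059104762817773)))) (.node (.node (.node (.leaf 4958522798946946389431647248375172442199487704148) (.leaf 3877099294584273004192491984530989446119520197174)) (.node (.leaf 1674687217509124047313151317863047827970776566963) (.leaf 3855986765197424668486756733494559810864152184453))) (.node (.node (.leaf 6787107405570194337094253608562622714654753280) (.leaf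 3420599989545046137009175342592076933047035378736)) (.node (.leaf 1793684655008204751415242256181739180656711060406) (.leaf 0))))) (.node (.node (.node (.node (.leaf 699699318966362974473385054604160352007770949558) (.leaf 3698488141827935924809103928904267809073231676756)) (.node (.leaf 2081943022275542986524314595084967151818072736529) (.leaf 4269387222898315637514331706853227632785834901503))) (.node (.node (.leaf 1773011016056376659578686424418312126831817271971) (.leaf 46833659886864679786157633398177967925623853440)) (.node (.leaf 823748242535438657604302315916059973937954560010) (.leaf 0)))) (.node (.node (.node (.leaf 154477752346111356579947686231432308515136274568) (.leaf 2472503757304766207652599685373980275112408458806)) (.node (.leaf 2388735836323060908202582798107169259650552723462) (.leaf 792794435748437054937226913099666248581514726605))) (.node (.node (.leaf 4085715059568214957807476622945142083333990046427) (.leaf 2972702674253790846306457748855207107598251593864)) (.node (.leaf 5595883522429450266674396799330915084487585111438) (.leaf 0))))))) (.node (.node (.node (.node (.node (.node (.leaf 1797433424423048869330907848185626207520900058887)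 (.leaf 105828208893967726154141677535266088251081950080)) (.node (.leaf 4567210736016871686064429050415214368424152007168) (.leaf 4430266161092463416333628628858391108746226176008))) (.node (.node (.leaf 3460302972507081524973204246874375623366660920710) (.leaf 3934858617650027975714842398762632278482233001478)) (.node (.leaf 1860148605997628557624953790515180432600186797679) (.leaf 3984450208710909662332403317025018563131049974154)))) (.node (.node (.node (.leaf 1670437910608061482775742237751987156509125143430) (.leaf 2470502495824244294991451114267781197541220023808)) (.node (.leaf 1954184646376742887311482081201170751239066110902) (.leaf 4117103358842966956800725738938836770646542911109))) (.node (.node (.leaf 228851905275836788048052815987972848392091009793) (.leaf 3877106037206366928090993023430003329639029960155)) (.node (.leaf 2660315493381591687814878008956008859888478522610) (.leaf 0))))) (.node (.node (.node (.node (.leaf 3471066403644972300188244710396128704290540749313) (.leaf 4107182358294681875203058636879758568566265389280)) (.node (.leaf 2979466899703080078791661406392830794206400129250) (.leaf 558655100993013884005565615497056532691844537742)))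 (.node (.node (.leaf 3931453120618359107611905860414591090281221196868) (.leaf 522205053829150871077348168834581706741495320984)) (.node (.leaf 3441613898744502278771108274928311978578448420212) (.leaf 0)))) (.node (.node (.node (.leaf 5545048035581111040992153952470550513245697621040) (.leaf 3133292477587005727036463893680808760901952842210)) (.node (.leaf 2455082680506362121529544952083750037661863276928) (.leaf 1882616012045528365012135091526037916120019912246))) (.node (.node (.leaf 2392439358478372678823694172414134282391225593058) (.leaf 106075392189236295502025729722456558553128753718)) (.node (.leaf 2336301229481699054699513103503450769463202785762) (.leaf 0)))))) (.node (.node (.node (.node (.node (.leaf 133769540331160169264007193102764602190498944605) (.leaf 4323803087855878362241435942622341436366207528496)) (.node (.leaf 700054739815555618501060365039246620416332860294) (.leaf 851293801099736668886305387292322598175177112315))) (.node (.node (.leaf 5044713719951433371233099947243541864976064349380) (.leaf 2518756026289872924024748051448327426538745277872)) (.node (.leaf 153295832217534771199657860202349484195689557099)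 (.leaf 0)))) (.node (.node (.node (.leaf 3298970679117978937826510970654790193388268575774) (.leaf 3481300180829426287968718411171021207961153051662)) (.node (.leaf 5312370686943733484872258376276431695056098495858) (.leaf 2232028844749239793451367319303332852676224639455))) (.node (.node (.leaf 1492912422396939174339210308674597280136715305072) (.leaf 1213216472767693604539240517393236621180994705245)) (.node (.leaf 1213220145754689764814975490393263342894262959030) (.leaf 0))))) (.node (.node (.node (.node (.leaf 520121471772044110602279200031765108016549658760) (.leaf 571658697959946814814675234656643368118561046528)) (.node (.leaf 1795847433633660200801339943678427329110272077037) (.leaf 4119501080917895597953695163903736535869634431058))) (.node (.node (.leaf 412633782448849697777167749815850858786705188645) (.leaf 3109919553987829249167969230388744902306100647885)) (.node (.leaf 315161071766730249330927042690162132465622313350) (.leaf 0)))) (.node (.node (.node (.leaf 499957349867814822735266030390040638180382852534) (.leaf 4408361343705710682923362882572434982993606148479)) (.node (.leaf 1641111685665580323800708758139308956004185898368)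 (.leaf 4936088072427812185827086897759621349225334047112))) (.node (.node (.leaf 2621347787336664182924823554624092918941169574705) (.leaf 656058484646806308682444932755449372948435469508)) (.node (.leaf 2461081313472588694688279593508093022345819611232) (.leaf 0)))))))) (.node (.node (.node (.node (.node (.node (.node (.leaf 2412978491326137513285774540976308742719627070916) (.leaf 3095591410857038837037693901060895790749831008392)) (.node (.leaf 722881422795689215782292399058680440287890468180) (.leaf 3481001887466154562518644132003862604674273870854))) (.node (.node (.leaf 134871380034871317410219080898639828481190519152) (.leaf 4924156433130891452533101131400864628333454495090)) (.node (.leaf 3438558671483775146818402618075430235901608291565) (.leaf 5211324916618524055719878589143291862973803162645)))) (.node (.node (.node (.leaf 1851120724229901018147332154088443759885071549057) (.leaf 5209507587484169806686320519244872908598272071686)) (.node (.leaf 4301490040486790405775008044581461623260175142002) (.leaf 5780698273892116373349848926728744214166538386816))) (.node (.node (.leaf 3711537387934216370827786018390149061731678093055)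 (.leaf 4796216516196392223575206214744080249100703305026)) (.node (.leaf 5256209720412082841953641566565304322328634838486) (.leaf 0))))) (.node (.node (.node (.node (.leaf 5521515110008677008634192972916966371814984759149) (.leaf 5201267252793964716973001827438827426640951271841)) (.node (.leaf 1057375469140521280840841426597289218404047282865) (.leaf 657606868769129590855789388291593036453513199934))) (.node (.node (.leaf 2492904666416171249136000674959429125093792443499) (.leaf 2167579264858947584518861652125239335022987316683)) (.node (.leaf 4341798658444733377284999631424082456683407337862) (.leaf 0)))) (.node (.node (.node (.leaf 4572777417679807728396558045172798084588851051952) (.leaf 3918672318863241966106798514291177395122038923776)) (.node (.leaf 4216556064623211519527501431369470208549778568246) (.leaf 4261566663327585025986820047115499064196292690480))) (.node (.node (.leaf 1797344134327805259482496264357253277948259456861) (.leaf 2433584306728868741178509359691786162312344440130)) (.node (.leaf 769681000269467560564675665007048476790166244694) (.leaf 0)))))) (.node (.node (.node (.node (.node (.leaf 179352176521747440151282904922528743052112833059)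 (.leaf 2410691290983709144101369272902605346022133836258)) (.node (.leaf 4076474389171591202711657138620541904983662311990) (.leaf 5785180264692557150413693465459643288991934452748))) (.node (.node (.leaf 823789621041397254900561918986937211271249954822) (.leaf 848447513244300279307558149156308914671574978432)) (.node (.leaf 4392995680665981257400091038261490519838970932224) (.leaf 0)))) (.node (.node (.node (.leaf 2970736983462004872659848234244158969293575790640) (.leaf 1342533835637995777514175713596542031031401642747)) (.node (.leaf 4408362486724633588450978442887761331342820638592) (.leaf 3961502611420861069571290194177327439656869785399))) (.node (.node (.leaf 830103788093589079652506341934960092333241797757) (.leaf 947942307140558616755776845911312984714628006918)) (.node (.leaf 3748061614717869819354980048302042401874760033670) (.leaf 0))))) (.node (.node (.node (.node (.leaf 2877734362146671037964510670588425145689109761799) (.leaf 2260134078946332438379334758779172769744305136289)) (.node (.leaf 2081932653613942289753813136522570807881811239856) (.leaf 3880929539272997543184074181620910202581191999952))) (.node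 (.node (.leaf 1673433266135979987220710090522740129467153511417) (.leaf 3033576345382842464736089079804780035459384831213)) (.node (.leaf 2676282145837726073980057734753310111713773731823) (.leaf 0)))) (.node (.node (.node (.leaf 3931454926728326989500821163587783610425055938626) (.leaf 4616227872367364620208756758838331887445267382401)) (.node (.leaf 2877548550994343772106935535583727752031244348635) (.leaf 3926792200274950167616018256775905086110659182832))) (.node (.node (.leaf 5786374192625496793021881142022578435282865450131) (.leaf 5805769993766469150415154524513091144007005190570)) (.node (.leaf 2882655393208896836118832189982784025711678521679) (.leaf 0))))))) (.node (.node (.node (.node (.node (.node (.leaf 655345973156589950202201576117357235119025071158) (.leaf 1341070262087963331639034436525524978013221354235)) (.node (.leaf 4084091678380808871539640379907889495973545537408) (.leaf 313349762861410868703097608157061528162059116817))) (.node (.node (.leaf 1611253821024516078961632063635678977414188098932) (.leaf 5784822058994031728116473341885973752666336293948)) (.node (.leaf 3421047488233524051172758613533297731918707775542)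 (.leaf 4298747080953891551145243946292880999823954349324)))) (.node (.node (.node (.leaf 3540183153072777703683860446591763119671073708422) (.leaf 768118876253803484683155402489492726637371273264)) (.node (.leaf 1532864305099739465291368515114637908143851442176) (.leaf 815640422208352538801909238914935393310031785008))) (.node (.node (.leaf 3598679502641525802548496335641455269970898611610) (.leaf 155592795615907548975683085203405009762077663278)) (.node (.leaf 869372344057052594152571226342969316295573537798) (.leaf 0))))) (.node (.node (.node (.node (.leaf 3715567869336582203287914570881570999075553190966) (.leaf 3025971391205990537339873293151962970232919757184)) (.node (.leaf 1002378420067107243879101795105744607636538220774) (.leaf 4142729842984092866394764479375793887620040494146))) (.node (.node (.leaf 714320745972260706974305033500999730944049216) (.leaf 214864229934226217737909199290400697346889138224)) (.node (.leaf 2703582090766756724793029018519546661443150499735) (.leaf 0)))) (.node (.node (.node (.leaf 3289920365948655821094335299009929062913355425445) (.leaf 1956746702355826344345588736717919475071654846887))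 (.node (.leaf 4236282551360002958525239635733795484591514386750) (.leaf 70452540941565752253049655778370378941673037936))) (.node (.node (.leaf 2255919223386596433997805044964868497056582476720) (.leaf 5388304966208401415608992246228675976068569697594)) (.node (.leaf 207423546235244719792340124619886421369802236000) (.leaf 0)))))) (.node (.node (.node (.node (.node (.leaf 132020991225105526064195930945162845694145883164) (.leaf 2992921963120452718397474654573790811072213483662)) (.node (.leaf 1849769458913956839902353717667901433644164222336) (.leaf 1816732716093814951666591997187564982040124286773))) (.node (.node (.leaf 2436706329691875893959656802468412983964552236358) (.leaf 2865740753286570659851712389648476564684789324166)) (.node (.leaf 4856830222975445995492190496180439658739116240237) (.leaf 0)))) (.node (.node (.node (.leaf 5763147912085349168831984423827374031172752827636) (.leaf 4259920755948389900975344464251790454589603107760)) (.node (.leaf 2167572535028907739119238892057843029045821020678) (.leaf 571659570124671975381869546132668924750991720512))) (.node (.node (.leaf 5284121712960577372925093185918922486594384776118)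 (.leaf 4087516828202387090445260338099014292128910179712)) (.node (.leaf 4316131110066910890242780189442961208592489980833) (.leaf 0))))) (.node (.node (.node (.node (.leaf 2676528300370238570251262590447698026104442260802) (.leaf 2854629483625043702877936349945095384876472605710)) (.node (.leaf 4782351811175439365486345188265817915343939092528) (.leaf 4613668189289653154338116845751799477742484787592))) (.node (.node (.leaf 4613128094164037241632647207846940780969606709488) (.leaf 1775174736837669677646750395257948374718177045723)) (.node (.leaf 1461512787714136007484020497942466782521374806016) (.leaf 0)))) (.node (.node (.node (.leaf 2624213433126347780355645740203092438664644584692) (.leaf 2361395874292263652802157926173624963036202404932)) (.node (.leaf 2014519642233975295089503189838546541275996493830) (.leaf 704892761206446330425812722827669018315233148911))) (.node (.node (.leaf 624497673239708562691593870965869281407652610608) (.leaf 45672013279042801770807652250481761797692985344)) (.node (.leaf 765566989553953898653644540434266310716678638976) (.leaf 0))))))))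

def hT18 : NT := .node (.node (.node (.node (.node (.node (.node (.node (.leaf 1512440401744352781083916339534981904071004651392) (.leaf 3001941115611391595655511467891140618689392077190)) (.node (.leaf 1030528769438403564594051964326103880465314175386) (.leaf 2388726058396968369793720321363868196693165765692))) (.node (.node (.leaf 2933679014468622041857171069361383999981090325424) (.leaf 1394957093697990101186815422893631414229389236278)) (.node (.leaf 5720519732214528439894935510806839041732929064074) (.leaf 4056064781594945430125016101192945766013070161324)))) (.node (.node (.node (.leaf 1492917834255844206418911303450769126968889761904) (.leaf 3974738929058073233112272505266017502555903033649)) (.node (.leaf 5595902824946588917265579771399357164046201330688) (.leaf 1469797056336456328321602095068040031508509270064))) (.node (.node (.leaf 954725443444356064356961226254062639352024226074) (.leaf 2821403289301649258755573740143236075038646190063)) (.node (.leaf 3278122533913686105133627805588634176516008122762) (.leaf 0))))) (.node (.node (.node (.node (.leaf 3752860105859197387999635011480306169662808375728) (.leaf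 5622568890087037805037122898328581356378128239958)) (.node (.leaf 4440684929791448266054435468387458571986788625968) (.leaf 5069402486636520279895300510966107336930556404182))) (.node (.node (.leaf 185642643269221260175852209686756635844044533928) (.leaf 3850724116036688779880255956330202744996228959604)) (.node (.leaf 3607889720702123146872145143677935737624290684372) (.leaf 0)))) (.node (.node (.node (.leaf 5278829537257646023624732679532401226939313450005) (.leaf 1012502974579864216261112590544611094104170258712)) (.node (.leaf 3960654224864336032593742431073073526632983241633) (.leaf 2456519627481397617409157459681639946416617230087))) (.node (.node (.leaf 5081734009765214149427016997679455321619933827456) (.leaf 2001405273246210151475382312398104372477792875008)) (.node (.leaf 5114629474984756649769515804686096151726548932890) (.leaf 0)))))) (.node (.node (.node (.node (.node (.leaf 2972708177279028219131186403185872253210103976320) (.leaf 1003486284325273549579893122955742060893075710048)) (.node (.leaf 1905697327708637575201545042477482398913377647158) (.leaf 1957865419729370758749326665996287966981921651114)))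 (.node (.node (.leaf 4078990034653079323318729519041293385217203820125) (.leaf 178384329157638057215675221147383882997630173374)) (.node (.leaf 1239568558424119700520552395594789019775965618662) (.leaf 3597312796233254052208301285380883160734881166508)))) (.node (.node (.node (.leaf 393444062866226643017747276049899677420132228656) (.leaf 3213334137621713943506239965125083751967179425334)) (.node (.leaf 4179191316317573877615864729944963811377928706566) (.leaf 2862577869873582515776651140621753384008840731934))) (.node (.node (.leaf 1293343444008884170673007964108152341756825012674) (.leaf 4102722098836678464478707691689168917939051850773)) (.node (.leaf 3441844803343414683445506610586658605501775377468) (.leaf 0))))) (.node (.node (.node (.node (.leaf 1507229424769277529242628278195946400131431006216) (.leaf 135988595148013262320362871371906534070754463190)) (.node (.leaf 3855429725661679583722703707915604152346663639771) (.leaf 2933684558537275664253598477458057726563489292961))) (.node (.node (.leaf 2354048877111497933324910285195484077572142274698) (.leaf 1077966505380683732993834772277795237490964443304)) (.node (.leaf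 4875852956815051871937440431948121814070703164530) (.leaf 0)))) (.node (.node (.node (.leaf 1792836440860374241096511234458476158343145577014) (.leaf 3078267122405285974408329746094022952740071149003)) (.node (.leaf 2832977855235271320101205903684056874355662943420) (.leaf 4806172670655162842333680304427699770169315411382))) (.node (.node (.leaf 1770803809261258720094394791588327761893261508737) (.leaf 155063453594357810796736325456675482809428753840)) (.node (.leaf 1932215736487284194727901224283431404470424857707) (.leaf 0))))))) (.node (.node (.node (.node (.node (.node (.leaf 5423072049594132551088873146340673577693253992846) (.leaf 417455896376665117235513144194210731555121897344)) (.node (.leaf 10881017925596200970134230071988521903476728320) (.leaf 2437888367303961024519028198784705846610385112306))) (.node (.node (.leaf 2455082406017100951545740965049979369852416229560) (.leaf 2717897487670425191476426288826243922849925799808)) (.node (.leaf 4700002171409430862411387398300660427964827478242) (.leaf 1651021234660919943887158918101620511858360631376)))) (.node (.node (.node (.leaf 1321983263557747608264005522942530511049286109843)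 (.leaf 3422148236539659368595234926204249501164780322559)) (.node (.leaf 2139838806326941040561886161094334032669247042620) (.leaf 1002438089348062050645325316569423452177787494448))) (.node (.node (.leaf 4158763977973206441676687231242503523113985638905) (.leaf 3097535171440130809992526258116915371195441897952)) (.node (.leaf 2227213495053331463878532192452844038449899379078) (.leaf 0))))) (.node (.node (.node (.node (.leaf 4142247754248393344994855575500743069992274451742) (.leaf 45672013449018156250047942325818638864243228680)) (.node (.leaf 3470999238675382294249693965285043604716851246508) (.leaf 4775940170281850935743058262678879758245979537488))) (.node (.node (.leaf 133613130222608382593279598248277267180969173216) (.leaf 2234526558100524484154824699806262211040793857138)) (.node (.leaf 1776473891452536761838937237302968741520071781376) (.leaf 0)))) (.node (.node (.node (.leaf 3777070499308739874454483565944399109366144756102) (.leaf 5540060699594287265608370891367747577810134789148)) (.node (.leaf 1882715653315867207303343138155581062123314225697) (.leaf 4983428745299781541478210330607931515339345003588))) (.node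 (.node (.leaf 5340438396980318520044588302036457437167300435504) (.leaf 1163589634377099886607093341068861094961202793738)) (.node (.leaf 5520056995711822103075543463382508071922017725780) (.leaf 0)))))) (.node (.node (.node (.node (.node (.leaf 183804137488120958096096864785576908329813540928) (.leaf 2311853866995360101820153029188569979308055503926)) (.node (.leaf 3318084946891605467855164722801417344617947349552) (.leaf 5178471693180753670258406991900885242857609609648))) (.node (.node (.leaf 2540472961165226864321502750129254027251566778378) (.leaf 1903425352095507753210780872373170794561118432277)) (.node (.leaf 679818587091951489190842685484614085652395548952) (.leaf 0)))) (.node (.node (.node (.leaf 956461101909855089431172000301495077725344563505) (.leaf 2538216883576123364546624276394314577768171490390)) (.node (.leaf 4622926703774889546700144961255630546963096317360) (.leaf 4640059066159055985735755998102393608415254192176))) (.node (.node (.leaf 1510742489893337702674648191683643125523971331126) (.leaf 5520324607142563607823395889092743829591959014525)) (.node (.leaf 3771358876310487057871733749780961908489250280588)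 (.leaf 0))))) (.node (.node (.node (.node (.leaf 4514773874017320951418307240633244596462154144310) (.leaf 4057835556602128365185158599055756121909154433683)) (.node (.leaf 5755084846254566067446020945880673608182804994102) (.leaf 5760466595924369726968592303471891480183754909938))) (.node (.node (.leaf 4031039773543353828046859277468483461920036368552) (.leaf 4300766809160379952033010317899440063098302705712)) (.node (.leaf 3477495290346402601674479593435999732754956681729) (.leaf 0)))) (.node (.node (.node (.leaf 2497944644074459947421734541497421752757179122169) (.leaf 1648114995922922593431458704165817207254302069766)) (.node (.leaf 4259207827587230356852127314855741603883197196294) (.leaf 5596278498123836468918320453808258230812518234038))) (.node (.node (.leaf 3319137863525933709076196465363220625594997214589) (.leaf 722756985022860635175764717587200812210595462528)) (.node (.leaf 954726626928237652373305240160772969867394561462) (.leaf 0)))))))) (.node (.node (.node (.node (.node (.node (.node (.leaf 183178585695403159599449898643103535886794686976) (.leaf 1109242296259369997036568227853981412593631216080)) (.node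 (.leaf 2540516876662673348881093642687715813340721406225) (.leaf 3443727650568077707981572402223437655536335198598))) (.node (.node (.leaf 2780629306129085171837035853091785222760734944668) (.leaf 2928712276332299261689936727662035350121773269504)) (.node (.leaf 4962078787319196774582638052641666352170771981412) (.leaf 3712542097453419876383232339830349651216797022250)))) (.node (.node (.node (.leaf 315156104762154873355166847136119153997610945906) (.leaf 4940500358273292025773955207462742649351386226688)) (.node (.leaf 3898254180227428063628331002609595121479098097664) (.leaf 3029479152522816009563453320756148252970898807643))) (.node (.node (.leaf 2114896293678378412003508453355447597022283129649) (.leaf 2723100994916203431870060988651266226620469219200)) (.node (.leaf 5714565967778065373384761058401649791890096641) (.leaf 0))))) (.node (.node (.node (.node (.leaf 3694080826396472890081978502922030900459457740799) (.leaf 1004670706516193303696302649879138583995201545460)) (.node (.leaf 1116840910344971106496065396396404348715360862768) (.leaf 5211320628619360811215943646935438931770539780643))) (.node (.node (.leaf 4082651221095142859468824623163873450604801256723)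 (.leaf 868842350897117106942807140844685868318901177344)) (.node (.leaf 8938417437216747858904080291362176564472054273) (.leaf 0)))) (.node (.node (.node (.leaf 3184517532457764647912040032903643522855734814262) (.leaf 2082010839193808606751429911037129301874687351822)) (.node (.leaf 5602492557352343363118651487201988110307711919781) (.leaf 108677499320315981074651542351585198195336089864))) (.node (.node (.leaf 178391342984322468533550008773138022097887591808) (.leaf 4497841740149504848525425492638364873239429211008)) (.node (.leaf 2056208963504262433613234758779295633727616937253) (.leaf 0)))))) (.node (.node (.node (.node (.node (.leaf 5385450492592044903190423947556258687156429258864) (.leaf 8920333468782952511844587989092215563328421889)) (.node (.leaf 4116680210937407805757885503750495403707854317365) (.leaf 5465822687860507016108019325030862074559633776814))) (.node (.node (.leaf 3295097971768590078314074158774851063439798990012) (.leaf 4037576939133911657325664697781314406005486082102)) (.node (.leaf 5413995675712464069883299206917023217208677040433) (.leaf 0)))) (.node (.node (.node (.leaf 5358613350700923230089756397230727784407406477311)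 (.leaf 4247209916847562848441627909829126298510010376288)) (.node (.leaf 846741225893401446647029001612224374409299395780) (.leaf 1935694656311199503944196335003758824133410712660))) (.node (.node (.leaf 878044895032012778593594673624109016861991742950) (.leaf 2971624594160311451161152183932332693910118727688)) (.node (.leaf 110634407383291282068701317096167771719655948423) (.leaf 0))))) (.node (.node (.node (.node (.leaf 5416486093727155173337187172548845571215593805773) (.leaf 1037926022724855488967118621519537324230694104339)) (.node (.leaf 1648897835023207818932972944462828785268237255734) (.leaf 3072089824230273269986826552950456739078097338879))) (.node (.node (.leaf 29958220410961461452543849650039591880668981730) (.leaf 4456887830477686602134646701432769940302575435894)) (.node (.leaf 2954453096588663091642784370392299162607593480288) (.leaf 0)))) (.node (.node (.node (.leaf 3597467812539747405551215075619110344639111405263) (.leaf 2118344400881310076505163597583354686785399361920)) (.node (.leaf 1566575700039917984061115200644025687206502821376) (.leaf 2973988481049683093306980927289127228898591662119))) (.node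 (.node (.leaf 1164205260264431691998393731649589658207197624326) (.leaf 932672140352898464086543074508606227443116267357)) (.node (.leaf 5760438273874546900291755459844124679098123095306) (.leaf 0))))))) (.node (.node (.node (.node (.node (.node (.leaf 3791068596338040987831815031898487133604676657198) (.leaf 2780651603654966053883237836309616956894858185853)) (.node (.leaf 111191928416566585449065174231810053683412402494) (.leaf 134853208012886823490906432710499216208345366768))) (.node (.node (.leaf 5685931147189378522170246058115572849291209936010) (.leaf 3357334081834480018895308105780429437836019646993)) (.node (.leaf 1464803653266261130943315495730499589227590873472) (.leaf 5806504625977233189741291923330473727492405520774)))) (.node (.node (.node (.leaf 2577916476123191493135722454128699054058540211019) (.leaf 4957943713862785474679099880706819491163788327478)) (.node (.leaf 4349111298667984836213079933660085158555378503126) (.leaf 4960637558101596294513714781682323152611451147532))) (.node (.node (.leaf 4063080979348188216173489608916211362498767274064) (.leaf 2931667234123809673361556402507332122213978476544))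 (.node (.leaf 4390314354296530522687986132110078796840644644864) (.leaf 0))))) (.node (.node (.node (.node (.leaf 1929683680180779259150260959423801061752332888611) (.leaf 3626176219749111112850483066506410400411928784300)) (.node (.leaf 5561271371660568253209905288173646928339838116769) (.leaf 437397540748400912728613258723888916937764455313))) (.node (.node (.leaf 1198776391475417018019170265956795877844082505770) (.leaf 5201299187614581944788399758610026489741810051554)) (.node (.leaf 5212227155958394032105181872795677484706260355078) (.leaf 0)))) (.node (.node (.node (.leaf 3112455079474756546041441098209721730959602811057) (.leaf 2439911364908707661046148157219259627549576534154)) (.node (.leaf 999284469645213240502209995836455442995065042870) (.leaf 3777006409409331676408865737389755069888075604897))) (.node (.node (.leaf 5420519174753830571600618784237392404767148199254) (.leaf 5753187885284687580379200268909152287185324336500)) (.node (.leaf 3576400883483510277522852578187781307425467859262) (.leaf 0)))))) (.node (.node (.node (.node (.node (.leaf 5618827816897777530350061042478492653746759190582) (.leaf 2660263081222668192312986090434984699437914469430))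 (.node (.leaf 2294018332863510471713413340747148439330072175536) (.leaf 5362257546360694423960771006744439518127854939476))) (.node (.node (.leaf 367539284044861796359343183105481052130932449313) (.leaf 390511274857245875819065176170488632612237944758)) (.node (.leaf 1194543268818888752431094150061175860634778296481) (.leaf 0)))) (.node (.node (.node (.leaf 4774986295126526287600365888513123829543500451058) (.leaf 5519292439953890513084738771613087737601667449617)) (.node (.leaf 4932971044243776197672144641898240304601284255840) (.leaf 1467941686657427133614641717328018626947609298950))) (.node (.node (.leaf 411805823897057640888321027907010816522292854784) (.leaf 4822955265114500552569804857506048083027659852866)) (.node (.leaf 1781125325193489367665119674341775827906985700400) (.leaf 0))))) (.node (.node (.node (.node (.leaf 3960310445348269015524486028780689046476052761612) (.leaf 1793483580611372757879011681099209140356935344529)) (.node (.leaf 2779402187554737171840446218796991299451764080639) (.leaf 2888310324491191900246809880875590133268810135942))) (.node (.node (.leaf 5805759964558168678956600726049477408928826610742)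 (.leaf 5338685752178572972349935649069820933969904427054)) (.node (.leaf 2213090751172647913119251178379483392341514175542) (.leaf 0)))) (.node (.node (.node (.leaf 79388867680590354885492911045069569166537879479) (.leaf 472209202783867141544885360019543045240267282822)) (.node (.leaf 4040286108484146571855480621445463505249929598342) (.leaf 68955475090125236294148943965734708798995628928))) (.node (.node (.leaf 3643749388845495810482169168420939639052075467016) (.leaf 5747473319330566595012827952870165866007933863252)) (.node (.leaf 51431268024801045394575119126571074744186061329) (.leaf 0))))))))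

def hT19 : NT := .node (.node (.node (.node (.node (.node (.node (.node (.leaf 2060758295674149497653409693796430080910021845166) (.leaf 4908346707673195935088697865753568797917159953676)) (.node (.leaf 5538655329174768842788667517282857724844518252416) (.leaf 4801182172495270104338307054069548125432635541430))) (.node (.node (.leaf 4112059818788178468928548078514684043493108830103) (.leaf 1397704630192604104498862703401307180756524862916)) (.node (.leaf 3392552700506019170770439057828976711169353881478) (.leaf 5438539222091441282692638028847152240453928942203)))) (.node (.node (.node (.leaf 2337350714751004260612620964881794643847267255364) (.leaf 2386574529949043086233995996570341991307753047606)) (.node (.leaf 388301533846090802256398790783974340360224931840) (.leaf 1517451877001243103197088352021016560811617478898))) (.node (.node (.leaf 2396524829419912203587534164470563562063279478365) (.leaf 2234125146444097239504415100380024342521432268896)) (.node (.leaf 3315403424778529108774721082398751189492300179846) (.leaf 0))))) (.node (.node (.node (.node (.leaf 4677528883357599027015398971020053053664036566966) (.leaf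 5437879673528853801698590440582447048331887837567)) (.node (.leaf 3283941809689529271646298428995265884309398967350) (.leaf 2388780350580155363203656842740494891273788438454))) (.node (.node (.leaf 4270201899374763417167283377497108805274742227262) (.leaf 1443175938955174301466443528658864991538392075653)) (.node (.leaf 5626587872624308791708467056688547576667070005318) (.leaf 0)))) (.node (.node (.node (.leaf 1574845586297018431042190746876216773795195674663) (.leaf 3106142659468111280631452577039282159393314637318)) (.node (.leaf 1975803102339498731289963412575197489063039323606) (.leaf 5595902165755800033753014165431769200904772256142))) (.node (.node (.leaf 4099390556310547272759609581782310669743936223213) (.leaf 4520489856508394061704317424680721862450284552528)) (.node (.leaf 361683768947908950299160948931722808142773550847) (.leaf 0)))))) (.node (.node (.node (.node (.node (.leaf 4520493539776615044152809208635978466320899547360) (.leaf 1748550476376524203013094812751839225808478579760)) (.node (.leaf 1872650023271317378778783580642158603673736854576) (.leaf 4259921252520488570577897257914641418464695902425)))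 (.node (.node (.leaf 69355580265544724928858258162865389294237777984) (.leaf 2842647779921373557715617134583719730568990842975)) (.node (.leaf 2512306001164565381368611306842737030768977045510) (.leaf 791067520690472399116402864489505750193579067782)))) (.node (.node (.node (.leaf 4827682777640014454012827762574535525086405626950) (.leaf 3102149272921019850552009761776714234135403874358)) (.node (.leaf 3341704881539375585101757944708450541994027774464) (.leaf 1881044532738882725540156864371007917071804546480))) (.node (.node (.leaf 4415904568129417663818936385981576456269016383536) (.leaf 5211154625429223132368154809907739140969006279094)) (.node (.leaf 2458325895777815755291970817453362815722820263472) (.leaf 0))))) (.node (.node (.node (.node (.leaf 135989114057070890565103420590945297748985097264) (.leaf 1196327348916589676155708348763199018144355871772)) (.node (.leaf 260006079801074993918334465142874250517080637569) (.leaf 369312910529601566390777711459031825222278846470))) (.node (.node (.leaf 2928851645600580440226011830572594769895306035249) (.leaf 1998605312281728126942126053318146135274299329925)) (.node (.leaf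 3367671941709589361937443450880543847151498306480) (.leaf 0)))) (.node (.node (.node (.leaf 2459975195920044159089643421611723381965684874624) (.leaf 2410700805299992896588489745709010900173456655414)) (.node (.leaf 2009711823240566297248731457725908806287272706062) (.leaf 4575677824328214563461884023829862114326907408279))) (.node (.node (.leaf 2539586985040461532415304886222507839484176003456) (.leaf 4320520617791682033701027900542834549252506877312)) (.node (.leaf 3604700694666507311315999679919071823094804343980) (.leaf 0))))))) (.node (.node (.node (.node (.node (.node (.leaf 4056383176973019467505645959370260472296171528881) (.leaf 3100032351637365350767576157736183434292946342152)) (.node (.leaf 2900897605080198868651995462815093442465011338252) (.leaf 4057830607300152050177388753789080749036428029221))) (.node (.node (.leaf 1882705128126588347287862045514643074647761371696) (.leaf 3297406403799502209072463252941455370532057583880)) (.node (.leaf 4739083265447020150144372597421443130961231044969) (.leaf 2065619870207403830911411008555398385170875613326)))) (.node (.node (.node (.leaf 5417356824571495271205865880641553927651048910647)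 (.leaf 4592366194047026150675835519277743728664844987420)) (.node (.leaf 1108996596019071896140831880075621818709336670737) (.leaf 3749076232814133125437604265702087135949767314490))) (.node (.node (.leaf 3446465195474503455072080828730761307999434641800) (.leaf 3466568567054526215847282126556970976802765496550)) (.node (.leaf 4082894189520006542485939387864793108995783928483) (.leaf 0))))) (.node (.node (.node (.node (.leaf 4064208608454160505042224716725937246449915592881) (.leaf 5412903430139185763118242216069304274711673001014)) (.node (.leaf 4572785941093553106264585601970402863257375695022) (.leaf 2235935026539060979549553040669429627697267491345))) (.node (.node (.leaf 5787689930900387914527964286985577724507736796244) (.leaf 578019085356907917292983421712619727473558843264)) (.node (.leaf 3261781349546609501367373990063389694234496798077) (.leaf 0)))) (.node (.node (.node (.leaf 315004780970569810492735927565189497478402086156) (.leaf 3334341011400571017174283388205203947364792491294)) (.node (.leaf 4982371670978308949711197679458772152324852093312) (.leaf 1444870787862224543087584444413595278960411479421))) (.node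 (.node (.leaf 4054842285835610910167131388451564031072749948285) (.leaf 524693147486574234121072423165660094492801265108)) (.node (.leaf 2260127705031250778591894499440371308124350669073) (.leaf 0)))))) (.node (.node (.node (.node (.node (.leaf 3177016011168213812466161982638826163885163875507) (.leaf 5316496334936828054785199388038774222853935426835)) (.node (.leaf 5579231268185368987802031163883410283654930375329) (.leaf 3778122927536696743787652702252010399683257832460))) (.node (.node (.leaf 210832845356634497491266375202951540055075651719) (.leaf 3422686131177767151688791143979618828043115621376)) (.node (.leaf 2856203750824659134018638461635022506106847763456) (.leaf 0)))) (.node (.node (.node (.leaf 4238017684819304000266625914743135057892497584512) (.leaf 2139077706294909715995876503401756652567917431683)) (.node (.leaf 4324281291975540332475451574081296829254213205182) (.leaf 1852769497533200686250632404496811684089312849456))) (.node (.node (.leaf 3102154276283653812235855255262116757110389515364) (.leaf 4777550863555004696739634481743081407798613863596)) (.node (.leaf 2928918950230693142226153586407002227090008969352)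 (.leaf 0))))) (.node (.node (.node (.node (.leaf 5569185620497095550656622863328396402755621314921) (.leaf 3219037564096436917269947464417209906367978248710)) (.node (.leaf 3219082078316370027355585446085947354042422700470) (.leaf 4519330211812097550203170091844862145215521816705))) (.node (.node (.leaf 3934865098713628316776915204363113704338321051013) (.leaf 4782328420029623661078352617018661104267847445936)) (.node (.leaf 2255622983433272098091198360154684072283285712098) (.leaf 0)))) (.node (.node (.node (.leaf 680535784165670600067010617645521975653306274176) (.leaf 234521695539550936437369036356325787810562641671)) (.node (.leaf 1534148819822406264625544498965649236359471787831) (.leaf 3107550530340748970090895629818149252242745064960))) (.node (.node (.leaf 5720498084933312292296250419650933152160958715148) (.leaf 2473128789066247668120239922414947299651106511238)) (.node (.leaf 26404280020240912259684653992447547604922728646) (.leaf 0)))))))) (.node (.node (.node (.node (.node (.node (.node (.leaf 823748062525900402928034387003963697345041796108) (.leaf 4699833857080304340661569338112064690545840095743)) (.node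 (.leaf 3467679786300941430603974163461715126321125994032) (.leaf 4161177645858379080304042486441713518869995166539))) (.node (.node (.leaf 1668534836220588556271321812028961622921881759152) (.leaf 257664480308819884837033774805484814790114172945)) (.node (.leaf 850999767120469421518848494721288396518484894120) (.leaf 33672379203111297569648415927580359123959589936)))) (.node (.node (.node (.leaf 72767619546794780143683047686898313360627728823) (.leaf 594805567152441618791730901109242873267980145024)) (.node (.leaf 1396819599615364793673757737263441941547473650577) (.leaf 4259555730260313010190706643181729222899415266476))) (.node (.node (.leaf 5500588285590367403948433375653859192242494988518) (.leaf 3776996927552162120772368932896804091228955107729)) (.node (.leaf 5084165501458975262732816511738366164914393058756) (.leaf 0))))) (.node (.node (.node (.node (.leaf 1792725353644061671729251193726339472950408446335) (.leaf 1318291373009737663319731247409193751495026368686)) (.node (.leaf 2540506499385656084983098379214699148425189008033) (.leaf 3361405797245821329296503847829098431746405861442))) (.node (.node (.leaf 725405578923971087708818849265743067948230271872)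 (.leaf 3295053457404176655228409681133029250550730864682)) (.node (.leaf 3926479992734610210027027704971625079751391513779) (.leaf 0)))) (.node (.node (.node (.leaf 4081296550166842790589566644504432473147530437297) (.leaf 2657412404811850576107484367560532161818561399894)) (.node (.leaf 416221920478225765536495059457932471204471598317) (.leaf 743976562617931815357485291306088714820457111600))) (.node (.node (.leaf 26661804375787814360629322704438130766490380835) (.leaf 999882579756877051346830243761675616367105634616)) (.node (.leaf 2011519864721907791296480184028553649168914388358) (.leaf 0)))))) (.node (.node (.node (.node (.node (.leaf 2064883938725173985345714243376871454778743259400) (.leaf 5157527595505781652122568668527406680622765983286)) (.node (.leaf 2281558900813945500229658800079689593778134805797) (.leaf 5340447503201412120084495291588653932544808738911))) (.node (.node (.leaf 775533756958133461800662581809839110576741027212) (.leaf 1564275036127345585862045477355148530409686958465)) (.node (.leaf 231226779344540296625791472001130425909313433984) (.leaf 0)))) (.node (.node (.node (.leaf 3392599480000264230851486269172532872524495915910)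 (.leaf 5259597408111588042180376522748242754809625175430)) (.node (.leaf 524711617061459948613568075785133961862312346678) (.leaf 3478725620767327627741558870729442526854240035377))) (.node (.node (.leaf 2337355512332938991777825917703969669067140762690) (.leaf 2063286306656194636277736112141433776227191007670)) (.node (.leaf 4080988315622271271012752883789283265028221770752) (.leaf 0))))) (.node (.node (.node (.node (.leaf 3619552911512793479215502572586301437763225939412) (.leaf 3033574875913204499562324792418433164591551657910)) (.node (.leaf 722891858552382922862076744399164542510976903394) (.leaf 417455273232250650050943933324590531191839301327))) (.node (.node (.leaf 2971089362047531661896769908924295751767640468820) (.leaf 2255630230072466801760176875170659800758944704950)) (.node (.leaf 3158037680423980850106697548012909876180596716732) (.leaf 0)))) (.node (.node (.node (.leaf 3106964618132570895553475271248175225074769025306) (.leaf 2860612965201169950466016638316756759368496488143)) (.node (.leaf 191217655371339660412743790446375272131270419105) (.leaf 821198501232671456939742513462769199002621291568))) (.node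 (.node (.leaf 2235926539981566958000656568230483973581264396848) (.leaf 1374923316393235998012132999579107284976870030075)) (.node (.leaf 4749897743784946985295720312426177637791068883968) (.leaf 0))))))) (.node (.node (.node (.node (.node (.node (.leaf 4186854078452722739482268042496273574560942136704) (.leaf 1976528161954580135949471865348126814326730474032)) (.node (.leaf 4112333741122731901803590693090546676693438000300) (.leaf 3643746639297473343432737331373757369279002775936))) (.node (.node (.leaf 3179023099163447080305151902952080408704452947419) (.leaf 930971150771612865875539156036912409478397652187)) (.node (.leaf 2968809277708945900532037028697383239345597063713) (.leaf 5258990823658853220023184377124134271765985391676)))) (.node (.node (.node (.leaf 815585971556927837758651931182038063938074250499) (.leaf 46520312912103874263935186068562475299042000960)) (.node (.leaf 3158127092583379836009814225748592242868431577368) (.leaf 2470001627629381165412909529297860761008375532749))) (.node (.node (.leaf 3603228840477461963576268694159762842531714002092) (.leaf 1781137982567339033306516474131535829208067460566))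 (.node (.leaf 4958511873455351693992928703725581424966557549622) (.leaf 0))))) (.node (.node (.node (.node (.leaf 50793562526148337510506019373863566419128354437) (.leaf 4805613711521366679090859456784636551368430144438)) (.node (.leaf 5258998725121772782101403245476308267979178014726) (.leaf 1751559702404209266349578064536428747037617297546))) (.node (.node (.leaf 3098181890762050355185617472811080801441311386706) (.leaf 1718456597953014394291663412586051179301436457729)) (.node (.leaf 3918021253918432513903620059226466870953113746171) (.leaf 0)))) (.node (.node (.node (.leaf 2410946593408340158186454701577604691397638273974) (.leaf 4900480816693212437850564032937840139859823539049)) (.node (.leaf 370342117732820115291161428458834031176735791114) (.leaf 365822125452358195161460825923625171879701184648))) (.node (.node (.leaf 4903505772489289355389932993907777143284663324107) (.leaf 2081275154396649019275339883309509793566837112967)) (.node (.leaf 794518332056697076057994398422705747351051829120) (.leaf 0)))))) (.node (.node (.node (.node (.node (.leaf 422308296528976672489837925195495509707131766838) (.leaf 2535037807857394521081564569512699422322529124335))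 (.node (.leaf 4857200725720991133825937987132457964429527594934) (.leaf 1669647239906614720919790093421410273850104679805))) (.node (.node (.leaf 1590679423740427528244882743094513006419057337909) (.leaf 5205571269244869997049602467871777914420304044134)) (.node (.leaf 598097845535114888970488356427077522963114213359) (.leaf 0)))) (.node (.node (.node (.leaf 1903403050245353029619586799349755449940433464741) (.leaf 229856789072093954137783209141945752071020265552)) (.node (.leaf 366089034541537407706295157059167380032922353664) (.leaf 4054835845032155856824482859778028881965245201147))) (.node (.node (.leaf 5254952864337143451107136497656231617670925571677) (.leaf 1634783154647544199403519130332966980390351740302)) (.node (.leaf 251241676699778352175971861800217541641960031104) (.leaf 0))))) (.node (.node (.node (.node (.leaf 4110683165760254798834454772179995390559118561152) (.leaf 1507218361176652004447916216812850305157325656072)) (.node (.leaf 3957879638856786173197343069600572417111686840703) (.leaf 2641493615859784245768419292042182718205509176588))) (.node (.node (.leaf 2162674769265279997025970172377565432487297342171)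 (.leaf 1802802167942823448746000497516193605180247631238)) (.node (.leaf 2520447666105591477810028289558225977171830942768) (.leaf 0)))) (.node (.node (.node (.leaf 5753190462340299449546980251911639873367581592818) (.leaf 1565234427233999608836333440340414559898618048048)) (.node (.leaf 1716925817296782454396114665261914907438754120465) (.leaf 5827838397528364234292761628422040479209144305078))) (.node (.node (.leaf 2923767948075770044399886958407657550419136463280) (.leaf 4158050355479869968711693418301878925567342436454)) (.node (.leaf 371848387492420260491643163248091848250753785904) (.leaf 0))))))))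

def hT20 : NT := .node (.node (.node (.node (.node (.node (.node (.node (.leaf 4435337616981814072066214435215176750117676280710) (.leaf 4119492296400779954456701370697852897658872818788)) (.node (.leaf 2570999522910258578296232678530077321505662114182) (.leaf 1108997287386441659761147499229808534003655925793))) (.node (.node (.leaf 3391185306646707758198579940756533528727267073054) (.leaf 2679494331786226387805616846676934472976852782218)) (.node (.leaf 390512140301893723752075908905493640460985584275) (.leaf 3719824573057918428525723230193325451300216984630)))) (.node (.node (.node (.leaf 2435903570001360256704827692340072482700259167613) (.leaf 475252283952192220946253262220982695047747038483)) (.node (.leaf 47280716033486217495497717474322445520796156996) (.leaf 156829643098800197166996081829858048703847261300))) (.node (.node (.leaf 389282682371076120915492157746614787306705649728) (.leaf 4430282886486366697027623385847843271387279261704)) (.node (.leaf 1394960754112872361077266856019992273036415546796) (.leaf 0))))) (.node (.node (.node (.node (.leaf 369313582927246415316556942307176469332624413708) (.leaf 2433581369735668918594048445621194752095413176710))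 (.node (.leaf 5342431198415142754604124595175247516548253463401) (.leaf 3477853481082432715556514373300468536706542338049))) (.node (.node (.leaf 4927071862210614763310457982060197141517036599222) (.leaf 5417704741497544862704203665900952274319347563568)) (.node (.leaf 2493249342848977603550044109872280543786914305078) (.leaf 0)))) (.node (.node (.node (.leaf 4102489626450674808997903256710175041707599345078) (.leaf 74144260611692726173627475594211752524803480576)) (.node (.leaf 2643313106994935646980627248282349409556241344053) (.leaf 1776468208919422034733647722534095944246841835638))) (.node (.node (.leaf 4988518280639727611190717887012117727154433480285) (.leaf 2437878730337853903115607225703706126900060611956)) (.node (.leaf 2294939388511749461438036771655438048202850766146) (.leaf 0)))))) (.node (.node (.node (.node (.node (.leaf 1795846978983228832907324371473801982073857497947) (.leaf 1851075948509609815539129468585619837036592236165)) (.node (.leaf 1015201387357469783651860298628594721885077832015) (.leaf 315206663693548348109421587208043784026987829386))) (.node (.node (.leaf 3797602708989449181566078987589157213203748580587)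 (.leaf 5803015982402046435168808555373010763561046774924)) (.node (.leaf 5566316392546442255743967874822516292859410607927) (.leaf 2860924304467348012409508808432174376962383436830)))) (.node (.node (.node (.leaf 4543771745690966401621128758350577589499815291932) (.leaf 1510397436968881181035541375675360727911232655768)) (.node (.leaf 4982379260059578868549325309546398274338259865736) (.leaf 4860054835819177070812446182479940889991001335028))) (.node (.node (.leaf 1646201137674316721429006089893816254957316046142) (.leaf 704014813595095259997134593246015988362147990787)) (.node (.leaf 1241381486215913714660991134925173540509197129565) (.leaf 0))))) (.node (.node (.node (.node (.leaf 1590668839852442645997864718531400663348878273030) (.leaf 745730586098483983158172935682748192164955354630)) (.node (.leaf 1398418252677807248814872564612040282284410233193) (.leaf 3081911805539593071527225047306454178473430919606))) (.node (.node (.leaf 3422690771884821319050277583868962836335355554934) (.leaf 1648942349263302446131147752915377756827154483590)) (.node (.leaf 4296785823014650885372634302398369838819366522198) (.leaf 0)))) (.node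 (.node (.node (.leaf 1058693782910680562371278553444902501502891284890) (.leaf 3414222368766454871271465999012472078573794506794)) (.node (.leaf 76993169921769521689438242547590755928903991856) (.leaf 2014531484211512025450791534308609206400576918540))) (.node (.node (.leaf 4057052722066618495922935101845566318883094667809) (.leaf 4520849654832386693082203714839167511309488610139)) (.node (.leaf 5201401056690997573844745611618654440343155534955) (.leaf 0))))))) (.node (.node (.node (.node (.node (.node (.leaf 996870125709526115296289051565434248725874016440) (.leaf 700055895071215479950191721562275633645973014149)) (.node (.leaf 231304834680217804187711114004935795977596723624) (.leaf 5210477491533662156023955923260297313491631934732))) (.node (.node (.leaf 4576247016512451853197200515344040562771412845056) (.leaf 2885376116612079658958358845241166091240924802148)) (.node (.leaf 1827837265039271914356004339797134010232046118453) (.leaf 3135737234578862358067986002167102846430054149339)))) (.node (.node (.node (.leaf 395332774497587419011996712908561177938107240448) (.leaf 2165366669601047530412090872504404442640928326996))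 (.node (.leaf 3395651972395578543716479660256363233317076561115) (.leaf 1367570671033353002611201811166290435217153533494))) (.node (.node (.leaf 1164097120644812279747108330206926415278400787161) (.leaf 825656152001818004918008083914343046695429315078)) (.node (.leaf 4180567708528634098328794672350552549949861815861) (.leaf 0))))) (.node (.node (.node (.node (.leaf 5135844059096397333217941272555411388496126175750) (.leaf 4288999334823445504808044581010354987318532748137)) (.node (.leaf 3184509073805085275320409353126315316625368182181) (.leaf 3254221404891606698086004008409417899149497953499))) (.node (.node (.leaf 3974068368165847692293919395791174765421715775024) (.leaf 924860729820659165004920659452055867341548871680)) (.node (.leaf 773125253451854641435610401621215547206577884365) (.leaf 0)))) (.node (.node (.node (.leaf 3540585348967661579009688025333452000833696043392) (.leaf 318345139322755750213718006340712062062386938239)) (.node (.leaf 3752868814174103975187490027741869567302570516704) (.leaf 1403168326015921849599248391184117647994615958733))) (.node (.node (.leaf 3103696186145933536842618222653284241513081783350)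 (.leaf 5036307087975714805152481262784342470879423612342)) (.node (.leaf 4637413785154973365948733523132149354491248574641) (.leaf 0)))))) (.node (.node (.node (.node (.node (.leaf 4803483273039011109089479300016380425089413621686) (.leaf 2435900453907824513154907132962102068887468833531)) (.node (.leaf 4521436713780913125489581566186643500207603394102) (.leaf 337953336518279338682595898720890253636688550026))) (.node (.node (.leaf 2519324101394985771864269316553052645812884153249) (.leaf 1185236398092271926195192159589677693992323493350)) (.node (.leaf 26305689347362003586365844726951704323022606231) (.leaf 0)))) (.node (.node (.node (.leaf 2656751300306742081462818907653770678583230760966) (.leaf 2780116346985844846961881862026768564797095567406)) (.node (.leaf 2538309066732973586877590213085102534708736847269) (.leaf 5679144183972997709890588517306780256900360320172))) (.node (.node (.leaf 5174884535587375217805397445206518732834750183350) (.leaf 5435783426037199036331297514521352800506892020818)) (.node (.leaf 257865187773261304410851656124510193280479161754) (.leaf 0))))) (.node (.node (.node (.node (.leaf 4645718065048648343968283513723569140308418732080)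 (.leaf 3649413609306507404598212802950187559170752096738)) (.node (.leaf 3752175443957791578812604248102872989807447424623) (.leaf 2512291134485818995416328085516866099786583958644))) (.node (.node (.leaf 4758059845011691808330470170673197102679138241604) (.leaf 5498888714470827822849786967285703819964995657728)) (.node (.leaf 3139416881610731362978506312702807047765923660111) (.leaf 0)))) (.node (.node (.node (.leaf 1819474488430771472863136680952575649491666413494) (.leaf 3213330244539328612744542180226707751758319331875)) (.node (.leaf 1860295605627873945022071979129551170424825929958) (.leaf 4410212281482191040997618743409677940514354651232))) (.node (.node (.leaf 3392552143029476148536536765127512496175359921357) (.leaf 792807439092325151542516038177430472586567195467)) (.node (.leaf 4489539773837907175299498119062147198577986009094) (.leaf 0)))))))) (.node (.node (.node (.node (.node (.node (.node (.leaf 2456529316425825155784061100681160543259927646080) (.leaf 4941578346691386134394987382284051108697080795136)) (.node (.leaf 2144302091423262444310894915376890699580721980788) (.leaf 5805775755886550979674484682477698794562341072284)))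 (.node (.node (.leaf 444610953965496912148009899205718632682505920935) (.leaf 4642963814231947982380993726835853116569190704182)) (.node (.leaf 3482046051983274063294413874344039527330203263206) (.leaf 4116280964591876881001530997049316627261721111892)))) (.node (.node (.node (.leaf 4117878003660552866421458762675802568462314695046) (.leaf 1749528727358058183058290906192189341106279768238)) (.node (.leaf 5787070201068431585729476198996864092596121233798) (.leaf 154483491468099392717387640705752330523081773320))) (.node (.node (.leaf 4941012189775654240886096357269203499945363864960) (.leaf 1376478188112229964676294765144415742546351446070)) (.node (.leaf 3082258979765533330552207646690947179823480136041) (.leaf 0))))) (.node (.node (.node (.node (.leaf 5392956585838466480124846739265318334326031342878) (.leaf 5801514127809726678344442266453995004099791842182)) (.node (.leaf 3113461844481253521813095062821422116483383026032) (.leaf 2361391011120983178227710151799547040738989081606))) (.node (.node (.leaf 4960080257279561302279372014092242351820475777104) (.leaf 4822746073885138045106816706787270724539518042672)) (.node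 (.leaf 4340850954755194557680440600041328861156902895793) (.leaf 0)))) (.node (.node (.node (.leaf 5808349998336256900596704411768523562315149987286) (.leaf 51827032566091252497190588172414142308026354947)) (.node (.leaf 2435346046684560356072638230573682183242096053700) (.leaf 5566325379850410239427514002181523623148027015040))) (.node (.node (.leaf 70448323670992816541790642591935800742092734576) (.leaf 1939753375944063634243680209348684578547201737209)) (.node (.leaf 3627114605975320113838864738796558342225318724369) (.leaf 0)))))) (.node (.node (.node (.node (.node (.leaf 5311385784962384475685598796212388453306725679536) (.leaf 5624209911395178355255321631619247975771560773698)) (.node (.leaf 5605803655343421327738373418771885890123685953606) (.leaf 2116230895179556847672151397815657772139187208704))) (.node (.node (.leaf 1038550444717488163207939019855936924054091727246) (.leaf 4569963258332005862311136827987164630116906863686)) (.node (.leaf 2951643105037946304285632446560528598067604628001) (.leaf 0)))) (.node (.node (.node (.leaf 4618500830418757952110351962545600801480483588178) (.leaf 5362155641126881149841321252003559729366094915365))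 (.node (.leaf 2213095351888709235978909861356619526492830329940) (.leaf 72566912074374863330133294264065577188335812622))) (.node (.node (.leaf 815496768755230684243001866157334346612843941245) (.leaf 771724044703689128022180442092302868536067669615)) (.node (.leaf 5213287396487819726727666768651821233495118999003) (.leaf 0))))) (.node (.node (.node (.node (.leaf 2286174711315639357369708376903822941606315657606) (.leaf 2468306782457448638730929999704828285087788068268)) (.node (.leaf 313205939286771484861098760572718422635045138480) (.leaf 3100032819520961727739424289519798236206864466056))) (.node (.node (.leaf 5084157858300462852015862908282327344022738930114) (.leaf 1670450038604599893523187677843044057720644111539)) (.node (.leaf 1819441797639406581982132159069193967944818757004) (.leaf 0)))) (.node (.node (.node (.leaf 680175400376237809906154822982915876228294274469) (.leaf 3465854944561227765907853824153204301855218925704)) (.node (.leaf 3997106754275545292474460924104244631417645719975) (.leaf 2058428364053128272124371794155548311589757256576))) (.node (.node (.leaf 3254214044032255964811577040276742033279805667181)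 (.leaf 1903422636045562507514039549920641307880040180259)) (.node (.leaf 1155535899852678704760871730924431892499089252736) (.leaf 0))))))) (.node (.node (.node (.node (.node (.node (.leaf 1540834705190157964768593819290733801107980641152) (.leaf 2951955394071628612419015010533915944581881421863)) (.node (.leaf 769968583195877101686883866381684569913659958838) (.leaf 2206405137005419875213639225539754054047849799775))) (.node (.node (.leaf 1140500132396628610683383690344216337445529007158) (.leaf 231314569621857109362222278846075929264001601944)) (.node (.leaf 3217525310891456518418749031942869640068200596353) (.leaf 2779759537848800451098964993396630927912264797309)))) (.node (.node (.node (.leaf 2702334023282411573687160249280972869872005981238) (.leaf 5160037628614326388101134867222253872059393900416)) (.node (.leaf 394619310331072229511886052701945057294590890392) (.leaf 336757720430122202484416878133420200910410203119))) (.node (.node (.leaf 2284369692959740600195816585957358299072638213680) (.leaf 2310750777045457261111944691485253711248194232600)) (.node (.leaf 393444906064645403094592065312743236094684282863) (.leaf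 0))))) (.node (.node (.node (.node (.leaf 4533803340235129968323905552346317389590505483364) (.leaf 4270203139093774917690145623222978782984253046144)) (.node (.leaf 258273078386920326362404253125660468843745335706) (.leaf 3357535180541231199821259325837790625434813159706))) (.node (.node (.leaf 4962090927706575293272537348671957282751900314706) (.leaf 1319584810672354373367802206462607753049670156793)) (.node (.leaf 5239133099157505145489289021973856117457779877108) (.leaf 0)))) (.node (.node (.node (.leaf 521334322975453809762427482545875640361567976059) (.leaf 494319607997031450486628188760113557006045110433)) (.node (.leaf 2877749255977432429654777364490531080835250716807) (.leaf 3179035983188308259702298094110152749544574802486))) (.node (.node (.leaf 5619314863947720169001253097092728936518226054144) (.leaf 1594091321302268558988441952071020954995251244116)) (.node (.leaf 3133328784268318309030581462710335832420307657040) (.leaf 0)))))) (.node (.node (.node (.node (.node (.leaf 3495444036792902451269468640435969621378845594008) (.leaf 993814901244802117097746068896113870587834425440)) (.node (.leaf 5201307482081888014196745466748320291710576870454)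 (.leaf 1344183274263520173454726733300737850881991516720))) (.node (.node (.leaf 3956385493776389838890918043819924052342907822360) (.leaf 28946555104593215076323769367962084563548924949)) (.node (.leaf 3902595723208704890246947481590000521831384899680) (.leaf 0)))) (.node (.node (.node (.leaf 5545649242075759430626826744786539786752815096704) (.leaf 3741450832544223461026089294034607606351893610479)) (.node (.leaf 1422103592012776080352711234432685727850216609373) (.leaf 2780116508274208245263843068833019798448842234910))) (.node (.node (.leaf 1537937742564690997266815748258916708812174065841) (.leaf 4134895782220240706388697621508494527724434168202)) (.node (.leaf 1750666041109975182733789787300518113168520839358) (.leaf 0))))) (.node (.node (.node (.node (.leaf 2433693527502301812474984223135429524463939535926) (.leaf 1590679272591420474086914231062658582405321067571)) (.node (.leaf 2310572379875414590024541541683490124296943763633) (.leaf 75295258000289431951638881350466141206130745856))) (.node (.node (.leaf 1668398393355656615255339139998440559147134484985) (.leaf 2391309592149112530640281362974454449070133413382))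 (.node (.leaf 2469099425674411798551952494732240952791112222341) (.leaf 0)))) (.node (.node (.node (.leaf 2625598779754952024731369692098316458558089162551) (.leaf 657454938153420929756725605982944403770739874074)) (.node (.leaf 71574634250038688782192633825463051290513993655) (.leaf 3622270770928294362749157296234901432690464183001))) (.node (.node (.leaf 2653521881773626603692193774009237579482929477558) (.leaf 788602742819345525629752744750932888377682372534)) (.node (.leaf 3471429475402217591714906601474240086851089072640) (.leaf 0))))))))

def hT21 : NT := .node (.node (.node (.node (.node (.node (.node (.node (.leaf 775549442146107153294986255890440387343540229126) (.leaf 1903433345582191544880644727596397883382452209206)) (.node (.leaf 867766603460613874235008058534020123424649677894) (.leaf 1802365155771918813813980457868302378190564036872))) (.node (.node (.leaf 2495090170403319203011556488059008124610503966862) (.leaf 313362627297478340961922399755778001760256926369)) (.node (.leaf 1495588522029234074154413054102769991440035679500) (.leaf 4980296274591279620490199186501934110599734340066)))) (.node (.node (.node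 (.leaf 361675549366363482058069423328054350281837576575) (.leaf 5730398926522781795437777593406397864634489700670)) (.node (.leaf 2675390963981582633396459361833410748052111560061) (.leaf 1344182437270182384691100114369300128639703080993))) (.node (.node (.leaf 2462077783276565745111363823246956542836780344420) (.leaf 598100046715465700642546689228632370647789985328)) (.node (.leaf 2317223987499112335894279432594692018103225792365) (.leaf 0))))) (.node (.node (.node (.node (.leaf 494532378746861321164883442418004518445965977526) (.leaf 24444933129703910490780342866556608675737244678)) (.node (.leaf 850152341865594417760389304166912440509146271101) (.leaf 1514833997909556596360719531021652075341601505520))) (.node (.node (.leaf 5377890517960007608298080141363933297378475437056) (.leaf 3284037662716253906608368041850604868271357059496)) (.node (.leaf 3500259428929240762393731703560833604860735199622) (.leaf 0)))) (.node (.node (.node (.leaf 1422105425366303055818132356961702572096047856182) (.leaf 438067347114598560409344488966714312444576211873)) (.node (.leaf 259560046343750731823142718144248587490387255576) (.leaf 3795894585859662841738727201145727635412887923078)))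 (.node (.node (.leaf 713625207485046312970060568943264360260698176) (.leaf 3344127989641806677618348500754648248094959072249)) (.node (.leaf 2441010447364454209368718210538316440376045235300) (.leaf 0)))))) (.node (.node (.node (.node (.node (.leaf 581471935387221889322927440978764205596940700682) (.leaf 4642966659162013958000225507411309144595070217316)) (.node (.leaf 4984876309833724198210491527052853944378441208192) (.leaf 315205499332007558276372502722851130451452040582))) (.node (.node (.leaf 4349460029573206124539282842267823751896579765766) (.leaf 1565233969171522078956775104853438342711675740199)) (.node (.leaf 338152748956074694265019003868953829752664896950) (.leaf 340958000460866377411748509234014800432804597058)))) (.node (.node (.node (.leaf 1797430792009625148953237897959266494287890022535) (.leaf 2682275090597901186261488779048957237989430152118)) (.node (.leaf 1932371841107186351098789133140475251922740710852) (.leaf 1032373124601136922657806504022368443166950687118))) (.node (.node (.leaf 1242726935459227676157062667105211677305015702796) (.leaf 3219044810497617381979793428480499641913877960653)) (.node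 (.leaf 4758052097588741802044989936793086894769046063170) (.leaf 0))))) (.node (.node (.node (.node (.leaf 3956380975166501996453279569996581214225450021032) (.leaf 5359866025352773465401450698231514093636986979668)) (.node (.leaf 4055798163955002121064896412067846586561345855536) (.leaf 4298752818433737172280745639313743132926328051850))) (.node (.node (.leaf 1185221537569316686513777535937585336133052031446) (.leaf 2885020334180722822849405677031046797270156396470)) (.node (.leaf 4796200876231128801903703894952422634026570777796) (.leaf 0)))) (.node (.node (.node (.leaf 4078992074217720652872596884852843469333956966966) (.leaf 1155539253271888965732215166082595256509655277936)) (.node (.leaf 444629814691112016064229376291416372701720686128) (.leaf 1752812755226657439605325357578375122043484094896))) (.node (.node (.leaf 77446307261453931630142508165045514574443512705) (.leaf 4520846667071498494839152869956841119585983229165)) (.node (.leaf 548465401662031872899445341855813169160787361792) (.leaf 0))))))) (.node (.node (.node (.node (.node (.node (.leaf 3342330554590067213059692998164152661484895928504) (.leaf 3672584737098040092860597991761005349515035696158))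 (.node (.leaf 4799910285092058940744113547184518570144252356614) (.leaf 287461313240142695399331982550112422161128459590))) (.node (.node (.leaf 4512069738187108511469571103435516919099972558543) (.leaf 31460809301715351619904612398931167706698268720)) (.node (.leaf 1632916991185298441424777638897960581789611983287) (.leaf 51938537290581796797515916745124068816356601051)))) (.node (.node (.node (.leaf 337037133078092140271532960579113678385558510299) (.leaf 3741442603432299861174855509006395949020337397296)) (.node (.leaf 1465126401370837306018636124989953492936346798530) (.leaf 1446699444714974580057440813068007793652759727283))) (.node (.node (.leaf 1002423021153501898432652061907326650177308090848) (.leaf 3152016694920232262988628784894155600081342393709)) (.node (.leaf 1986202104030935483638864659537046145146268238768) (.leaf 0))))) (.node (.node (.node (.node (.leaf 3440944868667459265737905740167845515045157470600) (.leaf 374604948847663460520581899709521270925945606528)) (.node (.leaf 4081298695455837876315010816816501553651833201536) (.leaf 1534137935125228626759223162499494716550471380864))) (.node (.node (.leaf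 844933950814158952868596932933658774614499655694) (.leaf 434642482388495389171337745540345366243958849600)) (.node (.leaf 3334346892070376404858423677865369647553964105902) (.leaf 0)))) (.node (.node (.node (.leaf 3959447719690821385024731528987718570410642225133) (.leaf 4007167675687499038469424223576956233048543686144)) (.node (.leaf 369301061887303333459192248461306637235618057226) (.leaf 3289926631504111987652104038989232692489977154486))) (.node (.node (.leaf 178391981354065528512013859351498891562817518910) (.leaf 2518743062385047549488154594954496879436174839126)) (.node (.leaf 2946247623218395411951430062606442899052597373446) (.leaf 0)))))) (.node (.node (.node (.node (.node (.leaf 4105730152945747844911407532680255326151682167948) (.leaf 54235532280341704023500378452366133083259535368)) (.node (.leaf 956473787029660432603537992511748486487481672369) (.leaf 2465032719145304240956192080499211097360852796305))) (.node (.node (.leaf 4056068828956248844552918695843231097129542380954) (.leaf 2780655758833330769088734058347149420864187201030)) (.node (.leaf 5231261978820628555479576812049816369474199642151) (.leaf 0))))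 (.node (.node (.node (.leaf 3182232643382695017166604482803582046807295391622) (.leaf 2656227982603105433750587926565535767740654524365)) (.node (.leaf 4261571499094392584079577404300413315690764722193) (.leaf 2080440553169846057478095869490567237667902724106))) (.node (.node (.leaf 2543721208327011741458051319249586868444623152048) (.leaf 4617677426333859995065395115500024940219968547922)) (.node (.leaf 2122995748047159552110424482481180586103646076336) (.leaf 0))))) (.node (.node (.node (.node (.leaf 5209370228084168623110676103685996067736084494762) (.leaf 79455987684539907362306395753076696198928174150)) (.node (.leaf 4806188778960369393131194340352401614118500083938) (.leaf 2080450052835716339720294894688575095127686777868))) (.node (.node (.leaf 2081619573813384858140477135146505453011249207686) (.leaf 5598600530837996931635302744671499691961289212287)) (.node (.leaf 1830534479317091727624644745062058662549664840752) (.leaf 0)))) (.node (.node (.node (.leaf 2641491937584117641298023695983512981140415060106) (.leaf 1493982862313743315363353752073527110962121539696)) (.node (.leaf 3774919153868459736278886849408363715733314174336)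 (.leaf 1444874703745305521151553291321792431988797208454))) (.node (.node (.leaf 2063278315640376939124264217338964727394968497378) (.leaf 4958143709331705616676741748640022533490671553741)) (.node (.leaf 2800674136534016766979098903895408058140339369148) (.leaf 0)))))))) (.node (.node (.node (.node (.node (.node (.node (.leaf 1442694295090604576069969898546181068159721642502) (.leaf 183045910386116940346814498634110110136715444225)) (.node (.leaf 2799986245091896639269948190956173391302154718346) (.leaf 4744673503469021485651858739625437702768241071024))) (.node (.node (.leaf 1751770998646213244589520474265603954230830837296) (.leaf 1956255933104113143025169335983094822197858150947)) (.node (.leaf 5105509745302697072626476744330672550234915700096) (.leaf 1673442838531834443193777961960912634368640152064)))) (.node (.node (.node (.leaf 3481644637435645933526037943321951043041454129335) (.leaf 1234059257521694180977590249526701877337086607792)) (.node (.leaf 2931941702987393082983714480934617485822707368449) (.leaf 2311865817992675491265100677584461956681924111460))) (.node (.node (.leaf 3416282263493948504682978663384297435959574457344)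 (.leaf 3628629321805597056778033955845828405061722505551)) (.node (.leaf 3316968947517455008578975253307481768487505862704) (.leaf 0))))) (.node (.node (.node (.node (.leaf 1898942867857883468415003677279433773472151440563) (.leaf 1242481322389098750527703854468736832327519594037)) (.node (.leaf 5412902948575792412336989566226796432871133572508) (.leaf 5151469606671495439439964201045417050272992026854))) (.node (.node (.leaf 4760743916793844487604945591178584229102817059376) (.leaf 3711967552819648409970122380866216308742863151321)) (.node (.leaf 1700697495050794749371933334741548660818841393562) (.leaf 0)))) (.node (.node (.node (.leaf 1799348686380828308083195248256729755187938853256) (.leaf 4179182361893028733036965480793084634151027447757)) (.node (.leaf 1005545141397473223006828327171663504469895179674) (.leaf 2644071942137747915502957037550137217064304899065))) (.node (.node (.leaf 2237039929149992018708451310076153470029414195584) (.leaf 2900896878372011569917650886817623257497606820870)) (.node (.leaf 2232016894428473220745266141049426647419119197744) (.leaf 0)))))) (.node (.node (.node (.node (.node (.leaf 45761216429978594184451379429624061954365591560)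 (.leaf 3256540688517395947827678226185755856929356737771)) (.node (.leaf 873684799803181139614671813979162918158940001334) (.leaf 5538636506963552765260849330739553967787956149967))) (.node (.node (.leaf 4326179616664466965095905545989752620394258979254) (.leaf 2948749670455556897100101606003394715924083302512)) (.node (.leaf 108476802736908843300832863495987357537757892992) (.leaf 0)))) (.node (.node (.node (.leaf 2476607110925154663365344265996698179056981751789) (.leaf 2951687782576135429381741945944987208731892670497)) (.node (.leaf 130363827458363800982360215977239668717406641712) (.leaf 3105787238639731135152600567368235975249501162374))) (.node (.node (.leaf 848491940785608090052062937473966428670453138486) (.leaf 3622273602588218387212985849094115516464390431081)) (.node (.leaf 3239999123409691659725112621454045670320954737536) (.leaf 0))))) (.node (.node (.node (.node (.leaf 2059755914757803114109543387268052823744763107277) (.leaf 5516957219039830253940271470484843529431181388972)) (.node (.leaf 2414116066932944716422098147601861279430861710452) (.leaf 5805055673043386369729984429746223380598383916460))) (.node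 (.node (.leaf 3055224635926276920005842014729780713390342529) (.leaf 1321987948057465221561532659740308180931980371894)) (.node (.leaf 2311250831088916879804698266072469273101067966902) (.leaf 0)))) (.node (.node (.node (.leaf 1676248243407432529722917053486710762999949320672) (.leaf 5284135219131859164328166716648261045664807528101)) (.node (.leaf 5765255204212125347799371464070330230716853939612) (.leaf 1758346794907294259312780819610381046743791655194))) (.node (.node (.leaf 1014170762324398887145073232621917610679653598214) (.leaf 4460634372685140494048535247999122925011464880240)) (.node (.leaf 3574676624840461434546633890454668985712605346218) (.leaf 0))))))) (.node (.node (.node (.node (.node (.node (.leaf 1797142338666876582367260246963618095652871172408) (.leaf 3096083595304641915893153235758046091575569012573)) (.node (.leaf 2520446023753766276102755157252517521998711906406) (.leaf 1489515409762386536708852644306655012718025030582))) (.node (.node (.leaf 3642678290132439270314748049697106246089371647360) (.leaf 2625584025473109342808502740861975090426337980288)) (.node (.leaf 211145053407390846033709252015100444681752478031)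 (.leaf 2082011074649600403103004006542336077911803297806)))) (.node (.node (.node (.leaf 2698215009364368927846129694297220561479006673462) (.leaf 340975305273238773318904183606086803755687904452)) (.node (.leaf 4859729330562180149758650445857655620969514860742) (.leaf 4440701733849196416350033151708363680238907379607))) (.node (.node (.leaf 4410206553846893532972408097200343174911558729808) (.leaf 5181330190583842730929897915246382103236042055760)) (.node (.leaf 4827683004882506464410456703940264502600222376006) (.leaf 0))))) (.node (.node (.node (.node (.leaf 2004671121781378140777385235335445495934301269467) (.leaf 5581717060752828823419330098877969793064464001506)) (.node (.leaf 1185422239759396256507078563650641514733946236179) (.leaf 5062104033046546893358335828156940431220858670550))) (.node (.node (.leaf 851006729646934404847681740205295255490313269296) (.leaf 4100712386320697689459576895207165288155452203392)) (.node (.leaf 4983521851135652069185179844965339496081394265188) (.leaf 0)))) (.node (.node (.node (.leaf 4394738721853270428124459406934864759982888066062) (.leaf 743977994439734595088634355971148300278161760352))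 (.node (.leaf 3619553069783857680350395258242630861270018671670) (.leaf 1540836817832570326527946388420218551413376745777))) (.node (.node (.leaf 414002272898654132575256418296227248036646762538) (.leaf 3918937370237187659080199176394233707772566565881)) (.node (.leaf 2971635646709855846767952970675646594891586473984) (.leaf 0)))))) (.node (.node (.node (.node (.node (.leaf 5598588385891018503514906951268509234554630963072) (.leaf 5623719730521667171239782761355624338702198535356)) (.node (.leaf 1723177343375066606564146297280383140344977598690) (.leaf 2579324167075992284312314939724002875857566987324))) (.node (.node (.leaf 1514843863525890603409011422781221554951910777216) (.leaf 2419928643443511039211059521049854992001414782976)) (.node (.leaf 494587212749749122713939721375560740664060960807) (.leaf 0)))) (.node (.node (.node (.leaf 2775855122652996999484324662502928665194226033718) (.leaf 5414849384501187764763090032805191944350075551038)) (.node (.leaf 3648542965527507807187054727859198470418522580645) (.leaf 1644491821353990448924665525054108252205314698477))) (.node (.node (.leaf 179307400847856442811520580188060068483093739501)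 (.leaf 4759174887815777006687477624352052044472875256902)) (.node (.leaf 873835642921465487646102855619022098238162796784) (.leaf 0))))) (.node (.node (.node (.node (.leaf 2882363726793981018277093837245719454774575218671) (.leaf 3956379746744504797207360718809460662402743095728)) (.node (.leaf 4033009681637327665327333554497244171610131033170) (.leaf 2885377841652520022453922499838921798581374460982))) (.node (.node (.leaf 2930119972684236442245058175221677737270724858240) (.leaf 3504850464933716721466423065476659801846914028812)) (.node (.leaf 3001946748049869102871007900579180035963742709108) (.leaf 0)))) (.node (.node (.node (.leaf 5624224011443339707252586585266061372886205860932) (.leaf 5400280513954659625062312190884764531181898198098)) (.node (.leaf 237543925639515397077082656383418927619387294337) (.leaf 1005541481038709632081974970017295532787284260268))) (.node (.node (.leaf 3793588579447478759950862228272246248400866995477) (.leaf 4318907465661749522171219573387777193047543126154)) (.node (.leaf 947938351039315640778104516245695681625353587138) (.leaf 0))))))))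

def hT22 : NT := .node (.node (.node (.node (.node (.node (.node (.node (.leaf 1716724718590031134551668355550300763839415195658) (.leaf 5203107682226668037904462375805160106475777434145)) (.node (.leaf 1471881324922397431420135977376083033666315216262) (.leaf 873032819326873009645326847984942637756689182171))) (.node (.node (.leaf 3444977541098937953168195158963714589245995277872) (.leaf 4344106886127184888805653218622443382610929934759)) (.node (.leaf 2140350137136490458670452011878441097741064167641) (.leaf 2974316973079306431256863405474945570164820534662)))) (.node (.node (.node (.leaf 2294932882959090529511724447982562843334355290502) (.leaf 3438561186328336206906888380557233852252017047478)) (.node (.leaf 3956213371189309982515624208463287010288152405108) (.leaf 2181169666124001416439215325181554681627531109169))) (.node (.node (.leaf 1262027708098203371316781540292322076630341690468) (.leaf 3577297964249003286533485380819807326430452304982)) (.node (.leaf 954904197816667850819093663929175738432375750655) (.leaf 0))))) (.node (.node (.node (.node (.leaf 998530814845404851322843412163050867672603826314) (.leaf 2017335628719550240738246839910606577685374638474))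 (.node (.leaf 239353590154115119551373477277548246170934494262) (.leaf 1532964637004741228834236068767769155042508275720))) (.node (.node (.leaf 4386203024516246922794016249183521721160006610406) (.leaf 3622818498145080505783618865308909278015134797184)) (.node (.leaf 1770791874122420602373725027457244027094513550081) (.leaf 0)))) (.node (.node (.node (.leaf 434597621264064661873125852219358947342857568320) (.leaf 2191626189417552731683190811135591036203044392855)) (.node (.leaf 5808016227645619227550964443486032445473019168834) (.leaf 5497215573032499026792293480455666974818591859249))) (.node (.node (.leaf 128854297261934110644464019217024174544289205427) (.leaf 3048941735282248400930586402097161379130660815112)) (.node (.leaf 2415525092534608006074804871941725266853607786038) (.leaf 0)))))) (.node (.node (.node (.node (.node (.leaf 5384082908989162051319711871422295918357031241654) (.leaf 2831920978078885275540056478635318201006940503088)) (.node (.leaf 1376880209760928194020329668499754720697364581254) (.leaf 255333759034404262746282134553586453267380109824))) (.node (.node (.leaf 658795509114639353965671671001942218688221045425)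 (.leaf 5391672459145275061346574705111186948062321577356)) (.node (.leaf 3341931888914632193678797862791497172224084757395) (.leaf 3720426039060988696517743312669493117057823906310)))) (.node (.node (.node (.leaf 5423052747140713118508522262719218209563292670976) (.leaf 1875503932004641635170024006443672621431675974716)) (.node (.leaf 3175476941349402348270166560975570516187460276608) (.leaf 366089730077368762257158837173303036856009490496))) (.node (.node (.leaf 3461149501028774945316554408944597967191581068493) (.leaf 3649413767649997332020039510340110077865524489684)) (.node (.leaf 2081631963606637159962828205904123371923539692810) (.leaf 0))))) (.node (.node (.node (.node (.leaf 796211366975827290606616559122951074866271039536) (.leaf 1340034515273349009015228276907242548445049744619)) (.node (.leaf 183044519313127599397113748313124284225670873600) (.leaf 295885114845886776852481134421550754279436956521))) (.node (.node (.leaf 3025904892364545641777648135163462212441665175944) (.leaf 5210466826369189345861537278762586516047761315206)) (.node (.leaf 2656234478201829161092660377179318038844816231883) (.leaf 0)))) (.node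 (.node (.node (.leaf 69356276378258433501907402079551242810385793088) (.leaf 3574683723636069807460370162205050108315073801628)) (.node (.leaf 3937169492668267418736036458251581384136029252259) (.leaf 157773069167761114513917792105994141465144315222))) (.node (.node (.leaf 5341027307952432462223145135258587590461224059215) (.leaf 1998606594895677013821107953314265827721918219782)) (.node (.leaf 4756320380178869999562814842982612358248697695300) (.leaf 0))))))) (.node (.node (.node (.node (.node (.node (.leaf 1364503991169457171115330375872097932759733912112) (.leaf 179432467054180218432117848051284543729511891086)) (.node (.leaf 3597319152102404134220991067443536910513294503194) (.leaf 4185768355587898322850772895567615633872386081553))) (.node (.node (.leaf 2863120045554272826672881375024289709617977691404) (.leaf 579272619378545168289322087250256352430305948521)) (.node (.leaf 9294532462105830523446891318371072305707125830) (.leaf 2013838113945630636496478646598207739788186968881)))) (.node (.node (.node (.leaf 4384549720377620242754269971822625189437963280480) (.leaf 2165379683423732861474459648800006277185012935094))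 (.node (.leaf 2180848396001854555939721194556897501648434233729) (.leaf 5444172289127659808850724713458170293779018796080))) (.node (.node (.leaf 109436216422237951184861362608285913382953973766) (.leaf 1748234170481963950586704096515993320454324618112)) (.node (.leaf 5545044443113806394905982466728936436296258968606) (.leaf 0))))) (.node (.node (.node (.node (.leaf 30361307716659714174484732664954175778747430838) (.leaf 3477853496066487605040926668652579931855868920321)) (.node (.leaf 5622573743026511142790741516485478972957165576422) (.leaf 1957151098987731941837924501065483751340615877521))) (.node (.node (.leaf 1961139959857587391850436079072657243432569823334) (.leaf 2492893922073240484461376347422226717078029384246)) (.node (.leaf 574803997855674622952963783388857979741756222885) (.leaf 0)))) (.node (.node (.node (.leaf 2495080447493814720567733891354044599152401259790) (.leaf 4676428149126444438851466869198736240149599217012)) (.node (.leaf 51425616947563413691818431621706617138778234913) (.leaf 5785182157704657616492320520393701570434445875206))) (.node (.node (.leaf 815630572652156825019009937059499168098149228646)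 (.leaf 2954854513291777870639209650647771913980760752257)) (.node (.leaf 3135734324821196609746136242416662004570400414646) (.leaf 0)))))) (.node (.node (.node (.node (.node (.leaf 5618738041556668280690927125002195419292522774598) (.leaf 1239573431733061558833210233956869705799164210224)) (.node (.leaf 3715565024406187165855273146037826674245547640914) (.leaf 4983518035376833106453039260605568070470943164498))) (.node (.node (.leaf 540995157455120054932640628131158876701614369939) (.leaf 5802904348049046785291716732965691025688572349075)) (.node (.leaf 1798941773631608309422194060381482099710183998081) (.leaf 0)))) (.node (.node (.node (.leaf 2281206062177846671034048592562034281954050615394) (.leaf 1444872522535497439805394341086414071833521748731)) (.node (.leaf 702459112250210091259091909573215625918816657968) (.leaf 654886189254368037976053311187572237573409407111))) (.node (.node (.leaf 2433571768331197333104124757217059485591029318852) (.leaf 2285102180812097313332214293531953152819966718000)) (.node (.leaf 2433695811723804946998439677262614314021566835796) (.leaf 0))))) (.node (.node (.node (.node (.leaf 5567736088585232816937140726107598913175373439193)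 (.leaf 3291250623616864849721573720127674634330137723910)) (.node (.leaf 3365365581812883484955192482083687551379528901504) (.leaf 811082418035909391324796978471095490297943867440))) (.node (.node (.leaf 830110009305796158211071648220118068050150881915) (.leaf 3399305701990840899502136328233725422669303933446)) (.node (.leaf 231215631805808712173934825163250099356746055864) (.leaf 0)))) (.node (.node (.node (.leaf 3397859706435167540640380508330541478404688473500) (.leaf 3461152058227384688601469047783975743542668466054)) (.node (.leaf 5786123690758016112453654615540626613630629530515) (.leaf 745727821812489045862144192778303976708441700987))) (.node (.node (.leaf 771726970305620831568610904417790819845427486256) (.leaf 2214181360339923954231141503088468524932895164342)) (.node (.leaf 5420563950459476477258959241330678230746251106253) (.leaf 0)))))))) (.node (.node (.node (.node (.node (.node (.node (.leaf 5600402733614828436979194258489834426212507167202) (.leaf 1397711475042389356827601966600505670900398130182)) (.node (.leaf 129066982253624033327050801057378695758942652342) (.leaf 5231089150685428990226330562146759618167870069774)))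 (.node (.node (.leaf 2139032930594971155608430658500090472317171256790) (.leaf 3642470193860787428226660554368942518500996095374)) (.node (.leaf 4034258549846729779363591630133136885276591284710) (.leaf 2013837436006454393294668783420758513861371560113)))) (.node (.node (.node (.leaf 47369925139362690896883213914303014926221870086) (.leaf 704884540709187388212885555327690953606050898399)) (.node (.leaf 2675232660608220898579327319852393553094857547038) (.leaf 2928851917334659618536364186441207917673684951601))) (.node (.node (.leaf 2800665200804316665922361841198317521450811357574) (.leaf 3058986813556544740445109412875193084083264691584)) (.node (.leaf 1219988615518398943685811762525888357019268681100) (.leaf 0))))) (.node (.node (.node (.node (.leaf 817392325027291196011687946739498373437171699084) (.leaf 3607895876814060228385659773069430298585414485046)) (.node (.leaf 3361293901445292140026789650522155728428408644257) (.leaf 2720550061128390474277332529654189232348298215863))) (.node (.node (.leaf 214862979053706707723947682586766379481912615008) (.leaf 2599147252570344449990560333795542187452721669040)) (.node (.leaf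 3931765328500034088847489675473111691799547047187) (.leaf 0)))) (.node (.node (.node (.leaf 2678608551921341713156176808643813164794292367232) (.leaf 5201311853880326627124375147824145874441095638484)) (.node (.leaf 2675224816166756254966900068501930683629199048112) (.leaf 2974635163380053690242921229825148653225001025800))) (.node (.node (.leaf 3436901747333952433160565664962517524982530783658) (.leaf 4799915082820995708937908037025320913773089580148)) (.node (.leaf 4640063342891607449660940029124968021685117173840) (.leaf 0)))))) (.node (.node (.node (.node (.node (.leaf 5203073606200593050099752006206475590863025889766) (.leaf 2649590088109922228204754460790934517953232434694)) (.node (.leaf 3924991251913918372711639246241318304449971939334) (.leaf 4909217438530307445033805971036149399069329820998))) (.node (.node (.leaf 5725894180352611932458687373099413296477961457036) (.leaf 3973913800612802497753326576469503708945037353296)) (.node (.leaf 4741887326656856635691966593201711417610531414240) (.leaf 0)))) (.node (.node (.node (.leaf 3960647796674736727638048147818639279757141951024) (.leaf 5628374095646885020545939374987092112382730623926))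 (.node (.leaf 3460258284113029989471111483778573315293856786822) (.leaf 1750655867271653802791925406379482836617471098240))) (.node (.node (.leaf 4599881504430018306780938501850865100853333159252) (.leaf 4109077796267144657094953385546429745225350278565)) (.node (.leaf 1469785906902737592008508085578241109780219871312) (.leaf 0))))) (.node (.node (.node (.node (.leaf 5493920374154133534810059340466754397147013079120) (.leaf 1828575149602153958769465298699875692349421500397)) (.node (.leaf 313877243126953704217447890845484110524062731590) (.leaf 2862584841961325962875688423861676520931821576366))) (.node (.node (.leaf 374586351749136457433582370077562015687863369864) (.leaf 5417349320643851969446102611095609329722970763136)) (.node (.leaf 4120788447269151124293644101319659812357781866038) (.leaf 0)))) (.node (.node (.node (.leaf 4114884530906469561991013425957469714520430083584) (.leaf 1317577750523539730262195309550344924945816158385)) (.node (.leaf 579270371026666121769029608648841634591848715184) (.leaf 365509912573884627158428595956790493693140533312))) (.node (.node (.leaf 4573600588313697124487849956370224978543833187201)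 (.leaf 4107226811595453912601020445953005791429714775499)) (.node (.leaf 312357743499092913428106825278860077133476741905) (.leaf 0))))))) (.node (.node (.node (.node (.node (.node (.leaf 2931929172428848323310041073496314911688132395009) (.leaf 956706406958389865037322038593364858424571989117)) (.node (.leaf 2469106026301460265586931326918197841082296634246) (.leaf 5263107321427593932863536257169364237499862548815))) (.node (.node (.leaf 4777544252187879047623806506693762736597622994358) (.leaf 2640822392526727351786546482618594811840732265211)) (.node (.leaf 2860568189495524008381626343742904661829388052962) (.leaf 208204987000018507841471313649025715499436169498)))) (.node (.node (.node (.leaf 4701705826399970429621926231317996420437307949697) (.leaf 2281202090251898744691767001473765217564693130324)) (.node (.leaf 4241918967605838820214229471043979028351423619632) (.leaf 3283948908487814922627716724799541821696860961194))) (.node (.node (.leaf 875692645474033957189566235705562797033218919959) (.leaf 3471409220349868806438587135016315490473073081728)) (.node (.leaf 4056392110150452862639914342341491738869439751040)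 (.leaf 0))))) (.node (.node (.node (.node (.leaf 1567118380385135953077014978297939739639064101760) (.leaf 4620438757810601174494099420954069008392217740342)) (.node (.leaf 183179978981681728655353898383059992316524823425) (.leaf 3540940769831934804088882588711268981862008824368))) (.node (.node (.leaf 4929776210201025655799557995813172154340054335871) (.leaf 155600706585236626809686766783738072193767070750)) (.node (.leaf 4076554592845891623415621690522319577275923704355) (.leaf 0)))) (.node (.node (.node (.leaf 2519330988310653397591796861436243268770692882833) (.leaf 188442704684735401095711912850688988412316508199)) (.node (.leaf 239333121255194750146095510279341811992803175508) (.leaf 1905002559610402406863972019923435172427161581494))) (.node (.node (.leaf 75488300082403546437363651663472605939392577934) (.leaf 2118339155729475730297511094936426274462114709768)) (.node (.leaf 1594098573779785371811843352982218875325082551350) (.leaf 0)))))) (.node (.node (.node (.node (.node (.leaf 2286166018055813737430163692407297708698087883972) (.leaf 1370965230352793974002163795573545036972242535430)) (.node (.leaf 1773212263711114714903565131649780503463060070823)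 (.leaf 3256899145424057124315722962766813507637474128256))) (.node (.node (.leaf 4108386477056888622372218845458536160267809025171) (.leaf 2165724875336162407018840404044269371091129036599)) (.node (.leaf 3397208816888447078530397830037534305463331075510) (.leaf 0)))) (.node (.node (.node (.leaf 3105735768673411585339477704821202168410547694115) (.leaf 957389990489128583852984345738776681224140005472)) (.node (.leaf 5257398341609544158582455042863368699047759249585) (.leaf 894062603333645200552126284640811771653148601619))) (.node (.node (.leaf 2994817546518767424140289114833521901840278159617) (.leaf 4497854425312861230635859667459594670293809037617)) (.node (.leaf 5765234163256093316145014420103523072092149863478) (.leaf 0))))) (.node (.node (.node (.node (.leaf 1380391572388784258255662945330956047014973859060) (.leaf 1186084697559442915833451797305795881894837767703)) (.node (.leaf 2316085037878537510949193896575221757648882269374) (.leaf 3081902169203507568270684779346030068058114976994))) (.node (.node (.leaf 5316490615540820699159111639138770883440885189558) (.leaf 2538264465072458493612137543272486709664867093709))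 (.node (.leaf 4908345025255987851788416949540470774098110123146) (.leaf 0)))) (.node (.node (.node (.leaf 4512082507649165229565125699037810958478754644303) (.leaf 5358387060385455392565953925716121037562108357046)) (.node (.leaf 2409254286352140499512640746174408481779403132274) (.leaf 1612845841575792943619022150269726512848759573139))) (.node (.node (.leaf 5620869139380818703551161268144852784139276815744) (.leaf 1820256892007205665289516294451665125141409929734)) (.node (.leaf 972113358054963195541131130842204503722479894576) (.leaf 0))))))))

def hT23 : NT := .node (.node (.node (.node (.node (.node (.node (.node (.leaf 4440697310474968902335475977050909147628494152103) (.leaf 4112063639417829131609114638554622304235975290416)) (.node (.leaf 4392990116879156818006012251386913263620269337718) (.leaf 817309693267483822470239733033282902950366964230))) (.node (.node (.leaf 894116807240025138301253727923395839272785925981) (.leaf 5417719878984967802540314938657137544937249988654)) (.node (.leaf 3235770078012782634783963413553082816050865775536) (.leaf 10524862832463239268465024046504277146857434230)))) (.node (.node (.node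 (.leaf 1771339031981804720656065056068442034089743289549) (.leaf 3649458368727270396547823684291015852878058226062)) (.node (.leaf 3999203044570961295893256318096146796643775611063) (.leaf 5069405044441825247689278228318920461725402115558))) (.node (.node (.leaf 3620266533934157442252657503868485460921170813352) (.leaf 4535597677560370148133406718890841485682018166565)) (.node (.leaf 1750465329284735485278274950377309159310091551103) (.leaf 0))))) (.node (.node (.node (.node (.leaf 1906265937482920084462730966436087412899674960745) (.leaf 4102724648381999705262274725312262861305480489507)) (.node (.leaf 3902599999942705004995662729095182649204003086384) (.leaf 1176189699536187448033126980187462745181734044087))) (.node (.node (.leaf 926662873487719693369401080945605601352394268672) (.leaf 2994125371493481673707660359094959081419327947281)) (.node (.leaf 4517635382902114469164502937813073723528895791609) (.leaf 0)))) (.node (.node (.node (.leaf 3496717749085976869843935603908769953562021975901) (.leaf 1461702757831702485686692901854637823759584199297)) (.node (.leaf 3500265906876694852918339932446423130941630647562) (.leaf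 5160056920989216260678586558850190592177336155903))) (.node (.node (.leaf 5802916597791416376623684307946949427899976198070) (.leaf 151947546694834952827455211035082200327257503670)) (.node (.leaf 5358391301409334560064770731451577382154479977812) (.leaf 0)))))) (.node (.node (.node (.node (.node (.leaf 2596065885620193431814383391477843042775068675398) (.leaf 3579676870057601195694569458648338048140792634638)) (.node (.leaf 521110183088180768285149437300848734619190478930) (.leaf 5263107750340064195545440001216654588430614699727))) (.node (.node (.leaf 107713021919433863056830873164561309353190293688) (.leaf 5603781117470867624569496812044557259124747015174)) (.node (.leaf 5309871854603402820683224700977507621556220374064) (.leaf 3741449295013364729742514461035244252247963230687)))) (.node (.node (.node (.leaf 4056381064328948166899991514346557599164544516401) (.leaf 2923209568209584102470921234406089561168744743048)) (.node (.leaf 875336530469995488962193504170513318984617015277) (.leaf 5058210636570035009411367898390106178530507016274))) (.node (.node (.leaf 4775935456368882770374053895033779049695462858800) (.leaf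 79435556121390542794122310550015031966850351174)) (.node (.leaf 1367553824100153182512743804855414397227214073253) (.leaf 0))))) (.node (.node (.node (.node (.leaf 3924992675889246754949835931705182204197280212084) (.leaf 1243462586824163903886659803251176793740590773766)) (.node (.leaf 1397714765490602293393862211003176293290240608706) (.leaf 312346221360037611313647376305802322505407619233))) (.node (.node (.leaf 4085711635479414132730281342226999652851861272502) (.leaf 1107544216431874703131529752625950947421488964145)) (.node (.leaf 854362228759095970748186568165241214021130030080) (.leaf 0)))) (.node (.node (.node (.leaf 654538985052621311023852304275763545946859595573) (.leaf 5035438308865611071616453533524031803949666205960)) (.node (.leaf 1830501614998085425037619906511161270457160368326) (.leaf 5175611633497247098199657130880413559250292730758))) (.node (.node (.leaf 2442196755747321532309283457684329892374635588066) (.leaf 2831905328745710041925296413159692313378493324318)) (.node (.leaf 3771367072798236588924826976010764779647126280582) (.leaf 0))))))) (.node (.node (.node (.node (.node (.node (.leaf 2535127097955308884480646651950526919897231330179)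 (.leaf 1649903932456385193994605723905401314723036660225)) (.node (.leaf 5362162454579159160939254333717527645105944415158) (.leaf 699688476627075345921371542042039682377689558293))) (.node (.node (.leaf 3541881062240206273768861709895498082956069593600) (.leaf 3461107630630581826045064467113897960722496462896)) (.node (.leaf 1198758126080150425194755826743440925136729173020) (.leaf 1986139011592780957664722975552879987550839398446)))) (.node (.node (.node (.leaf 1032127817914032024290342144397858195761338974398) (.leaf 977516630604121333303575958426506026941352561750)) (.node (.leaf 2114905641572486641393981333769672783864892384128) (.leaf 558699615371125146227496372425595526942845602886))) (.node (.node (.leaf 725494904272185365289010267100915788931927536828) (.leaf 3216575312039024343371883884979236814019203691008)) (.node (.leaf 4143889479521462015227495219674825855996088221838) (.leaf 0))))) (.node (.node (.node (.node (.leaf 926307452638859337985047092239215686409064595504) (.leaf 4324976941386824203540534241071287653025396862000)) (.node (.leaf 856122819533311286025441418225889115828914584960) (.leaf 3134599888654227210157728171613365496758861589525)))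 (.node (.node (.leaf 704021739603931017005981920565731123344678914950) (.leaf 725405614231372947350919477446955410752310698801)) (.node (.leaf 4135368922910563151891166483545607833934250468224) (.leaf 0)))) (.node (.node (.node (.leaf 1588516123878584188135915672023526382426468412844) (.leaf 5569851583312774189187995885302856889564167087009)) (.node (.leaf 159426020649372515388451973011477970582608993206) (.leaf 5519284892321181383096925100192296290038034604976))) (.node (.node (.leaf 26649588705498994314418704027656816606902774805) (.leaf 4259563248477255271240819450423394202181385148854)) (.node (.leaf 72781226521480631381479101278380005738703712183) (.leaf 0)))))) (.node (.node (.node (.node (.node (.leaf 251241853496325906938682311853131469227872682113) (.leaf 4694817046642148752954626164824867406809002699270)) (.node (.leaf 1929695745613993857859797672470402971013575109653) (.leaf 5747468468584200351995690545268688669045605444022))) (.node (.node (.leaf 2043693645957731225988703887550748553761687631878) (.leaf 3481658386541317414716577450381027197146612461367)) (.node (.leaf 4300417316423105000675741290058105550437256249327)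 (.leaf 0)))) (.node (.node (.node (.leaf 2160254528640476836667053180353734017792771883007) (.leaf 4960083853492825151619772283161252679557518745696)) (.node (.leaf 5674781644218469173045671513379423793548220473440) (.leaf 337194240107452371310231383773779339347032014847))) (.node (.node (.leaf 1177594641359146449016461640607629947994039872805) (.leaf 4341787616103659989307136990596059737014776827250)) (.node (.leaf 2882350917779185000394682728825192672853377146416) (.leaf 0))))) (.node (.node (.node (.node (.leaf 3478723217611214790747004841315413872754534907953) (.leaf 1757386773897629009068566642404449658982588617868)) (.node (.leaf 2956675451137488159757655607138911335947187545653) (.leaf 4751780230787868824663853904619121312522431987006))) (.node (.node (.leaf 494597492892606642021198946956279451150956375600) (.leaf 5618827244375177428288500514048482493773646425170)) (.node (.leaf 5714576856793037655981528133594576349404070400) (.leaf 0)))) (.node (.node (.node (.leaf 1117820492920037467546584518988471849855489856432) (.leaf 3501315012839860239188445072564978374421194353315)) (.node (.leaf 4779709543860602483922153831045671876544659762224)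 (.leaf 3583518499672347073634063542735125339717923816502))) (.node (.node (.leaf 3158126970511738842442513323892812488850101121192) (.leaf 495189335273291118561045574812403772574182629649)) (.node (.leaf 4535351106201994269979527250031121892430486651793) (.leaf 0)))))))) (.node (.node (.node (.node (.node (.node (.node (.leaf 656045835321740125626973665946631197455488847170) (.leaf 517279312901453599459512307425615004740405494656)) (.node (.leaf 1037650097185728812691857609170298858655944567302) (.leaf 4158045175113664112588324955148839459972018916438))) (.node (.node (.leaf 4987021299522053648684906461795247145235369007947) (.leaf 2466701134872487226015710727410238350079559429402)) (.node (.leaf 412119256325064256098423472312732015896624304128) (.leaf 1464367304877640180638797919590975070570786328584)))) (.node (.node (.node (.leaf 851696963797133248514793482377825091331986399104) (.leaf 5438994708853318196100231837633143266287780064482)) (.node (.leaf 603906400900911950786353677034779606039273082035) (.leaf 2861291402427183041491644053285045180605961076750))) (.node (.node (.leaf 1364175141181960002918621135638209688337893759370)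 (.leaf 656874683219831825937592946085326791341544927544)) (.node (.leaf 4592725412125604556258120806538795431749108634630) (.leaf 0))))) (.node (.node (.node (.node (.leaf 4960588070478015687264468291699320154231218639878) (.leaf 2643357621403595401493808683501292563177266915554)) (.node (.leaf 5379741512710254430544982987253537080104675729831) (.leaf 4900276381539821709883707634062593040508827068806))) (.node (.node (.leaf 365376106232342411633635902357546917237400567808) (.leaf 4932987039218972025029930368843339268104769552432)) (.node (.leaf 3478187993536469317247116982821797844808796668222) (.leaf 0)))) (.node (.node (.node (.leaf 1797341589197971079784604241345009914143995292907) (.leaf 1882707764399885071699579568564302782694592897041)) (.node (.leaf 517278897587176550565944348563967168450759099009) (.leaf 4394735385326005390711951208974078365881193201678))) (.node (.node (.leaf 2518751173358042971765446361264208601384132501734) (.leaf 872475303404917159246531382718406458558674657704)) (.node (.leaf 2141286794572712873319389762406527251731618688365) (.leaf 0)))))) (.node (.node (.node (.node (.node (.leaf 4783036833100458071792801426216100145709571116083)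 (.leaf 1540845751011333598695107005145816856701065388721)) (.node (.leaf 5564785611957307851406426533484395264512285830967) (.leaf 2799975191069090257540570398200956326708383126796))) (.node (.node (.leaf 5235203436009602803505076110569595686255413957638) (.leaf 4108435876447381731890746181666404907920348997638)) (.node (.leaf 999280067600561859158133371834737898625490606939) (.leaf 0)))) (.node (.node (.node (.leaf 5606072523841172779272207416148363576738341402028) (.leaf 77446603477125177922719801166118808037022695936)) (.node (.leaf 189474799821457042314003134779998030317826867713) (.leaf 2473115911763284674962059266405589143225874060556))) (.node (.node (.leaf 4697149191662149824045519139692185593634668786608) (.leaf 5520311166489876024760585502234623162784445167110)) (.node (.leaf 4934579833876436591568830127545870785552801275278) (.leaf 0))))) (.node (.node (.node (.node (.leaf 206282767335902934842024535033301313446989824064) (.leaf 4556238065482623744453234455942794130854531760385)) (.node (.leaf 5130261405984362877849854870511887687577984589857) (.leaf 1823433671957929386621477725565508755593731702974))) (.node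 (.node (.leaf 179307374366738438684721659294158238984420186678) (.leaf 1370965847651338030472841937060740778042605177924)) (.node (.leaf 5035419187524568229648817231063686156715650060424) (.leaf 0)))) (.node (.node (.node (.leaf 1298711131059578331055698660013031937409210671505) (.leaf 4592723003311705122841843963721500686136667540492)) (.node (.leaf 3938172234056526757260199151577972255181773838) (.leaf 1715109656832544252569077815378119333646310052876))) (.node (.node (.leaf 394679470543600788691782544986853494482526757200) (.leaf 77936260785641985611309912250359244508528151552)) (.node (.leaf 2702530910977204374173849911416070787633203601638) (.leaf 0))))))) (.node (.node (.node (.node (.node (.node (.leaf 1691326284623371506662079272424224266947000501254) (.leaf 4775677592282127656715340581331058558812229733442)) (.node (.leaf 2954162619637423646596287167887728852851627147824) (.leaf 5332307794969250971912127032047359719252501297542))) (.node (.node (.leaf 3184521950003615897405333555620461216594488937363) (.leaf 5389891409356608272545473455575192992216085364479)) (.node (.leaf 5827853669146111853300948377782395008175607606612)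 (.leaf 4410033907571012231622813360681289688485762198949)))) (.node (.node (.node (.leaf 5201263054472249503919298543929015596690490729008) (.leaf 4038464441129075761607054201276103157025812766256)) (.node (.leaf 4576131034093962329806048399190718913776097165313) (.leaf 853497469645607115858262117292446429269836169230))) (.node (.node (.leaf 4316966950140172085281786102934047839219262385324) (.leaf 2112474284614650717134375123225526703715126570496)) (.node (.leaf 996878643191051238583406866472942039246671278392) (.leaf 0))))) (.node (.node (.node (.node (.leaf 1796806366550129953824346693891969673535067021729) (.leaf 4053428241175831514087314205913584626830352564207)) (.node (.leaf 3255180337815074527647877790156651290871910567178) (.leaf 2780642318105005699613432199022585485848742001275))) (.node (.node (.leaf 368599982220074308865461813166509718135810036742) (.leaf 4030891117564064487590761323149907932063421628558)) (.node (.leaf 1517688471515901513124027002810448264886317482096) (.leaf 0)))) (.node (.node (.node (.leaf 2931672787364545035533536460686311150939627851784) (.leaf 3254890429063277423422435648896029323255208214920))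 (.node (.leaf 2821415239571812355315501805861395906047324446256) (.leaf 3481296720495264057904215582184421000786472868864))) (.node (.node (.leaf 3101192462175571868779212616800323957822266736824) (.leaf 3500460264515649760188640322695215537423569134128)) (.node (.leaf 4775144895544696276169838221965130798188185581062) (.leaf 0)))))) (.node (.node (.node (.node (.node (.leaf 4592709931678407469417013991048842811451276269578) (.leaf 2414145381011673205217173211384576376417499062144)) (.node (.leaf 1998549775642990116066453994411559683723466519724) (.leaf 2455067160758900196092721803771729435696169054520))) (.node (.node (.leaf 3751099776287165635123399892746352819654953564166) (.leaf 4344374492572229950228147061085472768261629676612)) (.node (.leaf 3316924519927189258192899428032176116957302079920) (.leaf 0)))) (.node (.node (.node (.leaf 1196343850525544934179307191885310139583733191734) (.leaf 2753745354112345862523936165246096745952204241322)) (.node (.leaf 1827680680657525851034066039740055518045992925226) (.leaf 548466619809061292205216668061615889821609492544))) (.node (.node (.leaf 4316810846036646954694389633985277104946284093919)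 (.leaf 999886895473250768936177275293981745169551749504)) (.node (.leaf 3720269802736676556842054697975669456987709645744) (.leaf 0))))) (.node (.node (.node (.node (.leaf 182689101185199385585602518746035535111414349825) (.leaf 2396520370711025218532617654618041029758318570603)) (.node (.leaf 797410704543641420287784452823848057967897149638) (.leaf 3105780283098468307907501445711064816528976119429))) (.node (.node (.leaf 3027043921762743240568546133501458285941839199616) (.leaf 1108994460406934504182597463338616561711291834928)) (.node (.leaf 5802650292956741162353594079742657572051302206512) (.leaf 0)))) (.node (.node (.node (.leaf 1802352928004580751193731191488228472622139707776) (.leaf 1116022035373780618330333633147867936493088211079)) (.node (.leaf 4347273557065455571568803618690463567795854533009) (.leaf 1751558074328703255342806537125534045522762861836))) (.node (.node (.leaf 3983199624694034776356547201831166086341953619012) (.leaf 4900495194252064304631640476221186984798997668057)) (.node (.leaf 5729703327309656639302398478759039081331728678206) (.leaf 0))))))))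

def hT24 : NT := .node (.node (.node (.node (.node (.node (.node (.node (.leaf 4820704751506231611887828637731852783157270818352) (.leaf 1850483278422090596028346947283128643048726859204)) (.node (.leaf 56196789212941721074237841627407458831833396412) (.leaf 437866248405193836260622104416542609932878877708))) (.node (.node (.leaf 4344379969055500143004139278807706465019431258178) (.leaf 2615848451433205436320150604743601849795355745664)) (.node (.leaf 418853401839013430159815387273362724258625380831) (.leaf 4460991183247187553586045737579705985152194904369)))) (.node (.node (.node (.leaf 4082890743990757820879034546439669648793448826806) (.leaf 372362919322719415820496181188440044552249628726)) (.node (.leaf 2948744116698904858989452656453881597423089352816) (.leaf 3983190922865534294648764664840196352319482498114))) (.node (.node (.leaf 2696966783712158162770969786211448629336410095359) (.leaf 5214224024213193213651991548195134085153223544180)) (.node (.leaf 5909709132302462813116111002653324075140120968) (.leaf 0))))) (.node (.node (.node (.node (.leaf 3895860886363150054756632219778587386671400706209) (.leaf 3002258087402365885364246791957654108987640537649))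 (.node (.leaf 2910558141176642891700823893668403110342354987250) (.leaf 2081219725320159993309214793982637251559027566982))) (.node (.node (.leaf 853415812839379751401004096155720047242273571729) (.leaf 4721682609228572868644424179058414793484737421360)) (.node (.leaf 2643372368795152411981347000048690654328554112438) (.leaf 0)))) (.node (.node (.node (.leaf 5438548696841892709827839360163549927734812085373) (.leaf 1219132137444881715988261123919935592657736555355)) (.node (.leaf 4775128719347729627316165532315489134887974009467) (.leaf 4390264286340065860452584279203871863186623357040))) (.node (.node (.leaf 5358399509189500613526451636371341931124061072610) (.leaf 3280157366739764474541727014839026175965877764481)) (.node (.leaf 817395971036919149608979382448524137171180525962) (.leaf 0)))))) (.node (.node (.node (.node (.node (.leaf 4717078792653161538457480260430114969765657685478) (.leaf 4613110452828032774461197047751797854035106718064)) (.node (.leaf 1796807174135558116870998179601454869803101799313) (.leaf 4103202554716796579305812845671659578064320740784))) (.node (.node (.leaf 4036912310267591525871357273871001161134934786232)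 (.leaf 2947806244398411456243045734176889788840517447848)) (.node (.leaf 3392592910533075796572800881957003334657818101381) (.leaf 70674590158405586772453558086757564057760526263)))) (.node (.node (.node (.leaf 996880097238912006430919467615705795980865991040) (.leaf 3342871938916067908031948684125059821257835928118)) (.node (.leaf 4721676143523689279561830148993516297811371737552) (.leaf 1320435198516646666134704443372620005916682321280))) (.node (.node (.leaf 1802812128924841335037098165903564293514575931634) (.leaf 3712544831215191543603013463656070922491267142710)) (.node (.leaf 5413991338781485950887172242794751205639232512896) (.leaf 0))))) (.node (.node (.node (.node (.leaf 5573516702200741089023927948148221131822709181766) (.leaf 4392951166458011195165391680649181810592847764480)) (.node (.leaf 3157428808977806972602429716345000693165825264518) (.leaf 3235756501861836724351353429010005847648723230881))) (.node (.node (.leaf 3106968790757024822320738498673736705714135905718) (.leaf 2490674607719427667406849656774681871316253106456)) (.node (.leaf 1510753551965333539699216347513282035571681933354) (.leaf 0)))) (.node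 (.node (.node (.leaf 848836603661329662675179588485976198600504339749) (.leaf 867769826615027195863657007227599035074502197318)) (.node (.leaf 5135613575239388689520802010187559145889093411286) (.leaf 2083094823241730211795837935805706325816384231814))) (.node (.node (.leaf 3691361771382240902098856809004035056739196562772) (.leaf 338148085121075177794825634857215198383277567148)) (.node (.leaf 928574785856253582872782613106121698075435514806) (.leaf 0))))))) (.node (.node (.node (.node (.node (.node (.leaf 2762164084353152491232772947447959857146487398446) (.leaf 1109240248544126839650544264035614788063773827120)) (.node (.leaf 3156744480975598776086755052684747849724526030043) (.leaf 1109710909871665255676057378432601472244102725681))) (.node (.node (.leaf 2859527763868923498221263783054850835085742411078) (.leaf 5517996644755555872175616316175649680333937311743)) (.node (.leaf 1634793899145699976738558253346632737696155114496) (.leaf 3420450156796053298093064623127287469584876074044)))) (.node (.node (.node (.leaf 3540133597895534514941927008886584925756060192086) (.leaf 957391282097734532629023087809510503945507749936))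 (.node (.leaf 2389783122509190139569276944460128602036439377461) (.leaf 4113290490010713944852447781449252989333475293062))) (.node (.node (.leaf 3973905092245746428029669705903380766915334152416) (.leaf 594807570926344128439846012199090837556443615368)) (.node (.leaf 2861294862817104698482845083050177485792979196928) (.leaf 0))))) (.node (.node (.node (.node (.leaf 2597730470809170710239527837817517285217231797566) (.leaf 3157435691018994985320509681661753830353169155717)) (.node (.leaf 1758333963964989534234893010855944065073337742774) (.leaf 4623029597014750487649203193576514977871372225661))) (.node (.node (.leaf 4032162254105771314130998846094590730056485834117) (.leaf 2330085464123717306781310366480867333465382022381)) (.node (.leaf 1461713887191844824442845569885537723278416216960) (.leaf 0)))) (.node (.node (.node (.leaf 4635852430312175528909904347436054616054635364864) (.leaf 390932943308548205449624978424033689630567067034)) (.node (.leaf 1190425023676314917408613681627090501396241514239) (.leaf 5679151735612538070935876405781341145291123027226))) (.node (.node (.leaf 70452287856426196420898255645332270602822934528)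 (.leaf 541007936224888121638331183280363114067600942885)) (.node (.leaf 4135365622363297128433570868679610629998979998385) (.leaf 0)))))) (.node (.node (.node (.node (.node (.leaf 1342179859471593567869992177750416626148402000384) (.leaf 1820336507856283138639921766673997734847101153448)) (.node (.leaf 5207736751243225964928362974715458669787835843638) (.leaf 2856206819761351756311117146271846248281844744206))) (.node (.node (.leaf 4345749542665483608645269108699306768918903988784) (.leaf 47366876039048066846166157442773308996461792324)) (.node (.leaf 5700449127146633784178337377782993946618952441952) (.leaf 0)))) (.node (.node (.node (.leaf 4180529678554393438797515682938876481933604749695) (.leaf 5316887937534614047229619690593192016576688022918)) (.node (.leaf 4988428990537325004279045624619551212870564526506) (.leaf 702548228274443738463089278724751322018910977456))) (.node (.node (.leaf 5763103724718576647960778440149323124953673962886) (.leaf 5571417513764679079580235718844674411130473964032)) (.node (.leaf 521325717854437051851150525967322448439213034621) (.leaf 0))))) (.node (.node (.node (.node (.leaf 72579892334970065737111115428244455048129289216)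 (.leaf 3128885162096781298989214622248159298019704196631)) (.node (.leaf 1110736773998367412061999443210725050309454332343) (.leaf 2656702795912897482138244648072754222003383700492))) (.node (.node (.leaf 3397213302578678271581572075734496798433489017114) (.leaf 231315895343437385925614567384583224379144613936)) (.node (.leaf 795164087806213720103401235300969639218373489724) (.leaf 0)))) (.node (.node (.node (.leaf 2928846342658747190183742222304152600025632367104) (.leaf 1495599150416824004220215567792539309656821340298)) (.node (.leaf 744335506069857215166874053139523146795810038305) (.leaf 2519333583195868233405819321602810279372910182960))) (.node (.node (.leaf 659145625725491198615651962605797134868240141701) (.leaf 5522659658302873445603660578915839818338022665776)) (.node (.leaf 4384566272057375210308761140156491176476748046416) (.leaf 0)))))))) (.node (.node (.node (.node (.node (.node (.node (.leaf 4107217857116500636352856689163524992563486366214) (.leaf 4007174537717669393293144829802613969852445716407)) (.node (.leaf 4496947963317657918975840134386430895072724310966) (.leaf 495200879447941548982147966163413074339043558320)))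 (.node (.node (.leaf 3584339961258238887538437863059370923839344569621) (.leaf 2882654202695359891499611768810649332619937750735)) (.node (.leaf 5210469977147236950642960555521200988132269234314) (.leaf 3025966218914034108262556631545907168818538090632)))) (.node (.node (.node (.leaf 374604216963736564377768900406589430811900055816) (.leaf 722747618826826314068832905043641228317479600318)) (.node (.leaf 2599138074623178451740170090864575552358747030289) (.leaf 3344114634686629721045831002154641003758474494457))) (.node (.node (.leaf 1029115503317829606648447473246431374967190949190) (.leaf 4558388865285007498035583389859342661050941925173)) (.node (.leaf 1746995976872008925767917483349416650249775042455) (.leaf 0))))) (.node (.node (.node (.node (.leaf 3316605211554288973328163919352445173451298987038) (.leaf 1319589768831909166095290971171384954266956591616)) (.node (.leaf 358208443339561656580045618941871271510540800) (.leaf 5261858484516160665646986870085199398228995039449))) (.node (.node (.leaf 3216423384042872278439743487043975781450236352093) (.leaf 56777044127975409704570734860573842384478082316)) (.node (.leaf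 4638901352155474721580177331010645842922037773185) (.leaf 0)))) (.node (.node (.node (.leaf 4339846321851061169150739283408014437859136435718) (.leaf 52301911769548645542588939542173577687943821738)) (.node (.leaf 1537670134877183185565538219508160372097947733362) (.leaf 1109710916763712413820832882287842987021616308785))) (.node (.node (.leaf 1773212114770453822242560001775916511620966338455) (.leaf 5067689670131891906365096512162668717681211140102)) (.node (.leaf 1030522170376814102851352212685570009404891229612) (.leaf 0)))))) (.node (.node (.node (.node (.node (.leaf 1342892787775967932880004389721408766623529914800) (.leaf 1797140884681653412191236196253875165169261412536)) (.node (.leaf 1517698448299520251351674893837279757520638632048) (.leaf 1780020941720002095489518325064522964301165992779))) (.node (.node (.leaf 3284030925725520384269797740462003574623818952752) (.leaf 1009858481136454536731419590726660570095034731904)) (.node (.leaf 1861009228113076806479791002246752142354311023626) (.leaf 0)))) (.node (.node (.node (.leaf 4777123634238220125681966322825507180870554953509) (.leaf 108677118204044260436061048439264523084005773696))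 (.node (.leaf 2968814755236849105979400561602583026222120321584) (.leaf 2234129354781341603145553138943290189238326566960))) (.node (.node (.leaf 258271784377797739652057722971799549720642401334) (.leaf 1748547496100469522215752942840742066055830069350)) (.node (.leaf 3956214254564539937362391600847410770730085050374) (.leaf 0))))) (.node (.node (.node (.node (.leaf 1300294509289569973875726953761528455322050784363) (.leaf 390937466060144329254322776546945309612571309484)) (.node (.leaf 2439689315665819654521065166568892002207849309300) (.leaf 2858634688741482991572228704470101823935520889563))) (.node (.node (.leaf 3176369292195626761850380479290389396523603681641) (.leaf 4441510886559993053530488951846146737767608555910)) (.node (.leaf 5178475716976503009229271729199975601829402861904) (.leaf 0)))) (.node (.node (.node (.leaf 3580095443228361297750808417163208336802001672246) (.leaf 4326177164974989299641409202862386100753057672474)) (.node (.leaf 4261683003244726719466490234142246567808616824967) (.leaf 5744942838089675411700397712323043558902132616678))) (.node (.node (.leaf 71418245744900416818435247474419314491356614656)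 (.leaf 1196340688384770292635521705710889289536205240362)) (.node (.leaf 520127817790945586591508226511392084630443462920) (.leaf 0))))))) (.node (.node (.node (.node (.node (.node (.leaf 316956996314842656103389665695212026341642318768) (.leaf 2640824594524621205244305926051862292494763363709)) (.node (.leaf 4179339468905038920654500793649238700348426822305) (.leaf 2255912891326246554522524714687185242995393519777))) (.node (.node (.leaf 3581950024400339436270021339552307874198842813488) (.leaf 5377869347547765940561721971427874948927872101494)) (.node (.leaf 2081228701561836972020763176334127694436326565236) (.leaf 1081457143878543301373767539214580006703418532001)))) (.node (.node (.node (.leaf 811079676954733705240180779503522681663213576288) (.leaf 3793585271016490099412125455277030204875970849443)) (.node (.leaf 5802314607220607232021667640921970195185787438086) (.leaf 2515425695895852861069004837681199302991498577541))) (.node (.node (.leaf 2569649955726641117792716153396391289043968167238) (.leaf 3209173813784570697633345573457211839656115334554)) (.node (.leaf 3342334870381524463890436563500810694743678349624)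 (.leaf 0))))) (.node (.node (.node (.node (.leaf 4591988397180776049277417490224416746184456585264) (.leaf 4900258767485356365215372522572344232983139116276)) (.node (.leaf 4829363527856285017858905885218579548221113928704) (.leaf 1594782648571881501714479152409827889845125778483))) (.node (.node (.leaf 2923450781407915483329812679464002265303887712007) (.leaf 5545658175252863763947685485617919969214272831793)) (.node (.leaf 2972695034077115218768233100666857920072322318600) (.leaf 0)))) (.node (.node (.node (.leaf 1781129046278300375756855746815348200510048199142) (.leaf 1837033289068752857282282722207411694910594439606)) (.node (.leaf 746934326934723839423730844183936495472757410242) (.leaf 1976517423065790190681819035894579779176210572193))) (.node (.node (.leaf 4060990372821135947704194604057146817930442326576) (.leaf 657455251210198647510581137815833281323256919478)) (.node (.leaf 4754803929057790493389653042201063205314524635238) (.leaf 0)))))) (.node (.node (.node (.node (.node (.leaf 3034089264073998266283636361753460618498440888455) (.leaf 594449365185366620600032645349053874592625529096)) (.node (.leaf 3395704256455356432774554735815179304649644542402)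 (.leaf 752802595141171804960055442850293314612576111664))) (.node (.node (.leaf 4775032912430783794099621586972777386614791873072) (.leaf 3495313358360017142908263277289570747844412545542)) (.node (.leaf 4004733589226877743510220099557925533324723642847) (.leaf 0)))) (.node (.node (.node (.leaf 3417401444523094865296025972619635787952561103972) (.leaf 229164549950202880924419568820410977389736300544)) (.node (.leaf 1574844040718416948175023480642498925215786741296) (.leaf 184141483581052820095443894662645956162624200752))) (.node (.node (.leaf 894072292861914068813689433891607540398328260261) (.leaf 1690318436399469758575889606110898431066291728768)) (.node (.leaf 5500579109095593928152955698020453065774626360662) (.leaf 0))))) (.node (.node (.node (.node (.leaf 2863120405211591629296199228767083087165113637002) (.leaf 2723114642486652308058557124171706238457186025607)) (.node (.leaf 235190207611497590310273434316905693916817269296) (.leaf 3112450862754694937646138705749083810606718018432))) (.node (.node (.leaf 2315571815881477258657617703308320520877412309851) (.leaf 742885262093465511692918811862790554409576194081))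 (.node (.leaf 726318822650770260317237922471944559840516251008) (.leaf 0)))) (.node (.node (.node (.leaf 4927065744444451350888155348020376084365179738971) (.leaf 2410480826912597330266953789003306506593247890754)) (.node (.leaf 3619997606655110524696006852971796268068816771126) (.leaf 5421195775870338589157409907927775604496648463153))) (.node (.node (.leaf 5562143496248245393924543805462109141709923500945) (.leaf 4567108552874985687188646871300501080484221626294)) (.node (.leaf 3521206259970260756315466527783569825184583716162) (.leaf 0))))))))

def hT25 : NT := .node (.node (.node (.node (.node (.node (.node (.node (.leaf 1464356154505020146139802664938397595565310349312) (.leaf 4697157764325470855704944467252209726432374120809)) (.node (.leaf 3444892071103858446167847928013420685638408605068) (.leaf 2237046522826793196629687211703134713771714609392))) (.node (.node (.leaf 2571000716559983065769516465263043386025279687946) (.leaf 1489522705788827400187116180763691076318244072683)) (.node (.leaf 1651030982067981184560309175782993547730150268976) (.leaf 44775715135412945892502491699245608098365504)))) (.node (.node (.node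 (.leaf 4415742527724043855825658868588079856170841478534) (.leaf 4349380214295821455981445675021130368613649046814)) (.node (.leaf 819974348433473837958410868938760218497417683504) (.leaf 3647652049357973203659308917462770065348442942739))) (.node (.node (.leaf 1829787992575585503193336535114637141264438857026) (.leaf 898570782621676591671978655413898130998519744438)) (.node (.leaf 3288736901975768212135762124896368985262247641601) (.leaf 0))))) (.node (.node (.node (.node (.leaf 210042882051183813184298924207640284440439436460) (.leaf 29510563371666682871538476369088476917505473584)) (.node (.leaf 22835963423744203055782223840363304400623534144) (.leaf 133604349324564538833952061044371689456500695376))) (.node (.node (.leaf 2114538087887213667707855327837501399324549462058) (.leaf 1014166207131955391357329942312513508963422800322)) (.node (.leaf 2777529469560443180333342759044409197015712927116) (.leaf 0)))) (.node (.node (.node (.leaf 4083982572313949003496878863965460281886641316736) (.leaf 846539598343370735699929085844113879669579713546)) (.node (.leaf 2335080840638943741819449655455779094204044242146) (.leaf 1422996667150964925232403189296045766334972875481)))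 (.node (.node (.leaf 2842638485446191753882437632680771022524872711728) (.leaf 4159926364989950848146454170912362471035274261497)) (.node (.leaf 4960596772524130847129084266843660378383955790860) (.leaf 0)))))) (.node (.node (.node (.node (.node (.leaf 1513741254504110760616415025700302968024567385154) (.leaf 2495095237611225215398605784089440055465313705344)) (.node (.leaf 4591987076586408163683826414898510139493017477200) (.leaf 3420384430521713268873071146996410848354005358986))) (.node (.node (.leaf 594807653976384689956805466514508870299614380296) (.leaf 2974746668777231823189626473447906526309816733061)) (.node (.leaf 440195383681006783117643599964455600292788658449) (.leaf 1573525547468718455036660923910766032982266008496)))) (.node (.node (.node (.leaf 3342328693831396541262668298228910744580120539520) (.leaf 4135370584533945703422054031490761373112117428529)) (.node (.leaf 1014153261541072057023696103047636279079930695108) (.leaf 4344469259113994522250361779078098259587395808374))) (.node (.node (.leaf 3316595614240214742611924806085934699508372103214) (.leaf 2081944175739726081097857569464532109615386288289))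 (.node (.leaf 3521919882400706492211186126456908084452917182606) (.leaf 0))))) (.node (.node (.node (.node (.leaf 3357339136891544593254464051310127614827711979553) (.leaf 4751466800751248280274383076162357418064945554337)) (.node (.leaf 4642956777448145437636950954356385272033674053714) (.leaf 5622560779113891481632379967003310918937737080240))) (.node (.node (.leaf 680179092944863930247624039165246520377681333139) (.leaf 2310451919714303174440751556758637888046783989254)) (.node (.leaf 1874715696474899918886440155091250908776381091591) (.leaf 0)))) (.node (.node (.node (.leaf 494331126055029041802004441590033833071802925841) (.leaf 1824080364898838453785949401684894000854491398273)) (.node (.leaf 1469684548824295011365699186730921137747451480070) (.leaf 2537249109668559640114255861548521514588725056524))) (.node (.node (.leaf 1986205913347269330980533139222080619871753953553) (.leaf 3341925709280924106411160333107074305563377215030)) (.node (.leaf 2536244313046735161318685167495206315437040925307) (.leaf 0))))))) (.node (.node (.node (.node (.node (.node (.leaf 4117886612065338794355097527298790585917962652914) (.leaf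 3295091700617108712913404783334246871353094928774)) (.node (.leaf 1110748483834608522259070875962961156954073296384) (.leaf 1957141130397251300864013937528374099767856931376))) (.node (.node (.leaf 4988361870530165562276189532134940201385962691291) (.leaf 3793182289591009387388000985711003947086718422486)) (.node (.leaf 1535478336840980092770101115957497903639882504582) (.leaf 358879363065317560573127986670027423367872976140)))) (.node (.node (.node (.leaf 549715470451297630762967577817997622234638385470) (.leaf 5502216216076024441382236396051765604979777233319)) (.node (.leaf 5571304184676800789621744118321120197984026362295) (.leaf 5413978653671213664747076194572657196296813306545))) (.node (.node (.leaf 2931661560941334258181168910798918375538296094728) (.leaf 2465028520851080292657108762613541883758768054689)) (.node (.leaf 2285104767565845882348628844197353179551493284264) (.leaf 0))))) (.node (.node (.node (.node (.leaf 2389617081241215976057026226877760880519798762928) (.leaf 1015214156749424652823228869214877402550915932032)) (.node (.leaf 1367565899785371005712047535078972959911828736915) (.leaf 5438982782121352909961615017473201220255533935030)))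 (.node (.node (.leaf 155601114052145229594366275029253624035388963888) (.leaf 1183459748999990976655706518977883003522843410550)) (.node (.leaf 3721828247340947202976045606340839563199045712944) (.leaf 0)))) (.node (.node (.node (.leaf 1015217957296300764060788732100426039552654876367) (.leaf 3477496671882511432755033763518919920804084842497)) (.node (.leaf 4694287605457723195634636113652233197841831631242) (.leaf 5335151161777565782375258650340077758889212699008))) (.node (.node (.leaf 1394069591341541097692626633416557141028563517758) (.leaf 3437422495213476374202325592560562756668162643334)) (.node (.leaf 4057060610917343195571525637250708575251035341360) (.leaf 0)))))) (.node (.node (.node (.node (.node (.leaf 822142583096344072748686537193642298381283891206) (.leaf 411806433534105147080940918476974181528423923776)) (.node (.leaf 315586516834875447413090722409001171645171220463) (.leaf 5206042801393046902186709587868419979971832005168))) (.node (.node (.leaf 193212570284013764642855199994112910626655871072) (.leaf 1698079789834534532213264859630704998093982790)) (.node (.leaf 5398474155266822736247657662341311587142500093324)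 (.leaf 0)))) (.node (.node (.node (.leaf 3401405553661358391760721308642696245687503487153) (.leaf 1012508721608421644695456406697313808807520776360)) (.node (.leaf 1906257523852691231267999789249434722278883156185) (.leaf 5379455792943012238819840219340015342611564572134))) (.node (.node (.leaf 2650836495430414865701870840573387230277478306736) (.leaf 1772999037008472562355519418873905803573912225718)) (.node (.leaf 2392443515262507445017810254289878662032914033078) (.leaf 0))))) (.node (.node (.node (.node (.leaf 5571437988637445698445678159704122132351716163633) (.leaf 1060427391792722396831184089239614649163184565420)) (.node (.leaf 5281322773823512946731845208139971919982978652726) (.leaf 3393446474597234907644739876382164250651465204144))) (.node (.node (.leaf 1932208586288935141390817803806628461241260889693) (.leaf 1181374928243886729275495620817511823273853153207)) (.node (.leaf 25835522726586712845002983366975005904588509184) (.leaf 0)))) (.node (.node (.node (.leaf 2861282510229676112536857747843790772390550313998) (.leaf 5439366571025090261687377647776090123782480840020)) (.node (.leaf 3903956063250653838315049897537220513246213267729)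 (.leaf 2184772673826281943104871448115900441129748947633))) (.node (.node (.leaf 4456877692583057749402665953799569335179515587584) (.leaf 3672576418619143150289299971532109847635442023472)) (.node (.leaf 150686621975179671065753329289958138779691581680) (.leaf 0)))))))) (.node (.node (.node (.node (.node (.node (.node (.leaf 1396822575110910050008786006278298377056070345264) (.leaf 1713657451440577084097215974024546698552315880097)) (.node (.leaf 2120142239052586814223699377438660400480752463799) (.leaf 3097541637165156292145037863530375190481015652816))) (.node (.node (.leaf 315200705849426244928437039325123068675316452620) (.leaf 2061672655924844619689911929283401949041986830472)) (.node (.leaf 1107547744478125711426338515231965536594837897265) (.leaf 3340458558781926867301386769282752083381027556243)))) (.node (.node (.node (.leaf 1219118884555971797255882644015893220412312481005) (.leaf 4595213358072100758290783085943693936664112049200)) (.node (.leaf 1826198942690849727777384119365974754899751035110) (.leaf 3048941246386195097404016201257326345047245394304))) (.node (.node (.leaf 4534994991207987765657033592547436847880884170214)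 (.leaf 4573611072949759613567194853265197390230515614081)) (.node (.leaf 2018059004553202630676000835517245465367794134064) (.leaf 0))))) (.node (.node (.node (.node (.leaf 5441849215128903660775906610741631035840785481870) (.leaf 3081179074846721912922598187585603285787881640072)) (.node (.leaf 1932364996400145776893567401391819730616167401922) (.leaf 4348125897223523427841865023932908859091719072816))) (.node (.node (.leaf 3175114302164978002172501601494391675631933728421) (.leaf 725535201342818612593668306644951935054277446861)) (.node (.leaf 5763103397707237938347910913821535406843299764362) (.leaf 0)))) (.node (.node (.node (.leaf 853514188800337128584520069370919328657396472832) (.leaf 3297394483242756670495245109931505417330592514184)) (.node (.leaf 4496964293210596668298803045835656773184376387437) (.leaf 1446075025112135464243246113774684976315743825131))) (.node (.node (.leaf 934026375292260608145129449126322212245869977639) (.leaf 1690229320344978671447351944198801932337571516848)) (.node (.leaf 337679772789658694027560417065740881532892704026) (.leaf 0)))))) (.node (.node (.node (.node (.node (.leaf 3952282161416838755086163542163649827955660317096)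 (.leaf 24489528835300886535823882247546738880993563660)) (.node (.leaf 1723280607170658255108411066879166308877649600929) (.leaf 4496962392045198274243429289534889463636974595291))) (.node (.node (.leaf 4259197524515392409832661399483824216364867445876) (.leaf 5181684984931661048825443831700230547611203420689)) (.node (.leaf 4756309242057432215364770122392887314785855637570) (.leaf 0)))) (.node (.node (.node (.leaf 3072981857449041409704000642167012594560558697530) (.leaf 4514017873764441105635073696131333060206587787245)) (.node (.leaf 440201946589754755004334798188821038520464974497) (.leaf 3319140701712201039344604721672145670561041152763))) (.node (.node (.leaf 1185435928787950012207290300783098590039434995365) (.leaf 3580942437858004952921083821659026477098177600512)) (.node (.leaf 3999203981332641157521975358827730648636805181239) (.leaf 0))))) (.node (.node (.node (.node (.leaf 4805627400612062492631123327091218640481836035347) (.leaf 5181776203964542078902994648377929553539359337900)) (.node (.leaf 3794136438308042692394528601528382799944899306032) (.leaf 2466619208190165024714380770054817586161354633015))) (.node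 (.node (.leaf 4185741214793825959619342884108943746796834496560) (.leaf 32690011740165061395049648157682902472672453686)) (.node (.leaf 5606071266774140276028295758678779761977372732826) (.leaf 0)))) (.node (.node (.node (.leaf 128553321003920010877542092364042223645868313526) (.leaf 1012504202996218686896018715438361387375652327856)) (.node (.leaf 2435223802055753598611411698401572773713112144896) (.leaf 4983432648380857728633554450203406260984695491650))) (.node (.node (.leaf 418862964248271187197524407976252010076721102831) (.leaf 3436908411235739802379027542665545319313360055708)) (.node (.leaf 4514780876627664102269147273065295951768900365787) (.leaf 0))))))) (.node (.node (.node (.node (.node (.node (.leaf 868771313049400764562231050638591182387352158672) (.leaf 289165380312186847529854333097927272134151353264)) (.node (.leaf 1828542465886208127409519637950752686090054662022) (.leaf 5420520373589882074297251504073435143584211185072))) (.node (.node (.leaf 3444426898625622983334726684216706915038356178565) (.leaf 4386216533157132756059535910589065335355118477782)) (.node (.leaf 56755526165594677608619991789683231486992387210)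 (.leaf 157773581720714300499413828937372504552414031280)))) (.node (.node (.node (.leaf 438559531553293850422903154873732771834176158122) (.leaf 2418837341495314258543092048510464361170059452416)) (.node (.leaf 742528451531418407320453131805305098147841728592) (.leaf 3361286393369081532750525471159196841548161179921))) (.node (.node (.leaf 4040569645233696494879736837700232846368149889057) (.leaf 3689822992834001847727049338097099509201885162715)) (.node (.leaf 1364498599579585736943262667646312219177658638353) (.leaf 0))))) (.node (.node (.node (.node (.leaf 2780635068200753051631726300568600553784531702838) (.leaf 4570422054213169854634856133694676291903606489089)) (.node (.leaf 2463938545267370310609673942349680098758122102046) (.leaf 185644056313043184271074487000271297237945242032))) (.node (.node (.leaf 1343226646848442595122290326309302353058100469296) (.leaf 4109080554915563688972785847417507934011647272502)) (.node (.leaf 4520477300502509489474320597087261992420644340144) (.leaf 0)))) (.node (.node (.node (.leaf 2389785537663455514429212051418394895866753190963) (.leaf 812888171566820030708037132599386972665171748645))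 (.node (.leaf 1639049709480044687762238915247493447545405309313) (.leaf 2039612461930047687348735932004287515485982701610))) (.node (.node (.leaf 596837048700930437679606065453267165936800719065) (.leaf 1009849201639298716692358547931425970800777691334)) (.node (.leaf 5500906471084065528345207500282643808174166188592) (.leaf 0)))))) (.node (.node (.node (.node (.node (.leaf 2923008849858739313311882665697049866997921219072) (.leaf 4099399267648350677647580241806248540758493654491)) (.node (.leaf 4635852726461975999180894182791568873672139080065) (.leaf 3366225894202766845097637476693043953374951146564))) (.node (.node (.leaf 108241676614391765839761888425547503712064092013) (.leaf 822187097304314079918936774106374034149479580678)) (.node (.leaf 1823344469074548640301070123779915729076503145698) (.leaf 0)))) (.node (.node (.node (.leaf 2595351564914477459324558057661479264022244140132) (.leaf 2464975450626524484773158093582313941193285026224)) (.node (.leaf 4102480342016600383633423842561113418115683539226) (.leaf 1882618561652993610747076212425392434382722853909))) (.node (.node (.leaf 3365367399093806760472478844021356780357225218225)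 (.leaf 517869106623404846240532767524729446607176794241)) (.node (.leaf 3521220531208220099588902930147932777879394158982) (.leaf 0))))) (.node (.node (.node (.node (.leaf 3541879201090052320248541661934097120006514933809) (.leaf 3030892653714905753706198529095158365611676867584)) (.node (.leaf 175975864507294294788019571761054661474960542834) (.leaf 2191575047624459074680864932591927925482506944951))) (.node (.node (.leaf 3394654771192596973605358471436158383360701174024) (.leaf 4297724806347456624062228910166103965393272497268)) (.node (.leaf 5783616250750846233527272819987120874966840727962) (.leaf 0)))) (.node (.node (.node (.leaf 1259907026222310190323409256900730200638134422538) (.leaf 2724475026311555523647532898019576764314280488213)) (.node (.leaf 2569694470116655485494895619047834773013914173423) (.leaf 4118488705514153219889613584224586919742748735469))) (.node (.node (.leaf 4782367806086900397942723219322720052702650589264) (.leaf 3500666418294759484367593412809739161510682171530)) (.node (.leaf 69311588753884639123321346611064069473605812224) (.leaf 0))))))))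

def hT26 : NT := .node (.node (.node (.node (.node (.node (.node (.node (.leaf 3058499696239261403742289537979271759484660731350) (.leaf 1676241777721580006701067804448845985742084874288)) (.node (.leaf 4057050085664181560194168605674036875756137111569) (.leaf 2991606214652968132573163819207052621263780995105))) (.node (.node (.leaf 4936082303098293019314386481925704747086832669064) (.leaf 2113837292408451485456732111538879298311017052086)) (.node (.leaf 745596519736437708031636151354760374710316576304) (.leaf 4034261534367332671181862898192998136003873459670)))) (.node (.node (.node (.leaf 1183577257516480628238792928855378016864690004529) (.leaf 1381464098835602038702145276218662739611668663187)) (.node (.leaf 3495268930763214208998533005160815433483222662576) (.leaf 1537946649967064326135622298176664598950884041600))) (.node (.node (.leaf 5235209202128678416232718399691825934656146246668) (.leaf 2863114308010956244220096291769642473222872569222)) (.node (.leaf 1465125510191962263352772479215496102987237690820) (.leaf 0))))) (.node (.node (.node (.node (.leaf 540616040787319610304135585688367657851145383059) (.leaf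 5336953305401966522944376392128385221894455093638)) (.node (.leaf 5114987680661265943508755778770804032868518943130) (.leaf 3034093882363513895535754521975880749919971905287))) (.node (.node (.leaf 2182005834064855067373194412159992539428966552496) (.leaf 790250303497320250305416991543217280534492594608)) (.node (.leaf 1636754331461109316709355656959675087890346814115) (.leaf 0)))) (.node (.node (.node (.leaf 2539602230306863520756379811907995061332763308344) (.leaf 3239213086324810728235525304141015900199202352538)) (.node (.leaf 4754797405143233142956053152778668393723056925744) (.leaf 2970732551486528622533041001077062726990751097312))) (.node (.node (.leaf 4599864509037654858603555926596488627519701239222) (.leaf 228762615203982687104139625737030082519123493505)) (.node (.leaf 4565342560925829674257969241392403808910881646598) (.leaf 0)))))) (.node (.node (.node (.node (.node (.leaf 3902604208278500717813269551175840781818142179408) (.leaf 3540847918589738096381989113940797820607834452280)) (.node (.leaf 3177272865932017548317655055375854027767578547120) (.leaf 1215216240960287807327708866104761026166352514060))) (.node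 (.node (.leaf 1238733751828592326185993361772238020233735181324) (.leaf 822187016316944923754973254317504475154159242308)) (.node (.leaf 4113288755421512447238158201883250772169252862715) (.leaf 5362168348037634872162746619853846779964657200275)))) (.node (.node (.node (.leaf 1364499155329483010877636808466993354368531571233) (.leaf 4076563505178711035057965815177311024822329558582)) (.node (.leaf 1107547737588734413124703577772735094312128242176) (.leaf 5335162222761162087471206496739956823590089982192))) (.node (.node (.leaf 2414160842700978108448886249062324735731421322959) (.leaf 3855429532638007521613047539644424367703847038317)) (.node (.leaf 440291236665151156016877605867279773251039345066) (.leaf 0))))) (.node (.node (.node (.node (.leaf 1164093538513642617705162715231294978163129562032) (.leaf 1515742744627563708104395880671662232028068188160)) (.node (.leaf 1851130003627031133429737827336276745304367366401) (.leaf 656058901407949978099360812615042847725492472198))) (.node (.node (.leaf 1676254136182022708744870223761844465556669055440) (.leaf 3697026150176760768979836476529103702037926014034)) (.node (.leaf 3580950218650963529507122813286340036199792771470)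 (.leaf 0)))) (.node (.node (.node (.leaf 769668649316251129724413915996410877209188983014) (.leaf 1748569795730934848165773039664436893740687952947)) (.node (.leaf 3184219164033395378467974281009949729629086179424) (.leaf 5392955522283153386060631171909268740103117880752))) (.node (.node (.leaf 26305540389052493903200832563919016955206643248) (.leaf 823745106833427156637731151241116296034673234950)) (.node (.leaf 4441522439671661831977131718301440813304230907146) (.leaf 0))))))) (.node (.node (.node (.node (.node (.node (.leaf 3517436480257369680479480514219611369144449374598) (.leaf 1183507229306268847198138620855578743119647982000)) (.node (.leaf 1698832040009527526971608661603648051452834284416) (.leaf 2416450371296928064651338195819459713903015011428))) (.node (.node (.leaf 228851728540311702115272926459924879702533275777) (.leaf 1690219498583587764041195187044407837502465257640)) (.node (.leaf 4488629694585646566212805724587039063834643766091) (.leaf 261362254324571907878371338380576120530399972438)))) (.node (.node (.node (.leaf 657450765518329933837646470839418110805794319532) (.leaf 2579778120078401694645864022108211092457131631104))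 (.node (.leaf 869464683250281929756830866361288696423077940294) (.leaf 4114880688844361947646032803579260063447393239039))) (.node (.node (.leaf 2388782024865374380317231958433102254809883831661) (.leaf 795808382489033484111891258252286414531696872374)) (.node (.leaf 4297729343140928701773870607032149682733823879174) (.leaf 0))))) (.node (.node (.node (.node (.leaf 178056816833942875509379759046970666481686838462) (.leaf 4984869974517381989794467039808127772865390514440)) (.node (.leaf 2234529896074859615223442291267760210059165231110) (.leaf 1883899814178172141767765898914379013117825026114))) (.node (.node (.leaf 2516318771026712268130542632948957680666864588044) (.leaf 934887697085900896165177821499553344798543825968)) (.node (.leaf 2139435912043765001500404986479303960565295160590) (.leaf 0)))) (.node (.node (.node (.leaf 5445952527055539174951958808229178780602429603910) (.leaf 391077911098351334779159992271585891963878999046)) (.node (.leaf 956366401816483170940743011506243854500149800496) (.leaf 211591049702132042208989204086673418677702888499))) (.node (.node (.leaf 1795834913017141788349410373851133265294851487670)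 (.leaf 54252257666617176113753815966361746032898084864)) (.node (.leaf 3081166240613617647876818054851048751451189215496) (.leaf 0)))))) (.node (.node (.node (.node (.node (.leaf 3975155676264826043961194092526542145076106486128) (.leaf 313706572071299695843042267246413826272165891197)) (.node (.leaf 27512194554462328038802065063353090871936607476) (.leaf 1905540916994616373398323807114910903610257419312))) (.node (.node (.leaf 1117806115406604893016987822272689488442776838361) (.leaf 3446832259267820018935703163856218816499379629084)) (.node (.leaf 5210580118013340684642682516870186004110231820726) (.leaf 0)))) (.node (.node (.node (.leaf 494084880092625425764629602140261590063682447878) (.leaf 3106143974338040028587594658686424172280387210629)) (.node (.leaf 5232860535443522834661108887998895324046418231760) (.leaf 5439373817524513526221457139060979614973689294050))) (.node (.node (.leaf 2294031909002746454655812655594216367168613860113) (.leaf 5498893433603826851387383802252954852096523108464)) (.node (.leaf 981718569347051733882728847701485840107699600768) (.leaf 0))))) (.node (.node (.node (.node (.leaf 5231102533312893965540080316264446123453735508992)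 (.leaf 2701375738102514660075360694023200678272796480566)) (.node (.leaf 2659594667134903702009959667707435842906671160704) (.leaf 1532875194645940831782225495131061952132734521352))) (.node (.node (.leaf 23906577564953810394111067960078212834718384192) (.leaf 4236272271576904436172439818770470313711194504382)) (.node (.leaf 3421053975546396028555688514770200836369896125868) (.leaf 0)))) (.node (.node (.node (.leaf 1183575396321186792941693036590643116950169870848) (.leaf 3622117497976281041371644551926124168725307875423)) (.node (.leaf 1638082495662381192477884484835392391885358853632) (.leaf 5573092334659582943094610221569216876368148304908))) (.node (.node (.leaf 871828588280893839128937175276739507050520510478) (.leaf 3467618977056515890544035433225971589307889262287)) (.node (.leaf 2994126208538221254259459824431147659937835933729) (.leaf 0)))))))) (.node (.node (.node (.node (.node (.node (.node (.leaf 742527011457770825905582476328690105927774806112) (.leaf 1187760476686110255043402153651492561730805817712)) (.node (.leaf 3480997908878257735910134964816120066996034080196) (.leaf 4906360278763734313214437344891502653183378063871)))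 (.node (.node (.leaf 5497206459399152755462132303369504877823511257600) (.leaf 3392596748845280658199349618411748323738923502851)) (.node (.leaf 287459620252810068197820838262128683886095535488) (.leaf 1905551616748767636893259767512646508520135445974)))) (.node (.node (.node (.leaf 846536468086043258967653023526434366247781013510) (.leaf 600409805563992129732501287417109851393954879882)) (.node (.leaf 2232794354089494308030678574760991483536436861446) (.leaf 3392548221879332157841364891396025350022341172043))) (.node (.node (.leaf 867859029425680388109965780253460698920120224834) (.leaf 868839129975573489391735129716620633884437023814)) (.node (.leaf 2083103819481057604659062123748968855134089448714) (.leaf 0))))) (.node (.node (.node (.node (.leaf 175529844661261937089580410741699809078330720561) (.leaf 1177593775915703862991738305326481622340569811603)) (.node (.leaf 1899658296314155934401668165916988356665731109593) (.leaf 3998238210984232005048977831567685643867355208539))) (.node (.node (.leaf 2621355898927947930523814392888887520342915088561) (.leaf 2540472234508552342720682202999638195483962772492)) (.node (.leaf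 2650827107994540282379521549117655569161470456681) (.leaf 0)))) (.node (.node (.node (.leaf 4640622473144439808163688973080960184704981214113) (.leaf 3419058640779951547146493382795453188120791996982)) (.node (.leaf 1492154227587340780456331958442011860520052130175) (.leaf 5755086103193785315738792944190728121717553393050))) (.node (.node (.leaf 1461646614463224990362817372330797226058538287112) (.leaf 1831284385249609271033222581485802859695631698819)) (.node (.leaf 1998594290033077227004920349974393310483276303235) (.leaf 0)))))) (.node (.node (.node (.node (.node (.leaf 397127305299523512982910583922564259509917771782) (.leaf 3139426297623799673100191281639028237784553463680)) (.node (.leaf 4924149791338314298407208749802677000361009931508) (.leaf 2120152381272573865615819139253678360168337468928))) (.node (.node (.leaf 1591372793922029530205165116842793915671672632169) (.leaf 819956932013977893023436049888693949553849688481)) (.node (.leaf 3139430278589985563830716147023535937132242050767) (.leaf 0)))) (.node (.node (.node (.leaf 5600133817968304656519128211672471181480637021807) (.leaf 2435230908855637085438863701536327705155263208846))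 (.node (.leaf 2499193480985810014435426279639124774700287290389) (.leaf 2821417440802766643133733251198697127980427403743))) (.node (.node (.leaf 4700012270599915663986265787760786623024569216340) (.leaf 3984442824562659516742922557175416210903014511622)) (.node (.leaf 4112332557576513544814999493930792301741674476982) (.leaf 0))))) (.node (.node (.node (.node (.leaf 2013824874154205168594547520603129355939201835904) (.leaf 1465115252678795664015881328808197754584193795078)) (.node (.leaf 548466099581291367387469742452262610050301853760) (.leaf 3134599728058895250454990802327004063801920203299))) (.node (.node (.leaf 3477845830185302893839498535222604983131062665728) (.leaf 5157525045961665673247289031909394723783399713315)) (.node (.leaf 3583514826795189085622648835136604693504836791380) (.leaf 0)))) (.node (.node (.node (.leaf 3311415758450929544355922561671376143806777291836) (.leaf 3106138488775976471100999845583519282707966135171)) (.node (.leaf 5316135194716094076300571708298958525792839918982) (.leaf 3438874618673847538980823995963839010056222225462))) (.node (.node (.leaf 1835372693693882491143641839861245107527553185286)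 (.leaf 1317945304211144616596812479635141342326825211485)) (.node (.leaf 3926482663142896276387426777387174095666856225670) (.leaf 0))))))) (.node (.node (.node (.node (.node (.node (.leaf 2579310979879504288151402326487326803978203461638) (.leaf 1639056264996465752073685855614118105171622035968)) (.node (.leaf 5755110235742934219303341209239594981969683589218) (.leaf 5044698079980993554112192062591264869542134647174))) (.node (.node (.leaf 4085648026587605799201600594449513244156005720609) (.leaf 494520313945170212468946974882902439189365353765)) (.node (.leaf 5216297978629319067657006149483003073571837381837) (.leaf 26416127015186260292802467633492791199700258176)))) (.node (.node (.node (.leaf 2650837689867162723063069723475753928355964739801) (.leaf 3110501289852802170177081227207320458683494908817)) (.node (.leaf 3002341917783804756516518717251432634923951226240) (.leaf 5232857559740771183741033865663835500808523456560))) (.node (.node (.leaf 1139304215659917713521103313934771795254585068602) (.leaf 3600240573458125843756702352517731974339956048383)) (.node (.leaf 2180937598885349103793060515530336221505876328590)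 (.leaf 0))))) (.node (.node (.node (.node (.leaf 3177265627190666906592889035402634311565244478313) (.leaf 3895859135692452724304864151375685800270668374960)) (.node (.leaf 4053682653389500627116304329570150724664046587059) (.leaf 4084100694673002212382823283083146681468943167287))) (.node (.node (.leaf 5155783584279111340849051799534509176828280449571) (.leaf 930975503575433719412419059852917126585666165686)) (.node (.leaf 1905543901367488034997562158640479210088064901606) (.leaf 0)))) (.node (.node (.node (.leaf 2310736908816159921350978315055179662426931024304) (.leaf 2416568936909343629831072171103559936583837093106)) (.node (.leaf 4616896895751153469621832969990509213422504050824) (.leaf 5174885303378858851170206568695152502214890319213))) (.node (.node (.leaf 1464568403589713669455547927182825077321148990209) (.leaf 5181671173657327696552305093897672461041218888240)) (.node (.leaf 4415921119801363741416744832062790451467588771936) (.leaf 0)))))) (.node (.node (.node (.node (.node (.leaf 3481009530635807370664137870758365139123208423874) (.leaf 620040733760915331388989014015521237775398675361)) (.node (.leaf 5235194926929936051110085561891497067327270688778)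 (.leaf 5160055361850598575712103313621752667329162314111))) (.node (.node (.leaf 422287736774664335193772096794675335224289684562) (.leaf 4349459052723692214219560706102664233373029108861)) (.node (.leaf 3002332890873341623670006748202521050706728648894) (.leaf 0)))) (.node (.node (.node (.leaf 2272794720563675776273963950767609659645493535144) (.leaf 1491705753928071638357004008173219995854835029004)) (.node (.leaf 434597881174660817676578596922961093270354264128) (.leaf 5626431764091210122762971355634562501711715634234))) (.node (.node (.leaf 1190239208577063244169047916237157867272170376258) (.leaf 77936488094392247183594475688246096982720678982)) (.node (.leaf 3209167148338225589608795021575798151792360895916) (.leaf 0))))) (.node (.node (.node (.node (.leaf 4082896530164396613622879764904414937676271807765) (.leaf 22880564914140949904909398047306839150871740416)) (.node (.leaf 2950966652222818491985491909945199209712436014976) (.leaf 1757423178737059335437053047992923602075624344948))) (.node (.node (.leaf 1828583780005044360061871738922479925596176543195) (.leaf 2678602306743313533725400571130681608617212182711))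 (.node (.leaf 1633028494324757396865299869466710170838567185555) (.leaf 0)))) (.node (.node (.node (.leaf 1035495222009019279942362710090772907799394413978) (.leaf 1318301419225212757331674815988995539222653656350)) (.node (.leaf 3604696871464898156876284251133758926944319452598) (.leaf 3777003814589012113844133504073020955085123568176))) (.node (.node (.leaf 3719817424601638516788677166713935061893103250844) (.leaf 3095596499952289193308942970342032090525201142144)) (.node (.leaf 5540729706395528807955260972832459234484983365809) (.leaf 0))))))))

def hT27 : NT := .node (.node (.node (.node (.node (.node (.node (.node (.leaf 1163604926536291713018918613496426562037716162950) (.leaf 2388737423489241736009336937708526574025216887866)) (.node (.leaf 5521455585100627225092065034340548015635659047856) (.leaf 2651350602149744392780464036917280527266150837483))) (.node (.node (.leaf 5596281271768351975731940500879195278257506184557) (.leaf 1750665233458417926895050600423393345921222016318)) (.node (.leaf 4777548959973116537019155414821472231418423236890) (.leaf 2946603736894741268672445931941906149938078867840)))) (.node (.node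 (.node (.leaf 5599648664414989931289085244445254490864493202570) (.leaf 722836821637497194035124912631527227124510556417)) (.node (.leaf 1674684547036372045749952127051806571387853039413) (.leaf 3423617266799257486719445956979073698751848382582))) (.node (.node (.leaf 4345192240854315367283408504273746810375034769280) (.leaf 3541875059595071157908985883554421087588045578801)) (.node (.leaf 3936961389349359675449212836764272828796976193897) (.leaf 0))))) (.node (.node (.node (.node (.leaf 791389494096636342157142165134039969441145643288) (.leaf 5129086150970808109040975704963394280532527093004)) (.node (.leaf 1774550314717358929066272294005499092268717141267) (.leaf 2138664748966838081642743060453708964230675513904))) (.node (.node (.leaf 3818572559445936125239423086364928570374998278929) (.leaf 3437109117183865682997338450536831674006175419706)) (.node (.leaf 765565296489977128486193491614093024460632424646) (.leaf 0)))) (.node (.node (.node (.leaf 3256895360226619779608008906674698331054913450296) (.leaf 3669985146370731177400428722660389893627747384752)) (.node (.leaf 1492007813318346256727786378453090701362968190512)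 (.leaf 1237360797487122278254536133181002646941228559725))) (.node (.node (.leaf 4697153251211816809749741288244620852410477892313) (.leaf 5239134115596922220360230710430278706259830967666)) (.node (.leaf 4102632896026017206458434213813526014729646992666) (.leaf 0)))))) (.node (.node (.node (.node (.node (.leaf 2910553810077790849113869578216757753403979795828) (.leaf 1416277217422518980617356910267643536321357055044)) (.node (.leaf 1239189446627642193895142968409727081706529513952) (.leaf 5316125509086094922822713433406165361766322071794))) (.node (.node (.leaf 472209483434853279553689091202988904767781475468) (.leaf 3415680708528477144762013671073810683826046310790)) (.node (.leaf 4620442729797696184790916413630270994141372247124) (.leaf 3337251432880371712504882697945366367588558809570)))) (.node (.node (.node (.leaf 2535142385066911543213396218167742184262022204805) (.leaf 1320432235020890819249752026155407854781237756222)) (.node (.leaf 2083664404666624129668247870882107633218269223950) (.leaf 2821104246349664310853017401865484215982411961398))) (.node (.node (.leaf 594450844775425596831866625857676127950964719752)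 (.leaf 260023020562737345396985045423419007403511382912)) (.node (.leaf 295865811491370510476136563445537005336604139737) (.leaf 0))))) (.node (.node (.node (.node (.leaf 1002436886194812368321711113040212502894968553936) (.leaf 3111450334628531437572373733143879473595134797365)) (.node (.leaf 3055522241891359229278960262535821023821114327953) (.leaf 4107227134000328014893022521932193281169639839693))) (.node (.node (.leaf 4114876044961017532642305439994537557684163183103) (.leaf 844978371955067567661575239645658681147498959878)) (.node (.leaf 3540853359770249640980596464456834723663802466488) (.leaf 0)))) (.node (.node (.node (.leaf 846740308610902984805257447606332010623593549122) (.leaf 898528608961039161295722382502278384571423251291)) (.node (.leaf 2996282377570041095402097233658218138096398099846) (.leaf 1827847848863164706774036739524951353923299445811))) (.node (.node (.leaf 3501311704468496995106139330657439811112694269878) (.leaf 1492906868656554277767797315805973260880748011520)) (.node (.leaf 79455940534227397478996755666375700125729983488) (.leaf 0))))))) (.node (.node (.node (.node (.node (.node (.leaf 3031480067264701239437721224937455346661863915656)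 (.leaf 1461635724935669161890958958781254129720733208584)) (.node (.leaf 4341787942953014938342420340946257907051833255156) (.leaf 5058229633064216169968109217755579255319943488566))) (.node (.node (.leaf 4716118684582104581593248044361210472463465513729) (.leaf 1831282147800498617619327293287049904212943048069)) (.node (.leaf 2472288998440154356174350310409268907206794659156) (.leaf 750199912716557163141330421978772727830969519363)))) (.node (.node (.node (.leaf 3340453595851008231989124108989174551908587611702) (.leaf 2863075629462036703922454852096774854721299815438)) (.node (.leaf 5131956257961938177864410626911148401755251305500) (.leaf 3415388489374047246198394563885724056845985085830))) (.node (.node (.leaf 1634100437805690089703343825217102799782410322816) (.leaf 5082671379412643779667030812146542452816286256370)) (.node (.leaf 2035903307101961372438440532633190852487148882870) (.leaf 0))))) (.node (.node (.node (.node (.leaf 2474724701475900974438052547859124629840007092506) (.leaf 4121254046007810260458372398097225958484550615551)) (.node (.leaf 578021338454180235583982704908105260697473871671) (.leaf 3699113172533559513767751457646002336601251788842)))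 (.node (.node (.leaf 3796406141066103285430795841805696588306922663030) (.leaf 4535367413830367010572519058411234844884224647728)) (.node (.leaf 2229575764998177283326509800061979338608666411192) (.leaf 0)))) (.node (.node (.node (.leaf 5338046052975872933788064030784250777055932377330) (.leaf 1872638286251620931810686064517976471964166675486)) (.node (.leaf 5136102348730586069355171784645511343605422509591) (.leaf 3851336456526014034828188792312422002557741078406))) (.node (.node (.leaf 521102707786578699578473937828514513327406214244) (.leaf 700402099112278443227339729868360379109495276025)) (.node (.leaf 2315563286791537293931238378970388135299563567030) (.leaf 0)))))) (.node (.node (.node (.node (.node (.leaf 4344114110553668727951860571987579601027069849136) (.leaf 1723169103011202385428482802281684335141953695060)) (.node (.leaf 1653122195135888853890207337043066130745658966017) (.leaf 1242483875333700242432937823023946556435664235014))) (.node (.node (.leaf 515975872042048717162359765471372027640664015312) (.leaf 1378827297052733691691686136597601274969142465676)) (.node (.leaf 3578630981368522743706806677576698636107005324698)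 (.leaf 0)))) (.node (.node (.node (.leaf 1375225306573061221405952316795234699058447412306) (.leaf 3342865788135681841612793524084228456888509427163)) (.node (.leaf 135968251624951619607158996067328266513547551206) (.leaf 4339847427601555212985748846664028129162972367997))) (.node (.node (.leaf 4004724026770216587783963709507735080301564517936) (.leaf 1796794326604302055267113672368796491295930655280)) (.node (.leaf 5829809557320309661267953186621680910068597742006) (.leaf 0))))) (.node (.node (.node (.node (.leaf 3577302460397142454742138978932202389925938375728) (.leaf 422308864970795553560348593058434829996945351780)) (.node (.leaf 4820599721217353191942795514735196150872842394010) (.leaf 3875147853296894969883288277613184501927604430946))) (.node (.node (.leaf 5786467428383066118019429927836727771896574399542) (.leaf 4574650073538867913511642195532615348029483467537)) (.node (.leaf 3361397897528537692241926543303071642977662405700) (.leaf 0)))) (.node (.node (.node (.leaf 846584205959016564787101153963697224345167338510) (.leaf 2317410811863554229267970827960324421065739895814)) (.node (.leaf 4595884017688357339855521430756414722837725119360)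 (.leaf 3721824485034998657476915837943956982740460527662))) (.node (.node (.leaf 5561290454100083826054216940662641738083476914736) (.leaf 3937479368414320183818385808913792959098318363014)) (.node (.leaf 4956736855813756418822990047424496426162511600566) (.leaf 0)))))))) (.node (.node (.node (.node (.node (.node (.node (.leaf 23908667877205877209835074034993651631425617920) (.leaf 440284586436794680143443117822363872798449626524)) (.node (.leaf 1564275013594251832128731895739768966421248410112) (.leaf 3254891285645361864133392623838485307720487342080))) (.node (.node (.leaf 5319886018869996222346829051497712022864057860214) (.leaf 4618493770942082672108921823937472870610171634742)) (.node (.leaf 4744680742191341061315879982452681744234891665625) (.leaf 548511221129317246826818257184004397766797164936)))) (.node (.node (.node (.leaf 3239210785736623882364139508325651880741874653238) (.leaf 4118800944809963732080045939477550593678631988506)) (.node (.leaf 678537182847835911988605158795149346317017543168) (.leaf 2780619276868122154009346224398576141784405195178))) (.node (.node (.leaf 2803120075292075807135205740389921079583771662730)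 (.leaf 5784226834280538258180463161722238053536465544582)) (.node (.leaf 869461460095702130110155144627490615639570156544) (.leaf 0))))) (.node (.node (.node (.node (.leaf 3775606952856548812799417018013685100063964164480) (.leaf 5763114353089899436487344998838730552077988597004)) (.node (.leaf 5232867615468811261434859031615044952677318681056) (.leaf 5802653675888946647086262530743011640117922390486))) (.node (.node (.leaf 4037621453292757104480446043461966109884272919606) (.leaf 210847739139852298477805268260602647640890019712)) (.node (.leaf 2294025057533222105817731567591011045919215018145) (.leaf 0)))) (.node (.node (.node (.leaf 5114628487668922269827125354717877931679078902956) (.leaf 4030891666152098844237783018341213770607636389248)) (.node (.leaf 3295786468664461297960204360175022494176364964912) (.leaf 867769820319969236808220715623349368723414748160))) (.node (.node (.leaf 5256207355276718546930633592242194376219190602800) (.leaf 4456521578919298109395747921781769012349074211712)) (.node (.leaf 4676440204970650463380951352807681023635641273586) (.leaf 0)))))) (.node (.node (.node (.node (.node (.leaf 2436691041297011994494174461735428342198436007296)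 (.leaf 3175472507895217717134120135799504893506424738056)) (.node (.leaf 2928717840618950098096884703085620821011413860353) (.leaf 4390275251931198366220386394143588444902625640560))) (.node (.node (.leaf 4574659216119522295644402821966059116487225073825) (.leaf 1797132367138773837593795251275153649603863540096)) (.node (.leaf 3175477254901361628976637739137530684111803318408) (.leaf 0)))) (.node (.node (.node (.leaf 3289879124135587544775754976336762714759656598763) (.leaf 2339002198268336656512142455630681605284648773638)) (.node (.leaf 5545960559512217506914744084462564072710509910426) (.leaf 5685931276363304071759453853362599611516127614220))) (.node (.node (.leaf 4739081276421967323623137588324006612753930367920) (.leaf 1817157170717041743307738947005461867787466264984)) (.node (.leaf 769971476167184605662778291428982869365440334739) (.leaf 0))))) (.node (.node (.node (.node (.leaf 1860294406810483557235013430517111842490464251312) (.leaf 2180834501603879185142546413723682005069488915329)) (.node (.leaf 4957943002361749510993526486756875092025765031019) (.leaf 3415719349886459736749538815367854784037314243235))) (.node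 (.node (.leaf 1592691194811642502380944967418047765184376179138) (.leaf 5435762866410699953986371351324685260715892712548)) (.node (.leaf 2978858753003795370496143779768920408619975616950) (.leaf 0)))) (.node (.node (.node (.leaf 2206404946340790330844441237058891272735524970032) (.leaf 4439448463924057411792607264706369293902400414057)) (.node (.leaf 4673619941070006538560203824786302812951373782912) (.leaf 3002347377532106814065003569680945725932844973374))) (.node (.node (.leaf 5826729645709273701416359187698372026615654892884) (.leaf 4558401244430686956016381252272359321558530854067)) (.node (.leaf 815509336695867253547018646990420658915011656443) (.leaf 0))))))) (.node (.node (.node (.node (.node (.node (.leaf 3437102846044022201967967573931618936377014121660) (.leaf 2717882618157747519026539213425206362869538135759)) (.node (.leaf 2234120869649074655925769287211387095821232947280) (.leaf 3363917845062453612284816739658452310326962253082))) (.node (.node (.leaf 2832277948631692634212416227638340168974378164497) (.leaf 4759896922229979894050313119724915989620657242672)) (.node (.leaf 3178524151614958994428577719260368899638373468086)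 (.leaf 2043338225159440177140001628226059769346140752822)))) (.node (.node (.node (.leaf 366827790282384376652427216582130463245037740577) (.leaf 5765278677464063339129329725502587867216893495350)) (.node (.leaf 1403182760088070223969217041960345973932038921035) (.leaf 5492203441522617625735565430330059589841018121728))) (.node (.node (.leaf 56196743341040522139435935358854401600849541510) (.leaf 318364431700404679534373646061321491412095467392)) (.node (.leaf 1489159296116735715679725953659415742067964589110) (.leaf 0))))) (.node (.node (.node (.node (.leaf 1517443160851723271651564401240783976506585714036) (.leaf 5151454364958760483457183183151987154382601440598)) (.node (.leaf 517356190142176737321371736324178890467818343820) (.leaf 1634883015202737108937121243212003157933005558192))) (.node (.node (.leaf 3496809325540130322041142957434446150164664811632) (.leaf 4344469531339872157593139870755383177817503099904)) (.node (.leaf 3793387126761935228011163007409040389153565004208) (.leaf 0)))) (.node (.node (.node (.leaf 5419693219654676380044091100805361591973620502039) (.leaf 5181687001144852663883512187856469383453167607841))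 (.node (.leaf 2602057826928153493388351376885852511926935870006) (.leaf 828721146144809583539041778020139288314265210245))) (.node (.node (.leaf 1417526664819020765892663696534088507060918455296) (.leaf 1777522773653704270299463573138938912611613491760)) (.node (.leaf 4289001583162297403028826831682473411218375401689) (.leaf 0)))))) (.node (.node (.node (.node (.node (.leaf 2654976701734568023577811993275591922710958756569) (.leaf 4037581331424536455434708879904029304292760645018)) (.node (.leaf 5420574385251447269355834444410892306640607645131) (.leaf 340973640444396623950130008190035922948021651846))) (.node (.node (.leaf 3495451867264449236026794176513000506369881354288) (.leaf 498489842053591977012111123804914953945929968812)) (.node (.leaf 261363422258598560996633077673155724966443396144) (.leaf 0)))) (.node (.node (.node (.leaf 2470945290838385493291145497308816659462677087798) (.leaf 2181996318156185058087904178402349977119266288489)) (.node (.leaf 1644636862355839963739247164521351633280689459608) (.leaf 4806898544477798321767668459006362287807159340484))) (.node (.node (.leaf 1342537366921127892604625079271387852499562395526)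 (.leaf 4041929993263316542874122040022697230837726276834)) (.node (.leaf 109430161293037127441605827301811607393937132602) (.leaf 0))))) (.node (.node (.node (.node (.leaf 2859515041838747813089966393440974613628114865536) (.leaf 5201388477716984602700755083468520297981933835869)) (.node (.leaf 1493979399225727023547296311886977595457369071616) (.leaf 5378024061667570600087920251716587264517479918592))) (.node (.node (.leaf 5416069630241796762783900656983878924846964080782) (.leaf 5278821543938613384553116954363253120649851054627)) (.node (.leaf 4087525731969916693351274496159720647268710579518) (.leaf 0)))) (.node (.node (.node (.leaf 3101099610956717808943395856589755301702733282736) (.leaf 5801516340179709899961766870735840378720790449331)) (.node (.leaf 4826363750309218353271293729225917971404981543472) (.leaf 1376476441339113396119777966309494430887206925740))) (.node (.node (.leaf 1591361081570450951936070090551250474211555857328) (.leaf 1140486147081752674373073598560228520930479992236)) (.node (.leaf 3460297015186352680689010924915888466431478470794) (.leaf 0))))))))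

def hT28 : NT := .node (.node (.node (.node (.node (.node (.node (.node (.leaf 5626585376278512823688841686596703152737837943878) (.leaf 2832989327278105427265394992006390311635263256966)) (.node (.leaf 5462751548692521149207185107434828089880238703536) (.leaf 192584961384238299699664016779853572083904210950))) (.node (.node (.leaf 4340379800902126341052338283448314887485167926656) (.leaf 3622114360811749767447051632332028441802469850735)) (.node (.leaf 928674189638966070696852967469733482901291663478) (.leaf 2860939441947101280748456824577598094006134520880)))) (.node (.node (.node (.leaf 1771341837682932439624843810294274956528831600518) (.leaf 3523497414227096052658891743703632263219497265542)) (.node (.leaf 3523503197508127034700795696754610421236499156338) (.leaf 155057572912262256448444101486859822678854557870))) (.node (.node (.leaf 1749520882972880633540810454859993460357908749598) (.leaf 372363601841101032355803054627231438495302235564)) (.node (.leaf 3097547529919604578097073458456947569425527316528) (.leaf 0))))) (.node (.node (.node (.node (.leaf 2058061042810078069926230591459262982165567833606) (.leaf 128552733928790645391551837513367674829230909221))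 (.node (.leaf 5494430300179497923735806516418232826389171976118) (.leaf 5647471113434671117117454115915717793558343923116))) (.node (.node (.leaf 105616743809255325946534986702975360651118182529) (.leaf 5398455935825674117926942131232027551489414337542)) (.node (.leaf 1060828798967861321384276140741461151755643675094) (.leaf 0)))) (.node (.node (.node (.leaf 4060105255683784196419605606419065897171602337005) (.leaf 434597185192084241417417112369010259453640998912)) (.node (.leaf 928570545512424138271259422477460823566335465309) (.leaf 677686874853598369097152250019799897588693599104))) (.node (.node (.leaf 3598680365161352181030733108766042890921954465846) (.leaf 4000566896605505172798466344579830377756021714871)) (.node (.leaf 412634396765232127996645473265230558706061953974) (.leaf 0)))))) (.node (.node (.node (.node (.node (.leaf 234159319168576095140654845940951204544855674245) (.leaf 1058331097754011035616643015817804944563704982612)) (.node (.leaf 496407999363889051705246510640737191225825689088) (.leaf 4569018542046321044584504626682032021410258865200))) (.node (.node (.leaf 550830503457694764859396444109907952594896027718)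 (.leaf 110643422897332941244542398872958390137619091328)) (.node (.leaf 4063071278262329304271108689087009528813484531808) (.leaf 5542803668985548414773127298388392121716547715262)))) (.node (.node (.node (.leaf 2762154487189799280170421842028252223868369124400) (.leaf 2412968356170884002514292564824982599023211283462)) (.node (.leaf 3002252801690435699401727639542100416843494220288) (.leaf 5560622167016985416335163639312765521051051384934))) (.node (.node (.leaf 1442373116650154286863557860229589274708740869379) (.leaf 624490139145325463713191817982852085454910545937)) (.node (.leaf 1183571254853821510481362059256337266151403814961) (.leaf 0))))) (.node (.node (.node (.node (.leaf 1616726491098127173154919558515324965976450534852) (.leaf 2641379606299935967046694714858016155409548388133)) (.node (.leaf 33964251514841074612592338331648283174415654992) (.leaf 2951643181426015573756399235914919248872995840017))) (.node (.node (.leaf 704022030353587310013668202097852149278929979013) (.leaf 413991841023305524150849174129988925452747041820)) (.node (.leaf 3894745228075609326341572685362070051705751355952) (.leaf 0)))) (.node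 (.node (.node (.leaf 4904393617877622443989663117178530348699120278022) (.leaf 1238721137926081464427698163515816303074423081994)) (.node (.leaf 3792051603362916532743955370708816162912336020998) (.leaf 2035914980911268674782675896900968912990239270693))) (.node (.node (.leaf 4349825619370048373065561744680448973747742674246) (.leaf 235682989412069163283946726609338126376804720864)) (.node (.leaf 1939760785908787605841817637474309205061994804217) (.leaf 0))))))) (.node (.node (.node (.node (.node (.node (.leaf 2004675891610848650298763712823571227934058338870) (.leaf 2888587399356508626510041162445241742083557100916)) (.node (.leaf 1567452762179716471173120500954924574074637086208) (.leaf 1882626363201436501025889891566671576225562503715))) (.node (.node (.leaf 5180482777353086592950251120588366906489417761273) (.leaf 5784233341512299023185318220815739848552924777844)) (.node (.leaf 5600139276619737247887636440715879684551073357919) (.leaf 4594841550136974854807797072744146460568135429532)))) (.node (.node (.node (.leaf 4694305824835360936855968267566270890836127585286) (.leaf 1771383633122940164171518339002048377302159920387))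 (.node (.leaf 3113417330037551503647145952120249857307227148696) (.leaf 2840328509906943989472672738343350943490276854852))) (.node (.node (.leaf 3643743819037252648772345643624007266469992599688) (.leaf 1773658282875582351535973039252697218189715595665)) (.node (.leaf 1820323576873333795877415582303225121445808001456) (.leaf 0))))) (.node (.node (.node (.node (.leaf 5279944570264042773310231295133523184635094527397) (.leaf 3072085641117702260420576069244743499988500742143)) (.node (.leaf 924856513126641468613837019065726499323265998960) (.leaf 5197037001211735144601961731954216222300465855099))) (.node (.node (.leaf 4535007586252739753140819403839650864468126097878) (.leaf 3414228062392309205682114834674303640520230458422)) (.node (.leaf 4569003237421644975109405096412764128564653829606) (.leaf 0)))) (.node (.node (.node (.leaf 3416280313270656857371204035815805861903491137654) (.leaf 723595045271837942760049412853263952697556140337)) (.node (.leaf 2015532329230881437613301335096931591461970141670) (.leaf 742529839799731484867433540413888244984409800752))) (.node (.node (.leaf 179351801953279437270671378306898088811385603638)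 (.leaf 5391670164959075037962820022367149383014310417414)) (.node (.leaf 1644903687253224881711771205111095952909476566028) (.leaf 0)))))) (.node (.node (.node (.node (.node (.leaf 2728427734594359216010014693754452554602695904791) (.leaf 4409613772389074813201854036411910761062242825136)) (.node (.leaf 3738795536874112642957160562947789455916094680341) (.leaf 548510613959402573709280535192926921369247748488))) (.node (.node (.leaf 1836054516290490949088504838628343999929163448831) (.leaf 3116469239974410224415516149748591495015359843453)) (.node (.leaf 3397652827021511431380877475530039823264444464560) (.leaf 0)))) (.node (.node (.node (.leaf 2516395775365817415209489298494660064385908813872) (.leaf 2394284214286944628932881264683707793617287168080)) (.node (.leaf 337684420886619509591808999852911804120087278764) (.leaf 1036448117431466735541214790326888984529184342448))) (.node (.node (.leaf 3503241675258479891052335082791588442533275418704) (.leaf 3444422244224884719695363471151492036071910083462)) (.node (.leaf 878028195786339939387135905401181541778876555734) (.leaf 0))))) (.node (.node (.node (.node (.leaf 3961492382377884369819180396168370827549687873719)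 (.leaf 768107600159135469856970855328849437752221262248)) (.node (.leaf 4114195425367702870251429075226183663827731921462) (.leaf 1109707388716129581381809935360075044779025523200))) (.node (.node (.leaf 2007441326731640592076683131680434547980715205732) (.leaf 46833742936947104196539025352799759658761457800)) (.node (.leaf 4980513285016622846417967739300933920421542173062) (.leaf 0)))) (.node (.node (.node (.leaf 3463474261604168600340548618045207042789172890710) (.leaf 1163606939835103892128857661566461953721679090828)) (.node (.leaf 1518435113329978108065191931990137895145860424948) (.leaf 4860063845915707617808050868387713492987753467250))) (.node (.node (.leaf 934040805017745167251071282257488472155753303575) (.leaf 2010838402387561215356947969964841596562915328641)) (.node (.leaf 2516409558610050538589898730201891488732972081576) (.leaf 0)))))))) (.node (.node (.node (.node (.node (.node (.node (.leaf 2493930303979454311270024502776310352871013275229) (.leaf 4323813261313502159107889124623349790832138150311)) (.node (.leaf 750340548021004580935637690518123277535010341328) (.leaf 4439433644127006872636376302683777655579389572016)))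 (.node (.node (.leaf 5069386363766399864109163290168807828098182007856) (.leaf 2860934593289985486183721076515524910697885753390)) (.node (.leaf 4185765476988188656930725851675837451935644001200) (.leaf 2160266573937510541040430750022656117962059546112)))) (.node (.node (.node (.leaf 1241179690582162567734634944216205270363477289186) (.leaf 819615112934214020307425764119613122616730299878)) (.node (.leaf 5090855660659820040105175469130106430943295049864) (.leaf 1668532203497413823537382772989130112152455307494))) (.node (.node (.leaf 2950305175392053162732535057473717209420084546572) (.leaf 4936037788720182112086098868889308564915010202742)) (.node (.leaf 3257687483463675240532227634253232782575370109824) (.leaf 0))))) (.node (.node (.node (.node (.leaf 5437389073574266612589870434016704721209691496918) (.leaf 4538210780609622287585545883511985976162752310704)) (.node (.leaf 3752867319174387920571549696872146758927255036240) (.leaf 5803032784898286918083760660670197414288386100490))) (.node (.node (.leaf 3712206932922476588866976911690312668533784297455) (.leaf 4056067082177614162509994006467668053561988044854)) (.node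 (.leaf 3503231927915070693049409622049487748674694176864) (.leaf 0)))) (.node (.node (.node (.leaf 574814755207441429673389583848511073037814015542) (.leaf 4259469470460831589010766591794256594552750465)) (.node (.leaf 2121354319430297063120239490335884103587111309704) (.leaf 4413713513089280346198796843937158137338013614209))) (.node (.node (.leaf 1898210520822799586519076749191683606718455912326) (.leaf 1777513501725317393534947191057927779991732560801)) (.node (.leaf 1316072358820256012404570701406651229565343635846) (.leaf 0)))))) (.node (.node (.node (.node (.node (.leaf 367542111027024811781033784065383214739467813393) (.leaf 815598626797431798394093053744099651155012224645)) (.node (.leaf 3669975177386829229900142067995822611748296548526) (.leaf 5562157792191039933131689974720001577559689732656))) (.node (.node (.leaf 3138011929304670844617427211792798524551948889453) (.leaf 5128840450794599672617849428681192332659561865761)) (.node (.leaf 3604701878142623819380404863829663264820961564954) (.leaf 0)))) (.node (.node (.node (.leaf 3217518755438933806359753631466924481853365355008) (.leaf 1029114280430586880724423588325047865370726796672))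 (.node (.leaf 3642678957159340998420187929907736258075868987710) (.leaf 2888592908536170597978257715058494885209336375538))) (.node (.node (.leaf 5181760289688683773113225383791575985370461058102) (.leaf 1595137133627933953615340433269374988879118467071)) (.node (.leaf 3896213041220440149773784318532135506593120650885) (.leaf 0))))) (.node (.node (.node (.node (.leaf 3774922117300317230911387727032674374819114810558) (.leaf 289163574348277951751658293463462693531429294809)) (.node (.leaf 2394089609199469191348911645637303984084546776539) (.leaf 3854782818145041290702822460510071318372707991601))) (.node (.node (.leaf 3855419925867144284588762148831531183003408906166) (.leaf 3778111956197613731169028691752794030197508934666)) (.node (.leaf 1823442575664907721637473361131610922701399948672) (.leaf 0)))) (.node (.node (.node (.leaf 1489526378785356617495121101428976221206692616029) (.leaf 3851326234369544312472282723195317870694219582669)) (.node (.leaf 3031479686159084111952844193786345774301223391496) (.leaf 4801188533754707112547689236899368974818561108643))) (.node (.node (.leaf 5309873022472551724554093765901204634223430361190)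 (.leaf 5379737089274672465220102677711079267144396123696)) (.node (.leaf 848479793036435965463185919933440818743107152980) (.leaf 0))))))) (.node (.node (.node (.node (.node (.node (.leaf 3820235837852204941286441808267936570039975452896) (.leaf 9277144030830021575339951189273576464673931334)) (.node (.leaf 3465319762754486352225388718428164630521066229108) (.leaf 175945955519298971816275925655018722043926612867))) (.node (.node (.leaf 2414100953374035900012883011356111334947907758086) (.leaf 4673623743302442726613055018001514677983582527183)) (.node (.leaf 3257683769943548460680750377940285909304603116289) (.leaf 5826738636139715089570988612746370440212409445602)))) (.node (.node (.node (.leaf 1537625533670315187473894522573063883039131787537) (.leaf 796214269945909701281083356330241599672947528088)) (.node (.leaf 391791340643766128091566693564706772905884026052) (.leaf 3420606641003216945904602029626873731120334659630))) (.node (.node (.leaf 2856193497609315658582037644808312206187862694926) (.leaf 2946242230426115236615435385542740685452630582837)) (.node (.leaf 2184974007236500931000325964870017378147580772791) (.leaf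 0))))) (.node (.node (.node (.node (.leaf 2856314167577558022980044384706755490561125837824) (.leaf 4319576160041208909277218793146273739050293661131)) (.node (.leaf 469678915094345272703197515320064661037620306144) (.leaf 2703579033610484811010741510498675583670174376359))) (.node (.node (.leaf 2459987698215848802678191807550802250628760411406) (.leaf 5203207410225095308387813556123233126473577229594)) (.node (.leaf 4899089687337423269379230829059249112818077460486) (.leaf 0)))) (.node (.node (.node (.leaf 1758337510388149566736620448453251081984839478444) (.leaf 2877548215364818080474620712778774570072900819894)) (.node (.leaf 1566995736237282131684315336581622592542155170153) (.leaf 3116639090890699570602517934667177329727024900578))) (.node (.node (.leaf 132026684796479685686668084846511745016084838442) (.leaf 1574855476675786107593321786675982613645586353687)) (.node (.leaf 1595139459133949529371889009786497980847347204607) (.leaf 0)))))) (.node (.node (.node (.node (.node (.leaf 371843333631765701831066273529844275717088240096) (.leaf 812887557313905641138859874518622920531753790611)) (.node (.leaf 5581702771107916852759985703914969768158043030582)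 (.leaf 1182839198674255443859599638683766993897315656241))) (.node (.node (.leaf 3478188660586609818980036798298602551361329069246) (.leaf 4988517208596117708801030042159404344626796325995)) (.node (.leaf 3498623373867332405626204156965586591229264060528) (.leaf 0)))) (.node (.node (.node (.leaf 4058104472257974796637597573064836937222002630768) (.leaf 1186173987609945855634134115763082692522879762961)) (.node (.leaf 5807211048768070214539433866548987572511922881732) (.leaf 3280167851497009330965308937585167661910345843200))) (.node (.node (.leaf 2473123761739704668880474620400857340204749884554) (.leaf 2139472020423313947192118918673035225101941399088)) (.node (.leaf 1828293866667523330785141375080024189832157687124) (.leaf 0))))) (.node (.node (.node (.node (.leaf 3898252731836720431985742232247530313109651382384) (.leaf 357784207660859557240816946511172808919077964726)) (.node (.leaf 1243888926231948631429703906213444431164965340049) (.leaf 46520227522536367267296391720220282072007213056))) (.node (.node (.leaf 5114969086806313566906761782875353424442927035446) (.leaf 2417906964833039255050151677036220692349000089712))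 (.node (.leaf 4348121015723847505721246192843171007259533664358) (.leaf 0)))) (.node (.node (.node (.leaf 3698475693022229817890982394220521184216391838946) (.leaf 3397658707693994097132699782541879401582856068382)) (.node (.leaf 3311422192932500961440049996323396659786293999622) (.leaf 2354057307354258939229543823677403068683276588422))) (.node (.node (.leaf 1058130386255116726185460341293989413182323843552) (.leaf 4236282835639879205112319422165261360052156071296)) (.node (.leaf 1182835334430729640084356042905646083119700246577) (.leaf 0))))))))

def hT29 : NT := .node (.node (.node (.node (.node (.node (.node (.node (.leaf 517881409712491915237256325444416765412136518401) (.leaf 817303122161752208469667746949354801703720062003)) (.node (.leaf 29510724598961530708983630818982543084147465246) (.leaf 2459698703217674587563637954908318696109915336503))) (.node (.node (.leaf 2723298544483189964672468207454663484128841489968) (.leaf 5445933311544264490671370405674107600006689885184)) (.node (.leaf 1242797307689762179523598042671958229252312910896) (.leaf 575709378417390159674657140295816135536443989262)))) (.node (.node (.node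 (.leaf 4041934105235106433014251049556540531609142733238) (.leaf 3878711094235065408437121396517250447792957047313)) (.node (.leaf 3288743164532097246975426669793387511323275821568) (.leaf 2469843059643716523094843542310133259060543945467))) (.node (.node (.leaf 5217948227478752193598650191555988502729530739891) (.leaf 4349369849913021254532966530446525141748427219118)) (.node (.leaf 5379724708589868682577896753075966535854484574103) (.leaf 0))))) (.node (.node (.node (.node (.leaf 3581240137619333766862282587691390255169425596696) (.leaf 5781053694719376935423211689794117925533118791040)) (.node (.leaf 4080978696192312452109909614285684528457920807310) (.leaf 1164191751001606050647726144566897144309576371258))) (.node (.node (.leaf 74127970711726384527643613833565136546149695502) (.leaf 3620259261086766460676208773086955970271828726168)) (.node (.leaf 47280809100713245854309401992350219860919224326) (.leaf 0)))) (.node (.node (.node (.leaf 2857844442317256065204541084521513545432498182150) (.leaf 1798947269458053527108889328407300178014183293185)) (.node (.leaf 3649123858825351080455303392258981727990341894334) (.leaf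 4031047224907180987361846066472209291507032351000))) (.node (.node (.leaf 702546609553895083255698413063809719782748544286) (.leaf 3001931478643623588294466669454314285505547799794)) (.node (.leaf 3934863151335925311446088372510458831381156793219) (.leaf 0)))))) (.node (.node (.node (.node (.node (.leaf 1936907284996652119137762954744043075503088483376) (.leaf 5647478667256308956448190988308250451726121261110)) (.node (.leaf 5062096921397951215718238732336448717458915961904) (.leaf 4190018651140044931713716273406083153645322667076))) (.node (.node (.leaf 654395575080802169952865345969062890944186220673) (.leaf 5338516067345624610410567710923042714965507130129)) (.node (.leaf 389283380354054833414348649748375462852006281216) (.leaf 3219030755072316145148079360599144857360081882571)))) (.node (.node (.node (.leaf 3517431700223248071226847419466116651296025810188) (.leaf 2018049949472050692083856878642910530609219358166)) (.node (.leaf 2009564777203104859877526335976375729529364159502) (.leaf 1032137559150895117501415089799832284023062363454))) (.node (.node (.leaf 4597336402804808906662343624108748715766047351862) (.leaf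 4822947173091699869390265827375084145533095544838)) (.node (.leaf 846580895692150833379599634579531701410573851648) (.leaf 0))))) (.node (.node (.node (.node (.leaf 5493904522158022397167078224009224473380431634528) (.leaf 438560517967759450020797926318960179117909300278)) (.node (.leaf 5567727675081820297696710516472904750404695937968) (.leaf 3698947682949359211827942796279519494204858171264))) (.node (.node (.leaf 32670803869703088337541756555616048376755022948) (.leaf 1262030586951246174521178965463790401201031137334)) (.node (.leaf 1956502330195678321331493346086111701306966419109) (.leaf 0)))) (.node (.node (.node (.leaf 3870750337614570636180791966712260681046453349741) (.leaf 3672249572577917577197967458791325539272919536345)) (.node (.leaf 49251892858362670548477502818901665823622978590) (.leaf 1190417641080560883484344655966830700939433148799))) (.node (.node (.leaf 877665216127733417026560408776452550787253644774) (.leaf 2308386922384521776055254267369813772804490199224)) (.node (.leaf 4080246890664106447701316908908487788902274112782) (.leaf 0))))))) (.node (.node (.node (.node (.node (.node (.leaf 2180937484930519768176813340032295289561231531392)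 (.leaf 5388372998536269235876471501703587714426927115264)) (.node (.leaf 5206062618077094121231814696696194600267968357281) (.leaf 1797331987097869635635990701138635700485832489910))) (.node (.node (.leaf 5600406888050473055241040645819792368836919455188) (.leaf 4936031505491205045041439761966301412663156861952)) (.node (.leaf 1469786406801632697625090709152475172913771470944) (.leaf 1634089784418158500118704219213006958317275251457)))) (.node (.node (.node (.leaf 391569291419886663525440491753170440997297199114) (.leaf 2058052085533384465321097503667093694679361719171)) (.node (.leaf 50422102107969945330298341485256130393936167110) (.leaf 794828923275270294540115017493003808895081479486))) (.node (.node (.leaf 4219952343341541451366320335290613831574856873014) (.leaf 4085706445505186160367340609256388152735776861549)) (.node (.leaf 1443184896172242489615145581365025020831657036675) (.leaf 0))))) (.node (.node (.node (.node (.leaf 2442184089416319414018135038414866134831335457846) (.leaf 5412369167084661219887036610988497300678560435670)) (.node (.leaf 3926758485502786358702958066430770875565063464180) (.leaf 74144141850630353901213393528644070634965441550)))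 (.node (.node (.leaf 3446453142600125729162382724240769344595678200200) (.leaf 1829787491299491420153073147524858288390761252036)) (.node (.leaf 4190007503685801428188966831517771447102042803266) (.leaf 0)))) (.node (.node (.node (.leaf 1364170153835636481234895946187044958955546547206) (.leaf 867858936358618864213519893439699166460234467334)) (.node (.leaf 4980495979549688414818077173857714265225111147660) (.leaf 4321588966936320809530029738636610658212125613056))) (.node (.node (.leaf 3856335260056153216069428610129653076325722289670) (.leaf 1135257596751930970583620060942594841216666581034)) (.node (.leaf 3937162100556938167027391192385701526935434128661) (.leaf 0)))))) (.node (.node (.node (.node (.node (.leaf 1515753797168998385055272582483682621193724366856) (.leaf 5545962674537453755064978589935429415148519896118)) (.node (.leaf 50437390449763378604696213281635180351529848192) (.leaf 3974737914174869305420813084435295797309386351488))) (.node (.node (.leaf 420699500712638660884829918876638866853249093632) (.leaf 2467736423269226085645652950878834644037705158167)) (.node (.leaf 1793750644348622261036422464327232590457832941110)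 (.leaf 0)))) (.node (.node (.node (.leaf 2702533029380494763887958694328517906174050479536) (.leaf 7122256953291515458636483311684257258974420366)) (.node (.leaf 3647562846539391794940442711034906280907755187347) (.leaf 3875210503668535242118933740929893576415894269165))) (.node (.node (.leaf 1751783842373128241580716856034998565814313176599) (.leaf 3741762433225918718935220609688900474197368424530)) (.node (.leaf 2337358806838700217041450224812485261865790507014) (.leaf 0))))) (.node (.node (.node (.node (.leaf 2840323033360202835379397125813548419476306297862) (.leaf 1492153249774115804005449668698922034463773228799)) (.node (.leaf 69311500641938773931515283940944664753948622912) (.leaf 5599635787104232651509136495465176909264676067718))) (.node (.node (.leaf 3113414012616115760408503234645760569241460302248) (.leaf 4573604749204278635044224373073823899769930711552)) (.node (.leaf 5542900904180896924686881225116202943280274060208) (.leaf 0)))) (.node (.node (.node (.leaf 4157515141061773372798471240945813845154449788163) (.leaf 3471408581968540434094517449834698603293974921406)) (.node (.leaf 1632916707834725207761751257918912440332485619200)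 (.leaf 3295159519315184496211340554102218654727145521664))) (.node (.node (.leaf 1719908977518861007641609702154111820889227117908) (.leaf 1164208755070282946100489678953075295970134357052)) (.node (.leaf 821183468321014609717172236788874617784435761638) (.leaf 0)))))))) (.node (.node (.node (.node (.node (.node (.node (.leaf 2433772954148736500801094244764426978640425002661) (.leaf 5621436406638852472506253380733502137884823281710)) (.node (.leaf 6787092433168766114556062144613770359321133569) (.leaf 2579318881332037958438336905253171235203289975866))) (.node (.node (.leaf 4053437152386844155812133319520929934523593383472) (.leaf 575708533429840901864585576039927783752113200512)) (.node (.leaf 2058437513823292605205638471258391768102406783745) (.leaf 575696031130286121869960411278812587515996733582)))) (.node (.node (.node (.leaf 1899656490343086536736998941051791673051428643177) (.leaf 1416281047412042481629508512899644253166166084674)) (.node (.leaf 391066762468662038639227990449263253386714680772) (.leaf 4166883608712548964463629066733082981756112046470))) (.node (.node (.leaf 156829445482147922677621272215406987082495223814)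 (.leaf 4962772157577294258568325649942792951673344128188)) (.node (.leaf 2494152353164580159781891500326783111630992700409) (.leaf 0))))) (.node (.node (.node (.node (.leaf 2884219854787011530133073800554030775016077690886) (.leaf 3315391368895150125114574252417931115467065724146)) (.node (.leaf 4040572404308009133319448789759106044315572904496) (.leaf 2641382109609936442654813323262738741112850312339))) (.node (.node (.leaf 1536639534300930081816797762862557551061609932020) (.leaf 4345754165404233632414504749402628255612077818769)) (.node (.leaf 1751781078611920694889175701645232346284545564711) (.leaf 0)))) (.node (.node (.node (.leaf 1239194798074134659214815190306612745592726331440) (.leaf 3283986237286332293446163329856288880438154731392)) (.node (.leaf 175990731188355796102102008922208069783422821492) (.leaf 2309255504242683863579652869390716964712564365830))) (.node (.node (.leaf 2624057110094901944915341950926668817492775152291) (.leaf 216452643793788181928085729777310972776856448410)) (.node (.leaf 4725568808212871531839097370114069887912779120776) (.leaf 0)))))) (.node (.node (.node (.node (.node (.leaf 1442685324772688951320551052993223911694288555467)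 (.leaf 2702330207531235996449336589525035512833715498084)) (.node (.leaf 4186898506050704343109359364980175595277898902406) (.leaf 1827691112521236575087174784232908596308266996790))) (.node (.node (.leaf 1564475329061387222680508266932099487890592629632) (.leaf 3066744480739250606831284234201258301061268353)) (.node (.leaf 1794130306462393546830943047381472737907853782437) (.leaf 0)))) (.node (.node (.node (.leaf 211159922860443102027165296606674895026183904975) (.leaf 2991600465420207995535282861335503316932146774545)) (.node (.leaf 2330086046174720520535617974453478825941685155766) (.leaf 2462129446036859366386512098603160692454364048796))) (.node (.node (.leaf 1037941415215738345023826465250691744571606836901) (.leaf 1239570900901478831766734491911483492046839205334)) (.node (.leaf 4134322450892017337072617618862348635023986158692) (.leaf 0))))) (.node (.node (.node (.node (.leaf 1210709032702708075641208523107173585377927190810) (.leaf 4857209339641259676251980867261198352724214639981)) (.node (.leaf 5131484047335437223558595635500582647327074861136) (.leaf 5605783223737051933156852742603622832691790777344))) (.node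 (.node (.leaf 260021683319778428002627564263118072543336530689) (.leaf 2862586393287618013231649331114359164307693256112)) (.node (.leaf 2520441142190744007789457766948403856353199705174) (.leaf 0)))) (.node (.node (.node (.leaf 3291244342004705094270534975006491719727568685122) (.leaf 3855979839196825192369760281140209511800931421062)) (.node (.leaf 1316067598846463628828253516659544969959363122444) (.leaf 654897190773037888315327040781740848597537984263))) (.node (.node (.leaf 3055516887955478123956061874921502283741442810416) (.leaf 5062110148592443604251829834178250856774671557094)) (.node (.leaf 1467266412980098793942199126699473154936540782688) (.leaf 0))))))) (.node (.node (.node (.node (.node (.node (.leaf 71496472221454965778755462457869781638831931400) (.leaf 2394084509384603196841841065888543418618579761133)) (.node (.leaf 2723115888758977526861101668311221653279250910983) (.leaf 1471892456175631733685509281176481857679374084338))) (.node (.node (.leaf 4939399930929511689183065965511862639554383896688) (.leaf 4519331548992567823942168239939728077409374241537)) (.node (.leaf 2442192383819742708064604811668936507157292805588)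 (.leaf 5500919761641320529630913628891261649641873294225)))) (.node (.node (.node (.leaf 4134367052042022414990769303508818970626392785136) (.leaf 1936862770800645300875979334552407168190263459712)) (.node (.leaf 5416493340063093778982435710477681335106157153739) (.leaf 4988428005785446813081469140776297917791077690780))) (.node (.node (.leaf 5206061883767684725783628568550071579603918414225) (.leaf 1077955934956115290459790389756184314666823409944)) (.node (.leaf 3467613101419542838349350724479560732255688957824) (.leaf 0))))) (.node (.node (.node (.node (.leaf 5623729199069958943081523219231249214909246437766) (.leaf 3522788060461285290338009780867221055468257284232)) (.node (.leaf 5540718647304670092108263647812671194859798422400) (.leaf 5600624404928317346115420709729122563675847929392))) (.node (.node (.leaf 1058687907010846832676343651072015715219869822380) (.leaf 1131186093512344446854123029275952797618684447670)) (.node (.leaf 742883126482659943878898579003087410454833676817) (.leaf 0)))) (.node (.node (.node (.leaf 365510172614617915275769000023127659320071979008) (.leaf 794515493226745572016269292933134009197655949055))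 (.node (.leaf 3102193700508739753589321398731210622716286050352) (.leaf 2081230553319362806997138262916180779203972500722))) (.node (.node (.leaf 3256291454279171111666068266279489188176874508039) (.leaf 2137138850179969095550699107369543967357851074758)) (.node (.leaf 5560621953359089616847665376576384894070078352432) (.leaf 0)))))) (.node (.node (.node (.node (.node (.leaf 3072978716287398235402979936500247088593806324796) (.leaf 3156900586786496984103747498280213631716569145439)) (.node (.leaf 130103141089673457739815118109745623942651142424) (.leaf 239352246038890721486990056331890803804899420258))) (.node (.node (.leaf 5412389510589203886817168710067683729126363474992) (.leaf 714322107099132242294055769888691277464109056)) (.node (.leaf 2136023809340106431935372299426974083276094857633) (.leaf 0)))) (.node (.node (.node (.leaf 548152408218300445029271367933153088132320202888) (.leaf 2803041425597498124811967708037534319984841288923)) (.node (.leaf 2253013761451026945198947635640210253072156262535) (.leaf 873044649762423197462483306526924693374319966189))) (.node (.node (.leaf 792804633403421397452942902622730278206029600646)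 (.leaf 2227211910265483510196775251422306582266737527946)) (.node (.leaf 5316483714766254309856790277207686408663226787493) (.leaf 0))))) (.node (.node (.node (.node (.leaf 1396812606573499875225959915410990178005823283617) (.leaf 4637398621630087578026902750900827856539688198961)) (.node (.leaf 22836137648149913076725182393534472884399898688) (.leaf 1317587098492214534838086849162188274258598781745))) (.node (.node (.leaf 3178866993352542959718708652427515918605584985195) (.leaf 55595882481224054672973395527804049839361032456)) (.node (.leaf 4100715006424740651160280700374990020858452574448) (.leaf 0)))) (.node (.node (.node (.leaf 3156914167963572623819198643761684737787230740016) (.leaf 1347193060350973073643599113786863473827278425267)) (.node (.leaf 3415384185312232636749998261065469115193730167996) (.leaf 725494694913755727139916265916501860172097747334))) (.node (.node (.leaf 1835216282988485763736850930787117666832343891456) (.leaf 4752741110575500809699125723912477145286215501830)) (.node (.leaf 2137139875362679922654915317329235894257587752320) (.leaf 0))))))))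

def hT30 : NT := .node (.node (.node (.node (.node (.node (.node (.node (.leaf 3852731175958663408067555955416240082442801119737) (.leaf 3158122701757492246136493822388968778348821041584)) (.node (.leaf 3058977090520223924046985847015295808205812334734) (.leaf 2696974166305597081333439595978545690056183644032))) (.node (.node (.leaf 772930811244099744409275711313015250103712208733) (.leaf 5678719816472081173031544244462436183801445759018)) (.node (.leaf 548509915870001895760223515104559585060837855232) (.leaf 1006637868526183489932920215771718121103502085572)))) (.node (.node (.node (.leaf 2139480600664421643694002671185736830624787119727) (.leaf 1213766697540533815895871418550008847364575947995)) (.node (.leaf 769035257045861982042925731359215070932272823728) (.leaf 2780100697651855720814546463349461051121710939184))) (.node (.node (.leaf 2803130670262879764501969942880186788746196684172) (.leaf 2317218005007120050134180388815229577690452290779)) (.node (.leaf 1186068957307078936384165829405883048024687009831) (.leaf 0))))) (.node (.node (.node (.node (.leaf 828727108657181381472783457001317421224029521414) (.leaf 4754802286642618945489701350680978936328078806102))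 (.node (.leaf 5203199434598966089457742626188822789725269350838) (.leaf 2083105013103166212253121113789149662699512009868))) (.node (.node (.leaf 438066588200161921835404957390528321836894339632) (.leaf 4082644955542128370508781889938448603671822158774)) (.node (.leaf 4694303290710162822331759917679881457112712220044) (.leaf 0)))) (.node (.node (.node (.leaf 2414160421273443262036379085697105206078687609167) (.leaf 3931768618078467205600540572653827815905343448741)) (.node (.leaf 2538207034020272289467710224173009969393152601136) (.leaf 4349102243522754437571204010465949175346778104294))) (.node (.node (.leaf 3278279118235172352453250947412159987021316574099) (.leaf 1060443200875196740019355335045277839660254901686)) (.node (.leaf 4059815345238556798761545435577599554141000264939) (.leaf 0)))))) (.node (.node (.node (.node (.node (.leaf 4345757112346902310730536458718988181756706840993) (.leaf 155063746405022676087766112186664369995381300510)) (.node (.leaf 3031680784871157570358421834876167603940830679432) (.leaf 3711545607451685326130467532394352145880839225216))) (.node (.node (.leaf 700412247265090327266966428662261460316924408320)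 (.leaf 3461350207302118539707994237520918464577797644327)) (.node (.leaf 5159207227770305457221211051220488097020112852573) (.leaf 3895854835461763967333515425200258458573586121489)))) (.node (.node (.node (.leaf 3031474502212415077458651901848041133496130474368) (.leaf 3438023450204045731282560360938692468282182336904)) (.node (.leaf 4348127539575058509962167523051190005037674581078) (.leaf 4779714039951989198429914442723336498834090778726))) (.node (.node (.leaf 848444880905456763894560512437473882009503076103) (.leaf 1219135125188245912333756921803103975383780472758)) (.node (.leaf 1061341719368241600068260583231824270901564173780) (.leaf 0))))) (.node (.node (.node (.node (.leaf 5414865405369657005482917138351304172351603802302) (.leaf 2928035631685264446534600605583907110380085207601)) (.node (.leaf 2857020323794999907165887065816451251749082597826) (.leaf 4119499355877745354045102142383051932487261660214))) (.node (.node (.leaf 875329787893320857315172215546751391416130760155) (.leaf 4988361102776258256758043296919911588093863882093)) (.node (.leaf 878340409507561113230597072179512846476540313777) (.leaf 0)))) (.node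 (.node (.node (.leaf 4519314608223399358317398249559589576645860787072) (.leaf 2317210235409810781997367243171882581082464246710)) (.node (.leaf 621635654648949535360912360238871312955508785550) (.leaf 4929775067200369575138821614882543421601398587135))) (.node (.node (.leaf 2656747397289012240500153346995754412863449992258) (.leaf 1567318695852271381613714419228550137152111575552)) (.node (.leaf 1977999252789226433588916988757575035842935328125) (.leaf 0))))))) (.node (.node (.node (.node (.node (.node (.leaf 1489170263736410659548967694330966378940335085978) (.leaf 4369842087707533647491965374079635158106008412433)) (.node (.leaf 2415966823744467107386363800159152179786256248218) (.leaf 4339837716683890084463946241144575852389608258171))) (.node (.node (.leaf 3471037205959870774243394622657344886549709440438) (.leaf 68955385617049903418297297355426091597394215553)) (.node (.leaf 1517440656509275779579629584822940261043338864006) (.leaf 5619300524257347871037722742388161041654922120262)))) (.node (.node (.node (.leaf 2285093491613939096092198408379752253751320596888) (.leaf 3298955541701877712157787750875672859365141930030))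 (.node (.leaf 742885953463491135156374996085687460020066722352) (.leaf 1037650939278243510054969229132733836944014599733))) (.node (.node (.leaf 3647658950080872020478011188999496565747003041445) (.leaf 2497938604379637051925288775803548158450175046144)) (.node (.leaf 3619998923452517871143594706520744532595849063834) (.leaf 0))))) (.node (.node (.node (.node (.leaf 3691365971998915629584309739688187775745397532898) (.leaf 74551664190255127288163316879264110552366449032)) (.node (.leaf 6779441512800170770060285903806198697574793217) (.leaf 175946550482145148742948778151608981802689431046))) (.node (.node (.leaf 4886408355135669203020763007360111151750876608438) (.leaf 2232787107632390859043090566891301964871585762763)) (.node (.leaf 1828539178684916252652675618400738900547127676285) (.leaf 0)))) (.node (.node (.node (.leaf 744332676281691304494795568729193288843573346864) (.leaf 1978002368815756235216552921169785681046962829190)) (.node (.leaf 1426807027104657906757952352420424372642605957190) (.leaf 3976073437625743667343020866417438663791232284550))) (.node (.node (.leaf 3115723584264811656444244971677173260100394665300)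 (.leaf 2595353288384887000144977252729796884993199074386)) (.node (.leaf 1830489965155312515347015025677540494581293813120) (.leaf 0)))))) (.node (.node (.node (.node (.node (.leaf 5386810822077110311413288722990031840007576117734) (.leaf 3176372806196941606277044232003889169644810515376)) (.node (.leaf 1810585308280659949251472664821735545295134832) (.leaf 2386559270982863516733522607768058842613140433443))) (.node (.node (.leaf 4118802135498875046355215063306487675142441677996) (.leaf 5283155887100537595071950004363886484061401934955)) (.node (.leaf 3547656745568836550009681535068546270476283044529) (.leaf 0)))) (.node (.node (.node (.leaf 3027038745387415932441840229051669030354209897662) (.leaf 209740101037568799631698530998549211969668738330)) (.node (.leaf 4289626002837822633469243395582788741295076237592) (.leaf 2012776780048498225456994302619935332259466319878))) (.node (.node (.leaf 2474729409324774929613050644384901150171907976364) (.leaf 4489536279085140017167740301957074170721510100026)) (.node (.leaf 815506878605424674531009424761445733459556956038) (.leaf 0))))) (.node (.node (.node (.node (.leaf 478415965762236787533878645233887822795323056000)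 (.leaf 791054982152048207800856157348088449413854465346)) (.node (.leaf 156605503232327971818733541135841532770160305973) (.leaf 4324980237382699987936267316519204720167328468054))) (.node (.node (.leaf 1648126818683529804699203969994775447885341264908) (.leaf 5520042248267180996617667020448039692312391828918)) (.node (.leaf 1060442213628466314448651248013705091233983060250) (.leaf 0)))) (.node (.node (.node (.leaf 4077872993758676574016855315980184632514896109263) (.leaf 1183509527656113308102186960049165312974742528224)) (.node (.leaf 4674675493547081176537146396993723640896722167156) (.leaf 1796248851408075818260082024600750868041980641537))) (.node (.node (.leaf 5623822601827641737105579170023087455466578534495) (.leaf 4802025944151710066927370998388656014260540573762)) (.node (.leaf 4613686187507143045261192350924834699561423540224) (.leaf 0)))))))) (.node (.node (.node (.node (.node (.node (.node (.leaf 1034179483232625930102722568258843862668389056689) (.leaf 412118558171944360138534363832502027598574387592)) (.node (.leaf 1293336671968744933071947789118066063842328448452) (.leaf 5787083624594006058509543894704963481317434909940)))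 (.node (.node (.leaf 743979391044968258346731133075924223861834956880) (.leaf 4186907305181382752490082287317351581886485980981)) (.node (.leaf 1464813300893395635423310350506395327622379143352) (.leaf 2309658048620375278639482758066287252291186262206)))) (.node (.node (.node (.leaf 78898686847652435722401277611974936564479618166) (.leaf 1058334627668993373152078724948714391722388931638)) (.node (.leaf 2185093943936775822174330862827406875211722850816) (.leaf 5154676125761056131894818031155800917299072594937))) (.node (.node (.leaf 550833724387271190169175492572085077971627183174) (.leaf 2017338692114922405814263147053771423889463446924)) (.node (.leaf 3298965830453193471764611965981955456505868467248) (.leaf 0))))) (.node (.node (.node (.node (.leaf 748645306424841478841065078390808868437246736262) (.leaf 4099399294057001092594023207707878772832935598646)) (.node (.leaf 3156753471119964727485862560786716077184777828205) (.leaf 5312359800503682223910477793980889522511372740998))) (.node (.node (.leaf 2923008860737162000003068384336541835125139701761) (.leaf 193192788158692419282556618143641016566566117456)) (.node (.leaf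 2659601870841632071183943991003429320992838582414) (.leaf 0)))) (.node (.node (.node (.leaf 496408536311136543109662851471331610663968047103) (.leaf 1757374550636033756715718022285212075731176200582)) (.node (.leaf 2950951897938534132464898954987558932820258128055) (.leaf 4906351792766880492077556513106945719822823981055))) (.node (.node (.leaf 4983005510285795493251115081559666440223362521226) (.leaf 4936043471107556530299049908715984310137077891190)) (.node (.leaf 2065615755330817862230665314976263463742879702400) (.leaf 0)))))) (.node (.node (.node (.node (.node (.leaf 5600393143093805681538962237109128811572184990774) (.leaf 1830546326417540653600236617215088018843203558430)) (.node (.leaf 1537668765985647731087008309635970460389611070708) (.leaf 2490671930779740024545691705348268704059570082224))) (.node (.node (.leaf 309939988238541015639588927850893230274232551814) (.leaf 1879630279605334946734390679148569606185969975631)) (.node (.leaf 856125048443603109125101305078154215453279026366) (.leaf 0)))) (.node (.node (.node (.leaf 2865756945623016494117855457365783897385849197708) (.leaf 4030636792140389297263359948190907057619594997559))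 (.node (.leaf 746931520477175499213344339295222107639094936582) (.leaf 4775671254651356443241397664480639220806176769092))) (.node (.node (.leaf 1641699316320546784433160097821197650329942557184) (.leaf 189116594101373986058878010123889154776370250241)) (.node (.leaf 2010847441052823667865880168869914186864649110400) (.leaf 0))))) (.node (.node (.node (.node (.leaf 5786128884521309087552296223392833776810272255397) (.leaf 517881041782494868820810306524783174472942355328)) (.node (.leaf 5212239247596996200639148864991596252366077955138) (.leaf 4241924628304297386770326335530569072794659741729))) (.node (.node (.leaf 3025971793324064591380067184862543172316878799112) (.leaf 4261566107644292589042408728175761833252263830049)) (.node (.leaf 1446078330773345288566032453055815384539458557789) (.leaf 0)))) (.node (.node (.node (.leaf 1757378577472517075686961963558118176796149222666) (.leaf 5045228510038057102338831088860155701490231855186)) (.node (.leaf 4987023053414628944159679641611265640164468919501) (.leaf 2596646725928001445968788320787613682519871848846))) (.node (.node (.leaf 33985856929790105390410315821413575746170429536)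 (.leaf 2081542760787893837287108462904024978368034439297)) (.node (.leaf 2466157003003516096173365904160002223171024577926) (.leaf 0))))))) (.node (.node (.node (.node (.node (.node (.leaf 571658177987181297831757412288011029859392323648) (.leaf 5314238874739203945731688400779249308656745913614)) (.node (.leaf 3030877986710276471920379464856408319373890290062) (.leaf 232186976930932149005097010819513293465126121008))) (.node (.node (.leaf 5500922778703045403921109808428747767414990594465) (.leaf 3285831317878334331665021278058726068893974787065)) (.node (.leaf 3691374212361449973687081002400927207937405994422) (.leaf 1300309290892194184402848460742000148873525646941)))) (.node (.node (.node (.leaf 4988414444638603899340698714543250155565582603318) (.leaf 1715122270781209441102889099513495559495444862982)) (.node (.leaf 702453758376665754908440710870665267551329083809) (.leaf 1906253845293343825155586188147269010622801695664))) (.node (.node (.leaf 5231260600324696181525557305000422158816685862448) (.leaf 2231783534880912058463147627515806575949025078419)) (.node (.leaf 5358622520554878831241648056409736159379507118591)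 (.leaf 0))))) (.node (.node (.node (.node (.leaf 1220003565138479315088787531524089884862499985802) (.leaf 2056196898715842835687713307213032246116740647571)) (.node (.leaf 4694802221283784493009015071231507299232642262581) (.leaf 4134899428282018142521790915411136272466411459590))) (.node (.node (.leaf 339151626638386413685801193932787331990962531610) (.leaf 3422141490891393585755434391351937038344174305152)) (.node (.leaf 4112066129628188081561604414213607438408249794983) (.leaf 0)))) (.node (.node (.node (.leaf 4535011300155310999441675331044874925502316923952) (.leaf 2139022256468833462307880365477230521330475445296)) (.node (.leaf 3138018601227501850454027402684221568095984924598) (.leaf 3111451543642814010992591531752696113241218354227))) (.node (.node (.leaf 2600596116530187381323988239306814627697994654385) (.leaf 2185107838346404654233379751097477305764536320897)) (.node (.leaf 1771373609989888903671053760853832191306740401797) (.leaf 0)))))) (.node (.node (.node (.node (.node (.leaf 3773473416160799162284750048251005505718799502650) (.leaf 4441527689004068477019063598076809190907124257932)) (.node (.leaf 1849769655873106291565941757342298448437165097158)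 (.leaf 4121097943874133035005317744558554114055080733922))) (.node (.node (.leaf 74557620257200049141802656099194849841173696904) (.leaf 2702524939614126103412188707233914416549261069654)) (.node (.leaf 5678728023070107265152598662630068432934246837276) (.leaf 0)))) (.node (.node (.node (.leaf 4156400102951203004368573241692364259890009694544) (.leaf 4180526839724749578344658769026333010553856720768)) (.node (.leaf 1116029388672399434830512572773401558603732946695) (.leaf 4102635358284675715859077575126697220473559069868))) (.node (.node (.leaf 5826725533822056591545152764430252195889899022774) (.leaf 3156909881235182497067823772107203103363059990127)) (.node (.leaf 3415674574173654462510442293288997211928984687756) (.leaf 0))))) (.node (.node (.node (.node (.leaf 3033018824285819748932897616404822484058148727836) (.leaf 1513736537978535558494085628664805277358709572676)) (.node (.leaf 3178879572474287161081732104188521157297579276854) (.leaf 856169824182783285900244733593251450388763764084))) (.node (.node (.leaf 206283985546651572158627952644415268763598094336) (.leaf 3133341277013023986841270420472948596539469709744))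 (.node (.leaf 5357953497241834097413331429735178518848680779871) (.leaf 0)))) (.node (.node (.node (.leaf 3936969961964266757643998464602395580089331536601) (.leaf 4699823416981847048478769090569669051451552301055)) (.node (.leaf 4316800655054504951253477801673495428317995581423) (.leaf 4415921261363973946714110731731400064562795405392))) (.node (.node (.leaf 3395941885563086306717204633075093734255652728090) (.leaf 4700009251343330321214752720414632182913725220278)) (.node (.leaf 3395659742135632489976810334969812565320905111405) (.leaf 0))))))))

def hT31 : NT := .node (.node (.node (.node (.node (.node (.node (.node (.leaf 4983513062487674527942124170645815541761188078646) (.leaf 437865488727785520402518414138747515058739484678)) (.node (.leaf 2840328956166125173474822859667002354083491514434) (.leaf 4512086308133704571830438371994714446705070284672))) (.node (.node (.leaf 3238008066523746668245077679993232160757152420232) (.leaf 5720519602968301779143398533703740566475954592134)) (.node (.leaf 5174870582840553383254035908965753663740772801243) (.leaf 2018052314543336527057132886646219428268637970918)))) (.node (.node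 (.node (.leaf 2435893348150095041767300589319844737115922757510) (.leaf 3495270549480137342924451927414030744390030287022)) (.node (.leaf 4062052967235859397582056031305995308208118654773) (.leaf 868773360817306468317390844723410612165760803296))) (.node (.node (.leaf 2950319450543259725596727888375025228947974788102) (.leaf 79388645901430502890801385366017256899357404672)) (.node (.leaf 1461512809481594435645227300509963048981576548360) (.leaf 0))))) (.node (.node (.node (.node (.leaf 3794202948803530842790036288389463885664840705414) (.leaf 1491716725330806693645852815150395990322977708038)) (.node (.leaf 4806885599006768451301040387114360160074932388870) (.leaf 869464676954891988221002003957537646010139934790))) (.node (.node (.leaf 2191615966462989662536719399653985148066127883824) (.leaf 2832276398983181950938444574543146861179714487216)) (.node (.leaf 4934593949815009139045883388222813383589265146254) (.leaf 0)))) (.node (.node (.node (.leaf 594450146324848749403744800114144698676856623488) (.leaf 5151425005530417277734693710146251670532027252913)) (.node (.leaf 1956243867733536141987121177825213080920984143414)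 (.leaf 894107204994183385260301724019430137580625030379))) (.node (.node (.leaf 2183702869609208606476257462582975634899810844977) (.leaf 2854645773382249789509827069966452944907890589710)) (.node (.leaf 830107582326718857366287122191516728062756320774) (.leaf 0)))))) (.node (.node (.node (.node (.node (.leaf 193211215194430882461657763065787644330158374960) (.leaf 105817449750406773412728983675279114526622679297)) (.node (.leaf 2466634234998557298758408645049813569770581065911) (.leaf 4941016552237926095826622808366104341113984188734))) (.node (.node (.leaf 4180574279640666564567198670914413188997041622067) (.leaf 3856290745817611259377860867714159776900810945974)) (.node (.leaf 2888576629257580015411752919841966481936140330374) (.leaf 4158761839201193924075923629975230401920657781248)))) (.node (.node (.node (.leaf 2004664971016256453566661502548821927280855726061) (.leaf 2863789066834601429806282627854708989268400802930)) (.node (.leaf 4030645877764198457852393435050323461739684196224) (.leaf 4076563130615885760788367011457895358214714453013))) (.node (.node (.leaf 558635798411781196474075072108410172813816627598) (.leaf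 846539430244047630255879150132110552919298806796)) (.node (.leaf 5437652823052953285304666924574050326431762335158) (.leaf 0))))) (.node (.node (.node (.node (.leaf 4541070840293793546794510426318977474429060028294) (.leaf 261344129034095100567038686058891558076275777638)) (.node (.leaf 2112697054114580874111778328952024923639602217345) (.leaf 3873650697974501655086190330616384837277605748848))) (.node (.node (.leaf 2079089286820718516138498767267721621339902116736) (.leaf 228850424728564905204104875065787766533497422720)) (.node (.leaf 3366214840171905912867112933422053340217770511426) (.leaf 0)))) (.node (.node (.node (.leaf 3285826850308800221448314621038477703703007326720) (.leaf 2625704516870263378175301208971658041562546831758)) (.node (.leaf 3363913196985744701580175931217707723242241350070) (.leaf 1998639065745392841439039878376059939457180304257))) (.node (.node (.leaf 175931263414093528948267398799001939383064726917) (.leaf 3628639680775283047929801568733383298373114044111)) (.node (.leaf 4826408177965130604907066788766342235087675376694) (.leaf 0))))))) (.node (.node (.node (.node (.node (.node (.leaf 3058493580682224295420255396714189334248354720816)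 (.leaf 2161357345804290766851735290331699718618430529809)) (.node (.leaf 2779402724564473306900221893714545203434913792511) (.leaf 4640625067908472276633474406954500954408838783377))) (.node (.node (.leaf 5154680890841917715294694873270595301841056039417) (.leaf 4000563387902310415625254476742843908019849003447)) (.node (.leaf 3395696573771547958280560559158598679326158753220) (.leaf 2410936991235582255059256005091787120879031146333)))) (.node (.node (.node (.leaf 4297721250588006516524591425959079042584625810546) (.leaf 2679498147351387930087367555250604738105606543750)) (.node (.leaf 5201254411874018057928996432168342515954293621649) (.leaf 1293348292014095736498353643295084752422381782022))) (.node (.node (.leaf 657612045164101305109654496222797715998428789950) (.leaf 1398429086224754689008304175514006839863719678681)) (.node (.leaf 4409610190256622004798742999008184684906384941417) (.leaf 0))))) (.node (.node (.node (.node (.leaf 1986214153006970478089036281750273651812188955297) (.leaf 5802319162349315932908003238925484729555812617668)) (.node (.leaf 1446701191297966437138906681683402316359544761222) (.leaf 5338671083701850295753617059087089577171937942558)))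 (.node (.node (.leaf 4080242775832939771272050959519178877335702798478) (.leaf 3414473951570689316602584770328714245564095557036)) (.node (.leaf 5755129360462536153703928181439043205435163460662) (.leaf 0)))) (.node (.node (.node (.leaf 3903967297830838365300428829930483512957349274273) (.leaf 2455171608827772261780499554383666596009933565035)) (.node (.leaf 4517633933701491928858469875755289642858358501888) (.leaf 5787687704730312260962635623103465813328098535522))) (.node (.node (.leaf 5383147393916837507934759064194015343483922827923) (.leaf 110643100965931733259184077056911710603045048071)) (.node (.leaf 5135598270680583396067289936930788296468347997232) (.leaf 0)))))) (.node (.node (.node (.node (.node (.leaf 5760422081546258488908924265730743058798315705484) (.leaf 5783624061589523525707038720656994247991351784502)) (.node (.leaf 3541232481549272623454748845825992100465771307425) (.leaf 1819040387233623129021998306048304235274137202004))) (.node (.node (.leaf 2695706876935700934989047125110197684687271849107) (.leaf 388345961430930729091965987370584389658907541504)) (.node (.leaf 51945898088578078761619752153227438781337361334)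 (.leaf 0)))) (.node (.node (.node (.leaf 3421052658728736777248492876256419178911328923034) (.leaf 3341929138177692519814279674693128976531336752549)) (.node (.leaf 1160895756817047259035182468222355200285010232838) (.leaf 4103368816449089371031952689004760568915845999700))) (.node (.node (.leaf 1958054287246042883232413918221373793168984960000) (.leaf 4002347416212228094191539857119816865426697841899)) (.node (.leaf 2144297372963120509447641653815164638763647438066) (.leaf 0))))) (.node (.node (.node (.node (.leaf 3238209949249046715305558994595468033453156274440) (.leaf 4460627275821186624374957970012442918926730453104)) (.node (.leaf 3255180717152808036145902320068667934477531814278) (.leaf 3157435764455187024485652902477968900795684293891))) (.node (.node (.leaf 234520225498871626687869486693636161025081741184) (.leaf 3540138725522347034867808167533602088786361757104)) (.node (.leaf 1793751187008625573111156350560686106891374063013) (.leaf 0)))) (.node (.node (.node (.leaf 5081734741640904764677979125627540132679086178440) (.leaf 235191501878480023610286259311411011699837256209)) (.node (.leaf 2436981431195291417478800175009310936562006220336)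 (.leaf 2860626362115180345142307099484445840295589158784))) (.node (.node (.leaf 5036308035906866037061483600346111206222517726548) (.leaf 4266313462392711423611280705063338426084324476422)) (.node (.leaf 1343223509735424098331221434035425988986956177503) (.leaf 0)))))))) (.node (.node (.node (.node (.node (.node (.node (.leaf 1748235277671077949458408999095233835148412911745) (.leaf 4988347149978832946060508647693868844345845462966)) (.node (.leaf 30361114694137421300440370233750738103427062491) (.leaf 4674678436494080114930206413863464919732635241714))) (.node (.node (.leaf 188447049074703028960345267687229831343074463255) (.leaf 1053131185519954779282489863331338810151218480134)) (.node (.leaf 2860581934518377590139448201290882841992752776246) (.leaf 2803025689723822100537465724289787714959005899702)))) (.node (.node (.node (.leaf 877649093306153512940989684017268925376870244822) (.leaf 2470514541183614768337075874301152775227318731263)) (.node (.leaf 2181404105189117118201950535894492877280735507376) (.leaf 177068582222435812549232249120662054125367656712))) (.node (.node (.leaf 3414228639778313427035328017199849091956184476700)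 (.leaf 877754506196602496879047506562364055270741727642)) (.node (.leaf 4238022000460040231443481481523988339345842700472) (.leaf 0))))) (.node (.node (.node (.node (.leaf 4822169310397299695276309321452359127033219688546) (.leaf 3793184632076302023715470643186175137752269433904)) (.node (.leaf 1936898902336725521135513274559645336937876447278) (.leaf 4439450452967377063180721454626376687950092751577))) (.node (.node (.leaf 3546293568911865726262213365741292438272624695434) (.leaf 2695705937303813155824139723511563221318574689206)) (.node (.leaf 4820615635439146057655963570243119707481291306038) (.leaf 0)))) (.node (.node (.node (.leaf 815595994649539543213525328367619846042702646150) (.leaf 4750014421227978437461654622697740702028178426950)) (.node (.leaf 2116890337448188418461413042552683493953514624861) (.leaf 255379643830049325353361434737729043200386780630))) (.node (.node (.leaf 2928026557140486905025007807682595243042785460273) (.leaf 4717097273239973627431463147387910762951456050224)) (.node (.leaf 3414468765847859492890435209035946487743051946394) (.leaf 0)))))) (.node (.node (.node (.node (.node (.leaf 1698086085057998050015354223162586277376723968)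 (.leaf 1462917761788564937192207940618022224450491187505)) (.node (.leaf 3177018181402752486115802540836170637068500102022) (.leaf 2410703829323180096687563193764442731248596577748))) (.node (.node (.leaf 2167583459454385644597048843202179182909419657165) (.leaf 2596066910806231872167813113053119912728216404166)) (.node (.leaf 4939990721872040894989986746447674678074677395574) (.leaf 0)))) (.node (.node (.node (.leaf 4759174853785214165601191431952367690561886355526) (.leaf 3213321775190525824534927416549312180640521415701)) (.node (.leaf 1639045253967290312795728306804866449426428396417) (.leaf 1379541617804459917279073327826396024956354472162))) (.node (.node (.leaf 851694691798183337489600897250282556030139145935) (.leaf 127560837422507217017305571331840900709933911492)) (.node (.leaf 3460252500822771646874483821632036494802223293684) (.leaf 0))))) (.node (.node (.node (.node (.leaf 4779704509981252988902609385410495995426066189398) (.leaf 5829800615125225766637255711083460758183528772780)) (.node (.leaf 1379529366474717231764985147622047022492944657748) (.leaf 4875836359167306735265991828778737877434690233460))) (.node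 (.node (.leaf 1998560710621166568149802317712493806209168796954) (.leaf 191208002087333701834115922779999362397843448081)) (.node (.leaf 1835363218802678280767278393431769230126243122301) (.leaf 0)))) (.node (.node (.node (.leaf 1719921426324232211412355743989216395578157214134) (.leaf 517266987268680491138049835483745632591402959105)) (.node (.leaf 5359871353510394751519771828284622572006709095650) (.leaf 795805022985158430865872127955550318941805964563))) (.node (.node (.leaf 1754521128163679298883761456828715826288648241616) (.leaf 2361398758481444540857831048490348124793633802306)) (.node (.leaf 1792836856710803969379586709642929884207883513307) (.leaf 0))))))) (.node (.node (.node (.node (.node (.node (.leaf 4114184726125778506739686739457390251858739358827) (.leaf 2058349814626363415847892942065002599667601796524)) (.node (.leaf 22880738798264617523544922816429634814090412096) (.leaf 1467935436349915906894311437460083089515680369730))) (.node (.node (.leaf 189111728053557157633627777334208454446927577089) (.leaf 108471228305631481438197799046750695537282580744)) (.node (.leaf 2001415184228504706375866725109969785377795867129)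 (.leaf 2394293915372779201943737802441495414536810569776)))) (.node (.node (.node (.leaf 3714710563564152334432326757067805178062257217809) (.leaf 3926803261196529029996518805974937944598022054256)) (.node (.leaf 5674803249706026958574686865523016766522216988720) (.leaf 4100224396325596778256734001410154662619790729249))) (.node (.node (.leaf 1636743489131434576753812057436966478695868745654) (.leaf 5784826736834529317665819958347331928697129170950)) (.node (.leaf 2476602651610969830692795620394763811318781996507) (.leaf 0))))) (.node (.node (.node (.node (.leaf 4780023410572884072534958860573756321517891045302) (.leaf 2011518186473859013816631335223029867994138742028)) (.node (.leaf 682442226589548185650114127908861666354563233645) (.leaf 2512306248042412696463744005927333566943468719218))) (.node (.node (.leaf 2231770756229984957737048547500355362008382196662) (.leaf 1975813776519117731270529747465773118914049106406)) (.node (.leaf 5044715384775099125152468557798973365423933427010) (.leaf 0)))) (.node (.node (.node (.leaf 867855893553694181700720723077534125714820858948) (.leaf 395333631076046338441481741309001703206279909768))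 (.node (.leaf 1564464592472166902417547949920195375308394791681) (.leaf 4941596344845141230416655194581473395908936728968))) (.node (.node (.leaf 4085644515129121310194943607861460765169703993904) (.leaf 2516018708365994054761717729592005539191307375622)) (.node (.leaf 3894738317363573803866635805378603847127640580641) (.leaf 0)))))) (.node (.node (.node (.node (.node (.leaf 1234060262811816502121680367367115486298085744976) (.leaf 5259606124308643675984340478802309210984215678324)) (.node (.leaf 4080585767125584855313929171770555460886508610096) (.leaf 2570364276460793395049577889005044957214936921081))) (.node (.node (.leaf 4030645808367325202151369819904561879425286340791) (.leaf 3027042233177000167392604149079681202236908306750)) (.node (.leaf 3697033211271228214307863640115474779335166838838) (.leaf 0)))) (.node (.node (.node (.leaf 4060102740984963445223458307634961855246248565595) (.leaf 3461261004490615684346905624999293186713762663549)) (.node (.leaf 5604465619252784548205953085552195720036370088334) (.leaf 517368187699443729019837628745105938907015616906))) (.node (.node (.leaf 2206396556785330271876550797507456104135161069167)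 (.leaf 1820224612066066614640558883136782628467752609890)) (.node (.leaf 1641709801012896367607451793716641549346690237313) (.leaf 0))))) (.node (.node (.node (.node (.leaf 4640414486965923339620417050442680954124906842166) (.leaf 1341060346375559355286643883306956799857908977021)) (.node (.leaf 1037939528836580986365690362946465429235932679094) (.leaf 4960641373730104182988144044626585702729978154122))) (.node (.node (.leaf 2645487331501302414938421411654384697865535908742) (.leaf 1507307651267078956948073007853770096473633198088)) (.node (.leaf 2822059918084248456510538343887763867057296423862) (.leaf 0)))) (.node (.node (.node (.leaf 177073580467619550396704762749403302274462781576) (.leaf 5389910701785658993654301930499020140661021016447)) (.node (.leaf 4775945203783613682544367409895528920011224146016) (.leaf 4908331074271826510103153023618924710700486891910))) (.node (.node (.leaf 5786357272743932906284727970785896691230074358710) (.leaf 3597475259453521734555392964809761967958578102607)) (.node (.leaf 5492203219678580024493481232348412223639606526391) (.leaf 0))))))))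

def hT : NT := .node (.node (.node (.node (.node (hT0) (hT16)) (.node (hT8) (hT24))) (.node (.node (hT4) (hT20)) (.node (hT12) (hT28)))) (.node (.node (.node (hT2) (hT18)) (.node (hT10) (hT26))) (.node (.node (hT6) (hT22)) (.node (hT14) (hT30))))) (.node (.node (.node (.node (hT1) (hT17)) (.node (hT9) (hT25))) (.node (.node (hT5) (hT21)) (.node (hT13) (hT29)))) (.node (.node (.node (hT3) (hT19)) (.node (hT11) (hT27))) (.node (.node (hT7) (hT23)) (.node (hT15) (hT31)))))

def he0T0 : NT := .node (.node (.node (.node (.node (.node (.node (.node (.leaf 1) (.leaf 5817)) (.node (.leaf 3428) (.leaf 2886))) (.node (.node (.leaf 1866) (.leaf 3177)) (.node (.leaf 4759) (.leaf 2247)))) (.node (.node (.node (.leaf 974) (.leaf 5827)) (.node (.leaf 4125) (.leaf 6211))) (.node (.node (.leaf 2672) (.leaf 6860)) (.node (.leaf 2483) (.leaf 0))))) (.node (.node (.node (.node (.leaf 498) (.leaf 2806)) (.node (.leaf 3779) (.leaf 5321))) (.node (.node (.leaf 981) (.leaf 3452)) (.node (.leaf 5037) (.leaf 0)))) (.node (.node (.node (.leaf 1426) (.leaf 6400)) (.node (.leaf 3534) (.leaf 7286))) (.node (.node (.leaf 2903) (.leaf 266)) (.node (.leaf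 4490) (.leaf 0)))))) (.node (.node (.node (.node (.node (.leaf 253) (.leaf 5924)) (.node (.leaf 3611) (.leaf 6151))) (.node (.node (.leaf 2081) (.leaf 6109)) (.node (.leaf 2494) (.leaf 7343)))) (.node (.node (.node (.leaf 1204) (.leaf 6317)) (.node (.leaf 4288) (.leaf 6416))) (.node (.node (.leaf 2732) (.leaf 6773)) (.node (.leaf 5123) (.leaf 0))))) (.node (.node (.node (.node (.leaf 737) (.leaf 1415)) (.node (.leaf 72) (.leaf 3925))) (.node (.node (.leaf 2490) (.leaf 858)) (.node (.leaf 5178) (.leaf 0)))) (.node (.node (.node (.leaf 1646) (.leaf 4195)) (.node (.leaf 4604) (.leaf 6870))) (.node (.node (.leaf 3250) (.leaf 3637)) (.node (.leaf 5693) (.leaf 0))))))) (.node (.node (.node (.node (.node (.node (.leaf 128) (.leaf 5878)) (.node (.leaf 3528) (.leaf 6133))) (.node (.node (.leaf 1975) (.leaf 4690)) (.node (.leaf 4693) (.leaf 5370)))) (.node (.node (.node (.leaf 1092) (.leaf 6279)) (.node (.leaf 4213) (.leaf 6925))) (.node (.node (.leaf 2778) (.leaf 893)) (.node (.leaf 5385) (.leaf 0))))) (.node (.node (.node (.node (.leaf 620) (.leaf 6071)) (.node (.leaf 3123) (.leaf 5130))) (.node (.node (.leaf 2385) (.leaf 4891))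 (.node (.leaf 5102) (.leaf 0)))) (.node (.node (.node (.leaf 1224) (.leaf 6146)) (.node (.leaf 3617) (.leaf 4064))) (.node (.node (.leaf 423) (.leaf 6703)) (.node (.leaf 5635) (.leaf 0)))))) (.node (.node (.node (.node (.node (.leaf 377) (.leaf 5981)) (.node (.leaf 3695) (.leaf 4407))) (.node (.node (.leaf 2180) (.leaf 6698)) (.node (.leaf 4976) (.leaf 0)))) (.node (.node (.node (.leaf 1315) (.leaf 4950)) (.node (.leaf 4366) (.leaf 7206))) (.node (.node (.leaf 2966) (.leaf 2491)) (.node (.leaf 2512) (.leaf 0))))) (.node (.node (.node (.node (.leaf 645) (.leaf 6093)) (.node (.leaf 3614) (.leaf 4735))) (.node (.node (.leaf 2584) (.leaf 6819)) (.node (.leaf 3903) (.leaf 0)))) (.node (.node (.node (.leaf 1753) (.leaf 354)) (.node (.leaf 4682) (.leaf 5216))) (.node (.node (.leaf 3116) (.leaf 5697)) (.node (.leaf 5758) (.leaf 0)))))))) (.node (.node (.node (.node (.node (.node (.node (.leaf 65) (.leaf 5849)) (.node (.leaf 3477) (.leaf 4241))) (.node (.node (.leaf 1917) (.leaf 3173)) (.node (.leaf 4572) (.leaf 7134)))) (.node (.node (.node (.leaf 1032) (.leaf 6254)) (.node (.leaf 4167) (.leaf 2702))) (.node (.node (.leaf 2733)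 (.leaf 5853)) (.node (.leaf 5349) (.leaf 0))))) (.node (.node (.node (.node (.leaf 559) (.leaf 6049)) (.node (.leaf 3824) (.leaf 3937))) (.node (.node (.leaf 2335) (.leaf 6748)) (.node (.leaf 5066) (.leaf 0)))) (.node (.node (.node (.leaf 1483) (.leaf 6423)) (.node (.leaf 4489) (.leaf 5918))) (.node (.node (.leaf 2520) (.leaf 5061)) (.node (.leaf 3757) (.leaf 0)))))) (.node (.node (.node (.node (.node (.leaf 316) (.leaf 4578)) (.node (.leaf 3655) (.leaf 2999))) (.node (.node (.leaf 742) (.leaf 2762)) (.node (.leaf 4939) (.leaf 4850)))) (.node (.node (.node (.leaf 1263) (.leaf 4057)) (.node (.leaf 4324) (.leaf 7203))) (.node (.node (.leaf 2916) (.leaf 2985)) (.node (.leaf 5481) (.leaf 0))))) (.node (.node (.node (.node (.leaf 798) (.leaf 3780)) (.node (.leaf 4002) (.leaf 7200))) (.node (.node (.leaf 1141) (.leaf 4035)) (.node (.leaf 5215) (.leaf 0)))) (.node (.node (.node (.leaf 1201) (.leaf 830)) (.node (.leaf 4644) (.leaf 7060))) (.node (.node (.leaf 3289) (.leaf 3191)) (.node (.leaf 5725) (.leaf 0))))))) (.node (.node (.node (.node (.node (.node (.leaf 191) (.leaf 5894)) (.node (.leaf 3566) (.leaf 7087))) (.node (.node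 (.leaf 1950) (.leaf 1585)) (.node (.leaf 4434) (.leaf 903)))) (.node (.node (.node (.leaf 1148) (.leaf 6299)) (.node (.leaf 3205) (.leaf 3036))) (.node (.node (.leaf 2825) (.leaf 4603)) (.node (.leaf 5413) (.leaf 0))))) (.node (.node (.node (.node (.leaf 680) (.leaf 2246)) (.node (.leaf 3913) (.leaf 7190))) (.node (.node (.leaf 2438) (.leaf 5942)) (.node (.leaf 2316) (.leaf 0)))) (.node (.node (.node (.leaf 401) (.leaf 3776)) (.node (.leaf 4560) (.leaf 1635))) (.node (.node (.leaf 1936) (.leaf 7003)) (.node (.leaf 5664) (.leaf 0)))))) (.node (.node (.node (.node (.node (.leaf 331) (.leaf 5759)) (.node (.leaf 3738) (.leaf 6866))) (.node (.node (.leaf 2234) (.leaf 6077)) (.node (.leaf 42) (.leaf 0)))) (.node (.node (.node (.leaf 1373) (.leaf 3608)) (.node (.leaf 2127) (.leaf 5138))) (.node (.node (.leaf 3017) (.leaf 6946)) (.node (.leaf 5552) (.leaf 0))))) (.node (.node (.node (.node (.leaf 913) (.leaf 6201)) (.node (.leaf 4089) (.leaf 2273))) (.node (.node (.leaf 2635) (.leaf 3631)) (.node (.leaf 930) (.leaf 0)))) (.node (.node (.node (.leaf 1810) (.leaf 6234)) (.node (.leaf 4719) (.leaf 6340))) (.node (.node (.leaf 3389)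 (.leaf 7064)) (.node (.leaf 5786) (.leaf 0))))))))

def he0T1 : NT := .node (.node (.node (.node (.node (.node (.node (.node (.leaf 3) (.leaf 5818)) (.node (.leaf 3430) (.leaf 4021))) (.node (.node (.leaf 1868) (.leaf 6586)) (.node (.leaf 4584) (.leaf 1173)))) (.node (.node (.node (.leaf 976) (.leaf 6227)) (.node (.leaf 4127) (.leaf 4316))) (.node (.node (.leaf 2684) (.leaf 5788)) (.node (.leaf 1884) (.leaf 0))))) (.node (.node (.node (.node (.leaf 500) (.leaf 5982)) (.node (.leaf 3781) (.leaf 1350))) (.node (.node (.leaf 2288) (.leaf 6647)) (.node (.leaf 5039) (.leaf 0)))) (.node (.node (.node (.leaf 1428) (.leaf 1354)) (.node (.leaf 834) (.leaf 1463))) (.node (.node (.leaf 3061) (.leaf 6986)) (.node (.leaf 4263) (.leaf 0)))))) (.node (.node (.node (.node (.node (.leaf 255) (.leaf 2317)) (.node (.leaf 3613) (.leaf 6143))) (.node (.node (.leaf 2041) (.leaf 6654)) (.node (.leaf 4897) (.leaf 1418)))) (.node (.node (.node (.leaf 1206) (.leaf 6319)) (.node (.leaf 4269) (.leaf 6571))) (.node (.node (.leaf 2871) (.leaf 5046)) (.node (.leaf 5447) (.leaf 0))))) (.node (.node (.node (.node (.leaf 739) (.leaf 2996)) (.node (.leaf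 3961) (.leaf 7156))) (.node (.node (.leaf 2421) (.leaf 3744)) (.node (.leaf 5180) (.leaf 0)))) (.node (.node (.node (.leaf 1648) (.leaf 6446)) (.node (.leaf 4606) (.leaf 4615))) (.node (.node (.leaf 3251) (.leaf 6933)) (.node (.leaf 867) (.leaf 0))))))) (.node (.node (.node (.node (.node (.node (.leaf 130) (.leaf 5880)) (.node (.leaf 1594) (.leaf 7004))) (.node (.node (.leaf 1794) (.leaf 6616)) (.node (.leaf 4829) (.leaf 2682)))) (.node (.node (.node (.leaf 1093) (.leaf 5626)) (.node (.leaf 2409) (.leaf 1779))) (.node (.node (.leaf 2779) (.leaf 6891)) (.node (.leaf 5386) (.leaf 0))))) (.node (.node (.node (.node (.leaf 0) (.leaf 4128)) (.node (.leaf 3867) (.leaf 7120))) (.node (.node (.leaf 2386) (.leaf 2872)) (.node (.leaf 5103) (.leaf 0)))) (.node (.node (.node (.leaf 1540) (.leaf 4068)) (.node (.leaf 3105) (.leaf 819))) (.node (.node (.leaf 3014) (.leaf 6417)) (.node (.leaf 5636) (.leaf 0)))))) (.node (.node (.node (.node (.node (.leaf 379) (.leaf 311)) (.node (.leaf 3555) (.leaf 2463))) (.node (.node (.leaf 907) (.leaf 210)) (.node (.leaf 194) (.leaf 0)))) (.node (.node (.node (.leaf 1317) (.leaf 74)) (.node (.leaf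 4368) (.leaf 5615))) (.node (.node (.leaf 2968) (.leaf 6955)) (.node (.leaf 5516) (.leaf 0))))) (.node (.node (.node (.node (.leaf 859) (.leaf 1984)) (.node (.leaf 4051) (.leaf 3515))) (.node (.node (.leaf 2586) (.leaf 2534)) (.node (.leaf 5249) (.leaf 0)))) (.node (.node (.node (.leaf 1755) (.leaf 857)) (.node (.leaf 4684) (.leaf 6782))) (.node (.node (.leaf 3345) (.leaf 6795)) (.node (.leaf 4513) (.leaf 0)))))))) (.node (.node (.node (.node (.node (.node (.node (.leaf 67) (.leaf 5850)) (.node (.leaf 3479) (.leaf 4379))) (.node (.node (.leaf 1918) (.leaf 4380)) (.node (.leaf 4796) (.leaf 7167)))) (.node (.node (.node (.leaf 1034) (.leaf 5279)) (.node (.leaf 3719) (.leaf 7235))) (.node (.node (.leaf 2735) (.leaf 6875)) (.node (.leaf 5350) (.leaf 0))))) (.node (.node (.node (.node (.leaf 561) (.leaf 6051)) (.node (.leaf 1625) (.leaf 7152))) (.node (.node (.leaf 2088) (.leaf 2545)) (.node (.leaf 4475) (.leaf 0)))) (.node (.node (.node (.leaf 1485) (.leaf 5596)) (.node (.leaf 4491) (.leaf 6874))) (.node (.node (.leaf 3109) (.leaf 849)) (.node (.leaf 4137) (.leaf 0)))))) (.node (.node (.node (.node (.node (.leaf 318) (.leaf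 5115)) (.node (.leaf 3657) (.leaf 2359))) (.node (.node (.leaf 1861) (.leaf 3850)) (.node (.leaf 2943) (.leaf 2578)))) (.node (.node (.node (.leaf 1265) (.leaf 2760)) (.node (.leaf 4326) (.leaf 1727))) (.node (.node (.leaf 2917) (.leaf 6725)) (.node (.leaf 5482) (.leaf 0))))) (.node (.node (.node (.node (.leaf 800) (.leaf 5204)) (.node (.leaf 4004) (.leaf 7168))) (.node (.node (.leaf 2533) (.leaf 6330)) (.node (.leaf 4409) (.leaf 0)))) (.node (.node (.node (.leaf 1701) (.leaf 1844)) (.node (.leaf 4646) (.leaf 4985))) (.node (.node (.leaf 3301) (.leaf 7044)) (.node (.leaf 5726) (.leaf 0))))))) (.node (.node (.node (.node (.node (.node (.leaf 193) (.leaf 5700)) (.node (.leaf 3568) (.leaf 5585))) (.node (.node (.leaf 2028) (.leaf 6113)) (.node (.leaf 4864) (.leaf 7183)))) (.node (.node (.node (.leaf 1149) (.leaf 6245)) (.node (.leaf 3057) (.leaf 5100))) (.node (.node (.leaf 1465) (.leaf 6904)) (.node (.leaf 5063) (.leaf 0))))) (.node (.node (.node (.node (.leaf 682) (.leaf 6092)) (.node (.leaf 3915) (.leaf 4868))) (.node (.node (.leaf 2440) (.leaf 3564)) (.node (.leaf 5140) (.leaf 0)))) (.node (.node (.node (.leaf 1593) (.leaf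 2237)) (.node (.leaf 2399) (.leaf 6525))) (.node (.node (.leaf 3204) (.leaf 7014)) (.node (.leaf 2204) (.leaf 0)))))) (.node (.node (.node (.node (.node (.leaf 439) (.leaf 1365)) (.node (.leaf 3740) (.leaf 6062))) (.node (.node (.leaf 2236) (.leaf 5944)) (.node (.leaf 5006) (.leaf 0)))) (.node (.node (.node (.leaf 1375) (.leaf 5741)) (.node (.leaf 4406) (.leaf 7282))) (.node (.node (.leaf 3019) (.leaf 4739)) (.node (.leaf 5554) (.leaf 0))))) (.node (.node (.node (.node (.leaf 915) (.leaf 1809)) (.node (.leaf 3837) (.leaf 7212))) (.node (.node (.leaf 2637) (.leaf 6764)) (.node (.leaf 5268) (.leaf 0)))) (.node (.node (.node (.leaf 1812) (.leaf 3972)) (.node (.leaf 4720) (.leaf 7316))) (.node (.node (.leaf 3390) (.leaf 7030)) (.node (.leaf 5687) (.leaf 0))))))))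

def he0T2 : NT := .node (.node (.node (.node (.node (.node (.node (.node (.leaf 5) (.leaf 5819)) (.node (.leaf 3432) (.leaf 505))) (.node (.node (.leaf 1870) (.leaf 1789)) (.node (.leaf 3773) (.leaf 3064)))) (.node (.node (.node (.leaf 978) (.leaf 5597)) (.node (.leaf 4129) (.leaf 6984))) (.node (.node (.leaf 2686) (.leaf 5861)) (.node (.leaf 5315) (.leaf 0))))) (.node (.node (.node (.node (.leaf 502) (.leaf 6024)) (.node (.leaf 738) (.leaf 7005))) (.node (.node (.leaf 634) (.leaf 6737)) (.node (.leaf 5040) (.leaf 0)))) (.node (.node (.node (.leaf 1430) (.leaf 1910)) (.node (.leaf 4448) (.leaf 7288))) (.node (.node (.leaf 3063) (.leaf 2983)) (.node (.leaf 5587) (.leaf 0)))))) (.node (.node (.node (.node (.node (.leaf 257) (.leaf 2664)) (.node (.leaf 3615) (.leaf 7117))) (.node (.node (.leaf 2084) (.leaf 6656)) (.node (.leaf 2926) (.leaf 784)))) (.node (.node (.node (.leaf 1208) (.leaf 329)) (.node (.leaf 4290) (.leaf 1909))) (.node (.node (.leaf 2678) (.leaf 6917)) (.node (.leaf 5449) (.leaf 0))))) (.node (.node (.node (.node (.leaf 741) (.leaf 4981)) (.node (.leaf 3907) (.leaf 6555))) (.node (.node (.leaf 2492) (.leaf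 1869)) (.node (.leaf 3736) (.leaf 0)))) (.node (.node (.node (.leaf 1364) (.leaf 6442)) (.node (.leaf 4608) (.leaf 4182))) (.node (.node (.leaf 3253) (.leaf 3748)) (.node (.leaf 5345) (.leaf 0))))))) (.node (.node (.node (.node (.node (.node (.leaf 132) (.leaf 4198)) (.node (.leaf 3530) (.leaf 1370))) (.node (.node (.leaf 1978) (.leaf 3855)) (.node (.leaf 4831) (.leaf 7230)))) (.node (.node (.node (.leaf 1095) (.leaf 4794)) (.node (.leaf 4216) (.leaf 6320))) (.node (.node (.leaf 2780) (.leaf 361)) (.node (.leaf 1719) (.leaf 0))))) (.node (.node (.node (.node (.leaf 623) (.leaf 2523)) (.node (.leaf 2570) (.leaf 2341))) (.node (.node (.leaf 2388) (.leaf 6769)) (.node (.leaf 3478) (.leaf 0)))) (.node (.node (.node (.leaf 1542) (.leaf 3828)) (.node (.leaf 2162) (.leaf 7302))) (.node (.node (.leaf 3158) (.leaf 3586)) (.node (.leaf 1080) (.leaf 0)))))) (.node (.node (.node (.node (.node (.leaf 381) (.leaf 2790)) (.node (.leaf 3512) (.leaf 4163))) (.node (.node (.leaf 2183) (.leaf 6700)) (.node (.leaf 76) (.leaf 0)))) (.node (.node (.node (.leaf 1319) (.leaf 4059)) (.node (.leaf 3095) (.leaf 7036))) (.node (.node (.leaf 2970)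 (.leaf 1610)) (.node (.leaf 1388) (.leaf 0))))) (.node (.node (.node (.node (.leaf 845) (.leaf 4417)) (.node (.leaf 3792) (.leaf 5964))) (.node (.node (.leaf 2588) (.leaf 6821)) (.node (.leaf 3627) (.leaf 0)))) (.node (.node (.node (.leaf 1757) (.leaf 4904)) (.node (.leaf 1661) (.leaf 7181))) (.node (.node (.leaf 3347) (.leaf 2846)) (.node (.leaf 4555) (.leaf 0)))))))) (.node (.node (.node (.node (.node (.node (.node (.leaf 69) (.leaf 108)) (.node (.leaf 3481) (.leaf 4493))) (.node (.node (.leaf 804) (.leaf 1324)) (.node (.leaf 186) (.leaf 7326)))) (.node (.node (.node (.leaf 1036) (.leaf 6256)) (.node (.leaf 4169) (.leaf 756))) (.node (.node (.leaf 386) (.leaf 6148)) (.node (.leaf 4929) (.leaf 0))))) (.node (.node (.node (.node (.leaf 563) (.leaf 2746)) (.node (.leaf 3827) (.leaf 7171))) (.node (.node (.leaf 2280) (.leaf 6682)) (.node (.leaf 3987) (.leaf 0)))) (.node (.node (.node (.leaf 1397) (.leaf 3121)) (.node (.leaf 4369) (.leaf 7295))) (.node (.node (.leaf 3111) (.leaf 6879)) (.node (.leaf 5608) (.leaf 0)))))) (.node (.node (.node (.node (.node (.leaf 320) (.leaf 5518)) (.node (.leaf 3545) (.leaf 3551))) (.node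 (.node (.leaf 2102) (.leaf 6678)) (.node (.leaf 3970) (.leaf 7157)))) (.node (.node (.node (.leaf 1267) (.leaf 6321)) (.node (.leaf 4327) (.leaf 7173))) (.node (.node (.leaf 2919) (.leaf 409)) (.node (.leaf 5484) (.leaf 0))))) (.node (.node (.node (.node (.leaf 157) (.leaf 6145)) (.node (.leaf 4005) (.leaf 7182))) (.node (.node (.leaf 2535) (.leaf 2698)) (.node (.leaf 5217) (.leaf 0)))) (.node (.node (.node (.leaf 1703) (.leaf 4237)) (.node (.leaf 4647) (.leaf 6677))) (.node (.node (.leaf 1322) (.leaf 6963)) (.node (.leaf 4140) (.leaf 0))))))) (.node (.node (.node (.node (.node (.node (.leaf 195) (.leaf 5893)) (.node (.leaf 3570) (.leaf 544))) (.node (.node (.leaf 2030) (.leaf 1112)) (.node (.leaf 3862) (.leaf 7339)))) (.node (.node (.node (.leaf 1009) (.leaf 6300)) (.node (.leaf 4204) (.leaf 7086))) (.node (.node (.leaf 2827) (.leaf 202)) (.node (.leaf 5416) (.leaf 0))))) (.node (.node (.node (.node (.leaf 301) (.leaf 6094)) (.node (.leaf 3916) (.leaf 4299))) (.node (.node (.leaf 2407) (.leaf 6348)) (.node (.leaf 5141) (.leaf 0)))) (.node (.node (.node (.leaf 1595) (.leaf 2133)) (.node (.leaf 4563) (.leaf 4135))) (.node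 (.node (.leaf 3206) (.leaf 581)) (.node (.leaf 4354) (.leaf 0)))))) (.node (.node (.node (.node (.node (.leaf 441) (.leaf 4305)) (.node (.leaf 3133) (.leaf 7150))) (.node (.node (.leaf 2238) (.leaf 6724)) (.node (.leaf 4298) (.leaf 0)))) (.node (.node (.node (.leaf 1377) (.leaf 3858)) (.node (.leaf 4408) (.leaf 7253))) (.node (.node (.leaf 1487) (.leaf 3132)) (.node (.leaf 5340) (.leaf 0))))) (.node (.node (.node (.node (.leaf 917) (.leaf 6204)) (.node (.leaf 4091) (.leaf 1278))) (.node (.node (.leaf 2639) (.leaf 6844)) (.node (.leaf 4202) (.leaf 0)))) (.node (.node (.node (.leaf 1814) (.leaf 6560)) (.node (.leaf 1849) (.leaf 5888))) (.node (.node (.leaf 3360) (.leaf 5954)) (.node (.leaf 5346) (.leaf 0))))))))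

def he0T3 : NT := .node (.node (.node (.node (.node (.node (.node (.node (.leaf 7) (.leaf 3896)) (.node (.leaf 1019) (.leaf 3410))) (.node (.node (.leaf 1871) (.leaf 6549)) (.node (.leaf 4755) (.leaf 7278)))) (.node (.node (.node (.leaf 980) (.leaf 6228)) (.node (.leaf 4130) (.leaf 325))) (.node (.node (.leaf 2688) (.leaf 2045)) (.node (.leaf 1416) (.leaf 0))))) (.node (.node (.node (.node (.leaf 504) (.leaf 6032)) (.node (.leaf 3621) (.leaf 7161))) (.node (.node (.leaf 2291) (.leaf 6471)) (.node (.leaf 975) (.leaf 0)))) (.node (.node (.node (.leaf 1432) (.leaf 1642)) (.node (.leaf 1433) (.leaf 7056))) (.node (.node (.leaf 3065) (.leaf 6988)) (.node (.leaf 5577) (.leaf 0)))))) (.node (.node (.node (.node (.node (.leaf 259) (.leaf 5903)) (.node (.leaf 3616) (.leaf 4612))) (.node (.node (.leaf 2086) (.leaf 1550)) (.node (.leaf 4899) (.leaf 792)))) (.node (.node (.node (.leaf 1210) (.leaf 6295)) (.node (.leaf 4291) (.leaf 7257))) (.node (.node (.leaf 2826) (.leaf 6918)) (.node (.leaf 3313) (.leaf 0))))) (.node (.node (.node (.node (.leaf 743) (.leaf 2251)) (.node (.leaf 2108) (.leaf 7088))) (.node (.node (.leaf 2314) (.leaf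 6796)) (.node (.leaf 5182) (.leaf 0)))) (.node (.node (.node (.leaf 1582) (.leaf 6493)) (.node (.leaf 1058) (.leaf 6805))) (.node (.node (.leaf 3255) (.leaf 6983)) (.node (.leaf 5696) (.leaf 0))))))) (.node (.node (.node (.node (.node (.node (.leaf 134) (.leaf 521)) (.node (.leaf 3532) (.leaf 3091))) (.node (.node (.leaf 344) (.leaf 6526)) (.node (.leaf 4588) (.leaf 4232)))) (.node (.node (.node (.leaf 998) (.leaf 228)) (.node (.leaf 1459) (.leaf 6431))) (.node (.node (.leaf 2301) (.leaf 5613)) (.node (.leaf 5388) (.leaf 0))))) (.node (.node (.node (.node (.leaf 625) (.leaf 2730)) (.node (.leaf 3870) (.leaf 6425))) (.node (.node (.leaf 2390) (.leaf 2792)) (.node (.leaf 3717) (.leaf 0)))) (.node (.node (.node (.leaf 1544) (.leaf 1991)) (.node (.leaf 802) (.leaf 4581))) (.node (.node (.leaf 3146) (.leaf 509)) (.node (.leaf 4616) (.leaf 0)))))) (.node (.node (.node (.node (.node (.leaf 383) (.leaf 4716)) (.node (.leaf 3699) (.leaf 2745))) (.node (.node (.leaf 2185) (.leaf 2969)) (.node (.leaf 1932) (.leaf 0)))) (.node (.node (.node (.leaf 1321) (.leaf 90)) (.node (.leaf 4371) (.leaf 2547))) (.node (.node (.leaf 2972) (.leaf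 4108)) (.node (.leaf 4683) (.leaf 0))))) (.node (.node (.node (.node (.leaf 862) (.leaf 6175)) (.node (.leaf 4052) (.leaf 6756))) (.node (.node (.leaf 2590) (.leaf 6822)) (.node (.leaf 3314) (.leaf 0)))) (.node (.node (.node (.leaf 1759) (.leaf 1443)) (.node (.leaf 4687) (.leaf 5521))) (.node (.node (.leaf 2598) (.leaf 239)) (.node (.leaf 2839) (.leaf 0)))))))) (.node (.node (.node (.node (.node (.node (.node (.leaf 71) (.leaf 2928)) (.node (.leaf 3483) (.leaf 5707))) (.node (.node (.leaf 1920) (.leaf 3267)) (.node (.leaf 2848) (.leaf 7334)))) (.node (.node (.node (.leaf 1038) (.leaf 6258)) (.node (.leaf 4171) (.leaf 3160))) (.node (.node (.leaf 2737) (.leaf 6877)) (.node (.leaf 5352) (.leaf 0))))) (.node (.node (.node (.node (.leaf 565) (.leaf 1120)) (.node (.leaf 1982) (.leaf 235))) (.node (.node (.leaf 2339) (.leaf 6193)) (.node (.leaf 3960) (.leaf 0)))) (.node (.node (.node (.leaf 1488) (.leaf 3978)) (.node (.leaf 4494) (.leaf 732))) (.node (.node (.leaf 468) (.leaf 4636)) (.node (.leaf 4876) (.leaf 0)))))) (.node (.node (.node (.node (.node (.leaf 322) (.leaf 5955)) (.node (.leaf 3659) (.leaf 7124))) (.node (.node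 (.leaf 1452) (.leaf 6679)) (.node (.leaf 4942) (.leaf 7057)))) (.node (.node (.node (.leaf 768) (.leaf 4050)) (.node (.leaf 4247) (.leaf 2952))) (.node (.node (.leaf 2921) (.leaf 5254)) (.node (.leaf 5486) (.leaf 0))))) (.node (.node (.node (.node (.leaf 803) (.leaf 511)) (.node (.leaf 3715) (.leaf 6799))) (.node (.node (.leaf 1599) (.leaf 6808)) (.node (.leaf 5218) (.leaf 0)))) (.node (.node (.node (.leaf 1705) (.leaf 6261)) (.node (.leaf 4648) (.leaf 5390))) (.node (.node (.leaf 2380) (.leaf 6281)) (.node (.leaf 2210) (.leaf 0))))))) (.node (.node (.node (.node (.node (.node (.leaf 197) (.leaf 5895)) (.node (.leaf 1344) (.leaf 5136))) (.node (.node (.leaf 2032) (.leaf 6636)) (.node (.leaf 4866) (.leaf 1334)))) (.node (.node (.node (.leaf 1152) (.leaf 200)) (.node (.leaf 3415) (.leaf 3002))) (.node (.node (.leaf 2829) (.leaf 5871)) (.node (.leaf 5417) (.leaf 0))))) (.node (.node (.node (.node (.leaf 685) (.leaf 6095)) (.node (.leaf 3895) (.leaf 6421))) (.node (.node (.leaf 2443) (.leaf 6785)) (.node (.leaf 5143) (.leaf 0)))) (.node (.node (.node (.leaf 1559) (.leaf 6465)) (.node (.leaf 4565) (.leaf 1482))) (.node (.node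 (.leaf 2417) (.leaf 7019)) (.node (.leaf 684) (.leaf 0)))))) (.node (.node (.node (.node (.node (.leaf 443) (.leaf 294)) (.node (.leaf 3742) (.leaf 2348))) (.node (.node (.leaf 1961) (.leaf 4776)) (.node (.leaf 58) (.leaf 0)))) (.node (.node (.node (.leaf 1379) (.leaf 5872)) (.node (.leaf 4410) (.leaf 6976))) (.node (.node (.leaf 3021) (.leaf 6872)) (.node (.leaf 5556) (.leaf 0))))) (.node (.node (.node (.node (.leaf 919) (.leaf 6205)) (.node (.leaf 4070) (.leaf 3279))) (.node (.node (.leaf 2493) (.leaf 1066)) (.node (.leaf 1382) (.leaf 0)))) (.node (.node (.node (.leaf 1816) (.leaf 6561)) (.node (.leaf 4722) (.leaf 6923))) (.node (.node (.leaf 621) (.leaf 412)) (.node (.leaf 5241) (.leaf 0))))))))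

def he0T4 : NT := .node (.node (.node (.node (.node (.node (.node (.node (.leaf 9) (.leaf 1680)) (.node (.leaf 3434) (.leaf 6301))) (.node (.node (.leaf 1873) (.leaf 6589)) (.node (.leaf 3577) (.leaf 3373)))) (.node (.node (.node (.leaf 982) (.leaf 3309)) (.node (.leaf 40) (.leaf 7225))) (.node (.node (.leaf 2690) (.leaf 6861)) (.node (.leaf 4753) (.leaf 0))))) (.node (.node (.node (.node (.leaf 506) (.leaf 104)) (.node (.leaf 1470) (.leaf 7162))) (.node (.node (.leaf 2292) (.leaf 6739)) (.node (.leaf 3125) (.leaf 0)))) (.node (.node (.node (.leaf 1434) (.leaf 417)) (.node (.leaf 14) (.leaf 6311))) (.node (.node (.leaf 1480) (.leaf 2235)) (.node (.leaf 5588) (.leaf 0)))))) (.node (.node (.node (.node (.node (.leaf 261) (.leaf 5927)) (.node (.leaf 3618) (.leaf 7118))) (.node (.node (.leaf 1603) (.leaf 4251)) (.node (.leaf 4900) (.leaf 5593)))) (.node (.node (.node (.leaf 1212) (.leaf 4531)) (.node (.leaf 3567) (.leaf 7258))) (.node (.node (.leaf 2875) (.leaf 4382)) (.node (.leaf 5451) (.leaf 0))))) (.node (.node (.node (.node (.leaf 744) (.leaf 4561)) (.node (.leaf 3965) (.leaf 5774))) (.node (.node (.leaf 1760) (.leaf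 237)) (.node (.leaf 3303) (.leaf 0)))) (.node (.node (.node (.leaf 1652) (.leaf 4267)) (.node (.leaf 4611) (.leaf 7233))) (.node (.node (.leaf 2161) (.leaf 3297)) (.node (.leaf 4918) (.leaf 0))))))) (.node (.node (.node (.node (.node (.node (.leaf 136) (.leaf 5882)) (.node (.leaf 3533) (.leaf 3685))) (.node (.node (.leaf 1981) (.leaf 6617)) (.node (.leaf 4832) (.leaf 3302)))) (.node (.node (.node (.leaf 1098) (.leaf 4215)) (.node (.leaf 3843) (.leaf 4338))) (.node (.node (.leaf 2782) (.leaf 6892)) (.node (.leaf 5389) (.leaf 0))))) (.node (.node (.node (.node (.leaf 627) (.leaf 6074)) (.node (.leaf 3872) (.leaf 7178))) (.node (.node (.leaf 2392) (.leaf 6770)) (.node (.leaf 5105) (.leaf 0)))) (.node (.node (.node (.leaf 1545) (.leaf 1588)) (.node (.leaf 4533) (.leaf 7186))) (.node (.node (.leaf 3161) (.leaf 4067)) (.node (.leaf 2920) (.leaf 0)))))) (.node (.node (.node (.node (.node (.leaf 385) (.leaf 3159)) (.node (.leaf 3701) (.leaf 3141))) (.node (.node (.leaf 2187) (.leaf 3812)) (.node (.leaf 3626) (.leaf 0)))) (.node (.node (.node (.leaf 1323) (.leaf 6368)) (.node (.leaf 4373) (.leaf 3020))) (.node (.node (.leaf 2974)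 (.leaf 6041)) (.node (.leaf 5517) (.leaf 0))))) (.node (.node (.node (.node (.leaf 864) (.leaf 4805)) (.node (.leaf 534) (.leaf 1667))) (.node (.node (.leaf 1882) (.leaf 5874)) (.node (.leaf 3833) (.leaf 0)))) (.node (.node (.node (.leaf 1761) (.leaf 6539)) (.node (.leaf 4689) (.leaf 4436))) (.node (.node (.leaf 3349) (.leaf 1273)) (.node (.leaf 4124) (.leaf 0)))))))) (.node (.node (.node (.node (.node (.node (.node (.leaf 73) (.leaf 1031)) (.node (.leaf 3485) (.leaf 4295))) (.node (.node (.leaf 1922) (.leaf 6369)) (.node (.leaf 4799) (.leaf 7276)))) (.node (.node (.node (.leaf 1040) (.leaf 647)) (.node (.leaf 2908) (.leaf 6964))) (.node (.node (.leaf 605) (.leaf 4750)) (.node (.leaf 3290) (.leaf 0))))) (.node (.node (.node (.node (.leaf 567) (.leaf 6053)) (.node (.leaf 3829) (.leaf 6940))) (.node (.node (.leaf 2340) (.leaf 6406)) (.node (.leaf 86) (.leaf 0)))) (.node (.node (.node (.leaf 1490) (.leaf 5589)) (.node (.leaf 4495) (.leaf 2499))) (.node (.node (.leaf 3113) (.leaf 6916)) (.node (.leaf 5610) (.leaf 0)))))) (.node (.node (.node (.node (.node (.leaf 324) (.leaf 5957)) (.node (.leaf 3661) (.leaf 397))) (.node (.node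 (.leaf 2132) (.leaf 6642)) (.node (.leaf 4944) (.leaf 7135)))) (.node (.node (.node (.leaf 1270) (.leaf 4025)) (.node (.leaf 1565) (.leaf 2458))) (.node (.node (.leaf 1644) (.leaf 6936)) (.node (.leaf 5488) (.leaf 0))))) (.node (.node (.node (.node (.leaf 805) (.leaf 6147)) (.node (.leaf 4008) (.leaf 7201))) (.node (.node (.leaf 2538) (.leaf 6809)) (.node (.leaf 1467) (.leaf 0)))) (.node (.node (.node (.leaf 1707) (.leaf 4817)) (.node (.leaf 3492) (.leaf 7179))) (.node (.node (.leaf 3305) (.leaf 6704)) (.node (.leaf 5727) (.leaf 0))))))) (.node (.node (.node (.node (.node (.node (.leaf 199) (.leaf 5897)) (.node (.leaf 3571) (.leaf 5633))) (.node (.node (.leaf 2034) (.leaf 6637)) (.node (.leaf 2343) (.leaf 4758)))) (.node (.node (.node (.leaf 1154) (.leaf 6222)) (.node (.leaf 1744) (.leaf 3569))) (.node (.node (.leaf 2830) (.leaf 276)) (.node (.leaf 5419) (.leaf 0))))) (.node (.node (.node (.node (.leaf 687) (.leaf 6096)) (.node (.leaf 315) (.leaf 6257))) (.node (.node (.leaf 2444) (.leaf 2691)) (.node (.leaf 1791) (.leaf 0)))) (.node (.node (.node (.leaf 1598) (.leaf 6467)) (.node (.leaf 4566) (.leaf 6632))) (.node (.node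 (.leaf 695) (.leaf 5297)) (.node (.leaf 5667) (.leaf 0)))))) (.node (.node (.node (.node (.node (.leaf 445) (.leaf 82)) (.node (.leaf 1116) (.leaf 1249))) (.node (.node (.leaf 2240) (.leaf 121)) (.node (.leaf 5008) (.leaf 0)))) (.node (.node (.node (.leaf 1123) (.leaf 5125)) (.node (.leaf 587) (.leaf 143))) (.node (.node (.leaf 3022) (.leaf 6954)) (.node (.leaf 5558) (.leaf 0))))) (.node (.node (.node (.node (.leaf 921) (.leaf 675)) (.node (.leaf 3490) (.leaf 2059))) (.node (.node (.leaf 2641) (.leaf 2310)) (.node (.leaf 5284) (.leaf 0)))) (.node (.node (.node (.leaf 1818) (.leaf 6280)) (.node (.leaf 4724) (.leaf 7330))) (.node (.node (.leaf 3394) (.leaf 6942)) (.node (.leaf 286) (.leaf 0))))))))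

def he0T5 : NT := .node (.node (.node (.node (.node (.node (.node (.node (.leaf 11) (.leaf 5821)) (.node (.leaf 3436) (.leaf 3649))) (.node (.node (.leaf 1875) (.leaf 6016)) (.node (.leaf 4763) (.leaf 1352)))) (.node (.node (.node (.leaf 984) (.leaf 6197)) (.node (.leaf 4131) (.leaf 5797))) (.node (.node (.leaf 2508) (.leaf 6862)) (.node (.leaf 5200) (.leaf 0))))) (.node (.node (.node (.node (.leaf 508) (.leaf 5179)) (.node (.leaf 3786) (.leaf 3137))) (.node (.node (.leaf 2259) (.leaf 180)) (.node (.leaf 5043) (.leaf 0)))) (.node (.node (.node (.leaf 1436) (.leaf 6344)) (.node (.leaf 4451) (.leaf 6934))) (.node (.node (.leaf 2967) (.leaf 6814)) (.node (.leaf 2479) (.leaf 0)))))) (.node (.node (.node (.node (.node (.leaf 263) (.leaf 5929)) (.node (.leaf 3620) (.leaf 3234))) (.node (.node (.leaf 2087) (.leaf 6657)) (.node (.leaf 4902) (.leaf 1114)))) (.node (.node (.node (.leaf 1214) (.leaf 3546)) (.node (.leaf 4293) (.leaf 4718))) (.node (.node (.leaf 2877) (.leaf 3705)) (.node (.leaf 5452) (.leaf 0))))) (.node (.node (.node (.node (.leaf 746) (.leaf 4597)) (.node (.leaf 3967) (.leaf 6625))) (.node (.node (.leaf 2495)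 (.leaf 1484)) (.node (.leaf 5184) (.leaf 0)))) (.node (.node (.node (.leaf 1654) (.leaf 3348)) (.node (.leaf 4613) (.leaf 2634))) (.node (.node (.leaf 3258) (.leaf 297)) (.node (.leaf 5699) (.leaf 0))))))) (.node (.node (.node (.node (.node (.node (.leaf 138) (.leaf 5348)) (.node (.leaf 3535) (.leaf 7101))) (.node (.node (.leaf 1983) (.leaf 6619)) (.node (.leaf 1591) (.leaf 6977)))) (.node (.node (.node (.leaf 1100) (.leaf 5755)) (.node (.leaf 4218) (.leaf 7245))) (.node (.node (.leaf 873) (.leaf 5428)) (.node (.leaf 5391) (.leaf 0))))) (.node (.node (.node (.node (.leaf 629) (.leaf 6075)) (.node (.leaf 3874) (.leaf 4657))) (.node (.node (.leaf 2394) (.leaf 5793)) (.node (.leaf 5107) (.leaf 0)))) (.node (.node (.node (.leaf 1002) (.leaf 5692)) (.node (.leaf 2941) (.leaf 2191))) (.node (.node (.leaf 3163) (.leaf 1855)) (.node (.leaf 2661) (.leaf 0)))))) (.node (.node (.node (.node (.node (.leaf 387) (.leaf 5986)) (.node (.leaf 3702) (.leaf 2286))) (.node (.node (.leaf 2188) (.leaf 5041)) (.node (.leaf 4979) (.leaf 0)))) (.node (.node (.node (.leaf 1325) (.leaf 5029)) (.node (.leaf 4374) (.leaf 7272))) (.node (.node (.leaf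 2976) (.leaf 6609)) (.node (.leaf 5519) (.leaf 0))))) (.node (.node (.node (.node (.leaf 866) (.leaf 6177)) (.node (.leaf 4055) (.leaf 6914))) (.node (.node (.leaf 2593) (.leaf 6823)) (.node (.leaf 1486) (.leaf 0)))) (.node (.node (.node (.leaf 1762) (.leaf 5908)) (.node (.leaf 4691) (.leaf 7082))) (.node (.node (.leaf 2962) (.leaf 4699)) (.node (.leaf 3737) (.leaf 0)))))))) (.node (.node (.node (.node (.node (.node (.node (.leaf 75) (.leaf 2309)) (.node (.leaf 3487) (.leaf 3358))) (.node (.node (.leaf 1924) (.leaf 6241)) (.node (.leaf 4800) (.leaf 6971)))) (.node (.node (.node (.leaf 1042) (.leaf 5979)) (.node (.leaf 4174) (.leaf 7045))) (.node (.node (.leaf 6) (.leaf 6067)) (.node (.leaf 405) (.leaf 0))))) (.node (.node (.node (.node (.leaf 569) (.leaf 3754)) (.node (.leaf 3831) (.leaf 3016))) (.node (.node (.leaf 2342) (.leaf 5643)) (.node (.leaf 5070) (.leaf 0)))) (.node (.node (.node (.leaf 1492) (.leaf 3639)) (.node (.leaf 4278) (.leaf 6680))) (.node (.node (.leaf 3114) (.leaf 5553)) (.node (.leaf 5612) (.leaf 0)))))) (.node (.node (.node (.node (.node (.leaf 326) (.leaf 4862)) (.node (.leaf 3663) (.leaf 7125)))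 (.node (.node (.leaf 2134) (.leaf 3985)) (.node (.leaf 4927) (.leaf 3834)))) (.node (.node (.node (.leaf 1272) (.leaf 4365)) (.node (.leaf 2910) (.leaf 3398))) (.node (.node (.leaf 2923) (.leaf 824)) (.node (.leaf 5490) (.leaf 0))))) (.node (.node (.node (.node (.leaf 807) (.leaf 5001)) (.node (.leaf 4010) (.leaf 1453))) (.node (.node (.leaf 1222) (.leaf 530)) (.node (.leaf 5221) (.leaf 0)))) (.node (.node (.node (.leaf 1709) (.leaf 6520)) (.node (.leaf 4651) (.leaf 7320))) (.node (.node (.leaf 3307) (.leaf 7046)) (.node (.leaf 5729) (.leaf 0))))))) (.node (.node (.node (.node (.node (.node (.leaf 201) (.leaf 5898)) (.node (.leaf 3499) (.leaf 517))) (.node (.node (.leaf 2036) (.leaf 5976)) (.node (.leaf 4848) (.leaf 6475)))) (.node (.node (.node (.leaf 1156) (.leaf 3832)) (.node (.leaf 2818) (.leaf 2973))) (.node (.node (.leaf 1384) (.leaf 6905)) (.node (.leaf 3946) (.leaf 0))))) (.node (.node (.node (.node (.leaf 689) (.leaf 295)) (.node (.leaf 2858) (.leaf 5396))) (.node (.node (.leaf 2446) (.leaf 6429)) (.node (.leaf 4804) (.leaf 0)))) (.node (.node (.node (.leaf 1600) (.leaf 6469)) (.node (.leaf 4568) (.leaf 7065)))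 (.node (.node (.leaf 3210) (.leaf 7020)) (.node (.leaf 5668) (.leaf 0)))))) (.node (.node (.node (.node (.node (.leaf 447) (.leaf 4954)) (.node (.leaf 3425) (.leaf 4189))) (.node (.node (.leaf 2242) (.leaf 6597)) (.node (.leaf 5010) (.leaf 0)))) (.node (.node (.node (.leaf 1026) (.leaf 5933)) (.node (.leaf 4172) (.leaf 3707))) (.node (.node (.leaf 3024) (.leaf 6972)) (.node (.leaf 5559) (.leaf 0))))) (.node (.node (.node (.node (.leaf 923) (.leaf 3018)) (.node (.leaf 1699) (.leaf 1091))) (.node (.node (.leaf 2643) (.leaf 5682)) (.node (.leaf 4820) (.leaf 0)))) (.node (.node (.node (.leaf 1820) (.leaf 2043)) (.node (.leaf 4726) (.leaf 7329))) (.node (.node (.leaf 3396) (.leaf 7066)) (.node (.leaf 5790) (.leaf 0))))))))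

def he0T6 : NT := .node (.node (.node (.node (.node (.node (.node (.node (.leaf 13) (.leaf 5822)) (.node (.leaf 3318) (.leaf 3823))) (.node (.node (.leaf 1877) (.leaf 427)) (.node (.leaf 4764) (.leaf 1086)))) (.node (.node (.node (.leaf 986) (.leaf 1175)) (.node (.leaf 4132) (.leaf 5152))) (.node (.node (.leaf 2445) (.leaf 2883)) (.node (.leaf 5318) (.leaf 0))))) (.node (.node (.node (.node (.leaf 510) (.leaf 4762)) (.node (.leaf 3497) (.leaf 1976))) (.node (.node (.leaf 388) (.leaf 4370)) (.node (.leaf 5045) (.leaf 0)))) (.node (.node (.node (.leaf 1438) (.leaf 6346)) (.node (.leaf 4453) (.leaf 5211))) (.node (.node (.leaf 3068) (.leaf 1078)) (.node (.leaf 2027) (.leaf 0)))))) (.node (.node (.node (.node (.node (.leaf 265) (.leaf 2002)) (.node (.leaf 3622) (.leaf 4115))) (.node (.node (.leaf 1752) (.leaf 6658)) (.node (.leaf 4845) (.leaf 7342)))) (.node (.node (.node (.leaf 1216) (.leaf 5768)) (.node (.leaf 2377) (.leaf 7163))) (.node (.node (.leaf 2879) (.leaf 1051)) (.node (.leaf 5208) (.leaf 0))))) (.node (.node (.node (.node (.leaf 748) (.leaf 3012)) (.node (.leaf 3969) (.leaf 3473))) (.node (.node (.leaf 2497) (.leaf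 5088)) (.node (.leaf 2287) (.leaf 0)))) (.node (.node (.node (.leaf 1656) (.leaf 6492)) (.node (.leaf 4614) (.leaf 6402))) (.node (.node (.leaf 3260) (.leaf 6364)) (.node (.leaf 3069) (.leaf 0))))))) (.node (.node (.node (.node (.node (.node (.leaf 140) (.leaf 5879)) (.node (.leaf 3537) (.leaf 7094))) (.node (.node (.leaf 1985) (.leaf 6620)) (.node (.leaf 3866) (.leaf 6906)))) (.node (.node (.node (.leaf 1102) (.leaf 6283)) (.node (.leaf 4196) (.leaf 6066))) (.node (.node (.leaf 1693) (.leaf 5941)) (.node (.leaf 5332) (.leaf 0))))) (.node (.node (.node (.node (.leaf 631) (.leaf 5084)) (.node (.leaf 3876) (.leaf 7180))) (.node (.node (.leaf 2396) (.leaf 6634)) (.node (.leaf 2023) (.leaf 0)))) (.node (.node (.node (.leaf 1548) (.leaf 4423)) (.node (.leaf 4534) (.leaf 6998))) (.node (.node (.leaf 3165) (.leaf 4520)) (.node (.leaf 5639) (.leaf 0)))))) (.node (.node (.node (.node (.node (.leaf 321) (.leaf 1612)) (.node (.leaf 3704) (.leaf 6644))) (.node (.node (.leaf 2190) (.leaf 6702)) (.node (.leaf 4471) (.leaf 0)))) (.node (.node (.node (.leaf 1327) (.leaf 2626)) (.node (.leaf 4375) (.leaf 7054))) (.node (.node (.leaf 2319)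 (.leaf 5956)) (.node (.leaf 716) (.leaf 0))))) (.node (.node (.node (.node (.leaf 868) (.leaf 6178)) (.node (.leaf 3932) (.leaf 4479))) (.node (.node (.leaf 2594) (.leaf 6824)) (.node (.leaf 5253) (.leaf 0)))) (.node (.node (.node (.leaf 1764) (.leaf 6541)) (.node (.leaf 3871) (.leaf 6935))) (.node (.node (.leaf 3350) (.leaf 6726)) (.node (.leaf 3588) (.leaf 0)))))))) (.node (.node (.node (.node (.node (.node (.node (.leaf 77) (.leaf 5852)) (.node (.leaf 3489) (.leaf 2069))) (.node (.node (.leaf 1926) (.leaf 4795)) (.node (.leaf 172) (.leaf 2478)))) (.node (.node (.node (.leaf 1044) (.leaf 6260)) (.node (.leaf 2717) (.leaf 7197))) (.node (.node (.leaf 2740) (.leaf 713)) (.node (.leaf 5355) (.leaf 0))))) (.node (.node (.node (.node (.leaf 571) (.leaf 994)) (.node (.leaf 1037) (.leaf 7095))) (.node (.node (.leaf 2344) (.leaf 2398)) (.node (.leaf 5071) (.leaf 0)))) (.node (.node (.node (.leaf 644) (.leaf 6427)) (.node (.leaf 256) (.leaf 967))) (.node (.node (.leaf 770) (.leaf 6325)) (.node (.leaf 3043) (.leaf 0)))))) (.node (.node (.node (.node (.node (.leaf 328) (.leaf 5958)) (.node (.leaf 3665) (.leaf 3078))) (.node (.node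 (.leaf 2136) (.leaf 6681)) (.node (.leaf 4947) (.leaf 7331)))) (.node (.node (.node (.leaf 1274) (.leaf 6343)) (.node (.leaf 4331) (.leaf 7133))) (.node (.node (.leaf 2925) (.leaf 6932)) (.node (.leaf 5491) (.leaf 0))))) (.node (.node (.node (.node (.leaf 809) (.leaf 3725)) (.node (.leaf 4012) (.leaf 1276))) (.node (.node (.leaf 2541) (.leaf 851)) (.node (.leaf 911) (.leaf 0)))) (.node (.node (.node (.leaf 1711) (.leaf 6522)) (.node (.leaf 4652) (.leaf 6689))) (.node (.node (.leaf 3308) (.leaf 7048)) (.node (.leaf 3333) (.leaf 0))))))) (.node (.node (.node (.node (.node (.node (.leaf 203) (.leaf 5276)) (.node (.leaf 3573) (.leaf 2620))) (.node (.node (.leaf 2037) (.leaf 6639)) (.node (.leaf 4870) (.leaf 6852)))) (.node (.node (.node (.leaf 1158) (.leaf 6304)) (.node (.leaf 4253) (.leaf 1823))) (.node (.node (.leaf 2833) (.leaf 5375)) (.node (.leaf 3816) (.leaf 0))))) (.node (.node (.node (.node (.leaf 691) (.leaf 4669)) (.node (.leaf 3921) (.leaf 6711))) (.node (.node (.leaf 2447) (.leaf 3787)) (.node (.leaf 165) (.leaf 0)))) (.node (.node (.node (.leaf 1602) (.leaf 5464)) (.node (.leaf 3281) (.leaf 861))) (.node (.node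 (.leaf 3212) (.leaf 2442)) (.node (.leaf 5670) (.leaf 0)))))) (.node (.node (.node (.node (.node (.leaf 449) (.leaf 6015)) (.node (.leaf 3745) (.leaf 2876))) (.node (.node (.leaf 2244) (.leaf 6727)) (.node (.leaf 1538) (.leaf 0)))) (.node (.node (.node (.leaf 1383) (.leaf 2764)) (.node (.leaf 4413) (.leaf 2890))) (.node (.node (.leaf 2568) (.leaf 3612)) (.node (.leaf 3793) (.leaf 0))))) (.node (.node (.node (.node (.leaf 925) (.leaf 2532)) (.node (.leaf 4094) (.leaf 2460))) (.node (.node (.leaf 2645) (.leaf 4397)) (.node (.leaf 5286) (.leaf 0)))) (.node (.node (.node (.leaf 1822) (.leaf 4496)) (.node (.leaf 4229) (.leaf 7324))) (.node (.node (.leaf 3397) (.leaf 2001)) (.node (.leaf 5735) (.leaf 0))))))))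

def he0T7 : NT := .node (.node (.node (.node (.node (.node (.node (.node (.leaf 15) (.leaf 5813)) (.node (.leaf 3438) (.leaf 6749))) (.node (.node (.leaf 1879) (.leaf 6591)) (.node (.leaf 4765) (.leaf 7240)))) (.node (.node (.node (.leaf 988) (.leaf 4877)) (.node (.leaf 3362) (.leaf 7226))) (.node (.node (.leaf 2694) (.leaf 3878)) (.node (.leaf 4754) (.leaf 0))))) (.node (.node (.node (.node (.leaf 512) (.leaf 6033)) (.node (.leaf 3789) (.leaf 745))) (.node (.node (.leaf 2296) (.leaf 892)) (.node (.leaf 4359) (.leaf 0)))) (.node (.node (.node (.leaf 1440) (.leaf 6359)) (.node (.leaf 4038) (.leaf 810))) (.node (.node (.leaf 3070) (.leaf 6474)) (.node (.leaf 5591) (.leaf 0)))))) (.node (.node (.node (.node (.node (.leaf 267) (.leaf 5931)) (.node (.leaf 3624) (.leaf 5489))) (.node (.node (.leaf 2090) (.leaf 5338)) (.node (.leaf 4695) (.leaf 7243)))) (.node (.node (.node (.leaf 1218) (.leaf 4562)) (.node (.leaf 4296) (.leaf 6445))) (.node (.node (.leaf 2881) (.leaf 6921)) (.node (.leaf 5454) (.leaf 0))))) (.node (.node (.node (.node (.leaf 750) (.leaf 4793)) (.node (.leaf 3971) (.leaf 5809))) (.node (.node (.leaf 1376) (.leaf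 4975)) (.node (.leaf 3323) (.leaf 0)))) (.node (.node (.node (.leaf 1658) (.leaf 6494)) (.node (.leaf 444) (.leaf 6922))) (.node (.node (.leaf 3262) (.leaf 4710)) (.node (.leaf 4721) (.leaf 0))))))) (.node (.node (.node (.node (.node (.node (.leaf 142) (.leaf 5883)) (.node (.leaf 3539) (.leaf 7103))) (.node (.node (.leaf 1987) (.leaf 3184)) (.node (.leaf 4836) (.leaf 6529)))) (.node (.node (.node (.leaf 1104) (.leaf 6137)) (.node (.leaf 836) (.leaf 5427))) (.node (.node (.leaf 2786) (.leaf 2277)) (.node (.leaf 4828) (.leaf 0))))) (.node (.node (.node (.node (.leaf 633) (.leaf 5881)) (.node (.leaf 3877) (.leaf 6012))) (.node (.node (.leaf 2397) (.leaf 2075)) (.node (.leaf 1164) (.leaf 0)))) (.node (.node (.node (.leaf 1541) (.leaf 1552)) (.node (.leaf 4419) (.leaf 7145))) (.node (.node (.leaf 3167) (.leaf 7006)) (.node (.leaf 2765) (.leaf 0)))))) (.node (.node (.node (.node (.node (.leaf 390) (.leaf 5987)) (.node (.leaf 3706) (.leaf 2056))) (.node (.node (.leaf 1400) (.leaf 6613)) (.node (.leaf 4982) (.leaf 0)))) (.node (.node (.node (.leaf 1328) (.leaf 6230)) (.node (.leaf 3254) (.leaf 1659))) (.node (.node (.leaf 2978)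 (.leaf 6959)) (.node (.leaf 5522) (.leaf 0))))) (.node (.node (.node (.node (.leaf 870) (.leaf 6180)) (.node (.leaf 1489) (.leaf 5525))) (.node (.node (.leaf 2596) (.leaf 6334)) (.node (.leaf 1706) (.leaf 0)))) (.node (.node (.node (.leaf 1766) (.leaf 6123)) (.node (.leaf 699) (.leaf 3237))) (.node (.node (.leaf 3346) (.leaf 5047)) (.node (.leaf 5024) (.leaf 0)))))))) (.node (.node (.node (.node (.node (.node (.node (.leaf 79) (.leaf 3844)) (.node (.leaf 3491) (.leaf 7089))) (.node (.node (.leaf 1927) (.leaf 1962)) (.node (.leaf 4404) (.leaf 5117)))) (.node (.node (.node (.leaf 1046) (.leaf 431)) (.node (.leaf 4176) (.leaf 7236))) (.node (.node (.leaf 2742) (.leaf 642)) (.node (.leaf 5357) (.leaf 0))))) (.node (.node (.node (.node (.leaf 572) (.leaf 6056)) (.node (.leaf 3300) (.leaf 5097))) (.node (.node (.leaf 2346) (.leaf 6752)) (.node (.leaf 5073) (.leaf 0)))) (.node (.node (.node (.leaf 1495) (.leaf 5004)) (.node (.leaf 4499) (.leaf 2646))) (.node (.node (.leaf 950) (.leaf 1886)) (.node (.leaf 5614) (.leaf 0)))))) (.node (.node (.node (.node (.node (.leaf 330) (.leaf 5960)) (.node (.leaf 540) (.leaf 650))) (.node (.node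 (.leaf 2138) (.leaf 6662)) (.node (.leaf 2913) (.leaf 6873)))) (.node (.node (.node (.leaf 1075) (.leaf 6349)) (.node (.leaf 3211) (.leaf 6149))) (.node (.node (.leaf 2927) (.leaf 3077)) (.node (.leaf 4679) (.leaf 0))))) (.node (.node (.node (.node (.leaf 766) (.leaf 4559)) (.node (.leaf 3743) (.leaf 2822))) (.node (.node (.leaf 2543) (.leaf 6564)) (.node (.leaf 5223) (.leaf 0)))) (.node (.node (.node (.leaf 1712) (.leaf 6523)) (.node (.leaf 1047) (.leaf 3227))) (.node (.node (.leaf 3310) (.leaf 4643)) (.node (.leaf 5730) (.leaf 0))))))) (.node (.node (.node (.node (.node (.node (.leaf 205) (.leaf 5900)) (.node (.leaf 1889) (.leaf 5949))) (.node (.node (.leaf 1084) (.leaf 5463)) (.node (.leaf 4872) (.leaf 837)))) (.node (.node (.node (.leaf 813) (.leaf 3336)) (.node (.leaf 2212) (.leaf 6974))) (.node (.node (.leaf 847) (.leaf 3846)) (.node (.leaf 1891) (.leaf 0))))) (.node (.node (.node (.node (.leaf 693) (.leaf 5502)) (.node (.leaf 3923) (.leaf 2581))) (.node (.node (.leaf 937) (.leaf 1549)) (.node (.leaf 3244) (.leaf 0)))) (.node (.node (.node (.leaf 1604) (.leaf 5162)) (.node (.leaf 4570) (.leaf 6953))) (.node (.node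 (.leaf 3214) (.leaf 6073)) (.node (.leaf 5671) (.leaf 0)))))) (.node (.node (.node (.node (.node (.leaf 451) (.leaf 5652)) (.node (.leaf 3746) (.leaf 6772))) (.node (.node (.leaf 2245) (.leaf 6701)) (.node (.leaf 5013) (.leaf 0)))) (.node (.node (.node (.leaf 1385) (.leaf 5181)) (.node (.leaf 991) (.leaf 5316))) (.node (.node (.leaf 3026) (.leaf 6975)) (.node (.leaf 5561) (.leaf 0))))) (.node (.node (.node (.node (.leaf 927) (.leaf 5808)) (.node (.leaf 3905) (.leaf 7214))) (.node (.node (.leaf 2647) (.leaf 153)) (.node (.leaf 1133) (.leaf 0)))) (.node (.node (.node (.leaf 1824) (.leaf 6361)) (.node (.leaf 4728) (.leaf 6398))) (.node (.node (.leaf 3271) (.leaf 7068)) (.node (.leaf 5770) (.leaf 0))))))))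

def he0T8 : NT := .node (.node (.node (.node (.node (.node (.node (.node (.leaf 17) (.leaf 5825)) (.node (.leaf 3440) (.leaf 6797))) (.node (.node (.leaf 1881) (.leaf 6125)) (.node (.leaf 4767) (.leaf 7122)))) (.node (.node (.node (.leaf 822) (.leaf 4998)) (.node (.leaf 4134) (.leaf 6192))) (.node (.node (.leaf 2696) (.leaf 5892)) (.node (.leaf 5319) (.leaf 0))))) (.node (.node (.node (.node (.leaf 514) (.leaf 1528)) (.node (.leaf 3785) (.leaf 4727))) (.node (.node (.leaf 2298) (.leaf 5645)) (.node (.leaf 4609) (.leaf 0)))) (.node (.node (.node (.leaf 1442) (.leaf 6282)) (.node (.leaf 4454) (.leaf 6896))) (.node (.node (.leaf 1287) (.leaf 1171)) (.node (.leaf 909) (.leaf 0)))))) (.node (.node (.node (.node (.node (.leaf 269) (.leaf 2263)) (.node (.leaf 2615) (.leaf 6843))) (.node (.node (.leaf 2082) (.leaf 3327)) (.node (.leaf 3370) (.leaf 6450)))) (.node (.node (.node (.leaf 1219) (.leaf 5609)) (.node (.leaf 4297) (.leaf 6599))) (.node (.node (.leaf 1864) (.leaf 212)) (.node (.leaf 5456) (.leaf 0))))) (.node (.node (.node (.node (.leaf 752) (.leaf 6119)) (.node (.leaf 3973) (.leaf 479))) (.node (.node (.leaf 2500) (.leaf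 5681)) (.node (.leaf 4883) (.leaf 0)))) (.node (.node (.node (.leaf 1660) (.leaf 6496)) (.node (.leaf 1832) (.leaf 1627))) (.node (.node (.leaf 3263) (.leaf 7035)) (.node (.leaf 5630) (.leaf 0))))))) (.node (.node (.node (.node (.node (.node (.leaf 144) (.leaf 5838)) (.node (.leaf 3439) (.leaf 5733))) (.node (.node (.leaf 1940) (.leaf 6048)) (.node (.leaf 2628) (.leaf 973)))) (.node (.node (.node (.leaf 1106) (.leaf 4492)) (.node (.leaf 4222) (.leaf 7248))) (.node (.node (.leaf 2788) (.leaf 4093)) (.node (.leaf 5395) (.leaf 0))))) (.node (.node (.node (.node (.leaf 635) (.leaf 4228)) (.node (.leaf 3879) (.leaf 3759))) (.node (.node (.leaf 2387) (.leaf 6495)) (.node (.leaf 5012) (.leaf 0)))) (.node (.node (.node (.leaf 1013) (.leaf 6451)) (.node (.leaf 4508) (.leaf 5800))) (.node (.node (.leaf 3168) (.leaf 7008)) (.node (.leaf 5641) (.leaf 0)))))) (.node (.node (.node (.node (.node (.leaf 392) (.leaf 115)) (.node (.leaf 3504) (.leaf 4662))) (.node (.node (.leaf 2193) (.leaf 5308)) (.node (.leaf 2071) (.leaf 0)))) (.node (.node (.node (.leaf 1330) (.leaf 1867)) (.node (.leaf 897) (.leaf 1530))) (.node (.node (.leaf 1664)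 (.leaf 4660)) (.node (.leaf 5096) (.leaf 0))))) (.node (.node (.node (.node (.leaf 872) (.leaf 5549)) (.node (.leaf 4058) (.leaf 1547))) (.node (.node (.leaf 2455) (.leaf 3728)) (.node (.leaf 5255) (.leaf 0)))) (.node (.node (.node (.leaf 1768) (.leaf 4809)) (.node (.leaf 1193) (.leaf 7301))) (.node (.node (.leaf 2971) (.leaf 6839)) (.node (.leaf 5762) (.leaf 0)))))))) (.node (.node (.node (.node (.node (.node (.node (.leaf 81) (.leaf 3153)) (.node (.leaf 1043) (.leaf 4972))) (.node (.node (.leaf 1929) (.leaf 6456)) (.node (.leaf 4798) (.leaf 3997)))) (.node (.node (.node (.leaf 1048) (.leaf 5394)) (.node (.leaf 4178) (.leaf 3710))) (.node (.node (.leaf 1980) (.leaf 48)) (.node (.leaf 1723) (.leaf 0))))) (.node (.node (.node (.node (.leaf 574) (.leaf 6058)) (.node (.leaf 102) (.leaf 7172))) (.node (.node (.leaf 585) (.leaf 5748)) (.node (.leaf 5074) (.leaf 0)))) (.node (.node (.node (.leaf 1497) (.leaf 6430)) (.node (.leaf 4500) (.leaf 2181))) (.node (.node (.leaf 2689) (.leaf 2734)) (.node (.leaf 5616) (.leaf 0)))))) (.node (.node (.node (.node (.node (.leaf 332) (.leaf 5961)) (.node (.leaf 442) (.leaf 6857))) (.node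 (.node (.leaf 2140) (.leaf 3984)) (.node (.leaf 4949) (.leaf 4826)))) (.node (.node (.node (.leaf 1277) (.leaf 5177)) (.node (.leaf 4334) (.leaf 4325))) (.node (.node (.leaf 2929) (.leaf 1954)) (.node (.leaf 5494) (.leaf 0))))) (.node (.node (.node (.node (.leaf 812) (.leaf 6150)) (.node (.leaf 4015) (.leaf 5640))) (.node (.node (.leaf 2544) (.leaf 3252)) (.node (.leaf 5225) (.leaf 0)))) (.node (.node (.node (.leaf 1714) (.leaf 6524)) (.node (.leaf 4654) (.leaf 5283))) (.node (.node (.leaf 1450) (.leaf 4857)) (.node (.leaf 5731) (.leaf 0))))))) (.node (.node (.node (.node (.node (.node (.leaf 207) (.leaf 117)) (.node (.leaf 3576) (.leaf 6957))) (.node (.node (.leaf 2040) (.leaf 4638)) (.node (.leaf 3421) (.leaf 7313)))) (.node (.node (.node (.leaf 1161) (.leaf 4516)) (.node (.leaf 4255) (.leaf 7112))) (.node (.node (.leaf 2836) (.leaf 5655)) (.node (.leaf 2148) (.leaf 0))))) (.node (.node (.node (.node (.leaf 694) (.leaf 2123)) (.node (.leaf 3924) (.leaf 5435))) (.node (.node (.leaf 2450) (.leaf 6783)) (.node (.leaf 5148) (.leaf 0)))) (.node (.node (.node (.leaf 1606) (.leaf 6472)) (.node (.leaf 1557) (.leaf 252))) (.node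 (.node (.leaf 3216) (.leaf 7022)) (.node (.leaf 5673) (.leaf 0)))))) (.node (.node (.node (.node (.node (.leaf 178) (.leaf 340)) (.node (.leaf 2382) (.leaf 5962))) (.node (.node (.leaf 1758) (.leaf 6633)) (.node (.leaf 3645) (.leaf 0)))) (.node (.node (.node (.leaf 1387) (.leaf 5574)) (.node (.leaf 4393) (.leaf 3423))) (.node (.node (.leaf 3028) (.leaf 6389)) (.node (.leaf 5563) (.leaf 0))))) (.node (.node (.node (.node (.leaf 929) (.leaf 4042)) (.node (.leaf 4097) (.leaf 6286))) (.node (.node (.leaf 305) (.leaf 6742)) (.node (.leaf 4978) (.leaf 0)))) (.node (.node (.node (.leaf 1756) (.leaf 6562)) (.node (.leaf 4729) (.leaf 6849))) (.node (.node (.leaf 2900) (.leaf 6635)) (.node (.leaf 5165) (.leaf 0))))))))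

def he0T9 : NT := .node (.node (.node (.node (.node (.node (.node (.node (.leaf 19) (.leaf 5826)) (.node (.leaf 3442) (.leaf 7076))) (.node (.node (.leaf 380) (.leaf 6593)) (.node (.leaf 4769) (.leaf 7332)))) (.node (.node (.node (.leaf 990) (.leaf 2415)) (.node (.leaf 726) (.leaf 3278))) (.node (.node (.leaf 2697) (.leaf 1575)) (.node (.leaf 2243) (.leaf 0))))) (.node (.node (.node (.node (.leaf 516) (.leaf 4933)) (.node (.leaf 3503) (.leaf 7164))) (.node (.node (.leaf 2299) (.leaf 6098)) (.node (.leaf 3672) (.leaf 0)))) (.node (.node (.node (.leaf 141) (.leaf 133)) (.node (.leaf 1300) (.leaf 6307))) (.node (.node (.leaf 3073) (.leaf 6262)) (.node (.leaf 2142) (.leaf 0)))))) (.node (.node (.node (.node (.node (.leaf 271) (.leaf 4040)) (.node (.leaf 3053) (.leaf 6938))) (.node (.node (.leaf 2093) (.leaf 6659)) (.node (.leaf 4416) (.leaf 7083)))) (.node (.node (.node (.leaf 1221) (.leaf 6324)) (.node (.leaf 3072) (.leaf 7113))) (.node (.node (.leaf 808) (.leaf 2461)) (.node (.leaf 5457) (.leaf 0))))) (.node (.node (.node (.node (.leaf 740) (.leaf 6121)) (.node (.leaf 2401) (.leaf 4547))) (.node (.node (.leaf 1734) (.leaf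 5414)) (.node (.leaf 4449) (.leaf 0)))) (.node (.node (.node (.leaf 352) (.leaf 6003)) (.node (.leaf 806) (.leaf 6166))) (.node (.node (.leaf 3265) (.leaf 5139)) (.node (.leaf 5607) (.leaf 0))))))) (.node (.node (.node (.node (.node (.node (.leaf 146) (.leaf 5885)) (.node (.leaf 3540) (.leaf 4122))) (.node (.node (.leaf 1990) (.leaf 6622)) (.node (.leaf 4650) (.leaf 3185)))) (.node (.node (.node (.leaf 1108) (.leaf 6284)) (.node (.leaf 4224) (.leaf 1993))) (.node (.node (.leaf 1847) (.leaf 6894)) (.node (.leaf 4332) (.leaf 0))))) (.node (.node (.node (.node (.leaf 637) (.leaf 6076)) (.node (.leaf 3880) (.leaf 5156))) (.node (.node (.leaf 2400) (.leaf 6774)) (.node (.leaf 4314) (.leaf 0)))) (.node (.node (.node (.leaf 1160) (.leaf 2176)) (.node (.leaf 3975) (.leaf 7009))) (.node (.node (.leaf 2994) (.leaf 7010)) (.node (.leaf 2841) (.leaf 0)))))) (.node (.node (.node (.node (.node (.leaf 394) (.leaf 4558)) (.node (.leaf 3708) (.leaf 6569))) (.node (.node (.leaf 2117) (.leaf 6705)) (.node (.leaf 4983) (.leaf 0)))) (.node (.node (.node (.leaf 776) (.leaf 664)) (.node (.leaf 4376) (.leaf 5899))) (.node (.node (.leaf 2980)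 (.leaf 299)) (.node (.leaf 5453) (.leaf 0))))) (.node (.node (.node (.node (.leaf 611) (.leaf 6026)) (.node (.leaf 493) (.leaf 1546))) (.node (.node (.leaf 1899) (.leaf 46)) (.node (.leaf 5064) (.leaf 0)))) (.node (.node (.node (.leaf 1770) (.leaf 5993)) (.node (.leaf 1713) (.leaf 3848))) (.node (.node (.leaf 3075) (.leaf 7021)) (.node (.leaf 3853) (.leaf 0)))))))) (.node (.node (.node (.node (.node (.node (.node (.leaf 83) (.leaf 5856)) (.node (.leaf 3493) (.leaf 3690))) (.node (.node (.leaf 1931) (.leaf 1859)) (.node (.leaf 3456) (.leaf 2231)))) (.node (.node (.node (.leaf 1050) (.leaf 6263)) (.node (.leaf 4180) (.leaf 708))) (.node (.node (.leaf 2744) (.leaf 461)) (.node (.leaf 3538) (.leaf 0))))) (.node (.node (.node (.node (.leaf 576) (.leaf 495)) (.node (.leaf 2115) (.leaf 5131))) (.node (.node (.leaf 2349) (.leaf 6753)) (.node (.leaf 1052) (.leaf 0)))) (.node (.node (.node (.leaf 1499) (.leaf 5910)) (.node (.leaf 4502) (.leaf 6621))) (.node (.node (.leaf 1516) (.leaf 323)) (.node (.leaf 5617) (.leaf 0)))))) (.node (.node (.node (.node (.node (.leaf 334) (.leaf 5363)) (.node (.leaf 1972) (.leaf 4709))) (.node (.node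 (.leaf 2141) (.leaf 6428)) (.node (.leaf 4951) (.leaf 6606)))) (.node (.node (.node (.leaf 1264) (.leaf 5312)) (.node (.leaf 4335) (.leaf 736))) (.node (.node (.leaf 2931) (.leaf 2252)) (.node (.leaf 5496) (.leaf 0))))) (.node (.node (.node (.node (.leaf 814) (.leaf 6152)) (.node (.leaf 3384) (.leaf 359))) (.node (.node (.leaf 2546) (.leaf 6810)) (.node (.leaf 1898) (.leaf 0)))) (.node (.node (.node (.leaf 1716) (.leaf 6001)) (.node (.leaf 2370) (.leaf 5787))) (.node (.node (.leaf 96) (.leaf 4011)) (.node (.leaf 5732) (.leaf 0))))))) (.node (.node (.node (.node (.node (.node (.leaf 209) (.leaf 5901)) (.node (.leaf 2295) (.leaf 4861))) (.node (.node (.leaf 2042) (.leaf 1320)) (.node (.leaf 4673) (.leaf 7336)))) (.node (.node (.node (.leaf 1163) (.leaf 3739)) (.node (.leaf 4256) (.leaf 6174))) (.node (.node (.leaf 2838) (.leaf 6907)) (.node (.leaf 5423) (.leaf 0))))) (.node (.node (.node (.node (.leaf 696) (.leaf 6099)) (.node (.leaf 3926) (.leaf 7193))) (.node (.node (.leaf 2452) (.leaf 6787)) (.node (.leaf 376) (.leaf 0)))) (.node (.node (.node (.leaf 1435) (.leaf 5383)) (.node (.leaf 4573) (.leaf 7304))) (.node (.node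 (.leaf 3218) (.leaf 6793)) (.node (.leaf 5674) (.leaf 0)))))) (.node (.node (.node (.node (.node (.leaf 454) (.leaf 151)) (.node (.leaf 3749) (.leaf 4696))) (.node (.node (.leaf 2248) (.leaf 2033)) (.node (.leaf 4653) (.leaf 0)))) (.node (.node (.node (.leaf 1389) (.leaf 6385)) (.node (.leaf 4415) (.leaf 7219))) (.node (.node (.leaf 2958) (.leaf 1024)) (.node (.leaf 5230) (.leaf 0))))) (.node (.node (.node (.node (.leaf 931) (.leaf 2558)) (.node (.leaf 4092) (.leaf 2336))) (.node (.node (.leaf 2650) (.leaf 5238)) (.node (.leaf 5289) (.leaf 0)))) (.node (.node (.node (.leaf 1827) (.leaf 1494)) (.node (.leaf 4731) (.leaf 7321))) (.node (.node (.leaf 3399) (.leaf 1747)) (.node (.leaf 5794) (.leaf 0))))))))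

def he0T10 : NT := .node (.node (.node (.node (.node (.node (.node (.node (.leaf 21) (.leaf 5313)) (.node (.leaf 1717) (.leaf 6669))) (.node (.node (.leaf 1883) (.leaf 5113)) (.node (.leaf 4771) (.leaf 6566)))) (.node (.node (.node (.leaf 992) (.leaf 6232)) (.node (.leaf 4136) (.leaf 1787))) (.node (.node (.leaf 2699) (.leaf 6865)) (.node (.leaf 5236) (.leaf 0))))) (.node (.node (.node (.node (.leaf 518) (.leaf 5952)) (.node (.leaf 3578) (.leaf 658))) (.node (.node (.leaf 2146) (.leaf 2550)) (.node (.leaf 5034) (.leaf 0)))) (.node (.node (.node (.leaf 1445) (.leaf 6405)) (.node (.leaf 4456) (.leaf 4874))) (.node (.node (.leaf 1970) (.leaf 6486)) (.node (.leaf 5009) (.leaf 0)))))) (.node (.node (.node (.node (.node (.leaf 273) (.leaf 2451)) (.node (.leaf 3628) (.leaf 6649))) (.node (.node (.leaf 2095) (.leaf 4030)) (.node (.leaf 4194) (.leaf 6306)))) (.node (.node (.node (.leaf 1223) (.leaf 4411)) (.node (.leaf 2372) (.leaf 7260))) (.node (.node (.leaf 2884) (.leaf 5804)) (.node (.leaf 5458) (.leaf 0))))) (.node (.node (.node (.node (.leaf 755) (.leaf 6116)) (.node (.leaf 668) (.leaf 4901))) (.node (.node (.leaf 2503)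 (.leaf 4320)) (.node (.leaf 2724) (.leaf 0)))) (.node (.node (.node (.leaf 1663) (.leaf 6498)) (.node (.leaf 4617) (.leaf 4808))) (.node (.node (.leaf 3266) (.leaf 6973)) (.node (.leaf 5676) (.leaf 0))))))) (.node (.node (.node (.node (.node (.node (.leaf 148) (.leaf 1380)) (.node (.leaf 3541) (.leaf 1581))) (.node (.node (.leaf 1992) (.leaf 1830)) (.node (.leaf 4840) (.leaf 2618)))) (.node (.node (.node (.leaf 1110) (.leaf 1700)) (.node (.leaf 3536) (.leaf 7213))) (.node (.node (.leaf 2791) (.leaf 4207)) (.node (.leaf 4447) (.leaf 0))))) (.node (.node (.node (.node (.leaf 639) (.leaf 3791)) (.node (.leaf 3882) (.leaf 4083))) (.node (.node (.leaf 2402) (.leaf 6588)) (.node (.leaf 4940) (.leaf 0)))) (.node (.node (.node (.leaf 1553) (.leaf 1326)) (.node (.leaf 681) (.leaf 3826))) (.node (.node (.leaf 1099) (.leaf 3662)) (.node (.leaf 5642) (.leaf 0)))))) (.node (.node (.node (.node (.node (.leaf 396) (.leaf 5990)) (.node (.leaf 3709) (.leaf 5720))) (.node (.node (.leaf 2196) (.leaf 3001)) (.node (.leaf 4098) (.leaf 0)))) (.node (.node (.node (.leaf 1333) (.leaf 5291)) (.node (.leaf 3580) (.leaf 6950))) (.node (.node (.leaf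 2982) (.leaf 3783)) (.node (.leaf 5433) (.leaf 0))))) (.node (.node (.node (.node (.leaf 875) (.leaf 3474)) (.node (.leaf 4023) (.leaf 747))) (.node (.node (.leaf 459) (.leaf 6826)) (.node (.leaf 5258) (.leaf 0)))) (.node (.node (.node (.leaf 1772) (.leaf 3919)) (.node (.leaf 3694) (.leaf 507))) (.node (.node (.leaf 3354) (.leaf 5666)) (.node (.leaf 5764) (.leaf 0)))))))) (.node (.node (.node (.node (.node (.node (.node (.leaf 85) (.leaf 588)) (.node (.leaf 3495) (.leaf 5535))) (.node (.node (.leaf 1933) (.leaf 6401)) (.node (.leaf 4806) (.leaf 6738)))) (.node (.node (.node (.leaf 419) (.leaf 111)) (.node (.leaf 4181) (.leaf 2303))) (.node (.node (.leaf 688) (.leaf 6845)) (.node (.leaf 5090) (.leaf 0))))) (.node (.node (.node (.node (.leaf 578) (.leaf 6061)) (.node (.leaf 3836) (.leaf 5536))) (.node (.node (.leaf 1912) (.leaf 5923)) (.node (.leaf 5076) (.leaf 0)))) (.node (.node (.node (.leaf 760) (.leaf 5077)) (.node (.leaf 4504) (.leaf 6858))) (.node (.node (.leaf 3120) (.leaf 6291)) (.node (.leaf 4036) (.leaf 0)))))) (.node (.node (.node (.node (.node (.leaf 336) (.leaf 774)) (.node (.leaf 3669) (.leaf 6410))) (.node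 (.node (.leaf 2143) (.leaf 6685)) (.node (.leaf 4953) (.leaf 7335)))) (.node (.node (.node (.leaf 1280) (.leaf 6351)) (.node (.leaf 4336) (.leaf 4363))) (.node (.node (.leaf 2685) (.leaf 6937)) (.node (.leaf 5497) (.leaf 0))))) (.node (.node (.node (.node (.leaf 816) (.leaf 6102)) (.node (.leaf 4018) (.leaf 2192))) (.node (.node (.leaf 2548) (.leaf 4087)) (.node (.leaf 5227) (.leaf 0)))) (.node (.node (.node (.leaf 1718) (.leaf 6497)) (.node (.leaf 68) (.leaf 7322))) (.node (.node (.leaf 3246) (.leaf 4412)) (.node (.leaf 5546) (.leaf 0))))))) (.node (.node (.node (.node (.node (.node (.leaf 211) (.leaf 5902)) (.node (.leaf 3579) (.leaf 7024))) (.node (.node (.leaf 2044) (.leaf 1893)) (.node (.leaf 2029) (.leaf 6422)))) (.node (.node (.node (.leaf 1165) (.leaf 342)) (.node (.leaf 4258) (.leaf 7254))) (.node (.node (.leaf 1068) (.leaf 1015)) (.node (.leaf 5424) (.leaf 0))))) (.node (.node (.node (.node (.leaf 698) (.leaf 6101)) (.node (.leaf 3928) (.leaf 6129))) (.node (.node (.leaf 2454) (.leaf 167)) (.node (.leaf 5149) (.leaf 0)))) (.node (.node (.node (.leaf 1609) (.leaf 2103)) (.node (.leaf 4117) (.leaf 7306))) (.node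 (.node (.leaf 3219) (.leaf 3590)) (.node (.leaf 5675) (.leaf 0)))))) (.node (.node (.node (.node (.node (.leaf 456) (.leaf 5014)) (.node (.leaf 1988) (.leaf 7053))) (.node (.node (.leaf 2241) (.leaf 6729)) (.node (.leaf 5017) (.leaf 0)))) (.node (.node (.node (.leaf 1391) (.leaf 149)) (.node (.leaf 2485) (.leaf 7211))) (.node (.node (.leaf 3031) (.leaf 4893)) (.node (.leaf 1441) (.leaf 0))))) (.node (.node (.node (.node (.leaf 933) (.leaf 6209)) (.node (.leaf 4100) (.leaf 2828))) (.node (.node (.leaf 1235) (.leaf 6847)) (.node (.leaf 5290) (.leaf 0)))) (.node (.node (.node (.leaf 1813) (.leaf 6565)) (.node (.leaf 4733) (.leaf 7291))) (.node (.node (.leaf 1657) (.leaf 6572)) (.node (.leaf 5796) (.leaf 0))))))))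

def he0T11 : NT := .node (.node (.node (.node (.node (.node (.node (.node (.leaf 23) (.leaf 5828)) (.node (.leaf 3444) (.leaf 7077))) (.node (.node (.leaf 1885) (.leaf 6595)) (.node (.leaf 4476) (.leaf 3675)))) (.node (.node (.node (.leaf 993) (.leaf 5628)) (.node (.leaf 4138) (.leaf 7047))) (.node (.node (.leaf 2701) (.leaf 6867)) (.node (.leaf 5311) (.leaf 0))))) (.node (.node (.node (.node (.leaf 520) (.leaf 5940)) (.node (.leaf 3269) (.leaf 7165))) (.node (.node (.leaf 2302) (.leaf 6683)) (.node (.leaf 382) (.leaf 0)))) (.node (.node (.node (.leaf 1447) (.leaf 5684)) (.node (.leaf 601) (.leaf 4694))) (.node (.node (.leaf 3076) (.leaf 1289)) (.node (.leaf 4688) (.leaf 0)))))) (.node (.node (.node (.node (.node (.leaf 275) (.leaf 226)) (.node (.leaf 3629) (.leaf 4749))) (.node (.node (.leaf 2096) (.leaf 6587)) (.node (.leaf 1669) (.leaf 7277)))) (.node (.node (.node (.leaf 280) (.leaf 6247)) (.node (.leaf 4301) (.leaf 1411))) (.node (.node (.leaf 2542) (.leaf 5686)) (.node (.leaf 5460) (.leaf 0))))) (.node (.node (.node (.node (.leaf 757) (.leaf 6124)) (.node (.leaf 1526) (.leaf 6684))) (.node (.node (.leaf 2505) (.leaf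 6231)) (.node (.leaf 5188) (.leaf 0)))) (.node (.node (.node (.leaf 1168) (.leaf 1901)) (.node (.leaf 4619) (.leaf 1857))) (.node (.node (.leaf 3268) (.leaf 7037)) (.node (.leaf 5334) (.leaf 0))))))) (.node (.node (.node (.node (.node (.node (.leaf 150) (.leaf 290)) (.node (.leaf 2018) (.leaf 7105))) (.node (.node (.leaf 1994) (.leaf 6207)) (.node (.leaf 4440) (.leaf 7270)))) (.node (.node (.node (.leaf 536) (.leaf 5651)) (.node (.leaf 4226) (.leaf 2683))) (.node (.node (.leaf 2793) (.leaf 2856)) (.node (.leaf 4187) (.leaf 0))))) (.node (.node (.node (.node (.leaf 641) (.leaf 5263)) (.node (.leaf 3884) (.leaf 7184))) (.node (.node (.leaf 2404) (.leaf 2067)) (.node (.leaf 4943) (.leaf 0)))) (.node (.node (.node (.leaf 1555) (.leaf 6453)) (.node (.leaf 4538) (.leaf 2279))) (.node (.node (.leaf 3171) (.leaf 5870)) (.node (.leaf 5644) (.leaf 0)))))) (.node (.node (.node (.node (.node (.leaf 398) (.leaf 2368)) (.node (.leaf 934) (.leaf 3553))) (.node (.node (.leaf 2198) (.leaf 250)) (.node (.leaf 4984) (.leaf 0)))) (.node (.node (.node (.leaf 1335) (.leaf 6011)) (.node (.leaf 3238) (.leaf 6778))) (.node (.node (.leaf 2984)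 (.leaf 6784)) (.node (.leaf 5526) (.leaf 0))))) (.node (.node (.node (.node (.leaf 877) (.leaf 6184)) (.node (.leaf 4061) (.leaf 1895))) (.node (.node (.leaf 2600) (.leaf 6827)) (.node (.leaf 5259) (.leaf 0)))) (.node (.node (.node (.leaf 1774) (.leaf 6542)) (.node (.leaf 2219) (.leaf 7265))) (.node (.node (.leaf 3356) (.leaf 5511)) (.node (.leaf 1888) (.leaf 0)))))))) (.node (.node (.node (.node (.node (.node (.node (.leaf 87) (.leaf 5858)) (.node (.leaf 3496) (.leaf 7059))) (.node (.node (.leaf 1935) (.leaf 2666)) (.node (.leaf 4807) (.leaf 6883)))) (.node (.node (.node (.leaf 1053) (.leaf 899)) (.node (.leaf 4183) (.leaf 5314))) (.node (.node (.leaf 2338) (.leaf 425)) (.node (.leaf 5360) (.leaf 0))))) (.node (.node (.node (.node (.leaf 580) (.leaf 3751)) (.node (.leaf 579) (.leaf 7007))) (.node (.node (.leaf 2352) (.leaf 6754)) (.node (.leaf 18) (.leaf 0)))) (.node (.node (.node (.leaf 1502) (.leaf 1359)) (.node (.leaf 4506) (.leaf 284))) (.node (.node (.leaf 3122) (.leaf 6170)) (.node (.leaf 5618) (.leaf 0)))))) (.node (.node (.node (.node (.node (.leaf 338) (.leaf 4529)) (.node (.leaf 3670) (.leaf 5098))) (.node (.node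 (.leaf 2145) (.leaf 3506)) (.node (.leaf 4955) (.leaf 2501)))) (.node (.node (.node (.leaf 1282) (.leaf 6352)) (.node (.leaf 4283) (.leaf 1178))) (.node (.node (.leaf 2934) (.leaf 6939)) (.node (.leaf 5498) (.leaf 0))))) (.node (.node (.node (.node (.leaf 818) (.leaf 6155)) (.node (.leaf 4020) (.leaf 6391))) (.node (.node (.leaf 2549) (.leaf 6285)) (.node (.leaf 5228) (.leaf 0)))) (.node (.node (.node (.leaf 1720) (.leaf 6023)) (.node (.leaf 1742) (.leaf 7323))) (.node (.node (.leaf 3315) (.leaf 489)) (.node (.leaf 5734) (.leaf 0))))))) (.node (.node (.node (.node (.node (.node (.leaf 213) (.leaf 3292)) (.node (.leaf 1959) (.leaf 3934))) (.node (.node (.leaf 1851) (.leaf 5884)) (.node (.leaf 1505) (.leaf 4103)))) (.node (.node (.node (.leaf 1167) (.leaf 4623)) (.node (.leaf 3714) (.leaf 6484))) (.node (.node (.leaf 2840) (.leaf 4577)) (.node (.leaf 5426) (.leaf 0))))) (.node (.node (.node (.node (.leaf 700) (.leaf 4790)) (.node (.leaf 839) (.leaf 6082))) (.node (.node (.leaf 2456) (.leaf 5829)) (.node (.leaf 5075) (.leaf 0)))) (.node (.node (.node (.leaf 1611) (.leaf 6476)) (.node (.leaf 4576) (.leaf 1304))) (.node (.node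 (.leaf 3221) (.leaf 4168)) (.node (.leaf 4329) (.leaf 0)))))) (.node (.node (.node (.node (.node (.leaf 458) (.leaf 5714)) (.node (.leaf 3593) (.leaf 4450))) (.node (.node (.leaf 1769) (.leaf 5750)) (.node (.leaf 5018) (.leaf 0)))) (.node (.node (.node (.leaf 1392) (.leaf 2749)) (.node (.leaf 4418) (.leaf 1239))) (.node (.node (.leaf 3032) (.leaf 5170)) (.node (.leaf 1616) (.leaf 0))))) (.node (.node (.node (.node (.leaf 778) (.leaf 3668)) (.node (.leaf 4102) (.leaf 6829))) (.node (.node (.leaf 2652) (.leaf 6848)) (.node (.leaf 4655) (.leaf 0)))) (.node (.node (.node (.leaf 1829) (.leaf 4715)) (.node (.leaf 4641) (.leaf 1686))) (.node (.node (.leaf 3371) (.leaf 6060)) (.node (.leaf 2439) (.leaf 0))))))))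

def he0T12 : NT := .node (.node (.node (.node (.node (.node (.node (.node (.leaf 25) (.leaf 5830)) (.node (.leaf 3445) (.leaf 6249))) (.node (.node (.leaf 20) (.leaf 6596)) (.node (.leaf 4773) (.leaf 2998)))) (.node (.node (.node (.leaf 995) (.leaf 5784)) (.node (.leaf 4139) (.leaf 6379))) (.node (.node (.leaf 2437) (.leaf 860)) (.node (.leaf 3741) (.leaf 0))))) (.node (.node (.node (.node (.leaf 522) (.leaf 5281)) (.node (.leaf 38) (.leaf 6404))) (.node (.node (.leaf 2304) (.leaf 5275)) (.node (.leaf 3023) (.leaf 0)))) (.node (.node (.node (.leaf 2) (.leaf 6408)) (.node (.leaf 4352) (.leaf 7290))) (.node (.node (.leaf 2322) (.leaf 5175)) (.node (.leaf 3286) (.leaf 0)))))) (.node (.node (.node (.node (.node (.leaf 277) (.leaf 4112)) (.node (.leaf 3630) (.leaf 6990))) (.node (.node (.leaf 2098) (.leaf 6661)) (.node (.leaf 4007) (.leaf 3794)))) (.node (.node (.node (.leaf 1226) (.leaf 5257)) (.node (.leaf 1640) (.leaf 7261))) (.node (.node (.leaf 2887) (.leaf 6910)) (.node (.leaf 5461) (.leaf 0))))) (.node (.node (.node (.node (.leaf 759) (.leaf 6126)) (.node (.leaf 3977) (.leaf 2708))) (.node (.node (.leaf 2507) (.leaf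 1597)) (.node (.leaf 5190) (.leaf 0)))) (.node (.node (.node (.leaf 1666) (.leaf 6500)) (.node (.leaf 4621) (.leaf 630))) (.node (.node (.leaf 3270) (.leaf 5510)) (.node (.leaf 5704) (.leaf 0))))))) (.node (.node (.node (.node (.node (.node (.leaf 152) (.leaf 4033)) (.node (.leaf 3543) (.leaf 1077))) (.node (.node (.leaf 1996) (.leaf 3677)) (.node (.leaf 2860) (.leaf 374)))) (.node (.node (.node (.leaf 1113) (.leaf 624)) (.node (.leaf 4133) (.leaf 6120))) (.node (.node (.leaf 2110) (.leaf 692)) (.node (.leaf 1966) (.leaf 0))))) (.node (.node (.node (.node (.leaf 643) (.leaf 6078)) (.node (.leaf 3886) (.leaf 7175))) (.node (.node (.leaf 2406) (.leaf 3232)) (.node (.leaf 4989) (.leaf 0)))) (.node (.node (.node (.leaf 1129) (.leaf 3066)) (.node (.leaf 4344) (.leaf 1332))) (.node (.node (.leaf 2930) (.leaf 2935)) (.node (.leaf 5646) (.leaf 0)))))) (.node (.node (.node (.node (.node (.leaf 400) (.leaf 3431)) (.node (.leaf 3711) (.leaf 7139))) (.node (.node (.leaf 2200) (.leaf 5032)) (.node (.leaf 3060) (.leaf 0)))) (.node (.node (.node (.leaf 1337) (.leaf 1378)) (.node (.leaf 4378) (.leaf 6908))) (.node (.node (.leaf 2986)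 (.leaf 4481)) (.node (.leaf 5528) (.leaf 0))))) (.node (.node (.node (.node (.leaf 523) (.leaf 6185)) (.node (.leaf 4063) (.leaf 6880))) (.node (.node (.leaf 2602) (.leaf 3413)) (.node (.leaf 4190) (.leaf 0)))) (.node (.node (.node (.leaf 1775) (.leaf 5970)) (.node (.leaf 4522) (.leaf 5320))) (.node (.node (.leaf 3049) (.leaf 3081)) (.node (.leaf 5766) (.leaf 0)))))))) (.node (.node (.node (.node (.node (.node (.node (.leaf 89) (.leaf 5855)) (.node (.leaf 1738) (.leaf 5810))) (.node (.node (.leaf 1937) (.leaf 4842)) (.node (.leaf 159) (.leaf 218)))) (.node (.node (.node (.leaf 1055) (.leaf 6264)) (.node (.leaf 3155) (.leaf 6751))) (.node (.node (.leaf 2747) (.leaf 415)) (.node (.leaf 5065) (.leaf 0))))) (.node (.node (.node (.node (.leaf 582) (.leaf 1776)) (.node (.leaf 3838) (.leaf 5654))) (.node (.node (.leaf 2199) (.leaf 2312)) (.node (.leaf 5078) (.leaf 0)))) (.node (.node (.node (.leaf 1504) (.leaf 5677)) (.node (.leaf 4507) (.leaf 6002))) (.node (.node (.leaf 3124) (.leaf 4257)) (.node (.leaf 5537) (.leaf 0)))))) (.node (.node (.node (.node (.node (.leaf 339) (.leaf 5966)) (.node (.leaf 1427) (.leaf 4873))) (.node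 (.node (.leaf 2147) (.leaf 6198)) (.node (.leaf 4956) (.leaf 7337)))) (.node (.node (.node (.leaf 1284) (.leaf 5795)) (.node (.leaf 4337) (.leaf 2428))) (.node (.node (.leaf 2156) (.leaf 5906)) (.node (.leaf 4774) (.leaf 0))))) (.node (.node (.node (.node (.leaf 820) (.leaf 597)) (.node (.leaf 4022) (.leaf 5946))) (.node (.node (.leaf 2540) (.leaf 6813)) (.node (.leaf 4147) (.leaf 0)))) (.node (.node (.node (.leaf 1722) (.leaf 5466)) (.node (.leaf 4548) (.leaf 1393))) (.node (.node (.leaf 3317) (.leaf 5288)) (.node (.leaf 5736) (.leaf 0))))))) (.node (.node (.node (.node (.node (.node (.leaf 215) (.leaf 3842)) (.node (.leaf 3582) (.leaf 6927))) (.node (.node (.leaf 2046) (.leaf 6641)) (.node (.leaf 4707) (.leaf 5842)))) (.node (.node (.node (.leaf 1169) (.leaf 6308)) (.node (.leaf 4261) (.leaf 5846))) (.node (.node (.leaf 2728) (.leaf 841)) (.node (.leaf 3419) (.leaf 0))))) (.node (.node (.node (.node (.leaf 702) (.leaf 6103)) (.node (.leaf 3930) (.leaf 1469))) (.node (.node (.leaf 932) (.leaf 5601)) (.node (.leaf 5050) (.leaf 0)))) (.node (.node (.node (.leaf 1613) (.leaf 6154)) (.node (.leaf 2894) (.leaf 730))) (.node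 (.node (.leaf 3223) (.leaf 7023)) (.node (.leaf 3029) (.leaf 0)))))) (.node (.node (.node (.node (.node (.leaf 460) (.leaf 3083)) (.node (.leaf 3752) (.leaf 6452))) (.node (.node (.leaf 1907) (.leaf 370)) (.node (.leaf 5019) (.leaf 0)))) (.node (.node (.node (.leaf 1394) (.leaf 6130)) (.node (.leaf 3099) (.leaf 5832))) (.node (.node (.leaf 1607) (.leaf 4730)) (.node (.leaf 5566) (.leaf 0))))) (.node (.node (.node (.node (.leaf 936) (.leaf 6208)) (.node (.leaf 3408) (.leaf 7218))) (.node (.node (.leaf 2653) (.leaf 3172)) (.node (.leaf 5292) (.leaf 0)))) (.node (.node (.node (.leaf 1831) (.leaf 1605)) (.node (.leaf 4734) (.leaf 1139))) (.node (.node (.leaf 3403) (.leaf 2300)) (.node (.leaf 4594) (.leaf 0))))))))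

def he0T13 : NT := .node (.node (.node (.node (.node (.node (.node (.node (.leaf 27) (.leaf 1767)) (.node (.leaf 3446) (.leaf 6468))) (.node (.node (.leaf 548) (.leaf 6455)) (.node (.leaf 4775) (.leaf 568)))) (.node (.node (.node (.leaf 997) (.leaf 6235)) (.node (.leaf 3892) (.leaf 7229))) (.node (.node (.leaf 2703) (.leaf 6723)) (.node (.leaf 5322) (.leaf 0))))) (.node (.node (.node (.node (.leaf 524) (.leaf 6035)) (.node (.leaf 3795) (.leaf 7166))) (.node (.node (.leaf 2306) (.leaf 6418)) (.node (.leaf 5048) (.leaf 0)))) (.node (.node (.node (.leaf 1449) (.leaf 4801)) (.node (.leaf 4460) (.leaf 6383))) (.node (.node (.leaf 2556) (.leaf 6186)) (.node (.leaf 1225) (.leaf 0)))))) (.node (.node (.node (.node (.node (.leaf 279) (.leaf 1409)) (.node (.leaf 3521) (.leaf 6309))) (.node (.node (.leaf 2100) (.leaf 6663)) (.node (.leaf 4908) (.leaf 6863)))) (.node (.node (.node (.leaf 1228) (.leaf 6328)) (.node (.leaf 4302) (.leaf 4225))) (.node (.node (.leaf 2769) (.leaf 4706)) (.node (.leaf 5406) (.leaf 0))))) (.node (.node (.node (.node (.leaf 761) (.leaf 5436)) (.node (.leaf 3979) (.leaf 3217))) (.node (.node (.leaf 1782)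 (.leaf 6800)) (.node (.leaf 4141) (.leaf 0)))) (.node (.node (.node (.leaf 1491) (.leaf 6502)) (.node (.leaf 4622) (.leaf 4333))) (.node (.node (.leaf 3272) (.leaf 6837)) (.node (.leaf 3954) (.leaf 0))))))) (.node (.node (.node (.node (.node (.node (.leaf 154) (.leaf 5016)) (.node (.leaf 3494) (.leaf 389))) (.node (.node (.leaf 1998) (.leaf 3761)) (.node (.leaf 4843) (.leaf 7305)))) (.node (.node (.node (.leaf 1115) (.leaf 32)) (.node (.leaf 3344) (.leaf 6825))) (.node (.node (.leaf 2796) (.leaf 6741)) (.node (.leaf 5397) (.leaf 0))))) (.node (.node (.node (.node (.leaf 566) (.leaf 6079)) (.node (.leaf 3888) (.leaf 5243))) (.node (.node (.leaf 2408) (.leaf 6464)) (.node (.leaf 4783) (.leaf 0)))) (.node (.node (.node (.leaf 1558) (.leaf 258)) (.node (.leaf 4540) (.leaf 6743))) (.node (.node (.leaf 3110) (.leaf 7011)) (.node (.leaf 3894) (.leaf 0)))))) (.node (.node (.node (.node (.node (.leaf 402) (.leaf 3548)) (.node (.leaf 2834) (.leaf 6543))) (.node (.node (.leaf 1074) (.leaf 4244)) (.node (.leaf 4987) (.leaf 0)))) (.node (.node (.node (.leaf 1339) (.leaf 2220)) (.node (.leaf 3080) (.leaf 6153))) (.node (.node (.leaf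 2988) (.leaf 2799)) (.node (.leaf 192) (.leaf 0))))) (.node (.node (.node (.node (.leaf 790) (.leaf 6187)) (.node (.leaf 4065) (.leaf 3480))) (.node (.node (.leaf 2603) (.leaf 3051)) (.node (.leaf 5082) (.leaf 0)))) (.node (.node (.node (.leaf 1736) (.leaf 3366)) (.node (.leaf 782) (.leaf 3527))) (.node (.node (.leaf 3359) (.leaf 5407)) (.node (.leaf 3623) (.leaf 0)))))))) (.node (.node (.node (.node (.node (.node (.node (.leaf 91) (.leaf 5859)) (.node (.leaf 3498) (.leaf 7092))) (.node (.node (.leaf 1939) (.leaf 3927)) (.node (.leaf 4768) (.leaf 6487)))) (.node (.node (.node (.leaf 1057) (.leaf 6266)) (.node (.leaf 3400) (.leaf 4179))) (.node (.node (.leaf 2748) (.leaf 6243)) (.node (.leaf 2426) (.leaf 0))))) (.node (.node (.node (.node (.leaf 584) (.leaf 2589)) (.node (.leaf 3839) (.leaf 6432))) (.node (.node (.leaf 2354) (.leaf 2617)) (.node (.leaf 5080) (.leaf 0)))) (.node (.node (.node (.leaf 1506) (.leaf 3385)) (.node (.leaf 1205) (.leaf 5402))) (.node (.node (.leaf 3126) (.leaf 4016)) (.node (.leaf 3316) (.leaf 0)))))) (.node (.node (.node (.node (.node (.leaf 341) (.leaf 5967)) (.node (.leaf 3673) (.leaf 4607)))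 (.node (.node (.leaf 2149) (.leaf 3766)) (.node (.leaf 1372) (.leaf 2864)))) (.node (.node (.node (.leaf 1286) (.leaf 317)) (.node (.leaf 2521) (.leaf 4542))) (.node (.node (.leaf 2936) (.leaf 5158)) (.node (.leaf 1312) (.leaf 0))))) (.node (.node (.node (.node (.leaf 607) (.leaf 720)) (.node (.leaf 4024) (.leaf 6534))) (.node (.node (.leaf 2551) (.leaf 6815)) (.node (.leaf 135) (.leaf 0)))) (.node (.node (.node (.leaf 1724) (.leaf 5373)) (.node (.leaf 4659) (.leaf 2624))) (.node (.node (.leaf 3319) (.leaf 4048)) (.node (.leaf 5737) (.leaf 0))))))) (.node (.node (.node (.node (.node (.node (.leaf 217) (.leaf 5520)) (.node (.leaf 3584) (.leaf 7100))) (.node (.node (.leaf 2048) (.leaf 6638)) (.node (.leaf 4692) (.leaf 6544)))) (.node (.node (.node (.leaf 1170) (.leaf 4575)) (.node (.leaf 4262) (.leaf 3509))) (.node (.node (.leaf 2843) (.leaf 2153)) (.node (.leaf 5429) (.leaf 0))))) (.node (.node (.node (.node (.leaf 704) (.leaf 6105)) (.node (.leaf 3931) (.leaf 6888))) (.node (.node (.leaf 2459) (.leaf 4428)) (.node (.leaf 5121) (.leaf 0)))) (.node (.node (.node (.leaf 1615) (.leaf 786)) (.node (.leaf 4579) (.leaf 7129)))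 (.node (.node (.leaf 3187) (.leaf 5973)) (.node (.leaf 905) (.leaf 0)))))) (.node (.node (.node (.node (.node (.leaf 462) (.leaf 6019)) (.node (.leaf 3195) (.leaf 7078))) (.node (.node (.leaf 2253) (.leaf 6730)) (.node (.leaf 4952) (.leaf 0)))) (.node (.node (.node (.leaf 1396) (.leaf 6386)) (.node (.leaf 4420) (.leaf 378))) (.node (.node (.leaf 3035) (.leaf 6978)) (.node (.leaf 5568) (.leaf 0))))) (.node (.node (.node (.node (.leaf 938) (.leaf 3208)) (.node (.leaf 3920) (.leaf 1140))) (.node (.node (.leaf 1569) (.leaf 3433)) (.node (.leaf 2824) (.leaf 0)))) (.node (.node (.node (.leaf 1833) (.leaf 6568)) (.node (.leaf 4736) (.leaf 5439))) (.node (.node (.leaf 3405) (.leaf 4649)) (.node (.leaf 5128) (.leaf 0))))))))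

def he0T14 : NT := .node (.node (.node (.node (.node (.node (.node (.node (.leaf 29) (.leaf 2837)) (.node (.leaf 3448) (.leaf 2852))) (.node (.node (.leaf 1688) (.leaf 2307)) (.node (.leaf 3285) (.leaf 4056)))) (.node (.node (.node (.leaf 999) (.leaf 6237)) (.node (.leaf 3860) (.leaf 5504))) (.node (.node (.leaf 2704) (.leaf 2154)) (.node (.leaf 5324) (.leaf 0))))) (.node (.node (.node (.node (.leaf 526) (.leaf 4968)) (.node (.leaf 3796) (.leaf 5917))) (.node (.node (.leaf 2308) (.leaf 6744)) (.node (.leaf 5049) (.leaf 0)))) (.node (.node (.node (.leaf 1451) (.leaf 50)) (.node (.leaf 4073) (.leaf 7062))) (.node (.node (.leaf 3079) (.leaf 2705)) (.node (.leaf 5595) (.leaf 0)))))) (.node (.node (.node (.node (.node (.leaf 281) (.leaf 5935)) (.node (.leaf 3067) (.leaf 4505))) (.node (.node (.leaf 1872) (.leaf 3387)) (.node (.leaf 4909) (.leaf 570)))) (.node (.node (.node (.leaf 1230) (.leaf 6329)) (.node (.leaf 4303) (.leaf 7259))) (.node (.node (.leaf 2889) (.leaf 3129)) (.node (.leaf 2265) (.leaf 0))))) (.node (.node (.node (.node (.leaf 763) (.leaf 6128)) (.node (.leaf 3980) (.leaf 2811))) (.node (.node (.leaf 2509) (.leaf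 6801)) (.node (.leaf 5192) (.leaf 0)))) (.node (.node (.node (.leaf 1668) (.leaf 6503)) (.node (.leaf 4624) (.leaf 3169))) (.node (.node (.leaf 3274) (.leaf 6413)) (.node (.leaf 5706) (.leaf 0))))))) (.node (.node (.node (.node (.node (.node (.leaf 156) (.leaf 4486)) (.node (.leaf 3544) (.leaf 174))) (.node (.node (.leaf 2000) (.leaf 6624)) (.node (.leaf 4844) (.leaf 6195)))) (.node (.node (.node (.leaf 1117) (.leaf 5420)) (.node (.leaf 4230) (.leaf 7246))) (.node (.node (.leaf 2798) (.leaf 5470)) (.node (.leaf 5398) (.leaf 0))))) (.node (.node (.node (.node (.leaf 646) (.leaf 5007)) (.node (.leaf 2738) (.leaf 3968))) (.node (.node (.leaf 2410) (.leaf 6044)) (.node (.leaf 70) (.leaf 0)))) (.node (.node (.node (.leaf 1560) (.leaf 5508)) (.node (.leaf 4473) (.leaf 6655))) (.node (.node (.leaf 3174) (.leaf 3765)) (.node (.leaf 3625) (.leaf 0)))))) (.node (.node (.node (.node (.node (.leaf 404) (.leaf 5994)) (.node (.leaf 3713) (.leaf 7067))) (.node (.node (.leaf 2203) (.leaf 554)) (.node (.leaf 3393) (.leaf 0)))) (.node (.node (.node (.leaf 1341) (.leaf 4458)) (.node (.leaf 3525) (.leaf 3869))) (.node (.node (.leaf 626) (.leaf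 4903)) (.node (.leaf 5530) (.leaf 0))))) (.node (.node (.node (.node (.leaf 881) (.leaf 2257)) (.node (.leaf 3329) (.leaf 6928))) (.node (.node (.leaf 2605) (.leaf 6828)) (.node (.leaf 5262) (.leaf 0)))) (.node (.node (.node (.leaf 1778) (.leaf 6179)) (.node (.leaf 4698) (.leaf 7159))) (.node (.node (.leaf 3361) (.leaf 4328)) (.node (.leaf 683) (.leaf 0)))))))) (.node (.node (.node (.node (.node (.node (.node (.leaf 93) (.leaf 5860)) (.node (.leaf 3500) (.leaf 6059))) (.node (.node (.leaf 1941) (.leaf 3840)) (.node (.leaf 4811) (.leaf 1211)))) (.node (.node (.node (.leaf 1059) (.leaf 6267)) (.node (.leaf 4186) (.leaf 3782))) (.node (.node (.leaf 2750) (.leaf 5232)) (.node (.leaf 4166) (.leaf 0))))) (.node (.node (.node (.node (.leaf 586) (.leaf 1367)) (.node (.leaf 3734) (.leaf 5823))) (.node (.node (.leaf 2356) (.leaf 6755)) (.node (.leaf 4703) (.leaf 0)))) (.node (.node (.node (.leaf 1508) (.leaf 4815)) (.node (.leaf 4509) (.leaf 538))) (.node (.node (.leaf 3128) (.leaf 4497)) (.node (.leaf 2932) (.leaf 0)))))) (.node (.node (.node (.node (.node (.leaf 343) (.leaf 5968)) (.node (.leaf 2794) (.leaf 7074))) (.node (.node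 (.leaf 2151) (.leaf 5384)) (.node (.leaf 4958) (.leaf 7284)))) (.node (.node (.node (.leaf 1288) (.leaf 5015)) (.node (.leaf 4339) (.leaf 7177))) (.node (.node (.leaf 2938) (.leaf 6941)) (.node (.leaf 5499) (.leaf 0))))) (.node (.node (.node (.node (.leaf 823) (.leaf 6157)) (.node (.leaf 2078) (.leaf 5455))) (.node (.node (.leaf 2553) (.leaf 2933)) (.node (.leaf 4389) (.leaf 0)))) (.node (.node (.node (.leaf 1726) (.leaf 3119)) (.node (.leaf 4536) (.leaf 6690))) (.node (.node (.leaf 1825) (.leaf 6803)) (.node (.leaf 24) (.leaf 0))))))) (.node (.node (.node (.node (.node (.node (.leaf 219) (.leaf 5233)) (.node (.leaf 3585) (.leaf 6021))) (.node (.node (.leaf 2050) (.leaf 4898)) (.node (.leaf 4209) (.leaf 3340)))) (.node (.node (.node (.leaf 1172) (.leaf 327)) (.node (.leaf 4264) (.leaf 4312))) (.node (.node (.leaf 2845) (.leaf 1033)) (.node (.leaf 5418) (.leaf 0))))) (.node (.node (.node (.node (.leaf 706) (.leaf 5440)) (.node (.leaf 3933) (.leaf 3179))) (.node (.node (.leaf 865) (.leaf 2229)) (.node (.leaf 853) (.leaf 0)))) (.node (.node (.node (.leaf 1617) (.leaf 6354)) (.node (.leaf 4580) (.leaf 7208))) (.node (.node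 (.leaf 3226) (.leaf 3664)) (.node (.leaf 1145) (.leaf 0)))))) (.node (.node (.node (.node (.node (.leaf 463) (.leaf 6020)) (.node (.leaf 3755) (.leaf 1275))) (.node (.node (.leaf 2255) (.leaf 6118)) (.node (.leaf 4663) (.leaf 0)))) (.node (.node (.node (.leaf 1398) (.leaf 1805)) (.node (.leaf 4422) (.leaf 5984))) (.node (.node (.leaf 3037) (.leaf 5836)) (.node (.leaf 5570) (.leaf 0))))) (.node (.node (.node (.node (.leaf 940) (.leaf 6212)) (.node (.leaf 2350) (.leaf 80))) (.node (.node (.leaf 2656) (.leaf 6850)) (.node (.leaf 4747) (.leaf 0)))) (.node (.node (.node (.leaf 1835) (.leaf 636)) (.node (.leaf 4737) (.leaf 6590))) (.node (.node (.leaf 2334) (.leaf 6440)) (.node (.leaf 4941) (.leaf 0))))))))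

def he0T15 : NT := .node (.node (.node (.node (.node (.node (.node (.node (.leaf 31) (.leaf 5833)) (.node (.leaf 3368) (.leaf 4444))) (.node (.node (.leaf 1890) (.leaf 6598)) (.node (.leaf 4777) (.leaf 6008)))) (.node (.node (.node (.leaf 1001) (.leaf 2347)) (.node (.leaf 4143) (.leaf 2659))) (.node (.node (.leaf 497) (.leaf 1331)) (.node (.leaf 5326) (.leaf 0))))) (.node (.node (.node (.node (.leaf 528) (.leaf 2892)) (.node (.leaf 3798) (.leaf 6734))) (.node (.node (.leaf 2271) (.leaf 3678)) (.node (.leaf 5051) (.leaf 0)))) (.node (.node (.node (.leaf 969) (.leaf 3148)) (.node (.leaf 4463) (.leaf 7292))) (.node (.node (.leaf 2371) (.leaf 6991)) (.node (.leaf 4574) (.leaf 0)))))) (.node (.node (.node (.node (.node (.leaf 283) (.leaf 5936)) (.node (.leaf 690) (.leaf 7119))) (.node (.node (.leaf 1780) (.leaf 6273)) (.node (.leaf 4911) (.leaf 888)))) (.node (.node (.node (.leaf 1232) (.leaf 6331)) (.node (.leaf 4304) (.leaf 7195))) (.node (.node (.leaf 2891) (.leaf 2080)) (.node (.leaf 4552) (.leaf 0))))) (.node (.node (.node (.node (.leaf 765) (.leaf 6080)) (.node (.leaf 3982) (.leaf 3488))) (.node (.node (.leaf 2511) (.leaf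 1503)) (.node (.leaf 5194) (.leaf 0)))) (.node (.node (.node (.leaf 1670) (.leaf 6504)) (.node (.leaf 3771) (.leaf 5147))) (.node (.node (.leaf 3276) (.leaf 1162)) (.node (.leaf 5708) (.leaf 0))))))) (.node (.node (.node (.node (.node (.node (.leaf 158) (.leaf 5506)) (.node (.leaf 3404) (.leaf 1314))) (.node (.node (.leaf 1191) (.leaf 3815)) (.node (.leaf 4846) (.leaf 3311)))) (.node (.node (.node (.leaf 1119) (.leaf 6189)) (.node (.leaf 4095) (.leaf 7250))) (.node (.node (.leaf 2800) (.leaf 6895)) (.node (.leaf 962) (.leaf 0))))) (.node (.node (.node (.node (.leaf 632) (.leaf 5462)) (.node (.leaf 3890) (.leaf 7128))) (.node (.node (.leaf 2412) (.leaf 4028)) (.node (.leaf 5114) (.leaf 0)))) (.node (.node (.node (.leaf 1562) (.leaf 6438)) (.node (.leaf 4541) (.leaf 6604))) (.node (.node (.leaf 3176) (.leaf 3027)) (.node (.leaf 3231) (.leaf 0)))))) (.node (.node (.node (.node (.node (.leaf 406) (.leaf 5996)) (.node (.leaf 3164) (.leaf 7141))) (.node (.node (.leaf 2205) (.leaf 4400)) (.node (.leaf 4990) (.leaf 0)))) (.node (.node (.node (.leaf 1343) (.leaf 6373)) (.node (.leaf 4381) (.leaf 7199))) (.node (.node (.leaf 2991)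 (.leaf 5865)) (.node (.leaf 5531) (.leaf 0))))) (.node (.node (.node (.node (.leaf 883) (.leaf 4227)) (.node (.leaf 525) (.leaf 6010))) (.node (.node (.leaf 2607) (.leaf 3875)) (.node (.leaf 4856) (.leaf 0)))) (.node (.node (.node (.leaf 1630) (.leaf 2120)) (.node (.leaf 4610) (.leaf 5409))) (.node (.node (.leaf 3363) (.leaf 3575)) (.node (.leaf 4645) (.leaf 0)))))))) (.node (.node (.node (.node (.node (.node (.node (.leaf 95) (.leaf 5862)) (.node (.leaf 3502) (.leaf 6115))) (.node (.node (.leaf 1943) (.leaf 5963)) (.node (.leaf 3013) (.leaf 7315)))) (.node (.node (.node (.leaf 1061) (.leaf 890)) (.node (.leaf 4188) (.leaf 6721))) (.node (.node (.leaf 2752) (.leaf 1507)) (.node (.leaf 5364) (.leaf 0))))) (.node (.node (.node (.node (.leaf 542) (.leaf 2711)) (.node (.leaf 3841) (.leaf 88))) (.node (.node (.leaf 2358) (.leaf 3388)) (.node (.leaf 5081) (.leaf 0)))) (.node (.node (.node (.leaf 1510) (.leaf 5669)) (.node (.leaf 4510) (.leaf 7297))) (.node (.node (.leaf 2990) (.leaf 6424)) (.node (.leaf 4960) (.leaf 0)))))) (.node (.node (.node (.node (.node (.leaf 345) (.leaf 1621)) (.node (.leaf 3676) (.leaf 4281))) (.node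 (.node (.leaf 2152) (.leaf 6047)) (.node (.leaf 4959) (.leaf 6017)))) (.node (.node (.node (.leaf 876) (.leaf 5705)) (.node (.leaf 4341) (.leaf 7266))) (.node (.node (.leaf 2940) (.leaf 1946)) (.node (.leaf 4991) (.leaf 0))))) (.node (.node (.node (.node (.leaf 825) (.leaf 6158)) (.node (.leaf 4026) (.leaf 6327))) (.node (.node (.leaf 2555) (.leaf 2351)) (.node (.leaf 5195) (.leaf 0)))) (.node (.node (.node (.leaf 1446) (.leaf 6528)) (.node (.leaf 4661) (.leaf 5843))) (.node (.node (.leaf 2565) (.leaf 2092)) (.node (.leaf 2289) (.leaf 0))))))) (.node (.node (.node (.node (.node (.node (.leaf 221) (.leaf 5907)) (.node (.leaf 3587) (.leaf 5144))) (.node (.node (.leaf 2052) (.leaf 6643)) (.node (.leaf 2083) (.leaf 2062)))) (.node (.node (.node (.leaf 1174) (.leaf 1522)) (.node (.leaf 4266) (.leaf 7255))) (.node (.node (.leaf 2847) (.leaf 3774)) (.node (.leaf 5431) (.leaf 0))))) (.node (.node (.node (.node (.leaf 707) (.leaf 6106)) (.node (.leaf 3935) (.leaf 4347))) (.node (.node (.leaf 2462) (.leaf 6342)) (.node (.leaf 5153) (.leaf 0)))) (.node (.node (.node (.leaf 1573) (.leaf 6479)) (.node (.leaf 3130) (.leaf 260))) (.node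 (.node (.leaf 3228) (.leaf 5248)) (.node (.leaf 1180) (.leaf 0)))))) (.node (.node (.node (.node (.node (.leaf 465) (.leaf 6022)) (.node (.leaf 3756) (.leaf 6326))) (.node (.node (.leaf 1878) (.leaf 6731)) (.node (.leaf 1118) (.leaf 0)))) (.node (.node (.node (.leaf 1399) (.leaf 1673)) (.node (.leaf 4414) (.leaf 5985))) (.node (.node (.leaf 3039) (.leaf 5038)) (.node (.leaf 5492) (.leaf 0))))) (.node (.node (.node (.node (.leaf 942) (.leaf 6213)) (.node (.leaf 4107) (.leaf 656))) (.node (.node (.leaf 2658) (.leaf 2113)) (.node (.leaf 5293) (.leaf 0)))) (.node (.node (.node (.leaf 1837) (.leaf 3962)) (.node (.leaf 4738) (.leaf 7084))) (.node (.node (.leaf 3085) (.leaf 7069)) (.node (.leaf 5799) (.leaf 0))))))))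

def he0T16 : NT := .node (.node (.node (.node (.node (.node (.node (.node (.leaf 33) (.leaf 3666)) (.node (.leaf 3118) (.leaf 62))) (.node (.node (.leaf 1892) (.leaf 5886)) (.node (.leaf 4779) (.leaf 6893)))) (.node (.node (.node (.leaf 1003) (.leaf 6240)) (.node (.leaf 4144) (.leaf 1804))) (.node (.node (.leaf 2707) (.leaf 662)) (.node (.leaf 4090) (.leaf 0))))) (.node (.node (.node (.node (.leaf 513) (.leaf 4145)) (.node (.leaf 3800) (.leaf 3818))) (.node (.node (.leaf 2311) (.leaf 6740)) (.node (.leaf 669) (.leaf 0)))) (.node (.node (.node (.leaf 1454) (.leaf 6411)) (.node (.leaf 4464) (.leaf 7293))) (.node (.node (.leaf 1567) (.leaf 2687)) (.node (.leaf 216) (.leaf 0)))))) (.node (.node (.node (.node (.node (.leaf 285) (.leaf 5905)) (.node (.leaf 3633) (.leaf 1957))) (.node (.node (.leaf 2104) (.leaf 6664)) (.node (.leaf 4913) (.leaf 6767)))) (.node (.node (.node (.leaf 1234) (.leaf 6333)) (.node (.leaf 3127) (.leaf 4156))) (.node (.node (.leaf 2893) (.leaf 5896)) (.node (.leaf 5465) (.leaf 0))))) (.node (.node (.node (.node (.leaf 767) (.leaf 3682)) (.node (.leaf 828) (.leaf 6924))) (.node (.node (.leaf 2513) (.leaf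 5867)) (.node (.leaf 5196) (.leaf 0)))) (.node (.node (.node (.leaf 1672) (.leaf 6506)) (.node (.leaf 4285) (.leaf 2771))) (.node (.node (.leaf 3277) (.leaf 7038)) (.node (.leaf 5709) (.leaf 0))))))) (.node (.node (.node (.node (.node (.node (.leaf 160) (.leaf 4405)) (.node (.leaf 2964) (.leaf 4527))) (.node (.node (.leaf 2003) (.leaf 4443)) (.node (.leaf 2227) (.leaf 2863)))) (.node (.node (.node (.leaf 1121) (.leaf 4518)) (.node (.leaf 4211) (.leaf 895))) (.node (.node (.leaf 2585) (.leaf 268)) (.node (.leaf 2129) (.leaf 0))))) (.node (.node (.node (.node (.leaf 649) (.leaf 6081)) (.node (.leaf 2182) (.leaf 4457))) (.node (.node (.leaf 2414) (.leaf 2089)) (.node (.leaf 5116) (.leaf 0)))) (.node (.node (.node (.leaf 1564) (.leaf 364)) (.node (.leaf 4543) (.leaf 7274))) (.node (.node (.leaf 3178) (.leaf 6188)) (.node (.leaf 5648) (.leaf 0)))))) (.node (.node (.node (.node (.node (.leaf 408) (.leaf 4813)) (.node (.leaf 3697) (.leaf 1209))) (.node (.node (.leaf 2207) (.leaf 6710)) (.node (.leaf 3115) (.leaf 0)))) (.node (.node (.node (.leaf 1345) (.leaf 6375)) (.node (.leaf 4383) (.leaf 3549))) (.node (.node (.leaf 2993)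 (.leaf 6527)) (.node (.leaf 5532) (.leaf 0))))) (.node (.node (.node (.node (.leaf 885) (.leaf 6191)) (.node (.leaf 2481) (.leaf 1817))) (.node (.node (.leaf 2609) (.leaf 5760)) (.node (.leaf 5265) (.leaf 0)))) (.node (.node (.node (.leaf 1781) (.leaf 5816)) (.node (.leaf 4701) (.leaf 470))) (.node (.node (.leaf 3365) (.leaf 66)) (.node (.leaf 5769) (.leaf 0)))))))) (.node (.node (.node (.node (.node (.node (.node (.leaf 97) (.leaf 5864)) (.node (.leaf 914) (.leaf 1336))) (.node (.node (.leaf 1945) (.leaf 6574)) (.node (.leaf 3603) (.leaf 7309)))) (.node (.node (.node (.leaf 1063) (.leaf 6269)) (.node (.leaf 4185) (.leaf 1623))) (.node (.node (.leaf 1255) (.leaf 6183)) (.node (.leaf 5366) (.leaf 0))))) (.node (.node (.node (.node (.leaf 589) (.leaf 3561)) (.node (.leaf 3688) (.leaf 4066))) (.node (.node (.leaf 2360) (.leaf 6305)) (.node (.leaf 1865) (.leaf 0)))) (.node (.node (.node (.leaf 1511) (.leaf 5538)) (.node (.leaf 4511) (.leaf 7298))) (.node (.node (.leaf 3131) (.leaf 5459)) (.node (.leaf 3071) (.leaf 0)))))) (.node (.node (.node (.node (.node (.leaf 347) (.leaf 4916)) (.node (.leaf 3332) (.leaf 6999))) (.node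 (.node (.leaf 264) (.leaf 6516)) (.node (.leaf 4961) (.leaf 0)))) (.node (.node (.node (.leaf 1045) (.leaf 5557)) (.node (.leaf 1695) (.leaf 7102))) (.node (.node (.leaf 2942) (.leaf 6618)) (.node (.leaf 5500) (.leaf 0))))) (.node (.node (.node (.node (.leaf 827) (.leaf 6159)) (.node (.leaf 4027) (.leaf 6646))) (.node (.node (.leaf 2557) (.leaf 3108)) (.node (.leaf 5231) (.leaf 0)))) (.node (.node (.node (.leaf 1728) (.leaf 2797)) (.node (.leaf 2189) (.leaf 6065))) (.node (.node (.leaf 3322) (.leaf 4858)) (.node (.leaf 4752) (.leaf 0))))))) (.node (.node (.node (.node (.node (.node (.leaf 223) (.leaf 2502)) (.node (.leaf 3589) (.leaf 4824))) (.node (.node (.leaf 2053) (.leaf 6163)) (.node (.leaf 4879) (.leaf 7296)))) (.node (.node (.node (.leaf 1176) (.leaf 5527)) (.node (.leaf 4268) (.leaf 7202))) (.node (.node (.leaf 2849) (.leaf 106)) (.node (.leaf 5432) (.leaf 0))))) (.node (.node (.node (.node (.leaf 709) (.leaf 1725)) (.node (.leaf 3936) (.leaf 5665))) (.node (.node (.leaf 2464) (.leaf 6473)) (.node (.leaf 5155) (.leaf 0)))) (.node (.node (.node (.leaf 1620) (.leaf 4001)) (.node (.leaf 2642) (.leaf 7307))) (.node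 (.node (.leaf 3229) (.leaf 5869)) (.node (.leaf 1563) (.leaf 0)))))) (.node (.node (.node (.node (.node (.leaf 467) (.leaf 3778)) (.node (.leaf 3758) (.leaf 6768))) (.node (.node (.leaf 2258) (.leaf 6732)) (.node (.leaf 5022) (.leaf 0)))) (.node (.node (.node (.leaf 1017) (.leaf 34)) (.node (.leaf 4425) (.leaf 7185))) (.node (.node (.leaf 1733) (.leaf 6980)) (.node (.leaf 4532) (.leaf 0))))) (.node (.node (.node (.node (.leaf 944) (.leaf 6215)) (.node (.leaf 1136) (.leaf 648))) (.node (.node (.leaf 2660) (.leaf 6851)) (.node (.leaf 1316) (.leaf 0)))) (.node (.node (.node (.leaf 1838) (.leaf 6540)) (.node (.leaf 4740) (.leaf 5634))) (.node (.node (.leaf 1298) (.leaf 7070)) (.node (.leaf 1004) (.leaf 0))))))))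

def he0T17 : NT := .node (.node (.node (.node (.node (.node (.node (.node (.leaf 35) (.leaf 5835)) (.node (.leaf 1501) (.leaf 5251))) (.node (.node (.leaf 1894) (.leaf 5594)) (.node (.leaf 4250) (.leaf 6316)))) (.node (.node (.node (.leaf 1005) (.leaf 6242)) (.node (.leaf 4146) (.leaf 335))) (.node (.node (.leaf 2709) (.leaf 6412)) (.node (.leaf 5328) (.leaf 0))))) (.node (.node (.node (.node (.leaf 531) (.leaf 6037)) (.node (.leaf 3802) (.leaf 4686))) (.node (.node (.leaf 2313) (.leaf 2657)) (.node (.leaf 5053) (.leaf 0)))) (.node (.node (.node (.leaf 1456) (.leaf 3976)) (.node (.leaf 4466) (.leaf 6007))) (.node (.node (.leaf 1227) (.leaf 6992)) (.node (.leaf 2713) (.leaf 0)))))) (.node (.node (.node (.node (.node (.leaf 287) (.leaf 5501)) (.node (.leaf 3634) (.leaf 3574))) (.node (.node (.leaf 2106) (.leaf 368)) (.node (.leaf 4915) (.leaf 1125)))) (.node (.node (.node (.leaf 1236) (.leaf 6057)) (.node (.leaf 4242) (.leaf 2574))) (.node (.node (.leaf 1361) (.leaf 6926)) (.node (.leaf 1403) (.leaf 0))))) (.node (.node (.node (.node (.leaf 769) (.leaf 6132)) (.node (.leaf 3983) (.leaf 7063))) (.node (.node (.leaf 2514)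 (.leaf 5393)) (.node (.leaf 1710) (.leaf 0)))) (.node (.node (.node (.leaf 1674) (.leaf 6507)) (.node (.leaf 2651) (.leaf 6706))) (.node (.node (.leaf 499) (.leaf 6820)) (.node (.leaf 5710) (.leaf 0))))))) (.node (.node (.node (.node (.node (.node (.leaf 162) (.leaf 4889)) (.node (.leaf 3547) (.leaf 7106))) (.node (.node (.leaf 2005) (.leaf 6626)) (.node (.leaf 4849) (.leaf 7289)))) (.node (.node (.node (.leaf 1122) (.leaf 309)) (.node (.leaf 4233) (.leaf 3991))) (.node (.node (.leaf 2803) (.leaf 6750)) (.node (.leaf 2785) (.leaf 0))))) (.node (.node (.node (.node (.leaf 651) (.leaf 3460)) (.node (.leaf 3893) (.leaf 7091))) (.node (.node (.leaf 2416) (.leaf 529)) (.node (.leaf 5118) (.leaf 0)))) (.node (.node (.node (.leaf 1566) (.leaf 4922)) (.node (.leaf 2675) (.leaf 6403))) (.node (.node (.leaf 3180) (.leaf 7002)) (.node (.leaf 5649) (.leaf 0)))))) (.node (.node (.node (.node (.node (.leaf 410) (.leaf 1828)) (.node (.leaf 3716) (.leaf 7142))) (.node (.node (.leaf 2209) (.leaf 171)) (.node (.leaf 4993) (.leaf 0)))) (.node (.node (.node (.leaf 1347) (.leaf 1291)) (.node (.leaf 4384) (.leaf 5354))) (.node (.node (.leaf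 2995) (.leaf 4159)) (.node (.leaf 5534) (.leaf 0))))) (.node (.node (.node (.node (.leaf 887) (.leaf 1342)) (.node (.leaf 4069) (.leaf 3918))) (.node (.node (.leaf 2610) (.leaf 5068)) (.node (.leaf 5267) (.leaf 0)))) (.node (.node (.node (.leaf 1783) (.leaf 3769)) (.node (.leaf 1011) (.leaf 7262))) (.node (.node (.leaf 3367) (.leaf 4925)) (.node (.leaf 3944) (.leaf 0)))))))) (.node (.node (.node (.node (.node (.node (.node (.leaf 99) (.leaf 5866)) (.node (.leaf 3505) (.leaf 6969))) (.node (.node (.leaf 1947) (.leaf 5093)) (.node (.leaf 4814) (.leaf 6091)))) (.node (.node (.node (.leaf 1065) (.leaf 4681)) (.node (.leaf 666) (.leaf 5356))) (.node (.node (.leaf 2554) (.leaf 4219)) (.node (.leaf 5368) (.leaf 0))))) (.node (.node (.node (.node (.leaf 591) (.leaf 6039)) (.node (.leaf 3803) (.leaf 4931))) (.node (.node (.leaf 2362) (.leaf 3572)) (.node (.leaf 2595) (.leaf 0)))) (.node (.node (.node (.leaf 1513) (.leaf 3726)) (.node (.leaf 2695) (.leaf 2172))) (.node (.node (.leaf 577) (.leaf 5244)) (.node (.leaf 5620) (.leaf 0)))))) (.node (.node (.node (.node (.node (.leaf 349) (.leaf 5969)) (.node (.leaf 3679) (.leaf 5543)))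 (.node (.node (.leaf 2155) (.leaf 6687)) (.node (.leaf 4895) (.leaf 0)))) (.node (.node (.node (.leaf 440) (.leaf 3213)) (.node (.leaf 2583) (.leaf 7140))) (.node (.node (.leaf 2944) (.leaf 6943)) (.node (.leaf 4671) (.leaf 0))))) (.node (.node (.node (.node (.leaf 829) (.leaf 3790)) (.node (.leaf 4029) (.leaf 2604))) (.node (.node (.leaf 2559) (.leaf 6714)) (.node (.leaf 1407) (.leaf 0)))) (.node (.node (.node (.leaf 1730) (.leaf 4313)) (.node (.leaf 4592) (.leaf 1853))) (.node (.node (.leaf 3324) (.leaf 6763)) (.node (.leaf 5739) (.leaf 0))))))) (.node (.node (.node (.node (.node (.node (.leaf 225) (.leaf 5792)) (.node (.leaf 3581) (.leaf 5583))) (.node (.node (.leaf 2055) (.leaf 5991)) (.node (.leaf 4881) (.leaf 3863)))) (.node (.node (.node (.leaf 1177) (.leaf 6131)) (.node (.leaf 4270) (.leaf 4995))) (.node (.node (.leaf 2851) (.leaf 6911)) (.node (.leaf 4980) (.leaf 0))))) (.node (.node (.node (.node (.leaf 711) (.leaf 1665)) (.node (.leaf 1473) (.leaf 6108))) (.node (.node (.leaf 2466) (.leaf 5772)) (.node (.leaf 5157) (.leaf 0)))) (.node (.node (.node (.leaf 1622) (.leaf 6481)) (.node (.leaf 2510) (.leaf 450)))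 (.node (.node (.leaf 2956) (.leaf 1500)) (.node (.leaf 2389) (.leaf 0)))))) (.node (.node (.node (.node (.node (.leaf 469) (.leaf 4756)) (.node (.leaf 446) (.leaf 5205))) (.node (.node (.leaf 2260) (.leaf 5926)) (.node (.leaf 433) (.leaf 0)))) (.node (.node (.node (.leaf 1401) (.leaf 6387)) (.node (.leaf 4427) (.leaf 2256))) (.node (.node (.leaf 3040) (.leaf 4280)) (.node (.leaf 2391) (.leaf 0))))) (.node (.node (.node (.node (.leaf 946) (.leaf 5002)) (.node (.leaf 4109) (.leaf 3995))) (.node (.node (.leaf 2662) (.leaf 884)) (.node (.leaf 5296) (.leaf 0)))) (.node (.node (.node (.leaf 1840) (.leaf 6050)) (.node (.leaf 4742) (.leaf 710))) (.node (.node (.leaf 3409) (.leaf 6912)) (.node (.leaf 2772) (.leaf 0))))))))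

def he0T18 : NT := .node (.node (.node (.node (.node (.node (.node (.node (.leaf 37) (.leaf 5837)) (.node (.leaf 2269) (.leaf 7080))) (.node (.node (.leaf 1896) (.leaf 3467)) (.node (.leaf 4781) (.leaf 6651)))) (.node (.node (.node (.leaf 1006) (.leaf 6244)) (.node (.leaf 1675) (.leaf 6054))) (.node (.node (.leaf 2710) (.leaf 1763)) (.node (.leaf 5329) (.leaf 0))))) (.node (.node (.node (.node (.leaf 533) (.leaf 6038)) (.node (.leaf 2174) (.leaf 7169))) (.node (.node (.leaf 2315) (.leaf 6746)) (.node (.leaf 4970) (.leaf 0)))) (.node (.node (.node (.leaf 1458) (.leaf 3215)) (.node (.leaf 4468) (.leaf 4184))) (.node (.node (.leaf 3082) (.leaf 3382)) (.node (.leaf 5581) (.leaf 0)))))) (.node (.node (.node (.node (.node (.leaf 289) (.leaf 5938)) (.node (.leaf 3636) (.leaf 5951))) (.node (.node (.leaf 815) (.leaf 3342)) (.node (.leaf 4917) (.leaf 4080)))) (.node (.node (.node (.leaf 1238) (.leaf 6335)) (.node (.leaf 2630) (.leaf 4173))) (.node (.node (.leaf 2895) (.leaf 6913)) (.node (.leaf 5468) (.leaf 0))))) (.node (.node (.node (.node (.leaf 771) (.leaf 6134)) (.node (.leaf 52) (.leaf 6747))) (.node (.node (.leaf 2515)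 (.leaf 6462)) (.node (.leaf 5197) (.leaf 0)))) (.node (.node (.node (.leaf 1676) (.leaf 6338)) (.node (.leaf 4618) (.leaf 2345))) (.node (.node (.leaf 3280) (.leaf 7039)) (.node (.leaf 4013) (.leaf 0))))))) (.node (.node (.node (.node (.node (.node (.leaf 164) (.leaf 5889)) (.node (.leaf 2097) (.leaf 6236))) (.node (.node (.leaf 2007) (.leaf 6627)) (.node (.leaf 2741) (.leaf 2060)))) (.node (.node (.node (.leaf 1124) (.leaf 3821)) (.node (.leaf 1229) (.leaf 2022))) (.node (.node (.leaf 2805) (.leaf 6864)) (.node (.leaf 5252) (.leaf 0))))) (.node (.node (.node (.node (.leaf 653) (.leaf 6083)) (.node (.leaf 1589) (.leaf 5101))) (.node (.node (.leaf 1608) (.leaf 145)) (.node (.leaf 5120) (.leaf 0)))) (.node (.node (.node (.leaf 1568) (.leaf 1846)) (.node (.leaf 4545) (.leaf 4177))) (.node (.node (.leaf 3182) (.leaf 6097)) (.node (.leaf 5650) (.leaf 0)))))) (.node (.node (.node (.node (.node (.leaf 333) (.leaf 5998)) (.node (.leaf 3718) (.leaf 5119))) (.node (.node (.leaf 2211) (.leaf 4564)) (.node (.leaf 753) (.leaf 0)))) (.node (.node (.node (.leaf 1349) (.leaf 6376)) (.node (.leaf 2008) (.leaf 6164))) (.node (.node (.leaf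 2997) (.leaf 6965)) (.node (.leaf 5524) (.leaf 0))))) (.node (.node (.node (.node (.leaf 889) (.leaf 6194)) (.node (.leaf 705) (.leaf 7207))) (.node (.node (.leaf 2612) (.leaf 6812)) (.node (.leaf 2789) (.leaf 0)))) (.node (.node (.node (.leaf 1784) (.leaf 6536)) (.node (.leaf 4704) (.leaf 2813))) (.node (.node (.leaf 3369) (.leaf 6766)) (.node (.leaf 3259) (.leaf 0)))))))) (.node (.node (.node (.node (.node (.node (.node (.leaf 101) (.leaf 5379)) (.node (.leaf 3507) (.leaf 1103))) (.node (.node (.leaf 1949) (.leaf 5336)) (.node (.leaf 4816) (.leaf 6811)))) (.node (.node (.node (.leaf 1067) (.leaf 5198)) (.node (.leaf 4191) (.leaf 5925))) (.node (.node (.leaf 2755) (.leaf 5728)) (.node (.leaf 5369) (.leaf 0))))) (.node (.node (.node (.node (.leaf 593) (.leaf 4744)) (.node (.leaf 3845) (.leaf 2283))) (.node (.node (.leaf 954) (.leaf 6757)) (.node (.leaf 5083) (.leaf 0)))) (.node (.node (.node (.leaf 1515) (.leaf 6434)) (.node (.leaf 4514) (.leaf 811))) (.node (.node (.leaf 3134) (.leaf 7000)) (.node (.leaf 5621) (.leaf 0)))))) (.node (.node (.node (.node (.node (.leaf 351) (.leaf 2754)) (.node (.leaf 3681) (.leaf 1619)))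 (.node (.node (.leaf 2157) (.leaf 6688)) (.node (.leaf 4962) (.leaf 0)))) (.node (.node (.node (.leaf 1293) (.leaf 5305)) (.node (.leaf 4343) (.leaf 3825))) (.node (.node (.leaf 2946) (.leaf 6944)) (.node (.leaf 2712) (.leaf 0))))) (.node (.node (.node (.node (.leaf 831) (.leaf 6162)) (.node (.leaf 4031) (.leaf 5604))) (.node (.node (.leaf 2560) (.leaf 2606)) (.node (.leaf 5234) (.leaf 0)))) (.node (.node (.node (.leaf 1732) (.leaf 6513)) (.node (.leaf 4664) (.leaf 4085))) (.node (.node (.leaf 3326) (.leaf 7040)) (.node (.leaf 246) (.leaf 0))))))) (.node (.node (.node (.node (.node (.node (.leaf 227) (.leaf 5909)) (.node (.leaf 3591) (.leaf 5079))) (.node (.node (.leaf 2057) (.leaf 6645)) (.node (.leaf 4882) (.leaf 7217)))) (.node (.node (.node (.leaf 1166) (.leaf 6310)) (.node (.leaf 4272) (.leaf 4465))) (.node (.node (.leaf 2820) (.leaf 176)) (.node (.leaf 5434) (.leaf 0))))) (.node (.node (.node (.node (.leaf 190) (.leaf 1948)) (.node (.leaf 3939) (.leaf 7196))) (.node (.node (.leaf 2468) (.leaf 6350)) (.node (.leaf 4535) (.leaf 0)))) (.node (.node (.node (.leaf 1624) (.leaf 3801)) (.node (.leaf 4582) (.leaf 7017)))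 (.node (.node (.leaf 2783) (.leaf 6854)) (.node (.leaf 3038) (.leaf 0)))))) (.node (.node (.node (.node (.node (.leaf 471) (.leaf 6013)) (.node (.leaf 3288) (.leaf 7153))) (.node (.node (.leaf 2262) (.leaf 2101)) (.node (.leaf 4075) (.leaf 0)))) (.node (.node (.node (.leaf 1402) (.leaf 2504)) (.node (.leaf 3760) (.leaf 7013))) (.node (.node (.leaf 1151) (.leaf 6982)) (.node (.leaf 5425) (.leaf 0))))) (.node (.node (.node (.node (.leaf 947) (.leaf 6216)) (.node (.leaf 4111) (.leaf 6958))) (.node (.node (.leaf 2217) (.leaf 679)) (.node (.leaf 4238) (.leaf 0)))) (.node (.node (.node (.leaf 1842) (.leaf 1925)) (.node (.leaf 4743) (.leaf 2901))) (.node (.node (.leaf 3139) (.leaf 5104)) (.node (.leaf 4205) (.leaf 0))))))))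

def he0T19 : NT := .node (.node (.node (.node (.node (.node (.node (.node (.leaf 39) (.leaf 5042)) (.node (.leaf 3454) (.leaf 5540))) (.node (.node (.leaf 1897) (.leaf 2844)) (.node (.leaf 2867) (.leaf 7221)))) (.node (.node (.node (.leaf 1008) (.leaf 5168)) (.node (.leaf 4149) (.leaf 7228))) (.node (.node (.leaf 2016) (.leaf 3453)) (.node (.leaf 5330) (.leaf 0))))) (.node (.node (.node (.node (.leaf 535) (.leaf 2395)) (.node (.leaf 3804) (.leaf 5111))) (.node (.node (.leaf 1647) (.leaf 3151)) (.node (.leaf 2611) (.leaf 0)))) (.node (.node (.node (.leaf 1460) (.leaf 5661)) (.node (.leaf 4142) (.leaf 7242))) (.node (.node (.leaf 3084) (.leaf 6055)) (.node (.leaf 5237) (.leaf 0)))))) (.node (.node (.node (.node (.node (.leaf 291) (.leaf 2937)) (.node (.leaf 3638) (.leaf 137))) (.node (.node (.leaf 2109) (.leaf 6666)) (.node (.leaf 4919) (.leaf 5310)))) (.node (.node (.node (.leaf 1240) (.leaf 6336)) (.node (.leaf 4307) (.leaf 3819))) (.node (.node (.leaf 2896) (.leaf 6088)) (.node (.leaf 2777) (.leaf 0))))) (.node (.node (.node (.node (.leaf 773) (.leaf 4920)) (.node (.leaf 1386) (.leaf 5934))) (.node (.node (.leaf 2517)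 (.leaf 6802)) (.node (.leaf 5199) (.leaf 0)))) (.node (.node (.node (.leaf 519) (.leaf 6509)) (.node (.leaf 2066) (.leaf 7311))) (.node (.node (.leaf 3282) (.leaf 6226)) (.node (.leaf 5712) (.leaf 0))))))) (.node (.node (.node (.node (.node (.node (.leaf 166) (.leaf 3957)) (.node (.leaf 3550) (.leaf 7107))) (.node (.node (.leaf 1826) (.leaf 5185)) (.node (.leaf 220) (.leaf 6889)))) (.node (.node (.node (.leaf 1126) (.leaf 6290)) (.node (.leaf 4234) (.leaf 6072))) (.node (.node (.leaf 2424) (.leaf 6117)) (.node (.leaf 5358) (.leaf 0))))) (.node (.node (.node (.node (.leaf 655) (.leaf 6084)) (.node (.leaf 2206) (.leaf 7151))) (.node (.node (.leaf 2418) (.leaf 5953)) (.node (.leaf 3296) (.leaf 0)))) (.node (.node (.node (.leaf 1570) (.leaf 1245)) (.node (.leaf 1715) (.leaf 7280))) (.node (.node (.leaf 3183) (.leaf 1811)) (.node (.leaf 5256) (.leaf 0)))))) (.node (.node (.node (.node (.node (.leaf 413) (.leaf 6000)) (.node (.leaf 3720) (.leaf 7143))) (.node (.node (.leaf 2213) (.leaf 1785)) (.node (.leaf 208) (.leaf 0)))) (.node (.node (.node (.leaf 1351) (.leaf 817)) (.node (.leaf 4386) (.leaf 3610))) (.node (.node (.leaf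 1082) (.leaf 6962)) (.node (.leaf 4957) (.leaf 0))))) (.node (.node (.node (.node (.leaf 891) (.leaf 4700)) (.node (.leaf 3565) (.leaf 4723))) (.node (.node (.leaf 2614) (.leaf 6831)) (.node (.leaf 1536) (.leaf 0)))) (.node (.node (.node (.leaf 1786) (.leaf 5824)) (.node (.leaf 1281) (.leaf 7267))) (.node (.node (.leaf 1525) (.leaf 6966)) (.node (.leaf 5771) (.leaf 0)))))))) (.node (.node (.node (.node (.node (.node (.node (.leaf 103) (.leaf 4833)) (.node (.leaf 3482) (.leaf 4630))) (.node (.node (.leaf 1951) (.leaf 6610)) (.node (.leaf 4818) (.leaf 5912)))) (.node (.node (.node (.leaf 1069) (.leaf 6271)) (.node (.leaf 4193) (.leaf 230))) (.node (.node (.leaf 2049) (.leaf 6881)) (.node (.leaf 4714) (.leaf 0))))) (.node (.node (.node (.node (.leaf 595) (.leaf 4259)) (.node (.leaf 3847) (.leaf 1862))) (.node (.node (.leaf 2364) (.leaf 1995)) (.node (.leaf 3458) (.leaf 0)))) (.node (.node (.node (.leaf 429) (.leaf 1671)) (.node (.leaf 139) (.leaf 7271))) (.node (.node (.leaf 3135) (.leaf 1677)) (.node (.leaf 3321) (.leaf 0)))))) (.node (.node (.node (.node (.node (.leaf 353) (.leaf 5971)) (.node (.leaf 2989) (.leaf 2469)))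 (.node (.node (.leaf 4) (.leaf 987)) (.node (.leaf 4963) (.leaf 0)))) (.node (.node (.node (.leaf 958) (.leaf 483)) (.node (.leaf 4345) (.leaf 4488))) (.node (.node (.leaf 2948) (.leaf 1060)) (.node (.leaf 5503) (.leaf 0))))) (.node (.node (.node (.node (.leaf 833) (.leaf 2004)) (.node (.leaf 4032) (.leaf 6832))) (.node (.node (.leaf 2562) (.leaf 6210)) (.node (.leaf 242) (.leaf 0)))) (.node (.node (.node (.leaf 799) (.leaf 6270)) (.node (.leaf 749) (.leaf 7325))) (.node (.node (.leaf 3328) (.leaf 6779)) (.node (.leaf 2233) (.leaf 0))))))) (.node (.node (.node (.node (.node (.node (.leaf 229) (.leaf 3465)) (.node (.leaf 3592) (.leaf 7052))) (.node (.node (.leaf 2058) (.leaf 3993)) (.node (.leaf 4787) (.leaf 1217)))) (.node (.node (.node (.leaf 1179) (.leaf 3429)) (.node (.leaf 2139) (.leaf 6458))) (.node (.node (.leaf 2854) (.leaf 2801)) (.node (.leaf 886) (.leaf 0))))) (.node (.node (.node (.node (.leaf 485) (.leaf 5854)) (.node (.leaf 3941) (.leaf 5555))) (.node (.node (.leaf 2470) (.leaf 5343)) (.node (.leaf 1968) (.leaf 0)))) (.node (.node (.node (.leaf 1626) (.leaf 6272)) (.node (.leaf 4583) (.leaf 7223))) (.node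 (.node (.leaf 3224) (.leaf 2981)) (.node (.leaf 5678) (.leaf 0)))))) (.node (.node (.node (.node (.node (.leaf 473) (.leaf 3868)) (.node (.leaf 3762) (.leaf 2321))) (.node (.node (.leaf 2264) (.leaf 4539)) (.node (.leaf 5025) (.leaf 0)))) (.node (.node (.node (.leaf 1404) (.leaf 6388)) (.node (.leaf 4429) (.leaf 3034))) (.node (.node (.leaf 3042) (.leaf 1260)) (.node (.leaf 491) (.leaf 0))))) (.node (.node (.node (.node (.leaf 949) (.leaf 4367)) (.node (.leaf 3220) (.leaf 1979))) (.node (.node (.leaf 2665) (.leaf 6578)) (.node (.leaf 5299) (.leaf 0)))) (.node (.node (.node (.leaf 1843) (.leaf 4120)) (.node (.leaf 3097) (.leaf 7319))) (.node (.node (.leaf 3112) (.leaf 7071)) (.node (.leaf 5802) (.leaf 0))))))))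

def he0T20 : NT := .node (.node (.node (.node (.node (.node (.node (.node (.leaf 41) (.leaf 1914)) (.node (.leaf 3455) (.leaf 7081))) (.node (.node (.leaf 1765) (.leaf 928)) (.node (.leaf 4782) (.leaf 1512)))) (.node (.node (.node (.leaf 1010) (.leaf 1930)) (.node (.leaf 4151) (.leaf 6961))) (.node (.node (.leaf 2692) (.leaf 6869)) (.node (.leaf 5331) (.leaf 0))))) (.node (.node (.node (.node (.leaf 537) (.leaf 3597)) (.node (.leaf 3806) (.leaf 6490))) (.node (.node (.leaf 1923) (.leaf 5997)) (.node (.leaf 4155) (.leaf 0)))) (.node (.node (.node (.leaf 1462) (.leaf 5126)) (.node (.leaf 4470) (.leaf 7160))) (.node (.node (.leaf 3086) (.leaf 6993)) (.node (.leaf 1109) (.leaf 0)))))) (.node (.node (.node (.node (.node (.leaf 293) (.leaf 5857)) (.node (.leaf 3640) (.leaf 5779))) (.node (.node (.leaf 2111) (.leaf 355)) (.node (.leaf 4910) (.leaf 1836)))) (.node (.node (.node (.leaf 1041) (.leaf 6337)) (.node (.leaf 3805) (.leaf 2006))) (.node (.node (.leaf 2897) (.leaf 3524)) (.node (.leaf 1374) (.leaf 0))))) (.node (.node (.node (.node (.leaf 775) (.leaf 1618)) (.node (.leaf 2907) (.leaf 3696))) (.node (.node (.leaf 2518)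 (.leaf 5685)) (.node (.leaf 5201) (.leaf 0)))) (.node (.node (.node (.leaf 1678) (.leaf 638)) (.node (.leaf 4629) (.leaf 1028))) (.node (.node (.leaf 8) (.leaf 7041)) (.node (.leaf 1022) (.leaf 0))))))) (.node (.node (.node (.node (.node (.node (.leaf 168) (.leaf 5361)) (.node (.leaf 3552) (.leaf 1155))) (.node (.node (.leaf 2010) (.leaf 3887)) (.node (.leaf 3010) (.leaf 7126)))) (.node (.node (.node (.leaf 1128) (.leaf 6289)) (.node (.leaf 4235) (.leaf 7251))) (.node (.node (.leaf 2808) (.leaf 989)) (.node (.leaf 1876) (.leaf 0))))) (.node (.node (.node (.node (.leaf 657) (.leaf 4896)) (.node (.leaf 3418) (.leaf 7187))) (.node (.node (.leaf 609) (.leaf 6777)) (.node (.leaf 5122) (.leaf 0)))) (.node (.node (.node (.leaf 1572) (.leaf 4175)) (.node (.leaf 4546) (.leaf 6415))) (.node (.node (.leaf 1834) (.leaf 3320)) (.node (.leaf 147) (.leaf 0)))))) (.node (.node (.node (.node (.node (.leaf 399) (.leaf 5663)) (.node (.leaf 3721) (.leaf 7144))) (.node (.node (.leaf 2214) (.leaf 3401)) (.node (.leaf 4994) (.leaf 0)))) (.node (.node (.node (.leaf 1353) (.leaf 5763)) (.node (.leaf 4388) (.leaf 5303))) (.node (.node (.leaf 3000)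 (.leaf 2693)) (.node (.leaf 1253) (.leaf 0))))) (.node (.node (.node (.node (.leaf 421) (.leaf 3660)) (.node (.leaf 4072) (.leaf 1107))) (.node (.node (.leaf 2616) (.leaf 1147)) (.node (.leaf 1420) (.leaf 0)))) (.node (.node (.node (.leaf 1788) (.leaf 5011)) (.node (.leaf 2186) (.leaf 5087))) (.node (.node (.leaf 3372) (.leaf 5250)) (.node (.leaf 5773) (.leaf 0)))))))) (.node (.node (.node (.node (.node (.node (.node (.leaf 105) (.leaf 5868)) (.node (.leaf 3510) (.leaf 7096))) (.node (.node (.leaf 1953) (.leaf 6611)) (.node (.leaf 4819) (.leaf 4077)))) (.node (.node (.node (.leaf 1071) (.leaf 5509)) (.node (.leaf 3175) (.leaf 3698))) (.node (.node (.leaf 2758) (.leaf 5282)) (.node (.leaf 4867) (.leaf 0))))) (.node (.node (.node (.node (.leaf 596) (.leaf 5438)) (.node (.leaf 3849) (.leaf 7174))) (.node (.node (.leaf 2365) (.leaf 6759)) (.node (.leaf 5086) (.leaf 0)))) (.node (.node (.node (.leaf 924) (.leaf 5339)) (.node (.leaf 4517) (.leaf 1159))) (.node (.node (.leaf 863) (.leaf 2498)) (.node (.leaf 5480) (.leaf 0)))))) (.node (.node (.node (.node (.node (.leaf 307) (.leaf 2290)) (.node (.leaf 2655) (.leaf 6967))) (.node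 (.node (.leaf 2159) (.leaf 6233)) (.node (.leaf 3166) (.leaf 0)))) (.node (.node (.node (.leaf 1213) (.leaf 4658)) (.node (.leaf 4346) (.leaf 94))) (.node (.node (.leaf 2950) (.leaf 2202)) (.node (.leaf 3156) (.leaf 0))))) (.node (.node (.node (.node (.leaf 835) (.leaf 384)) (.node (.leaf 4034) (.leaf 5702))) (.node (.node (.leaf 2564) (.leaf 2802)) (.node (.leaf 3476) (.leaf 0)))) (.node (.node (.node (.leaf 1735) (.leaf 6225)) (.node (.leaf 2020) (.leaf 6903))) (.node (.node (.leaf 2832) (.leaf 7049)) (.node (.leaf 5742) (.leaf 0))))))) (.node (.node (.node (.node (.node (.node (.leaf 231) (.leaf 4044)) (.node (.leaf 3594) (.leaf 161))) (.node (.node (.leaf 1199) (.leaf 4665)) (.node (.leaf 4884) (.leaf 7264)))) (.node (.node (.node (.leaf 1181) (.leaf 98)) (.node (.leaf 2842) (.leaf 1472))) (.node (.node (.leaf 1247) (.leaf 6608)) (.node (.leaf 232) (.leaf 0))))) (.node (.node (.node (.node (.leaf 715) (.leaf 5723)) (.node (.leaf 3943) (.leaf 7115))) (.node (.node (.leaf 2471) (.leaf 6789)) (.node (.leaf 5160) (.leaf 0)))) (.node (.node (.node (.leaf 1182) (.leaf 6482)) (.node (.leaf 4585) (.leaf 1318))) (.node (.node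 (.leaf 2536) (.leaf 7026)) (.node (.leaf 5680) (.leaf 0)))))) (.node (.node (.node (.node (.node (.leaf 475) (.leaf 5399)) (.node (.leaf 3764) (.leaf 3750))) (.node (.node (.leaf 2266) (.leaf 4469)) (.node (.leaf 188) (.leaf 0)))) (.node (.node (.node (.leaf 1406) (.leaf 4906)) (.node (.leaf 4318) (.leaf 6122))) (.node (.node (.leaf 3044) (.leaf 78)) (.node (.leaf 5575) (.leaf 0))))) (.node (.node (.node (.node (.leaf 951) (.leaf 6218)) (.node (.leaf 4113) (.leaf 7220))) (.node (.node (.leaf 2667) (.leaf 3209)) (.node (.leaf 1551) (.leaf 0)))) (.node (.node (.node (.leaf 1845) (.leaf 6573)) (.node (.leaf 3912) (.leaf 7085))) (.node (.node (.leaf 3412) (.leaf 6246)) (.node (.leaf 5367) (.leaf 0))))))))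

def he0T21 : NT := .node (.node (.node (.node (.node (.node (.node (.node (.leaf 43) (.leaf 5782)) (.node (.leaf 3457) (.leaf 6190))) (.node (.node (.leaf 1900) (.leaf 2670)) (.node (.leaf 4784) (.leaf 466)))) (.node (.node (.node (.leaf 1012) (.leaf 2922)) (.node (.leaf 4152) (.leaf 6807))) (.node (.node (.leaf 2714) (.leaf 6461)) (.node (.leaf 5333) (.leaf 0))))) (.node (.node (.node (.node (.leaf 539) (.leaf 6040)) (.node (.leaf 2105) (.leaf 7170))) (.node (.node (.leaf 882) (.leaf 3517)) (.node (.leaf 5057) (.leaf 0)))) (.node (.node (.node (.leaf 1464) (.leaf 6414)) (.node (.leaf 4472) (.leaf 7075))) (.node (.node (.leaf 3087) (.leaf 5477)) (.node (.leaf 2924) (.leaf 0)))))) (.node (.node (.node (.node (.node (.leaf 278) (.leaf 5245)) (.node (.leaf 125) (.leaf 6480))) (.node (.node (.leaf 2112) (.leaf 3814)) (.node (.leaf 4921) (.leaf 701)))) (.node (.node (.node (.leaf 1243) (.leaf 6339)) (.node (.leaf 3910) (.leaf 7194))) (.node (.node (.leaf 2899) (.leaf 6830)) (.node (.leaf 5430) (.leaf 0))))) (.node (.node (.node (.node (.leaf 777) (.leaf 6136)) (.node (.leaf 3988) (.leaf 5110))) (.node (.node (.leaf 2366) (.leaf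 5752)) (.node (.leaf 5202) (.leaf 0)))) (.node (.node (.node (.leaf 1679) (.leaf 6511)) (.node (.leaf 4631) (.leaf 2874))) (.node (.node (.leaf 3283) (.leaf 3162)) (.node (.leaf 4274) (.leaf 0))))))) (.node (.node (.node (.node (.node (.node (.leaf 170) (.leaf 5637)) (.node (.leaf 3554) (.leaf 5067))) (.node (.node (.leaf 1997) (.leaf 4761)) (.node (.leaf 4853) (.leaf 487)))) (.node (.node (.node (.leaf 1130) (.leaf 282)) (.node (.leaf 527) (.leaf 4854))) (.node (.node (.leaf 2804) (.leaf 357)) (.node (.leaf 5403) (.leaf 0))))) (.node (.node (.node (.node (.leaf 659) (.leaf 3402)) (.node (.leaf 3897) (.leaf 6253))) (.node (.node (.leaf 2420) (.leaf 6631)) (.node (.leaf 5124) (.leaf 0)))) (.node (.node (.node (.leaf 1574) (.leaf 4200)) (.node (.leaf 4170) (.leaf 3835))) (.node (.node (.leaf 3186) (.leaf 1251)) (.node (.leaf 3241) (.leaf 0)))))) (.node (.node (.node (.node (.node (.leaf 416) (.leaf 1348)) (.node (.leaf 3722) (.leaf 6686))) (.node (.node (.leaf 2216) (.leaf 6712)) (.node (.leaf 4992) (.leaf 0)))) (.node (.node (.node (.leaf 1355) (.leaf 4512)) (.node (.leaf 4390) (.leaf 788))) (.node (.node (.leaf 1509) (.leaf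 6968)) (.node (.leaf 821) (.leaf 0))))) (.node (.node (.node (.node (.leaf 894) (.leaf 3557)) (.node (.leaf 4074) (.leaf 2809))) (.node (.node (.leaf 1561) (.leaf 6833)) (.node (.leaf 5270) (.leaf 0)))) (.node (.node (.node (.leaf 1790) (.leaf 6546)) (.node (.leaf 4685) (.leaf 6454))) (.node (.node (.leaf 3374) (.leaf 6036)) (.node (.leaf 5533) (.leaf 0)))))))) (.node (.node (.node (.node (.node (.node (.node (.leaf 107) (.leaf 3257)) (.node (.leaf 3511) (.leaf 6995))) (.node (.node (.leaf 1955) (.leaf 2599)) (.node (.leaf 3807) (.leaf 4530)))) (.node (.node (.node (.leaf 1073) (.leaf 728)) (.node (.leaf 2208) (.leaf 1904))) (.node (.node (.leaf 2759) (.leaf 1007)) (.node (.leaf 5372) (.leaf 0))))) (.node (.node (.node (.node (.leaf 598) (.leaf 4670)) (.node (.leaf 3851) (.leaf 2051))) (.node (.node (.leaf 2367) (.leaf 6353)) (.node (.leaf 3138) (.leaf 0)))) (.node (.node (.node (.leaf 1519) (.leaf 6435)) (.node (.leaf 4519) (.leaf 4467))) (.node (.node (.leaf 1477) (.leaf 4569)) (.node (.leaf 3107) (.leaf 0)))))) (.node (.node (.node (.node (.node (.leaf 356) (.leaf 4847)) (.node (.leaf 3654) (.leaf 4119))) (.node (.node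 (.leaf 2160) (.leaf 4705)) (.node (.leaf 4965) (.leaf 0)))) (.node (.node (.node (.leaf 1297) (.leaf 6358)) (.node (.leaf 4348) (.leaf 6460))) (.node (.node (.leaf 2951) (.leaf 2012)) (.node (.leaf 5505) (.leaf 0))))) (.node (.node (.node (.node (.leaf 780) (.leaf 6165)) (.node (.leaf 3929) (.leaf 5761))) (.node (.node (.leaf 939) (.leaf 3193)) (.node (.leaf 1096) (.leaf 0)))) (.node (.node (.node (.leaf 1737) (.leaf 6531)) (.node (.leaf 4668) (.leaf 686))) (.node (.node (.leaf 3330) (.leaf 6728)) (.node (.leaf 5224) (.leaf 0))))))) (.node (.node (.node (.node (.node (.node (.leaf 184) (.leaf 5146)) (.node (.leaf 3596) (.leaf 7034))) (.node (.node (.leaf 2061) (.leaf 6169)) (.node (.leaf 4886) (.leaf 5992)))) (.node (.node (.node (.leaf 1183) (.leaf 6312)) (.node (.leaf 1143) (.leaf 4601))) (.node (.node (.leaf 2552) (.leaf 6745)) (.node (.leaf 5437) (.leaf 0))))) (.node (.node (.node (.node (.leaf 717) (.leaf 4625)) (.node (.leaf 3945) (.leaf 6371))) (.node (.node (.leaf 2473) (.leaf 6790)) (.node (.leaf 4484) (.leaf 0)))) (.node (.node (.node (.leaf 1629) (.leaf 6483)) (.node (.leaf 4587) (.leaf 6707))) (.node (.node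 (.leaf 3235) (.leaf 5219)) (.node (.leaf 2131) (.leaf 0)))))) (.node (.node (.node (.node (.node (.leaf 476) (.leaf 5450)) (.node (.leaf 2254) (.leaf 1390))) (.node (.node (.leaf 2268) (.leaf 6567)) (.node (.leaf 5027) (.leaf 0)))) (.node (.node (.node (.leaf 1408) (.leaf 6390)) (.node (.leaf 4292) (.leaf 3203))) (.node (.node (.leaf 3045) (.leaf 2489)) (.node (.leaf 5576) (.leaf 0))))) (.node (.node (.node (.node (.leaf 953) (.leaf 6219)) (.node (.leaf 3914) (.leaf 1308))) (.node (.node (.leaf 1793) (.leaf 6713)) (.node (.leaf 4275) (.leaf 0)))) (.node (.node (.node (.leaf 1754) (.leaf 6396)) (.node (.leaf 4746) (.leaf 2009))) (.node (.node (.leaf 1357) (.leaf 583)) (.node (.leaf 5803) (.leaf 0))))))))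

def he0T22 : NT := .node (.node (.node (.node (.node (.node (.node (.node (.leaf 45) (.leaf 5619)) (.node (.leaf 3459) (.leaf 560))) (.node (.node (.leaf 1902) (.leaf 6601)) (.node (.leaf 4785) (.leaf 4300)))) (.node (.node (.node (.leaf 1014) (.leaf 5052)) (.node (.leaf 3484) (.leaf 6127))) (.node (.node (.leaf 2716) (.leaf 4791)) (.node (.leaf 1153) (.leaf 0))))) (.node (.node (.node (.node (.leaf 541) (.leaf 3656)) (.node (.leaf 3808) (.leaf 2054))) (.node (.node (.leaf 2320) (.leaf 348)) (.node (.leaf 2572) (.leaf 0)))) (.node (.node (.node (.leaf 1466) (.leaf 3763)) (.node (.leaf 4474) (.leaf 3352))) (.node (.node (.leaf 3088) (.leaf 6994)) (.node (.leaf 4399) (.leaf 0)))))) (.node (.node (.node (.node (.node (.leaf 296) (.leaf 1197)) (.node (.leaf 3642) (.leaf 6775))) (.node (.node (.leaf 2114) (.leaf 6372)) (.node (.leaf 4923) (.leaf 7308)))) (.node (.node (.node (.leaf 222) (.leaf 6341)) (.node (.leaf 4309) (.leaf 6380))) (.node (.node (.leaf 2215) (.leaf 6909)) (.node (.leaf 5469) (.leaf 0))))) (.node (.node (.node (.node (.leaf 779) (.leaf 2726)) (.node (.leaf 3990) (.leaf 2249))) (.node (.node (.leaf 28) (.leaf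 4907)) (.node (.leaf 5186) (.leaf 0)))) (.node (.node (.node (.leaf 1681) (.leaf 6512)) (.node (.leaf 4632) (.leaf 5529))) (.node (.node (.leaf 3284) (.leaf 6582)) (.node (.leaf 1307) (.leaf 0))))))) (.node (.node (.node (.node (.node (.node (.leaf 155) (.leaf 4732)) (.node (.leaf 2979) (.leaf 2026))) (.node (.node (.leaf 2013) (.leaf 6629)) (.node (.leaf 453) (.leaf 2035)))) (.node (.node (.node (.leaf 1132) (.leaf 6278)) (.node (.leaf 1414) (.leaf 7252))) (.node (.node (.leaf 2434) (.leaf 6897)) (.node (.leaf 3469) (.leaf 0))))) (.node (.node (.node (.node (.leaf 661) (.leaf 5679)) (.node (.leaf 3898) (.leaf 1369))) (.node (.node (.leaf 2422) (.leaf 573)) (.node (.leaf 1999) (.leaf 0)))) (.node (.node (.node (.leaf 1576) (.leaf 6144)) (.node (.leaf 4106) (.leaf 3181))) (.node (.node (.leaf 3188) (.leaf 2525)) (.node (.leaf 100) (.leaf 0)))))) (.node (.node (.node (.node (.node (.leaf 418) (.leaf 5325)) (.node (.leaf 3724) (.leaf 5718))) (.node (.node (.leaf 2218) (.leaf 5151)) (.node (.leaf 797) (.leaf 0)))) (.node (.node (.node (.leaf 1310) (.leaf 6378)) (.node (.leaf 4392) (.leaf 7275))) (.node (.node (.leaf 3003)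 (.leaf 1157)) (.node (.leaf 5539) (.leaf 0))))) (.node (.node (.node (.node (.leaf 896) (.leaf 3917)) (.node (.leaf 3055) (.leaf 7192))) (.node (.node (.leaf 2619) (.leaf 6834)) (.node (.leaf 5272) (.leaf 0)))) (.node (.node (.node (.leaf 1792) (.leaf 1632)) (.node (.leaf 4249) (.leaf 7327))) (.node (.node (.leaf 3376) (.leaf 1237)) (.node (.leaf 5775) (.leaf 0)))))))) (.node (.node (.node (.node (.node (.node (.node (.leaf 92) (.leaf 4385)) (.node (.leaf 3513) (.leaf 7098))) (.node (.node (.leaf 1956) (.leaf 4310)) (.node (.leaf 4821) (.leaf 6761)))) (.node (.node (.node (.leaf 1000) (.leaf 3723)) (.node (.leaf 4197) (.leaf 7058))) (.node (.node (.leaf 2761) (.leaf 6788)) (.node (.leaf 5374) (.leaf 0))))) (.node (.node (.node (.node (.leaf 600) (.leaf 5713)) (.node (.leaf 3041) (.leaf 6884))) (.node (.node (.leaf 2369) (.leaf 6760)) (.node (.leaf 4997) (.leaf 0)))) (.node (.node (.node (.leaf 1521) (.leaf 6437)) (.node (.leaf 4446) (.leaf 2039))) (.node (.node (.leaf 3101) (.leaf 6981)) (.node (.leaf 5623) (.leaf 0)))))) (.node (.node (.node (.node (.node (.leaf 358) (.leaf 2529)) (.node (.leaf 3684) (.leaf 7042))) (.node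 (.node (.leaf 1731) (.leaf 6692)) (.node (.leaf 4938) (.leaf 0)))) (.node (.node (.node (.leaf 1299) (.leaf 4863)) (.node (.leaf 4349) (.leaf 7269))) (.node (.node (.leaf 1977) (.leaf 6947)) (.node (.leaf 5507) (.leaf 0))))) (.node (.node (.node (.node (.leaf 838) (.leaf 6167)) (.node (.leaf 4037) (.leaf 7205))) (.node (.node (.leaf 2567) (.leaf 3047)) (.node (.leaf 435) (.leaf 0)))) (.node (.node (.node (.leaf 1739) (.leaf 6533)) (.node (.leaf 3411) (.leaf 337))) (.node (.node (.leaf 472) (.leaf 7050)) (.node (.leaf 5483) (.leaf 0))))))) (.node (.node (.node (.node (.node (.node (.leaf 234) (.leaf 5913)) (.node (.leaf 3598) (.leaf 4096))) (.node (.node (.leaf 2063) (.leaf 6640)) (.node (.leaf 4760) (.leaf 2337)))) (.node (.node (.node (.leaf 1185) (.leaf 4885)) (.node (.leaf 1437) (.leaf 4071))) (.node (.node (.leaf 2857) (.leaf 3542)) (.node (.leaf 4667) (.leaf 0))))) (.node (.node (.node (.node (.leaf 719) (.leaf 4838)) (.node (.leaf 3947) (.leaf 3938))) (.node (.node (.leaf 2475) (.leaf 3471)) (.node (.leaf 4526) (.leaf 0)))) (.node (.node (.node (.leaf 1631) (.leaf 5401)) (.node (.leaf 4589) (.leaf 6771))) (.node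 (.node (.leaf 3236) (.leaf 5743)) (.node (.leaf 5683) (.leaf 0)))))) (.node (.node (.node (.node (.node (.leaf 478) (.leaf 5785)) (.node (.leaf 3767) (.leaf 4046))) (.node (.node (.leaf 2270) (.leaf 5515)) (.node (.leaf 4426) (.leaf 0)))) (.node (.node (.node (.leaf 1410) (.leaf 6365)) (.node (.leaf 4433) (.leaf 7283))) (.node (.node (.leaf 3046) (.leaf 6868)) (.node (.leaf 5578) (.leaf 0))))) (.node (.node (.node (.node (.leaf 955) (.leaf 2305)) (.node (.leaf 4114) (.leaf 594))) (.node (.node (.leaf 2669) (.leaf 6853)) (.node (.leaf 5287) (.leaf 0)))) (.node (.node (.node (.leaf 1848) (.leaf 6575)) (.node (.leaf 2384) (.leaf 6107))) (.node (.node (.leaf 3414) (.leaf 5780)) (.node (.leaf 5805) (.leaf 0))))))))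

def he0T23 : NT := .node (.node (.node (.node (.node (.node (.node (.node (.leaf 47) (.leaf 4101)) (.node (.leaf 3461) (.leaf 2224))) (.node (.node (.leaf 869) (.leaf 3602)) (.node (.leaf 4786) (.leaf 7104)))) (.node (.node (.node (.leaf 1016) (.leaf 2674)) (.node (.leaf 4154) (.leaf 7232))) (.node (.node (.leaf 2718) (.leaf 5365)) (.node (.leaf 5335) (.leaf 0))))) (.node (.node (.node (.node (.leaf 543) (.leaf 5573)) (.node (.leaf 1266) (.leaf 7099))) (.node (.node (.leaf 1989) (.leaf 5317)) (.node (.leaf 5059) (.leaf 0)))) (.node (.node (.node (.leaf 1468) (.leaf 3406)) (.node (.leaf 2812) (.leaf 5545))) (.node (.node (.leaf 3090) (.leaf 6996)) (.node (.leaf 5362) (.leaf 0)))))) (.node (.node (.node (.node (.node (.leaf 298) (.leaf 5592)) (.node (.leaf 3644) (.leaf 2099))) (.node (.node (.leaf 2116) (.leaf 1655)) (.node (.leaf 4924) (.leaf 1455)))) (.node (.node (.node (.leaf 1246) (.leaf 751)) (.node (.leaf 4311) (.leaf 6920))) (.node (.node (.leaf 2902) (.leaf 6357)) (.node (.leaf 3619) (.leaf 0))))) (.node (.node (.node (.node (.leaf 781) (.leaf 30)) (.node (.leaf 3992) (.leaf 1653))) (.node (.node (.leaf 772) (.leaf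 5698)) (.node (.leaf 550) (.leaf 0)))) (.node (.node (.node (.leaf 1683) (.leaf 6393)) (.node (.leaf 4634) (.leaf 2201))) (.node (.node (.leaf 2939) (.leaf 5421)) (.node (.leaf 5295) (.leaf 0))))))) (.node (.node (.node (.node (.node (.node (.leaf 173) (.leaf 5891)) (.node (.leaf 3556) (.leaf 3604))) (.node (.node (.leaf 2015) (.leaf 3986)) (.node (.leaf 4855) (.leaf 6161)))) (.node (.node (.node (.leaf 1134) (.leaf 6294)) (.node (.leaf 4239) (.leaf 6332))) (.node (.node (.leaf 2537) (.leaf 4628)) (.node (.leaf 5405) (.leaf 0))))) (.node (.node (.node (.node (.leaf 663) (.leaf 6085)) (.node (.leaf 3899) (.leaf 7189))) (.node (.node (.leaf 2423) (.leaf 274)) (.node (.leaf 5127) (.leaf 0)))) (.node (.node (.node (.leaf 1578) (.leaf 5191)) (.node (.leaf 3304) (.leaf 4340))) (.node (.node (.leaf 3190) (.leaf 1771)) (.node (.leaf 2411) (.leaf 0)))))) (.node (.node (.node (.node (.node (.leaf 420) (.leaf 6004)) (.node (.leaf 54) (.leaf 920))) (.node (.node (.leaf 660) (.leaf 4712)) (.node (.leaf 4996) (.leaf 0)))) (.node (.node (.node (.leaf 1358) (.leaf 5485)) (.node (.leaf 965) (.leaf 6960))) (.node (.node (.leaf 3005) (.leaf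 2516)) (.node (.leaf 5541) (.leaf 0))))) (.node (.node (.node (.node (.leaf 898) (.leaf 4372)) (.node (.leaf 4076) (.leaf 4110))) (.node (.node (.leaf 2621) (.leaf 6835)) (.node (.leaf 5274) (.leaf 0)))) (.node (.node (.node (.leaf 393) (.leaf 5798)) (.node (.leaf 2297) (.leaf 6239))) (.node (.node (.leaf 3377) (.leaf 4260)) (.node (.leaf 5777) (.leaf 0)))))))) (.node (.node (.node (.node (.node (.node (.node (.leaf 110) (.leaf 5564)) (.node (.leaf 3514) (.leaf 6987))) (.node (.node (.leaf 1958) (.leaf 6612)) (.node (.leaf 703) (.leaf 6042)))) (.node (.node (.node (.leaf 1076) (.leaf 1294)) (.node (.leaf 4199) (.leaf 6251))) (.node (.node (.leaf 2763) (.leaf 6521)) (.node (.leaf 5371) (.leaf 0))))) (.node (.node (.node (.node (.leaf 602) (.leaf 5653)) (.node (.leaf 1231) (.leaf 6323))) (.node (.node (.leaf 2267) (.leaf 3777)) (.node (.leaf 5089) (.leaf 0)))) (.node (.node (.node (.leaf 1523) (.leaf 5932)) (.node (.leaf 4521) (.leaf 7114))) (.node (.node (.leaf 3140) (.leaf 5005)) (.node (.leaf 2885) (.leaf 0)))))) (.node (.node (.node (.node (.node (.leaf 360) (.leaf 5975)) (.node (.leaf 1839) (.leaf 2085))) (.node (.node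 (.leaf 2163) (.leaf 6693)) (.node (.leaf 4966) (.leaf 0)))) (.node (.node (.node (.leaf 1301) (.leaf 6360)) (.node (.leaf 4342) (.leaf 6949))) (.node (.node (.leaf 2953) (.leaf 6948)) (.node (.leaf 403) (.leaf 0))))) (.node (.node (.node (.node (.leaf 840) (.leaf 6168)) (.node (.leaf 801) (.leaf 3703))) (.node (.node (.leaf 2569) (.leaf 2449)) (.node (.leaf 4009) (.leaf 0)))) (.node (.node (.node (.leaf 1741) (.leaf 5222)) (.node (.leaf 3595) (.leaf 6945))) (.node (.node (.leaf 2904) (.leaf 5448)) (.node (.leaf 233) (.leaf 0))))))) (.node (.node (.node (.node (.node (.node (.leaf 236) (.leaf 5914)) (.node (.leaf 3599) (.leaf 5995))) (.node (.node (.leaf 2065) (.leaf 6499)) (.node (.leaf 4852) (.leaf 7341)))) (.node (.node (.node (.leaf 1187) (.leaf 4544)) (.node (.leaf 4276) (.leaf 916))) (.node (.node (.leaf 2859) (.leaf 599)) (.node (.leaf 3451) (.leaf 0))))) (.node (.node (.node (.node (.leaf 721) (.leaf 2047)) (.node (.leaf 3949) (.leaf 5999))) (.node (.node (.leaf 2477) (.leaf 244)) (.node (.leaf 2608) (.leaf 0)))) (.node (.node (.node (.leaf 1256) (.leaf 714)) (.node (.leaf 4590) (.leaf 855))) (.node (.node (.leaf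 2977) (.leaf 3233)) (.node (.leaf 3351) (.leaf 0)))))) (.node (.node (.node (.node (.node (.leaf 480) (.leaf 5965)) (.node (.leaf 3768) (.leaf 4126))) (.node (.node (.leaf 2272) (.leaf 6318)) (.node (.leaf 5030) (.leaf 0)))) (.node (.node (.node (.leaf 1412) (.leaf 6392)) (.node (.leaf 4435) (.leaf 3378))) (.node (.node (.leaf 3048) (.leaf 5757)) (.node (.leaf 2563) (.leaf 0))))) (.node (.node (.node (.node (.leaf 957) (.leaf 6220)) (.node (.leaf 3222) (.leaf 2831))) (.node (.node (.leaf 2671) (.leaf 6508)) (.node (.leaf 4935) (.leaf 0)))) (.node (.node (.node (.leaf 1850) (.leaf 6577)) (.node (.leaf 4748) (.leaf 592))) (.node (.node (.leaf 3416) (.leaf 6899)) (.node (.leaf 5806) (.leaf 0))))))))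

def he0T24 : NT := .node (.node (.node (.node (.node (.node (.node (.node (.leaf 49) (.leaf 5841)) (.node (.leaf 3462) (.leaf 6576))) (.node (.node (.leaf 1905) (.leaf 4060)) (.node (.leaf 4788) (.leaf 7314)))) (.node (.node (.node (.leaf 1018) (.leaf 6248)) (.node (.leaf 2168) (.leaf 4887))) (.node (.node (.leaf 2719) (.leaf 6871)) (.node (.leaf 5337) (.leaf 0))))) (.node (.node (.node (.node (.leaf 545) (.leaf 5598)) (.node (.leaf 3811) (.leaf 6288))) (.node (.node (.leaf 1952) (.leaf 2125)) (.node (.leaf 2888) (.leaf 0)))) (.node (.node (.node (.leaf 1457) (.leaf 2987)) (.node (.leaf 2911) (.leaf 6919))) (.node (.node (.leaf 3092) (.leaf 4914)) (.node (.leaf 5599) (.leaf 0)))))) (.node (.node (.node (.node (.node (.leaf 300) (.leaf 4361)) (.node (.leaf 3646) (.leaf 7121))) (.node (.node (.leaf 2118) (.leaf 5159)) (.node (.leaf 4926) (.leaf 5834)))) (.node (.node (.node (.leaf 1248) (.leaf 2992)) (.node (.leaf 2194) (.leaf 4986))) (.node (.node (.leaf 2184) (.leaf 196)) (.node (.leaf 5472) (.leaf 0))))) (.node (.node (.node (.node (.leaf 783) (.leaf 6139)) (.node (.leaf 3994) (.leaf 6607))) (.node (.node (.leaf 1691)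 (.leaf 6804)) (.node (.leaf 3830) (.leaf 0)))) (.node (.node (.node (.leaf 1685) (.leaf 6514)) (.node (.leaf 3605) (.leaf 7317))) (.node (.node (.leaf 3287) (.leaf 5203)) (.node (.leaf 5717) (.leaf 0))))))) (.node (.node (.node (.node (.node (.node (.leaf 175) (.leaf 880)) (.node (.leaf 3558) (.leaf 350))) (.node (.node (.leaf 2017) (.leaf 6630)) (.node (.leaf 182) (.leaf 7338)))) (.node (.node (.node (.leaf 1135) (.leaf 4626)) (.node (.leaf 3999) (.leaf 7055))) (.node (.node (.leaf 2144) (.leaf 6898)) (.node (.leaf 4223) (.leaf 0))))) (.node (.node (.node (.node (.leaf 665) (.leaf 5560)) (.node (.leaf 3901) (.leaf 3996))) (.node (.node (.leaf 2425) (.leaf 2413)) (.node (.leaf 5129) (.leaf 0)))) (.node (.node (.node (.leaf 1580) (.leaf 5839)) (.node (.leaf 4550) (.leaf 6477))) (.node (.node (.leaf 3033) (.leaf 1072)) (.node (.leaf 4554) (.leaf 0)))))) (.node (.node (.node (.node (.node (.leaf 422) (.leaf 5547)) (.node (.leaf 3727) (.leaf 5226))) (.node (.node (.leaf 1689) (.leaf 4231)) (.node (.leaf 395) (.leaf 0)))) (.node (.node (.node (.leaf 1360) (.leaf 6202)) (.node (.leaf 3264) (.leaf 7227))) (.node (.node (.leaf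 3007) (.leaf 6367)) (.node (.leaf 1539) (.leaf 0))))) (.node (.node (.node (.node (.leaf 673) (.leaf 2680)) (.node (.leaf 4078) (.leaf 1496))) (.node (.node (.leaf 2178) (.leaf 2405)) (.node (.leaf 4330) (.leaf 0)))) (.node (.node (.node (.leaf 1795) (.leaf 6548)) (.node (.leaf 4708) (.leaf 6449))) (.node (.node (.leaf 1821) (.leaf 5863)) (.node (.leaf 3294) (.leaf 0)))))))) (.node (.node (.node (.node (.node (.node (.node (.leaf 112) (.leaf 5873)) (.node (.leaf 1702) (.leaf 254))) (.node (.node (.leaf 1960) (.leaf 6104)) (.node (.leaf 4549) (.leaf 3357)))) (.node (.node (.node (.leaf 1062) (.leaf 2223)) (.node (.leaf 4201) (.leaf 1802))) (.node (.node (.leaf 2164) (.leaf 6758)) (.node (.leaf 1094) (.leaf 0))))) (.node (.node (.node (.node (.leaf 604) (.leaf 3747)) (.node (.leaf 3854) (.leaf 6841))) (.node (.node (.leaf 1964) (.leaf 6259)) (.node (.leaf 5091) (.leaf 0)))) (.node (.node (.node (.leaf 1524) (.leaf 6439)) (.node (.leaf 4523) (.leaf 3198))) (.node (.node (.leaf 1601) (.leaf 6665)) (.node (.leaf 5392) (.leaf 0)))))) (.node (.node (.node (.node (.node (.leaf 362) (.leaf 1262)) (.node (.leaf 3686) (.leaf 5911)))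 (.node (.node (.leaf 2165) (.leaf 6694)) (.node (.leaf 4871) (.leaf 0)))) (.node (.node (.node (.leaf 1303) (.leaf 2375)) (.node (.leaf 4351) (.leaf 5624))) (.node (.node (.leaf 2663) (.leaf 2751)) (.node (.leaf 4780) (.leaf 0))))) (.node (.node (.node (.node (.leaf 842) (.leaf 6160)) (.node (.leaf 4039) (.leaf 7016))) (.node (.node (.leaf 2571) (.leaf 6817)) (.node (.leaf 5239) (.leaf 0)))) (.node (.node (.node (.leaf 1743) (.leaf 5132)) (.node (.leaf 411) (.leaf 7299))) (.node (.node (.leaf 1596) (.leaf 7051)) (.node (.leaf 5746) (.leaf 0))))))) (.node (.node (.node (.node (.node (.node (.leaf 238) (.leaf 5916)) (.node (.leaf 3601) (.leaf 4851))) (.node (.node (.leaf 464) (.leaf 6648)) (.node (.leaf 2275) (.leaf 1650)))) (.node (.node (.node (.leaf 1189) (.leaf 5387)) (.node (.leaf 4277) (.leaf 1493))) (.node (.node (.leaf 603) (.leaf 2784)) (.node (.leaf 5441) (.leaf 0))))) (.node (.node (.node (.node (.leaf 722) (.leaf 1874)) (.node (.leaf 1150) (.leaf 5887))) (.node (.node (.leaf 2465) (.leaf 6791)) (.node (.leaf 5164) (.leaf 0)))) (.node (.node (.node (.leaf 1215) (.leaf 5422)) (.node (.leaf 4591) (.leaf 3437)))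 (.node (.node (.leaf 3239) (.leaf 7027)) (.node (.leaf 1638) (.leaf 0)))))) (.node (.node (.node (.node (.node (.leaf 482) (.leaf 4240)) (.node (.leaf 2403) (.leaf 5235))) (.node (.node (.leaf 2274) (.leaf 6623)) (.node (.leaf 1517) (.leaf 0)))) (.node (.node (.node (.leaf 1413) (.leaf 4220)) (.node (.leaf 3635) (.leaf 1579))) (.node (.node (.leaf 2419) (.leaf 1268)) (.node (.leaf 5580) (.leaf 0))))) (.node (.node (.node (.node (.leaf 959) (.leaf 4937)) (.node (.leaf 4116) (.leaf 5302))) (.node (.node (.leaf 2636) (.leaf 2457)) (.node (.leaf 5193) (.leaf 0)))) (.node (.node (.node (.leaf 1852) (.leaf 6579)) (.node (.leaf 4391) (.leaf 6876))) (.node (.node (.leaf 3417) (.leaf 1138)) (.node (.leaf 5807) (.leaf 0))))))))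

def he0T25 : NT := .node (.node (.node (.node (.node (.node (.node (.node (.leaf 51) (.leaf 1807)) (.node (.leaf 3464) (.leaf 1425))) (.node (.node (.leaf 1233) (.leaf 3103)) (.node (.leaf 4789) (.leaf 1636)))) (.node (.node (.node (.leaf 1020) (.leaf 6203)) (.node (.leaf 4157) (.leaf 4620))) (.node (.node (.leaf 2720) (.leaf 1649)) (.node (.leaf 5183) (.leaf 0))))) (.node (.node (.node (.node (.leaf 547) (.leaf 5694)) (.node (.leaf 3813) (.leaf 3117))) (.node (.node (.leaf 2323) (.leaf 1444)) (.node (.leaf 5060) (.leaf 0)))) (.node (.node (.node (.leaf 1471) (.leaf 6292)) (.node (.leaf 4478) (.leaf 6086))) (.node (.node (.leaf 3094) (.leaf 6997)) (.node (.leaf 5108) (.leaf 0)))))) (.node (.node (.node (.node (.node (.leaf 302) (.leaf 5943)) (.node (.leaf 2261) (.leaf 6553))) (.node (.node (.leaf 1773) (.leaf 6670)) (.node (.leaf 4928) (.leaf 7300)))) (.node (.node (.node (.leaf 1250) (.leaf 2597)) (.node (.leaf 3732) (.leaf 129))) (.node (.node (.leaf 2905) (.leaf 6929)) (.node (.leaf 5473) (.leaf 0))))) (.node (.node (.node (.node (.leaf 785) (.leaf 6140)) (.node (.leaf 926) (.leaf 5523))) (.node (.node (.leaf 2522)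 (.leaf 6322)) (.node (.leaf 5207) (.leaf 0)))) (.node (.node (.node (.leaf 1687) (.leaf 6384)) (.node (.leaf 4635) (.leaf 3058))) (.node (.node (.leaf 123) (.leaf 5495)) (.node (.leaf 5719) (.leaf 0))))))) (.node (.node (.node (.node (.node (.node (.leaf 177) (.leaf 5844)) (.node (.leaf 3559) (.leaf 5745))) (.node (.node (.leaf 2019) (.leaf 56)) (.node (.leaf 2945) (.leaf 6138)))) (.node (.node (.node (.leaf 1137) (.leaf 1131)) (.node (.leaf 4161) (.leaf 7116))) (.node (.node (.leaf 22) (.leaf 6900)) (.node (.leaf 4745) (.leaf 0))))) (.node (.node (.node (.node (.leaf 667) (.leaf 5163)) (.node (.leaf 3902) (.leaf 5444))) (.node (.node (.leaf 2427) (.leaf 6653)) (.node (.leaf 2073) (.leaf 0)))) (.node (.node (.node (.leaf 640) (.leaf 4810)) (.node (.leaf 4551) (.leaf 4741))) (.node (.node (.leaf 3192) (.leaf 7015)) (.node (.leaf 5656) (.leaf 0)))))) (.node (.node (.node (.node (.node (.leaf 424) (.leaf 5408)) (.node (.leaf 3729) (.leaf 2158))) (.node (.node (.leaf 2222) (.leaf 5851)) (.node (.leaf 4999) (.leaf 0)))) (.node (.node (.node (.leaf 1362) (.leaf 615)) (.node (.leaf 4308) (.leaf 7231))) (.node (.node (.leaf 3009)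 (.leaf 6970)) (.node (.leaf 5542) (.leaf 0))))) (.node (.node (.node (.node (.leaf 900) (.leaf 4442)) (.node (.leaf 4079) (.leaf 7209))) (.node (.node (.leaf 2623) (.leaf 6838)) (.node (.leaf 3865) (.leaf 0)))) (.node (.node (.node (.leaf 1797) (.leaf 2753)) (.node (.leaf 4053) (.leaf 5840))) (.node (.node (.leaf 3380) (.leaf 3508)) (.node (.leaf 3667) (.leaf 0)))))))) (.node (.node (.node (.node (.node (.node (.node (.leaf 114) (.leaf 5831)) (.node (.leaf 3516) (.leaf 6699))) (.node (.node (.leaf 515) (.leaf 4289)) (.node (.leaf 2293) (.leaf 2221)))) (.node (.node (.node (.leaf 1079) (.leaf 5220)) (.node (.leaf 4203) (.leaf 7097))) (.node (.node (.leaf 2766) (.leaf 6885)) (.node (.leaf 5377) (.leaf 0))))) (.node (.node (.node (.node (.leaf 606) (.leaf 5789)) (.node (.leaf 3583) (.leaf 1461))) (.node (.node (.leaf 2373) (.leaf 3940)) (.node (.leaf 5092) (.leaf 0)))) (.node (.node (.node (.leaf 1405) (.leaf 6441)) (.node (.leaf 4503) (.leaf 5988))) (.node (.node (.leaf 3143) (.leaf 5915)) (.node (.leaf 5625) (.leaf 0)))))) (.node (.node (.node (.node (.node (.leaf 363) (.leaf 5977)) (.node (.leaf 3687) (.leaf 2576))) (.node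 (.node (.leaf 2167) (.leaf 4306)) (.node (.leaf 3885) (.leaf 0)))) (.node (.node (.node (.leaf 1305) (.leaf 6363)) (.node (.leaf 4353) (.leaf 2137))) (.node (.node (.leaf 2954) (.leaf 6530)) (.node (.leaf 5446) (.leaf 0))))) (.node (.node (.node (.node (.leaf 844) (.leaf 1592)) (.node (.leaf 4041) (.leaf 1269))) (.node (.node (.leaf 1329) (.leaf 5974)) (.node (.leaf 5240) (.leaf 0)))) (.node (.node (.node (.leaf 1745) (.leaf 3062)) (.node (.leaf 3450) (.leaf 7310))) (.node (.node (.leaf 2135) (.leaf 4459)) (.node (.leaf 2648) (.leaf 0))))))) (.node (.node (.node (.node (.node (.node (.leaf 240) (.leaf 5740)) (.node (.leaf 2432) (.leaf 3407))) (.node (.node (.leaf 2068) (.leaf 4047)) (.node (.leaf 1628) (.leaf 7340)))) (.node (.node (.node (.leaf 1190) (.leaf 3225)) (.node (.leaf 4279) (.leaf 6532))) (.node (.node (.leaf 2179) (.leaf 3856)) (.node (.leaf 2328) (.leaf 0))))) (.node (.node (.node (.node (.leaf 575) (.leaf 6110)) (.node (.leaf 3951) (.leaf 303))) (.node (.node (.leaf 2480) (.leaf 5035)) (.node (.leaf 3607) (.leaf 0)))) (.node (.node (.node (.leaf 1634) (.leaf 6478)) (.node (.leaf 4593) (.leaf 1729))) (.node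 (.node (.leaf 3240) (.leaf 4839)) (.node (.leaf 2757) (.leaf 0)))))) (.node (.node (.node (.node (.node (.leaf 484) (.leaf 2519)) (.node (.leaf 2715) (.leaf 7154))) (.node (.node (.leaf 2276) (.leaf 6735)) (.node (.leaf 4803) (.leaf 0)))) (.node (.node (.node (.leaf 1111) (.leaf 6394)) (.node (.leaf 4437) (.leaf 1518))) (.node (.node (.leaf 3050) (.leaf 3873)) (.node (.leaf 1942) (.leaf 0))))) (.node (.node (.node (.node (.leaf 961) (.leaf 6223)) (.node (.leaf 4118) (.leaf 871))) (.node (.node (.leaf 2673) (.leaf 1919)) (.node (.leaf 5304) (.leaf 0)))) (.node (.node (.node (.leaf 1854) (.leaf 6581)) (.node (.leaf 4751) (.leaf 7079))) (.node (.node (.leaf 3275) (.leaf 6489)) (.node (.leaf 552) (.leaf 0))))))))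

def he0T26 : NT := .node (.node (.node (.node (.node (.node (.node (.node (.leaf 53) (.leaf 127)) (.node (.leaf 3466) (.leaf 832))) (.node (.node (.leaf 1908) (.leaf 6602)) (.node (.leaf 935) (.leaf 6798)))) (.node (.node (.node (.leaf 977) (.leaf 6250)) (.node (.leaf 4158) (.leaf 7110))) (.node (.node (.leaf 2722) (.leaf 2787)) (.node (.leaf 5161) (.leaf 0))))) (.node (.node (.node (.node (.leaf 549) (.leaf 5778)) (.node (.leaf 1346) (.leaf 3680))) (.node (.node (.leaf 2325) (.leaf 6563)) (.node (.leaf 3809) (.leaf 0)))) (.node (.node (.node (.leaf 1184) (.leaf 288)) (.node (.leaf 4480) (.leaf 7294))) (.node (.node (.leaf 3096) (.leaf 6878)) (.node (.leaf 5602) (.leaf 0)))))) (.node (.node (.node (.node (.node (.leaf 304) (.leaf 5945)) (.node (.leaf 3648) (.leaf 7093))) (.node (.node (.leaf 2119) (.leaf 3059)) (.node (.leaf 4930) (.leaf 7138)))) (.node (.node (.node (.leaf 1252) (.leaf 5989)) (.node (.leaf 4315) (.leaf 7241))) (.node (.node (.leaf 2906) (.leaf 6930)) (.node (.leaf 3881) (.leaf 0))))) (.node (.node (.node (.node (.leaf 787) (.leaf 4834)) (.node (.leaf 2592) (.leaf 3338))) (.node (.node (.leaf 2524) (.leaf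 4869)) (.node (.leaf 5209) (.leaf 0)))) (.node (.node (.node (.leaf 1475) (.leaf 2640)) (.node (.leaf 4637) (.leaf 6989))) (.node (.node (.leaf 2815) (.leaf 1651)) (.node (.leaf 292) (.leaf 0))))))) (.node (.node (.node (.node (.node (.node (.leaf 179) (.leaf 3632)) (.node (.leaf 3560) (.leaf 5928))) (.node (.node (.leaf 2021) (.leaf 270)) (.node (.leaf 204) (.leaf 2622)))) (.node (.node (.node (.leaf 12) (.leaf 6176)) (.node (.leaf 3427) (.leaf 557))) (.node (.node (.leaf 2814) (.leaf 6786)) (.node (.leaf 4656) (.leaf 0))))) (.node (.node (.node (.node (.leaf 564) (.leaf 6087)) (.node (.leaf 3904) (.leaf 6433))) (.node (.node (.leaf 979) (.leaf 2644)) (.node (.leaf 5072) (.leaf 0)))) (.node (.node (.node (.leaf 1583) (.leaf 5145)) (.node (.leaf 4553) (.leaf 2170))) (.node (.node (.leaf 3194) (.leaf 6298)) (.node (.leaf 5474) (.leaf 0)))))) (.node (.node (.node (.node (.node (.leaf 426) (.leaf 6005)) (.node (.leaf 3731) (.leaf 5378))) (.node (.node (.leaf 1422) (.leaf 6715)) (.node (.leaf 5000) (.leaf 0)))) (.node (.node (.node (.leaf 1363) (.leaf 4633)) (.node (.leaf 4396) (.leaf 1887))) (.node (.node (.leaf 3011) (.leaf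 6855)) (.node (.leaf 2031) (.leaf 0))))) (.node (.node (.node (.node (.leaf 902) (.leaf 6196)) (.node (.leaf 3207) (.leaf 5351))) (.node (.node (.leaf 2613) (.leaf 617)) (.node (.leaf 3600) (.leaf 0)))) (.node (.node (.node (.leaf 1799) (.leaf 6550)) (.node (.leaf 3089) (.leaf 3891))) (.node (.node (.leaf 3381) (.leaf 6570)) (.node (.leaf 5054) (.leaf 0)))))))) (.node (.node (.node (.node (.node (.node (.node (.leaf 116) (.leaf 5657)) (.node (.leaf 3518) (.leaf 455))) (.node (.node (.leaf 1963) (.leaf 4567)) (.node (.leaf 3261) (.leaf 7318)))) (.node (.node (.node (.leaf 1081) (.leaf 5294)) (.node (.leaf 943) (.leaf 7147))) (.node (.node (.leaf 2768) (.leaf 6518)) (.node (.leaf 4725) (.leaf 0))))) (.node (.node (.node (.node (.leaf 608) (.leaf 3900)) (.node (.leaf 3857) (.leaf 6816))) (.node (.node (.leaf 1571) (.leaf 5738)) (.node (.leaf 5094) (.leaf 0)))) (.node (.node (.node (.leaf 1527) (.leaf 6443)) (.node (.leaf 4525) (.leaf 7191))) (.node (.node (.leaf 3145) (.leaf 6034)) (.node (.leaf 5565) (.leaf 0)))))) (.node (.node (.node (.node (.node (.leaf 365) (.leaf 4977)) (.node (.leaf 3008) (.leaf 6583))) (.node (.node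 (.leaf 2169) (.leaf 5187)) (.node (.leaf 2736) (.leaf 0)))) (.node (.node (.node (.leaf 1306) (.leaf 6362)) (.node (.leaf 4355) (.leaf 3392))) (.node (.node (.leaf 2955) (.leaf 6733)) (.node (.leaf 5044) (.leaf 0))))) (.node (.node (.node (.node (.leaf 846) (.leaf 6171)) (.node (.leaf 4043) (.leaf 4772))) (.node (.node (.leaf 2573) (.leaf 2739)) (.node (.leaf 826) (.leaf 0)))) (.node (.node (.node (.leaf 1746) (.leaf 3273)) (.node (.leaf 4672) (.leaf 6660))) (.node (.node (.leaf 3334) (.leaf 4217)) (.node (.leaf 5749) (.leaf 0))))))) (.node (.node (.node (.node (.node (.node (.leaf 241) (.leaf 5919)) (.node (.leaf 1704) (.leaf 4017))) (.node (.node (.leaf 2070) (.leaf 4387)) (.node (.leaf 4888) (.leaf 7287)))) (.node (.node (.node (.leaf 1192) (.leaf 6313)) (.node (.leaf 3647) (.leaf 6985))) (.node (.node (.leaf 2862) (.leaf 6377)) (.node (.leaf 5442) (.leaf 0))))) (.node (.node (.node (.node (.leaf 725) (.leaf 4049)) (.node (.leaf 3953) (.leaf 5493))) (.node (.node (.leaf 2482) (.leaf 6600)) (.node (.leaf 5167) (.leaf 0)))) (.node (.node (.node (.leaf 562) (.leaf 5801)) (.node (.leaf 4595) (.leaf 7210))) (.node (.node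 (.leaf 3242) (.leaf 6709)) (.node (.leaf 5672) (.leaf 0)))))) (.node (.node (.node (.node (.node (.leaf 486) (.leaf 6027)) (.node (.leaf 3770) (.leaf 6173))) (.node (.node (.leaf 2278) (.leaf 1296)) (.node (.leaf 5031) (.leaf 0)))) (.node (.node (.node (.leaf 1381) (.leaf 1105)) (.node (.leaf 4438) (.leaf 7033))) (.node (.node (.leaf 3052) (.leaf 3883)) (.node (.leaf 5582) (.leaf 0))))) (.node (.node (.node (.node (.leaf 963) (.leaf 5767)) (.node (.leaf 1543) (.leaf 6545))) (.node (.node (.leaf 1089) (.leaf 4248)) (.node (.leaf 5301) (.leaf 0)))) (.node (.node (.node (.leaf 1856) (.leaf 1986)) (.node (.leaf 2721) (.leaf 6668))) (.node (.node (.leaf 3420) (.leaf 3852)) (.node (.leaf 4677) (.leaf 0))))))))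

def he0T27 : NT := .node (.node (.node (.node (.node (.node (.node (.node (.leaf 55) (.leaf 3652)) (.node (.leaf 3468) (.leaf 5264))) (.node (.node (.leaf 1633) (.leaf 3788)) (.node (.leaf 4792) (.leaf 7333)))) (.node (.node (.node (.leaf 1023) (.leaf 6252)) (.node (.leaf 4160) (.leaf 4605))) (.node (.node (.leaf 2363) (.leaf 5972)) (.node (.leaf 5341) (.leaf 0))))) (.node (.node (.node (.node (.leaf 551) (.leaf 5572)) (.node (.leaf 3730) (.leaf 6303))) (.node (.node (.leaf 2327) (.leaf 4571)) (.node (.leaf 5062) (.leaf 0)))) (.node (.node (.node (.leaf 1474) (.leaf 4766)) (.node (.leaf 3963) (.leaf 6859))) (.node (.node (.leaf 3098) (.leaf 2638)) (.node (.leaf 3364) (.leaf 0)))))) (.node (.node (.node (.node (.node (.leaf 306) (.leaf 5947)) (.node (.leaf 3650) (.leaf 7123))) (.node (.node (.leaf 2121) (.leaf 6672)) (.node (.leaf 4932) (.leaf 7028)))) (.node (.node (.node (.leaf 1254) (.leaf 6345)) (.node (.leaf 4317) (.leaf 6459))) (.node (.node (.leaf 2756) (.leaf 3424)) (.node (.leaf 5475) (.leaf 0))))) (.node (.node (.node (.node (.leaf 789) (.leaf 2326)) (.node (.leaf 2195) (.leaf 2474))) (.node (.node (.leaf 2526)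 (.leaf 4003)) (.node (.leaf 5210) (.leaf 0)))) (.node (.node (.node (.leaf 1690) (.leaf 5359)) (.node (.leaf 4586) (.leaf 5095))) (.node (.node (.leaf 3291) (.leaf 5567)) (.node (.leaf 5721) (.leaf 0))))))) (.node (.node (.node (.node (.node (.node (.leaf 181) (.leaf 5271)) (.node (.leaf 3562) (.leaf 5571))) (.node (.node (.leaf 1292) (.leaf 4254)) (.node (.leaf 1815) (.leaf 7215)))) (.node (.node (.node (.leaf 313) (.leaf 3391)) (.node (.leaf 1127) (.leaf 7247))) (.node (.node (.leaf 2816) (.leaf 5173)) (.node (.leaf 4880) (.leaf 0))))) (.node (.node (.node (.node (.leaf 670) (.leaf 5904)) (.node (.leaf 3906) (.leaf 7188))) (.node (.node (.leaf 2429) (.leaf 6780)) (.node (.leaf 5133) (.leaf 0)))) (.node (.node (.node (.leaf 1584) (.leaf 2506)) (.node (.leaf 4150) (.leaf 6901))) (.node (.node (.leaf 3196) (.leaf 2866)) (.node (.leaf 5622) (.leaf 0)))))) (.node (.node (.node (.node (.node (.leaf 428) (.leaf 1340)) (.node (.leaf 3733) (.leaf 4252))) (.node (.node (.leaf 2225) (.leaf 6717)) (.node (.leaf 3501) (.leaf 0)))) (.node (.node (.node (.leaf 996) (.leaf 6381)) (.node (.leaf 4398) (.leaf 7146))) (.node (.node (.leaf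 2781) (.leaf 4702)) (.node (.leaf 5544) (.leaf 0))))) (.node (.node (.node (.node (.leaf 904) (.leaf 5848)) (.node (.leaf 4081) (.leaf 5920))) (.node (.node (.leaf 2625) (.leaf 6840)) (.node (.leaf 5277) (.leaf 0)))) (.node (.node (.node (.leaf 1801) (.leaf 6552)) (.node (.leaf 4711) (.leaf 7273))) (.node (.node (.leaf 3383) (.leaf 6736)) (.node (.leaf 2880) (.leaf 0)))))))) (.node (.node (.node (.node (.node (.node (.node (.leaf 118) (.leaf 1302)) (.node (.leaf 3520) (.leaf 214))) (.node (.node (.leaf 1965) (.leaf 5606)) (.node (.leaf 4822) (.leaf 7312)))) (.node (.node (.node (.leaf 1083) (.leaf 407)) (.node (.leaf 4206) (.leaf 6882))) (.node (.node (.leaf 2770) (.leaf 1244)) (.node (.leaf 3325) (.leaf 0))))) (.node (.node (.node (.node (.leaf 610) (.leaf 4501)) (.node (.leaf 60) (.leaf 2853))) (.node (.node (.leaf 2376) (.leaf 843)) (.node (.leaf 677) (.leaf 0)))) (.node (.node (.node (.leaf 1529) (.leaf 6444)) (.node (.leaf 2601) (.leaf 7137))) (.node (.node (.leaf 3147) (.leaf 5020)) (.node (.leaf 5627) (.leaf 0)))))) (.node (.node (.node (.node (.node (.leaf 367) (.leaf 5978)) (.node (.leaf 3689) (.leaf 5069))) (.node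 (.node (.leaf 2171) (.leaf 718)) (.node (.leaf 4969) (.leaf 0)))) (.node (.node (.node (.leaf 654) (.leaf 1220)) (.node (.leaf 4356) (.leaf 3200))) (.node (.node (.leaf 2957) (.leaf 6951)) (.node (.leaf 1188) (.leaf 0))))) (.node (.node (.node (.node (.leaf 848) (.leaf 5611)) (.node (.leaf 4014) (.leaf 5298))) (.node (.node (.leaf 2575) (.leaf 2130)) (.node (.leaf 5242) (.leaf 0)))) (.node (.node (.node (.leaf 1242) (.leaf 6535)) (.node (.leaf 4674) (.leaf 723))) (.node (.node (.leaf 3335) (.leaf 6886)) (.node (.leaf 5751) (.leaf 0))))))) (.node (.node (.node (.node (.node (.node (.leaf 243) (.leaf 4192)) (.node (.leaf 2654) (.leaf 5701))) (.node (.node (.leaf 2072) (.leaf 6650)) (.node (.leaf 4890) (.leaf 697)))) (.node (.node (.node (.leaf 1194) (.leaf 6314)) (.node (.leaf 2332) (.leaf 5085))) (.node (.node (.leaf 1395) (.leaf 6592)) (.node (.leaf 5443) (.leaf 0))))) (.node (.node (.node (.node (.leaf 727) (.leaf 6111)) (.node (.leaf 1906) (.leaf 6470))) (.node (.node (.leaf 2355) (.leaf 2668)) (.node (.leaf 5169) (.leaf 0)))) (.node (.node (.node (.leaf 1637) (.leaf 6436)) (.node (.leaf 4596) (.leaf 6407))) (.node (.node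 (.leaf 3243) (.leaf 6956)) (.node (.leaf 3443) (.leaf 0)))))) (.node (.node (.node (.node (.node (.leaf 488) (.leaf 4964)) (.node (.leaf 3772) (.leaf 3189))) (.node (.node (.leaf 1070) (.leaf 6708)) (.node (.leaf 5028) (.leaf 0)))) (.node (.node (.node (.leaf 1417) (.leaf 3529)) (.node (.leaf 4439) (.leaf 7176))) (.node (.node (.leaf 613) (.leaf 6090)) (.node (.leaf 2807) (.leaf 0))))) (.node (.node (.node (.node (.leaf 948) (.leaf 1800)) (.node (.leaf 3974) (.leaf 7222))) (.node (.node (.leaf 2676) (.leaf 6856)) (.node (.leaf 5307) (.leaf 0)))) (.node (.node (.node (.leaf 1858) (.leaf 1241)) (.node (.leaf 878) (.leaf 7303))) (.node (.node (.leaf 3422) (.leaf 6229)) (.node (.leaf 5811) (.leaf 0))))))))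

def he0T28 : NT := .node (.node (.node (.node (.node (.node (.node (.node (.leaf 57) (.leaf 5845)) (.node (.leaf 3470) (.leaf 6556))) (.node (.node (.leaf 1911) (.leaf 5056)) (.node (.leaf 391) (.leaf 6818)))) (.node (.node (.node (.leaf 1025) (.leaf 2014)) (.node (.leaf 960) (.leaf 5711))) (.node (.node (.leaf 2725) (.leaf 3249)) (.node (.leaf 5342) (.leaf 0))))) (.node (.node (.node (.node (.leaf 553) (.leaf 6043)) (.node (.leaf 3817) (.leaf 5213))) (.node (.node (.leaf 2329) (.leaf 6716)) (.node (.leaf 2873) (.leaf 0)))) (.node (.node (.node (.leaf 1476) (.leaf 6420)) (.node (.leaf 4483) (.leaf 1556))) (.node (.node (.leaf 3100) (.leaf 3692)) (.node (.leaf 5551) (.leaf 0)))))) (.node (.node (.node (.node (.node (.leaf 308) (.leaf 5948)) (.node (.leaf 3299) (.leaf 5026))) (.node (.node (.leaf 2122) (.leaf 6221)) (.node (.leaf 4934) (.leaf 5939)))) (.node (.node (.node (.leaf 1203) (.leaf 4524)) (.node (.leaf 3922) (.leaf 1974))) (.node (.node (.leaf 2909) (.leaf 5744)) (.node (.leaf 5476) (.leaf 0))))) (.node (.node (.node (.node (.leaf 791) (.leaf 1880)) (.node (.leaf 2861) (.leaf 6675))) (.node (.node (.leaf 2527)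 (.leaf 6156)) (.node (.leaf 5212) (.leaf 0)))) (.node (.node (.node (.leaf 1692) (.leaf 6515)) (.node (.leaf 4639) (.leaf 6052))) (.node (.node (.leaf 3293) (.leaf 6302)) (.node (.leaf 5722) (.leaf 0))))))) (.node (.node (.node (.node (.node (.node (.leaf 183) (.leaf 5820)) (.node (.leaf 3563) (.leaf 2700))) (.node (.node (.leaf 1798) (.leaf 163)) (.node (.leaf 4859) (.leaf 7204)))) (.node (.node (.node (.leaf 922) (.leaf 4778)) (.node (.leaf 4243) (.leaf 6370))) (.node (.node (.leaf 2817) (.leaf 5600)) (.node (.leaf 2949) (.leaf 0))))) (.node (.node (.node (.node (.leaf 672) (.leaf 6089)) (.node (.leaf 3908) (.leaf 712))) (.node (.node (.leaf 2431) (.leaf 6781)) (.node (.leaf 3810) (.leaf 0)))) (.node (.node (.node (.leaf 1586) (.leaf 5376)) (.node (.leaf 4556) (.leaf 7029))) (.node (.node (.leaf 3197) (.leaf 4462)) (.node (.leaf 5658) (.leaf 0)))))) (.node (.node (.node (.node (.node (.leaf 430) (.leaf 5323)) (.node (.leaf 619) (.leaf 4019))) (.node (.node (.leaf 2226) (.leaf 6718)) (.node (.leaf 2915) (.leaf 0)))) (.node (.node (.node (.leaf 1366) (.leaf 1097)) (.node (.leaf 3674) (.leaf 5327))) (.node (.node (.leaf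 2960) (.leaf 1049)) (.node (.leaf 1035) (.leaf 0))))) (.node (.node (.node (.node (.leaf 906) (.leaf 6199)) (.node (.leaf 901) (.leaf 1944))) (.node (.node (.leaf 2627) (.leaf 6141)) (.node (.leaf 5112) (.leaf 0)))) (.node (.node (.node (.leaf 1803) (.leaf 6554)) (.node (.leaf 4713) (.leaf 5812))) (.node (.node (.leaf 119) (.leaf 3150)) (.node (.leaf 4878) (.leaf 0)))))))) (.node (.node (.node (.node (.node (.node (.node (.leaf 120) (.leaf 5875)) (.node (.leaf 1697) (.leaf 7090))) (.node (.node (.leaf 1967) (.leaf 4666)) (.node (.leaf 4823) (.leaf 6671)))) (.node (.node (.node (.leaf 1085) (.leaf 4988)) (.node (.leaf 4208) (.leaf 6268))) (.node (.node (.leaf 1554) (.leaf 6887)) (.node (.leaf 2810) (.leaf 0))))) (.node (.node (.node (.node (.leaf 612) (.leaf 169)) (.node (.leaf 3859) (.leaf 2250))) (.node (.node (.leaf 2378) (.leaf 6762)) (.node (.leaf 4797) (.leaf 0)))) (.node (.node (.node (.leaf 1531) (.leaf 985)) (.node (.leaf 1295) (.leaf 918))) (.node (.node (.leaf 3149) (.leaf 3025)) (.node (.leaf 5629) (.leaf 0)))))) (.node (.node (.node (.node (.node (.leaf 369) (.leaf 5106)) (.node (.leaf 3691) (.leaf 7131)))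 (.node (.node (.leaf 2173) (.leaf 6696)) (.node (.leaf 4105) (.leaf 0)))) (.node (.node (.node (.leaf 1309) (.leaf 2723)) (.node (.leaf 4358) (.leaf 4421))) (.node (.node (.leaf 2959) (.leaf 6952)) (.node (.leaf 5512) (.leaf 0))))) (.node (.node (.node (.node (.leaf 850) (.leaf 3658)) (.node (.leaf 4045) (.leaf 7109))) (.node (.node (.leaf 2577) (.leaf 6356)) (.node (.leaf 84) (.leaf 0)))) (.node (.node (.node (.leaf 1748) (.leaf 2850)) (.node (.leaf 4675) (.leaf 952))) (.node (.node (.leaf 3337) (.leaf 5023)) (.node (.leaf 3948) (.leaf 0))))))) (.node (.node (.node (.node (.node (.node (.leaf 245) (.leaf 5921)) (.node (.leaf 3606) (.leaf 7111))) (.node (.node (.leaf 2074) (.leaf 5261)) (.node (.leaf 4892) (.leaf 7279)))) (.node (.node (.node (.leaf 1196) (.leaf 6315)) (.node (.leaf 4282) (.leaf 7249))) (.node (.node (.leaf 2865) (.leaf 6915)) (.node (.leaf 1684) (.leaf 0))))) (.node (.node (.node (.node (.leaf 729) (.leaf 6112)) (.node (.leaf 3955) (.leaf 879))) (.node (.node (.leaf 2484) (.leaf 6676)) (.node (.leaf 5171) (.leaf 0)))) (.node (.node (.node (.leaf 1639) (.leaf 6488)) (.node (.leaf 4598) (.leaf 2064))) (.node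 (.node (.leaf 3245) (.leaf 622)) (.node (.leaf 5688) (.leaf 0)))))) (.node (.node (.node (.node (.node (.leaf 490) (.leaf 6028)) (.node (.leaf 1290) (.leaf 7155))) (.node (.node (.leaf 2281) (.leaf 5021)) (.node (.leaf 5033) (.leaf 0)))) (.node (.node (.node (.leaf 1419) (.leaf 113)) (.node (.leaf 4441) (.leaf 7285))) (.node (.node (.leaf 3054) (.leaf 6135)) (.node (.leaf 3700) (.leaf 0))))) (.node (.node (.node (.node (.leaf 966) (.leaf 6224)) (.node (.leaf 4104) (.leaf 503))) (.node (.node (.leaf 2677) (.leaf 4153)) (.node (.leaf 5309) (.leaf 0)))) (.node (.node (.node (.leaf 1860) (.leaf 4062)) (.node (.leaf 1520) (.leaf 4236))) (.node (.node (.leaf 3230) (.leaf 754)) (.node (.leaf 3136) (.leaf 0))))))))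

def he0T29 : NT := .node (.node (.node (.node (.node (.node (.node (.node (.leaf 59) (.leaf 319)) (.node (.leaf 3472) (.leaf 7001))) (.node (.node (.leaf 1913) (.leaf 5306)) (.node (.leaf 16) (.leaf 6031)))) (.node (.node (.node (.leaf 1027) (.leaf 3306)) (.node (.leaf 2476) (.leaf 7234))) (.node (.node (.leaf 2727) (.leaf 6018)) (.node (.leaf 5344) (.leaf 0))))) (.node (.node (.node (.node (.leaf 555) (.leaf 6045)) (.node (.leaf 2835) (.leaf 5150))) (.node (.node (.leaf 2330) (.leaf 6457)) (.node (.leaf 5055) (.leaf 0)))) (.node (.node (.node (.leaf 1478) (.leaf 6409)) (.node (.leaf 4485) (.leaf 6206))) (.node (.node (.leaf 3102) (.leaf 5562)) (.node (.leaf 2870) (.leaf 0)))))) (.node (.node (.node (.node (.node (.leaf 310) (.leaf 5950)) (.node (.leaf 3651) (.leaf 6510))) (.node (.node (.leaf 2124) (.leaf 6674)) (.node (.leaf 4936) (.leaf 3966)))) (.node (.node (.node (.leaf 1257) (.leaf 6347)) (.node (.leaf 4319) (.leaf 5415))) (.node (.node (.leaf 1938) (.leaf 4770)) (.node (.leaf 5471) (.leaf 0))))) (.node (.node (.node (.node (.leaf 793) (.leaf 1429)) (.node (.leaf 3998) (.leaf 452))) (.node (.node (.leaf 2528) (.leaf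 6594)) (.node (.leaf 2855) (.leaf 0)))) (.node (.node (.node (.leaf 1694) (.leaf 1662)) (.node (.leaf 4640) (.leaf 4835))) (.node (.node (.leaf 3295) (.leaf 4865)) (.node (.leaf 5586) (.leaf 0))))))) (.node (.node (.node (.node (.node (.node (.leaf 185) (.leaf 2024)) (.node (.leaf 44) (.leaf 1056))) (.node (.node (.leaf 671) (.leaf 3486)) (.node (.leaf 4860) (.leaf 1534)))) (.node (.node (.node (.leaf 1142) (.leaf 6296)) (.node (.leaf 2393) (.leaf 6628))) (.node (.node (.leaf 2819) (.leaf 6217)) (.node (.leaf 3797) (.leaf 0))))) (.node (.node (.node (.node (.leaf 674) (.leaf 5716)) (.node (.leaf 3909) (.leaf 1532))) (.node (.node (.leaf 2433) (.leaf 6274)) (.node (.leaf 5135) (.leaf 0)))) (.node (.node (.node (.leaf 1587) (.leaf 6064)) (.node (.leaf 4557) (.leaf 4537))) (.node (.node (.leaf 3199) (.leaf 5260)) (.node (.leaf 5660) (.leaf 0)))))) (.node (.node (.node (.node (.node (.leaf 432) (.leaf 2091)) (.node (.leaf 3735) (.leaf 4830))) (.node (.node (.leaf 2228) (.leaf 4430)) (.node (.leaf 3671) (.leaf 0)))) (.node (.node (.node (.leaf 1368) (.leaf 3641)) (.node (.leaf 764) (.leaf 6100))) (.node (.node (.leaf 3015)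 (.leaf 6214)) (.node (.leaf 5478) (.leaf 0))))) (.node (.node (.node (.node (.leaf 908) (.leaf 2441)) (.node (.leaf 4084) (.leaf 6719))) (.node (.node (.leaf 2629) (.leaf 6836)) (.node (.leaf 5278) (.leaf 0)))) (.node (.node (.node (.leaf 652) (.leaf 4394)) (.node (.leaf 414) (.leaf 7328))) (.node (.node (.leaf 1740) (.leaf 6794)) (.node (.leaf 5781) (.leaf 0)))))))) (.node (.node (.node (.node (.node (.node (.node (.leaf 122) (.leaf 5876)) (.node (.leaf 3523) (.leaf 1916))) (.node (.node (.leaf 1969) (.leaf 762)) (.node (.leaf 3989) (.leaf 6448)))) (.node (.node (.node (.leaf 1087) (.leaf 6276)) (.node (.leaf 956) (.leaf 7216))) (.node (.node (.leaf 2773) (.leaf 4452)) (.node (.leaf 5380) (.leaf 0))))) (.node (.node (.node (.node (.leaf 614) (.leaf 6068)) (.node (.leaf 3861) (.leaf 7025))) (.node (.node (.leaf 2379) (.leaf 6181)) (.node (.leaf 2467) (.leaf 0)))) (.node (.node (.node (.leaf 1533) (.leaf 5142)) (.node (.leaf 4528) (.leaf 448))) (.node (.node (.leaf 1928) (.leaf 5647)) (.node (.leaf 5631) (.leaf 0)))))) (.node (.node (.node (.node (.node (.leaf 371) (.leaf 198)) (.node (.leaf 3683) (.leaf 2357))) (.node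 (.node (.leaf 2175) (.leaf 6697)) (.node (.leaf 4971) (.leaf 0)))) (.node (.node (.node (.leaf 1311) (.leaf 628)) (.node (.leaf 4360) (.leaf 3312))) (.node (.node (.leaf 2961) (.leaf 2706)) (.node (.leaf 5513) (.leaf 0))))) (.node (.node (.node (.node (.leaf 852) (.leaf 5983)) (.node (.leaf 3074) (.leaf 4401))) (.node (.node (.leaf 2579) (.leaf 6182)) (.node (.leaf 2107) (.leaf 0)))) (.node (.node (.node (.leaf 1749) (.leaf 6537)) (.node (.leaf 4676) (.leaf 7239))) (.node (.node (.leaf 3339) (.leaf 437)) (.node (.leaf 4357) (.leaf 0))))))) (.node (.node (.node (.node (.node (.node (.leaf 247) (.leaf 5922)) (.node (.leaf 2453) (.leaf 6673))) (.node (.node (.leaf 2076) (.leaf 6652)) (.node (.leaf 206) (.leaf 4377)))) (.node (.node (.node (.leaf 1198) (.leaf 6275)) (.node (.leaf 4284) (.leaf 4802))) (.node (.node (.leaf 346) (.leaf 1645)) (.node (.leaf 4697) (.leaf 0))))) (.node (.node (.node (.node (.leaf 731) (.leaf 5579)) (.node (.leaf 3956) (.leaf 7198))) (.node (.node (.leaf 2486) (.leaf 6069)) (.node (.leaf 5172) (.leaf 0)))) (.node (.node (.node (.leaf 1641) (.leaf 6485)) (.node (.leaf 4599) (.leaf 758))) (.node (.node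 (.leaf 3247) (.leaf 6255)) (.node (.leaf 5689) (.leaf 0)))))) (.node (.node (.node (.node (.node (.leaf 492) (.leaf 5959)) (.node (.leaf 3775) (.leaf 2882))) (.node (.node (.leaf 2282) (.leaf 6466)) (.node (.leaf 874) (.leaf 0)))) (.node (.node (.node (.leaf 1421) (.leaf 4837)) (.node (.leaf 4431) (.leaf 5590))) (.node (.node (.leaf 3056) (.leaf 4477)) (.node (.leaf 262) (.leaf 0))))) (.node (.node (.node (.node (.leaf 968) (.leaf 3449)) (.node (.leaf 2743) (.leaf 7061))) (.node (.node (.leaf 1819) (.leaf 6846)) (.node (.leaf 4875) (.leaf 0)))) (.node (.node (.node (.leaf 971) (.leaf 2775)) (.node (.leaf 3942) (.leaf 5109))) (.node (.node (.leaf 3379) (.leaf 7072)) (.node (.leaf 5814) (.leaf 0))))))))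

def he0T30 : NT := .node (.node (.node (.node (.node (.node (.node (.node (.leaf 61) (.leaf 5847)) (.node (.leaf 3463) (.leaf 1279))) (.node (.node (.leaf 1514) (.leaf 5569)) (.node (.leaf 224) (.leaf 7263)))) (.node (.node (.node (.leaf 1029) (.leaf 6238)) (.node (.leaf 4164) (.leaf 3353))) (.node (.node (.leaf 2729) (.leaf 6519)) (.node (.leaf 2361) (.leaf 0))))) (.node (.node (.node (.node (.leaf 556) (.leaf 6046)) (.node (.leaf 3820) (.leaf 6395))) (.node (.node (.leaf 2150) (.leaf 6605)) (.node (.leaf 3889) (.leaf 0)))) (.node (.node (.node (.leaf 1479) (.leaf 1271)) (.node (.leaf 3144) (.leaf 6667))) (.node (.node (.leaf 3104) (.leaf 6538)) (.node (.leaf 5605) (.leaf 0)))))) (.node (.node (.node (.node (.node (.leaf 312) (.leaf 4148)) (.node (.leaf 3643) (.leaf 2878))) (.node (.node (.leaf 2126) (.leaf 1682)) (.node (.leaf 1796) (.leaf 5154)))) (.node (.node (.node (.leaf 1259) (.leaf 5690)) (.node (.leaf 4321) (.leaf 6720))) (.node (.node (.leaf 2912) (.leaf 3006)) (.node (.leaf 4221) (.leaf 0))))) (.node (.node (.node (.node (.leaf 795) (.leaf 6142)) (.node (.leaf 4000) (.leaf 6505))) (.node (.node (.leaf 2430)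 (.leaf 6426)) (.node (.leaf 1258) (.leaf 0)))) (.node (.node (.node (.leaf 1696) (.leaf 4210)) (.node (.leaf 1614) (.leaf 3531))) (.node (.node (.leaf 109) (.leaf 7018)) (.node (.leaf 5134) (.leaf 0))))))) (.node (.node (.node (.node (.node (.node (.leaf 187) (.leaf 2374)) (.node (.leaf 1195) (.leaf 64))) (.node (.node (.leaf 2025) (.leaf 6547)) (.node (.leaf 4841) (.leaf 5467)))) (.node (.node (.node (.leaf 1144) (.leaf 6297)) (.node (.leaf 4245) (.leaf 7127))) (.node (.node (.leaf 2821) (.leaf 6902)) (.node (.leaf 5410) (.leaf 0))))) (.node (.node (.node (.node (.leaf 676) (.leaf 5300)) (.node (.leaf 945) (.leaf 6374))) (.node (.node (.leaf 2435) (.leaf 6776)) (.node (.leaf 2767) (.leaf 0)))) (.node (.node (.node (.leaf 546) (.leaf 2649)) (.node (.leaf 4461) (.leaf 3157))) (.node (.node (.leaf 3201) (.leaf 5659)) (.node (.leaf 2632) (.leaf 0)))))) (.node (.node (.node (.node (.node (.leaf 434) (.leaf 5269)) (.node (.leaf 1039) (.leaf 7148))) (.node (.node (.leaf 2230) (.leaf 4294)) (.node (.leaf 5003) (.leaf 0)))) (.node (.node (.node (.leaf 1356) (.leaf 5353)) (.node (.leaf 4402) (.leaf 7281))) (.node (.node (.leaf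 3004) (.leaf 6491)) (.node (.leaf 5548) (.leaf 0))))) (.node (.node (.node (.node (.leaf 910) (.leaf 4322)) (.node (.leaf 4086) (.leaf 2795))) (.node (.node (.leaf 2631) (.leaf 6842)) (.node (.leaf 2197) (.leaf 0)))) (.node (.node (.node (.leaf 1806) (.leaf 6557)) (.node (.leaf 4627) (.leaf 7130))) (.node (.node (.leaf 3386) (.leaf 1903)) (.node (.leaf 5783) (.leaf 0)))))))) (.node (.node (.node (.node (.node (.node (.node (.leaf 124) (.leaf 5877)) (.node (.leaf 1283) (.leaf 5930))) (.node (.node (.leaf 1971) (.leaf 6614)) (.node (.leaf 4825) (.leaf 794)))) (.node (.node (.node (.leaf 1088) (.leaf 2566)) (.node (.leaf 2472) (.leaf 7238))) (.node (.node (.leaf 2774) (.leaf 457)) (.node (.leaf 5382) (.leaf 0))))) (.node (.node (.node (.node (.leaf 616) (.leaf 5189)) (.node (.leaf 3331) (.leaf 7108))) (.node (.node (.leaf 2381) (.leaf 6765)) (.node (.leaf 5099) (.leaf 0)))) (.node (.node (.node (.leaf 1535) (.leaf 5937)) (.node (.leaf 1186) (.leaf 7237))) (.node (.node (.leaf 3152) (.leaf 5381)) (.node (.leaf 5632) (.leaf 0)))))) (.node (.node (.node (.node (.node (.leaf 373) (.leaf 5980)) (.node (.leaf 3693) (.leaf 7132)))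 (.node (.node (.leaf 2177) (.leaf 6691)) (.node (.leaf 4973) (.leaf 0)))) (.node (.node (.node (.leaf 1313) (.leaf 2531)) (.node (.leaf 4362) (.leaf 3712))) (.node (.node (.leaf 2963) (.leaf 477)) (.node (.leaf 3256) (.leaf 0))))) (.node (.node (.node (.node (.leaf 854) (.leaf 1498)) (.node (.leaf 2561) (.leaf 6063))) (.node (.node (.leaf 2580) (.leaf 6287)) (.node (.leaf 4165) (.leaf 0)))) (.node (.node (.node (.leaf 1750) (.leaf 2539)) (.node (.leaf 4678) (.leaf 5747))) (.node (.node (.leaf 3341) (.leaf 3522)) (.node (.leaf 5754) (.leaf 0))))))) (.node (.node (.node (.node (.node (.node (.leaf 249) (.leaf 4265)) (.node (.leaf 26) (.leaf 6931))) (.node (.node (.leaf 2077) (.leaf 1777)) (.node (.leaf 4812) (.leaf 2496)))) (.node (.node (.node (.leaf 1200) (.leaf 3375)) (.node (.leaf 4286) (.leaf 532))) (.node (.node (.leaf 2868) (.leaf 6559)) (.node (.leaf 2587) (.leaf 0))))) (.node (.node (.node (.node (.leaf 733) (.leaf 4905)) (.node (.leaf 3958) (.leaf 5715))) (.node (.node (.leaf 2488) (.leaf 6792)) (.node (.leaf 5174) (.leaf 0)))) (.node (.node (.node (.leaf 1643) (.leaf 3950)) (.node (.leaf 4600) (.leaf 6397))) (.node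 (.node (.leaf 2975) (.leaf 7031)) (.node (.leaf 4006) (.leaf 0)))))) (.node (.node (.node (.node (.node (.leaf 494) (.leaf 5166)) (.node (.leaf 3030) (.leaf 7158))) (.node (.node (.leaf 2284) (.leaf 6695)) (.node (.leaf 5036) (.leaf 0)))) (.node (.node (.node (.leaf 1423) (.leaf 5603)) (.node (.leaf 2918) (.leaf 5765))) (.node (.node (.leaf 36) (.leaf 6979)) (.node (.leaf 5584) (.leaf 0))))) (.node (.node (.node (.node (.leaf 970) (.leaf 131)) (.node (.leaf 4121) (.leaf 590))) (.node (.node (.leaf 2679) (.leaf 4948)) (.node (.leaf 5206) (.leaf 0)))) (.node (.node (.node (.leaf 1863) (.leaf 2239)) (.node (.leaf 4757) (.leaf 2353))) (.node (.node (.leaf 1577) (.leaf 7073)) (.node (.leaf 5815) (.leaf 0))))))))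

def he0T31 : NT := .node (.node (.node (.node (.node (.node (.node (.node (.leaf 63) (.leaf 3093)) (.node (.leaf 3475) (.leaf 2294))) (.node (.node (.leaf 1915) (.leaf 6603)) (.node (.leaf 4271) (.leaf 6029)))) (.node (.node (.node (.leaf 1030) (.leaf 3395)) (.node (.leaf 3753) (.leaf 6890))) (.node (.node (.leaf 2731) (.leaf 5266)) (.node (.leaf 5347) (.leaf 0))))) (.node (.node (.node (.node (.leaf 558) (.leaf 5703)) (.node (.leaf 3822) (.leaf 6501))) (.node (.node (.leaf 2333) (.leaf 5487)) (.node (.leaf 4498) (.leaf 0)))) (.node (.node (.node (.leaf 1481) (.leaf 4455)) (.node (.leaf 4487) (.leaf 3952))) (.node (.node (.leaf 3106) (.leaf 5695)) (.node (.leaf 5514) (.leaf 0)))))) (.node (.node (.node (.node (.node (.leaf 314) (.leaf 5791)) (.node (.leaf 3653) (.leaf 272))) (.node (.node (.leaf 2128) (.leaf 6580)) (.node (.leaf 3964) (.leaf 7268)))) (.node (.node (.node (.leaf 1261) (.leaf 2094)) (.node (.leaf 4323) (.leaf 4945))) (.node (.node (.leaf 2914) (.leaf 6293)) (.node (.leaf 5479) (.leaf 0))))) (.node (.node (.node (.node (.leaf 796) (.leaf 6014)) (.node (.leaf 941) (.leaf 366))) (.node (.node (.leaf 2530)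 (.leaf 6806)) (.node (.leaf 5214) (.leaf 0)))) (.node (.node (.node (.leaf 1698) (.leaf 6517)) (.node (.leaf 4642) (.leaf 474))) (.node (.node (.leaf 3298) (.leaf 7043)) (.node (.leaf 5724) (.leaf 0))))))) (.node (.node (.node (.node (.node (.node (.leaf 189) (.leaf 4515)) (.node (.leaf 2591) (.leaf 734))) (.node (.node (.leaf 1721) (.leaf 6615)) (.node (.leaf 1054) (.leaf 6419)))) (.node (.node (.node (.leaf 1146) (.leaf 5247)) (.node (.leaf 4246) (.leaf 4162))) (.node (.node (.leaf 2823) (.leaf 6025)) (.node (.leaf 5411) (.leaf 0))))) (.node (.node (.node (.node (.leaf 678) (.leaf 4912)) (.node (.leaf 3911) (.leaf 5404))) (.node (.node (.leaf 2436) (.leaf 2448)) (.node (.leaf 5137) (.leaf 0)))) (.node (.node (.node (.leaf 1590) (.leaf 6463)) (.node (.leaf 2331) (.leaf 2011))) (.node (.node (.leaf 3202) (.leaf 5400)) (.node (.leaf 5662) (.leaf 0)))))) (.node (.node (.node (.node (.node (.leaf 436) (.leaf 6009)) (.node (.leaf 10) (.leaf 7149))) (.node (.node (.leaf 2232) (.leaf 6722)) (.node (.leaf 3519) (.leaf 0)))) (.node (.node (.node (.leaf 1371) (.leaf 6382)) (.node (.leaf 4403) (.leaf 7032))) (.node (.node (.leaf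 1338) (.leaf 6584)) (.node (.leaf 5550) (.leaf 0))))) (.node (.node (.node (.node (.leaf 912) (.leaf 6200)) (.node (.leaf 4088) (.leaf 4350))) (.node (.node (.leaf 2633) (.leaf 5273)) (.node (.leaf 5280) (.leaf 0)))) (.node (.node (.node (.leaf 1808) (.leaf 6558)) (.node (.leaf 4717) (.leaf 5285))) (.node (.node (.leaf 1064) (.leaf 964)) (.node (.leaf 2324) (.leaf 0)))))))) (.node (.node (.node (.node (.node (.node (.node (.leaf 126) (.leaf 248)) (.node (.leaf 3526) (.leaf 6366))) (.node (.node (.leaf 1973) (.leaf 6551)) (.node (.leaf 4827) (.leaf 4214)))) (.node (.node (.node (.leaf 1090) (.leaf 6277)) (.node (.leaf 4212) (.leaf 7244))) (.node (.node (.leaf 2776) (.leaf 5638)) (.node (.leaf 1708) (.leaf 0))))) (.node (.node (.node (.node (.leaf 618) (.leaf 6070)) (.node (.leaf 3864) (.leaf 5890))) (.node (.node (.leaf 2383) (.leaf 3447)) (.node (.leaf 3355) (.leaf 0)))) (.node (.node (.node (.leaf 1537) (.leaf 6447)) (.node (.leaf 1431) (.leaf 5058))) (.node (.node (.leaf 3154) (.leaf 5753)) (.node (.leaf 2038) (.leaf 0)))))) (.node (.node (.node (.node (.node (.leaf 375) (.leaf 3142)) (.node (.leaf 438) (.leaf 7012)))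 (.node (.node (.leaf 2166) (.leaf 481)) (.node (.leaf 4974) (.leaf 0)))) (.node (.node (.node (.leaf 1101) (.leaf 4273)) (.node (.leaf 4364) (.leaf 3799))) (.node (.node (.leaf 2965) (.leaf 1841)) (.node (.leaf 1021) (.leaf 0))))) (.node (.node (.node (.node (.leaf 856) (.leaf 6172)) (.node (.leaf 501) (.leaf 3784))) (.node (.node (.leaf 2582) (.leaf 4432)) (.node (.leaf 5246) (.leaf 0)))) (.node (.node (.node (.leaf 1751) (.leaf 6355)) (.node (.leaf 4680) (.leaf 7256))) (.node (.node (.leaf 3343) (.leaf 4482)) (.node (.leaf 5756) (.leaf 0))))))) (.node (.node (.node (.node (.node (.node (.leaf 251) (.leaf 1934)) (.node (.leaf 3609) (.leaf 4424))) (.node (.node (.leaf 2079) (.leaf 4395)) (.node (.leaf 4894) (.leaf 2487)))) (.node (.node (.node (.leaf 1202) (.leaf 2318)) (.node (.leaf 4287) (.leaf 5776))) (.node (.node (.leaf 2869) (.leaf 4946)) (.node (.leaf 5445) (.leaf 0))))) (.node (.node (.node (.node (.leaf 735) (.leaf 6114)) (.node (.leaf 3959) (.leaf 2898))) (.node (.node (.leaf 1285) (.leaf 4054)) (.node (.leaf 5176) (.leaf 0)))) (.node (.node (.node (.leaf 1439) (.leaf 1448)) (.node (.leaf 4602) (.leaf 7136)))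 (.node (.node (.leaf 3248) (.leaf 5412)) (.node (.leaf 5691) (.leaf 0)))))) (.node (.node (.node (.node (.node (.leaf 496) (.leaf 6030)) (.node (.leaf 372) (.leaf 5229))) (.node (.node (.leaf 2285) (.leaf 3170)) (.node (.leaf 4967) (.leaf 0)))) (.node (.node (.node (.leaf 1424) (.leaf 6399)) (.node (.leaf 4445) (.leaf 6265))) (.node (.node (.leaf 983) (.leaf 3981)) (.node (.leaf 4099) (.leaf 0))))) (.node (.node (.node (.node (.leaf 972) (.leaf 2947)) (.node (.leaf 4123) (.leaf 7224))) (.node (.node (.leaf 2681) (.leaf 1207)) (.node (.leaf 3435) (.leaf 0)))) (.node (.node (.node (.leaf 724) (.leaf 6585)) (.node (.leaf 4082) (.leaf 6006))) (.node (.node (.leaf 3426) (.leaf 3441)) (.node (.leaf 1921) (.leaf 0))))))))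

def he0T : NT := .node (.node (.node (.node (.node (he0T0) (he0T16)) (.node (he0T8) (he0T24))) (.node (.node (he0T4) (he0T20)) (.node (he0T12) (he0T28)))) (.node (.node (.node (he0T2) (he0T18)) (.node (he0T10) (he0T26))) (.node (.node (he0T6) (he0T22)) (.node (he0T14) (he0T30))))) (.node (.node (.node (.node (he0T1) (he0T17)) (.node (he0T9) (he0T25))) (.node (.node (he0T5) (he0T21)) (.node (he0T13) (he0T29)))) (.node (.node (.node (he0T3) (he0T19)) (.node (he0T11) (he0T27))) (.node (.node (he0T7) (he0T23)) (.node (he0T15) (he0T31)))))

def he1T0 : NT := .node (.node (.node (.node (.node (.node (.node (.node (.leaf 2) (.leaf 608)) (.node (.leaf 3429) (.leaf 7010))) (.node (.node (.leaf 1867) (.leaf 5826)) (.node (.leaf 4760) (.leaf 1918)))) (.node (.node (.node (.leaf 975) (.leaf 6126)) (.node (.leaf 4126) (.leaf 7139))) (.node (.node (.leaf 2683) (.leaf 627)) (.node (.leaf 5314) (.leaf 0))))) (.node (.node (.node (.node (.leaf 499) (.leaf 404)) (.node (.leaf 3780) (.leaf 6970))) (.node (.node (.leaf 2287) (.leaf 6522)) (.node (.leaf 5038) (.leaf 0)))) (.node (.node (.node (.leaf 1427) (.leaf 6401)) (.node (.leaf 4447)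 (.leaf 7287))) (.node (.node (.leaf 3060) (.leaf 5980)) (.node (.leaf 3389) (.leaf 0)))))) (.node (.node (.node (.node (.node (.leaf 254) (.leaf 4585)) (.node (.leaf 3612) (.leaf 4386))) (.node (.node (.leaf 2082) (.leaf 6121)) (.node (.leaf 4896) (.leaf 2258)))) (.node (.node (.node (.leaf 1205) (.leaf 6318)) (.node (.leaf 3841) (.leaf 2997))) (.node (.node (.leaf 1174) (.leaf 6916)) (.node (.leaf 5446) (.leaf 0))))) (.node (.node (.node (.node (.leaf 738) (.leaf 2376)) (.node (.leaf 3960) (.leaf 5522))) (.node (.node (.leaf 2491) (.leaf 6794)) (.node (.leaf 5179) (.leaf 0)))) (.node (.node (.node (.leaf 1647) (.leaf 6492)) (.node (.leaf 4605) (.leaf 7311))) (.node (.node (.leaf 665) (.leaf 3606)) (.node (.leaf 5694) (.leaf 0))))))) (.node (.node (.node (.node (.node (.node (.leaf 129) (.leaf 5879)) (.node (.leaf 2548) (.leaf 3584))) (.node (.node (.leaf 1976) (.leaf 55)) (.node (.leaf 4828) (.leaf 2637)))) (.node (.node (.node (.leaf 241) (.leaf 6280)) (.node (.leaf 4214) (.leaf 1440))) (.node (.node (.leaf 17) (.leaf 6890)) (.node (.leaf 2671) (.leaf 0))))) (.node (.node (.node (.node (.leaf 621) (.leaf 6072)) (.node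 (.leaf 3866) (.leaf 2660))) (.node (.node (.leaf 1679) (.leaf 5182)) (.node (.leaf 2459) (.leaf 0)))) (.node (.node (.node (.leaf 1539) (.leaf 6448)) (.node (.leaf 4268) (.leaf 7187))) (.node (.node (.leaf 3156) (.leaf 6986)) (.node (.leaf 1083) (.leaf 0)))))) (.node (.node (.node (.node (.node (.leaf 378) (.leaf 5982)) (.node (.leaf 3696) (.leaf 6824))) (.node (.node (.leaf 2181) (.leaf 3845)) (.node (.leaf 4949) (.leaf 0)))) (.node (.node (.node (.leaf 1316) (.leaf 2986)) (.node (.leaf 4367) (.leaf 7271))) (.node (.node (.leaf 2967) (.leaf 6652)) (.node (.leaf 3994) (.leaf 0))))) (.node (.node (.node (.node (.leaf 858) (.leaf 375)) (.node (.leaf 4050) (.leaf 6978))) (.node (.node (.leaf 2585) (.leaf 4051)) (.node (.leaf 5248) (.leaf 0)))) (.node (.node (.node (.leaf 1754) (.leaf 500)) (.node (.leaf 4683) (.leaf 912))) (.node (.node (.leaf 3344) (.leaf 4676)) (.node (.leaf 5759) (.leaf 0)))))))) (.node (.node (.node (.node (.node (.node (.node (.leaf 66) (.leaf 5828)) (.node (.leaf 3478) (.leaf 5199))) (.node (.node (.leaf 1204) (.leaf 6604)) (.node (.leaf 4795) (.leaf 2742)))) (.node (.node (.node (.leaf 1033) (.leaf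 2214)) (.node (.leaf 4168) (.leaf 6443))) (.node (.node (.leaf 2734) (.leaf 3749)) (.node (.leaf 3343) (.leaf 0))))) (.node (.node (.node (.node (.leaf 560) (.leaf 6050)) (.node (.leaf 3825) (.leaf 5465))) (.node (.node (.leaf 2336) (.leaf 5512)) (.node (.leaf 4550) (.leaf 0)))) (.node (.node (.node (.leaf 1484) (.leaf 6424)) (.node (.leaf 4490) (.leaf 3969))) (.node (.node (.leaf 3108) (.leaf 4899)) (.node (.leaf 3247) (.leaf 0)))))) (.node (.node (.node (.node (.node (.leaf 317) (.leaf 2557)) (.node (.leaf 3656) (.leaf 2951))) (.node (.node (.leaf 2129) (.leaf 6676)) (.node (.leaf 4940) (.leaf 3028)))) (.node (.node (.node (.leaf 1264) (.leaf 2323)) (.node (.leaf 4325) (.leaf 4746))) (.node (.node (.leaf 49) (.leaf 3965)) (.node (.leaf 5148) (.leaf 0))))) (.node (.node (.node (.node (.leaf 799) (.leaf 6071)) (.node (.leaf 4003) (.leaf 4027))) (.node (.node (.leaf 2532) (.leaf 6807)) (.node (.leaf 4114) (.leaf 0)))) (.node (.node (.node (.leaf 1700) (.leaf 533)) (.node (.leaf 4645) (.leaf 1521))) (.node (.node (.leaf 3300) (.leaf 3042)) (.node (.leaf 1485) (.leaf 0))))))) (.node (.node (.node (.node (.node (.node (.leaf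 192) (.leaf 4984)) (.node (.leaf 3567) (.leaf 4100))) (.node (.node (.leaf 725) (.leaf 4088)) (.node (.leaf 3394) (.leaf 4974)))) (.node (.node (.node (.leaf 1012) (.leaf 4881)) (.node (.leaf 2185) (.leaf 2679))) (.node (.node (.leaf 506) (.leaf 6903)) (.node (.leaf 5414) (.leaf 0))))) (.node (.node (.node (.node (.leaf 681) (.leaf 3223)) (.node (.leaf 3914) (.leaf 7191))) (.node (.node (.leaf 2439) (.leaf 6784)) (.node (.leaf 5139) (.leaf 0)))) (.node (.node (.node (.leaf 1592) (.leaf 4138)) (.node (.leaf 4561) (.leaf 7150))) (.node (.node (.leaf 2390) (.leaf 2090)) (.node (.leaf 5665) (.leaf 0)))))) (.node (.node (.node (.node (.node (.leaf 438) (.leaf 4341)) (.node (.leaf 3739) (.leaf 6299))) (.node (.node (.leaf 2235) (.leaf 6723)) (.node (.leaf 5005) (.leaf 0)))) (.node (.node (.node (.leaf 1374) (.leaf 3886)) (.node (.leaf 4405) (.leaf 5114))) (.node (.node (.leaf 3018) (.leaf 5196)) (.node (.leaf 5553) (.leaf 0))))) (.node (.node (.node (.node (.leaf 914) (.leaf 6202)) (.node (.leaf 1812) (.leaf 1095))) (.node (.node (.leaf 2636) (.leaf 6843)) (.node (.leaf 2720) (.leaf 0)))) (.node (.node (.node (.leaf 1811) (.leaf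 5632)) (.node (.leaf 1274) (.leaf 3953))) (.node (.node (.leaf 45) (.leaf 2650)) (.node (.leaf 5787) (.leaf 0))))))))

def he1T1 : NT := .node (.node (.node (.node (.node (.node (.node (.node (.leaf 4) (.leaf 5347)) (.node (.leaf 3431) (.leaf 5290))) (.node (.node (.leaf 1869) (.leaf 5850)) (.node (.leaf 4761) (.leaf 6114)))) (.node (.node (.node (.leaf 977) (.leaf 5526)) (.node (.leaf 4128) (.leaf 482))) (.node (.node (.leaf 2685) (.leaf 6200)) (.node (.leaf 2218) (.leaf 0))))) (.node (.node (.node (.node (.leaf 501) (.leaf 6031)) (.node (.leaf 3782) (.leaf 4514))) (.node (.node (.leaf 2289) (.leaf 589)) (.node (.leaf 4293) (.leaf 0)))) (.node (.node (.node (.leaf 1429) (.leaf 3634)) (.node (.leaf 777) (.leaf 741))) (.node (.node (.leaf 3062) (.leaf 2134)) (.node (.leaf 5586) (.leaf 0)))))) (.node (.node (.node (.node (.node (.leaf 256) (.leaf 5925)) (.node (.leaf 3614) (.leaf 6639))) (.node (.node (.leaf 2083) (.leaf 6655)) (.node (.leaf 4898) (.leaf 6463)))) (.node (.node (.node (.leaf 1207) (.leaf 332)) (.node (.leaf 4289) (.leaf 6315))) (.node (.node (.leaf 2872) (.leaf 5922)) (.node (.leaf 5448) (.leaf 0))))) (.node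 (.node (.node (.node (.leaf 740) (.leaf 6115)) (.node (.leaf 3962) (.leaf 2633))) (.node (.node (.leaf 559) (.leaf 6795)) (.node (.leaf 5181) (.leaf 0)))) (.node (.node (.node (.leaf 1649) (.leaf 445)) (.node (.leaf 4607) (.leaf 4383))) (.node (.node (.leaf 3252) (.leaf 2982)) (.node (.leaf 5695) (.leaf 0))))))) (.node (.node (.node (.node (.node (.node (.leaf 131) (.leaf 5197)) (.node (.leaf 3529) (.leaf 7099))) (.node (.node (.leaf 1977) (.leaf 4331)) (.node (.leaf 4830) (.leaf 7258)))) (.node (.node (.node (.leaf 1094) (.leaf 5369)) (.node (.leaf 4215) (.leaf 6806))) (.node (.node (.leaf 2725) (.leaf 5120)) (.node (.leaf 5387) (.leaf 0))))) (.node (.node (.node (.node (.leaf 622) (.leaf 6073)) (.node (.leaf 3868) (.leaf 7176))) (.node (.node (.leaf 2387) (.leaf 6768)) (.node (.leaf 5104) (.leaf 0)))) (.node (.node (.node (.leaf 1541) (.leaf 6449)) (.node (.leaf 4530) (.leaf 5641))) (.node (.node (.leaf 3157) (.leaf 6498)) (.node (.leaf 5637) (.leaf 0)))))) (.node (.node (.node (.node (.node (.leaf 380) (.leaf 5983)) (.node (.leaf 3697) (.leaf 7135))) (.node (.node (.leaf 2182) (.leaf 6699)) (.node (.leaf 4977) (.leaf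 0)))) (.node (.node (.node (.leaf 1318) (.leaf 5849)) (.node (.leaf 4369) (.leaf 6656))) (.node (.node (.leaf 2969) (.leaf 6956)) (.node (.leaf 4717) (.leaf 0))))) (.node (.node (.node (.node (.leaf 860) (.leaf 6174)) (.node (.leaf 1971) (.leaf 7105))) (.node (.node (.leaf 2587) (.leaf 6820)) (.node (.leaf 5250) (.leaf 0)))) (.node (.node (.node (.leaf 1756) (.leaf 6538)) (.node (.leaf 4685) (.leaf 7326))) (.node (.node (.leaf 3346) (.leaf 7031)) (.node (.leaf 5731) (.leaf 0)))))))) (.node (.node (.node (.node (.node (.node (.node (.leaf 68) (.leaf 5851)) (.node (.leaf 3480) (.leaf 4360))) (.node (.node (.leaf 1176) (.leaf 6605)) (.node (.leaf 4797) (.leaf 7334)))) (.node (.node (.node (.leaf 1035) (.leaf 6255)) (.node (.leaf 1714) (.leaf 3056))) (.node (.node (.leaf 2736) (.leaf 3152)) (.node (.leaf 5188) (.leaf 0))))) (.node (.node (.node (.node (.leaf 562) (.leaf 63)) (.node (.leaf 3826) (.leaf 1194))) (.node (.node (.leaf 2337) (.leaf 6749)) (.node (.leaf 2929) (.leaf 0)))) (.node (.node (.node (.leaf 1486) (.leaf 6425)) (.node (.leaf 4492) (.leaf 4713))) (.node (.node (.leaf 3110) (.leaf 5280)) (.node (.leaf 3143)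 (.leaf 0)))))) (.node (.node (.node (.node (.node (.leaf 319) (.leaf 5954)) (.node (.leaf 3658) (.leaf 1553))) (.node (.node (.leaf 2130) (.leaf 6677)) (.node (.leaf 2112) (.leaf 4962)))) (.node (.node (.node (.leaf 1266) (.leaf 2118)) (.node (.leaf 4297) (.leaf 1462))) (.node (.node (.leaf 2918) (.leaf 4632)) (.node (.leaf 5483) (.leaf 0))))) (.node (.node (.node (.node (.leaf 801) (.leaf 6144)) (.node (.leaf 2579) (.leaf 4058))) (.node (.node (.leaf 2534) (.leaf 2100)) (.node (.leaf 5216) (.leaf 0)))) (.node (.node (.node (.leaf 1702) (.leaf 6518)) (.node (.leaf 2916) (.leaf 6636))) (.node (.node (.leaf 3302) (.leaf 1339)) (.node (.leaf 3403) (.leaf 0))))))) (.node (.node (.node (.node (.node (.node (.leaf 194) (.leaf 356)) (.node (.leaf 3569) (.leaf 5971))) (.node (.node (.leaf 2029) (.leaf 6634)) (.node (.leaf 4865) (.leaf 3762)))) (.node (.node (.node (.leaf 1150) (.leaf 1609)) (.node (.leaf 4248) (.leaf 5558))) (.node (.node (.leaf 2826) (.leaf 5635)) (.node (.leaf 5415) (.leaf 0))))) (.node (.node (.node (.node (.leaf 683) (.leaf 6093)) (.node (.leaf 2677) (.leaf 4846))) (.node (.node (.leaf 2441) (.leaf 3772))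 (.node (.leaf 1852) (.leaf 0)))) (.node (.node (.node (.leaf 1594) (.leaf 1860)) (.node (.leaf 4562) (.leaf 7286))) (.node (.node (.leaf 3205) (.leaf 4337)) (.node (.leaf 3859) (.leaf 0)))))) (.node (.node (.node (.node (.node (.leaf 440) (.leaf 6011)) (.node (.leaf 3741) (.leaf 7131))) (.node (.node (.leaf 2237) (.leaf 6585)) (.node (.leaf 5007) (.leaf 0)))) (.node (.node (.node (.leaf 1376) (.leaf 4853)) (.node (.leaf 4407) (.leaf 7257))) (.node (.node (.leaf 1394) (.leaf 6973)) (.node (.leaf 1772) (.leaf 0))))) (.node (.node (.node (.node (.leaf 916) (.leaf 6203)) (.node (.leaf 4090) (.leaf 1445))) (.node (.node (.leaf 2638) (.leaf 6139)) (.node (.leaf 2228) (.leaf 0)))) (.node (.node (.node (.leaf 1813) (.leaf 6559)) (.node (.leaf 4721) (.leaf 7229))) (.node (.node (.leaf 3391) (.leaf 7065)) (.node (.leaf 5788) (.leaf 0))))))))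

def he1T2 : NT := .node (.node (.node (.node (.node (.node (.node (.node (.leaf 6) (.leaf 5544)) (.node (.leaf 840) (.leaf 2833))) (.node (.node (.leaf 940) (.leaf 6587)) (.node (.leaf 4762) (.leaf 7266)))) (.node (.node (.node (.leaf 979) (.leaf 6106)) (.node (.leaf 844) (.leaf 3563))) (.node (.node (.leaf 2687) (.leaf 3446)) (.node (.leaf 5316) (.leaf 0))))) (.node (.node (.node (.node (.leaf 503) (.leaf 1631)) (.node (.leaf 3783) (.leaf 4589))) (.node (.node (.leaf 2290) (.leaf 4116)) (.node (.leaf 5041) (.leaf 0)))) (.node (.node (.node (.leaf 1431) (.leaf 1454)) (.node (.leaf 4449) (.leaf 7289))) (.node (.node (.leaf 3064) (.leaf 6987)) (.node (.leaf 4132) (.leaf 0)))))) (.node (.node (.node (.node (.node (.leaf 258) (.leaf 4822)) (.node (.leaf 2205) (.leaf 1495))) (.node (.node (.leaf 2085) (.leaf 383)) (.node (.leaf 4661) (.leaf 7343)))) (.node (.node (.node (.leaf 1209) (.leaf 6320)) (.node (.leaf 735) (.leaf 2761))) (.node (.node (.leaf 2873) (.leaf 3363)) (.node (.leaf 5450) (.leaf 0))))) (.node (.node (.node (.node (.leaf 742) (.leaf 5699)) (.node (.leaf 3963) (.leaf 3197))) (.node (.node (.leaf 1008) (.leaf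 187)) (.node (.leaf 3704) (.leaf 0)))) (.node (.node (.node (.leaf 1650) (.leaf 4197)) (.node (.leaf 4609) (.leaf 2865))) (.node (.node (.leaf 3254) (.leaf 7033)) (.node (.leaf 1969) (.leaf 0))))))) (.node (.node (.node (.node (.node (.node (.leaf 133) (.leaf 5881)) (.node (.leaf 3531) (.leaf 6996))) (.node (.node (.leaf 1979) (.leaf 5882)) (.node (.leaf 2222) (.leaf 475)))) (.node (.node (.node (.leaf 1096) (.leaf 231)) (.node (.leaf 3699) (.leaf 3642))) (.node (.node (.leaf 2781) (.leaf 6674)) (.node (.leaf 1434) (.leaf 0))))) (.node (.node (.node (.node (.leaf 624) (.leaf 1698)) (.node (.leaf 3869) (.leaf 7177))) (.node (.node (.leaf 2389) (.leaf 4180)) (.node (.leaf 65) (.leaf 0)))) (.node (.node (.node (.leaf 1543) (.leaf 6337)) (.node (.leaf 4531) (.leaf 6271))) (.node (.node (.leaf 3159) (.leaf 7003)) (.node (.leaf 5638) (.leaf 0)))))) (.node (.node (.node (.node (.node (.leaf 382) (.leaf 5984)) (.node (.leaf 3698) (.leaf 7136))) (.node (.node (.leaf 2184) (.leaf 6701)) (.node (.leaf 4849) (.leaf 0)))) (.node (.node (.node (.leaf 1320) (.leaf 4152)) (.node (.leaf 4370) (.leaf 7076))) (.node (.node (.leaf 2971) (.leaf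 6602)) (.node (.leaf 3493) (.leaf 0))))) (.node (.node (.node (.node (.leaf 861) (.leaf 5262)) (.node (.leaf 3507) (.leaf 1464))) (.node (.node (.leaf 2589) (.leaf 1668)) (.node (.leaf 2936) (.leaf 0)))) (.node (.node (.node (.leaf 1758) (.leaf 5673)) (.node (.leaf 4686) (.leaf 737))) (.node (.node (.leaf 3348) (.leaf 7050)) (.node (.leaf 5760) (.leaf 0)))))))) (.node (.node (.node (.node (.node (.node (.node (.leaf 70) (.leaf 4879)) (.node (.leaf 3482) (.leaf 6009))) (.node (.node (.leaf 1919) (.leaf 2946)) (.node (.leaf 4798) (.leaf 6453)))) (.node (.node (.node (.leaf 1037) (.leaf 6257)) (.node (.leaf 4170) (.leaf 4334))) (.node (.node (.leaf 318) (.leaf 6876)) (.node (.leaf 5351) (.leaf 0))))) (.node (.node (.node (.node (.leaf 564) (.leaf 6052)) (.node (.leaf 1102) (.leaf 5623))) (.node (.node (.leaf 2338) (.leaf 6750)) (.node (.leaf 5067) (.leaf 0)))) (.node (.node (.node (.leaf 1487) (.leaf 4734)) (.node (.leaf 4493) (.leaf 1831))) (.node (.node (.leaf 3112) (.leaf 132)) (.node (.leaf 5609) (.leaf 0)))))) (.node (.node (.node (.node (.node (.leaf 321) (.leaf 4406)) (.node (.leaf 2159) (.leaf 1132))) (.node (.node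 (.leaf 408) (.leaf 4125)) (.node (.leaf 4941) (.leaf 6626)))) (.node (.node (.node (.leaf 1268) (.leaf 1994)) (.node (.leaf 4328) (.leaf 1165))) (.node (.node (.leaf 2920) (.leaf 5498)) (.node (.leaf 5485) (.leaf 0))))) (.node (.node (.node (.node (.leaf 802) (.leaf 6146)) (.node (.leaf 4006) (.leaf 7201))) (.node (.node (.leaf 2536) (.leaf 5817)) (.node (.leaf 586) (.leaf 0)))) (.node (.node (.node (.leaf 1704) (.leaf 3539)) (.node (.leaf 2198) (.leaf 2766))) (.node (.node (.leaf 3303) (.leaf 7045)) (.node (.leaf 3188) (.leaf 0))))))) (.node (.node (.node (.node (.node (.node (.leaf 196) (.leaf 451)) (.node (.leaf 2955) (.leaf 7073))) (.node (.node (.leaf 2031) (.leaf 6635)) (.node (.leaf 2270) (.leaf 5570)))) (.node (.node (.node (.leaf 1151) (.leaf 6301)) (.node (.leaf 4249) (.leaf 4169))) (.node (.node (.leaf 2828) (.leaf 6887)) (.node (.leaf 635) (.leaf 0))))) (.node (.node (.node (.node (.leaf 684) (.leaf 5642)) (.node (.leaf 3917) (.leaf 7192))) (.node (.node (.leaf 2442) (.leaf 551)) (.node (.leaf 5142) (.leaf 0)))) (.node (.node (.node (.leaf 1596) (.leaf 6464)) (.node (.leaf 4564) (.leaf 6904))) (.node (.node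 (.leaf 3207) (.leaf 6224)) (.node (.leaf 4270) (.leaf 0)))))) (.node (.node (.node (.node (.node (.leaf 442) (.leaf 6012)) (.node (.leaf 1119) (.leaf 6610))) (.node (.node (.leaf 1641) (.leaf 6725)) (.node (.leaf 2450) (.leaf 0)))) (.node (.node (.node (.leaf 1378) (.leaf 3414)) (.node (.leaf 4409) (.leaf 4448))) (.node (.node (.leaf 3020) (.leaf 6955)) (.node (.leaf 5555) (.leaf 0))))) (.node (.node (.node (.node (.leaf 918) (.leaf 1243)) (.node (.leaf 4092) (.leaf 4541))) (.node (.node (.leaf 2640) (.leaf 5223)) (.node (.leaf 5282) (.leaf 0)))) (.node (.node (.node (.leaf 1815) (.leaf 267)) (.node (.leaf 3221) (.leaf 7329))) (.node (.node (.leaf 3392) (.leaf 1854)) (.node (.leaf 4343) (.leaf 0))))))))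

def he1T3 : NT := .node (.node (.node (.node (.node (.node (.node (.node (.leaf 8) (.leaf 2701)) (.node (.leaf 3433) (.leaf 3755))) (.node (.node (.leaf 1872) (.leaf 6588)) (.node (.leaf 2676) (.leaf 5878)))) (.node (.node (.node (.leaf 981) (.leaf 2714)) (.node (.leaf 1967) (.leaf 7220))) (.node (.node (.leaf 2689) (.leaf 1866)) (.node (.leaf 5317) (.leaf 0))))) (.node (.node (.node (.node (.leaf 505) (.leaf 561)) (.node (.leaf 3784) (.leaf 7072))) (.node (.node (.leaf 29) (.leaf 6738)) (.node (.leaf 5042) (.leaf 0)))) (.node (.node (.node (.leaf 1433) (.leaf 6402)) (.node (.leaf 4287) (.leaf 2151))) (.node (.node (.leaf 2970) (.leaf 5587)) (.node (.leaf 263) (.leaf 0)))))) (.node (.node (.node (.node (.node (.leaf 260) (.leaf 5926)) (.node (.leaf 3617) (.leaf 6781))) (.node (.node (.leaf 1343) (.leaf 3618)) (.node (.leaf 2400) (.leaf 541)))) (.node (.node (.node (.leaf 1211) (.leaf 4624)) (.node (.leaf 4292) (.leaf 6101))) (.node (.node (.leaf 2874) (.leaf 6216)) (.node (.leaf 1456) (.leaf 0))))) (.node (.node (.node (.node (.leaf 558) (.leaf 6116)) (.node (.leaf 3964) (.leaf 243))) (.node (.node (.leaf 2493) (.leaf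 2055)) (.node (.leaf 2444) (.leaf 0)))) (.node (.node (.node (.leaf 1651) (.leaf 5386)) (.node (.leaf 4610) (.leaf 166))) (.node (.node (.leaf 3256) (.leaf 4084)) (.node (.leaf 5697) (.leaf 0))))))) (.node (.node (.node (.node (.node (.node (.leaf 135) (.leaf 5368)) (.node (.leaf 2040) (.leaf 7100))) (.node (.node (.leaf 1980) (.leaf 771)) (.node (.leaf 2266) (.leaf 6770)))) (.node (.node (.node (.leaf 1097) (.leaf 6281)) (.node (.leaf 4217) (.leaf 7080))) (.node (.node (.leaf 9) (.leaf 4733)) (.node (.leaf 3328) (.leaf 0))))) (.node (.node (.node (.node (.leaf 626) (.leaf 3786)) (.node (.leaf 3871) (.leaf 4675))) (.node (.node (.leaf 2391) (.leaf 722)) (.node (.leaf 5070) (.leaf 0)))) (.node (.node (.node (.leaf 1391) (.leaf 5447)) (.node (.leaf 4532) (.leaf 7178))) (.node (.node (.leaf 3160) (.leaf 7004)) (.node (.leaf 4580) (.leaf 0)))))) (.node (.node (.node (.node (.node (.leaf 384) (.leaf 5985)) (.node (.leaf 3700) (.leaf 7117))) (.node (.node (.leaf 2186) (.leaf 5475)) (.node (.leaf 4593) (.leaf 0)))) (.node (.node (.node (.leaf 1322) (.leaf 4814)) (.node (.leaf 4372) (.leaf 1226))) (.node (.node (.leaf 2973) (.leaf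 6957)) (.node (.leaf 3464) (.leaf 0))))) (.node (.node (.node (.node (.leaf 863) (.leaf 6165)) (.node (.leaf 4053) (.leaf 3711))) (.node (.node (.leaf 2591) (.leaf 5802)) (.node (.leaf 5251) (.leaf 0)))) (.node (.node (.node (.leaf 1760) (.leaf 1202)) (.node (.leaf 4688) (.leaf 1362))) (.node (.node (.leaf 11) (.leaf 5771)) (.node (.leaf 3479) (.leaf 0)))))))) (.node (.node (.node (.node (.node (.node (.node (.leaf 72) (.leaf 2145)) (.node (.leaf 3484) (.leaf 136))) (.node (.node (.leaf 1921) (.leaf 5943)) (.node (.leaf 2686) (.leaf 2037)))) (.node (.node (.node (.leaf 1039) (.leaf 377)) (.node (.leaf 4172) (.leaf 6791))) (.node (.node (.leaf 2738) (.leaf 6878)) (.node (.leaf 5353) (.leaf 0))))) (.node (.node (.node (.node (.leaf 566) (.leaf 124)) (.node (.leaf 3828) (.leaf 3019))) (.node (.node (.leaf 1504) (.leaf 3596)) (.node (.leaf 5068) (.leaf 0)))) (.node (.node (.node (.leaf 1489) (.leaf 426)) (.node (.leaf 1267) (.leaf 6612))) (.node (.node (.leaf 727) (.leaf 3609)) (.node (.leaf 5091) (.leaf 0)))))) (.node (.node (.node (.node (.node (.leaf 323) (.leaf 5956)) (.node (.leaf 3660) (.leaf 3500))) (.node (.node (.leaf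 2131) (.leaf 6680)) (.node (.leaf 4943) (.leaf 6511)))) (.node (.node (.node (.leaf 1269) (.leaf 5062)) (.node (.leaf 4329) (.leaf 6670))) (.node (.node (.leaf 25) (.leaf 6935)) (.node (.leaf 5487) (.leaf 0))))) (.node (.node (.node (.node (.leaf 804) (.leaf 2436)) (.node (.leaf 4007) (.leaf 7202))) (.node (.node (.leaf 2537) (.leaf 4678)) (.node (.leaf 5219) (.leaf 0)))) (.node (.node (.node (.leaf 1706) (.leaf 6519)) (.node (.leaf 4649) (.leaf 7288))) (.node (.node (.leaf 3304) (.leaf 1953)) (.node (.leaf 3764) (.leaf 0))))))) (.node (.node (.node (.node (.node (.node (.leaf 198) (.leaf 5896)) (.node (.leaf 3502) (.leaf 3813))) (.node (.node (.leaf 2033) (.leaf 6263)) (.node (.leaf 4867) (.leaf 3559)))) (.node (.node (.node (.leaf 1153) (.leaf 3367)) (.node (.leaf 4250) (.leaf 1371))) (.node (.node (.leaf 1658) (.leaf 4784)) (.node (.leaf 5418) (.leaf 0))))) (.node (.node (.node (.node (.leaf 686) (.leaf 3094)) (.node (.leaf 3918) (.leaf 4509))) (.node (.node (.leaf 273) (.leaf 5089)) (.node (.leaf 5144) (.leaf 0)))) (.node (.node (.node (.leaf 1597) (.leaf 6466)) (.node (.leaf 4451) (.leaf 7205))) (.node (.node (.leaf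 3208) (.leaf 759)) (.node (.leaf 5666) (.leaf 0)))))) (.node (.node (.node (.node (.node (.leaf 444) (.leaf 6013)) (.node (.leaf 3743) (.leaf 7151))) (.node (.node (.leaf 2239) (.leaf 4296)) (.node (.leaf 3322) (.leaf 0)))) (.node (.node (.node (.leaf 1380) (.leaf 5608)) (.node (.leaf 4411) (.leaf 4480))) (.node (.node (.leaf 1981) (.leaf 1059)) (.node (.leaf 5557) (.leaf 0))))) (.node (.node (.node (.node (.leaf 920) (.leaf 678)) (.node (.leaf 4093) (.leaf 6352))) (.node (.node (.leaf 1449) (.leaf 6845)) (.node (.leaf 5283) (.leaf 0)))) (.node (.node (.node (.leaf 1817) (.leaf 4579)) (.node (.leaf 4723) (.leaf 6232))) (.node (.node (.leaf 3393) (.leaf 6046)) (.node (.leaf 5789) (.leaf 0))))))))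

def he1T4 : NT := .node (.node (.node (.node (.node (.node (.node (.node (.leaf 10) (.leaf 5820)) (.node (.leaf 3435) (.leaf 1716))) (.node (.node (.leaf 1874) (.leaf 2862)) (.node (.leaf 4206) (.leaf 1845)))) (.node (.node (.node (.leaf 983) (.leaf 6229)) (.node (.leaf 3724) (.leaf 4956))) (.node (.node (.leaf 2691) (.leaf 2132)) (.node (.leaf 2871) (.leaf 0))))) (.node (.node (.node (.node (.leaf 507) (.leaf 5900)) (.node (.leaf 3785) (.leaf 7163))) (.node (.node (.leaf 2293) (.leaf 4353)) (.node (.leaf 5019) (.leaf 0)))) (.node (.node (.node (.leaf 1435) (.leaf 6403)) (.node (.leaf 4450) (.leaf 6304))) (.node (.node (.leaf 3066) (.leaf 1637)) (.node (.leaf 2200) (.leaf 0)))))) (.node (.node (.node (.node (.node (.leaf 262) (.leaf 5928)) (.node (.leaf 3619) (.leaf 195))) (.node (.node (.leaf 1992) (.leaf 3009)) (.node (.leaf 4901) (.leaf 3665)))) (.node (.node (.node (.leaf 1213) (.leaf 6321)) (.node (.leaf 2909) (.leaf 7259))) (.node (.node (.leaf 2876) (.leaf 4422)) (.node (.leaf 189) (.leaf 0))))) (.node (.node (.node (.node (.leaf 745) (.leaf 1737)) (.node (.leaf 3966) (.leaf 5473))) (.node (.node (.leaf 2494) (.leaf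 6797)) (.node (.leaf 5183) (.leaf 0)))) (.node (.node (.node (.leaf 1653) (.leaf 6447)) (.node (.leaf 4612) (.leaf 7037))) (.node (.node (.leaf 3257) (.leaf 3543)) (.node (.leaf 5698) (.leaf 0))))))) (.node (.node (.node (.node (.node (.node (.leaf 137) (.leaf 4499)) (.node (.leaf 3534) (.leaf 1286))) (.node (.node (.leaf 1982) (.leaf 6618)) (.node (.leaf 4833) (.leaf 6939)))) (.node (.node (.node (.leaf 1099) (.leaf 6282)) (.node (.leaf 61) (.leaf 6891))) (.node (.node (.leaf 2783) (.leaf 203)) (.node (.leaf 5390) (.leaf 0))))) (.node (.node (.node (.node (.leaf 628) (.leaf 5349)) (.node (.leaf 3873) (.leaf 7179))) (.node (.node (.leaf 2393) (.leaf 6771)) (.node (.leaf 5106) (.leaf 0)))) (.node (.node (.node (.leaf 1546) (.leaf 4888)) (.node (.leaf 2352) (.leaf 7236))) (.node (.node (.leaf 3162) (.leaf 6550)) (.node (.leaf 4939) (.leaf 0)))))) (.node (.node (.node (.node (.node (.leaf 386) (.leaf 3462)) (.node (.leaf 516) (.leaf 6541))) (.node (.node (.leaf 1743) (.leaf 4463)) (.node (.leaf 4978) (.leaf 0)))) (.node (.node (.node (.leaf 1324) (.leaf 6369)) (.node (.leaf 81) (.leaf 7214))) (.node (.node (.leaf 2975) (.leaf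 6765)) (.node (.leaf 5518) (.leaf 0))))) (.node (.node (.node (.node (.leaf 865) (.leaf 6176)) (.node (.leaf 4054) (.leaf 1301))) (.node (.node (.leaf 2592) (.leaf 2639)) (.node (.leaf 4134) (.leaf 0)))) (.node (.node (.node (.leaf 1001) (.leaf 4097)) (.node (.leaf 4690) (.leaf 7174))) (.node (.node (.leaf 1519) (.leaf 7055)) (.node (.leaf 1595) (.leaf 0)))))))) (.node (.node (.node (.node (.node (.node (.node (.leaf 74) (.leaf 1922)) (.node (.leaf 3486) (.leaf 7086))) (.node (.node (.leaf 1923) (.leaf 2849)) (.node (.leaf 2555) (.leaf 5355)))) (.node (.node (.node (.leaf 1041) (.leaf 225)) (.node (.leaf 4173) (.leaf 6451))) (.node (.node (.leaf 2435) (.leaf 2580)) (.node (.leaf 5354) (.leaf 0))))) (.node (.node (.node (.node (.leaf 568) (.leaf 1325)) (.node (.leaf 3830) (.leaf 5909))) (.node (.node (.leaf 2341) (.leaf 4345)) (.node (.leaf 5069) (.leaf 0)))) (.node (.node (.node (.leaf 1491) (.leaf 436)) (.node (.leaf 4496) (.leaf 7222))) (.node (.node (.leaf 1858) (.leaf 3770)) (.node (.leaf 5611) (.leaf 0)))))) (.node (.node (.node (.node (.node (.leaf 325) (.leaf 5457)) (.node (.leaf 3662) (.leaf 4640))) (.node (.node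 (.leaf 2133) (.leaf 6058)) (.node (.leaf 4945) (.leaf 3592)))) (.node (.node (.node (.leaf 1271) (.leaf 6348)) (.node (.leaf 3335) (.leaf 3537))) (.node (.node (.leaf 2922) (.leaf 2544)) (.node (.leaf 5489) (.leaf 0))))) (.node (.node (.node (.node (.leaf 806) (.leaf 5228)) (.node (.leaf 4009) (.leaf 1081))) (.node (.node (.leaf 2539) (.leaf 5578)) (.node (.leaf 5220) (.leaf 0)))) (.node (.node (.node (.leaf 1708) (.leaf 5357)) (.node (.leaf 4650) (.leaf 3228))) (.node (.node (.leaf 3306) (.leaf 4866)) (.node (.leaf 5728) (.leaf 0))))))) (.node (.node (.node (.node (.node (.node (.leaf 200) (.leaf 4556)) (.node (.leaf 3572) (.leaf 7023))) (.node (.node (.leaf 2035) (.leaf 5137)) (.node (.leaf 4868) (.leaf 1835)))) (.node (.node (.node (.leaf 1155) (.leaf 6302)) (.node (.leaf 4251) (.leaf 6517))) (.node (.node (.leaf 2831) (.leaf 5259)) (.node (.leaf 5420) (.leaf 0))))) (.node (.node (.node (.node (.leaf 688) (.leaf 4504)) (.node (.leaf 3919) (.leaf 219))) (.node (.node (.leaf 2445) (.leaf 6482)) (.node (.leaf 5145) (.leaf 0)))) (.node (.node (.node (.leaf 1599) (.leaf 6468)) (.node (.leaf 4567) (.leaf 170))) (.node (.node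 (.leaf 3209) (.leaf 6481)) (.node (.leaf 4728) (.leaf 0)))))) (.node (.node (.node (.node (.node (.leaf 446) (.leaf 1377)) (.node (.leaf 3176) (.leaf 968))) (.node (.node (.leaf 2241) (.leaf 5754)) (.node (.leaf 5009) (.leaf 0)))) (.node (.node (.node (.leaf 1381) (.leaf 3644)) (.node (.leaf 936) (.leaf 6496))) (.node (.node (.leaf 3023) (.leaf 1228)) (.node (.leaf 2381) (.leaf 0))))) (.node (.node (.node (.node (.leaf 922) (.leaf 6206)) (.node (.leaf 2662) (.leaf 6539))) (.node (.node (.leaf 2642) (.leaf 3579)) (.node (.leaf 5285) (.leaf 0)))) (.node (.node (.node (.leaf 1819) (.leaf 3310)) (.node (.leaf 4725) (.leaf 4081))) (.node (.node (.leaf 3395) (.leaf 3951)) (.node (.leaf 4181) (.leaf 0))))))))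

def he1T5 : NT := .node (.node (.node (.node (.node (.node (.node (.node (.leaf 12) (.leaf 341)) (.node (.leaf 3437) (.leaf 2562))) (.node (.node (.leaf 1876) (.leaf 2974)) (.node (.leaf 1958) (.leaf 6900)))) (.node (.node (.node (.leaf 985) (.leaf 6230)) (.node (.leaf 3795) (.leaf 5215))) (.node (.node (.leaf 2692) (.leaf 6808)) (.node (.leaf 5240) (.leaf 0))))) (.node (.node (.node (.node (.leaf 509) (.leaf 5550)) (.node (.leaf 3787) (.leaf 3098))) (.node (.node (.leaf 2294) (.leaf 4969)) (.node (.leaf 5044) (.leaf 0)))) (.node (.node (.node (.leaf 1437) (.leaf 1620)) (.node (.leaf 4452) (.leaf 101))) (.node (.node (.leaf 3067) (.leaf 6185)) (.node (.leaf 5589) (.leaf 0)))))) (.node (.node (.node (.node (.node (.leaf 264) (.leaf 5930)) (.node (.leaf 3621) (.leaf 6813))) (.node (.node (.leaf 2088) (.leaf 2193)) (.node (.leaf 4903) (.leaf 7327)))) (.node (.node (.node (.leaf 1215) (.leaf 6322)) (.node (.leaf 4294) (.leaf 2072))) (.node (.node (.leaf 2878) (.leaf 6919)) (.node (.leaf 3681) (.leaf 0))))) (.node (.node (.node (.node (.leaf 747) (.leaf 6117)) (.node (.leaf 3968) (.leaf 5517))) (.node (.node (.leaf 2496) (.leaf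 5981)) (.node (.leaf 5185) (.leaf 0)))) (.node (.node (.node (.leaf 1655) (.leaf 518)) (.node (.leaf 823) (.leaf 4738))) (.node (.node (.leaf 3259) (.leaf 2526)) (.node (.leaf 2216) (.leaf 0))))))) (.node (.node (.node (.node (.node (.node (.leaf 139) (.leaf 2507)) (.node (.leaf 3536) (.leaf 7102))) (.node (.node (.leaf 1984) (.leaf 5736)) (.node (.leaf 4834) (.leaf 3802)))) (.node (.node (.node (.leaf 1101) (.leaf 3477)) (.node (.leaf 4219) (.leaf 7246))) (.node (.node (.leaf 2784) (.leaf 5141)) (.node (.leaf 5392) (.leaf 0))))) (.node (.node (.node (.node (.leaf 630) (.leaf 277)) (.node (.leaf 3875) (.leaf 75))) (.node (.node (.leaf 2395) (.leaf 6772)) (.node (.leaf 5108) (.leaf 0)))) (.node (.node (.node (.leaf 1547) (.leaf 5318)) (.node (.leaf 2546) (.leaf 7303))) (.node (.node (.leaf 3164) (.leaf 7005)) (.node (.leaf 3831) (.leaf 0)))))) (.node (.node (.node (.node (.node (.leaf 388) (.leaf 5794)) (.node (.leaf 3703) (.leaf 6317))) (.node (.node (.leaf 2189) (.leaf 5286)) (.node (.leaf 4980) (.leaf 0)))) (.node (.node (.node (.leaf 1326) (.leaf 5914)) (.node (.leaf 51) (.leaf 7170))) (.node (.node (.leaf 2087) (.leaf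 5330)) (.node (.leaf 5520) (.leaf 0))))) (.node (.node (.node (.node (.leaf 867) (.leaf 3913)) (.node (.leaf 4056) (.leaf 702))) (.node (.node (.leaf 19) (.leaf 752)) (.node (.leaf 5252) (.leaf 0)))) (.node (.node (.node (.leaf 1763) (.leaf 6540)) (.node (.leaf 4453) (.leaf 7250))) (.node (.node (.leaf 1566) (.leaf 7056)) (.node (.leaf 1724) (.leaf 0)))))))) (.node (.node (.node (.node (.node (.node (.node (.leaf 76) (.leaf 2268)) (.node (.leaf 3488) (.leaf 7087))) (.node (.node (.leaf 1925) (.leaf 6606)) (.node (.leaf 4801) (.leaf 4719)))) (.node (.node (.node (.leaf 1043) (.leaf 6259)) (.node (.leaf 4175) (.leaf 6762))) (.node (.node (.leaf 2739) (.leaf 6879)) (.node (.leaf 156) (.leaf 0))))) (.node (.node (.node (.node (.leaf 570) (.leaf 6054)) (.node (.leaf 3832) (.leaf 5272))) (.node (.node (.leaf 2343) (.leaf 4420)) (.node (.leaf 4264) (.leaf 0)))) (.node (.node (.node (.leaf 1493) (.leaf 6426)) (.node (.leaf 4497) (.leaf 6744))) (.node (.node (.leaf 3115) (.leaf 6998)) (.node (.leaf 4634) (.leaf 0)))))) (.node (.node (.node (.node (.node (.leaf 327) (.leaf 5324)) (.node (.leaf 3664) (.leaf 6619))) (.node (.node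 (.leaf 2135) (.leaf 5472)) (.node (.leaf 4946) (.leaf 2052)))) (.node (.node (.node (.leaf 1273) (.leaf 3291)) (.node (.leaf 4330) (.leaf 7207))) (.node (.node (.leaf 2924) (.leaf 3174)) (.node (.leaf 4315) (.leaf 0))))) (.node (.node (.node (.node (.leaf 808) (.leaf 5513)) (.node (.leaf 4011) (.leaf 4894))) (.node (.node (.leaf 2540) (.leaf 5488)) (.node (.leaf 3983) (.leaf 0)))) (.node (.node (.node (.leaf 1710) (.leaf 6521)) (.node (.leaf 420) (.leaf 4491))) (.node (.node (.leaf 2948) (.leaf 7047)) (.node (.leaf 1587) (.leaf 0))))))) (.node (.node (.node (.node (.node (.node (.leaf 202) (.leaf 492)) (.node (.leaf 1044) (.leaf 185))) (.node (.node (.leaf 1158) (.leaf 6638)) (.node (.leaf 4869) (.leaf 7340)))) (.node (.node (.node (.leaf 1157) (.leaf 6303)) (.node (.leaf 4252) (.leaf 7251))) (.node (.node (.leaf 2832) (.leaf 3532)) (.node (.leaf 5421) (.leaf 0))))) (.node (.node (.node (.node (.leaf 690) (.leaf 4364)) (.node (.leaf 3920) (.leaf 6947))) (.node (.node (.leaf 1690) (.leaf 5762)) (.node (.leaf 4926) (.leaf 0)))) (.node (.node (.node (.leaf 1601) (.leaf 6470)) (.node (.leaf 4569) (.leaf 6258))) (.node (.node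 (.leaf 3211) (.leaf 6827)) (.node (.leaf 5669) (.leaf 0)))))) (.node (.node (.node (.node (.node (.leaf 448) (.leaf 6014)) (.node (.leaf 3744) (.leaf 6512))) (.node (.node (.leaf 2243) (.leaf 6726)) (.node (.leaf 5011) (.leaf 0)))) (.node (.node (.node (.leaf 1382) (.leaf 6033)) (.node (.leaf 4412) (.leaf 2805))) (.node (.node (.leaf 3025) (.leaf 2619)) (.node (.leaf 5560) (.leaf 0))))) (.node (.node (.node (.node (.leaf 924) (.leaf 6207)) (.node (.leaf 4045) (.leaf 7213))) (.node (.node (.leaf 2644) (.leaf 47)) (.node (.leaf 3576) (.leaf 0)))) (.node (.node (.node (.leaf 1821) (.leaf 5595)) (.node (.leaf 4727) (.leaf 1510))) (.node (.node (.leaf 2296) (.leaf 6277)) (.node (.leaf 5791) (.leaf 0))))))))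

def he1T6 : NT := .node (.node (.node (.node (.node (.node (.node (.node (.leaf 14) (.leaf 5823)) (.node (.leaf 1822) (.leaf 2013))) (.node (.node (.leaf 1878) (.leaf 6590)) (.node (.leaf 2422) (.leaf 6650)))) (.node (.node (.node (.leaf 987) (.leaf 4528)) (.node (.leaf 4133) (.leaf 7184))) (.node (.node (.leaf 2693) (.leaf 1189)) (.node (.leaf 4208) (.leaf 0))))) (.node (.node (.node (.node (.leaf 511) (.leaf 2232)) (.node (.leaf 3788) (.leaf 6975))) (.node (.node (.leaf 2295) (.leaf 4800)) (.node (.leaf 5046) (.leaf 0)))) (.node (.node (.node (.leaf 1439) (.leaf 6283)) (.node (.leaf 1900) (.leaf 5777))) (.node (.node (.leaf 3069) (.leaf 6989)) (.node (.leaf 5590) (.leaf 0)))))) (.node (.node (.node (.node (.node (.leaf 266) (.leaf 1063)) (.node (.leaf 3623) (.leaf 3412))) (.node (.node (.leaf 2089) (.leaf 4870)) (.node (.leaf 1660) (.leaf 3183)))) (.node (.node (.node (.leaf 1217) (.leaf 6323)) (.node (.leaf 4295) (.leaf 556))) (.node (.node (.leaf 2880) (.leaf 6920)) (.node (.leaf 5453) (.leaf 0))))) (.node (.node (.node (.node (.leaf 749) (.leaf 6118)) (.node (.leaf 3970) (.leaf 2577))) (.node (.node (.leaf 2498)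 (.leaf 3472)) (.node (.leaf 4884) (.leaf 0)))) (.node (.node (.node (.leaf 1657) (.leaf 2005)) (.node (.leaf 447) (.leaf 7141))) (.node (.node (.leaf 3261) (.leaf 7034)) (.node (.leaf 5700) (.leaf 0))))))) (.node (.node (.node (.node (.node (.node (.leaf 141) (.leaf 5566)) (.node (.leaf 3538) (.leaf 240))) (.node (.node (.leaf 1986) (.leaf 6565)) (.node (.leaf 4835) (.leaf 1451)))) (.node (.node (.node (.leaf 1103) (.leaf 1198)) (.node (.leaf 4220) (.leaf 6488))) (.node (.node (.leaf 2785) (.leaf 2173)) (.node (.leaf 5393) (.leaf 0))))) (.node (.node (.node (.node (.leaf 632) (.leaf 3347)) (.node (.leaf 2652) (.leaf 3781))) (.node (.node (.leaf 158) (.leaf 1678)) (.node (.leaf 2603) (.leaf 0)))) (.node (.node (.node (.leaf 1549) (.leaf 6450)) (.node (.leaf 4535) (.leaf 906))) (.node (.node (.leaf 3166) (.leaf 6898)) (.node (.leaf 5640) (.leaf 0)))))) (.node (.node (.node (.node (.node (.leaf 389) (.leaf 5968)) (.node (.leaf 3705) (.leaf 6493))) (.node (.node (.leaf 2191) (.leaf 3708)) (.node (.leaf 4981) (.leaf 0)))) (.node (.node (.node (.leaf 1240) (.leaf 6370)) (.node (.leaf 1745) (.leaf 7155))) (.node (.node (.leaf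 2977) (.leaf 6958)) (.node (.leaf 5521) (.leaf 0))))) (.node (.node (.node (.node (.leaf 869) (.leaf 6179)) (.node (.leaf 4057) (.leaf 2627))) (.node (.node (.leaf 2595) (.leaf 5207)) (.node (.leaf 5254) (.leaf 0)))) (.node (.node (.node (.leaf 1765) (.leaf 5704)) (.node (.leaf 4692) (.leaf 7317))) (.node (.node (.leaf 3351) (.leaf 4218)) (.node (.leaf 1963) (.leaf 0)))))))) (.node (.node (.node (.node (.node (.node (.node (.leaf 78) (.leaf 5853)) (.node (.leaf 3490) (.leaf 7088))) (.node (.node (.leaf 1218) (.leaf 5335)) (.node (.leaf 4802) (.leaf 803)))) (.node (.node (.node (.leaf 1045) (.leaf 6261)) (.node (.leaf 951) (.leaf 902))) (.node (.node (.leaf 2741) (.leaf 2464)) (.node (.leaf 5356) (.leaf 0))))) (.node (.node (.node (.node (.leaf 334) (.leaf 6055)) (.node (.leaf 3833) (.leaf 7089))) (.node (.node (.leaf 2345) (.leaf 6751)) (.node (.leaf 5072) (.leaf 0)))) (.node (.node (.node (.leaf 1494) (.leaf 6428)) (.node (.leaf 4498) (.leaf 4982))) (.node (.node (.leaf 3116) (.leaf 465)) (.node (.leaf 5613) (.leaf 0)))))) (.node (.node (.node (.node (.node (.leaf 329) (.leaf 5959)) (.node (.leaf 3666) (.leaf 2163)))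 (.node (.node (.leaf 2137) (.leaf 6682)) (.node (.leaf 2339) (.leaf 524)))) (.node (.node (.node (.leaf 1275) (.leaf 2954)) (.node (.leaf 4332) (.leaf 463))) (.node (.node (.leaf 2926) (.leaf 6392)) (.node (.leaf 5492) (.leaf 0))))) (.node (.node (.node (.node (.leaf 810) (.leaf 6148)) (.node (.leaf 4013) (.leaf 7203))) (.node (.node (.leaf 2542) (.leaf 400)) (.node (.leaf 5222) (.leaf 0)))) (.node (.node (.node (.leaf 1328) (.leaf 3990)) (.node (.leaf 4653) (.leaf 2514))) (.node (.node (.leaf 3309) (.leaf 5364)) (.node (.leaf 4563) (.leaf 0))))))) (.node (.node (.node (.node (.node (.node (.leaf 204) (.leaf 5899)) (.node (.leaf 3574) (.leaf 7110))) (.node (.node (.leaf 2038) (.leaf 6528)) (.node (.leaf 4871) (.leaf 7332)))) (.node (.node (.node (.leaf 1159) (.leaf 6305)) (.node (.leaf 4254) (.leaf 5880))) (.node (.node (.leaf 2834) (.leaf 3931)) (.node (.leaf 21) (.leaf 0))))) (.node (.node (.node (.node (.leaf 692) (.leaf 5094)) (.node (.leaf 3922) (.leaf 2827))) (.node (.node (.leaf 2448) (.leaf 637)) (.node (.leaf 5146) (.leaf 0)))) (.node (.node (.node (.leaf 1603) (.leaf 1185)) (.node (.leaf 3242) (.leaf 2931)))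 (.node (.node (.leaf 3213) (.leaf 7021)) (.node (.leaf 3824) (.leaf 0)))))) (.node (.node (.node (.node (.node (.leaf 450) (.leaf 6016)) (.node (.leaf 251) (.leaf 5786))) (.node (.node (.leaf 2111) (.leaf 3720)) (.node (.leaf 5012) (.leaf 0)))) (.node (.node (.node (.leaf 1384) (.leaf 569)) (.node (.leaf 3161) (.leaf 4485))) (.node (.node (.leaf 596) (.leaf 6974)) (.node (.leaf 4235) (.leaf 0))))) (.node (.node (.node (.node (.leaf 926) (.leaf 6208)) (.node (.leaf 4095) (.leaf 6838))) (.node (.node (.leaf 2646) (.leaf 3988)) (.node (.leaf 5287) (.leaf 0)))) (.node (.node (.node (.leaf 1823) (.leaf 850)) (.node (.leaf 4510) (.leaf 6951))) (.node (.node (.leaf 3398) (.leaf 7067)) (.node (.leaf 2236) (.leaf 0))))))))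

def he1T7 : NT := .node (.node (.node (.node (.node (.node (.node (.node (.leaf 16) (.leaf 5824)) (.node (.leaf 3439) (.leaf 1366))) (.node (.node (.leaf 1880) (.leaf 6592)) (.node (.leaf 4766) (.leaf 3540)))) (.node (.node (.node (.leaf 989) (.leaf 6231)) (.node (.leaf 2814) (.leaf 7227))) (.node (.node (.leaf 2695) (.leaf 6863)) (.node (.leaf 549) (.leaf 0))))) (.node (.node (.node (.node (.leaf 513) (.leaf 5907)) (.node (.leaf 3790) (.leaf 1523))) (.node (.node (.leaf 2297) (.leaf 6740)) (.node (.leaf 1424) (.leaf 0)))) (.node (.node (.node (.leaf 1441) (.leaf 4523)) (.node (.leaf 1303) (.leaf 1347))) (.node (.node (.leaf 3071) (.leaf 428)) (.node (.leaf 5592) (.leaf 0)))))) (.node (.node (.node (.node (.node (.leaf 268) (.leaf 5932)) (.node (.leaf 3625) (.leaf 4078))) (.node (.node (.leaf 2091) (.leaf 4731)) (.node (.leaf 4904) (.leaf 6167)))) (.node (.node (.node (.leaf 680) (.leaf 6228)) (.node (.leaf 142) (.leaf 6833))) (.node (.node (.leaf 2882) (.leaf 6922)) (.node (.leaf 5455) (.leaf 0))))) (.node (.node (.node (.node (.leaf 751) (.leaf 4255)) (.node (.leaf 3972) (.leaf 7071))) (.node (.node (.leaf 2499) (.leaf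 6019)) (.node (.leaf 5186) (.leaf 0)))) (.node (.node (.node (.leaf 1659) (.leaf 6495)) (.node (.leaf 4615) (.leaf 6895))) (.node (.node (.leaf 796) (.leaf 1436)) (.node (.leaf 5701) (.leaf 0))))))) (.node (.node (.node (.node (.node (.node (.leaf 143) (.leaf 5884)) (.node (.leaf 1401) (.leaf 7104))) (.node (.node (.leaf 1988) (.leaf 6621)) (.node (.leaf 4837) (.leaf 2803)))) (.node (.node (.node (.leaf 1105) (.leaf 5670)) (.node (.leaf 4221) (.leaf 7247))) (.node (.node (.leaf 2787) (.leaf 6893)) (.node (.leaf 5394) (.leaf 0))))) (.node (.node (.node (.node (.leaf 634) (.leaf 4144)) (.node (.leaf 3878) (.leaf 7181))) (.node (.node (.leaf 2398) (.leaf 6773)) (.node (.leaf 4055) (.leaf 0)))) (.node (.node (.node (.leaf 1550) (.leaf 1020)) (.node (.leaf 4536) (.leaf 6943))) (.node (.node (.leaf 856) (.leaf 7007)) (.node (.leaf 1106) (.leaf 0)))))) (.node (.node (.node (.node (.node (.leaf 391) (.leaf 5988)) (.node (.leaf 3707) (.leaf 7137))) (.node (.node (.leaf 2192) (.leaf 6703)) (.node (.leaf 4583) (.leaf 0)))) (.node (.node (.node (.leaf 1329) (.leaf 3024)) (.node (.leaf 1481) (.leaf 7273))) (.node (.node (.leaf 2979)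 (.leaf 5352)) (.node (.leaf 5523) (.leaf 0))))) (.node (.node (.node (.node (.leaf 871) (.leaf 6181)) (.node (.leaf 2669) (.leaf 7206))) (.node (.node (.leaf 2597) (.leaf 6825)) (.node (.leaf 5124) (.leaf 0)))) (.node (.node (.node (.leaf 1767) (.leaf 5796)) (.node (.leaf 1154) (.leaf 1468))) (.node (.node (.leaf 3352) (.leaf 2019)) (.node (.leaf 5761) (.leaf 0)))))))) (.node (.node (.node (.node (.node (.node (.node (.leaf 80) (.leaf 5854)) (.node (.leaf 1236) (.leaf 5958))) (.node (.node (.leaf 1928) (.leaf 5766)) (.node (.leaf 4803) (.leaf 980)))) (.node (.node (.node (.leaf 1047) (.leaf 6262)) (.node (.leaf 4177) (.leaf 7237))) (.node (.node (.leaf 2743) (.leaf 6561)) (.node (.leaf 5358) (.leaf 0))))) (.node (.node (.node (.node (.leaf 573) (.leaf 6057)) (.node (.leaf 3481) (.leaf 3037))) (.node (.node (.leaf 2347) (.leaf 6111)) (.node (.leaf 416) (.leaf 0)))) (.node (.node (.node (.leaf 1496) (.leaf 6429)) (.node (.leaf 3876) (.leaf 4178))) (.node (.node (.leaf 3117) (.leaf 6349)) (.node (.leaf 5615) (.leaf 0)))))) (.node (.node (.node (.node (.node (.leaf 331) (.leaf 4418)) (.node (.leaf 3667) (.leaf 7126))) (.node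 (.node (.leaf 2139) (.leaf 896)) (.node (.leaf 4948) (.leaf 1786)))) (.node (.node (.node (.leaf 1276) (.leaf 4591)) (.node (.leaf 4333) (.leaf 6941))) (.node (.node (.leaf 2928) (.leaf 3758)) (.node (.leaf 5493) (.leaf 0))))) (.node (.node (.node (.node (.leaf 811) (.leaf 6149)) (.node (.leaf 4014) (.leaf 310))) (.node (.node (.leaf 2418) (.leaf 3909)) (.node (.leaf 5224) (.leaf 0)))) (.node (.node (.node (.leaf 1713) (.leaf 4819)) (.node (.leaf 4608) (.leaf 1085))) (.node (.node (.leaf 3311) (.leaf 3689)) (.node (.leaf 3511) (.leaf 0))))))) (.node (.node (.node (.node (.node (.node (.leaf 206) (.leaf 5575)) (.node (.leaf 3575) (.leaf 7111))) (.node (.node (.leaf 2039) (.leaf 6520)) (.node (.leaf 4873) (.leaf 1163)))) (.node (.node (.node (.leaf 1160) (.leaf 6096)) (.node (.leaf 2896) (.leaf 5073))) (.node (.node (.leaf 2835) (.leaf 6679)) (.node (.leaf 2298) (.leaf 0))))) (.node (.node (.node (.node (.leaf 269) (.leaf 6097)) (.node (.leaf 2906) (.leaf 6915))) (.node (.node (.leaf 2449) (.leaf 6786)) (.node (.leaf 5147) (.leaf 0)))) (.node (.node (.node (.leaf 1605) (.leaf 6471)) (.node (.leaf 4571) (.leaf 1931))) (.node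 (.node (.leaf 3215) (.leaf 4230)) (.node (.leaf 5672) (.leaf 0)))))) (.node (.node (.node (.node (.node (.leaf 452) (.leaf 4415)) (.node (.leaf 3747) (.leaf 7152))) (.node (.node (.leaf 2246) (.leaf 5497)) (.node (.leaf 5014) (.leaf 0)))) (.node (.node (.node (.leaf 1386) (.leaf 3746)) (.node (.leaf 4414) (.leaf 5978))) (.node (.node (.leaf 3027) (.leaf 4983)) (.node (.leaf 5562) (.leaf 0))))) (.node (.node (.node (.node (.leaf 928) (.leaf 2560)) (.node (.leaf 4096) (.leaf 7215))) (.node (.node (.leaf 2648) (.leaf 4010)) (.node (.leaf 5288) (.leaf 0)))) (.node (.node (.node (.leaf 1825) (.leaf 1960)) (.node (.leaf 3073) (.leaf 1046))) (.node (.node (.leaf 2778) (.leaf 6727)) (.node (.leaf 5792) (.leaf 0))))))))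

def he1T8 : NT := .node (.node (.node (.node (.node (.node (.node (.node (.leaf 18) (.leaf 4373)) (.node (.leaf 3441) (.leaf 7075))) (.node (.node (.leaf 1882) (.leaf 3457)) (.node (.leaf 4768) (.leaf 5491)))) (.node (.node (.node (.leaf 1) (.leaf 4930)) (.node (.leaf 3742) (.leaf 7228))) (.node (.node (.leaf 281) (.leaf 6864)) (.node (.leaf 5209) (.leaf 0))))) (.node (.node (.node (.node (.leaf 515) (.leaf 259)) (.node (.leaf 3791) (.leaf 6698))) (.node (.node (.leaf 1600) (.leaf 6741)) (.node (.leaf 4806) (.leaf 0)))) (.node (.node (.node (.leaf 1443) (.leaf 6404)) (.node (.leaf 4455) (.leaf 4651))) (.node (.node (.leaf 3072) (.leaf 2225)) (.node (.leaf 1741) (.leaf 0)))))) (.node (.node (.node (.node (.node (.leaf 270) (.leaf 5102)) (.node (.leaf 3626) (.leaf 4582))) (.node (.node (.leaf 2092) (.leaf 5099)) (.node (.leaf 4905) (.leaf 1327)))) (.node (.node (.node (.leaf 1220) (.leaf 3475)) (.node (.leaf 4298) (.leaf 7260))) (.node (.node (.leaf 2883) (.leaf 6923)) (.node (.leaf 406) (.leaf 0))))) (.node (.node (.node (.node (.leaf 753) (.leaf 6120)) (.node (.leaf 3974) (.leaf 2492))) (.node (.node (.leaf 2501) (.leaf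 6798)) (.node (.leaf 5187) (.leaf 0)))) (.node (.node (.node (.leaf 1661) (.leaf 1996)) (.node (.leaf 4616) (.leaf 6965))) (.node (.node (.leaf 3264) (.leaf 6105)) (.node (.leaf 5702) (.leaf 0))))))) (.node (.node (.node (.node (.node (.node (.leaf 145) (.leaf 2362)) (.node (.leaf 842) (.leaf 1685))) (.node (.node (.leaf 1989) (.leaf 1833)) (.node (.leaf 4838) (.leaf 4951)))) (.node (.node (.node (.leaf 1107) (.leaf 4843)) (.node (.leaf 4223) (.leaf 7249))) (.node (.node (.leaf 2789) (.leaf 4860)) (.node (.leaf 5396) (.leaf 0))))) (.node (.node (.node (.node (.leaf 636) (.leaf 1073)) (.node (.leaf 1025) (.leaf 7182))) (.node (.node (.leaf 2399) (.leaf 3390)) (.node (.leaf 5109) (.leaf 0)))) (.node (.node (.node (.leaf 1551) (.leaf 1483)) (.node (.leaf 3040) (.leaf 1134))) (.node (.node (.leaf 3169) (.leaf 7009)) (.node (.leaf 4039) (.leaf 0)))))) (.node (.node (.node (.node (.node (.leaf 393) (.leaf 3381)) (.node (.leaf 2588) (.leaf 3277))) (.node (.node (.leaf 2194) (.leaf 6704)) (.node (.leaf 4942) (.leaf 0)))) (.node (.node (.node (.leaf 1331) (.leaf 6371)) (.node (.leaf 3039) (.leaf 7172))) (.node (.node (.leaf 2902)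 (.leaf 6960)) (.node (.leaf 1759) (.leaf 0))))) (.node (.node (.node (.node (.leaf 873) (.leaf 73)) (.node (.leaf 4059) (.leaf 1177))) (.node (.node (.leaf 2598) (.leaf 6802)) (.node (.leaf 5256) (.leaf 0)))) (.node (.node (.node (.leaf 1769) (.leaf 2165)) (.node (.leaf 4693) (.leaf 5076))) (.node (.node (.leaf 2533) (.leaf 7057)) (.node (.leaf 5763) (.leaf 0)))))))) (.node (.node (.node (.node (.node (.node (.node (.leaf 82) (.leaf 5855)) (.node (.leaf 3492) (.leaf 4604))) (.node (.node (.leaf 1930) (.leaf 5423)) (.node (.leaf 4804) (.leaf 4466)))) (.node (.node (.node (.leaf 1049) (.leaf 5582)) (.node (.leaf 4179) (.leaf 6557))) (.node (.node (.leaf 691) (.leaf 4129)) (.node (.leaf 4146) (.leaf 0))))) (.node (.node (.node (.node (.leaf 575) (.leaf 6059)) (.node (.leaf 3834) (.leaf 6465))) (.node (.node (.leaf 2348) (.leaf 6494)) (.node (.leaf 5075) (.leaf 0)))) (.node (.node (.node (.leaf 1498) (.leaf 6431)) (.node (.leaf 4501) (.leaf 7296))) (.node (.node (.leaf 3118) (.leaf 6204)) (.node (.leaf 4079) (.leaf 0)))))) (.node (.node (.node (.node (.node (.leaf 333) (.leaf 5962)) (.node (.leaf 3668) (.leaf 5737))) (.node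 (.node (.leaf 398) (.leaf 6683)) (.node (.leaf 4950) (.leaf 2752)))) (.node (.node (.node (.leaf 1278) (.leaf 6350)) (.node (.leaf 3904) (.leaf 6595))) (.node (.node (.leaf 2930) (.leaf 4751)) (.node (.leaf 5495) (.leaf 0))))) (.node (.node (.node (.node (.leaf 813) (.leaf 6151)) (.node (.leaf 4016) (.leaf 3199))) (.node (.node (.leaf 2545) (.leaf 2735)) (.node (.leaf 5226) (.leaf 0)))) (.node (.node (.node (.leaf 1715) (.leaf 6525)) (.node (.leaf 4655) (.leaf 7321))) (.node (.node (.leaf 3312) (.leaf 221)) (.node (.leaf 5548) (.leaf 0))))))) (.node (.node (.node (.node (.node (.node (.leaf 208) (.leaf 3554)) (.node (.leaf 3577) (.leaf 183))) (.node (.node (.leaf 2041) (.leaf 6640)) (.node (.leaf 3806) (.leaf 4611)))) (.node (.node (.node (.leaf 1162) (.leaf 6306)) (.node (.leaf 2255) (.leaf 7253))) (.node (.node (.leaf 2837) (.leaf 6906)) (.node (.leaf 5422) (.leaf 0))))) (.node (.node (.node (.node (.leaf 695) (.leaf 6098)) (.node (.leaf 3925) (.leaf 7011))) (.node (.node (.leaf 2451) (.leaf 2320)) (.node (.leaf 1172) (.leaf 0)))) (.node (.node (.node (.leaf 1607) (.leaf 6473)) (.node (.leaf 4572) (.leaf 7123))) (.node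 (.node (.leaf 3217) (.leaf 2643)) (.node (.leaf 177) (.leaf 0)))))) (.node (.node (.node (.node (.node (.leaf 453) (.leaf 6017)) (.node (.leaf 3748) (.leaf 6427))) (.node (.node (.leaf 2247) (.leaf 831)) (.node (.leaf 5015) (.leaf 0)))) (.node (.node (.node (.leaf 1388) (.leaf 6384)) (.node (.leaf 2420) (.leaf 1508))) (.node (.node (.leaf 3029) (.leaf 5403)) (.node (.leaf 229) (.leaf 0))))) (.node (.node (.node (.node (.leaf 930) (.leaf 2330)) (.node (.leaf 4098) (.leaf 3893))) (.node (.node (.leaf 2649) (.leaf 6846)) (.node (.leaf 972) (.leaf 0)))) (.node (.node (.node (.leaf 1826) (.leaf 6563)) (.node (.leaf 4730) (.leaf 2119))) (.node (.node (.leaf 1572) (.leaf 739)) (.node (.leaf 5793) (.leaf 0))))))))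

def he1T9 : NT := .node (.node (.node (.node (.node (.node (.node (.node (.leaf 20) (.leaf 2875)) (.node (.leaf 3443) (.leaf 933))) (.node (.node (.leaf 1792) (.leaf 6594)) (.node (.leaf 4770) (.leaf 7325)))) (.node (.node (.node (.leaf 991) (.leaf 1913)) (.node (.leaf 4135) (.leaf 3100))) (.node (.node (.leaf 2698) (.leaf 667)) (.node (.leaf 283) (.leaf 0))))) (.node (.node (.node (.node (.leaf 517) (.leaf 6034)) (.node (.leaf 3272) (.leaf 6710))) (.node (.node (.leaf 2300) (.leaf 3552)) (.node (.leaf 1648) (.leaf 0)))) (.node (.node (.node (.leaf 1444) (.leaf 3718)) (.node (.leaf 3046) (.leaf 5374))) (.node (.node (.leaf 3074) (.leaf 852)) (.node (.leaf 4832) (.leaf 0)))))) (.node (.node (.node (.node (.node (.leaf 272) (.leaf 1076)) (.node (.leaf 3627) (.leaf 5902))) (.node (.node (.leaf 2094) (.leaf 2610)) (.node (.leaf 925) (.leaf 4729)))) (.node (.node (.node (.leaf 1222) (.leaf 6325)) (.node (.leaf 4299) (.leaf 5225))) (.node (.node (.leaf 1315) (.leaf 2416)) (.node (.leaf 3530) (.leaf 0))))) (.node (.node (.node (.node (.leaf 754) (.leaf 6122)) (.node (.leaf 3235) (.leaf 2299))) (.node (.node (.leaf 2502) (.leaf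 6657)) (.node (.leaf 3090) (.leaf 0)))) (.node (.node (.node (.leaf 1662) (.leaf 6497)) (.node (.leaf 904) (.leaf 3214))) (.node (.node (.leaf 631) (.leaf 1803)) (.node (.leaf 3044) (.leaf 0))))))) (.node (.node (.node (.node (.node (.node (.leaf 147) (.leaf 293)) (.node (.leaf 2710) (.leaf 6746))) (.node (.node (.leaf 1991) (.leaf 6623)) (.node (.leaf 4839) (.leaf 7337)))) (.node (.node (.node (.leaf 1109) (.leaf 6285)) (.node (.leaf 1696) (.leaf 2965))) (.node (.node (.leaf 2790) (.leaf 1663)) (.node (.leaf 3867) (.leaf 0))))) (.node (.node (.node (.node (.leaf 638) (.leaf 4598)) (.node (.leaf 3881) (.leaf 7183))) (.node (.node (.leaf 2401) (.leaf 2480)) (.node (.leaf 5110) (.leaf 0)))) (.node (.node (.node (.leaf 1552) (.leaf 2490)) (.node (.leaf 4537) (.leaf 6687))) (.node (.node (.leaf 3170) (.leaf 4540)) (.node (.leaf 4911) (.leaf 0)))))) (.node (.node (.node (.node (.node (.leaf 395) (.leaf 5989)) (.node (.leaf 2281) (.leaf 7138))) (.node (.node (.leaf 2195) (.leaf 6706)) (.node (.leaf 4483) (.leaf 0)))) (.node (.node (.node (.leaf 1332) (.leaf 3973)) (.node (.leaf 3076) (.leaf 5500))) (.node (.node (.leaf 2981)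 (.leaf 6045)) (.node (.leaf 5524) (.leaf 0))))) (.node (.node (.node (.node (.leaf 874) (.leaf 6182)) (.node (.leaf 4060) (.leaf 2081))) (.node (.node (.leaf 661) (.leaf 5805)) (.node (.leaf 5257) (.leaf 0)))) (.node (.node (.node (.leaf 1771) (.leaf 6145)) (.node (.leaf 4694) (.leaf 1502))) (.node (.node (.leaf 3353) (.leaf 5873)) (.node (.leaf 1926) (.leaf 0)))))))) (.node (.node (.node (.node (.node (.node (.node (.leaf 84) (.leaf 5857)) (.node (.leaf 3494) (.leaf 5149))) (.node (.node (.leaf 1932) (.leaf 5037)) (.node (.leaf 4805) (.leaf 7328)))) (.node (.node (.node (.leaf 1051) (.leaf 3864)) (.node (.leaf 2274) (.leaf 7238))) (.node (.node (.leaf 2745) (.leaf 5730)) (.node (.leaf 2621) (.leaf 0))))) (.node (.node (.node (.node (.leaf 577) (.leaf 6060)) (.node (.leaf 3835) (.leaf 5862))) (.node (.node (.leaf 2350) (.leaf 4788)) (.node (.leaf 988) (.leaf 0)))) (.node (.node (.node (.leaf 1500) (.leaf 4186)) (.node (.leaf 4503) (.leaf 2825))) (.node (.node (.leaf 3119) (.leaf 4844)) (.node (.leaf 271) (.leaf 0)))))) (.node (.node (.node (.node (.node (.leaf 335) (.leaf 5963)) (.node (.leaf 3630) (.leaf 432))) (.node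 (.node (.leaf 2142) (.leaf 6684)) (.node (.leaf 4952) (.leaf 5040)))) (.node (.node (.node (.leaf 1279) (.leaf 2763)) (.node (.leaf 4286) (.leaf 3695))) (.node (.node (.leaf 2932) (.leaf 1775)) (.node (.leaf 144) (.leaf 0))))) (.node (.node (.node (.node (.leaf 815) (.leaf 6153)) (.node (.leaf 4017) (.leaf 7008))) (.node (.node (.leaf 2547) (.leaf 6811)) (.node (.leaf 1442) (.leaf 0)))) (.node (.node (.node (.leaf 1717) (.leaf 6526)) (.node (.leaf 4656) (.leaf 5913))) (.node (.node (.leaf 3313) (.leaf 5482)) (.node (.leaf 4646) (.leaf 0))))))) (.node (.node (.node (.node (.node (.node (.leaf 210) (.leaf 3295)) (.node (.leaf 3578) (.leaf 6378))) (.node (.node (.leaf 2043) (.leaf 2230)) (.node (.leaf 4874) (.leaf 6730)))) (.node (.node (.node (.leaf 1164) (.leaf 6307)) (.node (.leaf 4257) (.leaf 5469))) (.node (.node (.leaf 2839) (.leaf 6908)) (.node (.leaf 4999) (.leaf 0))))) (.node (.node (.node (.node (.leaf 697) (.leaf 6100)) (.node (.leaf 3927) (.leaf 4599))) (.node (.node (.leaf 2453) (.leaf 995)) (.node (.leaf 1877) (.leaf 0)))) (.node (.node (.node (.leaf 1608) (.leaf 6474)) (.node (.leaf 4574) (.leaf 3202))) (.node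 (.node (.leaf 2244) (.leaf 2245)) (.node (.leaf 5190) (.leaf 0)))))) (.node (.node (.node (.node (.node (.leaf 455) (.leaf 4687)) (.node (.leaf 1100) (.leaf 1156))) (.node (.node (.leaf 2249) (.leaf 6728)) (.node (.leaf 5016) (.leaf 0)))) (.node (.node (.node (.leaf 1390) (.leaf 6177)) (.node (.leaf 4416) (.leaf 4284))) (.node (.node (.leaf 3030) (.leaf 6087)) (.node (.leaf 5564) (.leaf 0))))) (.node (.node (.node (.node (.leaf 932) (.leaf 439)) (.node (.leaf 4099) (.leaf 7216))) (.node (.node (.leaf 2651) (.leaf 657)) (.node (.leaf 3943) (.leaf 0)))) (.node (.node (.node (.leaf 1828) (.leaf 6564)) (.node (.leaf 4732) (.leaf 6732))) (.node (.node (.leaf 3400) (.leaf 5764)) (.node (.leaf 5795) (.leaf 0))))))))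

def he1T10 : NT := .node (.node (.node (.node (.node (.node (.node (.node (.leaf 22) (.leaf 5827)) (.node (.leaf 3065) (.leaf 4279))) (.node (.node (.leaf 1884) (.leaf 5398)) (.node (.leaf 1093) (.leaf 5644)))) (.node (.node (.node (.leaf 367) (.leaf 2543)) (.node (.leaf 4137) (.leaf 6218))) (.node (.node (.leaf 2700) (.leaf 6866)) (.node (.leaf 5320) (.leaf 0))))) (.node (.node (.node (.node (.leaf 519) (.leaf 5017)) (.node (.leaf 3792) (.leaf 6929))) (.node (.node (.leaf 2301) (.leaf 3405)) (.node (.leaf 2957) (.leaf 0)))) (.node (.node (.node (.leaf 1446) (.leaf 6406)) (.node (.leaf 4457) (.leaf 3147))) (.node (.node (.leaf 3075) (.leaf 5833)) (.node (.leaf 5417) (.leaf 0)))))) (.node (.node (.node (.node (.node (.leaf 274) (.leaf 5933)) (.node (.leaf 35) (.leaf 4378))) (.node (.node (.leaf 798) (.leaf 5706)) (.node (.leaf 4107) (.leaf 4637)))) (.node (.node (.node (.leaf 1224) (.leaf 2346)) (.node (.leaf 4300) (.leaf 1306))) (.node (.node (.leaf 2885) (.leaf 4743)) (.node (.leaf 5459) (.leaf 0))))) (.node (.node (.node (.node (.leaf 756) (.leaf 6123)) (.node (.leaf 3975) (.leaf 7199))) (.node (.node (.leaf 2504) (.leaf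 3924)) (.node (.leaf 1924) (.leaf 0)))) (.node (.node (.node (.leaf 1664) (.leaf 6388)) (.node (.leaf 4618) (.leaf 7312))) (.node (.node (.leaf 3267) (.leaf 7036)) (.node (.leaf 2530) (.leaf 0))))))) (.node (.node (.node (.node (.node (.node (.leaf 149) (.leaf 5886)) (.node (.leaf 707) (.leaf 6581))) (.node (.node (.leaf 1993) (.leaf 4041)) (.node (.leaf 4841) (.leaf 1458)))) (.node (.node (.node (.leaf 1111) (.leaf 6286)) (.node (.leaf 4225) (.leaf 2003))) (.node (.node (.leaf 2792) (.leaf 5756)) (.node (.leaf 1726) (.leaf 0))))) (.node (.node (.node (.node (.leaf 640) (.leaf 6077)) (.node (.leaf 3883) (.leaf 5326))) (.node (.node (.leaf 2403) (.leaf 6697)) (.node (.leaf 5111) (.leaf 0)))) (.node (.node (.node (.leaf 1554) (.leaf 6452)) (.node (.leaf 2641) (.leaf 1050))) (.node (.node (.leaf 2079) (.leaf 5864)) (.node (.leaf 5643) (.leaf 0)))))) (.node (.node (.node (.node (.node (.leaf 397) (.leaf 5991)) (.node (.leaf 1639) (.leaf 6128))) (.node (.node (.leaf 2197) (.leaf 6707)) (.node (.leaf 1797) (.leaf 0)))) (.node (.node (.node (.leaf 1334) (.leaf 6372)) (.node (.leaf 800) (.leaf 7274))) (.node (.node (.leaf 2983)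 (.leaf 6961)) (.node (.leaf 5525) (.leaf 0))))) (.node (.node (.node (.node (.leaf 876) (.leaf 6183)) (.node (.leaf 1527) (.leaf 7119))) (.node (.node (.leaf 2599) (.leaf 1355)) (.node (.leaf 4191) (.leaf 0)))) (.node (.node (.node (.leaf 1773) (.leaf 639)) (.node (.leaf 4695) (.leaf 4934))) (.node (.node (.leaf 3355) (.leaf 6328)) (.node (.leaf 5765) (.leaf 0)))))))) (.node (.node (.node (.node (.node (.node (.node (.leaf 86) (.leaf 5815)) (.node (.leaf 3298) (.leaf 199))) (.node (.node (.leaf 1934) (.leaf 6607)) (.node (.leaf 4362) (.leaf 6562)))) (.node (.node (.node (.leaf 1052) (.leaf 6032)) (.node (.leaf 4182) (.leaf 7169))) (.node (.node (.leaf 2030) (.leaf 6503)) (.node (.leaf 5359) (.leaf 0))))) (.node (.node (.node (.node (.leaf 579) (.leaf 6062)) (.node (.leaf 746) (.leaf 6094))) (.node (.node (.leaf 2351) (.leaf 6180)) (.node (.leaf 5077) (.leaf 0)))) (.node (.node (.node (.leaf 1501) (.leaf 2658)) (.node (.leaf 4505) (.leaf 4821))) (.node (.node (.leaf 3121) (.leaf 6999)) (.node (.leaf 23) (.leaf 0)))))) (.node (.node (.node (.node (.node (.leaf 337) (.leaf 5964)) (.node (.leaf 3284) (.leaf 3636))) (.node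 (.node (.leaf 2144) (.leaf 2313)) (.node (.leaf 4954) (.leaf 6155)))) (.node (.node (.node (.leaf 1281) (.leaf 5781)) (.node (.leaf 539) (.leaf 6284))) (.node (.node (.leaf 2933) (.leaf 6938)) (.node (.leaf 83) (.leaf 0))))) (.node (.node (.node (.node (.leaf 817) (.leaf 6154)) (.node (.leaf 4019) (.leaf 1548))) (.node (.node (.leaf 1574) (.leaf 6812)) (.node (.leaf 4149) (.leaf 0)))) (.node (.node (.node (.leaf 1719) (.leaf 2780)) (.node (.leaf 3956) (.leaf 2373))) (.node (.node (.leaf 3314) (.leaf 6881)) (.node (.leaf 5733) (.leaf 0))))))) (.node (.node (.node (.node (.node (.node (.leaf 212) (.leaf 5903)) (.node (.leaf 3580) (.leaf 6172))) (.node (.node (.leaf 2045) (.leaf 5234)) (.node (.leaf 4875) (.leaf 1277)))) (.node (.node (.node (.leaf 1166) (.leaf 1115)) (.node (.leaf 4259) (.leaf 1183))) (.node (.node (.leaf 514) (.leaf 6909)) (.node (.leaf 5425) (.leaf 0))))) (.node (.node (.node (.node (.leaf 699) (.leaf 6102)) (.node (.leaf 3483) (.leaf 7194))) (.node (.node (.leaf 2455) (.leaf 6739)) (.node (.leaf 5150) (.leaf 0)))) (.node (.node (.node (.leaf 1610) (.leaf 6475)) (.node (.leaf 4575) (.leaf 441))) (.node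 (.node (.leaf 3220) (.leaf 4872)) (.node (.leaf 5397) (.leaf 0)))))) (.node (.node (.node (.node (.node (.leaf 457) (.leaf 4072)) (.node (.leaf 3750) (.leaf 4439))) (.node (.node (.leaf 2250) (.leaf 2122)) (.node (.leaf 67) (.leaf 0)))) (.node (.node (.node (.leaf 480) (.leaf 2414)) (.node (.leaf 4417) (.leaf 4840))) (.node (.node (.leaf 877) (.leaf 2612)) (.node (.leaf 5565) (.leaf 0))))) (.node (.node (.node (.node (.leaf 934) (.leaf 6210)) (.node (.leaf 4101) (.leaf 6022))) (.node (.node (.leaf 2596) (.leaf 2940)) (.node (.leaf 5291) (.leaf 0)))) (.node (.node (.node (.leaf 917) (.leaf 6566)) (.node (.leaf 458) (.leaf 2991))) (.node (.node (.leaf 3401) (.leaf 6035)) (.node (.leaf 1622) (.leaf 0))))))))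

def he1T11 : NT := .node (.node (.node (.node (.node (.node (.node (.node (.leaf 24) (.leaf 5829)) (.node (.leaf 2304) (.leaf 7078))) (.node (.node (.leaf 1886) (.leaf 4037)) (.node (.leaf 4772) (.leaf 7283)))) (.node (.node (.node (.leaf 994) (.leaf 6233)) (.node (.leaf 3337) (.leaf 7081))) (.node (.node (.leaf 2702) (.leaf 947)) (.node (.leaf 1272) (.leaf 0))))) (.node (.node (.node (.node (.leaf 521) (.leaf 1257)) (.node (.leaf 3793) (.leaf 6911))) (.node (.node (.leaf 2303) (.leaf 6742)) (.node (.leaf 5047) (.leaf 0)))) (.node (.node (.node (.leaf 1014) (.leaf 6407)) (.node (.leaf 4458) (.leaf 7180))) (.node (.node (.leaf 3077) (.leaf 3434)) (.node (.leaf 5593) (.leaf 0)))))) (.node (.node (.node (.node (.node (.leaf 276) (.leaf 3054)) (.node (.leaf 1423) (.leaf 7118))) (.node (.node (.leaf 2097) (.leaf 6660)) (.node (.leaf 4906) (.leaf 6579)))) (.node (.node (.node (.leaf 1225) (.leaf 6326)) (.node (.leaf 1990) (.leaf 6310))) (.node (.node (.leaf 2886) (.leaf 6924)) (.node (.leaf 5437) (.leaf 0))))) (.node (.node (.node (.node (.leaf 758) (.leaf 6125)) (.node (.leaf 3976) (.leaf 6952))) (.node (.node (.leaf 2506)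 (.leaf 4796)) (.node (.leaf 5189) (.leaf 0)))) (.node (.node (.node (.leaf 1665) (.leaf 6499)) (.node (.leaf 4620) (.leaf 3442))) (.node (.node (.leaf 3269) (.leaf 1124)) (.node (.leaf 5703) (.leaf 0))))))) (.node (.node (.node (.node (.node (.node (.leaf 151) (.leaf 5887)) (.node (.leaf 3542) (.leaf 3330))) (.node (.node (.leaf 1995) (.leaf 6194)) (.node (.leaf 4245) (.leaf 3082)))) (.node (.node (.node (.leaf 1112) (.leaf 6287)) (.node (.leaf 4227) (.leaf 6790))) (.node (.node (.leaf 2794) (.leaf 563)) (.node (.leaf 744) (.leaf 0))))) (.node (.node (.node (.node (.leaf 642) (.leaf 5898)) (.node (.leaf 3885) (.leaf 7185))) (.node (.node (.leaf 2405) (.leaf 4024)) (.node (.leaf 4785) (.leaf 0)))) (.node (.node (.node (.leaf 1556) (.leaf 6140)) (.node (.leaf 4539) (.leaf 7162))) (.node (.node (.leaf 3172) (.leaf 79)) (.node (.leaf 5645) (.leaf 0)))))) (.node (.node (.node (.node (.node (.leaf 399) (.leaf 5992)) (.node (.leaf 3710) (.leaf 369))) (.node (.node (.leaf 2199) (.leaf 5299)) (.node (.leaf 4985) (.leaf 0)))) (.node (.node (.node (.leaf 1336) (.leaf 6373)) (.node (.leaf 4377) (.leaf 6871))) (.node (.node (.leaf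 2985) (.leaf 4777)) (.node (.leaf 5527) (.leaf 0))))) (.node (.node (.node (.node (.leaf 878) (.leaf 5539)) (.node (.leaf 4062) (.leaf 7077))) (.node (.node (.leaf 2601) (.leaf 4775)) (.node (.leaf 5260) (.leaf 0)))) (.node (.node (.node (.leaf 1363) (.leaf 4319)) (.node (.leaf 4696) (.leaf 4258))) (.node (.node (.leaf 3357) (.leaf 6469)) (.node (.leaf 27) (.leaf 0)))))))) (.node (.node (.node (.node (.node (.node (.node (.leaf 88) (.leaf 4018)) (.node (.leaf 3497) (.leaf 7090))) (.node (.node (.leaf 1936) (.leaf 5048)) (.node (.leaf 4808) (.leaf 2392)))) (.node (.node (.node (.leaf 1054) (.leaf 689)) (.node (.leaf 2868) (.leaf 7239))) (.node (.node (.leaf 2746) (.leaf 6724)) (.node (.leaf 5361) (.leaf 0))))) (.node (.node (.node (.node (.leaf 581) (.leaf 2397)) (.node (.leaf 3837) (.leaf 6119))) (.node (.node (.leaf 2353) (.leaf 6692)) (.node (.leaf 2684) (.leaf 0)))) (.node (.node (.node (.leaf 1503) (.leaf 424)) (.node (.leaf 164) (.leaf 721))) (.node (.node (.leaf 3123) (.leaf 3017)) (.node (.leaf 2522) (.leaf 0)))))) (.node (.node (.node (.node (.node (.leaf 211) (.leaf 5965)) (.node (.leaf 3671) (.leaf 6175))) (.node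 (.node (.leaf 2146) (.leaf 5691)) (.node (.leaf 1375) (.leaf 7338)))) (.node (.node (.node (.leaf 1283) (.leaf 4619)) (.node (.leaf 1438) (.leaf 6810))) (.node (.node (.leaf 2935) (.leaf 6940)) (.node (.leaf 2950) (.leaf 0))))) (.node (.node (.node (.node (.leaf 819) (.leaf 2616)) (.node (.leaf 4021) (.leaf 4919))) (.node (.node (.leaf 1208) (.leaf 6237)) (.node (.leaf 4456) (.leaf 0)))) (.node (.node (.node (.leaf 1721) (.leaf 6527)) (.node (.leaf 4657) (.leaf 1722))) (.node (.node (.leaf 3316) (.leaf 6694)) (.node (.leaf 5735) (.leaf 0))))))) (.node (.node (.node (.node (.node (.node (.leaf 214) (.leaf 5904)) (.node (.leaf 3581) (.leaf 7112))) (.node (.node (.leaf 1055) (.leaf 5841)) (.node (.leaf 4876) (.leaf 2021)))) (.node (.node (.node (.leaf 1168) (.leaf 875)) (.node (.leaf 4260) (.leaf 7142))) (.node (.node (.leaf 2841) (.leaf 6910)) (.node (.leaf 5427) (.leaf 0))))) (.node (.node (.node (.node (.leaf 701) (.leaf 4684)) (.node (.leaf 3929) (.leaf 5066))) (.node (.node (.leaf 2457) (.leaf 3926)) (.node (.leaf 3079) (.leaf 0)))) (.node (.node (.node (.leaf 1612) (.leaf 6477)) (.node (.leaf 4577) (.leaf 7298))) (.node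 (.node (.leaf 3222) (.leaf 5919)) (.node (.leaf 5380) (.leaf 0)))))) (.node (.node (.node (.node (.node (.leaf 459) (.leaf 3629)) (.node (.leaf 3751) (.leaf 2396))) (.node (.node (.leaf 2251) (.leaf 2629)) (.node (.leaf 1474) (.leaf 0)))) (.node (.node (.node (.leaf 1393) (.leaf 1542)) (.node (.leaf 4419) (.leaf 6624))) (.node (.node (.leaf 3033) (.leaf 6976)) (.node (.leaf 3326) (.leaf 0))))) (.node (.node (.node (.node (.leaf 935) (.leaf 3282)) (.node (.leaf 4103) (.leaf 7217))) (.node (.node (.leaf 2160) (.leaf 5722)) (.node (.leaf 3684) (.leaf 0)))) (.node (.node (.node (.leaf 1830) (.leaf 6112)) (.node (.leaf 3000) (.leaf 1947))) (.node (.node (.leaf 3402) (.leaf 2475)) (.node (.leaf 5797) (.leaf 0))))))))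

def he1T12 : NT := .node (.node (.node (.node (.node (.node (.node (.node (.leaf 26) (.leaf 5831)) (.node (.leaf 763) (.leaf 5966))) (.node (.node (.leaf 1887) (.leaf 351)) (.node (.leaf 4774) (.leaf 5729)))) (.node (.node (.node (.leaf 996) (.leaf 6234)) (.node (.leaf 4140) (.leaf 4368))) (.node (.node (.leaf 2511) (.leaf 6300)) (.node (.leaf 5321) (.leaf 0))))) (.node (.node (.node (.node (.leaf 523) (.leaf 5350)) (.node (.leaf 3794) (.leaf 5986))) (.node (.node (.leaf 2305) (.leaf 6743)) (.node (.leaf 3768) (.leaf 0)))) (.node (.node (.node (.leaf 1448) (.leaf 2917)) (.node (.leaf 4459) (.leaf 6483))) (.node (.node (.leaf 3078) (.leaf 3729)) (.node (.leaf 4136) (.leaf 0)))))) (.node (.node (.node (.node (.node (.leaf 278) (.leaf 5934)) (.node (.leaf 3631) (.leaf 1426))) (.node (.node (.leaf 2099) (.leaf 6662)) (.node (.leaf 4907) (.leaf 3701)))) (.node (.node (.node (.leaf 1227) (.leaf 6327)) (.node (.leaf 2138) (.leaf 6948))) (.node (.node (.leaf 2888) (.leaf 261)) (.node (.leaf 5462) (.leaf 0))))) (.node (.node (.node (.node (.leaf 760) (.leaf 6127)) (.node (.leaf 3978) (.leaf 2364))) (.node (.node (.leaf 1349) (.leaf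 6799)) (.node (.leaf 3673) (.leaf 0)))) (.node (.node (.node (.leaf 1667) (.leaf 6501)) (.node (.leaf 1643) (.leaf 6219))) (.node (.node (.leaf 3271) (.leaf 4886)) (.node (.leaf 134) (.leaf 0))))))) (.node (.node (.node (.node (.node (.node (.leaf 153) (.leaf 5212)) (.node (.leaf 1460) (.leaf 347))) (.node (.node (.leaf 1997) (.leaf 5143)) (.node (.leaf 4842) (.leaf 555)))) (.node (.node (.node (.leaf 1114) (.leaf 6199)) (.node (.leaf 4228) (.leaf 6269))) (.node (.node (.leaf 2795) (.leaf 6659)) (.node (.leaf 2050) (.leaf 0))))) (.node (.node (.node (.node (.leaf 644) (.leaf 5726)) (.node (.leaf 3887) (.leaf 2456))) (.node (.node (.leaf 2407) (.leaf 1531)) (.node (.leaf 5112) (.leaf 0)))) (.node (.node (.node (.leaf 1557) (.leaf 2152)) (.node (.leaf 130) (.leaf 6759))) (.node (.node (.leaf 3173) (.leaf 2171)) (.node (.leaf 2887) (.leaf 0)))))) (.node (.node (.node (.node (.node (.leaf 401) (.leaf 3890)) (.node (.leaf 3712) (.leaf 7140))) (.node (.node (.leaf 2201) (.leaf 6708)) (.node (.leaf 4986) (.leaf 0)))) (.node (.node (.node (.leaf 1338) (.leaf 5830)) (.node (.leaf 4379) (.leaf 990))) (.node (.node (.leaf 2987) (.leaf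 6962)) (.node (.leaf 5529) (.leaf 0))))) (.node (.node (.node (.node (.leaf 879) (.leaf 6186)) (.node (.leaf 4064) (.leaf 2959))) (.node (.node (.leaf 343) (.leaf 6630)) (.node (.leaf 5261) (.leaf 0)))) (.node (.node (.node (.leaf 1776) (.leaf 5955)) (.node (.leaf 2625) (.leaf 2340))) (.node (.node (.leaf 3358) (.leaf 7058)) (.node (.leaf 2786) (.leaf 0)))))))) (.node (.node (.node (.node (.node (.node (.node (.leaf 90) (.leaf 2276)) (.node (.leaf 1392) (.leaf 7091))) (.node (.node (.leaf 1938) (.leaf 6608)) (.node (.leaf 4809) (.leaf 7335)))) (.node (.node (.node (.leaf 1056) (.leaf 6265)) (.node (.leaf 4184) (.leaf 7240))) (.node (.node (.leaf 128) (.leaf 6880)) (.node (.leaf 2923) (.leaf 0))))) (.node (.node (.node (.node (.leaf 583) (.leaf 2912)) (.node (.leaf 1128) (.leaf 107))) (.node (.node (.leaf 1071) (.leaf 6242)) (.node (.leaf 5079) (.leaf 0)))) (.node (.node (.node (.leaf 1505) (.leaf 6432)) (.node (.leaf 1351) (.leaf 5140))) (.node (.node (.leaf 3125) (.leaf 1560)) (.node (.leaf 2934) (.leaf 0)))))) (.node (.node (.node (.node (.node (.leaf 340) (.leaf 3276)) (.node (.leaf 3672) (.leaf 443))) (.node (.node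 (.leaf 2148) (.leaf 5683)) (.node (.leaf 3186) (.leaf 5556)))) (.node (.node (.node (.leaf 1285) (.leaf 5950)) (.node (.leaf 4338) (.leaf 7265))) (.node (.node (.leaf 2109) (.leaf 2057)) (.node (.leaf 2190) (.leaf 0))))) (.node (.node (.node (.node (.leaf 821) (.leaf 1181)) (.node (.leaf 4023) (.leaf 6780))) (.node (.node (.leaf 2550) (.leaf 6814)) (.node (.leaf 1232) (.leaf 0)))) (.node (.node (.node (.leaf 1723) (.leaf 5164)) (.node (.leaf 4658) (.leaf 5413))) (.node (.node (.leaf 3318) (.leaf 966)) (.node (.leaf 4201) (.leaf 0))))))) (.node (.node (.node (.node (.node (.node (.leaf 216) (.leaf 5905)) (.node (.leaf 3583) (.leaf 2470))) (.node (.node (.leaf 2047) (.leaf 5895)) (.node (.leaf 4877) (.leaf 2515)))) (.node (.node (.node (.leaf 992) (.leaf 5648)) (.node (.leaf 402) (.leaf 5625))) (.node (.node (.leaf 2842) (.leaf 1005)) (.node (.leaf 5428) (.leaf 0))))) (.node (.node (.node (.node (.leaf 703) (.leaf 6104)) (.node (.leaf 2342) (.leaf 462))) (.node (.node (.leaf 2458) (.leaf 3341)) (.node (.leaf 4157) (.leaf 0)))) (.node (.node (.node (.leaf 1614) (.leaf 4987)) (.node (.leaf 4578) (.leaf 4825))) (.node (.node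 (.leaf 3224) (.leaf 2830)) (.node (.leaf 5676) (.leaf 0)))))) (.node (.node (.node (.node (.node (.leaf 461) (.leaf 6018)) (.node (.leaf 3753) (.leaf 1179))) (.node (.node (.leaf 2252) (.leaf 3021)) (.node (.leaf 5020) (.leaf 0)))) (.node (.node (.node (.leaf 1395) (.leaf 649)) (.node (.leaf 2388) (.leaf 3670))) (.node (.node (.leaf 3034) (.leaf 6977)) (.node (.leaf 5567) (.leaf 0))))) (.node (.node (.node (.node (.leaf 937) (.leaf 1040)) (.node (.leaf 4104) (.leaf 6959))) (.node (.node (.leaf 2654) (.leaf 3307)) (.node (.leaf 478) (.leaf 0)))) (.node (.node (.node (.leaf 1832) (.leaf 6567)) (.node (.leaf 4735) (.leaf 7154))) (.node (.node (.leaf 3404) (.leaf 6847)) (.node (.leaf 5798) (.leaf 0))))))))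

def he1T13 : NT := .node (.node (.node (.node (.node (.node (.node (.node (.leaf 28) (.leaf 4348)) (.node (.leaf 3447) (.leaf 4882))) (.node (.node (.leaf 1888) (.leaf 6597)) (.node (.leaf 4183) (.leaf 6823)))) (.node (.node (.node (.leaf 998) (.leaf 6236)) (.node (.leaf 4141) (.leaf 7098))) (.node (.node (.leaf 1583) (.leaf 6504)) (.node (.leaf 5323) (.leaf 0))))) (.node (.node (.node (.node (.leaf 525) (.leaf 6036)) (.node (.leaf 2921) (.leaf 584))) (.node (.node (.leaf 2307) (.leaf 4737)) (.node (.leaf 5025) (.leaf 0)))) (.node (.node (.node (.leaf 1450) (.leaf 6409)) (.node (.leaf 4461) (.leaf 7291))) (.node (.node (.leaf 2410) (.leaf 4799)) (.node (.leaf 5594) (.leaf 0)))))) (.node (.node (.node (.node (.node (.leaf 280) (.leaf 1023)) (.node (.leaf 2593) (.leaf 6988))) (.node (.node (.leaf 2101) (.leaf 5975)) (.node (.leaf 1144) (.leaf 6244)))) (.node (.node (.node (.leaf 1229) (.leaf 1892)) (.node (.leaf 3601) (.leaf 6515))) (.node (.node (.leaf 1466) (.leaf 4682)) (.node (.leaf 5463) (.leaf 0))))) (.node (.node (.node (.node (.leaf 762) (.leaf 2425)) (.node (.leaf 2379) (.leaf 2394))) (.node (.node (.leaf 2508)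 (.leaf 6506)) (.node (.leaf 5191) (.leaf 0)))) (.node (.node (.node (.leaf 641) (.leaf 110)) (.node (.leaf 4623) (.leaf 365))) (.node (.node (.leaf 3273) (.leaf 2262)) (.node (.leaf 5705) (.leaf 0))))))) (.node (.node (.node (.node (.node (.node (.leaf 155) (.leaf 4570)) (.node (.leaf 993) (.leaf 4102))) (.node (.node (.leaf 1999) (.leaf 1856)) (.node (.leaf 3933) (.leaf 7107)))) (.node (.node (.node (.leaf 1116) (.leaf 3265)) (.node (.leaf 4229) (.leaf 5180))) (.node (.node (.leaf 2797) (.leaf 3201)) (.node (.leaf 3026) (.leaf 0))))) (.node (.node (.node (.node (.leaf 645) (.leaf 1537)) (.node (.leaf 3889) (.leaf 6546))) (.node (.node (.leaf 2409) (.leaf 4005)) (.node (.leaf 5113) (.leaf 0)))) (.node (.node (.node (.leaf 1559) (.leaf 5580)) (.node (.leaf 2183) (.leaf 5773))) (.node (.node (.leaf 1152) (.leaf 5127)) (.node (.leaf 3599) (.leaf 0)))))) (.node (.node (.node (.node (.node (.leaf 403) (.leaf 5993)) (.node (.leaf 3513) (.leaf 908))) (.node (.node (.leaf 2202) (.leaf 6709)) (.node (.leaf 4988) (.leaf 0)))) (.node (.node (.node (.leaf 1340) (.leaf 5442)) (.node (.leaf 4380) (.leaf 6885))) (.node (.node (.leaf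 2989) (.leaf 2015)) (.node (.leaf 5456) (.leaf 0))))) (.node (.node (.node (.node (.leaf 880) (.leaf 6188)) (.node (.leaf 4066) (.leaf 6917))) (.node (.node (.leaf 2604) (.leaf 3301)) (.node (.leaf 2564) (.leaf 0)))) (.node (.node (.node (.leaf 1777) (.leaf 6297)) (.node (.leaf 4697) (.leaf 7000))) (.node (.node (.leaf 3360) (.leaf 7059)) (.node (.leaf 4339) (.leaf 0)))))))) (.node (.node (.node (.node (.node (.node (.node (.leaf 92) (.leaf 4392)) (.node (.leaf 3499) (.leaf 6718))) (.node (.node (.leaf 1940) (.leaf 89)) (.node (.leaf 4810) (.leaf 5588)))) (.node (.node (.node (.leaf 1058) (.leaf 358)) (.node (.leaf 4185) (.leaf 6509))) (.node (.node (.leaf 2749) (.leaf 87)) (.node (.leaf 5362) (.leaf 0))))) (.node (.node (.node (.node (.leaf 585) (.leaf 2645)) (.node (.leaf 3840) (.leaf 4489))) (.node (.node (.leaf 2355) (.leaf 6414)) (.node (.leaf 473) (.leaf 0)))) (.node (.node (.node (.leaf 1507) (.leaf 6314)) (.node (.leaf 4508) (.leaf 6441))) (.node (.node (.leaf 3127) (.leaf 6648)) (.node (.leaf 1252) (.leaf 0)))))) (.node (.node (.node (.node (.node (.leaf 342) (.leaf 4557)) (.node (.leaf 3674) (.leaf 7127))) (.node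 (.node (.leaf 2150) (.leaf 379)) (.node (.leaf 4957) (.leaf 6591)))) (.node (.node (.node (.leaf 1287) (.leaf 6353)) (.node (.leaf 302) (.leaf 2925))) (.node (.node (.leaf 2937) (.leaf 4291)) (.node (.leaf 4533) (.leaf 0))))) (.node (.node (.node (.node (.leaf 822) (.leaf 6156)) (.node (.leaf 4025) (.leaf 95))) (.node (.node (.leaf 2552) (.leaf 330)) (.node (.leaf 4507) (.leaf 0)))) (.node (.node (.node (.leaf 1725) (.leaf 1170)) (.node (.leaf 4433) (.leaf 6376))) (.node (.node (.leaf 2567) (.leaf 2466)) (.node (.leaf 5738) (.leaf 0))))))) (.node (.node (.node (.node (.node (.node (.leaf 218) (.leaf 5906)) (.node (.leaf 3491) (.leaf 2302))) (.node (.node (.leaf 2049) (.leaf 6642)) (.node (.leaf 3582) (.leaf 1032)))) (.node (.node (.node (.leaf 1171) (.leaf 2602)) (.node (.leaf 4263) (.leaf 7068))) (.node (.node (.leaf 2844) (.leaf 1939)) (.node (.leaf 5430) (.leaf 0))))) (.node (.node (.node (.node (.leaf 705) (.leaf 207)) (.node (.leaf 3932) (.leaf 1250))) (.node (.node (.leaf 2460) (.leaf 4266)) (.node (.leaf 5151) (.leaf 0)))) (.node (.node (.node (.leaf 1616) (.leaf 6478)) (.node (.leaf 3204) (.leaf 7269))) (.node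 (.node (.leaf 3225) (.leaf 4629)) (.node (.leaf 1529) (.leaf 0)))))) (.node (.node (.node (.node (.node (.leaf 146) (.leaf 4701)) (.node (.leaf 3754) (.leaf 7153))) (.node (.node (.leaf 2254) (.leaf 6731)) (.node (.leaf 3628) (.leaf 0)))) (.node (.node (.node (.leaf 1397) (.leaf 410)) (.node (.leaf 4421) (.leaf 3655))) (.node (.node (.leaf 3036) (.leaf 6979)) (.node (.leaf 5569) (.leaf 0))))) (.node (.node (.node (.node (.leaf 939) (.leaf 6211)) (.node (.leaf 4105) (.leaf 3528))) (.node (.node (.leaf 2655) (.leaf 6849)) (.node (.leaf 3194) (.leaf 0)))) (.node (.node (.node (.leaf 1834) (.leaf 6569)) (.node (.leaf 236) (.leaf 396))) (.node (.node (.leaf 3406) (.leaf 6524)) (.node (.leaf 3945) (.leaf 0))))))))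

def he1T14 : NT := .node (.node (.node (.node (.node (.node (.node (.node (.leaf 30) (.leaf 5832)) (.node (.leaf 3449) (.leaf 2817))) (.node (.node (.leaf 1889) (.leaf 4818)) (.node (.leaf 4776) (.leaf 4614)))) (.node (.node (.node (.leaf 1000) (.leaf 6238)) (.node (.leaf 4142) (.leaf 5519))) (.node (.node (.leaf 2705) (.leaf 4973)) (.node (.leaf 5325) (.leaf 0))))) (.node (.node (.node (.node (.leaf 527) (.leaf 1881)) (.node (.leaf 3797) (.leaf 7167))) (.node (.node (.leaf 2309) (.leaf 4902)) (.node (.leaf 5050) (.leaf 0)))) (.node (.node (.node (.leaf 1452) (.leaf 4425)) (.node (.leaf 4462) (.leaf 5249))) (.node (.node (.leaf 3080) (.leaf 6990)) (.node (.leaf 3436) (.leaf 0)))))) (.node (.node (.node (.node (.node (.leaf 282) (.leaf 2513)) (.node (.leaf 1090) (.leaf 769))) (.node (.node (.leaf 2102) (.leaf 5329)) (.node (.leaf 4910) (.leaf 2356)))) (.node (.node (.node (.leaf 1231) (.leaf 6330)) (.node (.leaf 181) (.leaf 6645))) (.node (.node (.leaf 2890) (.leaf 6925)) (.node (.leaf 4823) (.leaf 0))))) (.node (.node (.node (.node (.leaf 764) (.leaf 6129)) (.node (.leaf 3981) (.leaf 2440))) (.node (.node (.leaf 2510)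 (.leaf 512)) (.node (.leaf 5193) (.leaf 0)))) (.node (.node (.node (.leaf 1669) (.leaf 6368)) (.node (.leaf 4625) (.leaf 6319))) (.node (.node (.leaf 3275) (.leaf 69)) (.node (.leaf 5707) (.leaf 0))))))) (.node (.node (.node (.node (.node (.node (.leaf 157) (.leaf 5888)) (.node (.leaf 1764) (.leaf 6787))) (.node (.node (.leaf 2001) (.leaf 5270)) (.node (.leaf 4845) (.leaf 7330)))) (.node (.node (.node (.leaf 1118) (.leaf 3935)) (.node (.leaf 4231) (.leaf 4521))) (.node (.node (.leaf 2799) (.leaf 6856)) (.node (.leaf 5399) (.leaf 0))))) (.node (.node (.node (.node (.leaf 647) (.leaf 6080)) (.node (.leaf 2699) (.leaf 1311))) (.node (.node (.leaf 2411) (.leaf 1545)) (.node (.leaf 2716) (.leaf 0)))) (.node (.node (.node (.leaf 1561) (.leaf 6454)) (.node (.leaf 2750) (.leaf 7272))) (.node (.node (.leaf 3175) (.leaf 4472)) (.node (.leaf 3663) (.leaf 0)))))) (.node (.node (.node (.node (.node (.leaf 405) (.leaf 5995)) (.node (.leaf 3714) (.leaf 6061))) (.node (.node (.leaf 2204) (.leaf 4680)) (.node (.leaf 4989) (.leaf 0)))) (.node (.node (.node (.leaf 1342) (.leaf 6252)) (.node (.leaf 2383) (.leaf 7255))) (.node (.node (.leaf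 2990) (.leaf 6963)) (.node (.leaf 2978) (.leaf 0))))) (.node (.node (.node (.node (.leaf 882) (.leaf 6189)) (.node (.leaf 2535) (.leaf 6333))) (.node (.node (.leaf 2606) (.leaf 6363)) (.node (.leaf 5263) (.leaf 0)))) (.node (.node (.node (.leaf 1779) (.leaf 6543)) (.node (.leaf 4699) (.leaf 1413))) (.node (.node (.leaf 3362) (.leaf 2155)) (.node (.leaf 5767) (.leaf 0)))))))) (.node (.node (.node (.node (.node (.node (.node (.leaf 94) (.leaf 5861)) (.node (.leaf 3501) (.leaf 6664))) (.node (.node (.leaf 1942) (.leaf 4437)) (.node (.leaf 4812) (.leaf 7336)))) (.node (.node (.node (.leaf 1060) (.leaf 4757)) (.node (.leaf 4187) (.leaf 3163))) (.node (.node (.leaf 2751) (.leaf 2042)) (.node (.leaf 5363) (.leaf 0))))) (.node (.node (.node (.node (.leaf 587) (.leaf 6063)) (.node (.leaf 1915) (.leaf 6294))) (.node (.node (.leaf 2357) (.leaf 4304)) (.node (.leaf 1868) (.leaf 0)))) (.node (.node (.node (.leaf 1509) (.leaf 4356)) (.node (.leaf 3386) (.leaf 3520))) (.node (.node (.leaf 3129) (.leaf 4349)) (.node (.leaf 5344) (.leaf 0)))))) (.node (.node (.node (.node (.node (.leaf 344) (.leaf 5814)) (.node (.leaf 3675) (.leaf 6844)))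 (.node (.node (.leaf 1564) (.leaf 6686)) (.node (.leaf 1634) (.leaf 959)))) (.node (.node (.node (.leaf 1289) (.leaf 6354)) (.node (.leaf 4340) (.leaf 5426))) (.node (.node (.leaf 2939) (.leaf 5201)) (.node (.leaf 4668) (.leaf 0))))) (.node (.node (.node (.node (.leaf 824) (.leaf 5947)) (.node (.leaf 2497) (.leaf 5210))) (.node (.node (.leaf 2554) (.leaf 3756)) (.node (.leaf 5229) (.leaf 0)))) (.node (.node (.node (.leaf 1727) (.leaf 729)) (.node (.leaf 4660) (.leaf 7324))) (.node (.node (.leaf 3320) (.leaf 6385)) (.node (.leaf 2722) (.leaf 0))))))) (.node (.node (.node (.node (.node (.node (.leaf 220) (.leaf 2505)) (.node (.leaf 3586) (.leaf 7113))) (.node (.node (.leaf 2051) (.leaf 3354)) (.node (.leaf 3514) (.leaf 7306)))) (.node (.node (.node (.leaf 1173) (.leaf 5957)) (.node (.leaf 4265) (.leaf 5395))) (.node (.node (.leaf 2846) (.leaf 4639)) (.node (.leaf 862) (.leaf 0))))) (.node (.node (.node (.node (.leaf 604) (.leaf 114)) (.node (.leaf 3934) (.leaf 7195))) (.node (.node (.leaf 2461) (.leaf 494)) (.node (.leaf 5152) (.leaf 0)))) (.node (.node (.node (.leaf 1618) (.leaf 1674)) (.node (.leaf 4581) (.leaf 5938)))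 (.node (.node (.leaf 3227) (.leaf 4004)) (.node (.leaf 3971) (.leaf 0)))))) (.node (.node (.node (.node (.node (.leaf 464) (.leaf 6021)) (.node (.leaf 3487) (.leaf 2488))) (.node (.node (.leaf 2256) (.leaf 6439)) (.node (.leaf 1840) (.leaf 0)))) (.node (.node (.node (.leaf 1214) (.leaf 1746)) (.node (.leaf 4423) (.leaf 5505))) (.node (.node (.leaf 3038) (.leaf 2282)) (.node (.leaf 5571) (.leaf 0))))) (.node (.node (.node (.node (.leaf 941) (.leaf 3243)) (.node (.leaf 4106) (.leaf 5328))) (.node (.node (.leaf 2657) (.leaf 6729)) (.node (.leaf 1412) (.leaf 0)))) (.node (.node (.node (.leaf 1836) (.leaf 6570)) (.node (.leaf 3226) (.leaf 2104))) (.node (.node (.leaf 2829) (.leaf 7044)) (.node (.leaf 5258) (.leaf 0))))))))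

def he1T15 : NT := .node (.node (.node (.node (.node (.node (.node (.node (.leaf 32) (.leaf 5834)) (.node (.leaf 3450) (.leaf 7069))) (.node (.node (.leaf 1891) (.leaf 6599)) (.node (.leaf 4778) (.leaf 7225)))) (.node (.node (.node (.leaf 1002) (.leaf 6239)) (.node (.leaf 3616) (.leaf 7230))) (.node (.node (.leaf 2706) (.leaf 5445)) (.node (.leaf 5327) (.leaf 0))))) (.node (.node (.node (.node (.leaf 529) (.leaf 2017)) (.node (.leaf 3799) (.leaf 5576))) (.node (.node (.leaf 2310) (.leaf 6296)) (.node (.leaf 162) (.leaf 0)))) (.node (.node (.node (.leaf 1453) (.leaf 6410)) (.node (.leaf 4272) (.leaf 955))) (.node (.node (.leaf 1941) (.leaf 1048)) (.node (.leaf 3587) (.leaf 0)))))) (.node (.node (.node (.node (.node (.leaf 284) (.leaf 5937)) (.node (.leaf 3632) (.leaf 291))) (.node (.node (.leaf 2103) (.leaf 4917)) (.node (.leaf 4912) (.leaf 7339)))) (.node (.node (.node (.leaf 1233) (.leaf 6332)) (.node (.leaf 4305) (.leaf 5036))) (.node (.node (.leaf 2892) (.leaf 191)) (.node (.leaf 5464) (.leaf 0))))) (.node (.node (.node (.node (.leaf 766) (.leaf 6130)) (.node (.leaf 3430) (.leaf 6479))) (.node (.node (.leaf 2512) (.leaf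 4829)) (.node (.leaf 5195) (.leaf 0)))) (.node (.node (.node (.leaf 1671) (.leaf 6505)) (.node (.leaf 4626) (.leaf 7046))) (.node (.node (.leaf 2264) (.leaf 5053)) (.node (.leaf 300) (.leaf 0))))))) (.node (.node (.node (.node (.node (.node (.leaf 159) (.leaf 970)) (.node (.leaf 3545) (.leaf 1117))) (.node (.node (.leaf 2002) (.leaf 6329)) (.node (.leaf 4847) (.leaf 7285)))) (.node (.node (.node (.leaf 1120) (.leaf 6288)) (.node (.leaf 4232) (.leaf 5656))) (.node (.node (.leaf 2801) (.leaf 4262)) (.node (.leaf 5400) (.leaf 0))))) (.node (.node (.node (.node (.leaf 648) (.leaf 3280)) (.node (.leaf 3891) (.leaf 7186))) (.node (.node (.leaf 2413) (.leaf 4074)) (.node (.leaf 5115) (.leaf 0)))) (.node (.node (.node (.leaf 1563) (.leaf 6455)) (.node (.leaf 4542) (.leaf 3245))) (.node (.node (.leaf 3177) (.leaf 2573)) (.node (.leaf 5647) (.leaf 0)))))) (.node (.node (.node (.node (.node (.leaf 407) (.leaf 5584)) (.node (.leaf 3715) (.leaf 4327))) (.node (.node (.leaf 2206) (.leaf 5274)) (.node (.leaf 4991) (.leaf 0)))) (.node (.node (.node (.leaf 1344) (.leaf 6374)) (.node (.leaf 4382) (.leaf 646))) (.node (.node (.leaf 2992)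 (.leaf 2836)) (.node (.leaf 1694) (.leaf 0))))) (.node (.node (.node (.node (.leaf 884) (.leaf 6190)) (.node (.leaf 4067) (.leaf 6826))) (.node (.node (.leaf 2608) (.leaf 5819)) (.node (.leaf 5264) (.leaf 0)))) (.node (.node (.node (.leaf 1780) (.leaf 6544)) (.node (.leaf 4700) (.leaf 1104))) (.node (.node (.leaf 3364) (.leaf 392)) (.node (.leaf 5768) (.leaf 0)))))))) (.node (.node (.node (.node (.node (.node (.node (.leaf 96) (.leaf 5863)) (.node (.leaf 3503) (.leaf 7093))) (.node (.node (.leaf 1944) (.leaf 6609)) (.node (.leaf 4813) (.leaf 3345)))) (.node (.node (.node (.leaf 1062) (.leaf 6268)) (.node (.leaf 4189) (.leaf 3811))) (.node (.node (.leaf 672) (.leaf 2770)) (.node (.leaf 5365) (.leaf 0))))) (.node (.node (.node (.node (.leaf 588) (.leaf 6064)) (.node (.leaf 3842) (.leaf 3104))) (.node (.node (.leaf 2359) (.leaf 4545)) (.node (.leaf 5082) (.leaf 0)))) (.node (.node (.node (.leaf 1432) (.leaf 6433)) (.node (.leaf 2881) (.leaf 1703))) (.node (.node (.leaf 3130) (.leaf 5432)) (.node (.leaf 3650) (.leaf 0)))))) (.node (.node (.node (.node (.node (.leaf 346) (.leaf 4689)) (.node (.leaf 3677) (.leaf 3829))) (.node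 (.node (.leaf 2153) (.leaf 2063)) (.node (.leaf 4960) (.leaf 6831)))) (.node (.node (.node (.leaf 1290) (.leaf 6355)) (.node (.leaf 3638) (.leaf 7267))) (.node (.node (.leaf 2941) (.leaf 4002)) (.node (.leaf 1223) (.leaf 0))))) (.node (.node (.node (.node (.leaf 826) (.leaf 999)) (.node (.leaf 3374) (.leaf 3817))) (.node (.node (.leaf 2556) (.leaf 6627)) (.node (.leaf 5230) (.leaf 0)))) (.node (.node (.node (.leaf 1389) (.leaf 4635)) (.node (.leaf 4595) (.leaf 818))) (.node (.node (.leaf 3321) (.leaf 2443)) (.node (.leaf 4130) (.leaf 0))))))) (.node (.node (.node (.node (.node (.node (.leaf 222) (.leaf 5319)) (.node (.leaf 3588) (.leaf 7114))) (.node (.node (.leaf 1358) (.leaf 6644)) (.node (.leaf 4878) (.leaf 1476)))) (.node (.node (.node (.leaf 1175) (.leaf 6309)) (.node (.leaf 4267) (.leaf 3661))) (.node (.node (.leaf 2848) (.leaf 6804)) (.node (.leaf 1161) (.leaf 0))))) (.node (.node (.node (.node (.leaf 708) (.leaf 3901)) (.node (.leaf 353) (.leaf 2586))) (.node (.node (.leaf 2463) (.leaf 6788)) (.node (.leaf 5154) (.leaf 0)))) (.node (.node (.node (.leaf 1619) (.leaf 5221)) (.node (.leaf 15) (.leaf 6774))) (.node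 (.node (.leaf 2070) (.leaf 1088)) (.node (.leaf 5468) (.leaf 0)))))) (.node (.node (.node (.node (.node (.leaf 466) (.leaf 4026)) (.node (.leaf 3757) (.leaf 5708))) (.node (.node (.leaf 2257) (.leaf 6598)) (.node (.leaf 5021) (.leaf 0)))) (.node (.node (.node (.leaf 1400) (.leaf 2793)) (.node (.leaf 4424) (.leaf 870))) (.node (.node (.leaf 1666) (.leaf 4659)) (.node (.leaf 5572) (.leaf 0))))) (.node (.node (.node (.node (.leaf 943) (.leaf 6214)) (.node (.leaf 4108) (.leaf 5710))) (.node (.node (.leaf 2659) (.leaf 6533)) (.node (.leaf 5294) (.leaf 0)))) (.node (.node (.node (.leaf 1246) (.leaf 6571)) (.node (.leaf 4739) (.leaf 5719))) (.node (.node (.leaf 3407) (.leaf 6351)) (.node (.leaf 5153) (.leaf 0))))))))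

def he1T16 : NT := .node (.node (.node (.node (.node (.node (.node (.node (.leaf 34) (.leaf 4069)) (.node (.leaf 3451) (.leaf 7079))) (.node (.node (.leaf 1893) (.leaf 4502)) (.node (.leaf 1219) (.leaf 883)))) (.node (.node (.node (.leaf 1004) (.leaf 6241)) (.node (.leaf 4145) (.leaf 7027))) (.node (.node (.leaf 2708) (.leaf 6868)) (.node (.leaf 4311) (.leaf 0))))) (.node (.node (.node (.node (.leaf 530) (.leaf 255)) (.node (.leaf 3801) (.leaf 7168))) (.node (.node (.leaf 2312) (.leaf 6745)) (.node (.leaf 5052) (.leaf 0)))) (.node (.node (.node (.leaf 1455) (.leaf 910)) (.node (.leaf 4465) (.leaf 7166))) (.node (.node (.leaf 1917) (.leaf 2404)) (.node (.leaf 5596) (.leaf 0)))))) (.node (.node (.node (.node (.node (.leaf 286) (.leaf 3526)) (.node (.leaf 576) (.leaf 6375))) (.node (.node (.leaf 2105) (.leaf 5875)) (.node (.leaf 4914) (.leaf 413)))) (.node (.node (.node (.leaf 1235) (.leaf 5675)) (.node (.leaf 1113) (.leaf 2808))) (.node (.node (.leaf 2894) (.leaf 2944)) (.node (.leaf 5466) (.leaf 0))))) (.node (.node (.node (.node (.leaf 768) (.leaf 6131)) (.node (.leaf 3928) (.leaf 7103))) (.node (.node (.leaf 1065) (.leaf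 5342)) (.node (.leaf 4468) (.leaf 0)))) (.node (.node (.node (.leaf 1673) (.leaf 4827)) (.node (.leaf 4627) (.leaf 7313))) (.node (.node (.leaf 3278) (.leaf 6523)) (.node (.leaf 5680) (.leaf 0))))))) (.node (.node (.node (.node (.node (.node (.leaf 161) (.leaf 1248)) (.node (.leaf 3546) (.leaf 1396))) (.node (.node (.leaf 2004) (.leaf 6625)) (.node (.leaf 4848) (.leaf 1321)))) (.node (.node (.node (.leaf 504) (.leaf 5811)) (.node (.leaf 963) (.leaf 2325))) (.node (.node (.leaf 2802) (.leaf 3236)) (.node (.leaf 5401) (.leaf 0))))) (.node (.node (.node (.node (.leaf 650) (.leaf 6082)) (.node (.leaf 3892) (.leaf 6643))) (.node (.node (.leaf 2415) (.leaf 6775)) (.node (.leaf 5117) (.leaf 0)))) (.node (.node (.node (.leaf 1565) (.leaf 757)) (.node (.leaf 4544) (.leaf 7020))) (.node (.node (.leaf 3179) (.leaf 7012)) (.node (.leaf 3317) (.leaf 0)))))) (.node (.node (.node (.node (.node (.leaf 409) (.leaf 5997)) (.node (.leaf 213) (.leaf 5678))) (.node (.node (.leaf 2208) (.leaf 6711)) (.node (.leaf 4992) (.leaf 0)))) (.node (.node (.node (.leaf 1346) (.leaf 5924)) (.node (.leaf 2285) (.leaf 7275))) (.node (.node (.leaf 2994)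 (.leaf 6964)) (.node (.leaf 5533) (.leaf 0))))) (.node (.node (.node (.node (.leaf 886) (.leaf 6192)) (.node (.leaf 4068) (.leaf 2879))) (.node (.node (.leaf 944) (.leaf 6573)) (.node (.leaf 5266) (.leaf 0)))) (.node (.node (.node (.leaf 1782) (.leaf 6435)) (.node (.leaf 4702) (.leaf 1730))) (.node (.node (.leaf 3366) (.leaf 5051)) (.node (.leaf 3822) (.leaf 0)))))))) (.node (.node (.node (.node (.node (.node (.node (.leaf 98) (.leaf 5865)) (.node (.leaf 3504) (.leaf 7094))) (.node (.node (.leaf 1946) (.leaf 5732)) (.node (.leaf 3977) (.leaf 2953)))) (.node (.node (.node (.leaf 1064) (.leaf 6248)) (.node (.leaf 175) (.leaf 2427))) (.node (.node (.leaf 2753) (.leaf 6110)) (.node (.leaf 5367) (.leaf 0))))) (.node (.node (.node (.node (.leaf 590) (.leaf 6065)) (.node (.leaf 3843) (.leaf 6801))) (.node (.node (.leaf 2361) (.leaf 6756)) (.node (.leaf 4726) (.leaf 0)))) (.node (.node (.node (.leaf 1512) (.leaf 2528)) (.node (.leaf 4512) (.leaf 4381))) (.node (.node (.leaf 3132) (.leaf 6079)) (.node (.leaf 5619) (.leaf 0)))))) (.node (.node (.node (.node (.node (.leaf 348) (.leaf 4234)) (.node (.leaf 3678) (.leaf 6892))) (.node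 (.node (.leaf 2154) (.leaf 3210)) (.node (.leaf 1398) (.leaf 0)))) (.node (.node (.node (.leaf 1291) (.leaf 6356)) (.node (.leaf 3722) (.leaf 6753))) (.node (.node (.leaf 2943) (.leaf 6942)) (.node (.leaf 5501) (.leaf 0))))) (.node (.node (.node (.node (.leaf 828) (.leaf 6160)) (.node (.leaf 4028) (.leaf 1053))) (.node (.node (.leaf 2558) (.leaf 5621)) (.node (.leaf 5232) (.leaf 0)))) (.node (.node (.node (.leaf 1729) (.leaf 5174)) (.node (.leaf 4662) (.leaf 3131))) (.node (.node (.leaf 3323) (.leaf 4323)) (.node (.leaf 3470) (.leaf 0))))))) (.node (.node (.node (.node (.node (.node (.leaf 224) (.leaf 2315)) (.node (.leaf 1945) (.leaf 6809))) (.node (.node (.leaf 2054) (.leaf 1578)) (.node (.leaf 4880) (.leaf 6622)))) (.node (.node (.node (.leaf 781) (.leaf 1580)) (.node (.leaf 4269) (.leaf 3349))) (.node (.node (.leaf 2850) (.leaf 5239)) (.node (.leaf 5433) (.leaf 0))))) (.node (.node (.node (.node (.leaf 710) (.leaf 2759)) (.node (.leaf 3937) (.leaf 5916))) (.node (.node (.leaf 2465) (.leaf 6507)) (.node (.leaf 5156) (.leaf 0)))) (.node (.node (.node (.leaf 1621) (.leaf 6480)) (.node (.leaf 1890) (.leaf 7308))) (.node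 (.node (.leaf 3230) (.leaf 3022)) (.node (.leaf 3767) (.leaf 0)))))) (.node (.node (.node (.node (.node (.leaf 468) (.leaf 1149)) (.node (.leaf 3759) (.leaf 2462))) (.node (.node (.leaf 2259) (.leaf 6733)) (.node (.leaf 1010) (.leaf 0)))) (.node (.node (.node (.leaf 1126) (.leaf 3693)) (.node (.leaf 4426) (.leaf 7198))) (.node (.node (.leaf 2477) (.leaf 5304)) (.node (.leaf 2000) (.leaf 0))))) (.node (.node (.node (.node (.leaf 945) (.leaf 5315)) (.node (.leaf 1515) (.leaf 7219))) (.node (.node (.leaf 2661) (.leaf 887)) (.node (.leaf 5295) (.leaf 0)))) (.node (.node (.node (.leaf 1839) (.leaf 5078)) (.node (.leaf 4741) (.leaf 5617))) (.node (.node (.leaf 3408) (.leaf 2800)) (.node (.leaf 3440) (.leaf 0))))))))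

def he1T17 : NT := .node (.node (.node (.node (.node (.node (.node (.node (.leaf 36) (.leaf 5836)) (.node (.leaf 3452) (.leaf 5552))) (.node (.node (.leaf 1895) (.leaf 3149)) (.node (.leaf 4780) (.leaf 6430)))) (.node (.node (.node (.leaf 567) (.leaf 6243)) (.node (.leaf 4147) (.leaf 6132))) (.node (.node (.leaf 2446) (.leaf 3676)) (.node (.leaf 1263) (.leaf 0))))) (.node (.node (.node (.node (.leaf 532) (.leaf 217)) (.node (.leaf 942) (.leaf 338))) (.node (.node (.leaf 2314) (.leaf 5847)) (.node (.leaf 5054) (.leaf 0)))) (.node (.node (.node (.leaf 1457) (.leaf 6412)) (.node (.leaf 4467) (.leaf 6702))) (.node (.node (.leaf 3081) (.leaf 4831)) (.node (.leaf 5597) (.leaf 0)))))) (.node (.node (.node (.node (.node (.leaf 288) (.leaf 5486)) (.node (.leaf 3635) (.leaf 5667))) (.node (.node (.leaf 2107) (.leaf 5031)) (.node (.leaf 4916) (.leaf 7333)))) (.node (.node (.node (.leaf 1237) (.leaf 6334)) (.node (.leaf 2845) (.leaf 7262))) (.node (.node (.leaf 2527) (.leaf 5531)) (.node (.leaf 5467) (.leaf 0))))) (.node (.node (.node (.node (.leaf 770) (.leaf 6133)) (.node (.leaf 3984) (.leaf 7158))) (.node (.node (.leaf 1254) (.leaf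 1824)) (.node (.leaf 3496) (.leaf 0)))) (.node (.node (.node (.leaf 1675) (.leaf 6434)) (.node (.leaf 2157) (.leaf 3560))) (.node (.node (.leaf 3279) (.leaf 6685)) (.node (.leaf 5711) (.leaf 0))))))) (.node (.node (.node (.node (.node (.node (.leaf 163) (.leaf 3906)) (.node (.leaf 3548) (.leaf 7101))) (.node (.node (.leaf 2006) (.leaf 6089)) (.node (.leaf 4850) (.leaf 7235)))) (.node (.node (.node (.leaf 1123) (.leaf 6289)) (.node (.leaf 2774) (.leaf 659))) (.node (.node (.leaf 2804) (.leaf 5528)) (.node (.leaf 3882) (.leaf 0))))) (.node (.node (.node (.node (.leaf 652) (.leaf 5424)) (.node (.leaf 3894) (.leaf 6641))) (.node (.node (.leaf 2417) (.leaf 6776)) (.node (.leaf 5119) (.leaf 0)))) (.node (.node (.node (.leaf 1567) (.leaf 6276)) (.node (.leaf 4335) (.leaf 1818))) (.node (.node (.leaf 3181) (.leaf 5441)) (.node (.leaf 2768) (.leaf 0)))))) (.node (.node (.node (.node (.node (.leaf 411) (.leaf 580)) (.node (.leaf 3717) (.leaf 1137))) (.node (.node (.leaf 2210) (.leaf 6313)) (.node (.leaf 105) (.leaf 0)))) (.node (.node (.node (.leaf 1348) (.leaf 881)) (.node (.leaf 4385) (.leaf 3789))) (.node (.node (.leaf 2996)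 (.leaf 1617)) (.node (.leaf 5535) (.leaf 0))))) (.node (.node (.node (.node (.leaf 888) (.leaf 6193)) (.node (.leaf 4070) (.leaf 5246))) (.node (.node (.leaf 2611) (.leaf 6829)) (.node (.leaf 4000) (.leaf 0)))) (.node (.node (.node (.leaf 1687) (.leaf 5559)) (.node (.leaf 4703) (.leaf 5532))) (.node (.node (.leaf 3368) (.leaf 2859)) (.node (.leaf 5770) (.leaf 0)))))))) (.node (.node (.node (.node (.node (.node (.node (.leaf 100) (.leaf 1774)) (.node (.leaf 3506) (.leaf 1978))) (.node (.node (.leaf 1948) (.leaf 3870)) (.node (.leaf 4815) (.leaf 814)))) (.node (.node (.node (.leaf 1066) (.leaf 4913)) (.node (.leaf 4190) (.leaf 2308))) (.node (.node (.leaf 2754) (.leaf 4921)) (.node (.leaf 4355) (.leaf 0))))) (.node (.node (.node (.node (.leaf 592) (.leaf 3594)) (.node (.leaf 3844) (.leaf 5885))) (.node (.node (.leaf 2363) (.leaf 3861)) (.node (.leaf 486) (.leaf 0)))) (.node (.node (.node (.leaf 1514) (.leaf 3086)) (.node (.leaf 4513) (.leaf 1167))) (.node (.node (.leaf 3133) (.leaf 91)) (.node (.leaf 312) (.leaf 0)))))) (.node (.node (.node (.node (.node (.leaf 350) (.leaf 5135)) (.node (.leaf 3680) (.leaf 6968))) (.node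 (.node (.leaf 2156) (.leaf 5709)) (.node (.leaf 1261) (.leaf 0)))) (.node (.node (.node (.leaf 1292) (.leaf 6345)) (.node (.leaf 4342) (.leaf 5668))) (.node (.node (.leaf 2945) (.leaf 1885)) (.node (.leaf 5502) (.leaf 0))))) (.node (.node (.node (.node (.leaf 830) (.leaf 6161)) (.node (.leaf 4030) (.leaf 7193))) (.node (.node (.leaf 1586) (.leaf 2288)) (.node (.leaf 5233) (.leaf 0)))) (.node (.node (.node (.leaf 1731) (.leaf 6529)) (.node (.leaf 4663) (.leaf 5443))) (.node (.node (.leaf 3325) (.leaf 6994)) (.node (.leaf 5740) (.leaf 0))))))) (.node (.node (.node (.node (.node (.node (.leaf 226) (.leaf 5908)) (.node (.leaf 3590) (.leaf 4366))) (.node (.node (.leaf 2056) (.leaf 3122)) (.node (.leaf 894) (.leaf 5267)))) (.node (.node (.node (.leaf 750) (.leaf 5775)) (.node (.leaf 4271) (.leaf 6312))) (.node (.node (.leaf 2852) (.leaf 6912)) (.node (.leaf 4551) (.leaf 0))))) (.node (.node (.node (.node (.leaf 712) (.leaf 5646)) (.node (.leaf 3938) (.leaf 7132))) (.node (.node (.leaf 2467) (.leaf 5806)) (.node (.leaf 5158) (.leaf 0)))) (.node (.node (.node (.leaf 1623) (.leaf 709)) (.node (.leaf 1788) (.leaf 7309))) (.node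 (.node (.leaf 3231) (.leaf 7024)) (.node (.leaf 5677) (.leaf 0)))))) (.node (.node (.node (.node (.node (.leaf 470) (.leaf 5458)) (.node (.leaf 3760) (.leaf 1069))) (.node (.node (.leaf 2261) (.leaf 53)) (.node (.leaf 5023) (.leaf 0)))) (.node (.node (.node (.leaf 791) (.leaf 3958)) (.node (.leaf 4428) (.leaf 2106))) (.node (.node (.leaf 3041) (.leaf 6981)) (.node (.leaf 767) (.leaf 0))))) (.node (.node (.node (.node (.leaf 913) (.leaf 1784)) (.node (.leaf 4110) (.leaf 7218))) (.node (.node (.leaf 2663) (.leaf 1873)) (.node (.leaf 5297) (.leaf 0)))) (.node (.node (.node (.leaf 1841) (.leaf 6572)) (.node (.leaf 4698) (.leaf 3544))) (.node (.node (.leaf 3410) (.leaf 1130)) (.node (.leaf 5800) (.leaf 0))))))))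

def he1T18 : NT := .node (.node (.node (.node (.node (.node (.node (.node (.leaf 38) (.leaf 2703)) (.node (.leaf 3453) (.leaf 5563))) (.node (.node (.leaf 1768) (.leaf 1190)) (.node (.leaf 1061) (.leaf 7096)))) (.node (.node (.node (.leaf 1007) (.leaf 5541)) (.node (.leaf 4148) (.leaf 7231))) (.node (.node (.leaf 2711) (.leaf 6162)) (.node (.leaf 3120) (.leaf 0))))) (.node (.node (.node (.node (.leaf 534) (.leaf 6039)) (.node (.leaf 3803) (.leaf 6423))) (.node (.node (.leaf 2316) (.leaf 5996)) (.node (.leaf 5055) (.leaf 0)))) (.node (.node (.node (.leaf 1459) (.leaf 4429)) (.node (.leaf 1016) (.leaf 5118))) (.node (.node (.leaf 3083) (.leaf 3461)) (.node (.leaf 4534) (.leaf 0)))))) (.node (.node (.node (.node (.node (.leaf 290) (.leaf 5939)) (.node (.leaf 3637) (.leaf 4606))) (.node (.node (.leaf 2108) (.leaf 6665)) (.node (.leaf 4918) (.leaf 595)))) (.node (.node (.node (.leaf 1239) (.leaf 3745)) (.node (.leaf 4306) (.leaf 5605))) (.node (.node (.leaf 2840) (.leaf 1799)) (.node (.leaf 5192) (.leaf 0))))) (.node (.node (.node (.node (.leaf 772) (.leaf 3921)) (.node (.leaf 3985) (.leaf 227))) (.node (.node (.leaf 2516)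 (.leaf 4438)) (.node (.leaf 5198) (.leaf 0)))) (.node (.node (.node (.leaf 1677) (.leaf 6508)) (.node (.leaf 606) (.leaf 3936))) (.node (.node (.leaf 3281) (.leaf 7040)) (.node (.leaf 4256) (.leaf 0))))))) (.node (.node (.node (.node (.node (.node (.leaf 165) (.leaf 5890)) (.node (.leaf 3549) (.leaf 6331))) (.node (.node (.leaf 2008) (.leaf 3857)) (.node (.leaf 4851) (.leaf 4495)))) (.node (.node (.node (.leaf 1125) (.leaf 2838)) (.node (.leaf 1319) (.leaf 4892))) (.node (.node (.leaf 2806) (.leaf 6896)) (.node (.leaf 5402) (.leaf 0))))) (.node (.node (.node (.node (.leaf 654) (.leaf 387)) (.node (.leaf 3420) (.leaf 612))) (.node (.node (.leaf 5) (.leaf 2098)) (.node (.leaf 1707) (.leaf 0)))) (.node (.node (.node (.leaf 1569) (.leaf 6456)) (.node (.leaf 4519) (.leaf 1341))) (.node (.node (.leaf 1905) (.leaf 6070)) (.node (.leaf 5651) (.leaf 0)))))) (.node (.node (.node (.node (.node (.leaf 412) (.leaf 5999)) (.node (.leaf 3719) (.leaf 6266))) (.node (.node (.leaf 2212) (.leaf 3270)) (.node (.leaf 4936) (.leaf 0)))) (.node (.node (.node (.leaf 1350) (.leaf 5176)) (.node (.leaf 3541) (.leaf 7276))) (.node (.node (.leaf 2998)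 (.leaf 6966)) (.node (.leaf 5536) (.leaf 0))))) (.node (.node (.node (.node (.leaf 890) (.leaf 6195)) (.node (.leaf 4071) (.leaf 4573))) (.node (.node (.leaf 2613) (.leaf 6830)) (.node (.leaf 5268) (.leaf 0)))) (.node (.node (.node (.leaf 1785) (.leaf 3274)) (.node (.leaf 4705) (.leaf 2696))) (.node (.node (.leaf 3370) (.leaf 2607)) (.node (.leaf 5649) (.leaf 0)))))))) (.node (.node (.node (.node (.node (.node (.node (.leaf 102) (.leaf 5867)) (.node (.leaf 3508) (.leaf 4303))) (.node (.node (.leaf 1950) (.leaf 1615)) (.node (.leaf 4817) (.leaf 6666)))) (.node (.node (.node (.leaf 1068) (.leaf 6270)) (.node (.leaf 4192) (.leaf 7241))) (.node (.node (.leaf 2756) (.leaf 1584)) (.node (.leaf 3838) (.leaf 0))))) (.node (.node (.node (.node (.leaf 594) (.leaf 6066)) (.node (.leaf 3846) (.leaf 2385))) (.node (.node (.leaf 1896) (.leaf 6758)) (.node (.leaf 5084) (.leaf 0)))) (.node (.node (.node (.leaf 1516) (.leaf 1337)) (.node (.leaf 4515) (.leaf 7226))) (.node (.node (.leaf 2744) (.leaf 4996)) (.node (.leaf 5622) (.leaf 0)))))) (.node (.node (.node (.node (.node (.leaf 352) (.leaf 5970)) (.node (.leaf 3682) (.leaf 2538))) (.node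 (.node (.leaf 1770) (.leaf 1894)) (.node (.leaf 3713) (.leaf 0)))) (.node (.node (.node (.leaf 1294) (.leaf 2993)) (.node (.leaf 4344) (.leaf 3796))) (.node (.node (.leaf 2947) (.leaf 4600)) (.node (.leaf 3459) (.leaf 0))))) (.node (.node (.node (.node (.leaf 832) (.leaf 3468)) (.node (.leaf 682) (.leaf 1027))) (.node (.node (.leaf 2561) (.leaf 2569)) (.node (.leaf 5235) (.leaf 0)))) (.node (.node (.node (.leaf 1733) (.leaf 4958)) (.node (.leaf 4665) (.leaf 5292))) (.node (.node (.leaf 3327) (.leaf 5696)) (.node (.leaf 3651) (.leaf 0))))))) (.node (.node (.node (.node (.node (.node (.leaf 228) (.leaf 5910)) (.node (.leaf 2635) (.leaf 2438))) (.node (.node (.leaf 1975) (.leaf 5627)) (.node (.leaf 4883) (.leaf 5460)))) (.node (.node (.node (.leaf 1178) (.leaf 829)) (.node (.leaf 4273) (.leaf 4113))) (.node (.node (.leaf 2853) (.leaf 6821)) (.node (.leaf 5435) (.leaf 0))))) (.node (.node (.node (.node (.leaf 713) (.leaf 5664)) (.node (.leaf 3940) (.leaf 7197))) (.node (.node (.leaf 2469) (.leaf 3052)) (.node (.leaf 5159) (.leaf 0)))) (.node (.node (.node (.leaf 1625) (.leaf 4736)) (.node (.leaf 1933) (.leaf 5122))) (.node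 (.node (.leaf 3232) (.leaf 7025)) (.node (.leaf 4897) (.leaf 0)))))) (.node (.node (.node (.node (.node (.leaf 472) (.leaf 5507)) (.node (.leaf 3761) (.leaf 4786))) (.node (.node (.leaf 2263) (.leaf 6734)) (.node (.leaf 5024) (.leaf 0)))) (.node (.node (.node (.leaf 1403) (.leaf 704)) (.node (.leaf 1003) (.leaf 3533))) (.node (.node (.leaf 430) (.leaf 6983)) (.node (.leaf 5573) (.leaf 0))))) (.node (.node (.node (.node (.leaf 948) (.leaf 6037)) (.node (.leaf 4112) (.leaf 2484))) (.node (.node (.leaf 2664) (.leaf 1672)) (.node (.leaf 5298) (.leaf 0)))) (.node (.node (.node (.leaf 363) (.leaf 324)) (.node (.leaf 4744) (.leaf 4020))) (.node (.node (.leaf 3411) (.leaf 6593)) (.node (.leaf 5801) (.leaf 0))))))))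

def he1T19 : NT := .node (.node (.node (.node (.node (.node (.node (.node (.leaf 40) (.leaf 1624)) (.node (.leaf 488) (.leaf 7066))) (.node (.node (.leaf 1898) (.leaf 6600)) (.node (.leaf 4127) (.leaf 7224)))) (.node (.node (.node (.leaf 1009) (.leaf 6142)) (.node (.leaf 4150) (.leaf 496))) (.node (.node (.leaf 2712) (.leaf 5662)) (.node (.leaf 4460) (.leaf 0))))) (.node (.node (.node (.node (.leaf 536) (.leaf 5105)) (.node (.leaf 3805) (.leaf 4994))) (.node (.node (.leaf 2317) (.leaf 1814)) (.node (.leaf 2681) (.leaf 0)))) (.node (.node (.node (.leaf 1461) (.leaf 6413)) (.node (.leaf 4469) (.leaf 7039))) (.node (.node (.leaf 3085) (.leaf 6817)) (.node (.leaf 4276) (.leaf 0)))))) (.node (.node (.node (.node (.node (.leaf 292) (.leaf 5202)) (.node (.leaf 3639) (.leaf 6004))) (.node (.node (.leaf 2110) (.leaf 6552)) (.node (.leaf 3908) (.leaf 3168)))) (.node (.node (.node (.leaf 1241) (.leaf 3947)) (.node (.leaf 2429) (.leaf 5639))) (.node (.node (.leaf 2093) (.leaf 6927)) (.node (.leaf 4474) (.leaf 0))))) (.node (.node (.node (.node (.leaf 774) (.leaf 6135)) (.node (.leaf 3986) (.leaf 986))) (.node (.node (.leaf 2452)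 (.leaf 6658)) (.node (.leaf 5200) (.leaf 0)))) (.node (.node (.node (.leaf 1148) (.leaf 6510)) (.node (.leaf 4628) (.leaf 7314))) (.node (.node (.leaf 2972) (.leaf 138)) (.node (.leaf 5713) (.leaf 0))))))) (.node (.node (.node (.node (.node (.node (.leaf 167) (.leaf 2914)) (.node (.leaf 3551) (.leaf 6894))) (.node (.node (.leaf 2009) (.leaf 4445)) (.node (.leaf 687) (.leaf 4767)))) (.node (.node (.node (.leaf 1127) (.leaf 6291)) (.node (.leaf 1843) (.leaf 5071))) (.node (.node (.leaf 2807) (.leaf 2367)) (.node (.leaf 3535) (.leaf 0))))) (.node (.node (.node (.node (.leaf 656) (.leaf 5866)) (.node (.leaf 3895) (.leaf 1402))) (.node (.node (.leaf 816) (.leaf 4435)) (.node (.leaf 5121) (.leaf 0)))) (.node (.node (.node (.leaf 1571) (.leaf 460)) (.node (.leaf 543) (.leaf 7304))) (.node (.node (.leaf 3184) (.leaf 7013)) (.node (.leaf 1206) (.leaf 0)))))) (.node (.node (.node (.node (.node (.leaf 414) (.leaf 6001)) (.node (.leaf 2905) (.leaf 6835))) (.node (.node (.leaf 2143) (.leaf 3084)) (.node (.leaf 2688) (.leaf 0)))) (.node (.node (.node (.leaf 1352) (.leaf 6377)) (.node (.leaf 4387) (.leaf 7277))) (.node (.node (.leaf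 2999) (.leaf 4176)) (.node (.leaf 5537) (.leaf 0))))) (.node (.node (.node (.node (.leaf 892) (.leaf 31)) (.node (.leaf 537) (.leaf 2893))) (.node (.node (.leaf 2615) (.leaf 3646)) (.node (.leaf 1110) (.leaf 0)))) (.node (.node (.node (.leaf 1787) (.leaf 6545)) (.node (.leaf 4706) (.leaf 6136))) (.node (.node (.leaf 3371) (.leaf 6617)) (.node (.leaf 5772) (.leaf 0)))))))) (.node (.node (.node (.node (.node (.node (.node (.leaf 104) (.leaf 5542)) (.node (.leaf 3509) (.leaf 7095))) (.node (.node (.leaf 1952) (.leaf 3880)) (.node (.leaf 112) (.leaf 6405)))) (.node (.node (.node (.leaf 1070) (.leaf 6272)) (.node (.leaf 4194) (.leaf 5366))) (.node (.node (.leaf 2757) (.leaf 6877)) (.node (.leaf 5370) (.leaf 0))))) (.node (.node (.node (.node (.leaf 484) (.leaf 5725)) (.node (.leaf 3848) (.leaf 7173))) (.node (.node (.leaf 1613) (.leaf 1506)) (.node (.leaf 5085) (.leaf 0)))) (.node (.node (.node (.leaf 1517) (.leaf 5043)) (.node (.leaf 4516) (.leaf 7299))) (.node (.node (.leaf 3136) (.leaf 3898)) (.node (.leaf 5160) (.leaf 0)))))) (.node (.node (.node (.node (.node (.leaf 354) (.leaf 5972)) (.node (.leaf 3308) (.leaf 6264)))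 (.node (.node (.leaf 2158) (.leaf 6689)) (.node (.leaf 1135) (.leaf 0)))) (.node (.node (.node (.leaf 1295) (.leaf 3955)) (.node (.leaf 3035) (.leaf 6937))) (.node (.node (.leaf 2949) (.leaf 6945)) (.node (.leaf 5504) (.leaf 0))))) (.node (.node (.node (.node (.leaf 834) (.leaf 6163)) (.node (.leaf 4033) (.leaf 6535))) (.node (.node (.leaf 2563) (.leaf 5658)) (.node (.leaf 5236) (.leaf 0)))) (.node (.node (.node (.leaf 1734) (.leaf 2891)) (.node (.leaf 4666) (.leaf 7049))) (.node (.node (.leaf 3329) (.leaf 6654)) (.node (.leaf 5741) (.leaf 0))))))) (.node (.node (.node (.node (.node (.node (.leaf 230) (.leaf 5911)) (.node (.leaf 3593) (.leaf 6629))) (.node (.node (.leaf 2059) (.leaf 6646)) (.node (.leaf 2851) (.leaf 3216)))) (.node (.node (.node (.leaf 1180) (.leaf 6311)) (.node (.leaf 4274) (.leaf 1838))) (.node (.node (.leaf 674) (.leaf 6913)) (.node (.leaf 5436) (.leaf 0))))) (.node (.node (.node (.node (.leaf 714) (.leaf 1590)) (.node (.leaf 3942) (.leaf 1383))) (.node (.node (.leaf 1309) (.leaf 490)) (.node (.leaf 3192) (.leaf 0)))) (.node (.node (.node (.leaf 1627) (.leaf 2128)) (.node (.leaf 4584) (.leaf 6223)))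 (.node (.node (.leaf 3233) (.leaf 4672)) (.node (.leaf 5679) (.leaf 0)))))) (.node (.node (.node (.node (.node (.leaf 474) (.leaf 6000)) (.node (.leaf 3763) (.leaf 2758))) (.node (.node (.leaf 2265) (.leaf 6187)) (.node (.leaf 2919) (.leaf 0)))) (.node (.node (.node (.leaf 1405) (.leaf 2431)) (.node (.leaf 4430) (.leaf 4336))) (.node (.node (.leaf 3043) (.leaf 1761)) (.node (.leaf 5574) (.leaf 0))))) (.node (.node (.node (.node (.leaf 950) (.leaf 6217)) (.node (.leaf 3547) (.leaf 6260))) (.node (.node (.leaf 2666) (.leaf 6852)) (.node (.leaf 3003) (.leaf 0)))) (.node (.node (.node (.leaf 1844) (.leaf 6502)) (.node (.leaf 3466) (.leaf 7295))) (.node (.node (.leaf 2541) (.leaf 835)) (.node (.leaf 1335) (.leaf 0))))))))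

def he1T20 : NT := .node (.node (.node (.node (.node (.node (.node (.node (.leaf 42) (.leaf 3334)) (.node (.leaf 3456) (.leaf 1879))) (.node (.node (.leaf 1899) (.leaf 4239)) (.node (.leaf 4783) (.leaf 7200)))) (.node (.node (.node (.leaf 1011) (.leaf 6245)) (.node (.leaf 2238) (.leaf 2995))) (.node (.node (.leaf 2713) (.leaf 6870)) (.node (.leaf 5332) (.leaf 0))))) (.node (.node (.node (.node (.leaf 538) (.leaf 670)) (.node (.leaf 2344) (.leaf 6537))) (.node (.node (.leaf 2318) (.leaf 6015)) (.node (.leaf 5056) (.leaf 0)))) (.node (.node (.node (.leaf 1463) (.leaf 2605)) (.node (.leaf 4471) (.leaf 7038))) (.node (.node (.leaf 743) (.leaf 6936)) (.node (.leaf 3659) (.leaf 0)))))) (.node (.node (.node (.node (.node (.leaf 294) (.leaf 3158)) (.node (.leaf 1709) (.leaf 5769))) (.node (.node (.leaf 711) (.leaf 6667)) (.node (.leaf 4920) (.leaf 6869)))) (.node (.node (.node (.leaf 1242) (.leaf 6338)) (.node (.leaf 4308) (.leaf 7263))) (.node (.node (.leaf 2898) (.leaf 6928)) (.node (.leaf 974) (.leaf 0))))) (.node (.node (.node (.node (.leaf 776) (.leaf 1570)) (.node (.leaf 3987) (.leaf 7143))) (.node (.node (.leaf 2519) (.leaf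 4792)) (.node (.leaf 3687) (.leaf 0)))) (.node (.node (.node (.leaf 1606) (.leaf 279)) (.node (.leaf 4630) (.leaf 5960))) (.node (.node (.leaf 1428) (.leaf 3915)) (.node (.leaf 5714) (.leaf 0))))))) (.node (.node (.node (.node (.node (.node (.leaf 169) (.leaf 5877)) (.node (.leaf 3553) (.leaf 7108))) (.node (.node (.leaf 2011) (.leaf 4464)) (.node (.leaf 4852) (.leaf 3007)))) (.node (.node (.node (.leaf 1129) (.leaf 6292)) (.node (.leaf 4236) (.leaf 1801))) (.node (.node (.leaf 2809) (.leaf 6235)) (.node (.leaf 3070) (.leaf 0))))) (.node (.node (.node (.node (.leaf 658) (.leaf 360)) (.node (.leaf 3896) (.leaf 5883))) (.node (.node (.leaf 2419) (.leaf 6076)) (.node (.leaf 5123) (.leaf 0)))) (.node (.node (.node (.leaf 1573) (.leaf 5360)) (.node (.leaf 4547) (.leaf 5129))) (.node (.node (.leaf 3185) (.leaf 5931)) (.node (.leaf 5652) (.leaf 0)))))) (.node (.node (.node (.node (.node (.leaf 415) (.leaf 6002)) (.node (.leaf 1720) (.leaf 7145))) (.node (.node (.leaf 2215) (.leaf 3369)) (.node (.leaf 3106) (.leaf 0)))) (.node (.node (.node (.leaf 1354) (.leaf 5434)) (.node (.leaf 4389) (.leaf 4525))) (.node (.node (.leaf 3001)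 (.leaf 6967)) (.node (.leaf 1200) (.leaf 0))))) (.node (.node (.node (.node (.leaf 893) (.leaf 3061)) (.node (.leaf 4073) (.leaf 2358))) (.node (.node (.leaf 2617) (.leaf 6832)) (.node (.leaf 5269) (.leaf 0)))) (.node (.node (.node (.leaf 1789) (.leaf 900)) (.node (.leaf 866) (.leaf 7252))) (.node (.node (.leaf 3373) (.leaf 7060)) (.node (.leaf 5774) (.leaf 0)))))))) (.node (.node (.node (.node (.node (.node (.node (.leaf 106) (.leaf 5869)) (.node (.leaf 508) (.leaf 7097))) (.node (.node (.leaf 1954) (.leaf 6215)) (.node (.leaf 4820) (.leaf 6760)))) (.node (.node (.node (.leaf 1072) (.leaf 4143)) (.node (.leaf 4195) (.leaf 7242))) (.node (.node (.leaf 2412) (.leaf 6882)) (.node (.leaf 5371) (.leaf 0))))) (.node (.node (.node (.node (.leaf 597) (.leaf 3516)) (.node (.leaf 3850) (.leaf 6918))) (.node (.node (.leaf 2366) (.leaf 5499)) (.node (.leaf 1850) (.leaf 0)))) (.node (.node (.node (.leaf 1518) (.leaf 5868)) (.node (.leaf 4518) (.leaf 7051))) (.node (.node (.leaf 3137) (.leaf 5454)) (.node (.leaf 5419) (.leaf 0)))))) (.node (.node (.node (.node (.node (.leaf 355) (.leaf 5973)) (.node (.leaf 3683) (.leaf 7128))) (.node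 (.node (.leaf 1430) (.leaf 6690)) (.node (.leaf 4964) (.leaf 0)))) (.node (.node (.node (.leaf 1296) (.leaf 6357)) (.node (.leaf 4347) (.leaf 7268))) (.node (.node (.leaf 2061) (.leaf 6946)) (.node (.leaf 4963) (.leaf 0))))) (.node (.node (.node (.node (.leaf 836) (.leaf 6164)) (.node (.leaf 4035) (.leaf 4061))) (.node (.node (.leaf 2565) (.leaf 4065)) (.node (.leaf 4763) (.leaf 0)))) (.node (.node (.node (.leaf 1736) (.leaf 6530)) (.node (.leaf 4667) (.leaf 4722))) (.node (.node (.leaf 3268) (.leaf 572)) (.node (.leaf 5484) (.leaf 0))))))) (.node (.node (.node (.node (.node (.node (.leaf 232) (.leaf 5912)) (.node (.leaf 3595) (.leaf 6735))) (.node (.node (.leaf 2060) (.leaf 6647)) (.node (.leaf 4885) (.leaf 3930)))) (.node (.node (.node (.leaf 1182) (.leaf 5891)) (.node (.leaf 13) (.leaf 7256))) (.node (.node (.leaf 2855) (.leaf 4953)) (.node (.leaf 265) (.leaf 0))))) (.node (.node (.node (.node (.leaf 716) (.leaf 6107)) (.node (.leaf 3944) (.leaf 6437))) (.node (.node (.leaf 2472) (.leaf 339)) (.node (.leaf 5161) (.leaf 0)))) (.node (.node (.node (.leaf 1628) (.leaf 6159)) (.node (.leaf 4586) (.leaf 5945))) (.node (.node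 (.leaf 3234) (.leaf 296)) (.node (.leaf 5681) (.leaf 0)))))) (.node (.node (.node (.node (.node (.leaf 371) (.leaf 4976)) (.node (.leaf 3765) (.leaf 6993))) (.node (.node (.leaf 2267) (.leaf 2495)) (.node (.leaf 5026) (.leaf 0)))) (.node (.node (.node (.leaf 1407) (.leaf 6389)) (.node (.leaf 4431) (.leaf 1234))) (.node (.node (.leaf 1705) (.leaf 5935)) (.node (.leaf 5171) (.leaf 0))))) (.node (.node (.node (.node (.leaf 952) (.leaf 2025)) (.node (.leaf 3615) (.leaf 2623))) (.node (.node (.leaf 2668) (.leaf 4111)) (.node (.leaf 5300) (.leaf 0)))) (.node (.node (.node (.leaf 1846) (.leaf 6574)) (.node (.leaf 4745) (.leaf 6992))) (.node (.node (.leaf 2447) (.leaf 7041)) (.node (.leaf 2068) (.leaf 0))))))))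

def he1T21 : NT := .node (.node (.node (.node (.node (.node (.node (.node (.leaf 44) (.leaf 5838)) (.node (.leaf 3458) (.leaf 3633))) (.node (.node (.leaf 1901) (.leaf 5876)) (.node (.leaf 2402) (.leaf 6982)))) (.node (.node (.node (.leaf 1013) (.leaf 6246)) (.node (.leaf 3899) (.leaf 6905))) (.node (.node (.leaf 2715) (.leaf 6531)) (.node (.leaf 5081) (.leaf 0))))) (.node (.node (.node (.node (.leaf 540) (.leaf 6041)) (.node (.leaf 3807) (.leaf 2653))) (.node (.node (.leaf 2319) (.leaf 4427)) (.node (.leaf 5058) (.leaf 0)))) (.node (.node (.node (.leaf 1465) (.leaf 6415)) (.node (.leaf 4473) (.leaf 5803))) (.node (.node (.leaf 1955) (.leaf 6678)) (.node (.leaf 978) (.leaf 0)))))) (.node (.node (.node (.node (.node (.leaf 295) (.leaf 5940)) (.node (.leaf 3641) (.leaf 7120))) (.node (.node (.leaf 2113) (.leaf 4924)) (.node (.leaf 4922) (.leaf 2938)))) (.node (.node (.node (.leaf 1244) (.leaf 6340)) (.node (.leaf 582) (.leaf 4158))) (.node (.node (.leaf 2900) (.leaf 6358)) (.node (.leaf 2149) (.leaf 0))))) (.node (.node (.node (.node (.leaf 778) (.leaf 6137)) (.node (.leaf 3989) (.leaf 1067))) (.node (.node (.leaf 2520)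 (.leaf 6803)) (.node (.leaf 5203) (.leaf 0)))) (.node (.node (.node (.leaf 1680) (.leaf 1656)) (.node (.leaf 2114) (.leaf 7315))) (.node (.node (.leaf 2141) (.leaf 1345)) (.node (.leaf 2335) (.leaf 0))))))) (.node (.node (.node (.node (.node (.node (.leaf 171) (.leaf 3877)) (.node (.leaf 2076) (.leaf 838))) (.node (.node (.leaf 2012) (.leaf 6628)) (.node (.leaf 4647) (.leaf 7292)))) (.node (.node (.node (.leaf 1131) (.leaf 122)) (.node (.leaf 4237) (.leaf 4908))) (.node (.node (.leaf 2810) (.leaf 4631)) (.node (.leaf 5404) (.leaf 0))))) (.node (.node (.node (.node (.leaf 660) (.leaf 4990)) (.node (.leaf 1929) (.leaf 7188))) (.node (.node (.leaf 2421) (.leaf 2709)) (.node (.leaf 5125) (.leaf 0)))) (.node (.node (.node (.leaf 1575) (.leaf 6457)) (.node (.leaf 3740) (.leaf 7165))) (.node (.node (.leaf 3187) (.leaf 7014)) (.node (.leaf 5653) (.leaf 0)))))) (.node (.node (.node (.node (.node (.leaf 417) (.leaf 6003)) (.node (.leaf 3723) (.leaf 4971))) (.node (.node (.leaf 2217) (.leaf 6713)) (.node (.leaf 4995) (.leaf 0)))) (.node (.node (.node (.leaf 1356) (.leaf 785)) (.node (.leaf 4391) (.leaf 7278))) (.node (.node (.leaf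 3002) (.leaf 2010)) (.node (.leaf 5538) (.leaf 0))))) (.node (.node (.node (.node (.leaf 895) (.leaf 2984)) (.node (.leaf 4075) (.leaf 7208))) (.node (.node (.leaf 2618) (.leaf 6748)) (.node (.leaf 5271) (.leaf 0)))) (.node (.node (.node (.leaf 1791) (.leaf 3454)) (.node (.leaf 4707) (.leaf 7282))) (.node (.node (.leaf 3375) (.leaf 719)) (.node (.leaf 5405) (.leaf 0)))))))) (.node (.node (.node (.node (.node (.node (.node (.leaf 108) (.leaf 5870)) (.node (.leaf 3512) (.leaf 4076))) (.node (.node (.leaf 1108) (.leaf 898)) (.node (.leaf 4782) (.leaf 2647)))) (.node (.node (.node (.leaf 1074) (.leaf 6273)) (.node (.leaf 4196) (.leaf 6712))) (.node (.node (.leaf 2760) (.leaf 6883)) (.node (.leaf 5373) (.leaf 0))))) (.node (.node (.node (.node (.leaf 599) (.leaf 3287)) (.node (.leaf 3852) (.leaf 3339))) (.node (.node (.leaf 2368) (.leaf 6400)) (.node (.leaf 5087) (.leaf 0)))) (.node (.node (.node (.leaf 1520) (.leaf 6436)) (.node (.leaf 4520) (.leaf 7254))) (.node (.node (.leaf 3138) (.leaf 3293)) (.node (.leaf 5255) (.leaf 0)))))) (.node (.node (.node (.node (.node (.leaf 357) (.leaf 5974)) (.node (.leaf 1753) (.leaf 1654)))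 (.node (.node (.leaf 2161) (.leaf 6691)) (.node (.leaf 2169) (.leaf 0)))) (.node (.node (.node (.leaf 1298) (.leaf 1568)) (.node (.leaf 2821) (.leaf 6589))) (.node (.node (.leaf 2952) (.leaf 6040)) (.node (.leaf 5506) (.leaf 0))))) (.node (.node (.node (.node (.leaf 837) (.leaf 6166)) (.node (.leaf 4036) (.leaf 7204))) (.node (.node (.leaf 2566) (.leaf 6816)) (.node (.leaf 5237) (.leaf 0)))) (.node (.node (.node (.leaf 1738) (.leaf 6532)) (.node (.leaf 4669) (.leaf 7161))) (.node (.node (.leaf 3331) (.leaf 3657)) (.node (.leaf 5743) (.leaf 0))))))) (.node (.node (.node (.node (.node (.node (.leaf 233) (.leaf 3196)) (.node (.leaf 3597) (.leaf 3827))) (.node (.node (.leaf 2062) (.leaf 6158)) (.node (.leaf 4212) (.leaf 422)))) (.node (.node (.node (.leaf 1184) (.leaf 2854)) (.node (.leaf 1602) (.leaf 4543))) (.node (.node (.leaf 2856) (.leaf 85)) (.node (.leaf 5438) (.leaf 0))))) (.node (.node (.node (.node (.leaf 718) (.leaf 6108)) (.node (.leaf 3946) (.leaf 3190))) (.node (.node (.leaf 2474) (.leaf 394)) (.node (.leaf 1524) (.leaf 0)))) (.node (.node (.node (.leaf 1630) (.leaf 6484)) (.node (.leaf 4588) (.leaf 1238))) (.node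 (.node (.leaf 1221) (.leaf 6056)) (.node (.leaf 5682) (.leaf 0)))))) (.node (.node (.node (.node (.node (.leaf 477) (.leaf 6023)) (.node (.leaf 3766) (.leaf 6861))) (.node (.node (.leaf 2269) (.leaf 1732)) (.node (.leaf 5028) (.leaf 0)))) (.node (.node (.node (.leaf 1409) (.leaf 3032)) (.node (.leaf 4432) (.leaf 6980))) (.node (.node (.leaf 1490) (.leaf 6984)) (.node (.leaf 5577) (.leaf 0))))) (.node (.node (.node (.node (.leaf 954) (.leaf 805)) (.node (.leaf 3980) (.leaf 7221))) (.node (.node (.leaf 2188) (.leaf 5086)) (.node (.leaf 5301) (.leaf 0)))) (.node (.node (.node (.leaf 1847) (.leaf 2963)) (.node (.leaf 4747) (.leaf 7302))) (.node (.node (.leaf 3413) (.leaf 698)) (.node (.leaf 5804) (.leaf 0))))))))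

def he1T22 : NT := .node (.node (.node (.node (.node (.node (.node (.node (.leaf 46) (.leaf 5839)) (.node (.leaf 3460) (.leaf 6752))) (.node (.node (.leaf 1903) (.leaf 3897)) (.node (.leaf 775) (.leaf 5835)))) (.node (.node (.node (.leaf 1015) (.leaf 6247)) (.node (.leaf 4153) (.leaf 1808))) (.node (.node (.leaf 2717) (.leaf 5807)) (.node (.leaf 5334) (.leaf 0))))) (.node (.node (.node (.node (.leaf 542) (.leaf 3879)) (.node (.leaf 3809) (.leaf 4576))) (.node (.node (.leaf 2321) (.leaf 4654)) (.node (.leaf 3624) (.leaf 0)))) (.node (.node (.node (.leaf 1467) (.leaf 5516)) (.node (.leaf 4475) (.leaf 807))) (.node (.node (.leaf 3089) (.leaf 6995)) (.node (.leaf 5598) (.leaf 0)))))) (.node (.node (.node (.node (.node (.leaf 297) (.leaf 5941)) (.node (.leaf 3643) (.leaf 5734))) (.node (.node (.leaf 2115) (.leaf 6668)) (.node (.leaf 2747) (.leaf 6558)))) (.node (.node (.node (.leaf 1245) (.leaf 6342)) (.node (.leaf 4310) (.leaf 3167))) (.node (.node (.leaf 2901) (.leaf 614)) (.node (.leaf 5470) (.leaf 0))))) (.node (.node (.node (.node (.leaf 780) (.leaf 6078)) (.node (.leaf 3991) (.leaf 5799))) (.node (.node (.leaf 2272)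 (.leaf 2843)) (.node (.leaf 5204) (.leaf 0)))) (.node (.node (.node (.leaf 1682) (.leaf 6513)) (.node (.leaf 4633) (.leaf 7316))) (.node (.node (.leaf 3285) (.leaf 322)) (.node (.leaf 5715) (.leaf 0))))))) (.node (.node (.node (.node (.node (.node (.leaf 172) (.leaf 328)) (.node (.leaf 3555) (.leaf 2187))) (.node (.node (.leaf 2014) (.leaf 4811)) (.node (.leaf 4854) (.leaf 5631)))) (.node (.node (.node (.leaf 1133) (.leaf 6293)) (.node (.leaf 4238) (.leaf 7234))) (.node (.node (.leaf 2147) (.leaf 2524)) (.node (.leaf 4771) (.leaf 0))))) (.node (.node (.node (.node (.leaf 662) (.leaf 2500)) (.node (.leaf 1187) (.leaf 6382))) (.node (.node (.leaf 2177) (.leaf 6778)) (.node (.leaf 5126) (.leaf 0)))) (.node (.node (.node (.leaf 1577) (.leaf 6028)) (.node (.leaf 4548) (.leaf 6620))) (.node (.node (.leaf 3189) (.leaf 5372)) (.node (.leaf 5092) (.leaf 0)))))) (.node (.node (.node (.node (.node (.leaf 419) (.leaf 2292)) (.node (.leaf 3725) (.leaf 7146))) (.node (.node (.leaf 2219) (.leaf 6714)) (.node (.leaf 3653) (.leaf 0)))) (.node (.node (.node (.leaf 1357) (.leaf 6379)) (.node (.leaf 4393) (.leaf 2240))) (.node (.node (.leaf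 3004) (.leaf 5852)) (.node (.leaf 5540) (.leaf 0))))) (.node (.node (.node (.node (.leaf 897) (.leaf 5599)) (.node (.leaf 2673) (.leaf 6390))) (.node (.node (.leaf 2620) (.leaf 1755)) (.node (.leaf 5273) (.leaf 0)))) (.node (.node (.node (.leaf 1793) (.leaf 6547)) (.node (.leaf 4015) (.leaf 765))) (.node (.node (.leaf 456) (.leaf 454)) (.node (.leaf 5776) (.leaf 0)))))))) (.node (.node (.node (.node (.node (.node (.node (.leaf 109) (.leaf 5871)) (.node (.leaf 2590) (.leaf 6789))) (.node (.node (.leaf 1957) (.leaf 39)) (.node (.leaf 1417) (.leaf 1288)))) (.node (.node (.node (.leaf 1075) (.leaf 4288)) (.node (.leaf 4198) (.leaf 5727))) (.node (.node (.leaf 2762) (.leaf 4174)) (.node (.leaf 5375) (.leaf 0))))) (.node (.node (.node (.node (.leaf 601) (.leaf 4151)) (.node (.leaf 3853) (.leaf 7175))) (.node (.node (.leaf 2370) (.leaf 6696)) (.node (.leaf 5088) (.leaf 0)))) (.node (.node (.node (.leaf 1522) (.leaf 6438)) (.node (.leaf 2291) (.leaf 7300))) (.node (.node (.leaf 3139) (.leaf 6411)) (.node (.leaf 4094) (.leaf 0)))))) (.node (.node (.node (.node (.node (.leaf 359) (.leaf 2899)) (.node (.leaf 3685) (.leaf 7129)))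 (.node (.node (.leaf 2162) (.leaf 5057)) (.node (.leaf 1750) (.leaf 0)))) (.node (.node (.node (.leaf 1300) (.leaf 6359)) (.node (.leaf 2575) (.leaf 6596))) (.node (.node (.leaf 7) (.leaf 5218)) (.node (.leaf 5508) (.leaf 0))))) (.node (.node (.node (.node (.leaf 839) (.leaf 2007)) (.node (.leaf 3620) (.leaf 1212))) (.node (.node (.leaf 2568) (.leaf 5389)) (.node (.leaf 4012) (.leaf 0)))) (.node (.node (.node (.leaf 1740) (.leaf 6534)) (.node (.leaf 4670) (.leaf 1670))) (.node (.node (.leaf 3332) (.leaf 6796)) (.node (.leaf 5744) (.leaf 0))))))) (.node (.node (.node (.node (.node (.node (.leaf 235) (.leaf 3448)) (.node (.leaf 2284) (.leaf 5278))) (.node (.node (.leaf 2064) (.leaf 3573)) (.node (.leaf 4887) (.leaf 4769)))) (.node (.node (.node (.leaf 1186) (.leaf 3982)) (.node (.leaf 4275) (.leaf 531))) (.node (.node (.leaf 2858) (.leaf 193)) (.node (.leaf 5439) (.leaf 0))))) (.node (.node (.node (.node (.leaf 720) (.leaf 4253)) (.node (.leaf 3948) (.leaf 3902))) (.node (.node (.leaf 2476) (.leaf 6083)) (.node (.leaf 5162) (.leaf 0)))) (.node (.node (.node (.leaf 1632) (.leaf 5689)) (.node (.leaf 2869) (.leaf 5391))) (.node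 (.node (.leaf 3237) (.leaf 3998)) (.node (.leaf 5684) (.leaf 0)))))) (.node (.node (.node (.node (.node (.leaf 479) (.leaf 6024)) (.node (.leaf 1762) (.leaf 5620))) (.node (.node (.leaf 2271) (.leaf 469)) (.node (.leaf 5029) (.leaf 0)))) (.node (.node (.node (.leaf 1411) (.leaf 6391)) (.node (.leaf 4434) (.leaf 706))) (.node (.node (.leaf 3047) (.leaf 1270)) (.node (.leaf 5579) (.leaf 0))))) (.node (.node (.node (.node (.leaf 956) (.leaf 2095)) (.node (.leaf 4115) (.leaf 6152))) (.node (.node (.leaf 2670) (.leaf 4711)) (.node (.leaf 5302) (.leaf 0)))) (.node (.node (.node (.leaf 1849) (.leaf 6576)) (.node (.leaf 4277) (.leaf 4740))) (.node (.node (.leaf 3415) (.leaf 5561)) (.node (.leaf 5416) (.leaf 0))))))))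

def he1T23 : NT := .node (.node (.node (.node (.node (.node (.node (.node (.leaf 48) (.leaf 5840)) (.node (.leaf 717) (.leaf 7082))) (.node (.node (.leaf 1904) (.leaf 522)) (.node (.leaf 4787) (.leaf 2058)))) (.node (.node (.node (.leaf 1017) (.leaf 868)) (.node (.leaf 4155) (.leaf 7233))) (.node (.node (.leaf 1692) (.leaf 6514)) (.node (.leaf 5336) (.leaf 0))))) (.node (.node (.node (.node (.leaf 544) (.leaf 5476)) (.node (.leaf 3810) (.leaf 4511))) (.node (.node (.leaf 2322) (.leaf 4375)) (.node (.leaf 3380) (.leaf 0)))) (.node (.node (.node (.leaf 1469) (.leaf 6416)) (.node (.leaf 4476) (.leaf 5858))) (.node (.node (.leaf 3091) (.leaf 150)) (.node (.leaf 5080) (.leaf 0)))))) (.node (.node (.node (.node (.node (.leaf 299) (.leaf 5942)) (.node (.leaf 3645) (.leaf 6700))) (.node (.node (.leaf 2117) (.leaf 6669)) (.node (.leaf 4925) (.leaf 6205)))) (.node (.node (.node (.leaf 1247) (.leaf 3126)) (.node (.leaf 4312) (.leaf 7264))) (.node (.node (.leaf 2903) (.leaf 1057)) (.node (.leaf 5471) (.leaf 0))))) (.node (.node (.node (.node (.leaf 782) (.leaf 6138)) (.node (.leaf 3993) (.leaf 3409))) (.node (.node (.leaf 1766) (.leaf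 620)) (.node (.leaf 5205) (.leaf 0)))) (.node (.node (.node (.leaf 1684) (.leaf 4216)) (.node (.leaf 4109) (.leaf 1842))) (.node (.node (.leaf 3286) (.leaf 6944)) (.node (.leaf 5716) (.leaf 0))))))) (.node (.node (.node (.node (.node (.node (.leaf 174) (.leaf 223)) (.node (.leaf 3557) (.leaf 4403))) (.node (.node (.leaf 2016) (.leaf 59)) (.node (.leaf 3182) (.leaf 1562)))) (.node (.node (.node (.leaf 1038) (.leaf 6295)) (.node (.leaf 4240) (.leaf 3088))) (.node (.node (.leaf 2811) (.leaf 6467)) (.node (.leaf 3820) (.leaf 0))))) (.node (.node (.node (.node (.leaf 664) (.leaf 4282)) (.node (.leaf 3900) (.leaf 1795))) (.node (.node (.leaf 2424) (.leaf 6240)) (.node (.leaf 5128) (.leaf 0)))) (.node (.node (.node (.leaf 1579) (.leaf 6458)) (.node (.leaf 4549) (.leaf 7190))) (.node (.node (.leaf 3191) (.leaf 6991)) (.node (.leaf 5654) (.leaf 0)))))) (.node (.node (.node (.node (.node (.leaf 421) (.leaf 4032)) (.node (.leaf 3726) (.leaf 5977))) (.node (.node (.leaf 2220) (.leaf 6715)) (.node (.leaf 4997) (.leaf 0)))) (.node (.node (.node (.leaf 1359) (.leaf 2136)) (.node (.leaf 4394) (.leaf 7279))) (.node (.node (.leaf 3006)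 (.leaf 6969)) (.node (.leaf 3068) (.leaf 0))))) (.node (.node (.node (.node (.leaf 899) (.leaf 4398)) (.node (.leaf 4077) (.leaf 6256))) (.node (.node (.leaf 2622) (.leaf 6836)) (.node (.leaf 5275) (.leaf 0)))) (.node (.node (.node (.leaf 1794) (.leaf 5116)) (.node (.leaf 4441) (.leaf 571))) (.node (.node (.leaf 3378) (.leaf 6926)) (.node (.leaf 4222) (.leaf 0)))))))) (.node (.node (.node (.node (.node (.node (.node (.leaf 111) (.leaf 5872)) (.node (.leaf 1652) (.leaf 3171))) (.node (.node (.leaf 1959) (.leaf 3566)) (.node (.leaf 1499) (.leaf 6930)))) (.node (.node (.node (.leaf 1077) (.leaf 1478)) (.node (.leaf 4200) (.leaf 1330))) (.node (.node (.leaf 2764) (.leaf 4203)) (.node (.leaf 298) (.leaf 0))))) (.node (.node (.node (.node (.leaf 603) (.leaf 154)) (.node (.leaf 2046) (.leaf 4836))) (.node (.node (.leaf 2371) (.leaf 1604)) (.node (.leaf 5090) (.leaf 0)))) (.node (.node (.node (.leaf 1408) (.leaf 5554)) (.node (.leaf 4522) (.leaf 6681))) (.node (.node (.leaf 3141) (.leaf 5178)) (.node (.leaf 4553) (.leaf 0)))))) (.node (.node (.node (.node (.node (.leaf 361) (.leaf 5976)) (.node (.leaf 2776) (.leaf 655))) (.node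 (.node (.leaf 2164) (.leaf 1042)) (.node (.leaf 2966) (.leaf 0)))) (.node (.node (.node (.leaf 1302) (.leaf 6361)) (.node (.leaf 4350) (.leaf 3050))) (.node (.node (.leaf 1142) (.leaf 6949)) (.node (.leaf 5509) (.leaf 0))))) (.node (.node (.node (.node (.leaf 841) (.leaf 6169)) (.node (.leaf 4038) (.leaf 6693))) (.node (.node (.leaf 2570) (.leaf 6254)) (.node (.leaf 5238) (.leaf 0)))) (.node (.node (.node (.leaf 1742) (.leaf 755)) (.node (.leaf 3485) (.leaf 2471))) (.node (.node (.leaf 3333) (.leaf 71)) (.node (.leaf 5745) (.leaf 0))))))) (.node (.node (.node (.node (.node (.node (.leaf 237) (.leaf 5915)) (.node (.leaf 3600) (.leaf 1576))) (.node (.node (.leaf 2066) (.leaf 234)) (.node (.leaf 872) (.leaf 6848)))) (.node (.node (.node (.leaf 1188) (.leaf 4052)) (.node (.leaf 3598) (.leaf 4307))) (.node (.node (.leaf 2860) (.leaf 3031)) (.node (.leaf 5440) (.leaf 0))))) (.node (.node (.node (.node (.leaf 578) (.leaf 6109)) (.node (.leaf 3950) (.leaf 4226))) (.node (.node (.leaf 2478) (.leaf 1098)) (.node (.leaf 5163) (.leaf 0)))) (.node (.node (.node (.leaf 1633) (.leaf 4617)) (.node (.leaf 2961) (.leaf 6997))) (.node (.node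 (.leaf 3238) (.leaf 3510)) (.node (.leaf 4454) (.leaf 0)))))) (.node (.node (.node (.node (.node (.leaf 481) (.leaf 6025)) (.node (.leaf 3769) (.leaf 5859))) (.node (.node (.leaf 2273) (.leaf 5194)) (.node (.leaf 2121) (.leaf 0)))) (.node (.node (.node (.leaf 1029) (.leaf 6393)) (.node (.leaf 4436) (.leaf 6907))) (.node (.node (.leaf 748) (.leaf 6038)) (.node (.leaf 287) (.leaf 0))))) (.node (.node (.node (.node (.leaf 958) (.leaf 6221)) (.node (.leaf 314) (.leaf 326))) (.node (.node (.leaf 2672) (.leaf 6854)) (.node (.leaf 2509) (.leaf 0)))) (.node (.node (.node (.leaf 1851) (.leaf 6578)) (.node (.leaf 4749) (.leaf 4063))) (.node (.node (.leaf 2234) (.leaf 2690)) (.node (.leaf 1146) (.leaf 0))))))))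

def he1T24 : NT := .node (.node (.node (.node (.node (.node (.node (.node (.leaf 50) (.leaf 5842)) (.node (.leaf 3463) (.leaf 2278))) (.node (.node (.leaf 1906) (.leaf 3219)) (.node (.leaf 3365) (.leaf 7322)))) (.node (.node (.node (.leaf 1019) (.leaf 6249)) (.node (.leaf 4156) (.leaf 5169))) (.node (.node (.leaf 957) (.leaf 5030)) (.node (.leaf 5338) (.leaf 0))))) (.node (.node (.node (.node (.leaf 546) (.leaf 3397)) (.node (.leaf 3812) (.leaf 6500))) (.node (.node (.leaf 1735) (.leaf 1778)) (.node (.leaf 2327) (.leaf 0)))) (.node (.node (.node (.leaf 1470) (.leaf 6417)) (.node (.leaf 4477) (.leaf 5322))) (.node (.node (.leaf 3093) (.leaf 1927)) (.node (.leaf 5600) (.leaf 0)))))) (.node (.node (.node (.node (.node (.leaf 301) (.leaf 1323)) (.node (.leaf 1404) (.leaf 7122))) (.node (.node (.leaf 1951) (.leaf 3087)) (.node (.leaf 4927) (.leaf 7307)))) (.node (.node (.node (.leaf 1249) (.leaf 6020)) (.node (.leaf 4313) (.leaf 625))) (.node (.node (.leaf 2904) (.leaf 1935)) (.node (.leaf 2378) (.leaf 0))))) (.node (.node (.node (.node (.leaf 784) (.leaf 2311)) (.node (.leaf 3995) (.leaf 4351))) (.node (.node (.leaf 2521)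 (.leaf 6722)) (.node (.leaf 5206) (.leaf 0)))) (.node (.node (.node (.leaf 1686) (.leaf 5749)) (.node (.leaf 1030) (.leaf 7318))) (.node (.node (.leaf 3288) (.leaf 6157)) (.node (.leaf 5718) (.leaf 0))))))) (.node (.node (.node (.node (.node (.node (.leaf 176) (.leaf 5892)) (.node (.leaf 1816) (.leaf 467))) (.node (.node (.leaf 2018) (.leaf 4478)) (.node (.leaf 4856) (.leaf 1558)))) (.node (.node (.node (.leaf 1136) (.leaf 2897)) (.node (.leaf 4241) (.leaf 2823))) (.node (.node (.leaf 2812) (.leaf 6899)) (.node (.leaf 5406) (.leaf 0))))) (.node (.node (.node (.node (.leaf 666) (.leaf 4565)) (.node (.leaf 2656) (.leaf 179))) (.node (.node (.leaf 2426) (.leaf 5289)) (.node (.leaf 5130) (.leaf 0)))) (.node (.node (.node (.leaf 1581) (.leaf 6459)) (.node (.leaf 3779) (.leaf 7212))) (.node (.node (.leaf 1806) (.leaf 5921)) (.node (.leaf 5655) (.leaf 0)))))) (.node (.node (.node (.node (.node (.leaf 423) (.leaf 5822)) (.node (.leaf 3728) (.leaf 2126))) (.node (.node (.leaf 2221) (.leaf 6716)) (.node (.leaf 4998) (.leaf 0)))) (.node (.node (.node (.leaf 1361) (.leaf 2737)) (.node (.leaf 4395) (.leaf 1748))) (.node (.node (.leaf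 3008) (.leaf 2980)) (.node (.leaf 2034) (.leaf 0))))) (.node (.node (.node (.node (.leaf 390) (.leaf 3839)) (.node (.leaf 4034) (.leaf 2889))) (.node (.node (.leaf 693) (.leaf 6837)) (.node (.leaf 761) (.leaf 0)))) (.node (.node (.node (.leaf 1796) (.leaf 5006)) (.node (.leaf 1511) (.leaf 275))) (.node (.node (.leaf 3379) (.leaf 1488)) (.node (.leaf 1911) (.leaf 0)))))))) (.node (.node (.node (.node (.node (.node (.node (.leaf 113) (.leaf 2718)) (.node (.leaf 3515) (.leaf 5818))) (.node (.node (.leaf 1961) (.leaf 4568)) (.node (.leaf 4384) (.leaf 3240)))) (.node (.node (.node (.leaf 1078) (.leaf 5602)) (.node (.leaf 4202) (.leaf 7243))) (.node (.node (.leaf 2765) (.leaf 6884)) (.node (.leaf 5376) (.leaf 0))))) (.node (.node (.node (.node (.leaf 605) (.leaf 2242)) (.node (.leaf 3855) (.leaf 6834))) (.node (.node (.leaf 2372) (.leaf 6761)) (.node (.leaf 4932) (.leaf 0)))) (.node (.node (.node (.leaf 1525) (.leaf 6440)) (.node (.leaf 4524) (.leaf 6191))) (.node (.node (.leaf 3142) (.leaf 6308)) (.node (.leaf 5624) (.leaf 0)))))) (.node (.node (.node (.node (.node (.leaf 249) (.leaf 1368)) (.node (.leaf 3640) (.leaf 7130)))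 (.node (.node (.leaf 2166) (.leaf 116)) (.node (.leaf 4967) (.leaf 0)))) (.node (.node (.node (.leaf 1304) (.leaf 6362)) (.node (.leaf 4352) (.leaf 5022))) (.node (.node (.leaf 1034) (.leaf 6950)) (.node (.leaf 5510) (.leaf 0))))) (.node (.node (.node (.node (.leaf 843) (.leaf 385)) (.node (.leaf 4040) (.leaf 6601))) (.node (.node (.leaf 602) (.leaf 6347)) (.node (.leaf 3455) (.leaf 0)))) (.node (.node (.node (.leaf 1744) (.leaf 37)) (.node (.leaf 4671) (.leaf 7320))) (.node (.node (.leaf 2665) (.leaf 4979)) (.node (.leaf 5747) (.leaf 0))))))) (.node (.node (.node (.node (.node (.node (.leaf 239) (.leaf 5917)) (.node (.leaf 3602) (.leaf 4188))) (.node (.node (.leaf 2067) (.leaf 257)) (.node (.leaf 3324) (.leaf 3248)))) (.node (.node (.node (.leaf 795) (.leaf 4947)) (.node (.leaf 4278) (.leaf 1092))) (.node (.node (.leaf 2861) (.leaf 6084)) (.node (.leaf 3140) (.leaf 0))))) (.node (.node (.node (.node (.leaf 723) (.leaf 4213)) (.node (.leaf 1683) (.leaf 5479))) (.node (.node (.leaf 2479) (.leaf 5758)) (.node (.leaf 5165) (.leaf 0)))) (.node (.node (.node (.leaf 976) (.leaf 6485)) (.node (.leaf 4592) (.leaf 3178))) (.node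 (.node (.leaf 2408) (.leaf 7028)) (.node (.leaf 5685) (.leaf 0)))))) (.node (.node (.node (.node (.node (.leaf 483) (.leaf 6026)) (.node (.leaf 33) (.leaf 5751))) (.node (.node (.leaf 2275) (.leaf 5172)) (.node (.leaf 4302) (.leaf 0)))) (.node (.node (.node (.leaf 1414) (.leaf 6341)) (.node (.leaf 4321) (.leaf 7232))) (.node (.node (.leaf 3049) (.leaf 6472)) (.node (.leaf 2077) (.leaf 0))))) (.node (.node (.node (.node (.leaf 960) (.leaf 6222)) (.node (.leaf 4117) (.leaf 5746))) (.node (.node (.leaf 997) (.leaf 6850)) (.node (.leaf 5303) (.leaf 0)))) (.node (.node (.node (.leaf 1853) (.leaf 6580)) (.node (.leaf 4750) (.leaf 4326))) (.node (.node (.leaf 3418) (.leaf 4966)) (.node (.leaf 5808) (.leaf 0))))))))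

def he1T25 : NT := .node (.node (.node (.node (.node (.node (.node (.node (.leaf 52) (.leaf 5843)) (.node (.leaf 3465) (.leaf 2551))) (.node (.node (.leaf 1907) (.leaf 215)) (.node (.leaf 4790) (.leaf 5027)))) (.node (.node (.node (.leaf 1021) (.leaf 6051)) (.node (.leaf 93) (.leaf 5155))) (.node (.node (.leaf 2721) (.leaf 6872)) (.node (.leaf 5339) (.leaf 0))))) (.node (.node (.node (.node (.leaf 548) (.leaf 6042)) (.node (.leaf 3814) (.leaf 6672))) (.node (.node (.leaf 2324) (.leaf 3558)) (.node (.leaf 5061) (.leaf 0)))) (.node (.node (.node (.leaf 1472) (.leaf 6336)) (.node (.leaf 4479) (.leaf 103))) (.node (.node (.leaf 3095) (.leaf 5616)) (.node (.leaf 5601) (.leaf 0)))))) (.node (.node (.node (.node (.node (.leaf 303) (.leaf 5944)) (.node (.leaf 3647) (.leaf 3262))) (.node (.node (.leaf 1875) (.leaf 6671)) (.node (.leaf 4929) (.leaf 4470)))) (.node (.node (.node (.leaf 1251) (.leaf 6343)) (.node (.leaf 4314) (.leaf 6381))) (.node (.node (.leaf 2796) (.leaf 3239)) (.node (.leaf 4642) (.leaf 0))))) (.node (.node (.node (.node (.leaf 786) (.leaf 3255)) (.node (.leaf 3996) (.leaf 4246))) (.node (.node (.leaf 2523) (.leaf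 593)) (.node (.leaf 5208) (.leaf 0)))) (.node (.node (.node (.leaf 1688) (.leaf 4560)) (.node (.leaf 4636) (.leaf 7297))) (.node (.node (.leaf 3289) (.leaf 4317)) (.node (.leaf 5720) (.leaf 0))))))) (.node (.node (.node (.node (.node (.node (.leaf 178) (.leaf 5893)) (.node (.leaf 1987) (.leaf 4923))) (.node (.node (.leaf 2020) (.leaf 1943)) (.node (.leaf 4857) (.leaf 4261)))) (.node (.node (.node (.leaf 1138) (.leaf 1471)) (.node (.leaf 2473) (.leaf 696))) (.node (.node (.leaf 2813) (.leaf 6542)) (.node (.leaf 3305) (.leaf 0))))) (.node (.node (.node (.node (.leaf 668) (.leaf 6086)) (.node (.leaf 3903) (.leaf 7164))) (.node (.node (.leaf 1399) (.leaf 5018)) (.node (.leaf 5131) (.leaf 0)))) (.node (.node (.node (.leaf 1582) (.leaf 6460)) (.node (.leaf 4552) (.leaf 7022))) (.node (.node (.leaf 3193) (.leaf 3731)) (.node (.leaf 5331) (.leaf 0)))))) (.node (.node (.node (.node (.node (.leaf 425) (.leaf 4622)) (.node (.leaf 3730) (.leaf 7147))) (.node (.node (.leaf 2223) (.leaf 5265)) (.node (.leaf 3383) (.leaf 0)))) (.node (.node (.node (.leaf 1259) (.leaf 6380)) (.node (.leaf 2740) (.leaf 7280))) (.node (.node (.leaf 3010)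 (.leaf 173)) (.node (.leaf 5543) (.leaf 0))))) (.node (.node (.node (.node (.leaf 901) (.leaf 4587)) (.node (.leaf 2048) (.leaf 5897))) (.node (.node (.leaf 1983) (.leaf 4915)) (.node (.leaf 5276) (.leaf 0)))) (.node (.node (.node (.leaf 1798) (.leaf 6549)) (.node (.leaf 4709) (.leaf 3399))) (.node (.node (.leaf 3045) (.leaf 5074)) (.node (.leaf 2819) (.leaf 0)))))))) (.node (.node (.node (.node (.node (.node (.node (.leaf 115) (.leaf 4374)) (.node (.leaf 3517) (.leaf 6822))) (.node (.node (.leaf 1962) (.leaf 1985)) (.node (.leaf 3679) (.leaf 2927)))) (.node (.node (.node (.leaf 1080) (.leaf 6274)) (.node (.leaf 4204) (.leaf 7125))) (.node (.node (.leaf 2767) (.leaf 3063)) (.node (.leaf 2482) (.leaf 0))))) (.node (.node (.node (.node (.leaf 607) (.leaf 6067)) (.node (.leaf 3856) (.leaf 6800))) (.node (.node (.leaf 2374) (.leaf 4909)) (.node (.leaf 5093) (.leaf 0)))) (.node (.node (.node (.leaf 1526) (.leaf 6442)) (.node (.leaf 140) (.leaf 6611))) (.node (.node (.leaf 3144) (.leaf 2360)) (.node (.leaf 5626) (.leaf 0)))))) (.node (.node (.node (.node (.node (.leaf 364) (.leaf 4376)) (.node (.leaf 3688) (.leaf 7015))) (.node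 (.node (.leaf 2168) (.leaf 6586)) (.node (.leaf 4968) (.leaf 0)))) (.node (.node (.node (.leaf 731) (.leaf 168)) (.node (.leaf 4354) (.leaf 3591))) (.node (.node (.leaf 1196) (.leaf 5987)) (.node (.leaf 3738) (.leaf 0))))) (.node (.node (.node (.node (.leaf 845) (.leaf 6170)) (.node (.leaf 4042) (.leaf 633))) (.node (.node (.leaf 2572) (.leaf 2707)) (.node (.leaf 5241) (.leaf 0)))) (.node (.node (.node (.leaf 1333) (.leaf 3396)) (.node (.leaf 3102) (.leaf 362))) (.node (.node (.leaf 809) (.leaf 7052)) (.node (.leaf 5748) (.leaf 0))))))) (.node (.node (.node (.node (.node (.node (.leaf 126) (.leaf 5918)) (.node (.leaf 3603) (.leaf 1998))) (.node (.node (.leaf 2069) (.leaf 6649)) (.node (.leaf 846) (.leaf 7196)))) (.node (.node (.node (.leaf 1191) (.leaf 4324)) (.node (.leaf 4280) (.leaf 3361))) (.node (.node (.leaf 2406) (.leaf 3979)) (.node (.leaf 3263) (.leaf 0))))) (.node (.node (.node (.node (.leaf 724) (.leaf 3716)) (.node (.leaf 3952) (.leaf 2454))) (.node (.node (.leaf 2481) (.leaf 1629)) (.node (.leaf 5166) (.leaf 0)))) (.node (.node (.node (.leaf 1635) (.leaf 6486)) (.node (.leaf 4594) (.leaf 3916))) (.node (.node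 (.leaf 3241) (.leaf 7029)) (.node (.leaf 5686) (.leaf 0)))))) (.node (.node (.node (.node (.node (.leaf 485) (.leaf 2782)) (.node (.leaf 3727) (.leaf 502))) (.node (.node (.leaf 2277) (.leaf 345)) (.node (.leaf 1870) (.leaf 0)))) (.node (.node (.node (.leaf 1415) (.leaf 6395)) (.node (.leaf 1781) (.leaf 1718))) (.node (.node (.leaf 3051) (.leaf 6985)) (.node (.leaf 5581) (.leaf 0))))) (.node (.node (.node (.node (.leaf 962) (.leaf 653)) (.node (.leaf 3923) (.leaf 2349))) (.node (.node (.leaf 2674) (.leaf 6855)) (.node (.leaf 5305) (.leaf 0)))) (.node (.node (.node (.leaf 1855) (.leaf 6582)) (.node (.leaf 4752) (.leaf 5133))) (.node (.node (.leaf 3419) (.leaf 4613)) (.node (.leaf 5809) (.leaf 0))))))))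

def he1T26 : NT := .node (.node (.node (.node (.node (.node (.node (.node (.leaf 54) (.leaf 4089)) (.node (.leaf 3467) (.leaf 7083))) (.node (.node (.leaf 1909) (.leaf 5157)) (.node (.leaf 4791) (.leaf 2733)))) (.node (.node (.node (.leaf 1022) (.leaf 6251)) (.node (.leaf 4159) (.leaf 4506))) (.node (.node (.leaf 2723) (.leaf 1282)) (.node (.leaf 5340) (.leaf 0))))) (.node (.node (.node (.node (.leaf 550) (.leaf 6043)) (.node (.leaf 3815) (.leaf 6030))) (.node (.node (.leaf 2326) (.leaf 6554)) (.node (.leaf 2614) (.leaf 0)))) (.node (.node (.node (.leaf 1473) (.leaf 6418)) (.node (.leaf 4481) (.leaf 5461))) (.node (.node (.leaf 3097) (.leaf 4154)) (.node (.leaf 3686) (.leaf 0)))))) (.node (.node (.node (.node (.node (.leaf 305) (.leaf 5946)) (.node (.leaf 3649) (.leaf 3735))) (.node (.node (.leaf 2120) (.leaf 43)) (.node (.leaf 4931) (.leaf 5721)))) (.node (.node (.node (.leaf 1253) (.leaf 6344)) (.node (.leaf 4316) (.leaf 7171))) (.node (.node (.leaf 2907) (.leaf 6931)) (.node (.leaf 5474) (.leaf 0))))) (.node (.node (.node (.node (.leaf 788) (.leaf 1230)) (.node (.leaf 1728) (.leaf 931))) (.node (.node (.leaf 2525)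 (.leaf 6360)) (.node (.leaf 4164) (.leaf 0)))) (.node (.node (.node (.leaf 1689) (.leaf 2503)) (.node (.leaf 4638) (.leaf 197))) (.node (.node (.leaf 3290) (.leaf 7042)) (.node (.leaf 5377) (.leaf 0))))))) (.node (.node (.node (.node (.node (.node (.leaf 180) (.leaf 1313)) (.node (.leaf 3561) (.leaf 6637))) (.node (.node (.leaf 2022) (.leaf 6631)) (.node (.leaf 4858) (.leaf 946)))) (.node (.node (.node (.leaf 1139) (.leaf 120)) (.node (.leaf 4242) (.leaf 4410))) (.node (.node (.leaf 2815) (.leaf 3847)) (.node (.leaf 5407) (.leaf 0))))) (.node (.node (.node (.node (.leaf 669) (.leaf 4765)) (.node (.leaf 3905) (.leaf 2729))) (.node (.node (.leaf 2428) (.leaf 6779)) (.node (.leaf 5132) (.leaf 0)))) (.node (.node (.node (.leaf 1122) (.leaf 5333)) (.node (.leaf 4554) (.leaf 6865))) (.node (.node (.leaf 3195) (.leaf 7016)) (.node (.leaf 3622) (.leaf 0)))))) (.node (.node (.node (.node (.node (.leaf 427) (.leaf 6006)) (.node (.leaf 3732) (.leaf 7148))) (.node (.node (.leaf 2224) (.leaf 3376)) (.node (.leaf 2719) (.leaf 0)))) (.node (.node (.node (.leaf 1364) (.leaf 5103)) (.node (.leaf 4397) (.leaf 7281))) (.node (.node (.leaf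 3012) (.leaf 5889)) (.node (.leaf 4648) (.leaf 0))))) (.node (.node (.node (.node (.leaf 903) (.leaf 6197)) (.node (.leaf 4080) (.leaf 7210))) (.node (.node (.leaf 2624) (.leaf 6839)) (.node (.leaf 1593) (.leaf 0)))) (.node (.node (.node (.leaf 1800) (.leaf 6551)) (.node (.leaf 4710) (.leaf 5961))) (.node (.node (.leaf 3382) (.leaf 5341)) (.node (.leaf 5778) (.leaf 0)))))))) (.node (.node (.node (.node (.node (.node (.node (.leaf 117) (.leaf 2486)) (.node (.leaf 3519) (.leaf 6575))) (.node (.node (.leaf 1964) (.leaf 5990)) (.node (.leaf 793) (.leaf 7323)))) (.node (.node (.node (.leaf 1082) (.leaf 4748)) (.node (.leaf 4205) (.leaf 6168))) (.node (.node (.leaf 2769) (.leaf 6886)) (.node (.leaf 5378) (.leaf 0))))) (.node (.node (.node (.node (.leaf 609) (.leaf 1079)) (.node (.leaf 3858) (.leaf 6819))) (.node (.node (.leaf 2375) (.leaf 5671)) (.node (.leaf 5095) (.leaf 0)))) (.node (.node (.node (.leaf 1528) (.leaf 5049)) (.node (.leaf 1492) (.leaf 3804))) (.node (.node (.leaf 3146) (.leaf 5688)) (.node (.leaf 2226) (.leaf 0)))))) (.node (.node (.node (.node (.node (.leaf 366) (.leaf 5107)) (.node (.leaf 1712) (.leaf 3571)))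 (.node (.node (.leaf 2170) (.leaf 3706)) (.node (.leaf 2571) (.leaf 0)))) (.node (.node (.node (.leaf 1307) (.leaf 6364)) (.node (.leaf 3836) (.leaf 4123))) (.node (.node (.leaf 2956) (.leaf 6705)) (.node (.leaf 5511) (.leaf 0))))) (.node (.node (.node (.node (.leaf 847) (.leaf 591)) (.node (.leaf 4044) (.leaf 2517))) (.node (.node (.leaf 2574) (.leaf 961)) (.node (.leaf 4890) (.leaf 0)))) (.node (.node (.node (.leaf 1747) (.leaf 919)) (.node (.leaf 4673) (.leaf 2365))) (.node (.node (.leaf 3253) (.leaf 6577)) (.node (.leaf 5750) (.leaf 0))))))) (.node (.node (.node (.node (.node (.node (.leaf 242) (.leaf 5920)) (.node (.leaf 3604) (.leaf 7115))) (.node (.node (.leaf 2071) (.leaf 535)) (.node (.leaf 4889) (.leaf 2369)))) (.node (.node (.node (.leaf 1193) (.leaf 4388)) (.node (.leaf 2167) (.leaf 4602))) (.node (.node (.leaf 2863) (.leaf 6227)) (.node (.leaf 5000) (.leaf 0))))) (.node (.node (.node (.node (.leaf 726) (.leaf 4708)) (.node (.leaf 528) (.leaf 6290))) (.node (.node (.leaf 2483) (.leaf 6548)) (.node (.leaf 5168) (.leaf 0)))) (.node (.node (.node (.leaf 1636) (.leaf 3556)) (.node (.leaf 2779) (.leaf 6663))) (.node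 (.node (.leaf 1555) (.leaf 6092)) (.node (.leaf 5687) (.leaf 0)))))) (.node (.node (.node (.node (.node (.leaf 487) (.leaf 148)) (.node (.leaf 3771) (.leaf 4807))) (.node (.node (.leaf 2279) (.leaf 6736)) (.node (.leaf 4704) (.leaf 0)))) (.node (.node (.node (.leaf 1416) (.leaf 6396)) (.node (.leaf 929) (.leaf 5845))) (.node (.node (.leaf 3053) (.leaf 2727)) (.node (.leaf 3851) (.leaf 0))))) (.node (.node (.node (.node (.leaf 964) (.leaf 4538)) (.node (.leaf 160) (.leaf 7209))) (.node (.node (.leaf 2675) (.leaf 6196)) (.node (.leaf 5306) (.leaf 0)))) (.node (.node (.node (.leaf 1857) (.leaf 1937)) (.node (.leaf 4753) (.leaf 7331))) (.node (.node (.leaf 3421) (.leaf 7006)) (.node (.leaf 5810) (.leaf 0))))))))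

def he1T27 : NT := .node (.node (.node (.node (.node (.node (.node (.node (.leaf 56) (.leaf 5844)) (.node (.leaf 3469) (.leaf 7084))) (.node (.node (.leaf 1910) (.leaf 3589)) (.node (.leaf 4793) (.leaf 7290)))) (.node (.node (.node (.leaf 1024) (.leaf 6253)) (.node (.leaf 4161) (.leaf 1676))) (.node (.node (.leaf 2724) (.leaf 6220)) (.node (.leaf 5008) (.leaf 0))))) (.node (.node (.node (.node (.leaf 552) (.leaf 6044)) (.node (.leaf 3816) (.leaf 5790))) (.node (.node (.leaf 2328) (.leaf 6444)) (.node (.leaf 5063) (.leaf 0)))) (.node (.node (.node (.leaf 1475) (.leaf 6419)) (.node (.leaf 4482) (.leaf 3359))) (.node (.node (.leaf 3099) (.leaf 6171)) (.node (.leaf 5603) (.leaf 0)))))) (.node (.node (.node (.node (.node (.leaf 307) (.leaf 4402)) (.node (.leaf 2816) (.leaf 520))) (.node (.node (.leaf 434) (.leaf 2798)) (.node (.leaf 4933) (.leaf 5214)))) (.node (.node (.node (.leaf 1255) (.leaf 6346)) (.node (.leaf 2667) (.leaf 1421))) (.node (.node (.leaf 2908) (.leaf 3872)) (.node (.leaf 3798) (.leaf 0))))) (.node (.node (.node (.node (.leaf 790) (.leaf 5650)) (.node (.leaf 3997) (.leaf 7048))) (.node (.node (.leaf 1751)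 (.leaf 783)) (.node (.leaf 5211) (.leaf 0)))) (.node (.node (.node (.leaf 1691) (.leaf 2694)) (.node (.leaf 4546) (.leaf 7319))) (.node (.node (.leaf 3292) (.leaf 7043)) (.node (.leaf 4086) (.leaf 0))))))) (.node (.node (.node (.node (.node (.node (.leaf 182) (.leaf 1827)) (.node (.leaf 3518) (.leaf 4408))) (.node (.node (.leaf 2023) (.leaf 6075)) (.node (.leaf 4091) (.leaf 7019)))) (.node (.node (.node (.leaf 1140) (.leaf 5045)) (.node (.leaf 1902) (.leaf 6053))) (.node (.node (.leaf 1711) (.leaf 4233)) (.node (.leaf 3961) (.leaf 0))))) (.node (.node (.node (.node (.leaf 671) (.leaf 6088)) (.node (.leaf 3907) (.leaf 1210))) (.node (.node (.leaf 2430) (.leaf 6250)) (.node (.leaf 848) (.leaf 0)))) (.node (.node (.node (.leaf 1585) (.leaf 247)) (.node (.leaf 4555) (.leaf 5231))) (.node (.node (.leaf 2084) (.leaf 6828)) (.node (.leaf 5657) (.leaf 0)))))) (.node (.node (.node (.node (.node (.leaf 429) (.leaf 3165)) (.node (.leaf 3734) (.leaf 676))) (.node (.node (.leaf 2124) (.leaf 1387)) (.node (.leaf 4008) (.leaf 0)))) (.node (.node (.node (.leaf 1365) (.leaf 285)) (.node (.leaf 4399) (.leaf 6603))) (.node (.node (.leaf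 3013) (.leaf 915)) (.node (.leaf 5545) (.leaf 0))))) (.node (.node (.node (.node (.leaf 905) (.leaf 6198)) (.node (.leaf 4082) (.leaf 6147))) (.node (.node (.leaf 2626) (.leaf 4390)) (.node (.leaf 3124) (.leaf 0)))) (.node (.node (.node (.leaf 1802) (.leaf 6553)) (.node (.leaf 4712) (.leaf 6616))) (.node (.node (.leaf 2036) (.leaf 7061)) (.node (.leaf 5779) (.leaf 0)))))))) (.node (.node (.node (.node (.node (.node (.node (.leaf 119) (.leaf 5874)) (.node (.leaf 3521) (.leaf 5674))) (.node (.node (.leaf 1966) (.leaf 4131)) (.node (.leaf 4773) (.leaf 4691)))) (.node (.node (.node (.leaf 1084) (.leaf 6275)) (.node (.leaf 4207) (.leaf 7244))) (.node (.node (.leaf 2771) (.leaf 4724)) (.node (.leaf 4160) (.leaf 0))))) (.node (.node (.node (.node (.leaf 611) (.leaf 643)) (.node (.leaf 2175) (.leaf 616))) (.node (.node (.leaf 2377) (.leaf 6754)) (.node (.leaf 5096) (.leaf 0)))) (.node (.node (.node (.leaf 1530) (.leaf 6445)) (.node (.leaf 4526) (.leaf 1920))) (.node (.node (.leaf 3148) (.leaf 7001)) (.node (.leaf 5628) (.leaf 0)))))) (.node (.node (.node (.node (.node (.leaf 368) (.leaf 5821)) (.node (.leaf 3690) (.leaf 4674)))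 (.node (.node (.leaf 2172) (.leaf 6695)) (.node (.leaf 3218) (.leaf 0)))) (.node (.node (.node (.leaf 1308) (.leaf 5033)) (.node (.leaf 4357) (.leaf 7270))) (.node (.node (.leaf 2958) (.leaf 6737)) (.node (.leaf 201) (.leaf 0))))) (.node (.node (.node (.node (.leaf 849) (.leaf 4346)) (.node (.leaf 2203) (.leaf 2704))) (.node (.node (.leaf 2576) (.leaf 885)) (.node (.leaf 4167) (.leaf 0)))) (.node (.node (.node (.leaf 3) (.leaf 6536)) (.node (.leaf 1169) (.leaf 6755))) (.node (.node (.leaf 3336) (.leaf 7053)) (.node (.leaf 4358) (.leaf 0))))))) (.node (.node (.node (.node (.node (.node (.leaf 244) (.leaf 1087)) (.node (.leaf 3605) (.leaf 565))) (.node (.node (.leaf 2073) (.leaf 6651)) (.node (.leaf 4891) (.leaf 7248)))) (.node (.node (.node (.leaf 1195) (.leaf 825)) (.node (.leaf 4281) (.leaf 4243))) (.node (.node (.leaf 2864) (.leaf 6914)) (.node (.leaf 304) (.leaf 0))))) (.node (.node (.node (.node (.leaf 728) (.leaf 4955)) (.node (.leaf 3954) (.leaf 1681))) (.node (.node (.leaf 1611) (.leaf 4864)) (.node (.leaf 5170) (.leaf 0)))) (.node (.node (.node (.leaf 1638) (.leaf 6487)) (.node (.leaf 4597) (.leaf 1739))) (.node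 (.node (.leaf 3244) (.leaf 7030)) (.node (.leaf 2253) (.leaf 0)))))) (.node (.node (.node (.node (.node (.leaf 489) (.leaf 316)) (.node (.leaf 3773) (.leaf 205))) (.node (.node (.leaf 2280) (.leaf 4031)) (.node (.leaf 5032) (.leaf 0)))) (.node (.node (.node (.leaf 1418) (.leaf 6397)) (.node (.leaf 4440) (.leaf 7284))) (.node (.node (.leaf 2988) (.leaf 4742)) (.node (.leaf 2549) (.leaf 0))))) (.node (.node (.node (.node (.leaf 965) (.leaf 6201)) (.node (.leaf 4119) (.leaf 1540))) (.node (.node (.leaf 2609) (.leaf 6408)) (.node (.leaf 5308) (.leaf 0)))) (.node (.node (.node (.leaf 1859) (.leaf 6583)) (.node (.leaf 4754) (.leaf 1949))) (.node (.node (.leaf 3423) (.leaf 4789)) (.node (.leaf 5812) (.leaf 0))))))))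

def he1T28 : NT := .node (.node (.node (.node (.node (.node (.node (.node (.leaf 58) (.leaf 5846)) (.node (.leaf 3471) (.leaf 1419))) (.node (.node (.leaf 1912) (.leaf 4022)) (.node (.leaf 4596) (.leaf 7106)))) (.node (.node (.node (.leaf 1026) (.leaf 2895)) (.node (.leaf 4162) (.leaf 6213))) (.node (.node (.leaf 2726) (.leaf 6873)) (.node (.leaf 5343) (.leaf 0))))) (.node (.node (.node (.node (.leaf 554) (.leaf 418)) (.node (.leaf 3818) (.leaf 152))) (.node (.node (.leaf 1533) (.leaf 3939)) (.node (.leaf 5064) (.leaf 0)))) (.node (.node (.node (.leaf 1477) (.leaf 2857)) (.node (.leaf 4484) (.leaf 1385))) (.node (.node (.leaf 3101) (.leaf 6860)) (.node (.leaf 57) (.leaf 0)))))) (.node (.node (.node (.node (.node (.leaf 309) (.leaf 5949)) (.node (.leaf 1121) (.leaf 1646))) (.node (.node (.leaf 2123) (.leaf 6673)) (.node (.leaf 4935) (.leaf 2773)))) (.node (.node (.node (.leaf 1256) (.leaf 4500)) (.node (.leaf 4318) (.leaf 685))) (.node (.node (.leaf 2910) (.leaf 6932)) (.node (.leaf 3611) (.leaf 0))))) (.node (.node (.node (.node (.leaf 792) (.leaf 2180)) (.node (.leaf 3134) (.leaf 6688))) (.node (.node (.leaf 2433) (.leaf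 5429)) (.node (.leaf 5213) (.leaf 0)))) (.node (.node (.node (.leaf 1693) (.leaf 5610)) (.node (.leaf 1293) (.leaf 7293))) (.node (.node (.leaf 3294) (.leaf 3949)) (.node (.leaf 1317) (.leaf 0))))))) (.node (.node (.node (.node (.node (.node (.leaf 184) (.leaf 4371)) (.node (.leaf 3564) (.leaf 7109))) (.node (.node (.leaf 2024) (.leaf 6394)) (.node (.leaf 77) (.leaf 289)))) (.node (.node (.node (.leaf 1141) (.leaf 1216)) (.node (.leaf 4244) (.leaf 6862))) (.node (.node (.leaf 2818) (.leaf 6901)) (.node (.leaf 5408) (.leaf 0))))) (.node (.node (.node (.node (.leaf 673) (.leaf 6090)) (.node (.leaf 3613) (.leaf 6560))) (.node (.node (.leaf 2432) (.leaf 6782)) (.node (.leaf 5134) (.leaf 0)))) (.node (.node (.node (.leaf 889) (.leaf 6461)) (.node (.leaf 4487) (.leaf 5307))) (.node (.node (.leaf 3198) (.leaf 7017)) (.node (.leaf 5659) (.leaf 0)))))) (.node (.node (.node (.node (.node (.leaf 431) (.leaf 2791)) (.node (.leaf 553) (.leaf 5994))) (.node (.node (.leaf 2227) (.leaf 6719)) (.node (.leaf 5001) (.leaf 0)))) (.node (.node (.node (.leaf 1367) (.leaf 6150)) (.node (.leaf 4400) (.leaf 6717))) (.node (.node (.leaf 3014) (.leaf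 6971)) (.node (.leaf 5546) (.leaf 0))))) (.node (.node (.node (.node (.leaf 907) (.leaf 5860)) (.node (.leaf 4083) (.leaf 7211))) (.node (.node (.leaf 2628) (.leaf 6841)) (.node (.leaf 4944) (.leaf 0)))) (.node (.node (.node (.leaf 1804) (.leaf 6555)) (.node (.leaf 4714) (.leaf 4644))) (.node (.node (.leaf 3384) (.leaf 864)) (.node (.leaf 5780) (.leaf 0)))))))) (.node (.node (.node (.node (.node (.node (.node (.leaf 121) (.leaf 1406)) (.node (.leaf 3522) (.leaf 5612))) (.node (.node (.leaf 1968) (.leaf 6613)) (.node (.leaf 4824) (.leaf 2086)))) (.node (.node (.node (.leaf 1086) (.leaf 5385)) (.node (.leaf 4209) (.leaf 5618))) (.node (.node (.leaf 2772) (.leaf 6888)) (.node (.leaf 5379) (.leaf 0))))) (.node (.node (.node (.node (.leaf 613) (.leaf 4193)) (.node (.leaf 3860) (.leaf 5010))) (.node (.node (.leaf 253) (.leaf 6763)) (.node (.leaf 5097) (.leaf 0)))) (.node (.node (.node (.leaf 1532) (.leaf 5724)) (.node (.leaf 4527) (.leaf 320))) (.node (.node (.leaf 3150) (.leaf 6853)) (.node (.leaf 5630) (.leaf 0)))))) (.node (.node (.node (.node (.node (.leaf 370) (.leaf 1598)) (.node (.leaf 1626) (.leaf 2065))) (.node (.node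 (.leaf 2174) (.leaf 574)) (.node (.leaf 4970) (.leaf 0)))) (.node (.node (.node (.leaf 1310) (.leaf 6365)) (.node (.leaf 4359) (.leaf 5936))) (.node (.node (.leaf 2960) (.leaf 6953)) (.node (.leaf 5337) (.leaf 0))))) (.node (.node (.node (.node (.leaf 851) (.leaf 3550)) (.node (.leaf 4046) (.leaf 4121))) (.node (.node (.leaf 2578) (.leaf 471)) (.node (.leaf 5243) (.leaf 0)))) (.node (.node (.node (.leaf 715) (.leaf 1280)) (.node (.leaf 3113) (.leaf 308))) (.node (.node (.leaf 3338) (.leaf 5003)) (.node (.leaf 5752) (.leaf 0))))))) (.node (.node (.node (.node (.node (.node (.leaf 246) (.leaf 3911)) (.node (.leaf 3607) (.leaf 6209))) (.node (.node (.leaf 2075) (.leaf 5411)) (.node (.leaf 209) (.leaf 5927)))) (.node (.node (.node (.leaf 1197) (.leaf 5388)) (.node (.leaf 4283) (.leaf 5296))) (.node (.node (.leaf 2866) (.leaf 3315)) (.node (.leaf 779) (.leaf 0))))) (.node (.node (.node (.node (.leaf 730) (.leaf 1883)) (.node (.leaf 2600) (.leaf 6267))) (.node (.node (.leaf 2485) (.leaf 6792)) (.node (.leaf 3669) (.leaf 0)))) (.node (.node (.node (.leaf 1640) (.leaf 6489)) (.node (.leaf 2731) (.leaf 7310))) (.node (.node (.leaf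 3246) (.leaf 5309)) (.node (.leaf 5242) (.leaf 0)))))) (.node (.node (.node (.node (.node (.leaf 491) (.leaf 3752)) (.node (.leaf 3774) (.leaf 7156))) (.node (.node (.leaf 1871) (.leaf 2044)) (.node (.leaf 5034) (.leaf 0)))) (.node (.node (.node (.leaf 1420) (.leaf 6124)) (.node (.leaf 4442) (.leaf 3109))) (.node (.node (.leaf 3055) (.leaf 3888)) (.node (.leaf 4029) (.leaf 0))))) (.node (.node (.node (.node (.leaf 967) (.leaf 381)) (.node (.leaf 854) (.leaf 4764))) (.node (.node (.leaf 2678) (.leaf 6857)) (.node (.leaf 5310) (.leaf 0)))) (.node (.node (.node (.leaf 1861) (.leaf 6584)) (.node (.leaf 4755) (.leaf 3562))) (.node (.node (.leaf 3424) (.leaf 6099)) (.node (.leaf 5813) (.leaf 0))))))))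

def he1T29 : NT := .node (.node (.node (.node (.node (.node (.node (.node (.leaf 60) (.leaf 3096)) (.node (.leaf 3473) (.leaf 6095))) (.node (.node (.leaf 1749) (.leaf 5431)) (.node (.leaf 2140) (.leaf 2877)))) (.node (.node (.node (.leaf 1028) (.leaf 1284)) (.node (.leaf 4163) (.leaf 3585))) (.node (.node (.leaf 2728) (.leaf 5717)) (.node (.leaf 5345) (.leaf 0))))) (.node (.node (.node (.node (.leaf 0) (.leaf 2354)) (.node (.leaf 3819) (.leaf 5530))) (.node (.node (.leaf 2331) (.leaf 4301)) (.node (.leaf 336) (.leaf 0)))) (.node (.node (.node (.leaf 984) (.leaf 6421)) (.node (.leaf 4486) (.leaf 118))) (.node (.node (.leaf 3103) (.leaf 2584)) (.node (.leaf 5604) (.leaf 0)))))) (.node (.node (.node (.node (.node (.leaf 311) (.leaf 5951)) (.node (.leaf 3135) (.leaf 3775))) (.node (.node (.leaf 2125) (.leaf 6675)) (.node (.leaf 1973) (.leaf 3445)))) (.node (.node (.node (.leaf 1258) (.leaf 2096)) (.node (.leaf 4320) (.leaf 4118))) (.node (.node (.leaf 2911) (.leaf 6933)) (.node (.leaf 5477) (.leaf 0))))) (.node (.node (.node (.node (.leaf 794) (.leaf 6141)) (.node (.leaf 3999) (.leaf 4652))) (.node (.node (.leaf 2529) (.leaf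 6184)) (.node (.leaf 4928) (.leaf 0)))) (.node (.node (.node (.leaf 1695) (.leaf 6516)) (.node (.leaf 4641) (.leaf 3854))) (.node (.node (.leaf 3296) (.leaf 7035)) (.node (.leaf 2582) (.leaf 0))))))) (.node (.node (.node (.node (.node (.node (.leaf 186) (.leaf 1297)) (.node (.leaf 3372) (.leaf 7092))) (.node (.node (.leaf 1353) (.leaf 6632)) (.node (.leaf 4861) (.leaf 7294)))) (.node (.node (.node (.leaf 1143) (.leaf 6279)) (.node (.leaf 3250) (.leaf 3967))) (.node (.node (.leaf 2820) (.leaf 5894)) (.node (.leaf 5409) (.leaf 0))))) (.node (.node (.node (.node (.leaf 675) (.leaf 6091)) (.node (.leaf 3910) (.leaf 5059))) (.node (.node (.leaf 2434) (.leaf 5712)) (.node (.leaf 5136) (.leaf 0)))) (.node (.node (.node (.leaf 1588) (.leaf 6462)) (.node (.leaf 4558) (.leaf 2559))) (.node (.node (.leaf 3200) (.leaf 4171)) (.node (.leaf 5661) (.leaf 0)))))) (.node (.node (.node (.node (.node (.leaf 433) (.leaf 6007)) (.node (.leaf 3736) (.leaf 953))) (.node (.node (.leaf 2229) (.leaf 6720)) (.node (.leaf 5002) (.leaf 0)))) (.node (.node (.node (.leaf 1369) (.leaf 3691)) (.node (.leaf 4401) (.leaf 5742))) (.node (.node (.leaf 1447)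 (.leaf 6399)) (.node (.leaf 5547) (.leaf 0))))) (.node (.node (.node (.node (.leaf 909) (.leaf 3733)) (.node (.leaf 4085) (.leaf 4900))) (.node (.node (.leaf 2630) (.leaf 618)) (.node (.leaf 5279) (.leaf 0)))) (.node (.node (.node (.leaf 1805) (.leaf 6556)) (.node (.leaf 4715) (.leaf 7064))) (.node (.node (.leaf 3385) (.leaf 3206)) (.node (.leaf 5782) (.leaf 0)))))))) (.node (.node (.node (.node (.node (.node (.node (.leaf 123) (.leaf 498)) (.node (.leaf 3524) (.leaf 5591))) (.node (.node (.leaf 1970) (.leaf 547)) (.node (.leaf 4224) (.leaf 2553)))) (.node (.node (.node (.leaf 827) (.leaf 3114)) (.node (.leaf 4210) (.leaf 1810))) (.node (.node (.leaf 1006) (.leaf 6889)) (.node (.leaf 5381) (.leaf 0))))) (.node (.node (.node (.node (.leaf 615) (.leaf 6069)) (.node (.leaf 3862) (.leaf 6757))) (.node (.node (.leaf 2380) (.leaf 6764)) (.node (.leaf 5098) (.leaf 0)))) (.node (.node (.node (.leaf 1534) (.leaf 6446)) (.node (.leaf 4529) (.leaf 7301))) (.node (.node (.leaf 3151) (.leaf 6661)) (.node (.leaf 5503) (.leaf 0)))))) (.node (.node (.node (.node (.node (.leaf 372) (.leaf 5979)) (.node (.leaf 3692) (.leaf 6049))) (.node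 (.node (.leaf 2176) (.leaf 5948)) (.node (.leaf 4972) (.leaf 0)))) (.node (.node (.node (.leaf 1312) (.leaf 6366)) (.node (.leaf 4361) (.leaf 2248))) (.node (.node (.leaf 2962) (.leaf 5490)) (.node (.leaf 5514) (.leaf 0))))) (.node (.node (.node (.node (.leaf 853) (.leaf 2333)) (.node (.leaf 4047) (.leaf 6614))) (.node (.node (.leaf 1497) (.leaf 2942)) (.node (.leaf 5244) (.leaf 0)))) (.node (.node (.node (.leaf 600) (.leaf 1908)) (.node (.leaf 4677) (.leaf 306))) (.node (.node (.leaf 3340) (.leaf 7054)) (.node (.leaf 5753) (.leaf 0))))))) (.node (.node (.node (.node (.node (.node (.leaf 248) (.leaf 5923)) (.node (.leaf 1036) (.leaf 7070))) (.node (.node (.leaf 1544) (.leaf 6074)) (.node (.leaf 4893) (.leaf 7341)))) (.node (.node (.node (.leaf 1199) (.leaf 6316)) (.node (.leaf 4285) (.leaf 4965))) (.node (.node (.leaf 2867) (.leaf 6420)) (.node (.leaf 1863) (.leaf 0))))) (.node (.node (.node (.node (.leaf 732) (.leaf 1192)) (.node (.leaf 3957) (.leaf 6324))) (.node (.node (.leaf 2487) (.leaf 6793)) (.node (.leaf 5173) (.leaf 0)))) (.node (.node (.node (.leaf 1642) (.leaf 6490)) (.node (.leaf 3229) (.leaf 3426))) (.node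 (.node (.leaf 3111) (.leaf 663)) (.node (.leaf 3709) (.leaf 0)))))) (.node (.node (.node (.node (.node (.leaf 493) (.leaf 5293)) (.node (.leaf 3776) (.leaf 7157))) (.node (.node (.leaf 2283) (.leaf 3015)) (.node (.leaf 5035) (.leaf 0)))) (.node (.node (.node (.leaf 1422) (.leaf 6398)) (.node (.leaf 4443) (.leaf 2116))) (.node (.node (.leaf 3057) (.leaf 5184)) (.node (.leaf 5583) (.leaf 0))))) (.node (.node (.node (.node (.leaf 969) (.leaf 6225)) (.node (.leaf 4120) (.leaf 7223))) (.node (.node (.leaf 949) (.leaf 6387)) (.node (.leaf 5311) (.leaf 0)))) (.node (.node (.node (.leaf 1862) (.leaf 4664)) (.node (.leaf 4756) (.leaf 6476))) (.node (.node (.leaf 3425) (.leaf 3377)) (.node (.leaf 3702) (.leaf 0))))))))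

def he1T30 : NT := .node (.node (.node (.node (.node (.node (.node (.node (.leaf 62) (.leaf 4043)) (.node (.leaf 3474) (.leaf 4566))) (.node (.node (.leaf 1914) (.leaf 4859)) (.node (.leaf 3266) (.leaf 3800)))) (.node (.node (.node (.leaf 921) (.leaf 5929)) (.node (.leaf 4165) (.leaf 2884))) (.node (.node (.leaf 2730) (.leaf 6874)) (.node (.leaf 5346) (.leaf 0))))) (.node (.node (.node (.node (.leaf 557) (.leaf 6047)) (.node (.leaf 3821) (.leaf 5167))) (.node (.node (.leaf 2332) (.leaf 6747)) (.node (.leaf 2748) (.leaf 0)))) (.node (.node (.node (.leaf 1480) (.leaf 5693)) (.node (.leaf 2209) (.leaf 6335))) (.node (.node (.leaf 3105) (.leaf 629)) (.node (.leaf 5606) (.leaf 0)))))) (.node (.node (.node (.node (.node (.leaf 313) (.leaf 5952)) (.node (.leaf 3652) (.leaf 5083))) (.node (.node (.leaf 2127) (.leaf 6085)) (.node (.leaf 4937) (.leaf 859)))) (.node (.node (.node (.leaf 1260) (.leaf 3941)) (.node (.leaf 4322) (.leaf 2196))) (.node (.node (.leaf 2913) (.leaf 3849)) (.node (.leaf 5478) (.leaf 0))))) (.node (.node (.node (.node (.leaf 449) (.leaf 4993)) (.node (.leaf 4001) (.leaf 927))) (.node (.node (.leaf 610) (.leaf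 6805)) (.node (.leaf 4309) (.leaf 0)))) (.node (.node (.node (.leaf 1697) (.leaf 5481)) (.node (.leaf 1373) (.leaf 6921))) (.node (.node (.leaf 3297) (.leaf 694)) (.node (.leaf 5723) (.leaf 0))))))) (.node (.node (.node (.node (.node (.node (.leaf 188) (.leaf 5382)) (.node (.leaf 2968) (.leaf 4781))) (.node (.node (.leaf 2026) (.leaf 5013)) (.node (.leaf 4862) (.leaf 598)))) (.node (.node (.node (.leaf 1145) (.leaf 6298)) (.node (.leaf 2847) (.leaf 7149))) (.node (.node (.leaf 2822) (.leaf 2518)) (.node (.leaf 3356) (.leaf 0))))) (.node (.node (.node (.node (.leaf 677) (.leaf 5449)) (.node (.leaf 2423) (.leaf 1535))) (.node (.node (.leaf 1897) (.leaf 6568)) (.node (.leaf 4413) (.leaf 0)))) (.node (.node (.node (.leaf 1589) (.leaf 5614)) (.node (.leaf 41) (.leaf 7305))) (.node (.node (.leaf 3128) (.leaf 7018)) (.node (.leaf 4779) (.leaf 0)))))) (.node (.node (.node (.node (.node (.leaf 435) (.leaf 6008)) (.node (.leaf 1479) (.leaf 3154))) (.node (.node (.leaf 2231) (.leaf 6721)) (.node (.leaf 5004) (.leaf 0)))) (.node (.node (.node (.leaf 1370) (.leaf 2788)) (.node (.leaf 4139) (.leaf 938))) (.node (.node (.leaf 373) (.leaf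 4720)) (.node (.leaf 5549) (.leaf 0))))) (.node (.node (.node (.node (.leaf 911) (.leaf 4759)) (.node (.leaf 4087) (.leaf 3258))) (.node (.node (.leaf 2632) (.leaf 6840)) (.node (.leaf 833) (.leaf 0)))) (.node (.node (.node (.leaf 1807) (.leaf 5451)) (.node (.leaf 4716) (.leaf 5568))) (.node (.node (.leaf 3387) (.leaf 7062)) (.node (.leaf 5784) (.leaf 0)))))))) (.node (.node (.node (.node (.node (.node (.node (.leaf 125) (.leaf 3874)) (.node (.leaf 3525) (.leaf 4517))) (.node (.node (.leaf 1972) (.leaf 6615)) (.node (.leaf 4826) (.leaf 2074)))) (.node (.node (.node (.leaf 1089) (.leaf 3495)) (.node (.leaf 4211) (.leaf 1965))) (.node (.node (.leaf 2775) (.leaf 1299)) (.node (.leaf 5383) (.leaf 0))))) (.node (.node (.node (.node (.leaf 617) (.leaf 1829)) (.node (.leaf 3863) (.leaf 3992))) (.node (.node (.leaf 2382) (.leaf 6766)) (.node (.leaf 5100) (.leaf 0)))) (.node (.node (.node (.leaf 1536) (.leaf 6134)) (.node (.leaf 982) (.leaf 3092))) (.node (.node (.leaf 3153) (.leaf 7002)) (.node (.leaf 5633) (.leaf 0)))))) (.node (.node (.node (.node (.node (.leaf 374) (.leaf 3145)) (.node (.leaf 99) (.leaf 7133))) (.node (.node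 (.leaf 2178) (.leaf 787)) (.node (.leaf 3005) (.leaf 0)))) (.node (.node (.node (.leaf 1314) (.leaf 4855)) (.node (.leaf 4363) (.leaf 3444))) (.node (.node (.leaf 2964) (.leaf 6954)) (.node (.leaf 5515) (.leaf 0))))) (.node (.node (.node (.node (.leaf 855) (.leaf 4396)) (.node (.leaf 4048) (.leaf 5837))) (.node (.node (.leaf 2581) (.leaf 5410)) (.node (.leaf 5245) (.leaf 0)))) (.node (.node (.node (.leaf 773) (.leaf 6005)) (.node (.leaf 4679) (.leaf 7121))) (.node (.node (.leaf 3342) (.leaf 4959)) (.node (.leaf 5755) (.leaf 0))))))) (.node (.node (.node (.node (.node (.node (.leaf 250) (.leaf 97)) (.node (.leaf 3608) (.leaf 7116))) (.node (.node (.leaf 2078) (.leaf 6653)) (.node (.leaf 3011) (.leaf 2213)))) (.node (.node (.node (.leaf 1201) (.leaf 4816)) (.node (.leaf 3721) (.leaf 3570))) (.node (.node (.leaf 700) (.leaf 5452)) (.node (.leaf 5444) (.leaf 0))))) (.node (.node (.node (.node (.leaf 734) (.leaf 6113)) (.node (.leaf 3505) (.leaf 6027))) (.node (.node (.leaf 476) (.leaf 651)) (.node (.leaf 5175) (.leaf 0)))) (.node (.node (.node (.leaf 1644) (.leaf 1410)) (.node (.leaf 4601) (.leaf 6842))) (.node (.node (.leaf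 3048) (.leaf 7032)) (.node (.leaf 5690) (.leaf 0)))))) (.node (.node (.node (.node (.node (.leaf 495) (.leaf 6029)) (.node (.leaf 3777) (.leaf 7159))) (.node (.node (.leaf 1305) (.leaf 5494)) (.node (.leaf 3884) (.leaf 0)))) (.node (.node (.node (.leaf 923) (.leaf 3523)) (.node (.leaf 4444) (.leaf 1360))) (.node (.node (.leaf 3058) (.leaf 5277)) (.node (.leaf 5585) (.leaf 0))))) (.node (.node (.node (.node (.leaf 971) (.leaf 5227)) (.node (.leaf 4122) (.leaf 6212))) (.node (.node (.leaf 2680) (.leaf 6858)) (.node (.leaf 5312) (.leaf 0)))) (.node (.node (.node (.leaf 1864) (.leaf 3180)) (.node (.leaf 4758) (.leaf 2032))) (.node (.node (.leaf 2207) (.leaf 7074)) (.node (.leaf 2594) (.leaf 0))))))))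

def he1T31 : NT := .node (.node (.node (.node (.node (.node (.node (.node (.leaf 64) (.leaf 5848)) (.node (.leaf 3476) (.leaf 7085))) (.node (.node (.leaf 1916) (.leaf 3319)) (.node (.leaf 4794) (.leaf 5039)))) (.node (.node (.node (.leaf 1031) (.leaf 5534)) (.node (.leaf 4166) (.leaf 6897))) (.node (.node (.leaf 2732) (.leaf 6769)) (.node (.leaf 5348) (.leaf 0))))) (.node (.node (.node (.node (.leaf 245) (.leaf 6048)) (.node (.leaf 3823) (.leaf 2306))) (.node (.node (.leaf 2334) (.leaf 2053)) (.node (.leaf 5065) (.leaf 0)))) (.node (.node (.node (.leaf 1482) (.leaf 6422)) (.node (.leaf 4488) (.leaf 5998))) (.node (.node (.leaf 3107) (.leaf 6902)) (.node (.leaf 5607) (.leaf 0)))))) (.node (.node (.node (.node (.node (.leaf 315) (.leaf 5953)) (.node (.leaf 3654) (.leaf 3489))) (.node (.node (.leaf 1783) (.leaf 5969)) (.node (.leaf 4938) (.leaf 4494)))) (.node (.node (.node (.leaf 1262) (.leaf 6103)) (.node (.leaf 2468) (.leaf 6386))) (.node (.node (.leaf 2915) (.leaf 6934)) (.node (.leaf 5480) (.leaf 0))))) (.node (.node (.node (.node (.leaf 797) (.leaf 6143)) (.node (.leaf 3808) (.leaf 1848))) (.node (.node (.leaf 2531)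 (.leaf 789)) (.node (.leaf 3428) (.leaf 0)))) (.node (.node (.node (.leaf 1699) (.leaf 1513)) (.node (.leaf 4643) (.leaf 7026))) (.node (.node (.leaf 3299) (.leaf 891)) (.node (.leaf 1820) (.leaf 0))))))) (.node (.node (.node (.node (.node (.node (.leaf 190) (.leaf 5825)) (.node (.leaf 3565) (.leaf 5217))) (.node (.node (.leaf 2027) (.leaf 6633)) (.node (.leaf 4863) (.leaf 7261)))) (.node (.node (.node (.leaf 1147) (.leaf 2755)) (.node (.leaf 4247) (.leaf 3959))) (.node (.node (.leaf 2824) (.leaf 3260)) (.node (.leaf 5412) (.leaf 0))))) (.node (.node (.node (.node (.leaf 679) (.leaf 1379)) (.node (.leaf 3912) (.leaf 2697))) (.node (.node (.leaf 2437) (.leaf 6783)) (.node (.leaf 5138) (.leaf 0)))) (.node (.node (.node (.leaf 1591) (.leaf 5253)) (.node (.leaf 4559) (.leaf 2386))) (.node (.node (.leaf 3203) (.leaf 4961)) (.node (.leaf 5663) (.leaf 0)))))) (.node (.node (.node (.node (.node (.leaf 437) (.leaf 6010)) (.node (.leaf 3737) (.leaf 7124))) (.node (.node (.leaf 2233) (.leaf 2976)) (.node (.leaf 1790) (.leaf 0)))) (.node (.node (.node (.leaf 1372) (.leaf 6383)) (.node (.leaf 4404) (.leaf 1018))) (.node (.node (.leaf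 3016) (.leaf 6972)) (.node (.leaf 5551) (.leaf 0))))) (.node (.node (.node (.node (.leaf 820) (.leaf 5739)) (.node (.leaf 1956) (.leaf 5783))) (.node (.node (.leaf 2634) (.leaf 3417)) (.node (.leaf 5281) (.leaf 0)))) (.node (.node (.node (.leaf 1809) (.leaf 6068)) (.node (.leaf 4718) (.leaf 6867))) (.node (.node (.leaf 3388) (.leaf 7063)) (.node (.leaf 5785) (.leaf 0)))))))) (.node (.node (.node (.node (.node (.node (.node (.leaf 127) (.leaf 1837)) (.node (.leaf 3527) (.leaf 6339))) (.node (.node (.leaf 1974) (.leaf 733)) (.node (.leaf 3416) (.leaf 7144)))) (.node (.node (.node (.leaf 1091) (.leaf 6278)) (.node (.leaf 2211) (.leaf 3648))) (.node (.node (.leaf 2777) (.leaf 4621)) (.node (.leaf 5384) (.leaf 0))))) (.node (.node (.node (.node (.leaf 619) (.leaf 349)) (.node (.leaf 3865) (.leaf 2631))) (.node (.node (.leaf 2384) (.leaf 6767)) (.node (.leaf 5101) (.leaf 0)))) (.node (.node (.node (.leaf 1538) (.leaf 4199)) (.node (.leaf 3350) (.leaf 7189))) (.node (.node (.leaf 3155) (.leaf 6785)) (.node (.leaf 5634) (.leaf 0)))))) (.node (.node (.node (.node (.node (.leaf 376) (.leaf 4590)) (.node (.leaf 3694) (.leaf 7134)))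 (.node (.node (.leaf 2179) (.leaf 5496)) (.node (.leaf 4975) (.leaf 0)))) (.node (.node (.node (.leaf 623) (.leaf 6367)) (.node (.leaf 4365) (.leaf 545))) (.node (.node (.leaf 1757) (.leaf 6875)) (.node (.leaf 1701) (.leaf 0))))) (.node (.node (.node (.node (.leaf 857) (.leaf 6173)) (.node (.leaf 4049) (.leaf 5284))) (.node (.node (.leaf 2583) (.leaf 6818)) (.node (.leaf 5247) (.leaf 0)))) (.node (.node (.node (.leaf 1752) (.leaf 6178)) (.node (.leaf 4681) (.leaf 5636))) (.node (.node (.leaf 2329) (.leaf 5060)) (.node (.leaf 5757) (.leaf 0))))))) (.node (.node (.node (.node (.node (.node (.leaf 252) (.leaf 5901)) (.node (.leaf 3610) (.leaf 3432))) (.node (.node (.leaf 2080) (.leaf 3422)) (.node (.leaf 4895) (.leaf 7342)))) (.node (.node (.node (.leaf 1203) (.leaf 1265)) (.node (.leaf 3251) (.leaf 6815))) (.node (.node (.leaf 2870) (.leaf 6081)) (.node (.leaf 3498) (.leaf 0))))) (.node (.node (.node (.node (.leaf 736) (.leaf 526)) (.node (.leaf 812) (.leaf 6777))) (.node (.node (.leaf 2489) (.leaf 3438)) (.node (.leaf 5177) (.leaf 0)))) (.node (.node (.node (.leaf 1645) (.leaf 6491)) (.node (.leaf 4603) (.leaf 510))) (.node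 (.node (.leaf 3249) (.leaf 2260)) (.node (.leaf 5692) (.leaf 0)))))) (.node (.node (.node (.node (.node (.leaf 497) (.leaf 5967)) (.node (.leaf 3778) (.leaf 7160))) (.node (.node (.leaf 2286) (.leaf 2028)) (.node (.leaf 3283) (.leaf 0)))) (.node (.node (.node (.leaf 1425) (.leaf 5629)) (.node (.leaf 4446) (.leaf 7245))) (.node (.node (.leaf 3059) (.leaf 5660)) (.node (.leaf 4290) (.leaf 0))))) (.node (.node (.node (.node (.leaf 973) (.leaf 6226)) (.node (.leaf 4124) (.leaf 3568))) (.node (.node (.leaf 2682) (.leaf 6859)) (.node (.leaf 5313) (.leaf 0)))) (.node (.node (.node (.leaf 1865) (.leaf 5856)) (.node (.leaf 3212) (.leaf 6851))) (.node (.node (.leaf 3427) (.leaf 238)) (.node (.leaf 5816) (.leaf 0))))))))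

def he1T : NT := .node (.node (.node (.node (.node (he1T0) (he1T16)) (.node (he1T8) (he1T24))) (.node (.node (he1T4) (he1T20)) (.node (he1T12) (he1T28)))) (.node (.node (.node (he1T2) (he1T18)) (.node (he1T10) (he1T26))) (.node (.node (he1T6) (he1T22)) (.node (he1T14) (he1T30))))) (.node (.node (.node (.node (he1T1) (he1T17)) (.node (he1T9) (he1T25))) (.node (.node (he1T5) (he1T21)) (.node (he1T13) (he1T29)))) (.node (.node (.node (he1T3) (he1T19)) (.node (he1T11) (he1T27))) (.node (.node (he1T7) (he1T23)) (.node (he1T15) (he1T31)))))

def hpT0 : NT := .node (.node (.node (.node (.node (.node (.node (.node (.leaf 0) (.leaf 5071)) (.node (.leaf 2266) (.leaf 9027))) (.node (.node (.leaf 1079) (.leaf 6820)) (.node (.leaf 3601) (.leaf 12833)))) (.node (.node (.node (.leaf 526) (.leaf 5892)) (.node (.leaf 2916) (.leaf 10500))) (.node (.node (.leaf 1661) (.leaf 7804)) (.node (.leaf 4314) (.leaf 0))))) (.node (.node (.node (.node (.leaf 259) (.leaf 5489)) (.node (.leaf 2584) (.leaf 9728))) (.node (.node (.leaf 1364) (.leaf 7281)) (.node (.leaf 3942) (.leaf 0)))) (.node (.node (.node (.leaf 801) (.leaf 6338)) (.node (.leaf 3254)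 (.leaf 11491))) (.node (.node (.leaf 1964) (.leaf 8349)) (.node (.leaf 4699) (.leaf 0)))))) (.node (.node (.node (.node (.node (.leaf 128) (.leaf 5266)) (.node (.leaf 2427) (.leaf 9319))) (.node (.node (.leaf 1222) (.leaf 7041)) (.node (.leaf 3771) (.leaf 13905)))) (.node (.node (.node (.leaf 661) (.leaf 6106)) (.node (.leaf 3078) (.leaf 10945))) (.node (.node (.leaf 1813) (.leaf 8069)) (.node (.leaf 4505) (.leaf 0))))) (.node (.node (.node (.node (.leaf 391) (.leaf 5684)) (.node (.leaf 2745) (.leaf 10078))) (.node (.node (.leaf 1514) (.leaf 7527)) (.node (.leaf 4137) (.leaf 0)))) (.node (.node (.node (.leaf 940) (.leaf 6561)) (.node (.leaf 3426) (.leaf 12069))) (.node (.node (.leaf 2118) (.leaf 8653)) (.node (.leaf 4875) (.leaf 0))))))) (.node (.node (.node (.node (.node (.node (.leaf 63) (.leaf 5174)) (.node (.leaf 2346) (.leaf 9165))) (.node (.node (.leaf 1148) (.leaf 6922)) (.node (.leaf 3687) (.leaf 13358)))) (.node (.node (.node (.leaf 594) (.leaf 6004)) (.node (.leaf 2997) (.leaf 10683))) (.node (.node (.leaf 1738) (.leaf 7942)) (.node (.leaf 4404) (.leaf 0))))) (.node (.node (.node (.node (.leaf 324) (.leaf 5587))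 (.node (.leaf 2667) (.leaf 9925))) (.node (.node (.leaf 1439) (.leaf 7407)) (.node (.leaf 4037) (.leaf 0)))) (.node (.node (.node (.leaf 869) (.leaf 6450)) (.node (.leaf 3341) (.leaf 11735))) (.node (.node (.leaf 2036) (.leaf 8509)) (.node (.leaf 4788) (.leaf 0)))))) (.node (.node (.node (.node (.node (.leaf 193) (.leaf 5376)) (.node (.leaf 2504) (.leaf 9510))) (.node (.node (.leaf 1292) (.leaf 7165)) (.node (.leaf 3857) (.leaf 0)))) (.node (.node (.node (.leaf 730) (.leaf 6218)) (.node (.leaf 3166) (.leaf 11222))) (.node (.node (.leaf 1888) (.leaf 8207)) (.node (.leaf 4603) (.leaf 0))))) (.node (.node (.node (.node (.leaf 459) (.leaf 5793)) (.node (.leaf 2827) (.leaf 10255))) (.node (.node (.leaf 1587) (.leaf 7642)) (.node (.leaf 4214) (.leaf 0)))) (.node (.node (.node (.leaf 1009) (.leaf 6697)) (.node (.leaf 3505) (.leaf 12431))) (.node (.node (.leaf 2187) (.leaf 8861)) (.node (.leaf 4966) (.leaf 0)))))))) (.node (.node (.node (.node (.node (.node (.node (.leaf 31) (.leaf 5123)) (.node (.leaf 2303) (.leaf 9097))) (.node (.node (.leaf 1113) (.leaf 6877)) (.node (.leaf 3644) (.leaf 13120)))) (.node (.node (.node (.leaf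 559) (.leaf 5946)) (.node (.leaf 2953) (.leaf 10596))) (.node (.node (.leaf 1700) (.leaf 7872)) (.node (.leaf 4358) (.leaf 0))))) (.node (.node (.node (.node (.leaf 291) (.leaf 5538)) (.node (.leaf 2625) (.leaf 9817))) (.node (.node (.leaf 1403) (.leaf 7353)) (.node (.leaf 3995) (.leaf 0)))) (.node (.node (.node (.leaf 834) (.leaf 6401)) (.node (.leaf 3295) (.leaf 11620))) (.node (.node (.leaf 1998) (.leaf 8437)) (.node (.leaf 4744) (.leaf 0)))))) (.node (.node (.node (.node (.node (.leaf 160) (.leaf 5330)) (.node (.leaf 2465) (.leaf 9420))) (.node (.node (.leaf 1259) (.leaf 7102)) (.node (.leaf 3813) (.leaf 14266)))) (.node (.node (.node (.leaf 696) (.leaf 6161)) (.node (.leaf 3122) (.leaf 11115))) (.node (.node (.leaf 1852) (.leaf 8143)) (.node (.leaf 4555) (.leaf 0))))) (.node (.node (.node (.node (.leaf 426) (.leaf 5729)) (.node (.leaf 2784) (.leaf 10180))) (.node (.node (.leaf 1550) (.leaf 7589)) (.node (.leaf 4171) (.leaf 0)))) (.node (.node (.node (.leaf 975) (.leaf 6629)) (.node (.leaf 3466) (.leaf 12282))) (.node (.node (.leaf 2151) (.leaf 8767)) (.node (.leaf 4924) (.leaf 0))))))) (.node (.node (.node (.node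 (.node (.node (.leaf 95) (.leaf 5221)) (.node (.leaf 2389) (.leaf 9248))) (.node (.node (.leaf 1183) (.leaf 6979)) (.node (.leaf 3728) (.leaf 13615)))) (.node (.node (.node (.leaf 628) (.leaf 6052)) (.node (.leaf 3036) (.leaf 10830))) (.node (.node (.leaf 1773) (.leaf 8009)) (.node (.leaf 4451) (.leaf 0))))) (.node (.node (.node (.node (.leaf 357) (.leaf 5636)) (.node (.leaf 2706) (.leaf 10000))) (.node (.node (.leaf 1475) (.leaf 7472)) (.node (.leaf 4089) (.leaf 0)))) (.node (.node (.node (.leaf 904) (.leaf 6495)) (.node (.leaf 3388) (.leaf 11920))) (.node (.node (.leaf 2075) (.leaf 8581)) (.node (.leaf 4832) (.leaf 0)))))) (.node (.node (.node (.node (.node (.leaf 225) (.leaf 5435)) (.node (.leaf 2542) (.leaf 9608))) (.node (.node (.leaf 1328) (.leaf 7226)) (.node (.leaf 3899) (.leaf 0)))) (.node (.node (.node (.leaf 767) (.leaf 6280)) (.node (.leaf 3211) (.leaf 11353))) (.node (.node (.leaf 1927) (.leaf 8274)) (.node (.leaf 4652) (.leaf 0))))) (.node (.node (.node (.node (.leaf 494) (.leaf 5846)) (.node (.leaf 2874) (.leaf 10396))) (.node (.node (.leaf 1624) (.leaf 7729)) (.node (.leaf 4264) (.leaf 0)))) (.node (.node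 (.node (.leaf 1044) (.leaf 6765)) (.node (.leaf 3554) (.leaf 12677))) (.node (.node (.leaf 2223) (.leaf 8952)) (.node (.leaf 5017) (.leaf 0))))))))

def hpT1 : NT := .node (.node (.node (.node (.node (.node (.node (.node (.leaf 0) (.leaf 5072)) (.node (.leaf 2267) (.leaf 9028))) (.node (.node (.leaf 1080) (.leaf 6823)) (.node (.leaf 3602) (.leaf 12836)))) (.node (.node (.node (.leaf 527) (.leaf 5893)) (.node (.leaf 2917) (.leaf 10506))) (.node (.node (.leaf 1662) (.leaf 7805)) (.node (.leaf 4316) (.leaf 0))))) (.node (.node (.node (.node (.leaf 260) (.leaf 5490)) (.node (.leaf 2585) (.leaf 9729))) (.node (.node (.leaf 1365) (.leaf 7282)) (.node (.leaf 3943) (.leaf 0)))) (.node (.node (.node (.leaf 802) (.leaf 6339)) (.node (.leaf 3256) (.leaf 11495))) (.node (.node (.leaf 1965) (.leaf 8356)) (.node (.leaf 4702) (.leaf 0)))))) (.node (.node (.node (.node (.node (.leaf 129) (.leaf 5269)) (.node (.leaf 2428) (.leaf 9323))) (.node (.node (.leaf 1223) (.leaf 7042)) (.node (.leaf 3772) (.leaf 13918)))) (.node (.node (.node (.leaf 662) (.leaf 6108)) (.node (.leaf 3079) (.leaf 10950))) (.node (.node (.leaf 1815) (.leaf 8079))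 (.node (.leaf 4508) (.leaf 0))))) (.node (.node (.node (.node (.leaf 392) (.leaf 5685)) (.node (.leaf 2746) (.leaf 10083))) (.node (.node (.leaf 1515) (.leaf 7530)) (.node (.leaf 4138) (.leaf 0)))) (.node (.node (.node (.leaf 941) (.leaf 6562)) (.node (.leaf 3427) (.leaf 12072))) (.node (.node (.leaf 2119) (.leaf 8657)) (.node (.leaf 4876) (.leaf 0))))))) (.node (.node (.node (.node (.node (.node (.leaf 64) (.leaf 5175)) (.node (.leaf 2347) (.leaf 9172))) (.node (.node (.leaf 1149) (.leaf 6923)) (.node (.leaf 3689) (.leaf 13359)))) (.node (.node (.node (.leaf 595) (.leaf 6005)) (.node (.leaf 2998) (.leaf 10685))) (.node (.node (.leaf 1739) (.leaf 7943)) (.node (.leaf 4405) (.leaf 0))))) (.node (.node (.node (.node (.leaf 325) (.leaf 5589)) (.node (.leaf 2668) (.leaf 9926))) (.node (.node (.leaf 1440) (.leaf 7408)) (.node (.leaf 4039) (.leaf 0)))) (.node (.node (.node (.leaf 870) (.leaf 6451)) (.node (.leaf 3342) (.leaf 11737))) (.node (.node (.leaf 2037) (.leaf 8511)) (.node (.leaf 4789) (.leaf 0)))))) (.node (.node (.node (.node (.node (.leaf 194) (.leaf 5379)) (.node (.leaf 2505) (.leaf 9512))) (.node (.node (.leaf 1293)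 (.leaf 7167)) (.node (.leaf 3858) (.leaf 0)))) (.node (.node (.node (.leaf 731) (.leaf 6219)) (.node (.leaf 3169) (.leaf 11227))) (.node (.node (.leaf 1889) (.leaf 8208)) (.node (.leaf 4605) (.leaf 0))))) (.node (.node (.node (.node (.leaf 460) (.leaf 5796)) (.node (.leaf 2828) (.leaf 10258))) (.node (.node (.leaf 1589) (.leaf 7643)) (.node (.leaf 4215) (.leaf 0)))) (.node (.node (.node (.leaf 1010) (.leaf 6698)) (.node (.leaf 3506) (.leaf 12438))) (.node (.node (.leaf 2188) (.leaf 8864)) (.node (.leaf 4967) (.leaf 0)))))))) (.node (.node (.node (.node (.node (.node (.node (.leaf 32) (.leaf 5124)) (.node (.leaf 2304) (.leaf 9098))) (.node (.node (.leaf 1114) (.leaf 6878)) (.node (.leaf 3645) (.leaf 13125)))) (.node (.node (.node (.leaf 560) (.leaf 5947)) (.node (.leaf 2954) (.leaf 10599))) (.node (.node (.leaf 1701) (.leaf 7873)) (.node (.leaf 4359) (.leaf 0))))) (.node (.node (.node (.node (.leaf 292) (.leaf 5539)) (.node (.leaf 2627) (.leaf 9823))) (.node (.node (.leaf 1404) (.leaf 7355)) (.node (.leaf 3996) (.leaf 0)))) (.node (.node (.node (.leaf 835) (.leaf 6402)) (.node (.leaf 3296) (.leaf 11623))) (.node (.node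 (.leaf 1999) (.leaf 8440)) (.node (.leaf 4745) (.leaf 0)))))) (.node (.node (.node (.node (.node (.leaf 161) (.leaf 5331)) (.node (.leaf 2466) (.leaf 9421))) (.node (.node (.leaf 1260) (.leaf 7103)) (.node (.leaf 3815) (.leaf 14277)))) (.node (.node (.node (.leaf 697) (.leaf 6162)) (.node (.leaf 3123) (.leaf 11120))) (.node (.node (.leaf 1853) (.leaf 8145)) (.node (.leaf 4556) (.leaf 0))))) (.node (.node (.node (.node (.leaf 427) (.leaf 5731)) (.node (.leaf 2785) (.leaf 10182))) (.node (.node (.leaf 1551) (.leaf 7591)) (.node (.leaf 4172) (.leaf 0)))) (.node (.node (.node (.leaf 976) (.leaf 6630)) (.node (.leaf 3469) (.leaf 12284))) (.node (.node (.leaf 2152) (.leaf 8768)) (.node (.leaf 4925) (.leaf 0))))))) (.node (.node (.node (.node (.node (.node (.leaf 96) (.leaf 5222)) (.node (.leaf 2390) (.leaf 9249))) (.node (.node (.leaf 1184) (.leaf 6980)) (.node (.leaf 3729) (.leaf 13657)))) (.node (.node (.node (.leaf 629) (.leaf 6053)) (.node (.leaf 3037) (.leaf 10834))) (.node (.node (.leaf 1775) (.leaf 8010)) (.node (.leaf 4452) (.leaf 0))))) (.node (.node (.node (.node (.leaf 358) (.leaf 5637)) (.node (.leaf 2707) (.leaf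 10003))) (.node (.node (.leaf 1476) (.leaf 7474)) (.node (.leaf 4091) (.leaf 0)))) (.node (.node (.node (.leaf 905) (.leaf 6496)) (.node (.leaf 3389) (.leaf 11921))) (.node (.node (.leaf 2077) (.leaf 8583)) (.node (.leaf 4833) (.leaf 0)))))) (.node (.node (.node (.node (.node (.leaf 226) (.leaf 5436)) (.node (.leaf 2543) (.leaf 9609))) (.node (.node (.leaf 1329) (.leaf 7227)) (.node (.leaf 3901) (.leaf 0)))) (.node (.node (.node (.leaf 768) (.leaf 6281)) (.node (.leaf 3213) (.leaf 11366))) (.node (.node (.leaf 1928) (.leaf 8275)) (.node (.leaf 4653) (.leaf 0))))) (.node (.node (.node (.node (.leaf 495) (.leaf 5847)) (.node (.leaf 2875) (.leaf 10401))) (.node (.node (.leaf 1625) (.leaf 7731)) (.node (.leaf 4265) (.leaf 0)))) (.node (.node (.node (.leaf 1046) (.leaf 6766)) (.node (.leaf 3555) (.leaf 12687))) (.node (.node (.leaf 2224) (.leaf 8957)) (.node (.leaf 5018) (.leaf 0))))))))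

def hpT2 : NT := .node (.node (.node (.node (.node (.node (.node (.node (.leaf 1) (.leaf 5073)) (.node (.leaf 2268) (.leaf 9029))) (.node (.node (.leaf 1081) (.leaf 6824)) (.node (.leaf 3603) (.leaf 12842)))) (.node (.node (.node (.leaf 528) (.leaf 5895)) (.node (.leaf 2918) (.leaf 10508))) (.node (.node (.leaf 1663) (.leaf 7807)) (.node (.leaf 4317) (.leaf 0))))) (.node (.node (.node (.node (.leaf 261) (.leaf 5491)) (.node (.leaf 2586) (.leaf 9735))) (.node (.node (.leaf 1366) (.leaf 7285)) (.node (.leaf 3946) (.leaf 0)))) (.node (.node (.node (.leaf 803) (.leaf 6342)) (.node (.leaf 3257) (.leaf 11511))) (.node (.node (.leaf 1967) (.leaf 8357)) (.node (.leaf 4703) (.leaf 0)))))) (.node (.node (.node (.node (.node (.leaf 130) (.leaf 5270)) (.node (.leaf 2429) (.leaf 9331))) (.node (.node (.leaf 1224) (.leaf 7043)) (.node (.leaf 3774) (.leaf 13920)))) (.node (.node (.node (.leaf 663) (.leaf 6110)) (.node (.leaf 3080) (.leaf 10959))) (.node (.node (.leaf 1816) (.leaf 8080)) (.node (.leaf 4509) (.leaf 0))))) (.node (.node (.node (.node (.leaf 393) (.leaf 5687)) (.node (.leaf 2747) (.leaf 10089))) (.node (.node (.leaf 1516)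 (.leaf 7531)) (.node (.leaf 4139) (.leaf 0)))) (.node (.node (.node (.leaf 942) (.leaf 6568)) (.node (.leaf 3428) (.leaf 12085))) (.node (.node (.leaf 2120) (.leaf 8665)) (.node (.leaf 4877) (.leaf 0))))))) (.node (.node (.node (.node (.node (.node (.leaf 65) (.leaf 5177)) (.node (.leaf 2348) (.leaf 9173))) (.node (.node (.leaf 1150) (.leaf 6927)) (.node (.leaf 3691) (.leaf 13370)))) (.node (.node (.node (.leaf 596) (.leaf 6006)) (.node (.leaf 2999) (.leaf 10686))) (.node (.node (.leaf 1740) (.leaf 7945)) (.node (.leaf 4406) (.leaf 0))))) (.node (.node (.node (.node (.leaf 326) (.leaf 5590)) (.node (.leaf 2669) (.leaf 9927))) (.node (.node (.leaf 1441) (.leaf 7412)) (.node (.leaf 4040) (.leaf 0)))) (.node (.node (.node (.leaf 871) (.leaf 6452)) (.node (.leaf 3343) (.leaf 11738))) (.node (.node (.leaf 2038) (.leaf 8515)) (.node (.leaf 4790) (.leaf 0)))))) (.node (.node (.node (.node (.node (.leaf 195) (.leaf 5380)) (.node (.leaf 2506) (.leaf 9513))) (.node (.node (.leaf 1294) (.leaf 7169)) (.node (.leaf 3860) (.leaf 0)))) (.node (.node (.node (.leaf 732) (.leaf 6221)) (.node (.leaf 3171) (.leaf 11228))) (.node (.node (.leaf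 1890) (.leaf 8210)) (.node (.leaf 4607) (.leaf 0))))) (.node (.node (.node (.node (.leaf 461) (.leaf 5800)) (.node (.leaf 2829) (.leaf 10259))) (.node (.node (.leaf 1590) (.leaf 7644)) (.node (.leaf 4217) (.leaf 0)))) (.node (.node (.node (.leaf 1011) (.leaf 6699)) (.node (.leaf 3507) (.leaf 12450))) (.node (.node (.leaf 2189) (.leaf 8865)) (.node (.leaf 4968) (.leaf 0)))))))) (.node (.node (.node (.node (.node (.node (.node (.leaf 33) (.leaf 5126)) (.node (.leaf 2305) (.leaf 9100))) (.node (.node (.leaf 1115) (.leaf 6879)) (.node (.leaf 3646) (.leaf 13127)))) (.node (.node (.node (.leaf 561) (.leaf 5950)) (.node (.leaf 2956) (.leaf 10601))) (.node (.node (.leaf 1702) (.leaf 7879)) (.node (.leaf 4360) (.leaf 0))))) (.node (.node (.node (.node (.leaf 293) (.leaf 5542)) (.node (.leaf 2629) (.leaf 9828))) (.node (.node (.leaf 1405) (.leaf 7356)) (.node (.leaf 3997) (.leaf 0)))) (.node (.node (.node (.leaf 837) (.leaf 6403)) (.node (.leaf 3297) (.leaf 11625))) (.node (.node (.leaf 2001) (.leaf 8442)) (.node (.leaf 4746) (.leaf 0)))))) (.node (.node (.node (.node (.node (.leaf 162) (.leaf 5332)) (.node (.leaf 2467) (.leaf 9425)))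 (.node (.node (.leaf 1261) (.leaf 7109)) (.node (.leaf 3817) (.leaf 14280)))) (.node (.node (.node (.leaf 698) (.leaf 6163)) (.node (.leaf 3124) (.leaf 11135))) (.node (.node (.leaf 1854) (.leaf 8146)) (.node (.leaf 4558) (.leaf 0))))) (.node (.node (.node (.node (.leaf 428) (.leaf 5732)) (.node (.leaf 2786) (.leaf 10192))) (.node (.node (.leaf 1552) (.leaf 7595)) (.node (.leaf 4173) (.leaf 0)))) (.node (.node (.node (.leaf 977) (.leaf 6633)) (.node (.leaf 3470) (.leaf 12285))) (.node (.node (.leaf 2153) (.leaf 8769)) (.node (.leaf 4928) (.leaf 0))))))) (.node (.node (.node (.node (.node (.node (.leaf 97) (.leaf 5223)) (.node (.leaf 2391) (.leaf 9250))) (.node (.node (.leaf 1186) (.leaf 6982)) (.node (.leaf 3731) (.leaf 13662)))) (.node (.node (.node (.leaf 630) (.leaf 6055)) (.node (.leaf 3038) (.leaf 10838))) (.node (.node (.leaf 1778) (.leaf 8014)) (.node (.leaf 4453) (.leaf 0))))) (.node (.node (.node (.node (.leaf 359) (.leaf 5641)) (.node (.leaf 2708) (.leaf 10004))) (.node (.node (.leaf 1477) (.leaf 7477)) (.node (.leaf 4094) (.leaf 0)))) (.node (.node (.node (.leaf 906) (.leaf 6500)) (.node (.leaf 3390) (.leaf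 11922))) (.node (.node (.leaf 2078) (.leaf 8586)) (.node (.leaf 4835) (.leaf 0)))))) (.node (.node (.node (.node (.node (.leaf 227) (.leaf 5437)) (.node (.leaf 2544) (.leaf 9613))) (.node (.node (.leaf 1330) (.leaf 7229)) (.node (.leaf 3902) (.leaf 0)))) (.node (.node (.node (.leaf 769) (.leaf 6283)) (.node (.leaf 3214) (.leaf 11369))) (.node (.node (.leaf 1930) (.leaf 8278)) (.node (.leaf 4655) (.leaf 0))))) (.node (.node (.node (.node (.leaf 496) (.leaf 5849)) (.node (.leaf 2878) (.leaf 10402))) (.node (.node (.leaf 1626) (.leaf 7732)) (.node (.leaf 4266) (.leaf 0)))) (.node (.node (.node (.leaf 1047) (.leaf 6767)) (.node (.leaf 3558) (.leaf 12691))) (.node (.node (.leaf 2225) (.leaf 8958)) (.node (.leaf 5019) (.leaf 0))))))))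

def hpT3 : NT := .node (.node (.node (.node (.node (.node (.node (.node (.leaf 2) (.leaf 5075)) (.node (.leaf 2269) (.leaf 9032))) (.node (.node (.leaf 1082) (.leaf 6825)) (.node (.leaf 3605) (.leaf 12868)))) (.node (.node (.node (.leaf 529) (.leaf 5896)) (.node (.leaf 2919) (.leaf 10514))) (.node (.node (.leaf 1665) (.leaf 7808)) (.node (.leaf 4318) (.leaf 0))))) (.node (.node (.node (.node (.leaf 262) (.leaf 5492)) (.node (.leaf 2587) (.leaf 9737))) (.node (.node (.leaf 1367) (.leaf 7289)) (.node (.leaf 3947) (.leaf 0)))) (.node (.node (.node (.leaf 804) (.leaf 6343)) (.node (.leaf 3258) (.leaf 11512))) (.node (.node (.leaf 1968) (.leaf 8366)) (.node (.leaf 4705) (.leaf 0)))))) (.node (.node (.node (.node (.node (.leaf 131) (.leaf 5271)) (.node (.leaf 2431) (.leaf 9335))) (.node (.node (.leaf 1225) (.leaf 7047)) (.node (.leaf 3775) (.leaf 13927)))) (.node (.node (.node (.leaf 664) (.leaf 6111)) (.node (.leaf 3081) (.leaf 10962))) (.node (.node (.leaf 1817) (.leaf 8081)) (.node (.leaf 4511) (.leaf 0))))) (.node (.node (.node (.node (.leaf 394) (.leaf 5688)) (.node (.leaf 2748) (.leaf 10090))) (.node (.node (.leaf 1517)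 (.leaf 7532)) (.node (.leaf 4140) (.leaf 0)))) (.node (.node (.node (.leaf 943) (.leaf 6571)) (.node (.leaf 3429) (.leaf 12087))) (.node (.node (.leaf 2121) (.leaf 8666)) (.node (.leaf 4878) (.leaf 0))))))) (.node (.node (.node (.node (.node (.node (.leaf 66) (.leaf 5179)) (.node (.leaf 2349) (.leaf 9179))) (.node (.node (.leaf 1151) (.leaf 6929)) (.node (.leaf 3693) (.leaf 13378)))) (.node (.node (.node (.leaf 597) (.leaf 6008)) (.node (.leaf 3000) (.leaf 10689))) (.node (.node (.leaf 1741) (.leaf 7946)) (.node (.leaf 4410) (.leaf 0))))) (.node (.node (.node (.node (.leaf 327) (.leaf 5591)) (.node (.leaf 2671) (.leaf 9928))) (.node (.node (.leaf 1442) (.leaf 7414)) (.node (.leaf 4041) (.leaf 0)))) (.node (.node (.node (.leaf 872) (.leaf 6453)) (.node (.leaf 3345) (.leaf 11739))) (.node (.node (.leaf 2039) (.leaf 8518)) (.node (.leaf 4791) (.leaf 0)))))) (.node (.node (.node (.node (.node (.leaf 196) (.leaf 5382)) (.node (.leaf 2507) (.leaf 9514))) (.node (.node (.leaf 1296) (.leaf 7172)) (.node (.leaf 3861) (.leaf 0)))) (.node (.node (.node (.leaf 734) (.leaf 6223)) (.node (.leaf 3172) (.leaf 11232))) (.node (.node (.leaf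 1891) (.leaf 8213)) (.node (.leaf 4608) (.leaf 0))))) (.node (.node (.node (.node (.leaf 462) (.leaf 5801)) (.node (.leaf 2831) (.leaf 10262))) (.node (.node (.leaf 1591) (.leaf 7645)) (.node (.leaf 4218) (.leaf 0)))) (.node (.node (.node (.leaf 1012) (.leaf 6702)) (.node (.leaf 3508) (.leaf 12454))) (.node (.node (.leaf 2190) (.leaf 8868)) (.node (.leaf 4969) (.leaf 0)))))))) (.node (.node (.node (.node (.node (.node (.node (.leaf 34) (.leaf 5130)) (.node (.leaf 2307) (.leaf 9101))) (.node (.node (.leaf 1116) (.leaf 6880)) (.node (.leaf 3647) (.leaf 13133)))) (.node (.node (.node (.leaf 562) (.leaf 5951)) (.node (.leaf 2957) (.leaf 10603))) (.node (.node (.leaf 1703) (.leaf 7880)) (.node (.leaf 4361) (.leaf 0))))) (.node (.node (.node (.node (.leaf 294) (.leaf 5543)) (.node (.leaf 2630) (.leaf 9834))) (.node (.node (.leaf 1408) (.leaf 7358)) (.node (.leaf 3998) (.leaf 0)))) (.node (.node (.node (.leaf 838) (.leaf 6406)) (.node (.leaf 3298) (.leaf 11628))) (.node (.node (.leaf 2002) (.leaf 8443)) (.node (.leaf 4747) (.leaf 0)))))) (.node (.node (.node (.node (.node (.leaf 163) (.leaf 5333)) (.node (.leaf 2468) (.leaf 9427)))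 (.node (.node (.leaf 1262) (.leaf 7111)) (.node (.leaf 3818) (.leaf 14325)))) (.node (.node (.node (.leaf 699) (.leaf 6164)) (.node (.leaf 3125) (.leaf 11136))) (.node (.node (.leaf 1855) (.leaf 8147)) (.node (.leaf 4559) (.leaf 0))))) (.node (.node (.node (.node (.leaf 429) (.leaf 5733)) (.node (.leaf 2787) (.leaf 10193))) (.node (.node (.leaf 1553) (.leaf 7596)) (.node (.leaf 4174) (.leaf 0)))) (.node (.node (.node (.leaf 978) (.leaf 6634)) (.node (.leaf 3471) (.leaf 12305))) (.node (.node (.leaf 2154) (.leaf 8770)) (.node (.leaf 4929) (.leaf 0))))))) (.node (.node (.node (.node (.node (.node (.leaf 98) (.leaf 5225)) (.node (.leaf 2392) (.leaf 9251))) (.node (.node (.leaf 1187) (.leaf 6983)) (.node (.leaf 3734) (.leaf 13663)))) (.node (.node (.node (.leaf 631) (.leaf 6059)) (.node (.leaf 3039) (.leaf 10844))) (.node (.node (.leaf 1779) (.leaf 8016)) (.node (.leaf 4457) (.leaf 0))))) (.node (.node (.node (.node (.leaf 361) (.leaf 5642)) (.node (.leaf 2709) (.leaf 10007))) (.node (.node (.leaf 1478) (.leaf 7478)) (.node (.leaf 4095) (.leaf 0)))) (.node (.node (.node (.leaf 907) (.leaf 6502)) (.node (.leaf 3391) (.leaf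 11930))) (.node (.node (.leaf 2079) (.leaf 8590)) (.node (.leaf 4836) (.leaf 0)))))) (.node (.node (.node (.node (.node (.leaf 228) (.leaf 5438)) (.node (.leaf 2545) (.leaf 9617))) (.node (.node (.leaf 1331) (.leaf 7230)) (.node (.leaf 3903) (.leaf 0)))) (.node (.node (.node (.leaf 770) (.leaf 6285)) (.node (.leaf 3215) (.leaf 11371))) (.node (.node (.leaf 1931) (.leaf 8282)) (.node (.leaf 4656) (.leaf 0))))) (.node (.node (.node (.node (.leaf 497) (.leaf 5850)) (.node (.leaf 2879) (.leaf 10404))) (.node (.node (.leaf 1627) (.leaf 7735)) (.node (.leaf 4269) (.leaf 0)))) (.node (.node (.node (.leaf 1048) (.leaf 6768)) (.node (.leaf 3559) (.leaf 12696))) (.node (.node (.leaf 2226) (.leaf 8963)) (.node (.leaf 5023) (.leaf 0))))))))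

def hpT4 : NT := .node (.node (.node (.node (.node (.node (.node (.node (.leaf 3) (.leaf 5076)) (.node (.leaf 2270) (.leaf 9037))) (.node (.node (.leaf 1083) (.leaf 6826)) (.node (.leaf 3606) (.leaf 12880)))) (.node (.node (.node (.leaf 530) (.leaf 5897)) (.node (.leaf 2920) (.leaf 10519))) (.node (.node (.leaf 1666) (.leaf 7810)) (.node (.leaf 4319) (.leaf 0))))) (.node (.node (.node (.node (.leaf 263) (.leaf 5494)) (.node (.leaf 2588) (.leaf 9745))) (.node (.node (.leaf 1368) (.leaf 7290)) (.node (.leaf 3949) (.leaf 0)))) (.node (.node (.node (.leaf 805) (.leaf 6345)) (.node (.leaf 3259) (.leaf 11521))) (.node (.node (.leaf 1969) (.leaf 8369)) (.node (.leaf 4707) (.leaf 0)))))) (.node (.node (.node (.node (.node (.leaf 132) (.leaf 5273)) (.node (.leaf 2432) (.leaf 9338))) (.node (.node (.leaf 1226) (.leaf 7051)) (.node (.leaf 3778) (.leaf 13933)))) (.node (.node (.node (.leaf 665) (.leaf 6112)) (.node (.leaf 3083) (.leaf 10975))) (.node (.node (.leaf 1820) (.leaf 8084)) (.node (.leaf 4514) (.leaf 0))))) (.node (.node (.node (.node (.leaf 395) (.leaf 5689)) (.node (.leaf 2750) (.leaf 10091))) (.node (.node (.leaf 1518)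 (.leaf 7533)) (.node (.leaf 4141) (.leaf 0)))) (.node (.node (.node (.leaf 946) (.leaf 6574)) (.node (.leaf 3430) (.leaf 12098))) (.node (.node (.leaf 2122) (.leaf 8668)) (.node (.leaf 4879) (.leaf 0))))))) (.node (.node (.node (.node (.node (.node (.leaf 67) (.leaf 5180)) (.node (.leaf 2350) (.leaf 9180))) (.node (.node (.leaf 1152) (.leaf 6934)) (.node (.leaf 3694) (.leaf 13390)))) (.node (.node (.node (.leaf 598) (.leaf 6010)) (.node (.leaf 3001) (.leaf 10692))) (.node (.node (.leaf 1742) (.leaf 7949)) (.node (.leaf 4413) (.leaf 0))))) (.node (.node (.node (.node (.leaf 328) (.leaf 5594)) (.node (.leaf 2673) (.leaf 9929))) (.node (.node (.leaf 1443) (.leaf 7421)) (.node (.leaf 4042) (.leaf 0)))) (.node (.node (.node (.leaf 873) (.leaf 6454)) (.node (.leaf 3348) (.leaf 11744))) (.node (.node (.leaf 2040) (.leaf 8519)) (.node (.leaf 4792) (.leaf 0)))))) (.node (.node (.node (.node (.node (.leaf 197) (.leaf 5383)) (.node (.leaf 2508) (.leaf 9515))) (.node (.node (.leaf 1297) (.leaf 7173)) (.node (.leaf 3862) (.leaf 0)))) (.node (.node (.node (.leaf 735) (.leaf 6225)) (.node (.leaf 3173) (.leaf 11239))) (.node (.node (.leaf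 1892) (.leaf 8214)) (.node (.leaf 4609) (.leaf 0))))) (.node (.node (.node (.node (.leaf 463) (.leaf 5805)) (.node (.leaf 2832) (.leaf 10264))) (.node (.node (.leaf 1592) (.leaf 7647)) (.node (.leaf 4219) (.leaf 0)))) (.node (.node (.node (.leaf 1013) (.leaf 6706)) (.node (.leaf 3509) (.leaf 12457))) (.node (.node (.leaf 2191) (.leaf 8870)) (.node (.leaf 4971) (.leaf 0)))))))) (.node (.node (.node (.node (.node (.node (.node (.leaf 35) (.leaf 5132)) (.node (.leaf 2308) (.leaf 9102))) (.node (.node (.leaf 1117) (.leaf 6881)) (.node (.leaf 3649) (.leaf 13163)))) (.node (.node (.node (.leaf 563) (.leaf 5952)) (.node (.leaf 2958) (.leaf 10604))) (.node (.node (.leaf 1704) (.leaf 7882)) (.node (.leaf 4362) (.leaf 0))))) (.node (.node (.node (.node (.leaf 295) (.leaf 5544)) (.node (.leaf 2632) (.leaf 9835))) (.node (.node (.leaf 1409) (.leaf 7359)) (.node (.leaf 3999) (.leaf 0)))) (.node (.node (.node (.leaf 839) (.leaf 6408)) (.node (.leaf 3299) (.leaf 11630))) (.node (.node (.leaf 2003) (.leaf 8448)) (.node (.leaf 4748) (.leaf 0)))))) (.node (.node (.node (.node (.node (.leaf 164) (.leaf 5335)) (.node (.leaf 2469) (.leaf 9432)))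 (.node (.node (.leaf 1263) (.leaf 7112)) (.node (.leaf 3820) (.leaf 14354)))) (.node (.node (.node (.leaf 700) (.leaf 6167)) (.node (.leaf 3127) (.leaf 11139))) (.node (.node (.leaf 1857) (.leaf 8148)) (.node (.leaf 4561) (.leaf 0))))) (.node (.node (.node (.node (.leaf 430) (.leaf 5735)) (.node (.leaf 2788) (.leaf 10195))) (.node (.node (.leaf 1555) (.leaf 7597)) (.node (.leaf 4177) (.leaf 0)))) (.node (.node (.node (.leaf 979) (.leaf 6635)) (.node (.leaf 3474) (.leaf 12306))) (.node (.node (.leaf 2156) (.leaf 8773)) (.node (.leaf 4930) (.leaf 0))))))) (.node (.node (.node (.node (.node (.node (.leaf 99) (.leaf 5227)) (.node (.leaf 2393) (.leaf 9252))) (.node (.node (.leaf 1188) (.leaf 6985)) (.node (.leaf 3735) (.leaf 13673)))) (.node (.node (.node (.leaf 632) (.leaf 6064)) (.node (.leaf 3040) (.leaf 10849))) (.node (.node (.leaf 1781) (.leaf 8018)) (.node (.leaf 4460) (.leaf 0))))) (.node (.node (.node (.node (.leaf 362) (.leaf 5643)) (.node (.leaf 2710) (.leaf 10008))) (.node (.node (.leaf 1479) (.leaf 7480)) (.node (.leaf 4096) (.leaf 0)))) (.node (.node (.node (.leaf 908) (.leaf 6505)) (.node (.leaf 3392) (.leaf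 11937))) (.node (.node (.leaf 2080) (.leaf 8591)) (.node (.leaf 4837) (.leaf 0)))))) (.node (.node (.node (.node (.node (.leaf 229) (.leaf 5440)) (.node (.leaf 2546) (.leaf 9621))) (.node (.node (.leaf 1332) (.leaf 7231)) (.node (.leaf 3905) (.leaf 0)))) (.node (.node (.node (.leaf 771) (.leaf 6286)) (.node (.leaf 3216) (.leaf 11377))) (.node (.node (.leaf 1932) (.leaf 8284)) (.node (.leaf 4657) (.leaf 0))))) (.node (.node (.node (.node (.leaf 498) (.leaf 5852)) (.node (.leaf 2881) (.leaf 10411))) (.node (.node (.leaf 1628) (.leaf 7739)) (.node (.leaf 4270) (.leaf 0)))) (.node (.node (.node (.leaf 1049) (.leaf 6770)) (.node (.leaf 3560) (.leaf 12697))) (.node (.node (.leaf 2227) (.leaf 8967)) (.node (.leaf 5025) (.leaf 0))))))))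

def hpT5 : NT := .node (.node (.node (.node (.node (.node (.node (.node (.leaf 4) (.leaf 5077)) (.node (.leaf 2272) (.leaf 9039))) (.node (.node (.leaf 1084) (.leaf 6827)) (.node (.leaf 3607) (.leaf 12903)))) (.node (.node (.node (.leaf 531) (.leaf 5898)) (.node (.leaf 2921) (.leaf 10520))) (.node (.node (.leaf 1667) (.leaf 7811)) (.node (.leaf 4320) (.leaf 0))))) (.node (.node (.node (.node (.leaf 264) (.leaf 5495)) (.node (.leaf 2589) (.leaf 9748))) (.node (.node (.leaf 1369) (.leaf 7291)) (.node (.leaf 3951) (.leaf 0)))) (.node (.node (.node (.leaf 806) (.leaf 6347)) (.node (.leaf 3260) (.leaf 11524))) (.node (.node (.leaf 1970) (.leaf 8371)) (.node (.leaf 4708) (.leaf 0)))))) (.node (.node (.node (.node (.node (.leaf 133) (.leaf 5275)) (.node (.leaf 2433) (.leaf 9342))) (.node (.node (.leaf 1227) (.leaf 7052)) (.node (.leaf 3779) (.leaf 13947)))) (.node (.node (.node (.leaf 667) (.leaf 6113)) (.node (.leaf 3085) (.leaf 10984))) (.node (.node (.leaf 1821) (.leaf 8085)) (.node (.leaf 4515) (.leaf 0))))) (.node (.node (.node (.node (.leaf 397) (.leaf 5690)) (.node (.leaf 2751) (.leaf 10092))) (.node (.node (.leaf 1520)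 (.leaf 7535)) (.node (.leaf 4142) (.leaf 0)))) (.node (.node (.node (.leaf 947) (.leaf 6575)) (.node (.leaf 3431) (.leaf 12101))) (.node (.node (.leaf 2123) (.leaf 8669)) (.node (.leaf 4880) (.leaf 0))))))) (.node (.node (.node (.node (.node (.node (.leaf 68) (.leaf 5181)) (.node (.leaf 2351) (.leaf 9182))) (.node (.node (.leaf 1154) (.leaf 6935)) (.node (.leaf 3695) (.leaf 13391)))) (.node (.node (.node (.leaf 599) (.leaf 6011)) (.node (.leaf 3002) (.leaf 10693))) (.node (.node (.leaf 1743) (.leaf 7951)) (.node (.leaf 4414) (.leaf 0))))) (.node (.node (.node (.node (.leaf 329) (.leaf 5595)) (.node (.leaf 2674) (.leaf 9930))) (.node (.node (.leaf 1444) (.leaf 7422)) (.node (.leaf 4044) (.leaf 0)))) (.node (.node (.node (.leaf 875) (.leaf 6455)) (.node (.leaf 3349) (.leaf 11747))) (.node (.node (.leaf 2041) (.leaf 8520)) (.node (.leaf 4794) (.leaf 0)))))) (.node (.node (.node (.node (.node (.leaf 198) (.leaf 5386)) (.node (.leaf 2510) (.leaf 9516))) (.node (.node (.leaf 1298) (.leaf 7175)) (.node (.leaf 3863) (.leaf 0)))) (.node (.node (.node (.leaf 736) (.leaf 6227)) (.node (.leaf 3175) (.leaf 11244))) (.node (.node (.leaf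 1893) (.leaf 8215)) (.node (.leaf 4610) (.leaf 0))))) (.node (.node (.node (.node (.leaf 465) (.leaf 5807)) (.node (.leaf 2833) (.leaf 10267))) (.node (.node (.leaf 1593) (.leaf 7653)) (.node (.leaf 4221) (.leaf 0)))) (.node (.node (.node (.leaf 1015) (.leaf 6707)) (.node (.leaf 3511) (.leaf 12473))) (.node (.node (.leaf 2193) (.leaf 8878)) (.node (.leaf 4972) (.leaf 0)))))))) (.node (.node (.node (.node (.node (.node (.node (.leaf 36) (.leaf 5133)) (.node (.leaf 2309) (.leaf 9103))) (.node (.node (.leaf 1118) (.leaf 6882)) (.node (.leaf 3650) (.leaf 13164)))) (.node (.node (.node (.leaf 564) (.leaf 5953)) (.node (.leaf 2959) (.leaf 10606))) (.node (.node (.leaf 1705) (.leaf 7883)) (.node (.leaf 4363) (.leaf 0))))) (.node (.node (.node (.node (.leaf 296) (.leaf 5545)) (.node (.leaf 2633) (.leaf 9836))) (.node (.node (.leaf 1410) (.leaf 7360)) (.node (.leaf 4000) (.leaf 0)))) (.node (.node (.node (.leaf 840) (.leaf 6409)) (.node (.leaf 3301) (.leaf 11631))) (.node (.node (.leaf 2006) (.leaf 8451)) (.node (.leaf 4750) (.leaf 0)))))) (.node (.node (.node (.node (.node (.leaf 165) (.leaf 5336)) (.node (.leaf 2470) (.leaf 9439)))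 (.node (.node (.leaf 1264) (.leaf 7113)) (.node (.leaf 3821) (.leaf 14390)))) (.node (.node (.node (.leaf 701) (.leaf 6168)) (.node (.leaf 3128) (.leaf 11140))) (.node (.node (.leaf 1858) (.leaf 8151)) (.node (.leaf 4562) (.leaf 0))))) (.node (.node (.node (.node (.leaf 431) (.leaf 5736)) (.node (.leaf 2789) (.leaf 10196))) (.node (.node (.leaf 1556) (.leaf 7598)) (.node (.leaf 4178) (.leaf 0)))) (.node (.node (.node (.leaf 980) (.leaf 6637)) (.node (.leaf 3475) (.leaf 12310))) (.node (.node (.leaf 2157) (.leaf 8776)) (.node (.leaf 4932) (.leaf 0))))))) (.node (.node (.node (.node (.node (.node (.leaf 100) (.leaf 5228)) (.node (.leaf 2394) (.leaf 9257))) (.node (.node (.leaf 1189) (.leaf 6986)) (.node (.leaf 3737) (.leaf 13676)))) (.node (.node (.node (.leaf 633) (.leaf 6067)) (.node (.leaf 3041) (.leaf 10852))) (.node (.node (.leaf 1782) (.leaf 8021)) (.node (.leaf 4461) (.leaf 0))))) (.node (.node (.node (.node (.leaf 363) (.leaf 5644)) (.node (.leaf 2711) (.leaf 10009))) (.node (.node (.leaf 1481) (.leaf 7483)) (.node (.leaf 4097) (.leaf 0)))) (.node (.node (.node (.leaf 909) (.leaf 6506)) (.node (.leaf 3394) (.leaf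 11943))) (.node (.node (.leaf 2081) (.leaf 8595)) (.node (.leaf 4838) (.leaf 0)))))) (.node (.node (.node (.node (.node (.leaf 230) (.leaf 5441)) (.node (.leaf 2547) (.leaf 9623))) (.node (.node (.leaf 1333) (.leaf 7232)) (.node (.leaf 3906) (.leaf 0)))) (.node (.node (.node (.leaf 772) (.leaf 6287)) (.node (.leaf 3217) (.leaf 11378))) (.node (.node (.leaf 1933) (.leaf 8285)) (.node (.leaf 4658) (.leaf 0))))) (.node (.node (.node (.node (.leaf 499) (.leaf 5853)) (.node (.leaf 2882) (.leaf 10412))) (.node (.node (.leaf 1629) (.leaf 7740)) (.node (.leaf 4271) (.leaf 0)))) (.node (.node (.node (.leaf 1050) (.leaf 6771)) (.node (.leaf 3562) (.leaf 12702))) (.node (.node (.leaf 2228) (.leaf 8971)) (.node (.leaf 5026) (.leaf 0))))))))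

def hpT6 : NT := .node (.node (.node (.node (.node (.node (.node (.node (.leaf 5) (.leaf 5078)) (.node (.leaf 2273) (.leaf 9040))) (.node (.node (.leaf 1086) (.leaf 6829)) (.node (.leaf 3609) (.leaf 12904)))) (.node (.node (.node (.leaf 532) (.leaf 5900)) (.node (.leaf 2923) (.leaf 10521))) (.node (.node (.leaf 1668) (.leaf 7813)) (.node (.leaf 4323) (.leaf 0))))) (.node (.node (.node (.node (.leaf 265) (.leaf 5496)) (.node (.leaf 2591) (.leaf 9749))) (.node (.node (.leaf 1370) (.leaf 7292)) (.node (.leaf 3956) (.leaf 0)))) (.node (.node (.node (.leaf 807) (.leaf 6348)) (.node (.leaf 3261) (.leaf 11526))) (.node (.node (.leaf 1971) (.leaf 8384)) (.node (.leaf 4709) (.leaf 0)))))) (.node (.node (.node (.node (.node (.leaf 134) (.leaf 5276)) (.node (.leaf 2435) (.leaf 9343))) (.node (.node (.leaf 1228) (.leaf 7053)) (.node (.leaf 3780) (.leaf 13956)))) (.node (.node (.node (.leaf 668) (.leaf 6114)) (.node (.leaf 3086) (.leaf 10986))) (.node (.node (.leaf 1822) (.leaf 8088)) (.node (.leaf 4516) (.leaf 0))))) (.node (.node (.node (.node (.leaf 398) (.leaf 5691)) (.node (.leaf 2752) (.leaf 10093))) (.node (.node (.leaf 1521)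 (.leaf 7537)) (.node (.leaf 4144) (.leaf 0)))) (.node (.node (.node (.leaf 948) (.leaf 6577)) (.node (.leaf 3432) (.leaf 12106))) (.node (.node (.leaf 2124) (.leaf 8670)) (.node (.leaf 4881) (.leaf 0))))))) (.node (.node (.node (.node (.node (.node (.leaf 69) (.leaf 5183)) (.node (.leaf 2352) (.leaf 9183))) (.node (.node (.leaf 1155) (.leaf 6936)) (.node (.leaf 3697) (.leaf 13395)))) (.node (.node (.node (.leaf 600) (.leaf 6012)) (.node (.leaf 3003) (.leaf 10699))) (.node (.node (.leaf 1744) (.leaf 7953)) (.node (.leaf 4415) (.leaf 0))))) (.node (.node (.node (.node (.leaf 330) (.leaf 5596)) (.node (.leaf 2675) (.leaf 9931))) (.node (.node (.leaf 1445) (.leaf 7425)) (.node (.leaf 4045) (.leaf 0)))) (.node (.node (.node (.leaf 876) (.leaf 6456)) (.node (.leaf 3351) (.leaf 11748))) (.node (.node (.leaf 2043) (.leaf 8524)) (.node (.leaf 4795) (.leaf 0)))))) (.node (.node (.node (.node (.node (.leaf 199) (.leaf 5387)) (.node (.leaf 2511) (.leaf 9517))) (.node (.node (.leaf 1299) (.leaf 7180)) (.node (.leaf 3864) (.leaf 0)))) (.node (.node (.node (.leaf 737) (.leaf 6228)) (.node (.leaf 3176) (.leaf 11247))) (.node (.node (.leaf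 1895) (.leaf 8216)) (.node (.leaf 4611) (.leaf 0))))) (.node (.node (.node (.node (.leaf 466) (.leaf 5808)) (.node (.leaf 2835) (.leaf 10270))) (.node (.node (.leaf 1594) (.leaf 7655)) (.node (.leaf 4222) (.leaf 0)))) (.node (.node (.node (.leaf 1016) (.leaf 6710)) (.node (.leaf 3513) (.leaf 12493))) (.node (.node (.leaf 2194) (.leaf 8883)) (.node (.leaf 4975) (.leaf 0)))))))) (.node (.node (.node (.node (.node (.node (.node (.leaf 37) (.leaf 5136)) (.node (.leaf 2310) (.leaf 9107))) (.node (.node (.leaf 1119) (.leaf 6883)) (.node (.leaf 3651) (.leaf 13199)))) (.node (.node (.node (.leaf 565) (.leaf 5954)) (.node (.leaf 2961) (.leaf 10608))) (.node (.node (.leaf 1706) (.leaf 7884)) (.node (.leaf 4364) (.leaf 0))))) (.node (.node (.node (.node (.leaf 297) (.leaf 5546)) (.node (.leaf 2634) (.leaf 9837))) (.node (.node (.leaf 1411) (.leaf 7361)) (.node (.leaf 4001) (.leaf 0)))) (.node (.node (.node (.leaf 841) (.leaf 6410)) (.node (.leaf 3302) (.leaf 11633))) (.node (.node (.leaf 2007) (.leaf 8455)) (.node (.leaf 4751) (.leaf 0)))))) (.node (.node (.node (.node (.node (.leaf 166) (.leaf 5338)) (.node (.leaf 2472) (.leaf 9444)))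 (.node (.node (.leaf 1266) (.leaf 7116)) (.node (.leaf 3823) (.leaf 14403)))) (.node (.node (.node (.leaf 702) (.leaf 6169)) (.node (.leaf 3129) (.leaf 11142))) (.node (.node (.leaf 1859) (.leaf 8153)) (.node (.leaf 4565) (.leaf 0))))) (.node (.node (.node (.node (.leaf 432) (.leaf 5737)) (.node (.leaf 2790) (.leaf 10197))) (.node (.node (.leaf 1557) (.leaf 7602)) (.node (.leaf 4179) (.leaf 0)))) (.node (.node (.node (.leaf 981) (.leaf 6638)) (.node (.leaf 3476) (.leaf 12311))) (.node (.node (.leaf 2158) (.leaf 8779)) (.node (.leaf 4933) (.leaf 0))))))) (.node (.node (.node (.node (.node (.node (.leaf 101) (.leaf 5229)) (.node (.leaf 2395) (.leaf 9259))) (.node (.node (.leaf 1190) (.leaf 6989)) (.node (.leaf 3740) (.leaf 13687)))) (.node (.node (.node (.leaf 634) (.leaf 6069)) (.node (.leaf 3042) (.leaf 10853))) (.node (.node (.leaf 1783) (.leaf 8022)) (.node (.leaf 4464) (.leaf 0))))) (.node (.node (.node (.node (.leaf 364) (.leaf 5648)) (.node (.leaf 2712) (.leaf 10010))) (.node (.node (.leaf 1483) (.leaf 7485)) (.node (.leaf 4098) (.leaf 0)))) (.node (.node (.node (.leaf 910) (.leaf 6510)) (.node (.leaf 3395) (.leaf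 11947))) (.node (.node (.leaf 2082) (.leaf 8596)) (.node (.leaf 4839) (.leaf 0)))))) (.node (.node (.node (.node (.node (.leaf 231) (.leaf 5442)) (.node (.leaf 2548) (.leaf 9631))) (.node (.node (.leaf 1334) (.leaf 7234)) (.node (.leaf 3907) (.leaf 0)))) (.node (.node (.node (.leaf 773) (.leaf 6289)) (.node (.leaf 3219) (.leaf 11381))) (.node (.node (.leaf 1934) (.leaf 8286)) (.node (.leaf 4659) (.leaf 0))))) (.node (.node (.node (.node (.leaf 500) (.leaf 5860)) (.node (.leaf 2883) (.leaf 10416))) (.node (.node (.leaf 1630) (.leaf 7741)) (.node (.leaf 4272) (.leaf 0)))) (.node (.node (.node (.leaf 1051) (.leaf 6772)) (.node (.leaf 3564) (.leaf 12706))) (.node (.node (.leaf 2229) (.leaf 8973)) (.node (.leaf 5027) (.leaf 0))))))))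

def hpT7 : NT := .node (.node (.node (.node (.node (.node (.node (.node (.leaf 6) (.leaf 5079)) (.node (.leaf 2274) (.leaf 9041))) (.node (.node (.leaf 1087) (.leaf 6830)) (.node (.leaf 3612) (.leaf 12909)))) (.node (.node (.node (.leaf 533) (.leaf 5903)) (.node (.leaf 2924) (.leaf 10522))) (.node (.node (.leaf 1669) (.leaf 7820)) (.node (.leaf 4324) (.leaf 0))))) (.node (.node (.node (.node (.leaf 266) (.leaf 5497)) (.node (.leaf 2592) (.leaf 9751))) (.node (.node (.leaf 1371) (.leaf 7293)) (.node (.leaf 3958) (.leaf 0)))) (.node (.node (.node (.leaf 808) (.leaf 6349)) (.node (.leaf 3262) (.leaf 11531))) (.node (.node (.leaf 1972) (.leaf 8390)) (.node (.leaf 4710) (.leaf 0)))))) (.node (.node (.node (.node (.node (.leaf 135) (.leaf 5277)) (.node (.leaf 2436) (.leaf 9344))) (.node (.node (.leaf 1229) (.leaf 7056)) (.node (.leaf 3781) (.leaf 13963)))) (.node (.node (.node (.leaf 669) (.leaf 6116)) (.node (.leaf 3087) (.leaf 10992))) (.node (.node (.leaf 1823) (.leaf 8093)) (.node (.leaf 4517) (.leaf 0))))) (.node (.node (.node (.node (.leaf 399) (.leaf 5694)) (.node (.leaf 2753) (.leaf 10102))) (.node (.node (.leaf 1523)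 (.leaf 7541)) (.node (.leaf 4145) (.leaf 0)))) (.node (.node (.node (.leaf 949) (.leaf 6578)) (.node (.leaf 3434) (.leaf 12107))) (.node (.node (.leaf 2126) (.leaf 8683)) (.node (.leaf 4885) (.leaf 0))))))) (.node (.node (.node (.node (.node (.node (.leaf 70) (.leaf 5184)) (.node (.leaf 2356) (.leaf 9184))) (.node (.node (.leaf 1156) (.leaf 6939)) (.node (.leaf 3698) (.leaf 13399)))) (.node (.node (.node (.leaf 601) (.leaf 6013)) (.node (.leaf 3004) (.leaf 10700))) (.node (.node (.leaf 1745) (.leaf 7959)) (.node (.leaf 4416) (.leaf 0))))) (.node (.node (.node (.node (.leaf 331) (.leaf 5597)) (.node (.leaf 2677) (.leaf 9935))) (.node (.node (.leaf 1446) (.leaf 7426)) (.node (.leaf 4050) (.leaf 0)))) (.node (.node (.node (.leaf 877) (.leaf 6457)) (.node (.leaf 3352) (.leaf 11749))) (.node (.node (.leaf 2044) (.leaf 8525)) (.node (.leaf 4798) (.leaf 0)))))) (.node (.node (.node (.node (.node (.leaf 200) (.leaf 5389)) (.node (.leaf 2513) (.leaf 9523))) (.node (.node (.leaf 1300) (.leaf 7184)) (.node (.leaf 3865) (.leaf 0)))) (.node (.node (.node (.leaf 738) (.leaf 6230)) (.node (.leaf 3178) (.leaf 11251))) (.node (.node (.leaf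 1896) (.leaf 8217)) (.node (.leaf 4613) (.leaf 0))))) (.node (.node (.node (.node (.leaf 467) (.leaf 5810)) (.node (.leaf 2836) (.leaf 10271))) (.node (.node (.leaf 1596) (.leaf 7656)) (.node (.leaf 4223) (.leaf 0)))) (.node (.node (.node (.leaf 1017) (.leaf 6711)) (.node (.leaf 3514) (.leaf 12495))) (.node (.node (.leaf 2195) (.leaf 8884)) (.node (.leaf 4976) (.leaf 0)))))))) (.node (.node (.node (.node (.node (.node (.node (.leaf 38) (.leaf 5139)) (.node (.leaf 2314) (.leaf 9109))) (.node (.node (.leaf 1120) (.leaf 6885)) (.node (.leaf 3652) (.leaf 13220)))) (.node (.node (.node (.leaf 566) (.leaf 5956)) (.node (.leaf 2965) (.leaf 10615))) (.node (.node (.leaf 1707) (.leaf 7886)) (.node (.leaf 4365) (.leaf 0))))) (.node (.node (.node (.node (.leaf 299) (.leaf 5547)) (.node (.leaf 2635) (.leaf 9840))) (.node (.node (.leaf 1412) (.leaf 7363)) (.node (.leaf 4002) (.leaf 0)))) (.node (.node (.node (.leaf 842) (.leaf 6411)) (.node (.leaf 3305) (.leaf 11638))) (.node (.node (.leaf 2008) (.leaf 8456)) (.node (.leaf 4752) (.leaf 0)))))) (.node (.node (.node (.node (.node (.leaf 167) (.leaf 5339)) (.node (.leaf 2473) (.leaf 9447)))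 (.node (.node (.leaf 1267) (.leaf 7117)) (.node (.leaf 3824) (.leaf 14425)))) (.node (.node (.node (.leaf 703) (.leaf 6170)) (.node (.leaf 3130) (.leaf 11146))) (.node (.node (.leaf 1860) (.leaf 8158)) (.node (.leaf 4567) (.leaf 0))))) (.node (.node (.node (.node (.leaf 433) (.leaf 5738)) (.node (.leaf 2792) (.leaf 10201))) (.node (.node (.leaf 1558) (.leaf 7603)) (.node (.leaf 4180) (.leaf 0)))) (.node (.node (.node (.leaf 983) (.leaf 6644)) (.node (.leaf 3477) (.leaf 12321))) (.node (.node (.leaf 2159) (.leaf 8781)) (.node (.leaf 4935) (.leaf 0))))))) (.node (.node (.node (.node (.node (.node (.leaf 102) (.leaf 5230)) (.node (.leaf 2396) (.leaf 9261))) (.node (.node (.leaf 1191) (.leaf 6990)) (.node (.leaf 3741) (.leaf 13697)))) (.node (.node (.node (.leaf 635) (.leaf 6070)) (.node (.leaf 3043) (.leaf 10856))) (.node (.node (.leaf 1784) (.leaf 8023)) (.node (.leaf 4466) (.leaf 0))))) (.node (.node (.node (.node (.leaf 365) (.leaf 5649)) (.node (.leaf 2713) (.leaf 10012))) (.node (.node (.leaf 1484) (.leaf 7486)) (.node (.leaf 4099) (.leaf 0)))) (.node (.node (.node (.leaf 911) (.leaf 6513)) (.node (.leaf 3396) (.leaf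 11954))) (.node (.node (.leaf 2083) (.leaf 8597)) (.node (.leaf 4840) (.leaf 0)))))) (.node (.node (.node (.node (.node (.leaf 232) (.leaf 5444)) (.node (.leaf 2549) (.leaf 9632))) (.node (.node (.leaf 1335) (.leaf 7237)) (.node (.leaf 3909) (.leaf 0)))) (.node (.node (.node (.leaf 774) (.leaf 6291)) (.node (.leaf 3220) (.leaf 11384))) (.node (.node (.leaf 1935) (.leaf 8287)) (.node (.leaf 4661) (.leaf 0))))) (.node (.node (.node (.node (.leaf 501) (.leaf 5862)) (.node (.leaf 2884) (.leaf 10421))) (.node (.node (.leaf 1632) (.leaf 7743)) (.node (.leaf 4274) (.leaf 0)))) (.node (.node (.node (.leaf 1052) (.leaf 6773)) (.node (.leaf 3565) (.leaf 12710))) (.node (.node (.leaf 2231) (.leaf 8976)) (.node (.leaf 5029) (.leaf 0))))))))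

def hpT8 : NT := .node (.node (.node (.node (.node (.node (.node (.node (.leaf 7) (.leaf 5081)) (.node (.leaf 2275) (.leaf 9042))) (.node (.node (.leaf 1088) (.leaf 6831)) (.node (.leaf 3613) (.leaf 12931)))) (.node (.node (.node (.leaf 534) (.leaf 5905)) (.node (.leaf 2925) (.leaf 10528))) (.node (.node (.leaf 1670) (.leaf 7821)) (.node (.leaf 4326) (.leaf 0))))) (.node (.node (.node (.node (.leaf 267) (.leaf 5498)) (.node (.leaf 2593) (.leaf 9752))) (.node (.node (.leaf 1372) (.leaf 7295)) (.node (.leaf 3959) (.leaf 0)))) (.node (.node (.node (.leaf 809) (.leaf 6350)) (.node (.leaf 3263) (.leaf 11533))) (.node (.node (.leaf 1973) (.leaf 8391)) (.node (.leaf 4711) (.leaf 0)))))) (.node (.node (.node (.node (.node (.leaf 136) (.leaf 5279)) (.node (.leaf 2437) (.leaf 9345))) (.node (.node (.leaf 1231) (.leaf 7057)) (.node (.leaf 3783) (.leaf 13991)))) (.node (.node (.node (.leaf 671) (.leaf 6117)) (.node (.leaf 3088) (.leaf 11001))) (.node (.node (.leaf 1824) (.leaf 8095)) (.node (.leaf 4518) (.leaf 0))))) (.node (.node (.node (.node (.leaf 400) (.leaf 5695)) (.node (.leaf 2754) (.leaf 10103))) (.node (.node (.leaf 1525)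 (.leaf 7544)) (.node (.leaf 4146) (.leaf 0)))) (.node (.node (.node (.leaf 950) (.leaf 6580)) (.node (.leaf 3435) (.leaf 12108))) (.node (.node (.leaf 2127) (.leaf 8685)) (.node (.leaf 4887) (.leaf 0))))))) (.node (.node (.node (.node (.node (.node (.leaf 71) (.leaf 5185)) (.node (.leaf 2357) (.leaf 9188))) (.node (.node (.leaf 1157) (.leaf 6940)) (.node (.leaf 3699) (.leaf 13401)))) (.node (.node (.node (.leaf 602) (.leaf 6014)) (.node (.leaf 3005) (.leaf 10707))) (.node (.node (.leaf 1747) (.leaf 7960)) (.node (.leaf 4417) (.leaf 0))))) (.node (.node (.node (.node (.leaf 332) (.leaf 5599)) (.node (.leaf 2678) (.leaf 9936))) (.node (.node (.leaf 1447) (.leaf 7427)) (.node (.leaf 4051) (.leaf 0)))) (.node (.node (.node (.leaf 878) (.leaf 6458)) (.node (.leaf 3353) (.leaf 11755))) (.node (.node (.leaf 2045) (.leaf 8526)) (.node (.leaf 4799) (.leaf 0)))))) (.node (.node (.node (.node (.node (.leaf 201) (.leaf 5390)) (.node (.leaf 2514) (.leaf 9525))) (.node (.node (.leaf 1301) (.leaf 7189)) (.node (.leaf 3866) (.leaf 0)))) (.node (.node (.node (.leaf 739) (.leaf 6231)) (.node (.leaf 3179) (.leaf 11254))) (.node (.node (.leaf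 1897) (.leaf 8221)) (.node (.leaf 4615) (.leaf 0))))) (.node (.node (.node (.node (.leaf 468) (.leaf 5811)) (.node (.leaf 2837) (.leaf 10279))) (.node (.node (.leaf 1597) (.leaf 7658)) (.node (.leaf 4224) (.leaf 0)))) (.node (.node (.node (.leaf 1018) (.leaf 6713)) (.node (.leaf 3519) (.leaf 12503))) (.node (.node (.leaf 2196) (.leaf 8887)) (.node (.leaf 4977) (.leaf 0)))))))) (.node (.node (.node (.node (.node (.node (.node (.leaf 39) (.leaf 5140)) (.node (.leaf 2315) (.leaf 9110))) (.node (.node (.leaf 1121) (.leaf 6888)) (.node (.leaf 3653) (.leaf 13227)))) (.node (.node (.node (.leaf 567) (.leaf 5958)) (.node (.leaf 2966) (.leaf 10616))) (.node (.node (.leaf 1708) (.leaf 7887)) (.node (.leaf 4366) (.leaf 0))))) (.node (.node (.node (.node (.leaf 300) (.leaf 5548)) (.node (.leaf 2636) (.leaf 9841))) (.node (.node (.leaf 1413) (.leaf 7364)) (.node (.leaf 4003) (.leaf 0)))) (.node (.node (.node (.leaf 843) (.leaf 6415)) (.node (.leaf 3307) (.leaf 11640))) (.node (.node (.leaf 2009) (.leaf 8457)) (.node (.leaf 4754) (.leaf 0)))))) (.node (.node (.node (.node (.node (.leaf 168) (.leaf 5340)) (.node (.leaf 2474) (.leaf 9450)))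 (.node (.node (.leaf 1268) (.leaf 7119)) (.node (.leaf 3826) (.leaf 14429)))) (.node (.node (.node (.leaf 704) (.leaf 6173)) (.node (.leaf 3131) (.leaf 11148))) (.node (.node (.leaf 1861) (.leaf 8163)) (.node (.leaf 4568) (.leaf 0))))) (.node (.node (.node (.node (.leaf 434) (.leaf 5739)) (.node (.leaf 2793) (.leaf 10202))) (.node (.node (.leaf 1561) (.leaf 7606)) (.node (.leaf 4182) (.leaf 0)))) (.node (.node (.node (.leaf 984) (.leaf 6647)) (.node (.leaf 3478) (.leaf 12324))) (.node (.node (.leaf 2160) (.leaf 8782)) (.node (.leaf 4936) (.leaf 0))))))) (.node (.node (.node (.node (.node (.node (.leaf 103) (.leaf 5231)) (.node (.leaf 2398) (.leaf 9264))) (.node (.node (.leaf 1192) (.leaf 6991)) (.node (.leaf 3742) (.leaf 13706)))) (.node (.node (.node (.leaf 636) (.leaf 6071)) (.node (.leaf 3045) (.leaf 10860))) (.node (.node (.leaf 1785) (.leaf 8024)) (.node (.leaf 4467) (.leaf 0))))) (.node (.node (.node (.node (.leaf 366) (.leaf 5652)) (.node (.leaf 2714) (.leaf 10014))) (.node (.node (.leaf 1485) (.leaf 7487)) (.node (.leaf 4100) (.leaf 0)))) (.node (.node (.node (.leaf 912) (.leaf 6515)) (.node (.leaf 3397) (.leaf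 11957))) (.node (.node (.leaf 2084) (.leaf 8599)) (.node (.leaf 4841) (.leaf 0)))))) (.node (.node (.node (.node (.node (.leaf 233) (.leaf 5445)) (.node (.leaf 2551) (.leaf 9636))) (.node (.node (.leaf 1337) (.leaf 7238)) (.node (.leaf 3911) (.leaf 0)))) (.node (.node (.node (.leaf 776) (.leaf 6292)) (.node (.leaf 3221) (.leaf 11385))) (.node (.node (.leaf 1936) (.leaf 8288)) (.node (.leaf 4663) (.leaf 0))))) (.node (.node (.node (.node (.leaf 502) (.leaf 5863)) (.node (.leaf 2885) (.leaf 10427))) (.node (.node (.leaf 1633) (.leaf 7748)) (.node (.leaf 4276) (.leaf 0)))) (.node (.node (.node (.leaf 1053) (.leaf 6775)) (.node (.leaf 3566) (.leaf 12712))) (.node (.node (.leaf 2233) (.leaf 8977)) (.node (.leaf 5032) (.leaf 0))))))))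

def hpT9 : NT := .node (.node (.node (.node (.node (.node (.node (.node (.leaf 8) (.leaf 5083)) (.node (.leaf 2276) (.leaf 9043))) (.node (.node (.leaf 1089) (.leaf 6832)) (.node (.leaf 3619) (.leaf 12933)))) (.node (.node (.node (.leaf 535) (.leaf 5908)) (.node (.leaf 2926) (.leaf 10533))) (.node (.node (.leaf 1672) (.leaf 7824)) (.node (.leaf 4327) (.leaf 0))))) (.node (.node (.node (.node (.leaf 268) (.leaf 5499)) (.node (.leaf 2594) (.leaf 9755))) (.node (.node (.leaf 1373) (.leaf 7296)) (.node (.leaf 3960) (.leaf 0)))) (.node (.node (.node (.leaf 810) (.leaf 6351)) (.node (.leaf 3264) (.leaf 11534))) (.node (.node (.leaf 1974) (.leaf 8392)) (.node (.leaf 4712) (.leaf 0)))))) (.node (.node (.node (.node (.node (.leaf 137) (.leaf 5282)) (.node (.leaf 2438) (.leaf 9351))) (.node (.node (.leaf 1232) (.leaf 7059)) (.node (.leaf 3785) (.leaf 14013)))) (.node (.node (.node (.leaf 672) (.leaf 6121)) (.node (.leaf 3090) (.leaf 11003))) (.node (.node (.leaf 1825) (.leaf 8096)) (.node (.leaf 4520) (.leaf 0))))) (.node (.node (.node (.node (.leaf 401) (.leaf 5696)) (.node (.leaf 2755) (.leaf 10106))) (.node (.node (.leaf 1526)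 (.leaf 7546)) (.node (.leaf 4147) (.leaf 0)))) (.node (.node (.node (.leaf 951) (.leaf 6585)) (.node (.leaf 3438) (.leaf 12136))) (.node (.node (.leaf 2128) (.leaf 8687)) (.node (.leaf 4888) (.leaf 0))))))) (.node (.node (.node (.node (.node (.node (.leaf 72) (.leaf 5188)) (.node (.leaf 2358) (.leaf 9191))) (.node (.node (.leaf 1159) (.leaf 6941)) (.node (.leaf 3700) (.leaf 13413)))) (.node (.node (.node (.leaf 603) (.leaf 6015)) (.node (.leaf 3006) (.leaf 10708))) (.node (.node (.leaf 1748) (.leaf 7963)) (.node (.leaf 4418) (.leaf 0))))) (.node (.node (.node (.node (.leaf 333) (.leaf 5600)) (.node (.leaf 2679) (.leaf 9937))) (.node (.node (.leaf 1448) (.leaf 7428)) (.node (.leaf 4053) (.leaf 0)))) (.node (.node (.node (.leaf 879) (.leaf 6461)) (.node (.leaf 3356) (.leaf 11763))) (.node (.node (.leaf 2047) (.leaf 8528)) (.node (.leaf 4800) (.leaf 0)))))) (.node (.node (.node (.node (.node (.leaf 202) (.leaf 5392)) (.node (.leaf 2515) (.leaf 9526))) (.node (.node (.leaf 1303) (.leaf 7193)) (.node (.leaf 3867) (.leaf 0)))) (.node (.node (.node (.leaf 741) (.leaf 6233)) (.node (.leaf 3180) (.leaf 11257))) (.node (.node (.leaf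 1898) (.leaf 8222)) (.node (.leaf 4617) (.leaf 0))))) (.node (.node (.node (.node (.leaf 469) (.leaf 5812)) (.node (.leaf 2838) (.leaf 10284))) (.node (.node (.leaf 1598) (.leaf 7659)) (.node (.leaf 4227) (.leaf 0)))) (.node (.node (.node (.leaf 1019) (.leaf 6719)) (.node (.leaf 3520) (.leaf 12509))) (.node (.node (.leaf 2197) (.leaf 8888)) (.node (.leaf 4978) (.leaf 0)))))))) (.node (.node (.node (.node (.node (.node (.node (.leaf 40) (.leaf 5141)) (.node (.leaf 2317) (.leaf 9112))) (.node (.node (.leaf 1122) (.leaf 6889)) (.node (.leaf 3656) (.leaf 13234)))) (.node (.node (.node (.leaf 568) (.leaf 5959)) (.node (.leaf 2967) (.leaf 10618))) (.node (.node (.leaf 1709) (.leaf 7888)) (.node (.leaf 4367) (.leaf 0))))) (.node (.node (.node (.node (.leaf 301) (.leaf 5549)) (.node (.leaf 2637) (.leaf 9842))) (.node (.node (.leaf 1414) (.leaf 7366)) (.node (.leaf 4004) (.leaf 0)))) (.node (.node (.node (.leaf 844) (.leaf 6417)) (.node (.leaf 3308) (.leaf 11641))) (.node (.node (.leaf 2010) (.leaf 8458)) (.node (.leaf 4755) (.leaf 0)))))) (.node (.node (.node (.node (.node (.leaf 169) (.leaf 5341)) (.node (.leaf 2475) (.leaf 9460)))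 (.node (.node (.leaf 1269) (.leaf 7122)) (.node (.leaf 3827) (.leaf 14483)))) (.node (.node (.node (.leaf 705) (.leaf 6174)) (.node (.leaf 3132) (.leaf 11151))) (.node (.node (.leaf 1862) (.leaf 8165)) (.node (.leaf 4569) (.leaf 0))))) (.node (.node (.node (.node (.leaf 435) (.leaf 5742)) (.node (.leaf 2794) (.leaf 10203))) (.node (.node (.leaf 1562) (.leaf 7607)) (.node (.leaf 4183) (.leaf 0)))) (.node (.node (.node (.leaf 985) (.leaf 6648)) (.node (.leaf 3479) (.leaf 12328))) (.node (.node (.leaf 2161) (.leaf 8783)) (.node (.leaf 4937) (.leaf 0))))))) (.node (.node (.node (.node (.node (.node (.leaf 104) (.leaf 5232)) (.node (.leaf 2399) (.leaf 9265))) (.node (.node (.leaf 1193) (.leaf 6992)) (.node (.leaf 3743) (.leaf 13711)))) (.node (.node (.node (.leaf 637) (.leaf 6072)) (.node (.leaf 3046) (.leaf 10865))) (.node (.node (.leaf 1786) (.leaf 8026)) (.node (.leaf 4470) (.leaf 0))))) (.node (.node (.node (.node (.leaf 367) (.leaf 5653)) (.node (.leaf 2715) (.leaf 10015))) (.node (.node (.leaf 1486) (.leaf 7488)) (.node (.leaf 4103) (.leaf 0)))) (.node (.node (.node (.leaf 913) (.leaf 6518)) (.node (.leaf 3398) (.leaf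 11961))) (.node (.node (.leaf 2086) (.leaf 8603)) (.node (.leaf 4842) (.leaf 0)))))) (.node (.node (.node (.node (.node (.leaf 235) (.leaf 5447)) (.node (.leaf 2552) (.leaf 9639))) (.node (.node (.leaf 1338) (.leaf 7239)) (.node (.leaf 3912) (.leaf 0)))) (.node (.node (.node (.leaf 777) (.leaf 6293)) (.node (.leaf 3222) (.leaf 11387))) (.node (.node (.leaf 1937) (.leaf 8289)) (.node (.leaf 4664) (.leaf 0))))) (.node (.node (.node (.node (.leaf 503) (.leaf 5864)) (.node (.leaf 2887) (.leaf 10431))) (.node (.node (.leaf 1634) (.leaf 7749)) (.node (.leaf 4277) (.leaf 0)))) (.node (.node (.node (.leaf 1054) (.leaf 6777)) (.node (.leaf 3569) (.leaf 12713))) (.node (.node (.leaf 2236) (.leaf 8978)) (.node (.leaf 5033) (.leaf 0))))))))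

def hpT10 : NT := .node (.node (.node (.node (.node (.node (.node (.node (.leaf 9) (.leaf 5085)) (.node (.leaf 2278) (.leaf 9045))) (.node (.node (.leaf 1090) (.leaf 6833)) (.node (.leaf 3620) (.leaf 12936)))) (.node (.node (.node (.leaf 536) (.leaf 5909)) (.node (.leaf 2927) (.leaf 10534))) (.node (.node (.leaf 1673) (.leaf 7828)) (.node (.leaf 4328) (.leaf 0))))) (.node (.node (.node (.node (.leaf 269) (.leaf 5500)) (.node (.leaf 2595) (.leaf 9759))) (.node (.node (.leaf 1375) (.leaf 7298)) (.node (.leaf 3961) (.leaf 0)))) (.node (.node (.node (.leaf 811) (.leaf 6355)) (.node (.leaf 3267) (.leaf 11535))) (.node (.node (.leaf 1975) (.leaf 8394)) (.node (.leaf 4713) (.leaf 0)))))) (.node (.node (.node (.node (.node (.leaf 138) (.leaf 5286)) (.node (.leaf 2439) (.leaf 9353))) (.node (.node (.leaf 1233) (.leaf 7060)) (.node (.leaf 3786) (.leaf 14036)))) (.node (.node (.node (.leaf 673) (.leaf 6122)) (.node (.leaf 3091) (.leaf 11009))) (.node (.node (.leaf 1826) (.leaf 8099)) (.node (.leaf 4522) (.leaf 0))))) (.node (.node (.node (.node (.leaf 402) (.leaf 5697)) (.node (.leaf 2757) (.leaf 10115))) (.node (.node (.leaf 1527)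 (.leaf 7547)) (.node (.leaf 4148) (.leaf 0)))) (.node (.node (.node (.leaf 952) (.leaf 6587)) (.node (.leaf 3442) (.leaf 12140))) (.node (.node (.leaf 2129) (.leaf 8689)) (.node (.leaf 4889) (.leaf 0))))))) (.node (.node (.node (.node (.node (.node (.leaf 73) (.leaf 5189)) (.node (.leaf 2360) (.leaf 9192))) (.node (.node (.leaf 1160) (.leaf 6942)) (.node (.leaf 3701) (.leaf 13417)))) (.node (.node (.node (.leaf 604) (.leaf 6016)) (.node (.leaf 3007) (.leaf 10714))) (.node (.node (.leaf 1749) (.leaf 7964)) (.node (.leaf 4419) (.leaf 0))))) (.node (.node (.node (.node (.leaf 334) (.leaf 5601)) (.node (.leaf 2680) (.leaf 9939))) (.node (.node (.leaf 1449) (.leaf 7429)) (.node (.leaf 4055) (.leaf 0)))) (.node (.node (.node (.leaf 880) (.leaf 6463)) (.node (.leaf 3357) (.leaf 11778))) (.node (.node (.leaf 2048) (.leaf 8529)) (.node (.leaf 4801) (.leaf 0)))))) (.node (.node (.node (.node (.node (.leaf 203) (.leaf 5393)) (.node (.leaf 2517) (.leaf 9527))) (.node (.node (.leaf 1304) (.leaf 7194)) (.node (.leaf 3868) (.leaf 0)))) (.node (.node (.node (.leaf 743) (.leaf 6235)) (.node (.leaf 3181) (.leaf 11261))) (.node (.node (.leaf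 1899) (.leaf 8223)) (.node (.leaf 4618) (.leaf 0))))) (.node (.node (.node (.node (.leaf 470) (.leaf 5813)) (.node (.leaf 2839) (.leaf 10292))) (.node (.node (.leaf 1599) (.leaf 7660)) (.node (.leaf 4228) (.leaf 0)))) (.node (.node (.node (.leaf 1020) (.leaf 6720)) (.node (.leaf 3521) (.leaf 12511))) (.node (.node (.leaf 2198) (.leaf 8889)) (.node (.leaf 4979) (.leaf 0)))))))) (.node (.node (.node (.node (.node (.node (.node (.leaf 41) (.leaf 5142)) (.node (.leaf 2318) (.leaf 9113))) (.node (.node (.leaf 1123) (.leaf 6893)) (.node (.leaf 3658) (.leaf 13237)))) (.node (.node (.node (.leaf 569) (.leaf 5961)) (.node (.leaf 2968) (.leaf 10624))) (.node (.node (.leaf 1710) (.leaf 7890)) (.node (.leaf 4369) (.leaf 0))))) (.node (.node (.node (.node (.leaf 302) (.leaf 5551)) (.node (.leaf 2638) (.leaf 9843))) (.node (.node (.leaf 1415) (.leaf 7367)) (.node (.leaf 4005) (.leaf 0)))) (.node (.node (.node (.leaf 845) (.leaf 6423)) (.node (.leaf 3309) (.leaf 11645))) (.node (.node (.leaf 2011) (.leaf 8459)) (.node (.leaf 4756) (.leaf 0)))))) (.node (.node (.node (.node (.node (.leaf 170) (.leaf 5342)) (.node (.leaf 2476) (.leaf 9462)))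 (.node (.node (.leaf 1270) (.leaf 7124)) (.node (.leaf 3828) (.leaf 14512)))) (.node (.node (.node (.leaf 706) (.leaf 6175)) (.node (.leaf 3133) (.leaf 11156))) (.node (.node (.leaf 1863) (.leaf 8166)) (.node (.leaf 4571) (.leaf 0))))) (.node (.node (.node (.node (.leaf 436) (.leaf 5743)) (.node (.leaf 2795) (.leaf 10205))) (.node (.node (.leaf 1563) (.leaf 7609)) (.node (.leaf 4186) (.leaf 0)))) (.node (.node (.node (.leaf 986) (.leaf 6649)) (.node (.leaf 3480) (.leaf 12335))) (.node (.node (.leaf 2163) (.leaf 8784)) (.node (.leaf 4938) (.leaf 0))))))) (.node (.node (.node (.node (.node (.node (.leaf 105) (.leaf 5233)) (.node (.leaf 2401) (.leaf 9268))) (.node (.node (.leaf 1194) (.leaf 6993)) (.node (.leaf 3744) (.leaf 13717)))) (.node (.node (.node (.leaf 638) (.leaf 6073)) (.node (.leaf 3047) (.leaf 10872))) (.node (.node (.leaf 1787) (.leaf 8027)) (.node (.leaf 4471) (.leaf 0))))) (.node (.node (.node (.node (.leaf 368) (.leaf 5655)) (.node (.leaf 2716) (.leaf 10016))) (.node (.node (.leaf 1487) (.leaf 7490)) (.node (.leaf 4104) (.leaf 0)))) (.node (.node (.node (.leaf 915) (.leaf 6521)) (.node (.leaf 3401) (.leaf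 11965))) (.node (.node (.leaf 2087) (.leaf 8604)) (.node (.leaf 4843) (.leaf 0)))))) (.node (.node (.node (.node (.node (.leaf 236) (.leaf 5451)) (.node (.leaf 2554) (.leaf 9644))) (.node (.node (.leaf 1339) (.leaf 7241)) (.node (.leaf 3913) (.leaf 0)))) (.node (.node (.node (.leaf 778) (.leaf 6297)) (.node (.leaf 3223) (.leaf 11393))) (.node (.node (.leaf 1938) (.leaf 8290)) (.node (.leaf 4665) (.leaf 0))))) (.node (.node (.node (.node (.leaf 504) (.leaf 5865)) (.node (.leaf 2888) (.leaf 10435))) (.node (.node (.leaf 1635) (.leaf 7752)) (.node (.leaf 4278) (.leaf 0)))) (.node (.node (.node (.leaf 1055) (.leaf 6779)) (.node (.leaf 3570) (.leaf 12717))) (.node (.node (.leaf 2237) (.leaf 8979)) (.node (.leaf 5034) (.leaf 0))))))))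

def hpT11 : NT := .node (.node (.node (.node (.node (.node (.node (.node (.leaf 10) (.leaf 5086)) (.node (.leaf 2279) (.leaf 9046))) (.node (.node (.leaf 1091) (.leaf 6835)) (.node (.leaf 3621) (.leaf 12937)))) (.node (.node (.node (.leaf 537) (.leaf 5910)) (.node (.leaf 2928) (.leaf 10537))) (.node (.node (.leaf 1675) (.leaf 7829)) (.node (.leaf 4329) (.leaf 0))))) (.node (.node (.node (.node (.leaf 270) (.leaf 5501)) (.node (.leaf 2596) (.leaf 9760))) (.node (.node (.leaf 1377) (.leaf 7299)) (.node (.leaf 3962) (.leaf 0)))) (.node (.node (.node (.leaf 812) (.leaf 6357)) (.node (.leaf 3268) (.leaf 11537))) (.node (.node (.leaf 1976) (.leaf 8397)) (.node (.leaf 4714) (.leaf 0)))))) (.node (.node (.node (.node (.node (.leaf 139) (.leaf 5288)) (.node (.leaf 2440) (.leaf 9356))) (.node (.node (.leaf 1234) (.leaf 7062)) (.node (.leaf 3787) (.leaf 14048)))) (.node (.node (.node (.leaf 674) (.leaf 6123)) (.node (.leaf 3092) (.leaf 11011))) (.node (.node (.leaf 1827) (.leaf 8102)) (.node (.leaf 4523) (.leaf 0))))) (.node (.node (.node (.node (.leaf 403) (.leaf 5698)) (.node (.leaf 2758) (.leaf 10120))) (.node (.node (.leaf 1528)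 (.leaf 7549)) (.node (.leaf 4149) (.leaf 0)))) (.node (.node (.node (.leaf 953) (.leaf 6588)) (.node (.leaf 3444) (.leaf 12144))) (.node (.node (.leaf 2130) (.leaf 8692)) (.node (.leaf 4890) (.leaf 0))))))) (.node (.node (.node (.node (.node (.node (.leaf 74) (.leaf 5190)) (.node (.leaf 2361) (.leaf 9194))) (.node (.node (.leaf 1161) (.leaf 6943)) (.node (.leaf 3702) (.leaf 13425)))) (.node (.node (.node (.leaf 605) (.leaf 6017)) (.node (.leaf 3008) (.leaf 10715))) (.node (.node (.leaf 1750) (.leaf 7965)) (.node (.leaf 4422) (.leaf 0))))) (.node (.node (.node (.node (.leaf 335) (.leaf 5602)) (.node (.leaf 2682) (.leaf 9941))) (.node (.node (.leaf 1450) (.leaf 7432)) (.node (.leaf 4056) (.leaf 0)))) (.node (.node (.node (.leaf 881) (.leaf 6464)) (.node (.leaf 3358) (.leaf 11781))) (.node (.node (.leaf 2049) (.leaf 8531)) (.node (.leaf 4802) (.leaf 0)))))) (.node (.node (.node (.node (.node (.leaf 204) (.leaf 5395)) (.node (.leaf 2519) (.leaf 9530))) (.node (.node (.leaf 1305) (.leaf 7195)) (.node (.leaf 3869) (.leaf 0)))) (.node (.node (.node (.leaf 744) (.leaf 6236)) (.node (.leaf 3182) (.leaf 11263))) (.node (.node (.leaf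 1900) (.leaf 8226)) (.node (.leaf 4619) (.leaf 0))))) (.node (.node (.node (.node (.leaf 471) (.leaf 5815)) (.node (.leaf 2840) (.leaf 10302))) (.node (.node (.leaf 1600) (.leaf 7661)) (.node (.leaf 4229) (.leaf 0)))) (.node (.node (.node (.leaf 1021) (.leaf 6725)) (.node (.leaf 3522) (.leaf 12533))) (.node (.node (.leaf 2199) (.leaf 8891)) (.node (.leaf 4980) (.leaf 0)))))))) (.node (.node (.node (.node (.node (.node (.node (.leaf 42) (.leaf 5144)) (.node (.leaf 2319) (.leaf 9114))) (.node (.node (.leaf 1124) (.leaf 6895)) (.node (.leaf 3659) (.leaf 13241)))) (.node (.node (.node (.leaf 570) (.leaf 5962)) (.node (.leaf 2970) (.leaf 10627))) (.node (.node (.leaf 1711) (.leaf 7892)) (.node (.leaf 4371) (.leaf 0))))) (.node (.node (.node (.node (.leaf 303) (.leaf 5553)) (.node (.leaf 2639) (.leaf 9844))) (.node (.node (.leaf 1416) (.leaf 7368)) (.node (.leaf 4007) (.leaf 0)))) (.node (.node (.node (.leaf 847) (.leaf 6425)) (.node (.leaf 3310) (.leaf 11650))) (.node (.node (.leaf 2012) (.leaf 8462)) (.node (.leaf 4757) (.leaf 0)))))) (.node (.node (.node (.node (.node (.leaf 171) (.leaf 5343)) (.node (.leaf 2477) (.leaf 9464)))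 (.node (.node (.leaf 1271) (.leaf 7125)) (.node (.leaf 3830) (.leaf 14532)))) (.node (.node (.node (.leaf 707) (.leaf 6176)) (.node (.leaf 3134) (.leaf 11158))) (.node (.node (.leaf 1864) (.leaf 8170)) (.node (.leaf 4572) (.leaf 0))))) (.node (.node (.node (.node (.leaf 437) (.leaf 5744)) (.node (.leaf 2796) (.leaf 10207))) (.node (.node (.leaf 1564) (.leaf 7611)) (.node (.leaf 4187) (.leaf 0)))) (.node (.node (.node (.leaf 987) (.leaf 6651)) (.node (.leaf 3481) (.leaf 12341))) (.node (.node (.leaf 2164) (.leaf 8785)) (.node (.leaf 4939) (.leaf 0))))))) (.node (.node (.node (.node (.node (.node (.leaf 106) (.leaf 5234)) (.node (.leaf 2402) (.leaf 9269))) (.node (.node (.leaf 1195) (.leaf 6996)) (.node (.leaf 3745) (.leaf 13729)))) (.node (.node (.node (.leaf 639) (.leaf 6075)) (.node (.leaf 3048) (.leaf 10873))) (.node (.node (.leaf 1788) (.leaf 8034)) (.node (.leaf 4472) (.leaf 0))))) (.node (.node (.node (.node (.leaf 370) (.leaf 5657)) (.node (.leaf 2717) (.leaf 10018))) (.node (.node (.leaf 1488) (.leaf 7491)) (.node (.leaf 4105) (.leaf 0)))) (.node (.node (.node (.leaf 916) (.leaf 6522)) (.node (.leaf 3402) (.leaf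 11974))) (.node (.node (.leaf 2089) (.leaf 8605)) (.node (.leaf 4844) (.leaf 0)))))) (.node (.node (.node (.node (.node (.leaf 237) (.leaf 5452)) (.node (.leaf 2555) (.leaf 9645))) (.node (.node (.leaf 1340) (.leaf 7244)) (.node (.leaf 3914) (.leaf 0)))) (.node (.node (.node (.leaf 779) (.leaf 6298)) (.node (.leaf 3225) (.leaf 11394))) (.node (.node (.leaf 1939) (.leaf 8293)) (.node (.leaf 4667) (.leaf 0))))) (.node (.node (.node (.node (.leaf 505) (.leaf 5866)) (.node (.leaf 2889) (.leaf 10437))) (.node (.node (.leaf 1636) (.leaf 7753)) (.node (.leaf 4280) (.leaf 0)))) (.node (.node (.node (.leaf 1056) (.leaf 6780)) (.node (.leaf 3571) (.leaf 12723))) (.node (.node (.leaf 2239) (.leaf 8981)) (.node (.leaf 5035) (.leaf 0))))))))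

def hpT12 : NT := .node (.node (.node (.node (.node (.node (.node (.node (.leaf 11) (.leaf 5087)) (.node (.leaf 2281) (.leaf 9051))) (.node (.node (.leaf 1092) (.leaf 6837)) (.node (.leaf 3622) (.leaf 12940)))) (.node (.node (.node (.leaf 538) (.leaf 5911)) (.node (.leaf 2931) (.leaf 10541))) (.node (.node (.leaf 1676) (.leaf 7830)) (.node (.leaf 4330) (.leaf 0))))) (.node (.node (.node (.node (.leaf 271) (.leaf 5502)) (.node (.leaf 2597) (.leaf 9763))) (.node (.node (.leaf 1379) (.leaf 7302)) (.node (.leaf 3963) (.leaf 0)))) (.node (.node (.node (.leaf 813) (.leaf 6359)) (.node (.leaf 3269) (.leaf 11543))) (.node (.node (.leaf 1977) (.leaf 8398)) (.node (.leaf 4715) (.leaf 0)))))) (.node (.node (.node (.node (.node (.leaf 140) (.leaf 5289)) (.node (.leaf 2442) (.leaf 9362))) (.node (.node (.leaf 1235) (.leaf 7063)) (.node (.leaf 3788) (.leaf 14049)))) (.node (.node (.node (.leaf 675) (.leaf 6126)) (.node (.leaf 3093) (.leaf 11014))) (.node (.node (.leaf 1828) (.leaf 8103)) (.node (.leaf 4524) (.leaf 0))))) (.node (.node (.node (.node (.leaf 404) (.leaf 5699)) (.node (.leaf 2760) (.leaf 10123))) (.node (.node (.leaf 1529)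 (.leaf 7554)) (.node (.leaf 4150) (.leaf 0)))) (.node (.node (.node (.leaf 954) (.leaf 6589)) (.node (.leaf 3445) (.leaf 12147))) (.node (.node (.leaf 2131) (.leaf 8696)) (.node (.leaf 4892) (.leaf 0))))))) (.node (.node (.node (.node (.node (.node (.leaf 75) (.leaf 5191)) (.node (.leaf 2362) (.leaf 9198))) (.node (.node (.leaf 1162) (.leaf 6944)) (.node (.leaf 3703) (.leaf 13431)))) (.node (.node (.node (.leaf 607) (.leaf 6018)) (.node (.leaf 3009) (.leaf 10720))) (.node (.node (.leaf 1751) (.leaf 7966)) (.node (.leaf 4423) (.leaf 0))))) (.node (.node (.node (.node (.leaf 336) (.leaf 5603)) (.node (.leaf 2683) (.leaf 9942))) (.node (.node (.leaf 1451) (.leaf 7434)) (.node (.leaf 4057) (.leaf 0)))) (.node (.node (.node (.leaf 882) (.leaf 6465)) (.node (.leaf 3359) (.leaf 11782))) (.node (.node (.leaf 2050) (.leaf 8533)) (.node (.leaf 4804) (.leaf 0)))))) (.node (.node (.node (.node (.node (.leaf 205) (.leaf 5397)) (.node (.leaf 2521) (.leaf 9545))) (.node (.node (.leaf 1306) (.leaf 7196)) (.node (.leaf 3870) (.leaf 0)))) (.node (.node (.node (.leaf 745) (.leaf 6237)) (.node (.leaf 3183) (.leaf 11264))) (.node (.node (.leaf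 1901) (.leaf 8227)) (.node (.leaf 4621) (.leaf 0))))) (.node (.node (.node (.node (.leaf 472) (.leaf 5816)) (.node (.leaf 2843) (.leaf 10305))) (.node (.node (.leaf 1601) (.leaf 7664)) (.node (.leaf 4230) (.leaf 0)))) (.node (.node (.node (.leaf 1022) (.leaf 6727)) (.node (.leaf 3525) (.leaf 12541))) (.node (.node (.leaf 2200) (.leaf 8898)) (.node (.leaf 4981) (.leaf 0)))))))) (.node (.node (.node (.node (.node (.node (.node (.leaf 43) (.leaf 5145)) (.node (.leaf 2321) (.leaf 9115))) (.node (.node (.leaf 1125) (.leaf 6896)) (.node (.leaf 3661) (.leaf 13250)))) (.node (.node (.node (.leaf 572) (.leaf 5964)) (.node (.leaf 2971) (.leaf 10628))) (.node (.node (.leaf 1712) (.leaf 7897)) (.node (.leaf 4372) (.leaf 0))))) (.node (.node (.node (.node (.leaf 304) (.leaf 5556)) (.node (.leaf 2641) (.leaf 9846))) (.node (.node (.leaf 1417) (.leaf 7369)) (.node (.leaf 4008) (.leaf 0)))) (.node (.node (.node (.leaf 848) (.leaf 6426)) (.node (.leaf 3311) (.leaf 11651))) (.node (.node (.leaf 2013) (.leaf 8463)) (.node (.leaf 4758) (.leaf 0)))))) (.node (.node (.node (.node (.node (.leaf 173) (.leaf 5344)) (.node (.leaf 2479) (.leaf 9467)))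 (.node (.node (.leaf 1272) (.leaf 7128)) (.node (.leaf 3831) (.leaf 14539)))) (.node (.node (.node (.leaf 709) (.leaf 6179)) (.node (.leaf 3135) (.leaf 11164))) (.node (.node (.leaf 1865) (.leaf 8171)) (.node (.leaf 4574) (.leaf 0))))) (.node (.node (.node (.node (.leaf 438) (.leaf 5745)) (.node (.leaf 2797) (.leaf 10211))) (.node (.node (.leaf 1565) (.leaf 7612)) (.node (.leaf 4188) (.leaf 0)))) (.node (.node (.node (.leaf 988) (.leaf 6652)) (.node (.leaf 3482) (.leaf 12343))) (.node (.node (.leaf 2165) (.leaf 8787)) (.node (.leaf 4940) (.leaf 0))))))) (.node (.node (.node (.node (.node (.node (.leaf 107) (.leaf 5235)) (.node (.leaf 2403) (.leaf 9270))) (.node (.node (.leaf 1196) (.leaf 6998)) (.node (.leaf 3746) (.leaf 13733)))) (.node (.node (.node (.leaf 640) (.leaf 6077)) (.node (.leaf 3049) (.leaf 10875))) (.node (.node (.leaf 1789) (.leaf 8035)) (.node (.leaf 4475) (.leaf 0))))) (.node (.node (.node (.node (.leaf 371) (.leaf 5658)) (.node (.leaf 2718) (.leaf 10021))) (.node (.node (.leaf 1489) (.leaf 7492)) (.node (.leaf 4106) (.leaf 0)))) (.node (.node (.node (.leaf 917) (.leaf 6523)) (.node (.leaf 3403) (.leaf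 11978))) (.node (.node (.leaf 2090) (.leaf 8606)) (.node (.leaf 4845) (.leaf 0)))))) (.node (.node (.node (.node (.node (.leaf 238) (.leaf 5453)) (.node (.leaf 2556) (.leaf 9651))) (.node (.node (.leaf 1341) (.leaf 7245)) (.node (.leaf 3916) (.leaf 0)))) (.node (.node (.node (.leaf 780) (.leaf 6300)) (.node (.leaf 3226) (.leaf 11400))) (.node (.node (.leaf 1940) (.leaf 8296)) (.node (.leaf 4668) (.leaf 0))))) (.node (.node (.node (.node (.leaf 506) (.leaf 5867)) (.node (.leaf 2891) (.leaf 10438))) (.node (.node (.leaf 1637) (.leaf 7754)) (.node (.leaf 4281) (.leaf 0)))) (.node (.node (.node (.leaf 1057) (.leaf 6781)) (.node (.leaf 3572) (.leaf 12725))) (.node (.node (.leaf 2242) (.leaf 8982)) (.node (.leaf 5038) (.leaf 0))))))))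

def hpT13 : NT := .node (.node (.node (.node (.node (.node (.node (.node (.leaf 12) (.leaf 5090)) (.node (.leaf 2282) (.leaf 9052))) (.node (.node (.leaf 1093) (.leaf 6838)) (.node (.leaf 3623) (.leaf 12943)))) (.node (.node (.node (.leaf 539) (.leaf 5912)) (.node (.leaf 2932) (.leaf 10543))) (.node (.node (.leaf 1677) (.leaf 7831)) (.node (.leaf 4331) (.leaf 0))))) (.node (.node (.node (.node (.leaf 272) (.leaf 5503)) (.node (.leaf 2599) (.leaf 9767))) (.node (.node (.leaf 1380) (.leaf 7304)) (.node (.leaf 3964) (.leaf 0)))) (.node (.node (.node (.leaf 814) (.leaf 6361)) (.node (.leaf 3270) (.leaf 11549))) (.node (.node (.leaf 1979) (.leaf 8402)) (.node (.leaf 4717) (.leaf 0)))))) (.node (.node (.node (.node (.node (.leaf 141) (.leaf 5291)) (.node (.leaf 2443) (.leaf 9363))) (.node (.node (.leaf 1236) (.leaf 7065)) (.node (.leaf 3789) (.leaf 14051)))) (.node (.node (.node (.leaf 676) (.leaf 6127)) (.node (.leaf 3094) (.leaf 11017))) (.node (.node (.leaf 1829) (.leaf 8104)) (.node (.leaf 4525) (.leaf 0))))) (.node (.node (.node (.node (.leaf 405) (.leaf 5701)) (.node (.leaf 2761) (.leaf 10124))) (.node (.node (.leaf 1530)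 (.leaf 7560)) (.node (.leaf 4151) (.leaf 0)))) (.node (.node (.node (.leaf 955) (.leaf 6593)) (.node (.leaf 3446) (.leaf 12151))) (.node (.node (.leaf 2132) (.leaf 8701)) (.node (.leaf 4893) (.leaf 0))))))) (.node (.node (.node (.node (.node (.node (.leaf 76) (.leaf 5193)) (.node (.leaf 2363) (.leaf 9199))) (.node (.node (.leaf 1163) (.leaf 6948)) (.node (.leaf 3704) (.leaf 13450)))) (.node (.node (.node (.leaf 608) (.leaf 6019)) (.node (.leaf 3010) (.leaf 10721))) (.node (.node (.leaf 1752) (.leaf 7968)) (.node (.leaf 4424) (.leaf 0))))) (.node (.node (.node (.node (.leaf 337) (.leaf 5606)) (.node (.leaf 2684) (.leaf 9943))) (.node (.node (.leaf 1453) (.leaf 7437)) (.node (.leaf 4058) (.leaf 0)))) (.node (.node (.node (.leaf 883) (.leaf 6469)) (.node (.leaf 3360) (.leaf 11789))) (.node (.node (.leaf 2051) (.leaf 8535)) (.node (.leaf 4805) (.leaf 0)))))) (.node (.node (.node (.node (.node (.leaf 206) (.leaf 5398)) (.node (.leaf 2522) (.leaf 9550))) (.node (.node (.leaf 1307) (.leaf 7197)) (.node (.leaf 3872) (.leaf 0)))) (.node (.node (.node (.leaf 746) (.leaf 6239)) (.node (.leaf 3185) (.leaf 11272))) (.node (.node (.leaf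 1902) (.leaf 8228)) (.node (.leaf 4622) (.leaf 0))))) (.node (.node (.node (.node (.leaf 473) (.leaf 5818)) (.node (.leaf 2844) (.leaf 10307))) (.node (.node (.leaf 1602) (.leaf 7667)) (.node (.leaf 4232) (.leaf 0)))) (.node (.node (.node (.leaf 1023) (.leaf 6729)) (.node (.leaf 3526) (.leaf 12548))) (.node (.node (.leaf 2201) (.leaf 8899)) (.node (.leaf 4984) (.leaf 0)))))))) (.node (.node (.node (.node (.node (.node (.node (.leaf 44) (.leaf 5147)) (.node (.leaf 2322) (.leaf 9117))) (.node (.node (.leaf 1126) (.leaf 6897)) (.node (.leaf 3663) (.leaf 13259)))) (.node (.node (.node (.leaf 573) (.leaf 5965)) (.node (.leaf 2972) (.leaf 10629))) (.node (.node (.leaf 1713) (.leaf 7907)) (.node (.leaf 4374) (.leaf 0))))) (.node (.node (.node (.node (.leaf 305) (.leaf 5557)) (.node (.leaf 2642) (.leaf 9847))) (.node (.node (.leaf 1418) (.leaf 7371)) (.node (.leaf 4009) (.leaf 0)))) (.node (.node (.node (.leaf 849) (.leaf 6428)) (.node (.leaf 3313) (.leaf 11655))) (.node (.node (.leaf 2014) (.leaf 8469)) (.node (.leaf 4759) (.leaf 0)))))) (.node (.node (.node (.node (.node (.leaf 174) (.leaf 5345)) (.node (.leaf 2481) (.leaf 9472)))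 (.node (.node (.leaf 1273) (.leaf 7134)) (.node (.leaf 3832) (.leaf 14574)))) (.node (.node (.node (.leaf 710) (.leaf 6180)) (.node (.leaf 3136) (.leaf 11171))) (.node (.node (.leaf 1866) (.leaf 8172)) (.node (.leaf 4575) (.leaf 0))))) (.node (.node (.node (.node (.leaf 439) (.leaf 5748)) (.node (.leaf 2798) (.leaf 10216))) (.node (.node (.leaf 1567) (.leaf 7613)) (.node (.leaf 4189) (.leaf 0)))) (.node (.node (.node (.leaf 989) (.leaf 6656)) (.node (.leaf 3483) (.leaf 12351))) (.node (.node (.leaf 2166) (.leaf 8788)) (.node (.leaf 4941) (.leaf 0))))))) (.node (.node (.node (.node (.node (.node (.leaf 109) (.leaf 5237)) (.node (.leaf 2404) (.leaf 9271))) (.node (.node (.leaf 1197) (.leaf 7005)) (.node (.leaf 3747) (.leaf 13735)))) (.node (.node (.node (.leaf 641) (.leaf 6078)) (.node (.leaf 3052) (.leaf 10876))) (.node (.node (.leaf 1791) (.leaf 8039)) (.node (.leaf 4476) (.leaf 0))))) (.node (.node (.node (.node (.leaf 372) (.leaf 5659)) (.node (.leaf 2719) (.leaf 10022))) (.node (.node (.leaf 1490) (.leaf 7493)) (.node (.leaf 4107) (.leaf 0)))) (.node (.node (.node (.leaf 918) (.leaf 6524)) (.node (.leaf 3404) (.leaf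 11981))) (.node (.node (.leaf 2091) (.leaf 8609)) (.node (.leaf 4846) (.leaf 0)))))) (.node (.node (.node (.node (.node (.leaf 239) (.leaf 5455)) (.node (.leaf 2558) (.leaf 9654))) (.node (.node (.leaf 1342) (.leaf 7246)) (.node (.leaf 3917) (.leaf 0)))) (.node (.node (.node (.leaf 781) (.leaf 6301)) (.node (.leaf 3227) (.leaf 11407))) (.node (.node (.leaf 1941) (.leaf 8297)) (.node (.leaf 4669) (.leaf 0))))) (.node (.node (.node (.node (.leaf 507) (.leaf 5868)) (.node (.leaf 2892) (.leaf 10440))) (.node (.node (.leaf 1639) (.leaf 7757)) (.node (.leaf 4287) (.leaf 0)))) (.node (.node (.node (.leaf 1058) (.leaf 6783)) (.node (.leaf 3573) (.leaf 12734))) (.node (.node (.leaf 2243) (.leaf 8983)) (.node (.leaf 5039) (.leaf 0))))))))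

def hpT14 : NT := .node (.node (.node (.node (.node (.node (.node (.node (.leaf 13) (.leaf 5091)) (.node (.leaf 2283) (.leaf 9054))) (.node (.node (.leaf 1094) (.leaf 6841)) (.node (.leaf 3624) (.leaf 12945)))) (.node (.node (.node (.leaf 540) (.leaf 5914)) (.node (.leaf 2933) (.leaf 10546))) (.node (.node (.leaf 1679) (.leaf 7832)) (.node (.leaf 4332) (.leaf 0))))) (.node (.node (.node (.node (.leaf 273) (.leaf 5504)) (.node (.leaf 2601) (.leaf 9770))) (.node (.node (.leaf 1381) (.leaf 7305)) (.node (.leaf 3965) (.leaf 0)))) (.node (.node (.node (.leaf 815) (.leaf 6367)) (.node (.leaf 3272) (.leaf 11554))) (.node (.node (.leaf 1980) (.leaf 8404)) (.node (.leaf 4720) (.leaf 0)))))) (.node (.node (.node (.node (.node (.leaf 142) (.leaf 5293)) (.node (.leaf 2444) (.leaf 9365))) (.node (.node (.leaf 1237) (.leaf 7068)) (.node (.leaf 3790) (.leaf 14073)))) (.node (.node (.node (.leaf 677) (.leaf 6129)) (.node (.leaf 3095) (.leaf 11025))) (.node (.node (.leaf 1832) (.leaf 8105)) (.node (.leaf 4527) (.leaf 0))))) (.node (.node (.node (.node (.leaf 406) (.leaf 5702)) (.node (.leaf 2762) (.leaf 10134))) (.node (.node (.leaf 1531)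 (.leaf 7561)) (.node (.leaf 4152) (.leaf 0)))) (.node (.node (.node (.leaf 956) (.leaf 6594)) (.node (.leaf 3447) (.leaf 12155))) (.node (.node (.leaf 2133) (.leaf 8702)) (.node (.leaf 4894) (.leaf 0))))))) (.node (.node (.node (.node (.node (.node (.leaf 77) (.leaf 5194)) (.node (.leaf 2364) (.leaf 9201))) (.node (.node (.leaf 1164) (.leaf 6949)) (.node (.leaf 3705) (.leaf 13451)))) (.node (.node (.node (.leaf 609) (.leaf 6021)) (.node (.leaf 3011) (.leaf 10725))) (.node (.node (.leaf 1753) (.leaf 7970)) (.node (.leaf 4425) (.leaf 0))))) (.node (.node (.node (.node (.leaf 338) (.leaf 5607)) (.node (.leaf 2685) (.leaf 9947))) (.node (.node (.leaf 1454) (.leaf 7438)) (.node (.leaf 4059) (.leaf 0)))) (.node (.node (.node (.leaf 884) (.leaf 6470)) (.node (.leaf 3361) (.leaf 11805))) (.node (.node (.leaf 2052) (.leaf 8536)) (.node (.leaf 4807) (.leaf 0)))))) (.node (.node (.node (.node (.node (.leaf 207) (.leaf 5402)) (.node (.leaf 2523) (.leaf 9553))) (.node (.node (.leaf 1308) (.leaf 7198)) (.node (.leaf 3873) (.leaf 0)))) (.node (.node (.node (.leaf 747) (.leaf 6242)) (.node (.leaf 3186) (.leaf 11274))) (.node (.node (.leaf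 1903) (.leaf 8235)) (.node (.leaf 4623) (.leaf 0))))) (.node (.node (.node (.node (.leaf 474) (.leaf 5819)) (.node (.leaf 2845) (.leaf 10315))) (.node (.node (.leaf 1603) (.leaf 7668)) (.node (.leaf 4233) (.leaf 0)))) (.node (.node (.node (.leaf 1024) (.leaf 6730)) (.node (.leaf 3528) (.leaf 12552))) (.node (.node (.leaf 2202) (.leaf 8900)) (.node (.leaf 4985) (.leaf 0)))))))) (.node (.node (.node (.node (.node (.node (.node (.leaf 45) (.leaf 5149)) (.node (.leaf 2323) (.leaf 9119))) (.node (.node (.leaf 1127) (.leaf 6899)) (.node (.leaf 3665) (.leaf 13262)))) (.node (.node (.node (.leaf 574) (.leaf 5968)) (.node (.leaf 2973) (.leaf 10636))) (.node (.node (.leaf 1715) (.leaf 7910)) (.node (.leaf 4376) (.leaf 0))))) (.node (.node (.node (.node (.leaf 306) (.leaf 5558)) (.node (.leaf 2643) (.leaf 9851))) (.node (.node (.leaf 1419) (.leaf 7377)) (.node (.leaf 4010) (.leaf 0)))) (.node (.node (.node (.leaf 850) (.leaf 6429)) (.node (.leaf 3316) (.leaf 11661))) (.node (.node (.leaf 2016) (.leaf 8473)) (.node (.leaf 4760) (.leaf 0)))))) (.node (.node (.node (.node (.node (.leaf 175) (.leaf 5346)) (.node (.leaf 2482) (.leaf 9473)))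 (.node (.node (.leaf 1274) (.leaf 7135)) (.node (.leaf 3833) (.leaf 14591)))) (.node (.node (.node (.leaf 711) (.leaf 6184)) (.node (.leaf 3137) (.leaf 11173))) (.node (.node (.leaf 1867) (.leaf 8174)) (.node (.leaf 4576) (.leaf 0))))) (.node (.node (.node (.node (.leaf 440) (.leaf 5751)) (.node (.leaf 2799) (.leaf 10217))) (.node (.node (.leaf 1568) (.leaf 7614)) (.node (.leaf 4190) (.leaf 0)))) (.node (.node (.node (.leaf 990) (.leaf 6657)) (.node (.leaf 3485) (.leaf 12361))) (.node (.node (.leaf 2167) (.leaf 8789)) (.node (.leaf 4943) (.leaf 0))))))) (.node (.node (.node (.node (.node (.node (.leaf 110) (.leaf 5238)) (.node (.leaf 2407) (.leaf 9280))) (.node (.node (.leaf 1198) (.leaf 7007)) (.node (.leaf 3748) (.leaf 13739)))) (.node (.node (.node (.leaf 643) (.leaf 6079)) (.node (.leaf 3053) (.leaf 10877))) (.node (.node (.leaf 1792) (.leaf 8040)) (.node (.leaf 4479) (.leaf 0))))) (.node (.node (.node (.node (.leaf 373) (.leaf 5661)) (.node (.leaf 2720) (.leaf 10023))) (.node (.node (.leaf 1491) (.leaf 7494)) (.node (.leaf 4110) (.leaf 0)))) (.node (.node (.node (.leaf 919) (.leaf 6526)) (.node (.leaf 3405) (.leaf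 11984))) (.node (.node (.leaf 2092) (.leaf 8612)) (.node (.leaf 4847) (.leaf 0)))))) (.node (.node (.node (.node (.node (.leaf 240) (.leaf 5456)) (.node (.leaf 2559) (.leaf 9662))) (.node (.node (.leaf 1343) (.leaf 7247)) (.node (.leaf 3918) (.leaf 0)))) (.node (.node (.node (.leaf 782) (.leaf 6302)) (.node (.leaf 3228) (.leaf 11410))) (.node (.node (.leaf 1942) (.leaf 8299)) (.node (.leaf 4670) (.leaf 0))))) (.node (.node (.node (.node (.leaf 508) (.leaf 5870)) (.node (.leaf 2893) (.leaf 10443))) (.node (.node (.leaf 1641) (.leaf 7758)) (.node (.leaf 4288) (.leaf 0)))) (.node (.node (.node (.leaf 1060) (.leaf 6784)) (.node (.leaf 3576) (.leaf 12740))) (.node (.node (.leaf 2244) (.leaf 8984)) (.node (.leaf 5040) (.leaf 0))))))))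

def hpT15 : NT := .node (.node (.node (.node (.node (.node (.node (.node (.leaf 14) (.leaf 5092)) (.node (.leaf 2284) (.leaf 9056))) (.node (.node (.leaf 1095) (.leaf 6842)) (.node (.leaf 3626) (.leaf 12947)))) (.node (.node (.node (.leaf 541) (.leaf 5915)) (.node (.leaf 2934) (.leaf 10547))) (.node (.node (.leaf 1681) (.leaf 7839)) (.node (.leaf 4334) (.leaf 0))))) (.node (.node (.node (.node (.leaf 274) (.leaf 5505)) (.node (.leaf 2603) (.leaf 9771))) (.node (.node (.leaf 1383) (.leaf 7306)) (.node (.leaf 3966) (.leaf 0)))) (.node (.node (.node (.leaf 816) (.leaf 6368)) (.node (.leaf 3273) (.leaf 11559))) (.node (.node (.leaf 1981) (.leaf 8405)) (.node (.leaf 4721) (.leaf 0)))))) (.node (.node (.node (.node (.node (.leaf 143) (.leaf 5294)) (.node (.leaf 2445) (.leaf 9367))) (.node (.node (.leaf 1238) (.leaf 7069)) (.node (.leaf 3791) (.leaf 14081)))) (.node (.node (.node (.leaf 678) (.leaf 6130)) (.node (.leaf 3098) (.leaf 11033))) (.node (.node (.leaf 1834) (.leaf 8108)) (.node (.leaf 4528) (.leaf 0))))) (.node (.node (.node (.node (.leaf 407) (.leaf 5704)) (.node (.leaf 2764) (.leaf 10141))) (.node (.node (.leaf 1532)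 (.leaf 7562)) (.node (.leaf 4153) (.leaf 0)))) (.node (.node (.node (.leaf 957) (.leaf 6595)) (.node (.leaf 3448) (.leaf 12169))) (.node (.node (.leaf 2134) (.leaf 8707)) (.node (.leaf 4898) (.leaf 0))))))) (.node (.node (.node (.node (.node (.node (.leaf 78) (.leaf 5195)) (.node (.leaf 2365) (.leaf 9202))) (.node (.node (.leaf 1165) (.leaf 6950)) (.node (.leaf 3707) (.leaf 13455)))) (.node (.node (.node (.leaf 610) (.leaf 6022)) (.node (.leaf 3012) (.leaf 10738))) (.node (.node (.leaf 1754) (.leaf 7971)) (.node (.leaf 4426) (.leaf 0))))) (.node (.node (.node (.node (.leaf 339) (.leaf 5609)) (.node (.leaf 2686) (.leaf 9950))) (.node (.node (.leaf 1455) (.leaf 7439)) (.node (.leaf 4063) (.leaf 0)))) (.node (.node (.node (.leaf 885) (.leaf 6471)) (.node (.leaf 3364) (.leaf 11806))) (.node (.node (.leaf 2054) (.leaf 8538)) (.node (.leaf 4809) (.leaf 0)))))) (.node (.node (.node (.node (.node (.leaf 208) (.leaf 5404)) (.node (.leaf 2524) (.leaf 9556))) (.node (.node (.leaf 1309) (.leaf 7199)) (.node (.leaf 3875) (.leaf 0)))) (.node (.node (.node (.leaf 748) (.leaf 6243)) (.node (.leaf 3187) (.leaf 11279))) (.node (.node (.leaf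 1904) (.leaf 8237)) (.node (.leaf 4625) (.leaf 0))))) (.node (.node (.node (.node (.leaf 476) (.leaf 5823)) (.node (.leaf 2846) (.leaf 10325))) (.node (.node (.leaf 1605) (.leaf 7675)) (.node (.leaf 4234) (.leaf 0)))) (.node (.node (.node (.leaf 1025) (.leaf 6732)) (.node (.leaf 3529) (.leaf 12574))) (.node (.node (.leaf 2203) (.leaf 8902)) (.node (.leaf 4987) (.leaf 0)))))))) (.node (.node (.node (.node (.node (.node (.node (.leaf 46) (.leaf 5150)) (.node (.leaf 2324) (.leaf 9120))) (.node (.node (.leaf 1128) (.leaf 6900)) (.node (.leaf 3667) (.leaf 13263)))) (.node (.node (.node (.leaf 576) (.leaf 5969)) (.node (.leaf 2974) (.leaf 10639))) (.node (.node (.leaf 1716) (.leaf 7911)) (.node (.leaf 4377) (.leaf 0))))) (.node (.node (.node (.node (.leaf 307) (.leaf 5559)) (.node (.leaf 2645) (.leaf 9854))) (.node (.node (.leaf 1420) (.leaf 7378)) (.node (.leaf 4011) (.leaf 0)))) (.node (.node (.node (.leaf 851) (.leaf 6430)) (.node (.leaf 3317) (.leaf 11662))) (.node (.node (.leaf 2017) (.leaf 8476)) (.node (.leaf 4761) (.leaf 0)))))) (.node (.node (.node (.node (.node (.leaf 176) (.leaf 5347)) (.node (.leaf 2483) (.leaf 9474)))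 (.node (.node (.leaf 1275) (.leaf 7137)) (.node (.leaf 3834) (.leaf 14592)))) (.node (.node (.node (.leaf 712) (.leaf 6185)) (.node (.leaf 3138) (.leaf 11174))) (.node (.node (.leaf 1868) (.leaf 8176)) (.node (.leaf 4577) (.leaf 0))))) (.node (.node (.node (.node (.leaf 441) (.leaf 5753)) (.node (.leaf 2801) (.leaf 10220))) (.node (.node (.leaf 1569) (.leaf 7615)) (.node (.leaf 4191) (.leaf 0)))) (.node (.node (.node (.leaf 991) (.leaf 6658)) (.node (.leaf 3486) (.leaf 12363))) (.node (.node (.leaf 2168) (.leaf 8797)) (.node (.leaf 4944) (.leaf 0))))))) (.node (.node (.node (.node (.node (.node (.leaf 111) (.leaf 5239)) (.node (.leaf 2408) (.leaf 9283))) (.node (.node (.leaf 1200) (.leaf 7008)) (.node (.leaf 3750) (.leaf 13743)))) (.node (.node (.node (.leaf 644) (.leaf 6080)) (.node (.leaf 3054) (.leaf 10879))) (.node (.node (.leaf 1793) (.leaf 8043)) (.node (.leaf 4480) (.leaf 0))))) (.node (.node (.node (.node (.leaf 374) (.leaf 5662)) (.node (.leaf 2721) (.leaf 10026))) (.node (.node (.leaf 1492) (.leaf 7495)) (.node (.leaf 4111) (.leaf 0)))) (.node (.node (.node (.leaf 921) (.leaf 6527)) (.node (.leaf 3406) (.leaf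 11992))) (.node (.node (.leaf 2093) (.leaf 8613)) (.node (.leaf 4850) (.leaf 0)))))) (.node (.node (.node (.node (.node (.leaf 241) (.leaf 5458)) (.node (.leaf 2561) (.leaf 9663))) (.node (.node (.leaf 1344) (.leaf 7253)) (.node (.leaf 3919) (.leaf 0)))) (.node (.node (.node (.leaf 783) (.leaf 6303)) (.node (.leaf 3229) (.leaf 11422))) (.node (.node (.leaf 1944) (.leaf 8301)) (.node (.leaf 4671) (.leaf 0))))) (.node (.node (.node (.node (.leaf 509) (.leaf 5872)) (.node (.leaf 2894) (.leaf 10444))) (.node (.node (.leaf 1642) (.leaf 7759)) (.node (.leaf 4289) (.leaf 0)))) (.node (.node (.node (.leaf 1061) (.leaf 6786)) (.node (.leaf 3577) (.leaf 12743))) (.node (.node (.leaf 2245) (.leaf 8985)) (.node (.leaf 5042) (.leaf 0))))))))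

def hpT16 : NT := .node (.node (.node (.node (.node (.node (.node (.node (.leaf 15) (.leaf 5093)) (.node (.leaf 2285) (.leaf 9057))) (.node (.node (.leaf 1096) (.leaf 6843)) (.node (.leaf 3628) (.leaf 12950)))) (.node (.node (.node (.leaf 542) (.leaf 5916)) (.node (.leaf 2935) (.leaf 10550))) (.node (.node (.leaf 1683) (.leaf 7840)) (.node (.leaf 4335) (.leaf 0))))) (.node (.node (.node (.node (.leaf 275) (.leaf 5506)) (.node (.leaf 2604) (.leaf 9775))) (.node (.node (.leaf 1385) (.leaf 7307)) (.node (.leaf 3969) (.leaf 0)))) (.node (.node (.node (.leaf 817) (.leaf 6369)) (.node (.leaf 3275) (.leaf 11561))) (.node (.node (.leaf 1982) (.leaf 8407)) (.node (.leaf 4723) (.leaf 0)))))) (.node (.node (.node (.node (.node (.leaf 144) (.leaf 5295)) (.node (.leaf 2447) (.leaf 9375))) (.node (.node (.leaf 1239) (.leaf 7071)) (.node (.leaf 3792) (.leaf 14101)))) (.node (.node (.node (.leaf 679) (.leaf 6131)) (.node (.leaf 3100) (.leaf 11034))) (.node (.node (.leaf 1835) (.leaf 8109)) (.node (.leaf 4529) (.leaf 0))))) (.node (.node (.node (.node (.leaf 408) (.leaf 5705)) (.node (.leaf 2765) (.leaf 10143))) (.node (.node (.leaf 1534)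 (.leaf 7563)) (.node (.leaf 4154) (.leaf 0)))) (.node (.node (.node (.leaf 958) (.leaf 6600)) (.node (.leaf 3449) (.leaf 12171))) (.node (.node (.leaf 2135) (.leaf 8710)) (.node (.leaf 4899) (.leaf 0))))))) (.node (.node (.node (.node (.node (.node (.leaf 79) (.leaf 5198)) (.node (.leaf 2366) (.leaf 9208))) (.node (.node (.leaf 1166) (.leaf 6951)) (.node (.leaf 3708) (.leaf 13456)))) (.node (.node (.node (.leaf 611) (.leaf 6023)) (.node (.leaf 3013) (.leaf 10741))) (.node (.node (.leaf 1755) (.leaf 7974)) (.node (.leaf 4427) (.leaf 0))))) (.node (.node (.node (.node (.leaf 340) (.leaf 5611)) (.node (.leaf 2687) (.leaf 9953))) (.node (.node (.leaf 1456) (.leaf 7440)) (.node (.leaf 4065) (.leaf 0)))) (.node (.node (.node (.leaf 886) (.leaf 6472)) (.node (.leaf 3366) (.leaf 11810))) (.node (.node (.leaf 2055) (.leaf 8540)) (.node (.leaf 4811) (.leaf 0)))))) (.node (.node (.node (.node (.node (.leaf 209) (.leaf 5406)) (.node (.leaf 2525) (.leaf 9558))) (.node (.node (.leaf 1310) (.leaf 7202)) (.node (.leaf 3876) (.leaf 0)))) (.node (.node (.node (.leaf 749) (.leaf 6244)) (.node (.leaf 3188) (.leaf 11281))) (.node (.node (.leaf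 1905) (.leaf 8239)) (.node (.leaf 4629) (.leaf 0))))) (.node (.node (.node (.node (.leaf 477) (.leaf 5824)) (.node (.leaf 2847) (.leaf 10329))) (.node (.node (.leaf 1606) (.leaf 7676)) (.node (.leaf 4235) (.leaf 0)))) (.node (.node (.node (.leaf 1026) (.leaf 6733)) (.node (.leaf 3530) (.leaf 12587))) (.node (.node (.leaf 2204) (.leaf 8904)) (.node (.leaf 4989) (.leaf 0)))))))) (.node (.node (.node (.node (.node (.node (.node (.leaf 47) (.leaf 5152)) (.node (.leaf 2326) (.leaf 9121))) (.node (.node (.leaf 1129) (.leaf 6901)) (.node (.leaf 3668) (.leaf 13267)))) (.node (.node (.node (.leaf 577) (.leaf 5971)) (.node (.leaf 2975) (.leaf 10641))) (.node (.node (.leaf 1718) (.leaf 7912)) (.node (.leaf 4383) (.leaf 0))))) (.node (.node (.node (.node (.leaf 308) (.leaf 5561)) (.node (.leaf 2646) (.leaf 9857))) (.node (.node (.leaf 1422) (.leaf 7380)) (.node (.leaf 4012) (.leaf 0)))) (.node (.node (.node (.leaf 852) (.leaf 6431)) (.node (.leaf 3319) (.leaf 11665))) (.node (.node (.leaf 2018) (.leaf 8478)) (.node (.leaf 4762) (.leaf 0)))))) (.node (.node (.node (.node (.node (.leaf 177) (.leaf 5348)) (.node (.leaf 2485) (.leaf 9477)))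 (.node (.node (.leaf 1276) (.leaf 7138)) (.node (.leaf 3838) (.leaf 0)))) (.node (.node (.node (.leaf 713) (.leaf 6186)) (.node (.leaf 3139) (.leaf 11177))) (.node (.node (.leaf 1870) (.leaf 8177)) (.node (.leaf 4579) (.leaf 0))))) (.node (.node (.node (.node (.leaf 442) (.leaf 5754)) (.node (.leaf 2802) (.leaf 10221))) (.node (.node (.leaf 1570) (.leaf 7616)) (.node (.leaf 4193) (.leaf 0)))) (.node (.node (.node (.leaf 992) (.leaf 6660)) (.node (.leaf 3487) (.leaf 12365))) (.node (.node (.leaf 2169) (.leaf 8799)) (.node (.leaf 4945) (.leaf 0))))))) (.node (.node (.node (.node (.node (.node (.leaf 112) (.leaf 5240)) (.node (.leaf 2410) (.leaf 9284))) (.node (.node (.leaf 1201) (.leaf 7009)) (.node (.leaf 3751) (.leaf 13747)))) (.node (.node (.node (.leaf 645) (.leaf 6082)) (.node (.leaf 3055) (.leaf 10883))) (.node (.node (.leaf 1794) (.leaf 8045)) (.node (.leaf 4481) (.leaf 0))))) (.node (.node (.node (.node (.leaf 375) (.leaf 5664)) (.node (.leaf 2722) (.leaf 10028))) (.node (.node (.leaf 1494) (.leaf 7496)) (.node (.leaf 4112) (.leaf 0)))) (.node (.node (.node (.leaf 923) (.leaf 6528)) (.node (.leaf 3407) (.leaf 12003)))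 (.node (.node (.leaf 2095) (.leaf 8614)) (.node (.leaf 4851) (.leaf 0)))))) (.node (.node (.node (.node (.node (.leaf 242) (.leaf 5460)) (.node (.leaf 2562) (.leaf 9681))) (.node (.node (.leaf 1345) (.leaf 7254)) (.node (.leaf 3921) (.leaf 0)))) (.node (.node (.node (.leaf 784) (.leaf 6305)) (.node (.leaf 3230) (.leaf 11429))) (.node (.node (.leaf 1945) (.leaf 8303)) (.node (.leaf 4672) (.leaf 0))))) (.node (.node (.node (.node (.leaf 510) (.leaf 5873)) (.node (.leaf 2896) (.leaf 10449))) (.node (.node (.leaf 1643) (.leaf 7760)) (.node (.leaf 4290) (.leaf 0)))) (.node (.node (.node (.leaf 1062) (.leaf 6787)) (.node (.leaf 3578) (.leaf 12751))) (.node (.node (.leaf 2246) (.leaf 8988)) (.node (.leaf 5045) (.leaf 0))))))))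

def hpT17 : NT := .node (.node (.node (.node (.node (.node (.node (.node (.leaf 16) (.leaf 5096)) (.node (.leaf 2286) (.leaf 9059))) (.node (.node (.leaf 1097) (.leaf 6846)) (.node (.leaf 3629) (.leaf 12951)))) (.node (.node (.node (.leaf 543) (.leaf 5917)) (.node (.leaf 2936) (.leaf 10553))) (.node (.node (.leaf 1684) (.leaf 7842)) (.node (.leaf 4336) (.leaf 0))))) (.node (.node (.node (.node (.leaf 276) (.leaf 5507)) (.node (.leaf 2605) (.leaf 9777))) (.node (.node (.leaf 1386) (.leaf 7309)) (.node (.leaf 3970) (.leaf 0)))) (.node (.node (.node (.leaf 818) (.leaf 6370)) (.node (.leaf 3276) (.leaf 11570))) (.node (.node (.leaf 1983) (.leaf 8409)) (.node (.leaf 4724) (.leaf 0)))))) (.node (.node (.node (.node (.node (.leaf 145) (.leaf 5297)) (.node (.leaf 2448) (.leaf 9379))) (.node (.node (.leaf 1240) (.leaf 7072)) (.node (.leaf 3793) (.leaf 14113)))) (.node (.node (.node (.leaf 680) (.leaf 6133)) (.node (.leaf 3101) (.leaf 11036))) (.node (.node (.leaf 1836) (.leaf 8110)) (.node (.leaf 4530) (.leaf 0))))) (.node (.node (.node (.node (.leaf 409) (.leaf 5707)) (.node (.leaf 2767) (.leaf 10151))) (.node (.node (.leaf 1535)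 (.leaf 7565)) (.node (.leaf 4155) (.leaf 0)))) (.node (.node (.node (.leaf 960) (.leaf 6601)) (.node (.leaf 3450) (.leaf 12177))) (.node (.node (.leaf 2136) (.leaf 8718)) (.node (.leaf 4901) (.leaf 0))))))) (.node (.node (.node (.node (.node (.node (.leaf 80) (.leaf 5199)) (.node (.leaf 2369) (.leaf 9211))) (.node (.node (.leaf 1167) (.leaf 6952)) (.node (.leaf 3709) (.leaf 13457)))) (.node (.node (.node (.leaf 612) (.leaf 6024)) (.node (.leaf 3016) (.leaf 10756))) (.node (.node (.leaf 1756) (.leaf 7975)) (.node (.leaf 4428) (.leaf 0))))) (.node (.node (.node (.node (.leaf 341) (.leaf 5612)) (.node (.leaf 2688) (.leaf 9954))) (.node (.node (.leaf 1457) (.leaf 7442)) (.node (.leaf 4066) (.leaf 0)))) (.node (.node (.node (.leaf 887) (.leaf 6473)) (.node (.leaf 3368) (.leaf 11816))) (.node (.node (.leaf 2056) (.leaf 8546)) (.node (.leaf 4812) (.leaf 0)))))) (.node (.node (.node (.node (.node (.leaf 210) (.leaf 5407)) (.node (.leaf 2527) (.leaf 9563))) (.node (.node (.leaf 1311) (.leaf 7204)) (.node (.leaf 3877) (.leaf 0)))) (.node (.node (.node (.leaf 750) (.leaf 6245)) (.node (.leaf 3189) (.leaf 11284))) (.node (.node (.leaf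 1906) (.leaf 8240)) (.node (.leaf 4631) (.leaf 0))))) (.node (.node (.node (.node (.leaf 478) (.leaf 5825)) (.node (.leaf 2848) (.leaf 10335))) (.node (.node (.leaf 1607) (.leaf 7677)) (.node (.leaf 4236) (.leaf 0)))) (.node (.node (.node (.leaf 1027) (.leaf 6734)) (.node (.leaf 3531) (.leaf 12592))) (.node (.node (.leaf 2205) (.leaf 8911)) (.node (.leaf 4991) (.leaf 0)))))))) (.node (.node (.node (.node (.node (.node (.node (.leaf 48) (.leaf 5153)) (.node (.leaf 2327) (.leaf 9123))) (.node (.node (.leaf 1130) (.leaf 6902)) (.node (.leaf 3669) (.leaf 13271)))) (.node (.node (.node (.leaf 578) (.leaf 5975)) (.node (.leaf 2976) (.leaf 10642))) (.node (.node (.leaf 1719) (.leaf 7913)) (.node (.leaf 4384) (.leaf 0))))) (.node (.node (.node (.node (.leaf 309) (.leaf 5563)) (.node (.leaf 2647) (.leaf 9859))) (.node (.node (.leaf 1423) (.leaf 7381)) (.node (.leaf 4014) (.leaf 0)))) (.node (.node (.node (.leaf 853) (.leaf 6432)) (.node (.leaf 3320) (.leaf 11669))) (.node (.node (.leaf 2019) (.leaf 8479)) (.node (.leaf 4763) (.leaf 0)))))) (.node (.node (.node (.node (.node (.leaf 178) (.leaf 5349)) (.node (.leaf 2486) (.leaf 9481)))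 (.node (.node (.leaf 1277) (.leaf 7139)) (.node (.leaf 3839) (.leaf 0)))) (.node (.node (.node (.leaf 714) (.leaf 6188)) (.node (.leaf 3142) (.leaf 11178))) (.node (.node (.leaf 1871) (.leaf 8179)) (.node (.leaf 4581) (.leaf 0))))) (.node (.node (.node (.node (.leaf 443) (.leaf 5755)) (.node (.leaf 2803) (.leaf 10222))) (.node (.node (.leaf 1571) (.leaf 7617)) (.node (.leaf 4194) (.leaf 0)))) (.node (.node (.node (.leaf 993) (.leaf 6661)) (.node (.leaf 3488) (.leaf 12366))) (.node (.node (.leaf 2170) (.leaf 8801)) (.node (.leaf 4947) (.leaf 0))))))) (.node (.node (.node (.node (.node (.node (.leaf 113) (.leaf 5241)) (.node (.leaf 2411) (.leaf 9285))) (.node (.node (.leaf 1202) (.leaf 7011)) (.node (.leaf 3753) (.leaf 13749)))) (.node (.node (.node (.leaf 646) (.leaf 6083)) (.node (.leaf 3058) (.leaf 10884))) (.node (.node (.leaf 1795) (.leaf 8047)) (.node (.leaf 4483) (.leaf 0))))) (.node (.node (.node (.node (.leaf 376) (.leaf 5665)) (.node (.leaf 2723) (.leaf 10029))) (.node (.node (.leaf 1495) (.leaf 7497)) (.node (.leaf 4113) (.leaf 0)))) (.node (.node (.node (.leaf 924) (.leaf 6531)) (.node (.leaf 3408) (.leaf 12005)))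 (.node (.node (.leaf 2096) (.leaf 8615)) (.node (.leaf 4852) (.leaf 0)))))) (.node (.node (.node (.node (.node (.leaf 244) (.leaf 5464)) (.node (.leaf 2563) (.leaf 9682))) (.node (.node (.leaf 1346) (.leaf 7255)) (.node (.leaf 3923) (.leaf 0)))) (.node (.node (.node (.leaf 785) (.leaf 6306)) (.node (.leaf 3231) (.leaf 11436))) (.node (.node (.leaf 1947) (.leaf 8304)) (.node (.leaf 4673) (.leaf 0))))) (.node (.node (.node (.node (.leaf 511) (.leaf 5874)) (.node (.leaf 2897) (.leaf 10456))) (.node (.node (.leaf 1644) (.leaf 7762)) (.node (.leaf 4291) (.leaf 0)))) (.node (.node (.node (.leaf 1063) (.leaf 6792)) (.node (.leaf 3579) (.leaf 12763))) (.node (.node (.leaf 2247) (.leaf 8989)) (.node (.leaf 5046) (.leaf 0))))))))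

def hpT18 : NT := .node (.node (.node (.node (.node (.node (.node (.node (.leaf 17) (.leaf 5100)) (.node (.leaf 2287) (.leaf 9060))) (.node (.node (.leaf 1098) (.leaf 6847)) (.node (.leaf 3630) (.leaf 12959)))) (.node (.node (.node (.leaf 545) (.leaf 5919)) (.node (.leaf 2937) (.leaf 10554))) (.node (.node (.leaf 1685) (.leaf 7844)) (.node (.leaf 4337) (.leaf 0))))) (.node (.node (.node (.node (.leaf 277) (.leaf 5509)) (.node (.leaf 2607) (.leaf 9781))) (.node (.node (.leaf 1387) (.leaf 7311)) (.node (.leaf 3971) (.leaf 0)))) (.node (.node (.node (.leaf 819) (.leaf 6372)) (.node (.leaf 3277) (.leaf 11572))) (.node (.node (.leaf 1984) (.leaf 8411)) (.node (.leaf 4725) (.leaf 0)))))) (.node (.node (.node (.node (.node (.leaf 146) (.leaf 5301)) (.node (.leaf 2449) (.leaf 9382))) (.node (.node (.leaf 1242) (.leaf 7073)) (.node (.leaf 3794) (.leaf 14119)))) (.node (.node (.node (.leaf 681) (.leaf 6135)) (.node (.leaf 3103) (.leaf 11046))) (.node (.node (.leaf 1837) (.leaf 8117)) (.node (.leaf 4531) (.leaf 0))))) (.node (.node (.node (.node (.leaf 410) (.leaf 5709)) (.node (.leaf 2768) (.leaf 10154))) (.node (.node (.leaf 1536)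 (.leaf 7566)) (.node (.leaf 4157) (.leaf 0)))) (.node (.node (.node (.leaf 961) (.leaf 6602)) (.node (.leaf 3451) (.leaf 12185))) (.node (.node (.leaf 2137) (.leaf 8723)) (.node (.leaf 4903) (.leaf 0))))))) (.node (.node (.node (.node (.node (.node (.leaf 81) (.leaf 5200)) (.node (.leaf 2371) (.leaf 9215))) (.node (.node (.leaf 1168) (.leaf 6954)) (.node (.leaf 3710) (.leaf 13470)))) (.node (.node (.node (.leaf 613) (.leaf 6025)) (.node (.leaf 3017) (.leaf 10759))) (.node (.node (.leaf 1757) (.leaf 7977)) (.node (.leaf 4429) (.leaf 0))))) (.node (.node (.node (.node (.leaf 342) (.leaf 5613)) (.node (.leaf 2690) (.leaf 9960))) (.node (.node (.leaf 1458) (.leaf 7444)) (.node (.leaf 4067) (.leaf 0)))) (.node (.node (.node (.leaf 888) (.leaf 6475)) (.node (.leaf 3369) (.leaf 11820))) (.node (.node (.leaf 2057) (.leaf 8549)) (.node (.leaf 4813) (.leaf 0)))))) (.node (.node (.node (.node (.node (.leaf 211) (.leaf 5413)) (.node (.leaf 2528) (.leaf 9565))) (.node (.node (.leaf 1312) (.leaf 7206)) (.node (.leaf 3878) (.leaf 0)))) (.node (.node (.node (.leaf 752) (.leaf 6246)) (.node (.leaf 3190) (.leaf 11285))) (.node (.node (.leaf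 1908) (.leaf 8241)) (.node (.leaf 4633) (.leaf 0))))) (.node (.node (.node (.node (.leaf 479) (.leaf 5827)) (.node (.leaf 2850) (.leaf 10342))) (.node (.node (.leaf 1608) (.leaf 7683)) (.node (.leaf 4237) (.leaf 0)))) (.node (.node (.node (.leaf 1028) (.leaf 6736)) (.node (.leaf 3534) (.leaf 12593))) (.node (.node (.leaf 2207) (.leaf 8913)) (.node (.leaf 4993) (.leaf 0)))))))) (.node (.node (.node (.node (.node (.node (.node (.leaf 49) (.leaf 5154)) (.node (.leaf 2328) (.leaf 9124))) (.node (.node (.leaf 1131) (.leaf 6903)) (.node (.leaf 3670) (.leaf 13272)))) (.node (.node (.node (.leaf 579) (.leaf 5977)) (.node (.leaf 2978) (.leaf 10643))) (.node (.node (.leaf 1720) (.leaf 7915)) (.node (.leaf 4386) (.leaf 0))))) (.node (.node (.node (.node (.leaf 310) (.leaf 5564)) (.node (.leaf 2650) (.leaf 9869))) (.node (.node (.leaf 1424) (.leaf 7382)) (.node (.leaf 4015) (.leaf 0)))) (.node (.node (.node (.leaf 854) (.leaf 6433)) (.node (.leaf 3321) (.leaf 11673))) (.node (.node (.leaf 2020) (.leaf 8484)) (.node (.leaf 4766) (.leaf 0)))))) (.node (.node (.node (.node (.node (.leaf 179) (.leaf 5351)) (.node (.leaf 2488) (.leaf 9483)))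 (.node (.node (.leaf 1278) (.leaf 7141)) (.node (.leaf 3840) (.leaf 0)))) (.node (.node (.node (.leaf 715) (.leaf 6190)) (.node (.leaf 3143) (.leaf 11180))) (.node (.node (.leaf 1872) (.leaf 8181)) (.node (.leaf 4582) (.leaf 0))))) (.node (.node (.node (.node (.leaf 444) (.leaf 5763)) (.node (.leaf 2804) (.leaf 10223))) (.node (.node (.leaf 1572) (.leaf 7618)) (.node (.leaf 4195) (.leaf 0)))) (.node (.node (.node (.leaf 994) (.leaf 6663)) (.node (.leaf 3489) (.leaf 12375))) (.node (.node (.leaf 2171) (.leaf 8805)) (.node (.leaf 4948) (.leaf 0))))))) (.node (.node (.node (.node (.node (.node (.leaf 114) (.leaf 5243)) (.node (.leaf 2413) (.leaf 9286))) (.node (.node (.leaf 1203) (.leaf 7012)) (.node (.leaf 3754) (.leaf 13762)))) (.node (.node (.node (.leaf 647) (.leaf 6086)) (.node (.leaf 3059) (.leaf 10888))) (.node (.node (.leaf 1797) (.leaf 8048)) (.node (.leaf 4485) (.leaf 0))))) (.node (.node (.node (.node (.leaf 377) (.leaf 5666)) (.node (.leaf 2726) (.leaf 10032))) (.node (.node (.leaf 1496) (.leaf 7498)) (.node (.leaf 4114) (.leaf 0)))) (.node (.node (.node (.leaf 925) (.leaf 6537)) (.node (.leaf 3409) (.leaf 12008)))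 (.node (.node (.leaf 2097) (.leaf 8617)) (.node (.leaf 4855) (.leaf 0)))))) (.node (.node (.node (.node (.node (.leaf 245) (.leaf 5465)) (.node (.leaf 2565) (.leaf 9690))) (.node (.node (.leaf 1347) (.leaf 7259)) (.node (.leaf 3925) (.leaf 0)))) (.node (.node (.node (.leaf 787) (.leaf 6307)) (.node (.leaf 3233) (.leaf 11440))) (.node (.node (.leaf 1948) (.leaf 8311)) (.node (.leaf 4675) (.leaf 0))))) (.node (.node (.node (.node (.leaf 512) (.leaf 5875)) (.node (.leaf 2898) (.leaf 10459))) (.node (.node (.leaf 1645) (.leaf 7766)) (.node (.leaf 4292) (.leaf 0)))) (.node (.node (.node (.leaf 1064) (.leaf 6793)) (.node (.leaf 3581) (.leaf 12786))) (.node (.node (.leaf 2248) (.leaf 8991)) (.node (.leaf 5047) (.leaf 0))))))))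

def hpT19 : NT := .node (.node (.node (.node (.node (.node (.node (.node (.leaf 18) (.leaf 5101)) (.node (.leaf 2289) (.leaf 9063))) (.node (.node (.leaf 1099) (.leaf 6849)) (.node (.leaf 3631) (.leaf 12968)))) (.node (.node (.node (.leaf 546) (.leaf 5921)) (.node (.leaf 2938) (.leaf 10555))) (.node (.node (.leaf 1686) (.leaf 7845)) (.node (.leaf 4339) (.leaf 0))))) (.node (.node (.node (.node (.leaf 278) (.leaf 5510)) (.node (.leaf 2610) (.leaf 9783))) (.node (.node (.leaf 1388) (.leaf 7312)) (.node (.leaf 3972) (.leaf 0)))) (.node (.node (.node (.leaf 820) (.leaf 6373)) (.node (.leaf 3279) (.leaf 11573))) (.node (.node (.leaf 1985) (.leaf 8414)) (.node (.leaf 4728) (.leaf 0)))))) (.node (.node (.node (.node (.node (.leaf 147) (.leaf 5304)) (.node (.leaf 2451) (.leaf 9383))) (.node (.node (.leaf 1243) (.leaf 7074)) (.node (.leaf 3796) (.leaf 14123)))) (.node (.node (.node (.leaf 682) (.leaf 6137)) (.node (.leaf 3104) (.leaf 11051))) (.node (.node (.leaf 1838) (.leaf 8119)) (.node (.leaf 4532) (.leaf 0))))) (.node (.node (.node (.node (.leaf 411) (.leaf 5710)) (.node (.leaf 2769) (.leaf 10157))) (.node (.node (.leaf 1537)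 (.leaf 7567)) (.node (.leaf 4158) (.leaf 0)))) (.node (.node (.node (.leaf 962) (.leaf 6603)) (.node (.leaf 3452) (.leaf 12187))) (.node (.node (.leaf 2138) (.leaf 8730)) (.node (.leaf 4905) (.leaf 0))))))) (.node (.node (.node (.node (.node (.node (.leaf 82) (.leaf 5201)) (.node (.leaf 2375) (.leaf 9218))) (.node (.node (.leaf 1169) (.leaf 6955)) (.node (.leaf 3711) (.leaf 13480)))) (.node (.node (.node (.leaf 614) (.leaf 6026)) (.node (.leaf 3018) (.leaf 10760))) (.node (.node (.leaf 1759) (.leaf 7981)) (.node (.leaf 4431) (.leaf 0))))) (.node (.node (.node (.node (.leaf 344) (.leaf 5614)) (.node (.leaf 2691) (.leaf 9962))) (.node (.node (.leaf 1460) (.leaf 7445)) (.node (.leaf 4069) (.leaf 0)))) (.node (.node (.node (.leaf 889) (.leaf 6476)) (.node (.leaf 3370) (.leaf 11821))) (.node (.node (.leaf 2058) (.leaf 8550)) (.node (.leaf 4814) (.leaf 0)))))) (.node (.node (.node (.node (.node (.leaf 212) (.leaf 5414)) (.node (.leaf 2529) (.leaf 9567))) (.node (.node (.leaf 1313) (.leaf 7208)) (.node (.leaf 3882) (.leaf 0)))) (.node (.node (.node (.leaf 753) (.leaf 6248)) (.node (.leaf 3191) (.leaf 11286))) (.node (.node (.leaf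 1909) (.leaf 8243)) (.node (.leaf 4634) (.leaf 0))))) (.node (.node (.node (.node (.leaf 480) (.leaf 5828)) (.node (.leaf 2852) (.leaf 10344))) (.node (.node (.leaf 1609) (.leaf 7684)) (.node (.leaf 4238) (.leaf 0)))) (.node (.node (.node (.leaf 1029) (.leaf 6737)) (.node (.leaf 3535) (.leaf 12598))) (.node (.node (.leaf 2208) (.leaf 8914)) (.node (.leaf 4994) (.leaf 0)))))))) (.node (.node (.node (.node (.node (.node (.node (.leaf 50) (.leaf 5155)) (.node (.leaf 2329) (.leaf 9125))) (.node (.node (.leaf 1133) (.leaf 6904)) (.node (.leaf 3671) (.leaf 13281)))) (.node (.node (.node (.leaf 580) (.leaf 5978)) (.node (.leaf 2979) (.leaf 10645))) (.node (.node (.leaf 1722) (.leaf 7916)) (.node (.leaf 4387) (.leaf 0))))) (.node (.node (.node (.node (.leaf 311) (.leaf 5566)) (.node (.leaf 2651) (.leaf 9872))) (.node (.node (.leaf 1425) (.leaf 7383)) (.node (.leaf 4017) (.leaf 0)))) (.node (.node (.node (.leaf 855) (.leaf 6434)) (.node (.leaf 3323) (.leaf 11677))) (.node (.node (.leaf 2022) (.leaf 8485)) (.node (.leaf 4767) (.leaf 0)))))) (.node (.node (.node (.node (.node (.leaf 180) (.leaf 5357)) (.node (.leaf 2489) (.leaf 9485)))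 (.node (.node (.leaf 1279) (.leaf 7142)) (.node (.leaf 3842) (.leaf 0)))) (.node (.node (.node (.leaf 716) (.leaf 6191)) (.node (.leaf 3147) (.leaf 11182))) (.node (.node (.leaf 1873) (.leaf 8182)) (.node (.leaf 4583) (.leaf 0))))) (.node (.node (.node (.node (.leaf 445) (.leaf 5765)) (.node (.leaf 2805) (.leaf 10224))) (.node (.node (.leaf 1573) (.leaf 7621)) (.node (.leaf 4196) (.leaf 0)))) (.node (.node (.node (.leaf 996) (.leaf 6666)) (.node (.leaf 3490) (.leaf 12377))) (.node (.node (.leaf 2172) (.leaf 8819)) (.node (.leaf 4949) (.leaf 0))))))) (.node (.node (.node (.node (.node (.node (.leaf 115) (.leaf 5245)) (.node (.leaf 2414) (.leaf 9291))) (.node (.node (.leaf 1205) (.leaf 7013)) (.node (.leaf 3755) (.leaf 13804)))) (.node (.node (.node (.leaf 648) (.leaf 6087)) (.node (.leaf 3061) (.leaf 10889))) (.node (.node (.leaf 1799) (.leaf 8049)) (.node (.leaf 4486) (.leaf 0))))) (.node (.node (.node (.node (.leaf 378) (.leaf 5667)) (.node (.leaf 2729) (.leaf 10040))) (.node (.node (.leaf 1497) (.leaf 7500)) (.node (.leaf 4115) (.leaf 0)))) (.node (.node (.node (.leaf 926) (.leaf 6538)) (.node (.leaf 3410) (.leaf 12016)))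 (.node (.node (.leaf 2099) (.leaf 8619)) (.node (.leaf 4856) (.leaf 0)))))) (.node (.node (.node (.node (.node (.leaf 246) (.leaf 5468)) (.node (.leaf 2566) (.leaf 9698))) (.node (.node (.leaf 1348) (.leaf 7261)) (.node (.leaf 3926) (.leaf 0)))) (.node (.node (.node (.leaf 788) (.leaf 6309)) (.node (.leaf 3234) (.leaf 11441))) (.node (.node (.leaf 1949) (.leaf 8312)) (.node (.leaf 4676) (.leaf 0))))) (.node (.node (.node (.node (.leaf 513) (.leaf 5876)) (.node (.leaf 2899) (.leaf 10462))) (.node (.node (.leaf 1646) (.leaf 7777)) (.node (.leaf 4296) (.leaf 0)))) (.node (.node (.node (.leaf 1065) (.leaf 6794)) (.node (.leaf 3583) (.leaf 12792))) (.node (.node (.leaf 2249) (.leaf 8993)) (.node (.leaf 5049) (.leaf 0))))))))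

def hpT20 : NT := .node (.node (.node (.node (.node (.node (.node (.node (.leaf 19) (.leaf 5104)) (.node (.leaf 2290) (.leaf 9065))) (.node (.node (.leaf 1100) (.leaf 6850)) (.node (.leaf 3632) (.leaf 12971)))) (.node (.node (.node (.leaf 547) (.leaf 5927)) (.node (.leaf 2940) (.leaf 10561))) (.node (.node (.leaf 1687) (.leaf 7849)) (.node (.leaf 4341) (.leaf 0))))) (.node (.node (.node (.node (.leaf 279) (.leaf 5511)) (.node (.leaf 2611) (.leaf 9784))) (.node (.node (.leaf 1389) (.leaf 7313)) (.node (.leaf 3973) (.leaf 0)))) (.node (.node (.node (.leaf 821) (.leaf 6376)) (.node (.leaf 3280) (.leaf 11577))) (.node (.node (.leaf 1986) (.leaf 8419)) (.node (.leaf 4729) (.leaf 0)))))) (.node (.node (.node (.node (.node (.leaf 148) (.leaf 5305)) (.node (.leaf 2452) (.leaf 9385))) (.node (.node (.leaf 1244) (.leaf 7077)) (.node (.leaf 3797) (.leaf 14125)))) (.node (.node (.node (.leaf 683) (.leaf 6139)) (.node (.leaf 3105) (.leaf 11056))) (.node (.node (.leaf 1839) (.leaf 8121)) (.node (.leaf 4533) (.leaf 0))))) (.node (.node (.node (.node (.leaf 412) (.leaf 5712)) (.node (.leaf 2770) (.leaf 10160))) (.node (.node (.leaf 1538)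 (.leaf 7571)) (.node (.leaf 4159) (.leaf 0)))) (.node (.node (.node (.leaf 963) (.leaf 6605)) (.node (.leaf 3453) (.leaf 12201))) (.node (.node (.leaf 2139) (.leaf 8731)) (.node (.leaf 4906) (.leaf 0))))))) (.node (.node (.node (.node (.node (.node (.leaf 83) (.leaf 5202)) (.node (.leaf 2376) (.leaf 9222))) (.node (.node (.leaf 1170) (.leaf 6957)) (.node (.leaf 3713) (.leaf 13484)))) (.node (.node (.node (.leaf 616) (.leaf 6029)) (.node (.leaf 3019) (.leaf 10767))) (.node (.node (.leaf 1760) (.leaf 7983)) (.node (.leaf 4433) (.leaf 0))))) (.node (.node (.node (.node (.leaf 345) (.leaf 5615)) (.node (.leaf 2692) (.leaf 9963))) (.node (.node (.leaf 1461) (.leaf 7446)) (.node (.leaf 4072) (.leaf 0)))) (.node (.node (.node (.leaf 890) (.leaf 6479)) (.node (.leaf 3371) (.leaf 11822))) (.node (.node (.leaf 2059) (.leaf 8551)) (.node (.leaf 4816) (.leaf 0)))))) (.node (.node (.node (.node (.node (.leaf 213) (.leaf 5417)) (.node (.leaf 2530) (.leaf 9569))) (.node (.node (.leaf 1314) (.leaf 7209)) (.node (.leaf 3884) (.leaf 0)))) (.node (.node (.node (.leaf 755) (.leaf 6249)) (.node (.leaf 3193) (.leaf 11297))) (.node (.node (.leaf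 1912) (.leaf 8247)) (.node (.leaf 4636) (.leaf 0))))) (.node (.node (.node (.node (.leaf 481) (.leaf 5829)) (.node (.leaf 2853) (.leaf 10350))) (.node (.node (.leaf 1610) (.leaf 7688)) (.node (.leaf 4242) (.leaf 0)))) (.node (.node (.node (.leaf 1030) (.leaf 6740)) (.node (.leaf 3536) (.leaf 12614))) (.node (.node (.leaf 2209) (.leaf 8915)) (.node (.leaf 4998) (.leaf 0)))))))) (.node (.node (.node (.node (.node (.node (.node (.leaf 51) (.leaf 5157)) (.node (.leaf 2330) (.leaf 9140))) (.node (.node (.leaf 1134) (.leaf 6906)) (.node (.leaf 3672) (.leaf 13288)))) (.node (.node (.node (.leaf 581) (.leaf 5981)) (.node (.leaf 2980) (.leaf 10649))) (.node (.node (.leaf 1723) (.leaf 7917)) (.node (.leaf 4388) (.leaf 0))))) (.node (.node (.node (.node (.leaf 312) (.leaf 5567)) (.node (.leaf 2652) (.leaf 9877))) (.node (.node (.leaf 1427) (.leaf 7385)) (.node (.leaf 4018) (.leaf 0)))) (.node (.node (.node (.leaf 856) (.leaf 6435)) (.node (.leaf 3324) (.leaf 11681))) (.node (.node (.leaf 2023) (.leaf 8491)) (.node (.leaf 4769) (.leaf 0)))))) (.node (.node (.node (.node (.node (.leaf 181) (.leaf 5358)) (.node (.leaf 2490) (.leaf 9490)))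 (.node (.node (.leaf 1280) (.leaf 7145)) (.node (.leaf 3843) (.leaf 0)))) (.node (.node (.node (.leaf 717) (.leaf 6192)) (.node (.leaf 3148) (.leaf 11183))) (.node (.node (.leaf 1874) (.leaf 8183)) (.node (.leaf 4584) (.leaf 0))))) (.node (.node (.node (.node (.leaf 446) (.leaf 5767)) (.node (.leaf 2808) (.leaf 10225))) (.node (.node (.leaf 1574) (.leaf 7622)) (.node (.leaf 4197) (.leaf 0)))) (.node (.node (.node (.leaf 997) (.leaf 6667)) (.node (.leaf 3491) (.leaf 12378))) (.node (.node (.leaf 2173) (.leaf 8826)) (.node (.leaf 4950) (.leaf 0))))))) (.node (.node (.node (.node (.node (.node (.leaf 116) (.leaf 5246)) (.node (.leaf 2415) (.leaf 9292))) (.node (.node (.leaf 1207) (.leaf 7015)) (.node (.leaf 3756) (.leaf 13815)))) (.node (.node (.node (.leaf 649) (.leaf 6088)) (.node (.leaf 3062) (.leaf 10891))) (.node (.node (.leaf 1800) (.leaf 8051)) (.node (.leaf 4487) (.leaf 0))))) (.node (.node (.node (.node (.leaf 379) (.leaf 5668)) (.node (.leaf 2730) (.leaf 10043))) (.node (.node (.leaf 1498) (.leaf 7501)) (.node (.leaf 4118) (.leaf 0)))) (.node (.node (.node (.leaf 927) (.leaf 6539)) (.node (.leaf 3411) (.leaf 12017)))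 (.node (.node (.leaf 2100) (.leaf 8622)) (.node (.leaf 4858) (.leaf 0)))))) (.node (.node (.node (.node (.node (.leaf 247) (.leaf 5469)) (.node (.leaf 2568) (.leaf 9702))) (.node (.node (.leaf 1349) (.leaf 7262)) (.node (.leaf 3927) (.leaf 0)))) (.node (.node (.node (.leaf 789) (.leaf 6313)) (.node (.leaf 3235) (.leaf 11442))) (.node (.node (.leaf 1951) (.leaf 8314)) (.node (.leaf 4679) (.leaf 0))))) (.node (.node (.node (.node (.leaf 514) (.leaf 5878)) (.node (.leaf 2900) (.leaf 10463))) (.node (.node (.leaf 1648) (.leaf 7778)) (.node (.leaf 4297) (.leaf 0)))) (.node (.node (.node (.leaf 1066) (.leaf 6795)) (.node (.leaf 3585) (.leaf 12793))) (.node (.node (.leaf 2250) (.leaf 8994)) (.node (.leaf 5050) (.leaf 0))))))))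

def hpT21 : NT := .node (.node (.node (.node (.node (.node (.node (.node (.leaf 20) (.leaf 5105)) (.node (.leaf 2291) (.leaf 9066))) (.node (.node (.leaf 1101) (.leaf 6852)) (.node (.leaf 3633) (.leaf 12974)))) (.node (.node (.node (.leaf 548) (.leaf 5928)) (.node (.leaf 2941) (.leaf 10563))) (.node (.node (.leaf 1689) (.leaf 7851)) (.node (.leaf 4343) (.leaf 0))))) (.node (.node (.node (.node (.leaf 280) (.leaf 5512)) (.node (.leaf 2612) (.leaf 9787))) (.node (.node (.leaf 1390) (.leaf 7322)) (.node (.leaf 3976) (.leaf 0)))) (.node (.node (.node (.leaf 822) (.leaf 6377)) (.node (.leaf 3281) (.leaf 11579))) (.node (.node (.leaf 1987) (.leaf 8420)) (.node (.leaf 4730) (.leaf 0)))))) (.node (.node (.node (.node (.node (.leaf 149) (.leaf 5308)) (.node (.leaf 2453) (.leaf 9389))) (.node (.node (.leaf 1245) (.leaf 7081)) (.node (.leaf 3798) (.leaf 14128)))) (.node (.node (.node (.leaf 684) (.leaf 6140)) (.node (.leaf 3106) (.leaf 11069))) (.node (.node (.leaf 1840) (.leaf 8122)) (.node (.leaf 4534) (.leaf 0))))) (.node (.node (.node (.node (.leaf 413) (.leaf 5713)) (.node (.leaf 2771) (.leaf 10163))) (.node (.node (.leaf 1539)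 (.leaf 7573)) (.node (.leaf 4160) (.leaf 0)))) (.node (.node (.node (.leaf 964) (.leaf 6606)) (.node (.leaf 3454) (.leaf 12215))) (.node (.node (.leaf 2140) (.leaf 8738)) (.node (.leaf 4907) (.leaf 0))))))) (.node (.node (.node (.node (.node (.node (.leaf 84) (.leaf 5204)) (.node (.leaf 2377) (.leaf 9225))) (.node (.node (.leaf 1171) (.leaf 6959)) (.node (.leaf 3715) (.leaf 13521)))) (.node (.node (.node (.leaf 617) (.leaf 6033)) (.node (.leaf 3020) (.leaf 10769))) (.node (.node (.leaf 1761) (.leaf 7984)) (.node (.leaf 4436) (.leaf 0))))) (.node (.node (.node (.node (.leaf 346) (.leaf 5618)) (.node (.leaf 2693) (.leaf 9969))) (.node (.node (.leaf 1463) (.leaf 7448)) (.node (.leaf 4075) (.leaf 0)))) (.node (.node (.node (.leaf 891) (.leaf 6480)) (.node (.leaf 3373) (.leaf 11826))) (.node (.node (.leaf 2060) (.leaf 8553)) (.node (.leaf 4817) (.leaf 0)))))) (.node (.node (.node (.node (.node (.leaf 214) (.leaf 5420)) (.node (.leaf 2531) (.leaf 9577))) (.node (.node (.leaf 1315) (.leaf 7210)) (.node (.leaf 3885) (.leaf 0)))) (.node (.node (.node (.leaf 756) (.leaf 6252)) (.node (.leaf 3194) (.leaf 11304))) (.node (.node (.leaf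 1914) (.leaf 8248)) (.node (.leaf 4637) (.leaf 0))))) (.node (.node (.node (.node (.leaf 482) (.leaf 5830)) (.node (.leaf 2854) (.leaf 10361))) (.node (.node (.leaf 1611) (.leaf 7691)) (.node (.leaf 4244) (.leaf 0)))) (.node (.node (.node (.leaf 1031) (.leaf 6741)) (.node (.leaf 3537) (.leaf 12618))) (.node (.node (.leaf 2210) (.leaf 8916)) (.node (.leaf 4999) (.leaf 0)))))))) (.node (.node (.node (.node (.node (.node (.node (.leaf 52) (.leaf 5158)) (.node (.leaf 2331) (.leaf 9141))) (.node (.node (.leaf 1135) (.leaf 6907)) (.node (.leaf 3673) (.leaf 13291)))) (.node (.node (.node (.leaf 582) (.leaf 5982)) (.node (.leaf 2981) (.leaf 10651))) (.node (.node (.leaf 1725) (.leaf 7921)) (.node (.leaf 4389) (.leaf 0))))) (.node (.node (.node (.node (.leaf 313) (.leaf 5569)) (.node (.leaf 2653) (.leaf 9878))) (.node (.node (.leaf 1428) (.leaf 7386)) (.node (.leaf 4020) (.leaf 0)))) (.node (.node (.node (.leaf 857) (.leaf 6436)) (.node (.leaf 3326) (.leaf 11684))) (.node (.node (.leaf 2024) (.leaf 8493)) (.node (.leaf 4770) (.leaf 0)))))) (.node (.node (.node (.node (.node (.leaf 182) (.leaf 5360)) (.node (.leaf 2491) (.leaf 9491)))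 (.node (.node (.leaf 1281) (.leaf 7147)) (.node (.leaf 3844) (.leaf 0)))) (.node (.node (.node (.leaf 718) (.leaf 6194)) (.node (.leaf 3149) (.leaf 11185))) (.node (.node (.leaf 1875) (.leaf 8185)) (.node (.leaf 4585) (.leaf 0))))) (.node (.node (.node (.node (.leaf 447) (.leaf 5768)) (.node (.leaf 2809) (.leaf 10226))) (.node (.node (.leaf 1575) (.leaf 7623)) (.node (.leaf 4199) (.leaf 0)))) (.node (.node (.node (.leaf 998) (.leaf 6668)) (.node (.leaf 3492) (.leaf 12383))) (.node (.node (.leaf 2174) (.leaf 8827)) (.node (.leaf 4951) (.leaf 0))))))) (.node (.node (.node (.node (.node (.node (.leaf 117) (.leaf 5248)) (.node (.leaf 2416) (.leaf 9293))) (.node (.node (.leaf 1209) (.leaf 7019)) (.node (.leaf 3757) (.leaf 13816)))) (.node (.node (.node (.leaf 650) (.leaf 6089)) (.node (.leaf 3064) (.leaf 10895))) (.node (.node (.leaf 1801) (.leaf 8052)) (.node (.leaf 4488) (.leaf 0))))) (.node (.node (.node (.node (.leaf 380) (.leaf 5671)) (.node (.leaf 2731) (.leaf 10046))) (.node (.node (.leaf 1499) (.leaf 7503)) (.node (.leaf 4120) (.leaf 0)))) (.node (.node (.node (.leaf 928) (.leaf 6541)) (.node (.leaf 3413) (.leaf 12019)))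 (.node (.node (.leaf 2101) (.leaf 8628)) (.node (.leaf 4859) (.leaf 0)))))) (.node (.node (.node (.node (.node (.leaf 248) (.leaf 5470)) (.node (.leaf 2569) (.leaf 9705))) (.node (.node (.leaf 1351) (.leaf 7263)) (.node (.leaf 3928) (.leaf 0)))) (.node (.node (.node (.leaf 790) (.leaf 6314)) (.node (.leaf 3236) (.leaf 11449))) (.node (.node (.leaf 1952) (.leaf 8316)) (.node (.leaf 4680) (.leaf 0))))) (.node (.node (.node (.node (.leaf 515) (.leaf 5879)) (.node (.leaf 2902) (.leaf 10468))) (.node (.node (.leaf 1649) (.leaf 7780)) (.node (.leaf 4300) (.leaf 0)))) (.node (.node (.node (.leaf 1067) (.leaf 6801)) (.node (.leaf 3586) (.leaf 12795))) (.node (.node (.leaf 2252) (.leaf 8995)) (.node (.leaf 5051) (.leaf 0))))))))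

def hpT22 : NT := .node (.node (.node (.node (.node (.node (.node (.node (.leaf 21) (.leaf 5106)) (.node (.leaf 2292) (.leaf 9067))) (.node (.node (.leaf 1102) (.leaf 6853)) (.node (.leaf 3634) (.leaf 12992)))) (.node (.node (.node (.leaf 549) (.leaf 5929)) (.node (.leaf 2942) (.leaf 10564))) (.node (.node (.leaf 1690) (.leaf 7855)) (.node (.leaf 4344) (.leaf 0))))) (.node (.node (.node (.node (.leaf 281) (.leaf 5514)) (.node (.leaf 2613) (.leaf 9791))) (.node (.node (.leaf 1391) (.leaf 7324)) (.node (.leaf 3980) (.leaf 0)))) (.node (.node (.node (.leaf 823) (.leaf 6378)) (.node (.leaf 3282) (.leaf 11583))) (.node (.node (.leaf 1988) (.leaf 8421)) (.node (.leaf 4731) (.leaf 0)))))) (.node (.node (.node (.node (.node (.leaf 150) (.leaf 5310)) (.node (.leaf 2454) (.leaf 9390))) (.node (.node (.leaf 1246) (.leaf 7082)) (.node (.leaf 3799) (.leaf 14129)))) (.node (.node (.node (.leaf 685) (.leaf 6141)) (.node (.leaf 3108) (.leaf 11070))) (.node (.node (.leaf 1841) (.leaf 8123)) (.node (.leaf 4535) (.leaf 0))))) (.node (.node (.node (.node (.leaf 414) (.leaf 5714)) (.node (.leaf 2772) (.leaf 10164))) (.node (.node (.leaf 1540)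 (.leaf 7574)) (.node (.leaf 4161) (.leaf 0)))) (.node (.node (.node (.leaf 965) (.leaf 6607)) (.node (.leaf 3456) (.leaf 12221))) (.node (.node (.leaf 2141) (.leaf 8740)) (.node (.leaf 4908) (.leaf 0))))))) (.node (.node (.node (.node (.node (.node (.leaf 85) (.leaf 5205)) (.node (.leaf 2378) (.leaf 9227))) (.node (.node (.leaf 1172) (.leaf 6961)) (.node (.leaf 3716) (.leaf 13524)))) (.node (.node (.node (.leaf 618) (.leaf 6035)) (.node (.leaf 3021) (.leaf 10775))) (.node (.node (.leaf 1762) (.leaf 7985)) (.node (.leaf 4438) (.leaf 0))))) (.node (.node (.node (.node (.leaf 347) (.leaf 5620)) (.node (.leaf 2694) (.leaf 9971))) (.node (.node (.leaf 1464) (.leaf 7449)) (.node (.leaf 4076) (.leaf 0)))) (.node (.node (.node (.leaf 892) (.leaf 6481)) (.node (.leaf 3374) (.leaf 11851))) (.node (.node (.leaf 2061) (.leaf 8555)) (.node (.leaf 4818) (.leaf 0)))))) (.node (.node (.node (.node (.node (.leaf 215) (.leaf 5421)) (.node (.leaf 2532) (.leaf 9578))) (.node (.node (.leaf 1316) (.leaf 7213)) (.node (.leaf 3887) (.leaf 0)))) (.node (.node (.node (.leaf 757) (.leaf 6262)) (.node (.leaf 3196) (.leaf 11305))) (.node (.node (.leaf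 1916) (.leaf 8249)) (.node (.leaf 4638) (.leaf 0))))) (.node (.node (.node (.node (.leaf 483) (.leaf 5832)) (.node (.leaf 2856) (.leaf 10364))) (.node (.node (.leaf 1613) (.leaf 7693)) (.node (.leaf 4247) (.leaf 0)))) (.node (.node (.node (.leaf 1032) (.leaf 6744)) (.node (.leaf 3539) (.leaf 12623))) (.node (.node (.leaf 2211) (.leaf 8917)) (.node (.leaf 5001) (.leaf 0)))))))) (.node (.node (.node (.node (.node (.node (.node (.leaf 53) (.leaf 5159)) (.node (.leaf 2333) (.leaf 9143))) (.node (.node (.leaf 1137) (.leaf 6908)) (.node (.leaf 3674) (.leaf 13302)))) (.node (.node (.node (.leaf 583) (.leaf 5985)) (.node (.leaf 2982) (.leaf 10656))) (.node (.node (.leaf 1726) (.leaf 7923)) (.node (.leaf 4390) (.leaf 0))))) (.node (.node (.node (.node (.leaf 314) (.leaf 5570)) (.node (.leaf 2654) (.leaf 9885))) (.node (.node (.leaf 1429) (.leaf 7387)) (.node (.leaf 4021) (.leaf 0)))) (.node (.node (.node (.leaf 859) (.leaf 6437)) (.node (.leaf 3327) (.leaf 11685))) (.node (.node (.leaf 2025) (.leaf 8495)) (.node (.leaf 4771) (.leaf 0)))))) (.node (.node (.node (.node (.node (.leaf 183) (.leaf 5361)) (.node (.leaf 2492) (.leaf 9495)))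 (.node (.node (.leaf 1282) (.leaf 7149)) (.node (.leaf 3845) (.leaf 0)))) (.node (.node (.node (.leaf 720) (.leaf 6195)) (.node (.leaf 3150) (.leaf 11186))) (.node (.node (.leaf 1876) (.leaf 8186)) (.node (.leaf 4587) (.leaf 0))))) (.node (.node (.node (.node (.leaf 449) (.leaf 5772)) (.node (.leaf 2810) (.leaf 10227))) (.node (.node (.leaf 1576) (.leaf 7624)) (.node (.leaf 4200) (.leaf 0)))) (.node (.node (.node (.leaf 999) (.leaf 6669)) (.node (.leaf 3493) (.leaf 12385))) (.node (.node (.leaf 2175) (.leaf 8830)) (.node (.leaf 4952) (.leaf 0))))))) (.node (.node (.node (.node (.node (.node (.leaf 118) (.leaf 5249)) (.node (.leaf 2417) (.leaf 9295))) (.node (.node (.leaf 1210) (.leaf 7023)) (.node (.leaf 3758) (.leaf 13824)))) (.node (.node (.node (.leaf 651) (.leaf 6090)) (.node (.leaf 3065) (.leaf 10898))) (.node (.node (.leaf 1802) (.leaf 8053)) (.node (.leaf 4490) (.leaf 0))))) (.node (.node (.node (.node (.leaf 381) (.leaf 5672)) (.node (.leaf 2732) (.leaf 10051))) (.node (.node (.leaf 1500) (.leaf 7504)) (.node (.leaf 4122) (.leaf 0)))) (.node (.node (.node (.leaf 929) (.leaf 6542)) (.node (.leaf 3414) (.leaf 12023)))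 (.node (.node (.leaf 2103) (.leaf 8629)) (.node (.leaf 4860) (.leaf 0)))))) (.node (.node (.node (.node (.node (.leaf 249) (.leaf 5475)) (.node (.leaf 2571) (.leaf 9706))) (.node (.node (.leaf 1352) (.leaf 7264)) (.node (.leaf 3929) (.leaf 0)))) (.node (.node (.node (.leaf 791) (.leaf 6317)) (.node (.leaf 3237) (.leaf 11452))) (.node (.node (.leaf 1953) (.leaf 8320)) (.node (.leaf 4681) (.leaf 0))))) (.node (.node (.node (.node (.leaf 516) (.leaf 5880)) (.node (.leaf 2905) (.leaf 10471))) (.node (.node (.leaf 1651) (.leaf 7781)) (.node (.leaf 4301) (.leaf 0)))) (.node (.node (.node (.leaf 1068) (.leaf 6803)) (.node (.leaf 3587) (.leaf 12796))) (.node (.node (.leaf 2253) (.leaf 8996)) (.node (.leaf 5052) (.leaf 0))))))))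

def hpT23 : NT := .node (.node (.node (.node (.node (.node (.node (.node (.leaf 22) (.leaf 5111)) (.node (.leaf 2293) (.leaf 9068))) (.node (.node (.leaf 1103) (.leaf 6854)) (.node (.leaf 3635) (.leaf 12993)))) (.node (.node (.node (.leaf 550) (.leaf 5930)) (.node (.leaf 2943) (.leaf 10566))) (.node (.node (.leaf 1691) (.leaf 7857)) (.node (.leaf 4345) (.leaf 0))))) (.node (.node (.node (.node (.leaf 282) (.leaf 5516)) (.node (.leaf 2614) (.leaf 9792))) (.node (.node (.leaf 1392) (.leaf 7325)) (.node (.leaf 3981) (.leaf 0)))) (.node (.node (.node (.leaf 824) (.leaf 6381)) (.node (.leaf 3283) (.leaf 11591))) (.node (.node (.leaf 1989) (.leaf 8423)) (.node (.leaf 4733) (.leaf 0)))))) (.node (.node (.node (.node (.node (.leaf 151) (.leaf 5311)) (.node (.leaf 2455) (.leaf 9391))) (.node (.node (.leaf 1247) (.leaf 7083)) (.node (.leaf 3800) (.leaf 14135)))) (.node (.node (.node (.leaf 686) (.leaf 6144)) (.node (.leaf 3109) (.leaf 11073))) (.node (.node (.leaf 1842) (.leaf 8124)) (.node (.leaf 4538) (.leaf 0))))) (.node (.node (.node (.node (.leaf 415) (.leaf 5715)) (.node (.leaf 2773) (.leaf 10165))) (.node (.node (.leaf 1541)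 (.leaf 7575)) (.node (.leaf 4162) (.leaf 0)))) (.node (.node (.node (.leaf 966) (.leaf 6609)) (.node (.leaf 3457) (.leaf 12223))) (.node (.node (.leaf 2142) (.leaf 8741)) (.node (.leaf 4909) (.leaf 0))))))) (.node (.node (.node (.node (.node (.node (.leaf 86) (.leaf 5206)) (.node (.leaf 2379) (.leaf 9231))) (.node (.node (.leaf 1173) (.leaf 6962)) (.node (.leaf 3717) (.leaf 13534)))) (.node (.node (.node (.leaf 619) (.leaf 6037)) (.node (.leaf 3022) (.leaf 10777))) (.node (.node (.leaf 1763) (.leaf 7986)) (.node (.leaf 4439) (.leaf 0))))) (.node (.node (.node (.node (.leaf 348) (.leaf 5622)) (.node (.leaf 2695) (.leaf 9975))) (.node (.node (.leaf 1465) (.leaf 7451)) (.node (.leaf 4077) (.leaf 0)))) (.node (.node (.node (.leaf 893) (.leaf 6482)) (.node (.leaf 3375) (.leaf 11861))) (.node (.node (.leaf 2062) (.leaf 8558)) (.node (.leaf 4819) (.leaf 0)))))) (.node (.node (.node (.node (.node (.leaf 216) (.leaf 5422)) (.node (.leaf 2533) (.leaf 9581))) (.node (.node (.leaf 1317) (.leaf 7214)) (.node (.leaf 3888) (.leaf 0)))) (.node (.node (.node (.leaf 758) (.leaf 6264)) (.node (.leaf 3197) (.leaf 11312))) (.node (.node (.leaf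 1918) (.leaf 8252)) (.node (.leaf 4639) (.leaf 0))))) (.node (.node (.node (.node (.leaf 484) (.leaf 5833)) (.node (.leaf 2857) (.leaf 10365))) (.node (.node (.leaf 1614) (.leaf 7694)) (.node (.leaf 4248) (.leaf 0)))) (.node (.node (.node (.leaf 1033) (.leaf 6745)) (.node (.leaf 3540) (.leaf 12635))) (.node (.node (.leaf 2212) (.leaf 8920)) (.node (.leaf 5002) (.leaf 0)))))))) (.node (.node (.node (.node (.node (.node (.node (.leaf 54) (.leaf 5160)) (.node (.leaf 2335) (.leaf 9144))) (.node (.node (.leaf 1138) (.leaf 6909)) (.node (.leaf 3675) (.leaf 13307)))) (.node (.node (.node (.leaf 584) (.leaf 5987)) (.node (.leaf 2983) (.leaf 10657))) (.node (.node (.leaf 1727) (.leaf 7925)) (.node (.leaf 4391) (.leaf 0))))) (.node (.node (.node (.node (.leaf 315) (.leaf 5571)) (.node (.leaf 2655) (.leaf 9887))) (.node (.node (.leaf 1430) (.leaf 7390)) (.node (.leaf 4022) (.leaf 0)))) (.node (.node (.node (.leaf 860) (.leaf 6438)) (.node (.leaf 3330) (.leaf 11689))) (.node (.node (.leaf 2027) (.leaf 8498)) (.node (.leaf 4775) (.leaf 0)))))) (.node (.node (.node (.node (.node (.leaf 184) (.leaf 5362)) (.node (.leaf 2493) (.leaf 9497)))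 (.node (.node (.leaf 1283) (.leaf 7153)) (.node (.leaf 3846) (.leaf 0)))) (.node (.node (.node (.leaf 721) (.leaf 6197)) (.node (.leaf 3151) (.leaf 11189))) (.node (.node (.leaf 1877) (.leaf 8188)) (.node (.leaf 4588) (.leaf 0))))) (.node (.node (.node (.node (.leaf 450) (.leaf 5773)) (.node (.leaf 2811) (.leaf 10231))) (.node (.node (.leaf 1577) (.leaf 7626)) (.node (.leaf 4202) (.leaf 0)))) (.node (.node (.node (.leaf 1000) (.leaf 6679)) (.node (.leaf 3495) (.leaf 12391))) (.node (.node (.leaf 2176) (.leaf 8832)) (.node (.leaf 4953) (.leaf 0))))))) (.node (.node (.node (.node (.node (.node (.leaf 119) (.leaf 5251)) (.node (.leaf 2418) (.leaf 9298))) (.node (.node (.leaf 1211) (.leaf 7024)) (.node (.leaf 3759) (.leaf 13825)))) (.node (.node (.node (.leaf 652) (.leaf 6091)) (.node (.leaf 3068) (.leaf 10913))) (.node (.node (.leaf 1803) (.leaf 8054)) (.node (.leaf 4491) (.leaf 0))))) (.node (.node (.node (.node (.leaf 382) (.leaf 5673)) (.node (.leaf 2734) (.leaf 10055))) (.node (.node (.leaf 1502) (.leaf 7505)) (.node (.leaf 4123) (.leaf 0)))) (.node (.node (.node (.leaf 930) (.leaf 6546)) (.node (.leaf 3415) (.leaf 12028)))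 (.node (.node (.leaf 2104) (.leaf 8635)) (.node (.leaf 4862) (.leaf 0)))))) (.node (.node (.node (.node (.node (.leaf 250) (.leaf 5476)) (.node (.leaf 2573) (.leaf 9709))) (.node (.node (.leaf 1353) (.leaf 7265)) (.node (.leaf 3930) (.leaf 0)))) (.node (.node (.node (.leaf 792) (.leaf 6318)) (.node (.leaf 3239) (.leaf 11457))) (.node (.node (.leaf 1954) (.leaf 8321)) (.node (.leaf 4682) (.leaf 0))))) (.node (.node (.node (.node (.leaf 517) (.leaf 5882)) (.node (.leaf 2906) (.leaf 10473))) (.node (.node (.leaf 1652) (.leaf 7788)) (.node (.leaf 4303) (.leaf 0)))) (.node (.node (.node (.leaf 1069) (.leaf 6805)) (.node (.leaf 3588) (.leaf 12797))) (.node (.node (.leaf 2255) (.leaf 8999)) (.node (.leaf 5053) (.leaf 0))))))))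

def hpT24 : NT := .node (.node (.node (.node (.node (.node (.node (.node (.leaf 23) (.leaf 5115)) (.node (.leaf 2294) (.leaf 9070))) (.node (.node (.leaf 1104) (.leaf 6855)) (.node (.leaf 3636) (.leaf 12997)))) (.node (.node (.node (.leaf 551) (.leaf 5932)) (.node (.leaf 2944) (.leaf 10567))) (.node (.node (.leaf 1692) (.leaf 7858)) (.node (.leaf 4349) (.leaf 0))))) (.node (.node (.node (.node (.leaf 283) (.leaf 5522)) (.node (.leaf 2615) (.leaf 9793))) (.node (.node (.leaf 1393) (.leaf 7327)) (.node (.leaf 3983) (.leaf 0)))) (.node (.node (.node (.leaf 825) (.leaf 6388)) (.node (.leaf 3286) (.leaf 11592))) (.node (.node (.leaf 1990) (.leaf 8425)) (.node (.leaf 4734) (.leaf 0)))))) (.node (.node (.node (.node (.node (.leaf 152) (.leaf 5315)) (.node (.leaf 2456) (.leaf 9402))) (.node (.node (.leaf 1248) (.leaf 7084)) (.node (.leaf 3801) (.leaf 14154)))) (.node (.node (.node (.leaf 687) (.leaf 6145)) (.node (.leaf 3111) (.leaf 11078))) (.node (.node (.leaf 1843) (.leaf 8125)) (.node (.leaf 4539) (.leaf 0))))) (.node (.node (.node (.node (.leaf 416) (.leaf 5716)) (.node (.leaf 2774) (.leaf 10166))) (.node (.node (.leaf 1542)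 (.leaf 7576)) (.node (.leaf 4163) (.leaf 0)))) (.node (.node (.node (.leaf 967) (.leaf 6611)) (.node (.leaf 3458) (.leaf 12224))) (.node (.node (.leaf 2143) (.leaf 8746)) (.node (.leaf 4910) (.leaf 0))))))) (.node (.node (.node (.node (.node (.node (.leaf 87) (.leaf 5209)) (.node (.leaf 2380) (.leaf 9236))) (.node (.node (.leaf 1175) (.leaf 6963)) (.node (.leaf 3719) (.leaf 13545)))) (.node (.node (.node (.leaf 620) (.leaf 6039)) (.node (.leaf 3023) (.leaf 10780))) (.node (.node (.leaf 1764) (.leaf 7987)) (.node (.leaf 4441) (.leaf 0))))) (.node (.node (.node (.node (.leaf 349) (.leaf 5623)) (.node (.leaf 2696) (.leaf 9976))) (.node (.node (.leaf 1466) (.leaf 7455)) (.node (.leaf 4078) (.leaf 0)))) (.node (.node (.node (.leaf 894) (.leaf 6483)) (.node (.leaf 3377) (.leaf 11876))) (.node (.node (.leaf 2063) (.leaf 8559)) (.node (.leaf 4820) (.leaf 0)))))) (.node (.node (.node (.node (.node (.leaf 217) (.leaf 5423)) (.node (.leaf 2534) (.leaf 9582))) (.node (.node (.leaf 1318) (.leaf 7215)) (.node (.leaf 3889) (.leaf 0)))) (.node (.node (.node (.leaf 759) (.leaf 6265)) (.node (.leaf 3198) (.leaf 11315))) (.node (.node (.leaf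 1919) (.leaf 8255)) (.node (.leaf 4640) (.leaf 0))))) (.node (.node (.node (.node (.leaf 485) (.leaf 5834)) (.node (.leaf 2859) (.leaf 10370))) (.node (.node (.leaf 1615) (.leaf 7695)) (.node (.leaf 4252) (.leaf 0)))) (.node (.node (.node (.leaf 1034) (.leaf 6746)) (.node (.leaf 3542) (.leaf 12649))) (.node (.node (.leaf 2213) (.leaf 8921)) (.node (.leaf 5003) (.leaf 0)))))))) (.node (.node (.node (.node (.node (.node (.node (.leaf 55) (.leaf 5162)) (.node (.leaf 2336) (.leaf 9150))) (.node (.node (.leaf 1139) (.leaf 6910)) (.node (.leaf 3676) (.leaf 13310)))) (.node (.node (.node (.leaf 585) (.leaf 5988)) (.node (.leaf 2984) (.leaf 10666))) (.node (.node (.leaf 1729) (.leaf 7928)) (.node (.leaf 4392) (.leaf 0))))) (.node (.node (.node (.node (.leaf 316) (.leaf 5572)) (.node (.leaf 2656) (.leaf 9893))) (.node (.node (.leaf 1431) (.leaf 7392)) (.node (.leaf 4025) (.leaf 0)))) (.node (.node (.node (.leaf 861) (.leaf 6441)) (.node (.leaf 3331) (.leaf 11690))) (.node (.node (.leaf 2028) (.leaf 8499)) (.node (.leaf 4777) (.leaf 0)))))) (.node (.node (.node (.node (.node (.leaf 185) (.leaf 5363)) (.node (.leaf 2494) (.leaf 9498)))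 (.node (.node (.leaf 1284) (.leaf 7154)) (.node (.leaf 3847) (.leaf 0)))) (.node (.node (.node (.leaf 722) (.leaf 6198)) (.node (.leaf 3154) (.leaf 11190))) (.node (.node (.leaf 1878) (.leaf 8191)) (.node (.leaf 4590) (.leaf 0))))) (.node (.node (.node (.node (.leaf 451) (.leaf 5775)) (.node (.leaf 2812) (.leaf 10233))) (.node (.node (.leaf 1578) (.leaf 7627)) (.node (.leaf 4203) (.leaf 0)))) (.node (.node (.node (.leaf 1001) (.leaf 6682)) (.node (.leaf 3496) (.leaf 12392))) (.node (.node (.leaf 2177) (.leaf 8833)) (.node (.leaf 4954) (.leaf 0))))))) (.node (.node (.node (.node (.node (.node (.leaf 120) (.leaf 5252)) (.node (.leaf 2419) (.leaf 9304))) (.node (.node (.leaf 1212) (.leaf 7026)) (.node (.leaf 3762) (.leaf 13828)))) (.node (.node (.node (.leaf 653) (.leaf 6094)) (.node (.leaf 3069) (.leaf 10915))) (.node (.node (.leaf 1804) (.leaf 8057)) (.node (.leaf 4492) (.leaf 0))))) (.node (.node (.node (.node (.leaf 383) (.leaf 5674)) (.node (.leaf 2735) (.leaf 10058))) (.node (.node (.leaf 1503) (.leaf 7506)) (.node (.leaf 4124) (.leaf 0)))) (.node (.node (.node (.leaf 931) (.leaf 6550)) (.node (.leaf 3418) (.leaf 12029)))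 (.node (.node (.leaf 2105) (.leaf 8637)) (.node (.leaf 4865) (.leaf 0)))))) (.node (.node (.node (.node (.node (.leaf 251) (.leaf 5477)) (.node (.leaf 2574) (.leaf 9710))) (.node (.node (.leaf 1354) (.leaf 7266)) (.node (.leaf 3933) (.leaf 0)))) (.node (.node (.node (.leaf 793) (.leaf 6321)) (.node (.leaf 3240) (.leaf 11458))) (.node (.node (.leaf 1956) (.leaf 8322)) (.node (.leaf 4683) (.leaf 0))))) (.node (.node (.node (.node (.leaf 518) (.leaf 5884)) (.node (.leaf 2907) (.leaf 10480))) (.node (.node (.leaf 1653) (.leaf 7793)) (.node (.leaf 4304) (.leaf 0)))) (.node (.node (.node (.leaf 1070) (.leaf 6809)) (.node (.leaf 3589) (.leaf 12799))) (.node (.node (.leaf 2256) (.leaf 9002)) (.node (.leaf 5054) (.leaf 0))))))))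

def hpT25 : NT := .node (.node (.node (.node (.node (.node (.node (.node (.leaf 24) (.leaf 5116)) (.node (.leaf 2295) (.leaf 9071))) (.node (.node (.leaf 1105) (.leaf 6857)) (.node (.leaf 3637) (.leaf 13010)))) (.node (.node (.node (.leaf 552) (.leaf 5933)) (.node (.leaf 2945) (.leaf 10572))) (.node (.node (.leaf 1693) (.leaf 7863)) (.node (.leaf 4350) (.leaf 0))))) (.node (.node (.node (.node (.leaf 284) (.leaf 5527)) (.node (.leaf 2616) (.leaf 9795))) (.node (.node (.leaf 1394) (.leaf 7329)) (.node (.leaf 3987) (.leaf 0)))) (.node (.node (.node (.leaf 826) (.leaf 6389)) (.node (.leaf 3287) (.leaf 11604))) (.node (.node (.leaf 1991) (.leaf 8428)) (.node (.leaf 4735) (.leaf 0)))))) (.node (.node (.node (.node (.node (.leaf 153) (.leaf 5317)) (.node (.leaf 2457) (.leaf 9404))) (.node (.node (.leaf 1250) (.leaf 7085)) (.node (.leaf 3803) (.leaf 14161)))) (.node (.node (.node (.leaf 688) (.leaf 6147)) (.node (.leaf 3113) (.leaf 11080))) (.node (.node (.leaf 1845) (.leaf 8127)) (.node (.leaf 4543) (.leaf 0))))) (.node (.node (.node (.node (.leaf 417) (.leaf 5717)) (.node (.leaf 2775) (.leaf 10167))) (.node (.node (.leaf 1543)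 (.leaf 7577)) (.node (.leaf 4164) (.leaf 0)))) (.node (.node (.node (.leaf 968) (.leaf 6612)) (.node (.leaf 3459) (.leaf 12227))) (.node (.node (.leaf 2144) (.leaf 8747)) (.node (.leaf 4911) (.leaf 0))))))) (.node (.node (.node (.node (.node (.node (.leaf 88) (.leaf 5211)) (.node (.leaf 2381) (.leaf 9239))) (.node (.node (.leaf 1176) (.leaf 6964)) (.node (.leaf 3720) (.leaf 13574)))) (.node (.node (.node (.leaf 621) (.leaf 6043)) (.node (.leaf 3025) (.leaf 10785))) (.node (.node (.leaf 1765) (.leaf 7990)) (.node (.leaf 4442) (.leaf 0))))) (.node (.node (.node (.node (.leaf 350) (.leaf 5624)) (.node (.leaf 2697) (.leaf 9977))) (.node (.node (.leaf 1467) (.leaf 7456)) (.node (.leaf 4080) (.leaf 0)))) (.node (.node (.node (.leaf 895) (.leaf 6484)) (.node (.leaf 3378) (.leaf 11895))) (.node (.node (.leaf 2064) (.leaf 8562)) (.node (.leaf 4823) (.leaf 0)))))) (.node (.node (.node (.node (.node (.leaf 218) (.leaf 5425)) (.node (.leaf 2535) (.leaf 9583))) (.node (.node (.leaf 1319) (.leaf 7216)) (.node (.leaf 3891) (.leaf 0)))) (.node (.node (.node (.leaf 760) (.leaf 6268)) (.node (.leaf 3199) (.leaf 11321))) (.node (.node (.leaf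 1920) (.leaf 8256)) (.node (.leaf 4641) (.leaf 0))))) (.node (.node (.node (.node (.leaf 486) (.leaf 5835)) (.node (.leaf 2865) (.leaf 10376))) (.node (.node (.leaf 1616) (.leaf 7703)) (.node (.leaf 4255) (.leaf 0)))) (.node (.node (.node (.leaf 1035) (.leaf 6750)) (.node (.leaf 3543) (.leaf 12653))) (.node (.node (.leaf 2215) (.leaf 8922)) (.node (.leaf 5005) (.leaf 0)))))))) (.node (.node (.node (.node (.node (.node (.node (.leaf 56) (.leaf 5165)) (.node (.leaf 2337) (.leaf 9152))) (.node (.node (.leaf 1140) (.leaf 6911)) (.node (.leaf 3677) (.leaf 13320)))) (.node (.node (.node (.leaf 586) (.leaf 5989)) (.node (.leaf 2985) (.leaf 10667))) (.node (.node (.leaf 1730) (.leaf 7930)) (.node (.leaf 4395) (.leaf 0))))) (.node (.node (.node (.node (.leaf 317) (.leaf 5573)) (.node (.leaf 2657) (.leaf 9899))) (.node (.node (.leaf 1432) (.leaf 7393)) (.node (.leaf 4027) (.leaf 0)))) (.node (.node (.node (.leaf 862) (.leaf 6442)) (.node (.leaf 3333) (.leaf 11695))) (.node (.node (.leaf 2029) (.leaf 8500)) (.node (.leaf 4778) (.leaf 0)))))) (.node (.node (.node (.node (.node (.leaf 186) (.leaf 5367)) (.node (.leaf 2495) (.leaf 9500)))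 (.node (.node (.leaf 1285) (.leaf 7155)) (.node (.leaf 3849) (.leaf 0)))) (.node (.node (.node (.leaf 723) (.leaf 6199)) (.node (.leaf 3155) (.leaf 11193))) (.node (.node (.leaf 1879) (.leaf 8192)) (.node (.leaf 4591) (.leaf 0))))) (.node (.node (.node (.node (.leaf 452) (.leaf 5779)) (.node (.leaf 2815) (.leaf 10238))) (.node (.node (.leaf 1579) (.leaf 7630)) (.node (.leaf 4204) (.leaf 0)))) (.node (.node (.node (.leaf 1002) (.leaf 6684)) (.node (.leaf 3497) (.leaf 12393))) (.node (.node (.leaf 2179) (.leaf 8835)) (.node (.leaf 4955) (.leaf 0))))))) (.node (.node (.node (.node (.node (.node (.leaf 121) (.leaf 5255)) (.node (.leaf 2420) (.leaf 9305))) (.node (.node (.leaf 1213) (.leaf 7027)) (.node (.leaf 3763) (.leaf 13829)))) (.node (.node (.node (.leaf 654) (.leaf 6096)) (.node (.leaf 3070) (.leaf 10920))) (.node (.node (.leaf 1805) (.leaf 8059)) (.node (.leaf 4493) (.leaf 0))))) (.node (.node (.node (.node (.leaf 384) (.leaf 5675)) (.node (.leaf 2736) (.leaf 10059))) (.node (.node (.leaf 1506) (.leaf 7508)) (.node (.leaf 4125) (.leaf 0)))) (.node (.node (.node (.leaf 932) (.leaf 6551)) (.node (.leaf 3419) (.leaf 12037)))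 (.node (.node (.leaf 2106) (.leaf 8638)) (.node (.leaf 4866) (.leaf 0)))))) (.node (.node (.node (.node (.node (.leaf 252) (.leaf 5478)) (.node (.leaf 2575) (.leaf 9711))) (.node (.node (.leaf 1355) (.leaf 7268)) (.node (.leaf 3935) (.leaf 0)))) (.node (.node (.node (.leaf 794) (.leaf 6323)) (.node (.leaf 3241) (.leaf 11466))) (.node (.node (.leaf 1957) (.leaf 8325)) (.node (.leaf 4685) (.leaf 0))))) (.node (.node (.node (.node (.leaf 519) (.leaf 5885)) (.node (.leaf 2908) (.leaf 10483))) (.node (.node (.leaf 1654) (.leaf 7794)) (.node (.leaf 4305) (.leaf 0)))) (.node (.node (.node (.leaf 1071) (.leaf 6811)) (.node (.leaf 3590) (.leaf 12806))) (.node (.node (.leaf 2257) (.leaf 9003)) (.node (.leaf 5056) (.leaf 0))))))))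

def hpT26 : NT := .node (.node (.node (.node (.node (.node (.node (.node (.leaf 25) (.leaf 5117)) (.node (.leaf 2296) (.leaf 9075))) (.node (.node (.leaf 1106) (.leaf 6861)) (.node (.leaf 3638) (.leaf 13013)))) (.node (.node (.node (.leaf 553) (.leaf 5934)) (.node (.leaf 2946) (.leaf 10573))) (.node (.node (.leaf 1694) (.leaf 7864)) (.node (.leaf 4351) (.leaf 0))))) (.node (.node (.node (.node (.leaf 285) (.leaf 5528)) (.node (.leaf 2618) (.leaf 9803))) (.node (.node (.leaf 1396) (.leaf 7333)) (.node (.leaf 3988) (.leaf 0)))) (.node (.node (.node (.leaf 827) (.leaf 6390)) (.node (.leaf 3289) (.leaf 11605))) (.node (.node (.leaf 1992) (.leaf 8430)) (.node (.leaf 4737) (.leaf 0)))))) (.node (.node (.node (.node (.node (.leaf 154) (.leaf 5319)) (.node (.leaf 2459) (.leaf 9405))) (.node (.node (.leaf 1253) (.leaf 7086)) (.node (.leaf 3804) (.leaf 14164)))) (.node (.node (.node (.leaf 689) (.leaf 6149)) (.node (.leaf 3114) (.leaf 11090))) (.node (.node (.leaf 1846) (.leaf 8128)) (.node (.leaf 4544) (.leaf 0))))) (.node (.node (.node (.node (.leaf 418) (.leaf 5718)) (.node (.leaf 2777) (.leaf 10168))) (.node (.node (.leaf 1544)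 (.leaf 7580)) (.node (.leaf 4165) (.leaf 0)))) (.node (.node (.node (.leaf 969) (.leaf 6614)) (.node (.leaf 3460) (.leaf 12234))) (.node (.node (.leaf 2145) (.leaf 8755)) (.node (.leaf 4912) (.leaf 0))))))) (.node (.node (.node (.node (.node (.node (.leaf 89) (.leaf 5212)) (.node (.leaf 2382) (.leaf 9241))) (.node (.node (.leaf 1177) (.leaf 6966)) (.node (.leaf 3721) (.leaf 13576)))) (.node (.node (.node (.leaf 622) (.leaf 6044)) (.node (.leaf 3026) (.leaf 10788))) (.node (.node (.leaf 1766) (.leaf 7992)) (.node (.leaf 4443) (.leaf 0))))) (.node (.node (.node (.node (.leaf 351) (.leaf 5625)) (.node (.leaf 2698) (.leaf 9979))) (.node (.node (.leaf 1469) (.leaf 7457)) (.node (.leaf 4081) (.leaf 0)))) (.node (.node (.node (.leaf 897) (.leaf 6485)) (.node (.leaf 3380) (.leaf 11901))) (.node (.node (.leaf 2065) (.leaf 8566)) (.node (.leaf 4824) (.leaf 0)))))) (.node (.node (.node (.node (.node (.leaf 219) (.leaf 5427)) (.node (.leaf 2536) (.leaf 9585))) (.node (.node (.leaf 1321) (.leaf 7217)) (.node (.leaf 3893) (.leaf 0)))) (.node (.node (.node (.leaf 761) (.leaf 6269)) (.node (.leaf 3200) (.leaf 11325))) (.node (.node (.leaf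 1921) (.leaf 8258)) (.node (.leaf 4642) (.leaf 0))))) (.node (.node (.node (.node (.leaf 487) (.leaf 5838)) (.node (.leaf 2866) (.leaf 10377))) (.node (.node (.leaf 1617) (.leaf 7707)) (.node (.leaf 4257) (.leaf 0)))) (.node (.node (.node (.leaf 1036) (.leaf 6751)) (.node (.leaf 3545) (.leaf 12657))) (.node (.node (.leaf 2216) (.leaf 8926)) (.node (.leaf 5008) (.leaf 0)))))))) (.node (.node (.node (.node (.node (.node (.node (.leaf 57) (.leaf 5166)) (.node (.leaf 2338) (.leaf 9153))) (.node (.node (.leaf 1141) (.leaf 6912)) (.node (.leaf 3679) (.leaf 13326)))) (.node (.node (.node (.leaf 587) (.leaf 5991)) (.node (.leaf 2987) (.leaf 10669))) (.node (.node (.leaf 1731) (.leaf 7933)) (.node (.leaf 4396) (.leaf 0))))) (.node (.node (.node (.node (.leaf 318) (.leaf 5574)) (.node (.leaf 2658) (.leaf 9903))) (.node (.node (.leaf 1433) (.leaf 7396)) (.node (.leaf 4028) (.leaf 0)))) (.node (.node (.node (.leaf 863) (.leaf 6443)) (.node (.leaf 3335) (.leaf 11698))) (.node (.node (.leaf 2030) (.leaf 8501)) (.node (.leaf 4780) (.leaf 0)))))) (.node (.node (.node (.node (.node (.leaf 187) (.leaf 5368)) (.node (.leaf 2496) (.leaf 9501)))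 (.node (.node (.leaf 1286) (.leaf 7157)) (.node (.leaf 3850) (.leaf 0)))) (.node (.node (.node (.leaf 724) (.leaf 6207)) (.node (.leaf 3159) (.leaf 11196))) (.node (.node (.leaf 1880) (.leaf 8194)) (.node (.leaf 4596) (.leaf 0))))) (.node (.node (.node (.node (.leaf 453) (.leaf 5782)) (.node (.leaf 2816) (.leaf 10242))) (.node (.node (.leaf 1580) (.leaf 7631)) (.node (.leaf 4206) (.leaf 0)))) (.node (.node (.node (.leaf 1003) (.leaf 6685)) (.node (.leaf 3499) (.leaf 12396))) (.node (.node (.leaf 2180) (.leaf 8840)) (.node (.leaf 4958) (.leaf 0))))))) (.node (.node (.node (.node (.node (.node (.leaf 122) (.leaf 5258)) (.node (.leaf 2421) (.leaf 9306))) (.node (.node (.leaf 1214) (.leaf 7030)) (.node (.leaf 3764) (.leaf 13848)))) (.node (.node (.node (.leaf 655) (.leaf 6097)) (.node (.leaf 3071) (.leaf 10925))) (.node (.node (.leaf 1806) (.leaf 8060)) (.node (.leaf 4494) (.leaf 0))))) (.node (.node (.node (.node (.leaf 385) (.leaf 5676)) (.node (.leaf 2737) (.leaf 10060))) (.node (.node (.leaf 1508) (.leaf 7510)) (.node (.leaf 4127) (.leaf 0)))) (.node (.node (.node (.leaf 933) (.leaf 6553)) (.node (.leaf 3420) (.leaf 12045)))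 (.node (.node (.leaf 2109) (.leaf 8639)) (.node (.leaf 4867) (.leaf 0)))))) (.node (.node (.node (.node (.node (.leaf 253) (.leaf 5480)) (.node (.leaf 2576) (.leaf 9714))) (.node (.node (.leaf 1356) (.leaf 7271)) (.node (.leaf 3936) (.leaf 0)))) (.node (.node (.node (.leaf 795) (.leaf 6325)) (.node (.leaf 3243) (.leaf 11473))) (.node (.node (.leaf 1958) (.leaf 8328)) (.node (.leaf 4689) (.leaf 0))))) (.node (.node (.node (.node (.leaf 520) (.leaf 5886)) (.node (.leaf 2909) (.leaf 10486))) (.node (.node (.leaf 1655) (.leaf 7795)) (.node (.leaf 4307) (.leaf 0)))) (.node (.node (.node (.leaf 1072) (.leaf 6814)) (.node (.leaf 3593) (.leaf 12808))) (.node (.node (.leaf 2258) (.leaf 9007)) (.node (.leaf 5059) (.leaf 0))))))))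

def hpT27 : NT := .node (.node (.node (.node (.node (.node (.node (.node (.leaf 26) (.leaf 5118)) (.node (.leaf 2297) (.leaf 9076))) (.node (.node (.leaf 1107) (.leaf 6863)) (.node (.leaf 3639) (.leaf 13021)))) (.node (.node (.node (.leaf 554) (.leaf 5938)) (.node (.leaf 2947) (.leaf 10577))) (.node (.node (.leaf 1695) (.leaf 7865)) (.node (.leaf 4352) (.leaf 0))))) (.node (.node (.node (.node (.leaf 286) (.leaf 5529)) (.node (.leaf 2619) (.leaf 9804))) (.node (.node (.leaf 1397) (.leaf 7338)) (.node (.leaf 3989) (.leaf 0)))) (.node (.node (.node (.leaf 828) (.leaf 6391)) (.node (.leaf 3290) (.leaf 11606))) (.node (.node (.leaf 1993) (.leaf 8431)) (.node (.leaf 4738) (.leaf 0)))))) (.node (.node (.node (.node (.node (.leaf 155) (.leaf 5321)) (.node (.leaf 2460) (.leaf 9408))) (.node (.node (.leaf 1254) (.leaf 7087)) (.node (.leaf 3805) (.leaf 14166)))) (.node (.node (.node (.leaf 690) (.leaf 6154)) (.node (.leaf 3115) (.leaf 11091))) (.node (.node (.leaf 1847) (.leaf 8129)) (.node (.leaf 4545) (.leaf 0))))) (.node (.node (.node (.node (.leaf 419) (.leaf 5720)) (.node (.leaf 2778) (.leaf 10169))) (.node (.node (.leaf 1545)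 (.leaf 7582)) (.node (.leaf 4166) (.leaf 0)))) (.node (.node (.node (.leaf 970) (.leaf 6616)) (.node (.leaf 3461) (.leaf 12237))) (.node (.node (.leaf 2146) (.leaf 8757)) (.node (.leaf 4913) (.leaf 0))))))) (.node (.node (.node (.node (.node (.node (.leaf 90) (.leaf 5213)) (.node (.leaf 2383) (.leaf 9242))) (.node (.node (.leaf 1178) (.leaf 6967)) (.node (.leaf 3722) (.leaf 13577)))) (.node (.node (.node (.leaf 623) (.leaf 6045)) (.node (.leaf 3027) (.leaf 10813))) (.node (.node (.leaf 1767) (.leaf 7997)) (.node (.leaf 4445) (.leaf 0))))) (.node (.node (.node (.node (.leaf 352) (.leaf 5627)) (.node (.leaf 2699) (.leaf 9983))) (.node (.node (.leaf 1470) (.leaf 7459)) (.node (.leaf 4083) (.leaf 0)))) (.node (.node (.node (.leaf 898) (.leaf 6486)) (.node (.leaf 3381) (.leaf 11909))) (.node (.node (.leaf 2068) (.leaf 8571)) (.node (.leaf 4826) (.leaf 0)))))) (.node (.node (.node (.node (.node (.leaf 220) (.leaf 5428)) (.node (.leaf 2537) (.leaf 9586))) (.node (.node (.leaf 1322) (.leaf 7219)) (.node (.leaf 3894) (.leaf 0)))) (.node (.node (.node (.leaf 762) (.leaf 6270)) (.node (.leaf 3202) (.leaf 11330))) (.node (.node (.leaf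 1922) (.leaf 8259)) (.node (.leaf 4645) (.leaf 0))))) (.node (.node (.node (.node (.leaf 488) (.leaf 5839)) (.node (.leaf 2867) (.leaf 10378))) (.node (.node (.leaf 1618) (.leaf 7708)) (.node (.leaf 4258) (.leaf 0)))) (.node (.node (.node (.leaf 1037) (.leaf 6756)) (.node (.leaf 3546) (.leaf 12664))) (.node (.node (.leaf 2217) (.leaf 8937)) (.node (.leaf 5009) (.leaf 0)))))))) (.node (.node (.node (.node (.node (.node (.node (.leaf 58) (.leaf 5167)) (.node (.leaf 2339) (.leaf 9155))) (.node (.node (.leaf 1142) (.leaf 6913)) (.node (.leaf 3680) (.leaf 13327)))) (.node (.node (.node (.leaf 588) (.leaf 5993)) (.node (.leaf 2988) (.leaf 10671))) (.node (.node (.leaf 1732) (.leaf 7934)) (.node (.leaf 4397) (.leaf 0))))) (.node (.node (.node (.node (.leaf 319) (.leaf 5575)) (.node (.leaf 2659) (.leaf 9905))) (.node (.node (.leaf 1434) (.leaf 7397)) (.node (.leaf 4029) (.leaf 0)))) (.node (.node (.node (.leaf 864) (.leaf 6444)) (.node (.leaf 3336) (.leaf 11705))) (.node (.node (.leaf 2031) (.leaf 8502)) (.node (.leaf 4782) (.leaf 0)))))) (.node (.node (.node (.node (.node (.leaf 188) (.leaf 5369)) (.node (.leaf 2497) (.leaf 9502)))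 (.node (.node (.leaf 1287) (.leaf 7158)) (.node (.leaf 3851) (.leaf 0)))) (.node (.node (.node (.leaf 725) (.leaf 6209)) (.node (.leaf 3160) (.leaf 11201))) (.node (.node (.leaf 1881) (.leaf 8196)) (.node (.leaf 4597) (.leaf 0))))) (.node (.node (.node (.node (.leaf 454) (.leaf 5783)) (.node (.leaf 2817) (.leaf 10245))) (.node (.node (.leaf 1581) (.leaf 7632)) (.node (.leaf 4209) (.leaf 0)))) (.node (.node (.node (.leaf 1004) (.leaf 6686)) (.node (.leaf 3500) (.leaf 12419))) (.node (.node (.leaf 2181) (.leaf 8842)) (.node (.leaf 4960) (.leaf 0))))))) (.node (.node (.node (.node (.node (.node (.leaf 123) (.leaf 5259)) (.node (.leaf 2422) (.leaf 9308))) (.node (.node (.leaf 1215) (.leaf 7033)) (.node (.leaf 3765) (.leaf 13851)))) (.node (.node (.node (.leaf 656) (.leaf 6098)) (.node (.leaf 3073) (.leaf 10933))) (.node (.node (.leaf 1807) (.leaf 8061)) (.node (.leaf 4495) (.leaf 0))))) (.node (.node (.node (.node (.leaf 386) (.leaf 5677)) (.node (.leaf 2738) (.leaf 10062))) (.node (.node (.leaf 1509) (.leaf 7516)) (.node (.leaf 4129) (.leaf 0)))) (.node (.node (.node (.leaf 934) (.leaf 6554)) (.node (.leaf 3421) (.leaf 12048)))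 (.node (.node (.leaf 2110) (.leaf 8643)) (.node (.leaf 4869) (.leaf 0)))))) (.node (.node (.node (.node (.node (.leaf 254) (.leaf 5481)) (.node (.leaf 2578) (.leaf 9715))) (.node (.node (.leaf 1357) (.leaf 7273)) (.node (.leaf 3937) (.leaf 0)))) (.node (.node (.node (.leaf 796) (.leaf 6328)) (.node (.leaf 3247) (.leaf 11474))) (.node (.node (.leaf 1959) (.leaf 8334)) (.node (.leaf 4691) (.leaf 0))))) (.node (.node (.node (.node (.leaf 521) (.leaf 5887)) (.node (.leaf 2910) (.leaf 10487))) (.node (.node (.leaf 1656) (.leaf 7798)) (.node (.leaf 4308) (.leaf 0)))) (.node (.node (.node (.leaf 1073) (.leaf 6815)) (.node (.leaf 3595) (.leaf 12809))) (.node (.node (.leaf 2259) (.leaf 9008)) (.node (.leaf 5060) (.leaf 0))))))))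

def hpT28 : NT := .node (.node (.node (.node (.node (.node (.node (.node (.leaf 27) (.leaf 5119)) (.node (.leaf 2298) (.leaf 9086))) (.node (.node (.leaf 1109) (.leaf 6864)) (.node (.leaf 3640) (.leaf 13028)))) (.node (.node (.node (.leaf 555) (.leaf 5939)) (.node (.leaf 2948) (.leaf 10579))) (.node (.node (.leaf 1696) (.leaf 7866)) (.node (.leaf 4353) (.leaf 0))))) (.node (.node (.node (.node (.leaf 287) (.leaf 5531)) (.node (.leaf 2621) (.leaf 9805))) (.node (.node (.leaf 1399) (.leaf 7339)) (.node (.leaf 3990) (.leaf 0)))) (.node (.node (.node (.leaf 830) (.leaf 6392)) (.node (.leaf 3291) (.leaf 11607))) (.node (.node (.leaf 1994) (.leaf 8432)) (.node (.leaf 4739) (.leaf 0)))))) (.node (.node (.node (.node (.node (.leaf 156) (.leaf 5323)) (.node (.leaf 2461) (.leaf 9412))) (.node (.node (.leaf 1255) (.leaf 7091)) (.node (.leaf 3806) (.leaf 14173)))) (.node (.node (.node (.leaf 691) (.leaf 6156)) (.node (.leaf 3116) (.leaf 11093))) (.node (.node (.leaf 1848) (.leaf 8131)) (.node (.leaf 4546) (.leaf 0))))) (.node (.node (.node (.node (.leaf 421) (.leaf 5723)) (.node (.leaf 2779) (.leaf 10171))) (.node (.node (.leaf 1546)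 (.leaf 7584)) (.node (.leaf 4167) (.leaf 0)))) (.node (.node (.node (.leaf 971) (.leaf 6617)) (.node (.leaf 3462) (.leaf 12238))) (.node (.node (.leaf 2147) (.leaf 8759)) (.node (.leaf 4915) (.leaf 0))))))) (.node (.node (.node (.node (.node (.node (.leaf 91) (.leaf 5214)) (.node (.leaf 2384) (.leaf 9243))) (.node (.node (.leaf 1179) (.leaf 6968)) (.node (.leaf 3723) (.leaf 13585)))) (.node (.node (.node (.leaf 624) (.leaf 6047)) (.node (.leaf 3030) (.leaf 10816))) (.node (.node (.leaf 1769) (.leaf 7998)) (.node (.leaf 4446) (.leaf 0))))) (.node (.node (.node (.node (.leaf 353) (.leaf 5629)) (.node (.leaf 2700) (.leaf 9985))) (.node (.node (.leaf 1471) (.leaf 7460)) (.node (.leaf 4084) (.leaf 0)))) (.node (.node (.node (.leaf 899) (.leaf 6488)) (.node (.leaf 3383) (.leaf 11911))) (.node (.node (.leaf 2069) (.leaf 8572)) (.node (.leaf 4827) (.leaf 0)))))) (.node (.node (.node (.node (.node (.leaf 221) (.leaf 5429)) (.node (.leaf 2538) (.leaf 9589))) (.node (.node (.leaf 1323) (.leaf 7221)) (.node (.leaf 3895) (.leaf 0)))) (.node (.node (.node (.leaf 763) (.leaf 6273)) (.node (.leaf 3204) (.leaf 11333))) (.node (.node (.leaf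 1923) (.leaf 8268)) (.node (.leaf 4646) (.leaf 0))))) (.node (.node (.node (.node (.leaf 490) (.leaf 5841)) (.node (.leaf 2868) (.leaf 10380))) (.node (.node (.leaf 1619) (.leaf 7713)) (.node (.leaf 4259) (.leaf 0)))) (.node (.node (.node (.leaf 1038) (.leaf 6757)) (.node (.leaf 3547) (.leaf 12668))) (.node (.node (.leaf 2219) (.leaf 8939)) (.node (.leaf 5011) (.leaf 0)))))))) (.node (.node (.node (.node (.node (.node (.node (.leaf 59) (.leaf 5169)) (.node (.leaf 2341) (.leaf 9156))) (.node (.node (.leaf 1143) (.leaf 6914)) (.node (.leaf 3681) (.leaf 13329)))) (.node (.node (.node (.leaf 590) (.leaf 5994)) (.node (.leaf 2989) (.leaf 10673))) (.node (.node (.leaf 1733) (.leaf 7935)) (.node (.leaf 4398) (.leaf 0))))) (.node (.node (.node (.node (.leaf 320) (.leaf 5579)) (.node (.leaf 2662) (.leaf 9907))) (.node (.node (.leaf 1435) (.leaf 7399)) (.node (.leaf 4031) (.leaf 0)))) (.node (.node (.node (.leaf 865) (.leaf 6446)) (.node (.leaf 3337) (.leaf 11711))) (.node (.node (.leaf 2032) (.leaf 8504)) (.node (.leaf 4783) (.leaf 0)))))) (.node (.node (.node (.node (.node (.leaf 189) (.leaf 5370)) (.node (.leaf 2498) (.leaf 9503)))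 (.node (.node (.leaf 1288) (.leaf 7159)) (.node (.leaf 3852) (.leaf 0)))) (.node (.node (.node (.leaf 726) (.leaf 6210)) (.node (.leaf 3162) (.leaf 11204))) (.node (.node (.leaf 1882) (.leaf 8201)) (.node (.leaf 4598) (.leaf 0))))) (.node (.node (.node (.node (.leaf 455) (.leaf 5786)) (.node (.leaf 2820) (.leaf 10247))) (.node (.node (.leaf 1582) (.leaf 7635)) (.node (.leaf 4210) (.leaf 0)))) (.node (.node (.node (.leaf 1005) (.leaf 6689)) (.node (.leaf 3501) (.leaf 12423))) (.node (.node (.leaf 2183) (.leaf 8850)) (.node (.leaf 4961) (.leaf 0))))))) (.node (.node (.node (.node (.node (.node (.leaf 124) (.leaf 5261)) (.node (.leaf 2423) (.leaf 9311))) (.node (.node (.leaf 1216) (.leaf 7035)) (.node (.leaf 3766) (.leaf 13854)))) (.node (.node (.node (.leaf 657) (.leaf 6099)) (.node (.leaf 3074) (.leaf 10934))) (.node (.node (.leaf 1808) (.leaf 8062)) (.node (.leaf 4498) (.leaf 0))))) (.node (.node (.node (.node (.leaf 387) (.leaf 5679)) (.node (.leaf 2741) (.leaf 10064))) (.node (.node (.leaf 1510) (.leaf 7520)) (.node (.leaf 4131) (.leaf 0)))) (.node (.node (.node (.leaf 935) (.leaf 6555)) (.node (.leaf 3422) (.leaf 12053)))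 (.node (.node (.leaf 2111) (.leaf 8645)) (.node (.leaf 4871) (.leaf 0)))))) (.node (.node (.node (.node (.node (.leaf 255) (.leaf 5482)) (.node (.leaf 2579) (.leaf 9717))) (.node (.node (.leaf 1359) (.leaf 7274)) (.node (.leaf 3938) (.leaf 0)))) (.node (.node (.node (.leaf 797) (.leaf 6330)) (.node (.leaf 3249) (.leaf 11475))) (.node (.node (.leaf 1960) (.leaf 8335)) (.node (.leaf 4692) (.leaf 0))))) (.node (.node (.node (.node (.leaf 522) (.leaf 5888)) (.node (.leaf 2911) (.leaf 10490))) (.node (.node (.leaf 1657) (.leaf 7799)) (.node (.leaf 4309) (.leaf 0)))) (.node (.node (.node (.leaf 1074) (.leaf 6816)) (.node (.leaf 3596) (.leaf 12818))) (.node (.node (.leaf 2260) (.leaf 9010)) (.node (.leaf 5061) (.leaf 0))))))))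

def hpT29 : NT := .node (.node (.node (.node (.node (.node (.node (.node (.leaf 28) (.leaf 5120)) (.node (.leaf 2300) (.leaf 9087))) (.node (.node (.leaf 1110) (.leaf 6868)) (.node (.leaf 3641) (.leaf 13029)))) (.node (.node (.node (.leaf 556) (.leaf 5940)) (.node (.leaf 2949) (.leaf 10580))) (.node (.node (.leaf 1697) (.leaf 7867)) (.node (.leaf 4354) (.leaf 0))))) (.node (.node (.node (.node (.leaf 288) (.leaf 5534)) (.node (.leaf 2622) (.leaf 9807))) (.node (.node (.leaf 1400) (.leaf 7342)) (.node (.leaf 3991) (.leaf 0)))) (.node (.node (.node (.leaf 831) (.leaf 6395)) (.node (.leaf 3292) (.leaf 11612))) (.node (.node (.leaf 1995) (.leaf 8433)) (.node (.leaf 4741) (.leaf 0)))))) (.node (.node (.node (.node (.node (.leaf 157) (.leaf 5324)) (.node (.leaf 2462) (.leaf 9413))) (.node (.node (.leaf 1256) (.leaf 7094)) (.node (.leaf 3808) (.leaf 14182)))) (.node (.node (.node (.leaf 693) (.leaf 6158)) (.node (.leaf 3117) (.leaf 11096))) (.node (.node (.leaf 1849) (.leaf 8135)) (.node (.leaf 4547) (.leaf 0))))) (.node (.node (.node (.node (.leaf 422) (.leaf 5724)) (.node (.leaf 2781) (.leaf 10172))) (.node (.node (.leaf 1547)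 (.leaf 7585)) (.node (.leaf 4168) (.leaf 0)))) (.node (.node (.node (.leaf 972) (.leaf 6623)) (.node (.leaf 3463) (.leaf 12254))) (.node (.node (.leaf 2148) (.leaf 8762)) (.node (.leaf 4919) (.leaf 0))))))) (.node (.node (.node (.node (.node (.node (.leaf 92) (.leaf 5215)) (.node (.leaf 2386) (.leaf 9244))) (.node (.node (.leaf 1180) (.leaf 6969)) (.node (.leaf 3724) (.leaf 13592)))) (.node (.node (.node (.leaf 625) (.leaf 6048)) (.node (.leaf 3032) (.leaf 10819))) (.node (.node (.leaf 1770) (.leaf 8000)) (.node (.leaf 4447) (.leaf 0))))) (.node (.node (.node (.node (.leaf 354) (.leaf 5630)) (.node (.leaf 2702) (.leaf 9990))) (.node (.node (.leaf 1472) (.leaf 7468)) (.node (.leaf 4085) (.leaf 0)))) (.node (.node (.node (.leaf 901) (.leaf 6491)) (.node (.leaf 3384) (.leaf 11915))) (.node (.node (.leaf 2070) (.leaf 8576)) (.node (.leaf 4828) (.leaf 0)))))) (.node (.node (.node (.node (.node (.leaf 222) (.leaf 5430)) (.node (.leaf 2539) (.leaf 9593))) (.node (.node (.leaf 1325) (.leaf 7222)) (.node (.leaf 3896) (.leaf 0)))) (.node (.node (.node (.leaf 764) (.leaf 6274)) (.node (.leaf 3205) (.leaf 11334))) (.node (.node (.leaf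 1924) (.leaf 8269)) (.node (.leaf 4647) (.leaf 0))))) (.node (.node (.node (.node (.leaf 491) (.leaf 5842)) (.node (.leaf 2869) (.leaf 10383))) (.node (.node (.leaf 1621) (.leaf 7715)) (.node (.leaf 4261) (.leaf 0)))) (.node (.node (.node (.leaf 1039) (.leaf 6759)) (.node (.leaf 3548) (.leaf 12669))) (.node (.node (.leaf 2220) (.leaf 8943)) (.node (.leaf 5014) (.leaf 0)))))))) (.node (.node (.node (.node (.node (.node (.node (.leaf 60) (.leaf 5170)) (.node (.leaf 2342) (.leaf 9158))) (.node (.node (.leaf 1144) (.leaf 6915)) (.node (.leaf 3683) (.leaf 13338)))) (.node (.node (.node (.leaf 591) (.leaf 5995)) (.node (.leaf 2990) (.leaf 10678))) (.node (.node (.leaf 1735) (.leaf 7936)) (.node (.leaf 4399) (.leaf 0))))) (.node (.node (.node (.node (.leaf 321) (.leaf 5580)) (.node (.leaf 2664) (.leaf 9913))) (.node (.node (.leaf 1436) (.leaf 7402)) (.node (.leaf 4032) (.leaf 0)))) (.node (.node (.node (.leaf 866) (.leaf 6447)) (.node (.leaf 3338) (.leaf 11715))) (.node (.node (.leaf 2033) (.leaf 8505)) (.node (.leaf 4784) (.leaf 0)))))) (.node (.node (.node (.node (.node (.leaf 190) (.leaf 5371)) (.node (.leaf 2499) (.leaf 9504)))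 (.node (.node (.leaf 1289) (.leaf 7160)) (.node (.leaf 3853) (.leaf 0)))) (.node (.node (.node (.leaf 727) (.leaf 6211)) (.node (.leaf 3163) (.leaf 11207))) (.node (.node (.leaf 1883) (.leaf 8202)) (.node (.leaf 4599) (.leaf 0))))) (.node (.node (.node (.node (.leaf 456) (.leaf 5790)) (.node (.leaf 2823) (.leaf 10248))) (.node (.node (.leaf 1583) (.leaf 7637)) (.node (.leaf 4211) (.leaf 0)))) (.node (.node (.node (.leaf 1006) (.leaf 6690)) (.node (.leaf 3502) (.leaf 12426))) (.node (.node (.leaf 2184) (.leaf 8853)) (.node (.leaf 4962) (.leaf 0))))))) (.node (.node (.node (.node (.node (.node (.leaf 125) (.leaf 5263)) (.node (.leaf 2424) (.leaf 9312))) (.node (.node (.leaf 1218) (.leaf 7037)) (.node (.leaf 3768) (.leaf 13856)))) (.node (.node (.node (.leaf 658) (.leaf 6100)) (.node (.leaf 3075) (.leaf 10936))) (.node (.node (.leaf 1809) (.leaf 8063)) (.node (.leaf 4500) (.leaf 0))))) (.node (.node (.node (.node (.leaf 388) (.leaf 5681)) (.node (.leaf 2742) (.leaf 10065))) (.node (.node (.leaf 1511) (.leaf 7521)) (.node (.leaf 4133) (.leaf 0)))) (.node (.node (.node (.leaf 937) (.leaf 6557)) (.node (.leaf 3423) (.leaf 12054)))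 (.node (.node (.leaf 2112) (.leaf 8647)) (.node (.leaf 4872) (.leaf 0)))))) (.node (.node (.node (.node (.node (.leaf 256) (.leaf 5484)) (.node (.leaf 2581) (.leaf 9719))) (.node (.node (.leaf 1360) (.leaf 7275)) (.node (.leaf 3939) (.leaf 0)))) (.node (.node (.node (.leaf 798) (.leaf 6331)) (.node (.leaf 3251) (.leaf 11477))) (.node (.node (.leaf 1961) (.leaf 8338)) (.node (.leaf 4695) (.leaf 0))))) (.node (.node (.node (.node (.leaf 523) (.leaf 5889)) (.node (.leaf 2912) (.leaf 10493))) (.node (.node (.leaf 1658) (.leaf 7800)) (.node (.leaf 4311) (.leaf 0)))) (.node (.node (.node (.leaf 1075) (.leaf 6817)) (.node (.leaf 3597) (.leaf 12822))) (.node (.node (.leaf 2261) (.leaf 9019)) (.node (.leaf 5063) (.leaf 0))))))))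

def hpT30 : NT := .node (.node (.node (.node (.node (.node (.node (.node (.leaf 29) (.leaf 5121)) (.node (.leaf 2301) (.leaf 9091))) (.node (.node (.leaf 1111) (.leaf 6869)) (.node (.leaf 3642) (.leaf 13050)))) (.node (.node (.node (.leaf 557) (.leaf 5941)) (.node (.leaf 2950) (.leaf 10589))) (.node (.node (.leaf 1698) (.leaf 7870)) (.node (.leaf 4355) (.leaf 0))))) (.node (.node (.node (.node (.leaf 289) (.leaf 5535)) (.node (.leaf 2623) (.leaf 9808))) (.node (.node (.leaf 1401) (.leaf 7345)) (.node (.leaf 3993) (.leaf 0)))) (.node (.node (.node (.leaf 832) (.leaf 6398)) (.node (.leaf 3293) (.leaf 11617))) (.node (.node (.leaf 1996) (.leaf 8435)) (.node (.leaf 4742) (.leaf 0)))))) (.node (.node (.node (.node (.node (.leaf 158) (.leaf 5325)) (.node (.leaf 2463) (.leaf 9417))) (.node (.node (.leaf 1257) (.leaf 7098)) (.node (.leaf 3809) (.leaf 14211)))) (.node (.node (.node (.leaf 694) (.leaf 6159)) (.node (.leaf 3118) (.leaf 11097))) (.node (.node (.leaf 1850) (.leaf 8138)) (.node (.leaf 4550) (.leaf 0))))) (.node (.node (.node (.node (.leaf 423) (.leaf 5726)) (.node (.leaf 2782) (.leaf 10174))) (.node (.node (.leaf 1548)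 (.leaf 7586)) (.node (.leaf 4169) (.leaf 0)))) (.node (.node (.node (.leaf 973) (.leaf 6624)) (.node (.leaf 3464) (.leaf 12256))) (.node (.node (.leaf 2149) (.leaf 8764)) (.node (.leaf 4922) (.leaf 0))))))) (.node (.node (.node (.node (.node (.node (.leaf 93) (.leaf 5219)) (.node (.leaf 2387) (.leaf 9245))) (.node (.node (.leaf 1181) (.leaf 6974)) (.node (.leaf 3725) (.leaf 13603)))) (.node (.node (.node (.leaf 626) (.leaf 6049)) (.node (.leaf 3033) (.leaf 10821))) (.node (.node (.leaf 1771) (.leaf 8002)) (.node (.leaf 4449) (.leaf 0))))) (.node (.node (.node (.node (.leaf 355) (.leaf 5631)) (.node (.leaf 2703) (.leaf 9998))) (.node (.node (.leaf 1473) (.leaf 7469)) (.node (.leaf 4086) (.leaf 0)))) (.node (.node (.node (.leaf 902) (.leaf 6492)) (.node (.leaf 3385) (.leaf 11918))) (.node (.node (.leaf 2071) (.leaf 8577)) (.node (.leaf 4829) (.leaf 0)))))) (.node (.node (.node (.node (.node (.leaf 223) (.leaf 5433)) (.node (.leaf 2540) (.leaf 9595))) (.node (.node (.leaf 1326) (.leaf 7224)) (.node (.leaf 3897) (.leaf 0)))) (.node (.node (.node (.leaf 765) (.leaf 6275)) (.node (.leaf 3208) (.leaf 11335))) (.node (.node (.leaf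 1925) (.leaf 8271)) (.node (.leaf 4648) (.leaf 0))))) (.node (.node (.node (.node (.leaf 492) (.leaf 5843)) (.node (.leaf 2870) (.leaf 10386))) (.node (.node (.leaf 1622) (.leaf 7725)) (.node (.leaf 4262) (.leaf 0)))) (.node (.node (.node (.leaf 1042) (.leaf 6760)) (.node (.leaf 3549) (.leaf 12671))) (.node (.node (.leaf 2221) (.leaf 8946)) (.node (.leaf 5015) (.leaf 0)))))))) (.node (.node (.node (.node (.node (.node (.node (.leaf 61) (.leaf 5172)) (.node (.leaf 2343) (.leaf 9161))) (.node (.node (.leaf 1145) (.leaf 6918)) (.node (.leaf 3684) (.leaf 13343)))) (.node (.node (.node (.leaf 592) (.leaf 5997)) (.node (.leaf 2991) (.leaf 10680))) (.node (.node (.leaf 1736) (.leaf 7937)) (.node (.leaf 4400) (.leaf 0))))) (.node (.node (.node (.node (.leaf 322) (.leaf 5583)) (.node (.leaf 2665) (.leaf 9915))) (.node (.node (.leaf 1437) (.leaf 7403)) (.node (.leaf 4034) (.leaf 0)))) (.node (.node (.node (.leaf 867) (.leaf 6448)) (.node (.leaf 3339) (.leaf 11725))) (.node (.node (.leaf 2034) (.leaf 8506)) (.node (.leaf 4786) (.leaf 0)))))) (.node (.node (.node (.node (.node (.leaf 191) (.leaf 5372)) (.node (.leaf 2500) (.leaf 9507)))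 (.node (.node (.leaf 1290) (.leaf 7161)) (.node (.leaf 3854) (.leaf 0)))) (.node (.node (.node (.leaf 728) (.leaf 6213)) (.node (.leaf 3164) (.leaf 11217))) (.node (.node (.leaf 1884) (.leaf 8204)) (.node (.leaf 4601) (.leaf 0))))) (.node (.node (.node (.node (.leaf 457) (.leaf 5791)) (.node (.leaf 2825) (.leaf 10253))) (.node (.node (.leaf 1585) (.leaf 7640)) (.node (.leaf 4212) (.leaf 0)))) (.node (.node (.node (.leaf 1007) (.leaf 6691)) (.node (.leaf 3503) (.leaf 12427))) (.node (.node (.leaf 2185) (.leaf 8856)) (.node (.leaf 4963) (.leaf 0))))))) (.node (.node (.node (.node (.node (.node (.leaf 126) (.leaf 5264)) (.node (.leaf 2425) (.leaf 9317))) (.node (.node (.leaf 1219) (.leaf 7038)) (.node (.leaf 3769) (.leaf 13876)))) (.node (.node (.node (.leaf 659) (.leaf 6104)) (.node (.leaf 3076) (.leaf 10937))) (.node (.node (.leaf 1811) (.leaf 8064)) (.node (.leaf 4503) (.leaf 0))))) (.node (.node (.node (.node (.leaf 389) (.leaf 5682)) (.node (.leaf 2743) (.leaf 10067))) (.node (.node (.leaf 1512) (.leaf 7523)) (.node (.leaf 4134) (.leaf 0)))) (.node (.node (.node (.leaf 938) (.leaf 6558)) (.node (.leaf 3424) (.leaf 12064)))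 (.node (.node (.leaf 2114) (.leaf 8651)) (.node (.leaf 4873) (.leaf 0)))))) (.node (.node (.node (.node (.node (.leaf 257) (.leaf 5487)) (.node (.leaf 2582) (.leaf 9723))) (.node (.node (.leaf 1361) (.leaf 7276)) (.node (.leaf 3940) (.leaf 0)))) (.node (.node (.node (.leaf 799) (.leaf 6333)) (.node (.leaf 3252) (.leaf 11479))) (.node (.node (.leaf 1962) (.leaf 8341)) (.node (.leaf 4696) (.leaf 0))))) (.node (.node (.node (.node (.leaf 524) (.leaf 5890)) (.node (.leaf 2913) (.leaf 10498))) (.node (.node (.leaf 1659) (.leaf 7801)) (.node (.leaf 4312) (.leaf 0)))) (.node (.node (.node (.leaf 1077) (.leaf 6818)) (.node (.leaf 3598) (.leaf 12826))) (.node (.node (.leaf 2264) (.leaf 9020)) (.node (.leaf 5068) (.leaf 0))))))))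

def hpT31 : NT := .node (.node (.node (.node (.node (.node (.node (.node (.leaf 30) (.leaf 5122)) (.node (.leaf 2302) (.leaf 9094))) (.node (.node (.leaf 1112) (.leaf 6875)) (.node (.leaf 3643) (.leaf 13077)))) (.node (.node (.node (.leaf 558) (.leaf 5944)) (.node (.leaf 2951) (.leaf 10594))) (.node (.node (.leaf 1699) (.leaf 7871)) (.node (.leaf 4356) (.leaf 0))))) (.node (.node (.node (.node (.leaf 290) (.leaf 5536)) (.node (.leaf 2624) (.leaf 9809))) (.node (.node (.leaf 1402) (.leaf 7349)) (.node (.leaf 3994) (.leaf 0)))) (.node (.node (.node (.leaf 833) (.leaf 6399)) (.node (.leaf 3294) (.leaf 11618))) (.node (.node (.leaf 1997) (.leaf 8436)) (.node (.leaf 4743) (.leaf 0)))))) (.node (.node (.node (.node (.node (.leaf 159) (.leaf 5328)) (.node (.leaf 2464) (.leaf 9419))) (.node (.node (.leaf 1258) (.leaf 7099)) (.node (.leaf 3811) (.leaf 14252)))) (.node (.node (.node (.leaf 695) (.leaf 6160)) (.node (.leaf 3120) (.leaf 11098))) (.node (.node (.leaf 1851) (.leaf 8139)) (.node (.leaf 4551) (.leaf 0))))) (.node (.node (.node (.node (.leaf 425) (.leaf 5728)) (.node (.leaf 2783) (.leaf 10179))) (.node (.node (.leaf 1549)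 (.leaf 7587)) (.node (.leaf 4170) (.leaf 0)))) (.node (.node (.node (.leaf 974) (.leaf 6627)) (.node (.leaf 3465) (.leaf 12262))) (.node (.node (.leaf 2150) (.leaf 8765)) (.node (.leaf 4923) (.leaf 0))))))) (.node (.node (.node (.node (.node (.node (.leaf 94) (.leaf 5220)) (.node (.leaf 2388) (.leaf 9247))) (.node (.node (.leaf 1182) (.leaf 6976)) (.node (.leaf 3726) (.leaf 13609)))) (.node (.node (.node (.leaf 627) (.leaf 6051)) (.node (.leaf 3035) (.leaf 10829))) (.node (.node (.leaf 1772) (.leaf 8008)) (.node (.leaf 4450) (.leaf 0))))) (.node (.node (.node (.node (.leaf 356) (.leaf 5633)) (.node (.leaf 2705) (.leaf 9999))) (.node (.node (.leaf 1474) (.leaf 7471)) (.node (.leaf 4087) (.leaf 0)))) (.node (.node (.node (.leaf 903) (.leaf 6494)) (.node (.leaf 3387) (.leaf 11919))) (.node (.node (.leaf 2073) (.leaf 8579)) (.node (.leaf 4830) (.leaf 0)))))) (.node (.node (.node (.node (.node (.leaf 224) (.leaf 5434)) (.node (.leaf 2541) (.leaf 9599))) (.node (.node (.leaf 1327) (.leaf 7225)) (.node (.leaf 3898) (.leaf 0)))) (.node (.node (.node (.leaf 766) (.leaf 6276)) (.node (.leaf 3209) (.leaf 11339))) (.node (.node (.leaf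 1926) (.leaf 8273)) (.node (.leaf 4651) (.leaf 0))))) (.node (.node (.node (.node (.leaf 493) (.leaf 5845)) (.node (.leaf 2872) (.leaf 10387))) (.node (.node (.leaf 1623) (.leaf 7728)) (.node (.leaf 4263) (.leaf 0)))) (.node (.node (.node (.leaf 1043) (.leaf 6763)) (.node (.leaf 3550) (.leaf 12675))) (.node (.node (.leaf 2222) (.leaf 8950)) (.node (.leaf 5016) (.leaf 0)))))))) (.node (.node (.node (.node (.node (.node (.node (.leaf 62) (.leaf 5173)) (.node (.leaf 2344) (.leaf 9163))) (.node (.node (.leaf 1146) (.leaf 6921)) (.node (.leaf 3686) (.leaf 13349)))) (.node (.node (.node (.leaf 593) (.leaf 6001)) (.node (.leaf 2994) (.leaf 10681))) (.node (.node (.leaf 1737) (.leaf 7939)) (.node (.leaf 4403) (.leaf 0))))) (.node (.node (.node (.node (.leaf 323) (.leaf 5586)) (.node (.leaf 2666) (.leaf 9918))) (.node (.node (.leaf 1438) (.leaf 7405)) (.node (.leaf 4035) (.leaf 0)))) (.node (.node (.node (.leaf 868) (.leaf 6449)) (.node (.leaf 3340) (.leaf 11726))) (.node (.node (.leaf 2035) (.leaf 8507)) (.node (.leaf 4787) (.leaf 0)))))) (.node (.node (.node (.node (.node (.leaf 192) (.leaf 5374)) (.node (.leaf 2503) (.leaf 9508)))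 (.node (.node (.leaf 1291) (.leaf 7163)) (.node (.leaf 3856) (.leaf 0)))) (.node (.node (.node (.leaf 729) (.leaf 6216)) (.node (.leaf 3165) (.leaf 11220))) (.node (.node (.leaf 1885) (.leaf 8205)) (.node (.leaf 4602) (.leaf 0))))) (.node (.node (.node (.node (.leaf 458) (.leaf 5792)) (.node (.leaf 2826) (.leaf 10254))) (.node (.node (.leaf 1586) (.leaf 7641)) (.node (.leaf 4213) (.leaf 0)))) (.node (.node (.node (.leaf 1008) (.leaf 6693)) (.node (.leaf 3504) (.leaf 12430))) (.node (.node (.leaf 2186) (.leaf 8858)) (.node (.leaf 4964) (.leaf 0))))))) (.node (.node (.node (.node (.node (.node (.leaf 127) (.leaf 5265)) (.node (.leaf 2426) (.leaf 9318))) (.node (.node (.leaf 1221) (.leaf 7039)) (.node (.leaf 3770) (.leaf 13892)))) (.node (.node (.node (.leaf 660) (.leaf 6105)) (.node (.leaf 3077) (.leaf 10943))) (.node (.node (.leaf 1812) (.leaf 8065)) (.node (.leaf 4504) (.leaf 0))))) (.node (.node (.node (.node (.leaf 390) (.leaf 5683)) (.node (.leaf 2744) (.leaf 10071))) (.node (.node (.leaf 1513) (.leaf 7526)) (.node (.leaf 4136) (.leaf 0)))) (.node (.node (.node (.leaf 939) (.leaf 6559)) (.node (.leaf 3425) (.leaf 12068)))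 (.node (.node (.leaf 2117) (.leaf 8652)) (.node (.leaf 4874) (.leaf 0)))))) (.node (.node (.node (.node (.node (.leaf 258) (.leaf 5488)) (.node (.leaf 2583) (.leaf 9726))) (.node (.node (.leaf 1363) (.leaf 7277)) (.node (.leaf 3941) (.leaf 0)))) (.node (.node (.node (.leaf 800) (.leaf 6335)) (.node (.leaf 3253) (.leaf 11490))) (.node (.node (.leaf 1963) (.leaf 8343)) (.node (.leaf 4698) (.leaf 0))))) (.node (.node (.node (.node (.leaf 525) (.leaf 5891)) (.node (.leaf 2914) (.leaf 10499))) (.node (.node (.leaf 1660) (.leaf 7802)) (.node (.leaf 4313) (.leaf 0)))) (.node (.node (.node (.leaf 1078) (.leaf 6819)) (.node (.leaf 3599) (.leaf 12829))) (.node (.node (.leaf 2265) (.leaf 9023)) (.node (.leaf 5069) (.leaf 0))))))))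

def hpT : NT := .node (.node (.node (.node (.node (hpT0) (hpT16)) (.node (hpT8) (hpT24))) (.node (.node (hpT4) (hpT20)) (.node (hpT12) (hpT28)))) (.node (.node (.node (hpT2) (hpT18)) (.node (hpT10) (hpT26))) (.node (.node (hpT6) (hpT22)) (.node (hpT14) (hpT30))))) (.node (.node (.node (.node (hpT1) (hpT17)) (.node (hpT9) (hpT25))) (.node (.node (hpT5) (hpT21)) (.node (hpT13) (hpT29)))) (.node (.node (.node (hpT3) (hpT19)) (.node (hpT11) (hpT27))) (.node (.node (hpT7) (hpT23)) (.node (hpT15) (hpT31)))))

def ohT0 : NT := .node (.node (.node (.node (.node (.node (.node (.node (.leaf 3625) (.leaf 236)) (.node (.leaf 1924) (.leaf 6141))) (.node (.node (.leaf 2257) (.leaf 1169)) (.node (.leaf 6448) (.leaf 5262)))) (.node (.node (.node (.leaf 5087) (.leaf 3775)) (.node (.leaf 4138) (.leaf 74))) (.node (.node (.leaf 4530) (.leaf 723)) (.node (.leaf 226) (.leaf 0))))) (.node (.node (.node (.node (.leaf 4177) (.leaf 2148)) (.node (.leaf 5491) (.leaf 1483))) (.node (.node (.leaf 5537) (.leaf 1912)) (.node (.leaf 98) (.leaf 0)))) (.node (.node (.node (.leaf 7137) (.leaf 848)) (.node (.leaf 4223) (.leaf 1792))) (.node (.node (.leaf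 7264) (.leaf 4025)) (.node (.leaf 6819) (.leaf 0)))))) (.node (.node (.node (.node (.node (.leaf 4723) (.leaf 1337)) (.node (.leaf 1472) (.leaf 2677))) (.node (.node (.leaf 1860) (.leaf 1364)) (.node (.leaf 970) (.leaf 3116)))) (.node (.node (.node (.leaf 7094) (.leaf 5602)) (.node (.leaf 2835) (.leaf 3863))) (.node (.node (.leaf 5086) (.leaf 618)) (.node (.leaf 5763) (.leaf 0))))) (.node (.node (.node (.node (.leaf 5266) (.leaf 4094)) (.node (.leaf 2513) (.leaf 1402))) (.node (.node (.leaf 4591) (.leaf 7220)) (.node (.leaf 4339) (.leaf 0)))) (.node (.node (.node (.leaf 6481) (.leaf 14)) (.node (.leaf 4841) (.leaf 6383))) (.node (.node (.leaf 1692) (.leaf 974)) (.node (.leaf 146) (.leaf 0))))))) (.node (.node (.node (.node (.node (.node (.leaf 2175) (.leaf 882)) (.node (.leaf 5385) (.leaf 183))) (.node (.node (.leaf 1086) (.leaf 5575)) (.node (.leaf 1888) (.leaf 6094)))) (.node (.node (.node (.leaf 4314) (.leaf 3538)) (.node (.leaf 298) (.leaf 6299))) (.node (.node (.leaf 1218) (.leaf 1927)) (.node (.leaf 167) (.leaf 0))))) (.node (.node (.node (.node (.leaf 1073) (.leaf 4947)) (.node (.leaf 535) (.leaf 3635))) (.node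 (.node (.leaf 3829) (.leaf 6783)) (.node (.leaf 583) (.leaf 0)))) (.node (.node (.node (.leaf 2871) (.leaf 2464)) (.node (.leaf 1305) (.leaf 2763))) (.node (.node (.leaf 4163) (.leaf 3627)) (.node (.leaf 4939) (.leaf 0)))))) (.node (.node (.node (.node (.node (.leaf 1844) (.leaf 1936)) (.node (.leaf 3943) (.leaf 6560))) (.node (.node (.leaf 1583) (.leaf 3394)) (.node (.leaf 6601) (.leaf 0)))) (.node (.node (.node (.leaf 2684) (.leaf 1188)) (.node (.leaf 4479) (.leaf 3759))) (.node (.node (.leaf 5020) (.leaf 5896)) (.node (.leaf 5919) (.leaf 0))))) (.node (.node (.node (.node (.leaf 239) (.leaf 6780)) (.node (.leaf 6114) (.leaf 4336))) (.node (.node (.leaf 2930) (.leaf 462)) (.node (.leaf 151) (.leaf 0)))) (.node (.node (.node (.leaf 4770) (.leaf 4415)) (.node (.leaf 544) (.leaf 245))) (.node (.node (.leaf 3248) (.leaf 3899)) (.node (.leaf 3056) (.leaf 0)))))))) (.node (.node (.node (.node (.node (.node (.node (.leaf 3947) (.leaf 758)) (.node (.leaf 6246) (.leaf 617))) (.node (.node (.leaf 6848) (.leaf 508)) (.node (.leaf 6045) (.leaf 3662)))) (.node (.node (.node (.leaf 2185) (.leaf 3592)) (.node (.leaf 6670) (.leaf 4864)))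 (.node (.node (.leaf 5522) (.leaf 815)) (.node (.leaf 3390) (.leaf 0))))) (.node (.node (.node (.node (.leaf 5823) (.leaf 7274)) (.node (.leaf 6055) (.leaf 3511))) (.node (.node (.leaf 4957) (.leaf 3763)) (.node (.leaf 6585) (.leaf 0)))) (.node (.node (.node (.leaf 3119) (.leaf 2781)) (.node (.leaf 6474) (.leaf 6704))) (.node (.node (.leaf 4709) (.leaf 6372)) (.node (.leaf 1130) (.leaf 0)))))) (.node (.node (.node (.node (.node (.leaf 1090) (.leaf 4075)) (.node (.leaf 2090) (.leaf 3629))) (.node (.node (.leaf 4732) (.leaf 4195)) (.node (.leaf 6311) (.leaf 7202)))) (.node (.node (.node (.leaf 1462) (.leaf 852)) (.node (.leaf 6987) (.leaf 2753))) (.node (.node (.leaf 6341) (.leaf 6331)) (.node (.leaf 6095) (.leaf 0))))) (.node (.node (.node (.node (.leaf 6521) (.leaf 5012)) (.node (.leaf 1358) (.leaf 4987))) (.node (.node (.leaf 4086) (.leaf 1839)) (.node (.leaf 3905) (.leaf 0)))) (.node (.node (.node (.leaf 5720) (.leaf 3991)) (.node (.leaf 4013) (.leaf 4951))) (.node (.node (.leaf 3416) (.leaf 6376)) (.node (.leaf 4058) (.leaf 0))))))) (.node (.node (.node (.node (.node (.node (.leaf 2757) (.leaf 7252)) (.node (.leaf 1210)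 (.leaf 1794))) (.node (.node (.leaf 5199) (.leaf 4106)) (.node (.leaf 384) (.leaf 72)))) (.node (.node (.node (.leaf 6871) (.leaf 244)) (.node (.leaf 7209) (.leaf 1993))) (.node (.node (.leaf 3370) (.leaf 1205)) (.node (.leaf 6454) (.leaf 0))))) (.node (.node (.node (.node (.leaf 1597) (.leaf 3908)) (.node (.leaf 5948) (.leaf 4839))) (.node (.node (.leaf 5019) (.leaf 56)) (.node (.leaf 1045) (.leaf 0)))) (.node (.node (.node (.leaf 282) (.leaf 5429)) (.node (.leaf 4838) (.leaf 6325))) (.node (.node (.leaf 1796) (.leaf 376)) (.node (.leaf 2060) (.leaf 0)))))) (.node (.node (.node (.node (.node (.leaf 1278) (.leaf 4912)) (.node (.leaf 5880) (.leaf 2315))) (.node (.node (.leaf 939) (.leaf 2426)) (.node (.leaf 6445) (.leaf 0)))) (.node (.node (.node (.leaf 4810) (.leaf 1820)) (.node (.leaf 4746) (.leaf 874))) (.node (.node (.leaf 1026) (.leaf 5947)) (.node (.leaf 6582) (.leaf 0))))) (.node (.node (.node (.node (.leaf 1761) (.leaf 902)) (.node (.leaf 5640) (.leaf 6437))) (.node (.node (.leaf 4441) (.leaf 3398)) (.node (.leaf 2318) (.leaf 0)))) (.node (.node (.node (.leaf 5800) (.leaf 5394)) (.node (.leaf 5458) (.leaf 6895)))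 (.node (.node (.leaf 4768) (.leaf 5318)) (.node (.leaf 26) (.leaf 0))))))))

def ohT1 : NT := .node (.node (.node (.node (.node (.node (.node (.node (.leaf 7193) (.leaf 4836)) (.node (.leaf 6240) (.leaf 1191))) (.node (.node (.leaf 4180) (.leaf 4773)) (.node (.leaf 762) (.leaf 1013)))) (.node (.node (.node (.leaf 5216) (.leaf 5136)) (.node (.leaf 4120) (.leaf 270))) (.node (.node (.leaf 2559) (.leaf 3647)) (.node (.leaf 6209) (.leaf 0))))) (.node (.node (.node (.node (.leaf 7310) (.leaf 3334)) (.node (.leaf 5571) (.leaf 3548))) (.node (.node (.leaf 3123) (.leaf 5288)) (.node (.leaf 6173) (.leaf 0)))) (.node (.node (.node (.leaf 6514) (.leaf 5832)) (.node (.leaf 7092) (.leaf 1894))) (.node (.node (.leaf 4408) (.leaf 1486)) (.node (.leaf 7333) (.leaf 0)))))) (.node (.node (.node (.node (.node (.leaf 1103) (.leaf 422)) (.node (.leaf 3578) (.leaf 6804))) (.node (.node (.leaf 2444) (.leaf 6119)) (.node (.leaf 5768) (.leaf 4404)))) (.node (.node (.node (.leaf 893) (.leaf 669)) (.node (.leaf 5503) (.leaf 1816))) (.node (.node (.leaf 3740) (.leaf 3063)) (.node (.leaf 3353) (.leaf 0))))) (.node (.node (.node (.node (.leaf 1842)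 (.leaf 7276)) (.node (.leaf 6510) (.leaf 3329))) (.node (.node (.leaf 6066) (.leaf 322)) (.node (.leaf 132) (.leaf 0)))) (.node (.node (.node (.leaf 1128) (.leaf 6829)) (.node (.leaf 7228) (.leaf 529))) (.node (.node (.leaf 4301) (.leaf 5041)) (.node (.leaf 7090) (.leaf 0))))))) (.node (.node (.node (.node (.node (.node (.leaf 4397) (.leaf 5072)) (.node (.leaf 1355) (.leaf 717))) (.node (.node (.leaf 862) (.leaf 3788)) (.node (.leaf 2754) (.leaf 1031)))) (.node (.node (.node (.leaf 3331) (.leaf 4953)) (.node (.leaf 6068) (.leaf 3002))) (.node (.node (.leaf 2814) (.leaf 3070)) (.node (.leaf 5439) (.leaf 0))))) (.node (.node (.node (.node (.leaf 2779) (.leaf 3413)) (.node (.leaf 540) (.leaf 5607))) (.node (.node (.leaf 6416) (.leaf 3074)) (.node (.leaf 4299) (.leaf 0)))) (.node (.node (.node (.leaf 4151) (.leaf 6105)) (.node (.leaf 5449) (.leaf 1587))) (.node (.node (.leaf 2495) (.leaf 6597)) (.node (.leaf 3853) (.leaf 0)))))) (.node (.node (.node (.node (.node (.leaf 1880) (.leaf 3095)) (.node (.leaf 805) (.leaf 3176))) (.node (.node (.leaf 2585) (.leaf 5416)) (.node (.leaf 6497) (.leaf 0)))) (.node (.node (.node (.leaf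 5221) (.leaf 4247)) (.node (.leaf 3891) (.leaf 4747))) (.node (.node (.leaf 7118) (.leaf 6972)) (.node (.leaf 1660) (.leaf 0))))) (.node (.node (.node (.node (.leaf 7286) (.leaf 2062)) (.node (.leaf 3321) (.leaf 3184))) (.node (.node (.leaf 3783) (.leaf 5913)) (.node (.leaf 5311) (.leaf 0)))) (.node (.node (.node (.leaf 6982) (.leaf 6530)) (.node (.leaf 6102) (.leaf 1866))) (.node (.node (.leaf 6269) (.leaf 2215)) (.node (.leaf 6706) (.leaf 0)))))))) (.node (.node (.node (.node (.node (.node (.node (.leaf 4924) (.leaf 6288)) (.node (.leaf 3977) (.leaf 395))) (.node (.node (.leaf 2497) (.leaf 2610)) (.node (.leaf 4556) (.leaf 3843)))) (.node (.node (.node (.leaf 5133) (.leaf 78)) (.node (.leaf 2052) (.leaf 2992))) (.node (.node (.leaf 7288) (.leaf 5643)) (.node (.leaf 1735) (.leaf 0))))) (.node (.node (.node (.node (.leaf 430) (.leaf 5203)) (.node (.leaf 6838) (.leaf 5015))) (.node (.node (.leaf 1594) (.leaf 1602)) (.node (.leaf 6499) (.leaf 0)))) (.node (.node (.node (.leaf 835) (.leaf 1517)) (.node (.leaf 6003) (.leaf 7337))) (.node (.node (.leaf 861) (.leaf 4462)) (.node (.leaf 6761) (.leaf 0)))))) (.node (.node (.node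 (.node (.node (.leaf 3295) (.leaf 2388)) (.node (.leaf 4815) (.leaf 6202))) (.node (.node (.leaf 2551) (.leaf 4517)) (.node (.leaf 49) (.leaf 820)))) (.node (.node (.node (.leaf 568) (.leaf 4624)) (.node (.leaf 5906) (.leaf 1887))) (.node (.node (.leaf 1394) (.leaf 1674)) (.node (.leaf 6811) (.leaf 0))))) (.node (.node (.node (.node (.leaf 6085) (.leaf 5468)) (.node (.leaf 6671) (.leaf 1724))) (.node (.node (.leaf 2984) (.leaf 637)) (.node (.leaf 1749) (.leaf 0)))) (.node (.node (.node (.leaf 1177) (.leaf 254)) (.node (.leaf 2623) (.leaf 7056))) (.node (.node (.leaf 2018) (.leaf 3384)) (.node (.leaf 263) (.leaf 0))))))) (.node (.node (.node (.node (.node (.node (.leaf 4377) (.leaf 2856)) (.node (.leaf 2978) (.leaf 319))) (.node (.node (.leaf 1666) (.leaf 4079)) (.node (.leaf 7171) (.leaf 2728)))) (.node (.node (.node (.leaf 3897) (.leaf 6444)) (.node (.leaf 4733) (.leaf 5455))) (.node (.node (.leaf 3108) (.leaf 5376)) (.node (.leaf 5682) (.leaf 0))))) (.node (.node (.node (.node (.leaf 6676) (.leaf 3547)) (.node (.leaf 2566) (.leaf 6694))) (.node (.node (.leaf 6634) (.leaf 6070)) (.node (.leaf 4249) (.leaf 0)))) (.node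 (.node (.node (.leaf 4906) (.leaf 6155)) (.node (.leaf 4990) (.leaf 2067))) (.node (.node (.leaf 5727) (.leaf 5994)) (.node (.leaf 4789) (.leaf 0)))))) (.node (.node (.node (.node (.node (.leaf 2287) (.leaf 4277)) (.node (.leaf 3621) (.leaf 3203))) (.node (.node (.leaf 6697) (.leaf 7237)) (.node (.leaf 4978) (.leaf 0)))) (.node (.node (.node (.leaf 2789) (.leaf 5754)) (.node (.leaf 1158) (.leaf 5143))) (.node (.node (.leaf 2761) (.leaf 6276)) (.node (.leaf 5565) (.leaf 0))))) (.node (.node (.node (.node (.leaf 1858) (.leaf 7098)) (.node (.leaf 3934) (.leaf 6350))) (.node (.node (.leaf 857) (.leaf 3132)) (.node (.leaf 1869) (.leaf 0)))) (.node (.node (.node (.leaf 2008) (.leaf 1831)) (.node (.leaf 2394) (.leaf 714))) (.node (.node (.leaf 2788) (.leaf 5951)) (.node (.leaf 2078) (.leaf 0))))))))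

def ohT2 : NT := .node (.node (.node (.node (.node (.node (.node (.node (.leaf 3242) (.leaf 5714)) (.node (.leaf 1572) (.leaf 5393))) (.node (.node (.leaf 5979) (.leaf 6619)) (.node (.leaf 6031) (.leaf 2954)))) (.node (.node (.node (.leaf 6044) (.leaf 2742)) (.node (.leaf 4244) (.leaf 3444))) (.node (.node (.leaf 1725) (.leaf 2678)) (.node (.leaf 3299) (.leaf 0))))) (.node (.node (.node (.node (.leaf 6509) (.leaf 927)) (.node (.leaf 6920) (.leaf 2899))) (.node (.node (.leaf 6082) (.leaf 5258)) (.node (.leaf 915) (.leaf 0)))) (.node (.node (.node (.leaf 3457) (.leaf 5148)) (.node (.leaf 3133) (.leaf 316))) (.node (.node (.leaf 4763) (.leaf 2911)) (.node (.leaf 5525) (.leaf 0)))))) (.node (.node (.node (.node (.node (.leaf 5521) (.leaf 2000)) (.node (.leaf 6016) (.leaf 7184))) (.node (.node (.leaf 6132) (.leaf 2765)) (.node (.leaf 1873) (.leaf 5115)))) (.node (.node (.node (.leaf 7027) (.leaf 90)) (.node (.leaf 1289) (.leaf 5902))) (.node (.node (.leaf 986) (.leaf 3332)) (.node (.leaf 5924) (.leaf 0))))) (.node (.node (.node (.node (.leaf 1877) (.leaf 3167)) (.node (.leaf 5135) (.leaf 1163))) (.node (.node (.leaf 1849)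 (.leaf 2226)) (.node (.leaf 2503) (.leaf 0)))) (.node (.node (.node (.leaf 1448) (.leaf 4423)) (.node (.leaf 966) (.leaf 2349))) (.node (.node (.leaf 800) (.leaf 205)) (.node (.leaf 6535) (.leaf 0))))))) (.node (.node (.node (.node (.node (.node (.leaf 7084) (.leaf 1501)) (.node (.leaf 2994) (.leaf 3477))) (.node (.node (.leaf 449) (.leaf 7269)) (.node (.leaf 2532) (.leaf 6002)))) (.node (.node (.node (.leaf 3558) (.leaf 1466)) (.node (.leaf 5330) (.leaf 3599))) (.node (.node (.leaf 3904) (.leaf 2691)) (.node (.leaf 1247) (.leaf 0))))) (.node (.node (.node (.node (.leaf 4498) (.leaf 3430)) (.node (.leaf 3966) (.leaf 2620))) (.node (.node (.leaf 5130) (.leaf 75)) (.node (.leaf 2883) (.leaf 0)))) (.node (.node (.node (.leaf 2427) (.leaf 7113)) (.node (.leaf 492) (.leaf 3961))) (.node (.node (.leaf 6847) (.leaf 4473)) (.node (.leaf 2859) (.leaf 0)))))) (.node (.node (.node (.node (.node (.leaf 7025) (.leaf 745)) (.node (.leaf 2267) (.leaf 6148))) (.node (.node (.leaf 4061) (.leaf 4655)) (.node (.leaf 428) (.leaf 0)))) (.node (.node (.node (.leaf 658) (.leaf 3594)) (.node (.leaf 6878) (.leaf 4910))) (.node (.node (.leaf 1178)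 (.leaf 4170)) (.node (.leaf 3283) (.leaf 0))))) (.node (.node (.node (.node (.leaf 4830) (.leaf 4359)) (.node (.leaf 2637) (.leaf 6951))) (.node (.node (.leaf 5939) (.leaf 5933)) (.node (.leaf 7311) (.leaf 0)))) (.node (.node (.node (.leaf 6348) (.leaf 168)) (.node (.leaf 6980) (.leaf 5589))) (.node (.node (.leaf 1294) (.leaf 275)) (.node (.leaf 5250) (.leaf 0)))))))) (.node (.node (.node (.node (.node (.node (.node (.leaf 3337) (.leaf 2275)) (.node (.leaf 1341) (.leaf 4687))) (.node (.node (.leaf 6924) (.leaf 3316)) (.node (.leaf 6973) (.leaf 6561)))) (.node (.node (.node (.leaf 2451) (.leaf 5715)) (.node (.leaf 6803) (.leaf 6144))) (.node (.node (.leaf 1903) (.leaf 1679)) (.node (.leaf 4338) (.leaf 0))))) (.node (.node (.node (.node (.leaf 4622) (.leaf 386)) (.node (.leaf 5147) (.leaf 2085))) (.node (.node (.leaf 121) (.leaf 819)) (.node (.leaf 2207) (.leaf 0)))) (.node (.node (.node (.leaf 3171) (.leaf 1929)) (.node (.leaf 3616) (.leaf 736))) (.node (.node (.leaf 1591) (.leaf 4877)) (.node (.leaf 846) (.leaf 0)))))) (.node (.node (.node (.node (.node (.leaf 1412) (.leaf 818)) (.node (.leaf 6247) (.leaf 7167))) (.node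 (.node (.leaf 5828) (.leaf 5855)) (.node (.leaf 1148) (.leaf 1546)))) (.node (.node (.node (.leaf 4437) (.leaf 4250)) (.node (.leaf 3199) (.leaf 6787))) (.node (.node (.leaf 445) (.leaf 3698)) (.node (.leaf 196) (.leaf 0))))) (.node (.node (.node (.node (.leaf 7240) (.leaf 1599)) (.node (.leaf 5475) (.leaf 3105))) (.node (.node (.leaf 1057) (.leaf 5876)) (.node (.leaf 3917) (.leaf 0)))) (.node (.node (.node (.leaf 1913) (.leaf 4260)) (.node (.leaf 3757) (.leaf 1646))) (.node (.node (.leaf 4287) (.leaf 3144)) (.node (.leaf 1782) (.leaf 0))))))) (.node (.node (.node (.node (.node (.node (.leaf 2077) (.leaf 1212)) (.node (.leaf 3207) (.leaf 2224))) (.node (.node (.leaf 4572) (.leaf 2319)) (.node (.leaf 7022) (.leaf 3577)))) (.node (.node (.node (.leaf 2780) (.leaf 1275)) (.node (.leaf 6473) (.leaf 2058))) (.node (.node (.leaf 3591) (.leaf 6238)) (.node (.leaf 4600) (.leaf 0))))) (.node (.node (.node (.node (.leaf 6733) (.leaf 6451)) (.node (.leaf 6011) (.leaf 3152))) (.node (.node (.leaf 5657) (.leaf 6555)) (.node (.leaf 5726) (.leaf 0)))) (.node (.node (.node (.leaf 1455) (.leaf 1340)) (.node (.leaf 1078) (.leaf 2088)))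 (.node (.node (.leaf 4908) (.leaf 4691)) (.node (.leaf 15) (.leaf 0)))))) (.node (.node (.node (.node (.node (.leaf 2470) (.leaf 1160)) (.node (.leaf 1542) (.leaf 6101))) (.node (.node (.leaf 1365) (.leaf 6899)) (.node (.leaf 4742) (.leaf 0)))) (.node (.node (.node (.leaf 5532) (.leaf 2913)) (.node (.leaf 4909) (.leaf 5921))) (.node (.node (.leaf 1558) (.leaf 6827)) (.node (.leaf 973) (.leaf 0))))) (.node (.node (.node (.node (.leaf 4856) (.leaf 341)) (.node (.leaf 2967) (.leaf 3764))) (.node (.node (.leaf 4796) (.leaf 6230)) (.node (.leaf 1853) (.leaf 0)))) (.node (.node (.node (.leaf 4335) (.leaf 873)) (.node (.leaf 1971) (.leaf 214))) (.node (.node (.leaf 7023) (.leaf 2712)) (.node (.leaf 5686) (.leaf 0))))))))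

def ohT3 : NT := .node (.node (.node (.node (.node (.node (.node (.node (.leaf 2375) (.leaf 6201)) (.node (.leaf 1613) (.leaf 2842))) (.node (.node (.leaf 1539) (.leaf 4076)) (.node (.leaf 4803) (.leaf 3945)))) (.node (.node (.node (.leaf 2342) (.leaf 4091)) (.node (.leaf 2630) (.leaf 5915))) (.node (.node (.leaf 1204) (.leaf 3815)) (.node (.leaf 1535) (.leaf 0))))) (.node (.node (.node (.node (.leaf 7012) (.leaf 5246)) (.node (.leaf 2013) (.leaf 2708))) (.node (.node (.leaf 1397) (.leaf 7086)) (.node (.leaf 1404) (.leaf 0)))) (.node (.node (.node (.leaf 3373) (.leaf 5082)) (.node (.leaf 1408) (.leaf 1411))) (.node (.node (.leaf 6808) (.leaf 3351)) (.node (.leaf 785) (.leaf 0)))))) (.node (.node (.node (.node (.node (.leaf 5596) (.leaf 4283)) (.node (.leaf 6602) (.leaf 7132))) (.node (.node (.leaf 5402) (.leaf 6365)) (.node (.leaf 3801) (.leaf 841)))) (.node (.node (.node (.leaf 12) (.leaf 3586)) (.node (.leaf 4073) (.leaf 690))) (.node (.node (.leaf 538) (.leaf 3580)) (.node (.leaf 4014) (.leaf 0))))) (.node (.node (.node (.node (.leaf 6823) (.leaf 2296)) (.node (.leaf 7134) (.leaf 5562))) (.node (.node (.leaf 2012)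 (.leaf 6658)) (.node (.leaf 1804) (.leaf 0)))) (.node (.node (.node (.leaf 6743) (.leaf 2268)) (.node (.leaf 2351) (.leaf 942))) (.node (.node (.leaf 189) (.leaf 2854)) (.node (.leaf 5890) (.leaf 0))))))) (.node (.node (.node (.node (.node (.node (.leaf 5037) (.leaf 2652)) (.node (.leaf 842) (.leaf 5681))) (.node (.node (.leaf 3032) (.leaf 1838)) (.node (.leaf 5464) (.leaf 1011)))) (.node (.node (.node (.leaf 998) (.leaf 6420)) (.node (.leaf 4117) (.leaf 3837))) (.node (.node (.leaf 145) (.leaf 1783)) (.node (.leaf 1560) (.leaf 0))))) (.node (.node (.node (.node (.leaf 403) (.leaf 5168)) (.node (.leaf 4700) (.leaf 2945))) (.node (.node (.leaf 1438) (.leaf 5493)) (.node (.leaf 5009) (.leaf 0)))) (.node (.node (.node (.leaf 6911) (.leaf 4181)) (.node (.leaf 1586) (.leaf 7293))) (.node (.node (.leaf 3439) (.leaf 817)) (.node (.leaf 111) (.leaf 0)))))) (.node (.node (.node (.node (.node (.leaf 3630) (.leaf 1055)) (.node (.leaf 778) (.leaf 1149))) (.node (.node (.leaf 7091) (.leaf 1176)) (.node (.leaf 1750) (.leaf 0)))) (.node (.node (.node (.leaf 3700) (.leaf 952)) (.node (.leaf 524) (.leaf 1159))) (.node (.node (.leaf 2203)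 (.leaf 537)) (.node (.leaf 6360) (.leaf 0))))) (.node (.node (.node (.node (.leaf 3080) (.leaf 73)) (.node (.leaf 4809) (.leaf 5363))) (.node (.node (.leaf 5879) (.leaf 6894)) (.node (.leaf 7102) (.leaf 0)))) (.node (.node (.node (.leaf 1181) (.leaf 3451)) (.node (.leaf 4493) (.leaf 6621))) (.node (.node (.leaf 5444) (.leaf 1632)) (.node (.leaf 2174) (.leaf 0)))))))) (.node (.node (.node (.node (.node (.node (.node (.leaf 6502) (.leaf 6647)) (.node (.leaf 362) (.leaf 1272))) (.node (.node (.leaf 4956) (.leaf 2327)) (.node (.leaf 459) (.leaf 4620)))) (.node (.node (.node (.leaf 1469) (.leaf 4968)) (.node (.leaf 6993) (.leaf 5627))) (.node (.node (.leaf 6732) (.leaf 5893)) (.node (.leaf 4389) (.leaf 0))))) (.node (.node (.node (.node (.leaf 5541) (.leaf 1421)) (.node (.leaf 3828) (.leaf 961))) (.node (.node (.leaf 6687) (.leaf 2389)) (.node (.leaf 1898) (.leaf 0)))) (.node (.node (.node (.leaf 478) (.leaf 6681)) (.node (.leaf 2924) (.leaf 6322))) (.node (.node (.leaf 3705) (.leaf 415)) (.node (.leaf 2035) (.leaf 0)))))) (.node (.node (.node (.node (.node (.leaf 4920) (.leaf 1143)) (.node (.leaf 2850) (.leaf 3574))) (.node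 (.node (.leaf 3138) (.leaf 1755)) (.node (.leaf 1096) (.leaf 4868)))) (.node (.node (.node (.leaf 3727) (.leaf 6628)) (.node (.leaf 5827) (.leaf 426))) (.node (.node (.leaf 687) (.leaf 656)) (.node (.leaf 5650) (.leaf 0))))) (.node (.node (.node (.node (.leaf 2795) (.leaf 3903)) (.node (.leaf 354) (.leaf 4537))) (.node (.node (.leaf 4647) (.leaf 6526)) (.node (.leaf 6368) (.leaf 0)))) (.node (.node (.node (.leaf 3916) (.leaf 7248)) (.node (.leaf 4859) (.leaf 5134))) (.node (.node (.leaf 965) (.leaf 6866)) (.node (.leaf 741) (.leaf 0))))))) (.node (.node (.node (.node (.node (.node (.leaf 2886) (.leaf 2942)) (.node (.leaf 5099) (.leaf 5428))) (.node (.node (.leaf 5473) (.leaf 257)) (.node (.leaf 6366) (.leaf 4319)))) (.node (.node (.node (.leaf 429) (.leaf 791)) (.node (.leaf 2367) (.leaf 1318))) (.node (.node (.leaf 5970) (.leaf 824)) (.node (.leaf 2173) (.leaf 0))))) (.node (.node (.node (.node (.leaf 7062) (.leaf 3567)) (.node (.leaf 6315) (.leaf 3174))) (.node (.node (.leaf 997) (.leaf 1270)) (.node (.leaf 978) (.leaf 0)))) (.node (.node (.node (.leaf 1238) (.leaf 361)) (.node (.leaf 2568) (.leaf 4527))) (.node (.node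 (.leaf 1156) (.leaf 3266)) (.node (.leaf 5737) (.leaf 0)))))) (.node (.node (.node (.node (.node (.leaf 6644) (.leaf 795)) (.node (.leaf 6208) (.leaf 4369))) (.node (.node (.leaf 5347) (.leaf 6272)) (.node (.leaf 1028) (.leaf 0)))) (.node (.node (.node (.leaf 1909) (.leaf 5709)) (.node (.leaf 3675) (.leaf 453))) (.node (.node (.leaf 5533) (.leaf 2009)) (.node (.leaf 4418) (.leaf 0))))) (.node (.node (.node (.node (.leaf 2178) (.leaf 39)) (.node (.leaf 1934) (.leaf 3466))) (.node (.node (.leaf 1592) (.leaf 6988)) (.node (.leaf 5547) (.leaf 0)))) (.node (.node (.node (.leaf 5859) (.leaf 5052)) (.node (.leaf 7271) (.leaf 3748))) (.node (.node (.leaf 6576) (.leaf 5400)) (.node (.leaf 7341) (.leaf 0))))))))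

def ohT4 : NT := .node (.node (.node (.node (.node (.node (.node (.node (.leaf 3368) (.leaf 3612)) (.node (.leaf 4606) (.leaf 4382))) (.node (.node (.leaf 1182) (.leaf 6877)) (.node (.leaf 3344) (.leaf 6906)))) (.node (.node (.node (.leaf 614) (.leaf 5703)) (.node (.leaf 6435) (.leaf 1779))) (.node (.node (.leaf 1094) (.leaf 6590)) (.node (.leaf 1552) (.leaf 0))))) (.node (.node (.node (.node (.leaf 5969) (.leaf 3609)) (.node (.leaf 2787) (.leaf 273))) (.node (.node (.leaf 7077) (.leaf 4111)) (.node (.leaf 578) (.leaf 0)))) (.node (.node (.node (.leaf 4127) (.leaf 4713)) (.node (.leaf 6371) (.leaf 3743))) (.node (.node (.leaf 1741) (.leaf 926)) (.node (.leaf 5204) (.leaf 0)))))) (.node (.node (.node (.node (.node (.leaf 1665) (.leaf 2710)) (.node (.leaf 523) (.leaf 6591))) (.node (.node (.leaf 5184) (.leaf 4626)) (.node (.leaf 898) (.leaf 2680)))) (.node (.node (.node (.leaf 6573) (.leaf 4088)) (.node (.leaf 4172) (.leaf 3710))) (.node (.node (.leaf 1429) (.leaf 6457)) (.node (.leaf 6310) (.leaf 0))))) (.node (.node (.node (.node (.leaf 1463) (.leaf 4430)) (.node (.leaf 5851) (.leaf 4275))) (.node (.node (.leaf 7085)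 (.leaf 5963)) (.node (.leaf 11) (.leaf 0)))) (.node (.node (.node (.leaf 3280) (.leaf 7170)) (.node (.leaf 4191) (.leaf 2089))) (.node (.node (.leaf 1314) (.leaf 2938)) (.node (.leaf 3718) (.leaf 0))))))) (.node (.node (.node (.node (.node (.node (.leaf 1002) (.leaf 3906)) (.node (.leaf 2940) (.leaf 6858))) (.node (.node (.leaf 2953) (.leaf 3787)) (.node (.leaf 2749) (.leaf 2593)))) (.node (.node (.node (.leaf 1678) (.leaf 4438)) (.node (.leaf 7030) (.leaf 1526))) (.node (.node (.leaf 2354) (.leaf 489)) (.node (.leaf 6174) (.leaf 0))))) (.node (.node (.node (.node (.leaf 4057) (.leaf 7323)) (.node (.leaf 6830) (.leaf 4748))) (.node (.node (.leaf 5649) (.leaf 3581)) (.node (.leaf 6839) (.leaf 0)))) (.node (.node (.node (.leaf 3471) (.leaf 6702)) (.node (.leaf 2759) (.leaf 1150))) (.node (.node (.leaf 5802) (.leaf 5645)) (.node (.leaf 931) (.leaf 0)))))) (.node (.node (.node (.node (.node (.leaf 7320) (.leaf 576)) (.node (.leaf 7146) (.leaf 6052))) (.node (.node (.leaf 2914) (.leaf 5298)) (.node (.leaf 4372) (.leaf 0)))) (.node (.node (.node (.leaf 5764) (.leaf 3758)) (.node (.leaf 5123) (.leaf 5404))) (.node (.node (.leaf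 4585) (.leaf 5934)) (.node (.leaf 4964) (.leaf 0))))) (.node (.node (.node (.node (.leaf 6244) (.leaf 3185)) (.node (.leaf 6583) (.leaf 7307))) (.node (.node (.leaf 2417) (.leaf 6195)) (.node (.leaf 6986) (.leaf 0)))) (.node (.node (.node (.leaf 198) (.leaf 1248)) (.node (.leaf 2824) (.leaf 4387))) (.node (.node (.leaf 6990) (.leaf 2905)) (.node (.leaf 47) (.leaf 0)))))))) (.node (.node (.node (.node (.node (.node (.node (.leaf 0) (.leaf 3553)) (.node (.leaf 2255) (.leaf 2840))) (.node (.node (.leaf 3341) (.leaf 154)) (.node (.leaf 2411) (.leaf 2821)))) (.node (.node (.node (.leaf 5787) (.leaf 3709)) (.node (.leaf 6905) (.leaf 786))) (.node (.node (.leaf 5527) (.leaf 1770)) (.node (.leaf 5704) (.leaf 0))))) (.node (.node (.node (.node (.leaf 4380) (.leaf 392)) (.node (.leaf 2119) (.leaf 5972))) (.node (.node (.leaf 2912) (.leaf 5406)) (.node (.leaf 5840) (.leaf 0)))) (.node (.node (.node (.leaf 6443) (.leaf 1630)) (.node (.leaf 6078) (.leaf 5355))) (.node (.node (.leaf 666) (.leaf 400)) (.node (.leaf 4429) (.leaf 0)))))) (.node (.node (.node (.node (.node (.leaf 7051) (.leaf 3834)) (.node (.leaf 6901) (.leaf 4115))) (.node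 (.node (.leaf 632) (.leaf 3320)) (.node (.leaf 2485) (.leaf 1790)))) (.node (.node (.node (.leaf 1440) (.leaf 3483)) (.node (.leaf 2352) (.leaf 3915))) (.node (.node (.leaf 2958) (.leaf 6637)) (.node (.leaf 2935) (.leaf 0))))) (.node (.node (.node (.node (.leaf 4982) (.leaf 5471)) (.node (.leaf 2249) (.leaf 2727))) (.node (.node (.leaf 4695) (.leaf 4366)) (.node (.leaf 877) (.leaf 0)))) (.node (.node (.node (.leaf 6503) (.leaf 3029)) (.node (.leaf 1306) (.leaf 2649))) (.node (.node (.leaf 25) (.leaf 3894)) (.node (.leaf 752) (.leaf 0))))))) (.node (.node (.node (.node (.node (.node (.leaf 6856) (.leaf 5605)) (.node (.leaf 2857) (.leaf 6256))) (.node (.node (.leaf 4721) (.leaf 5442)) (.node (.leaf 7083) (.leaf 4972)))) (.node (.node (.node (.leaf 6152) (.leaf 1384)) (.node (.leaf 157) (.leaf 4378))) (.node (.node (.leaf 27) (.leaf 6875)) (.node (.leaf 5006) (.leaf 0))))) (.node (.node (.node (.node (.leaf 7289) (.leaf 2975)) (.node (.leaf 779) (.leaf 5929))) (.node (.node (.leaf 2396) (.leaf 4996)) (.node (.leaf 3617) (.leaf 0)))) (.node (.node (.node (.leaf 5976) (.leaf 2254)) (.node (.leaf 1352) (.leaf 5991))) (.node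 (.node (.leaf 3912) (.leaf 247)) (.node (.leaf 4212) (.leaf 0)))))) (.node (.node (.node (.node (.node (.leaf 1910) (.leaf 5418)) (.node (.leaf 1185) (.leaf 3699))) (.node (.node (.leaf 5531) (.leaf 1875)) (.node (.leaf 4428) (.leaf 0)))) (.node (.node (.node (.leaf 7338) (.leaf 1710)) (.node (.leaf 7068) (.leaf 2219))) (.node (.node (.leaf 2110) (.leaf 4519)) (.node (.leaf 4699) (.leaf 0))))) (.node (.node (.node (.node (.leaf 4426) (.leaf 2244)) (.node (.leaf 3541) (.leaf 8))) (.node (.node (.leaf 2959) (.leaf 115)) (.node (.leaf 2949) (.leaf 0)))) (.node (.node (.node (.leaf 5998) (.leaf 4814)) (.node (.leaf 6483) (.leaf 6861))) (.node (.node (.leaf 3093) (.leaf 6221)) (.node (.leaf 4444) (.leaf 0))))))))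

def ohT5 : NT := .node (.node (.node (.node (.node (.node (.node (.node (.leaf 811) (.leaf 1395)) (.node (.leaf 153) (.leaf 3960))) (.node (.node (.leaf 2686) (.leaf 5122)) (.node (.leaf 5954) (.leaf 5955)))) (.node (.node (.node (.leaf 3214) (.leaf 1105)) (.node (.leaf 561) (.leaf 4103))) (.node (.node (.leaf 2666) (.leaf 4786)) (.node (.leaf 1379) (.leaf 0))))) (.node (.node (.node (.node (.leaf 4548) (.leaf 5767)) (.node (.leaf 959) (.leaf 4229))) (.node (.node (.leaf 6353) (.leaf 2591)) (.node (.leaf 545) (.leaf 0)))) (.node (.node (.node (.leaf 6168) (.leaf 7156)) (.node (.leaf 3651) (.leaf 6375))) (.node (.node (.leaf 3696) (.leaf 6611)) (.node (.leaf 6645) (.leaf 0)))))) (.node (.node (.node (.node (.node (.leaf 2580) (.leaf 3259)) (.node (.leaf 7261) (.leaf 3474))) (.node (.node (.leaf 4455) (.leaf 218)) (.node (.leaf 7076) (.leaf 4447)))) (.node (.node (.node (.leaf 2803) (.leaf 3949)) (.node (.leaf 5291) (.leaf 5092))) (.node (.node (.leaf 5332) (.leaf 2718)) (.node (.leaf 6754) (.leaf 0))))) (.node (.node (.node (.node (.leaf 1781) (.leaf 2046)) (.node (.leaf 375) (.leaf 5837))) (.node (.node (.leaf 2534) (.leaf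 6737)) (.node (.leaf 5760) (.leaf 0)))) (.node (.node (.node (.leaf 2572) (.leaf 5391)) (.node (.leaf 2114) (.leaf 2346))) (.node (.node (.leaf 53) (.leaf 4618)) (.node (.leaf 704) (.leaf 0))))))) (.node (.node (.node (.node (.node (.node (.leaf 1498) (.leaf 5953)) (.node (.leaf 2496) (.leaf 2133))) (.node (.node (.leaf 1807) (.leaf 4611)) (.node (.leaf 1283) (.leaf 2514)))) (.node (.node (.node (.leaf 2486) (.leaf 2627)) (.node (.leaf 4133) (.leaf 4307))) (.node (.node (.leaf 1242) (.leaf 4650)) (.node (.leaf 3112) (.leaf 0))))) (.node (.node (.node (.node (.leaf 587) (.leaf 7148)) (.node (.leaf 5769) (.leaf 1165))) (.node (.node (.leaf 2711) (.leaf 7181)) (.node (.leaf 1788) (.leaf 0)))) (.node (.node (.node (.leaf 5881) (.leaf 300)) (.node (.leaf 2647) (.leaf 6570))) (.node (.node (.leaf 490) (.leaf 2387)) (.node (.leaf 5756) (.leaf 0)))))) (.node (.node (.node (.node (.node (.leaf 7142) (.leaf 836)) (.node (.leaf 64) (.leaf 4880))) (.node (.node (.leaf 3808) (.leaf 1033)) (.node (.leaf 5937) (.leaf 0)))) (.node (.node (.node (.leaf 2676) (.leaf 5540)) (.node (.leaf 3502) (.leaf 679))) (.node (.node (.leaf 829) (.leaf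 1683)) (.node (.leaf 380) (.leaf 0))))) (.node (.node (.node (.node (.leaf 1669) (.leaf 735)) (.node (.leaf 3516) (.leaf 6361))) (.node (.node (.leaf 1731) (.leaf 4898)) (.node (.leaf 3440) (.leaf 0)))) (.node (.node (.node (.leaf 1224) (.leaf 4728)) (.node (.leaf 5885) (.leaf 539))) (.node (.node (.leaf 7332) (.leaf 3358)) (.node (.leaf 4601) (.leaf 0)))))))) (.node (.node (.node (.node (.node (.node (.node (.leaf 3634) (.leaf 6837)) (.node (.leaf 782) (.leaf 3525))) (.node (.node (.leaf 2861) (.leaf 3033)) (.node (.leaf 1069) (.leaf 6636)))) (.node (.node (.node (.leaf 4511) (.leaf 685)) (.node (.leaf 6236) (.leaf 2247))) (.node (.node (.leaf 2714) (.leaf 229)) (.node (.leaf 2823) (.leaf 0))))) (.node (.node (.node (.node (.leaf 953) (.leaf 4702)) (.node (.leaf 7159) (.leaf 2015))) (.node (.node (.leaf 5690) (.leaf 1798)) (.node (.leaf 5175) (.leaf 0)))) (.node (.node (.node (.leaf 6468) (.leaf 5219)) (.node (.leaf 1493) (.leaf 4095))) (.node (.node (.leaf 86) (.leaf 516)) (.node (.leaf 6380) (.leaf 0)))))) (.node (.node (.node (.node (.node (.leaf 3020) (.leaf 5752)) (.node (.leaf 4458) (.leaf 4356))) (.node (.node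 (.leaf 3683) (.leaf 1064)) (.node (.leaf 4343) (.leaf 1979)))) (.node (.node (.node (.leaf 1581) (.leaf 2180)) (.node (.leaf 5671) (.leaf 1345))) (.node (.node (.leaf 588) (.leaf 4504)) (.node (.leaf 6842) (.leaf 0))))) (.node (.node (.node (.node (.leaf 1087) (.leaf 1801)) (.node (.leaf 5819) (.leaf 7298))) (.node (.node (.leaf 4715) (.leaf 3928)) (.node (.leaf 448) (.leaf 0)))) (.node (.node (.node (.leaf 2888) (.leaf 444)) (.node (.leaf 3884) (.leaf 5848))) (.node (.node (.leaf 6534) (.leaf 1509)) (.node (.leaf 5024) (.leaf 0))))))) (.node (.node (.node (.node (.node (.node (.leaf 1458) (.leaf 3540)) (.node (.leaf 929) (.leaf 1220))) (.node (.node (.leaf 1388) (.leaf 1263)) (.node (.leaf 4627) (.leaf 5795)))) (.node (.node (.node (.leaf 7143) (.leaf 4064)) (.node (.leaf 6215) (.leaf 272))) (.node (.node (.leaf 5084) (.leaf 4078)) (.node (.leaf 2402) (.leaf 0))))) (.node (.node (.node (.node (.leaf 3212) (.leaf 6267)) (.node (.leaf 585) (.leaf 5480))) (.node (.node (.leaf 5460) (.leaf 1378)) (.node (.leaf 3778) (.leaf 0)))) (.node (.node (.node (.leaf 232) (.leaf 7218)) (.node (.leaf 4819) (.leaf 4946))) (.node (.node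 (.leaf 6996) (.leaf 5047)) (.node (.leaf 1312) (.leaf 0)))))) (.node (.node (.node (.node (.node (.leaf 1668) (.leaf 6390)) (.node (.leaf 3143) (.leaf 6479))) (.node (.node (.leaf 5296) (.leaf 4937)) (.node (.leaf 3861) (.leaf 0)))) (.node (.node (.node (.leaf 2867) (.leaf 103)) (.node (.leaf 609) (.leaf 891))) (.node (.node (.leaf 1682) (.leaf 5554)) (.node (.leaf 5658) (.leaf 0))))) (.node (.node (.node (.node (.leaf 6756) (.leaf 3409)) (.node (.leaf 4392) (.leaf 5656))) (.node (.node (.leaf 3896) (.leaf 4194)) (.node (.leaf 1009) (.leaf 0)))) (.node (.node (.node (.leaf 6940) (.leaf 7003)) (.node (.leaf 1845) (.leaf 5591))) (.node (.node (.leaf 5080) (.leaf 686)) (.node (.leaf 6578) (.leaf 0))))))))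

def ohT6 : NT := .node (.node (.node (.node (.node (.node (.node (.node (.leaf 2304) (.leaf 6342)) (.node (.leaf 4208) (.leaf 3267))) (.node (.node (.leaf 2122) (.leaf 7331)) (.node (.leaf 3649) (.leaf 28)))) (.node (.node (.node (.leaf 3061) (.leaf 2116)) (.node (.leaf 2458) (.leaf 6529))) (.node (.node (.leaf 5183) (.leaf 3277)) (.node (.leaf 4278) (.leaf 0))))) (.node (.node (.node (.node (.leaf 6569) (.leaf 2589)) (.node (.leaf 5698) (.leaf 1854))) (.node (.node (.leaf 2188) (.leaf 3228)) (.node (.leaf 4049) (.leaf 0)))) (.node (.node (.node (.leaf 5386) (.leaf 5813)) (.node (.leaf 437) (.leaf 4938))) (.node (.node (.leaf 594) (.leaf 5245)) (.node (.leaf 5582) (.leaf 0)))))) (.node (.node (.node (.node (.node (.leaf 3357) (.leaf 3397)) (.node (.leaf 225) (.leaf 4174))) (.node (.node (.leaf 4574) (.leaf 720)) (.node (.leaf 4488) (.leaf 385)))) (.node (.node (.node (.leaf 6806) (.leaf 3833)) (.node (.leaf 7032) (.leaf 4501))) (.node (.node (.leaf 1190) (.leaf 6942)) (.node (.leaf 2546) (.leaf 0))))) (.node (.node (.node (.node (.leaf 1071) (.leaf 5345)) (.node (.leaf 2200) (.leaf 1385))) (.node (.node (.leaf 5466) (.leaf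 7308)) (.node (.leaf 87) (.leaf 0)))) (.node (.node (.node (.leaf 2603) (.leaf 4693)) (.node (.leaf 6123) (.leaf 6314))) (.node (.node (.leaf 5395) (.leaf 5190)) (.node (.leaf 7190) (.leaf 0))))))) (.node (.node (.node (.node (.node (.node (.leaf 3873) (.leaf 2356)) (.node (.leaf 374) (.leaf 5942))) (.node (.node (.leaf 3098) (.leaf 1361)) (.node (.leaf 2895) (.leaf 6970)))) (.node (.node (.node (.leaf 399) (.leaf 4876)) (.node (.leaf 6853) (.leaf 2187))) (.node (.node (.leaf 983) (.leaf 1655)) (.node (.leaf 629) (.leaf 0))))) (.node (.node (.node (.node (.leaf 260) (.leaf 603)) (.node (.leaf 1962) (.leaf 3125))) (.node (.node (.leaf 3492) (.leaf 2809)) (.node (.leaf 6099) (.leaf 0)))) (.node (.node (.node (.leaf 4542) (.leaf 5753)) (.node (.leaf 6324) (.leaf 1286))) (.node (.node (.leaf 4651) (.leaf 3087)) (.node (.leaf 1676) (.leaf 0)))))) (.node (.node (.node (.node (.node (.leaf 3082) (.leaf 3172)) (.node (.leaf 1524) (.leaf 1253))) (.node (.node (.leaf 2882) (.leaf 4347)) (.node (.leaf 5799) (.leaf 0)))) (.node (.node (.node (.leaf 3363) (.leaf 5817)) (.node (.leaf 3980) (.leaf 3289))) (.node (.node (.leaf 3218) (.leaf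 3962)) (.node (.leaf 6688) (.leaf 0))))) (.node (.node (.node (.node (.leaf 281) (.leaf 3546)) (.node (.leaf 6214) (.leaf 1661))) (.node (.node (.leaf 5251) (.leaf 3490)) (.node (.leaf 6567) (.leaf 0)))) (.node (.node (.node (.leaf 5103) (.leaf 2447)) (.node (.leaf 3666) (.leaf 2379))) (.node (.node (.leaf 3333) (.leaf 604)) (.node (.leaf 670) (.leaf 0)))))))) (.node (.node (.node (.node (.node (.node (.node (.leaf 3543) (.leaf 5050)) (.node (.leaf 636) (.leaf 3959))) (.node (.node (.leaf 6126) (.leaf 450)) (.node (.leaf 7230) (.leaf 3011)))) (.node (.node (.node (.leaf 7258) (.leaf 6106)) (.node (.leaf 1107) (.leaf 46))) (.node (.node (.leaf 3129) (.leaf 6049)) (.node (.leaf 3665) (.leaf 0))))) (.node (.node (.node (.node (.leaf 1814) (.leaf 3646)) (.node (.leaf 6515) (.leaf 6266))) (.node (.node (.leaf 1216) (.leaf 1330)) (.node (.leaf 1036) (.leaf 0)))) (.node (.node (.node (.leaf 730) (.leaf 2441)) (.node (.leaf 1446) (.leaf 6779))) (.node (.node (.leaf 3735) (.leaf 660)) (.node (.leaf 3396) (.leaf 0)))))) (.node (.node (.node (.node (.node (.leaf 4550) (.leaf 2952)) (.node (.leaf 2811) (.leaf 2091))) (.node (.node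 (.leaf 6614) (.leaf 5453)) (.node (.leaf 798) (.leaf 7292)))) (.node (.node (.node (.leaf 1386) (.leaf 6518)) (.node (.leaf 2212) (.leaf 4875))) (.node (.node (.leaf 5841) (.leaf 1703)) (.node (.leaf 3298) (.leaf 0))))) (.node (.node (.node (.node (.leaf 3857) (.leaf 3069)) (.node (.leaf 7024) (.leaf 71))) (.node (.node (.leaf 2668) (.leaf 3415)) (.node (.leaf 6185) (.leaf 0)))) (.node (.node (.node (.leaf 3315) (.leaf 203)) (.node (.leaf 2890) (.leaf 473))) (.node (.node (.leaf 7223) (.leaf 511)) (.node (.leaf 3937) (.leaf 0))))))) (.node (.node (.node (.node (.node (.node (.leaf 40) (.leaf 4282)) (.node (.leaf 1467) (.leaf 5789))) (.node (.node (.leaf 4355) (.leaf 185)) (.node (.leaf 6162) (.leaf 5691)))) (.node (.node (.node (.leaf 6356) (.leaf 1403)) (.node (.leaf 5940) (.leaf 2758))) (.node (.node (.leaf 6471) (.leaf 1052)) (.node (.leaf 1053) (.leaf 0))))) (.node (.node (.node (.node (.leaf 2903) (.leaf 5158)) (.node (.leaf 5359) (.leaf 2493))) (.node (.node (.leaf 1327) (.leaf 2440)) (.node (.leaf 2746) (.leaf 0)))) (.node (.node (.node (.leaf 6537) (.leaf 5784)) (.node (.leaf 5384) (.leaf 2429))) (.node (.node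 (.leaf 2029) (.leaf 3639)) (.node (.leaf 2167) (.leaf 0)))))) (.node (.node (.node (.node (.node (.leaf 2696) (.leaf 461)) (.node (.leaf 2624) (.leaf 657))) (.node (.node (.leaf 570) (.leaf 2453)) (.node (.leaf 2179) (.leaf 0)))) (.node (.node (.node (.leaf 7147) (.leaf 1651)) (.node (.leaf 7033) (.leaf 6115))) (.node (.node (.leaf 6751) (.leaf 4575)) (.node (.leaf 1110) (.leaf 0))))) (.node (.node (.node (.node (.leaf 2956) (.leaf 5744)) (.node (.leaf 4286) (.leaf 293))) (.node (.node (.leaf 2066) (.leaf 969)) (.node (.leaf 5237) (.leaf 0)))) (.node (.node (.node (.leaf 1904) (.leaf 30)) (.node (.leaf 6169) (.leaf 242))) (.node (.node (.leaf 4595) (.leaf 3901)) (.node (.leaf 2184) (.leaf 0))))))))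

def ohT7 : NT := .node (.node (.node (.node (.node (.node (.node (.node (.leaf 6631) (.leaf 3462)) (.node (.leaf 3653) (.leaf 4453))) (.node (.node (.leaf 2774) (.leaf 4753)) (.node (.leaf 4726) (.leaf 3347)))) (.node (.node (.node (.leaf 2934) (.leaf 6752)) (.node (.leaf 4842) (.leaf 1851))) (.node (.node (.leaf 2476) (.leaf 6607)) (.node (.leaf 3386) (.leaf 0))))) (.node (.node (.node (.node (.leaf 5801) (.leaf 2380)) (.node (.leaf 4315) (.leaf 1870))) (.node (.node (.leaf 4323) (.leaf 6120)) (.node (.leaf 5154) (.leaf 0)))) (.node (.node (.node (.leaf 1310) (.leaf 3042)) (.node (.leaf 173) (.leaf 5936))) (.node (.node (.leaf 5557) (.leaf 3449)) (.node (.leaf 1832) (.leaf 0)))))) (.node (.node (.node (.node (.node (.leaf 5336) (.leaf 1464)) (.node (.leaf 1627) (.leaf 2733))) (.node (.node (.leaf 5517) (.leaf 2401)) (.node (.leaf 4221) (.leaf 3575)))) (.node (.node (.node (.leaf 2021) (.leaf 3737)) (.node (.leaf 5357) (.leaf 3007))) (.node (.node (.leaf 2421) (.leaf 3301)) (.node (.leaf 2143) (.leaf 0))))) (.node (.node (.node (.node (.leaf 1884) (.leaf 5003)) (.node (.leaf 5307) (.leaf 3230))) (.node (.node (.leaf 7204)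 (.leaf 564)) (.node (.leaf 9) (.leaf 0)))) (.node (.node (.node (.leaf 126) (.leaf 7319)) (.node (.leaf 1954) (.leaf 4610))) (.node (.node (.leaf 611) (.leaf 5845)) (.node (.leaf 6949) (.leaf 0))))))) (.node (.node (.node (.node (.node (.node (.leaf 59) (.leaf 4743)) (.node (.leaf 109) (.leaf 5320))) (.node (.node (.leaf 100) (.leaf 945)) (.node (.leaf 4162) (.leaf 2170)))) (.node (.node (.node (.leaf 851) (.leaf 5961)) (.node (.leaf 6362) (.leaf 4824))) (.node (.node (.leaf 161) (.leaf 1861)) (.node (.leaf 833) (.leaf 0))))) (.node (.node (.node (.node (.leaf 6731) (.leaf 5601)) (.node (.leaf 7120) (.leaf 2374))) (.node (.node (.leaf 488) (.leaf 788)) (.node (.leaf 347) (.leaf 0)))) (.node (.node (.node (.leaf 29) (.leaf 1944)) (.node (.leaf 2087) (.leaf 4697))) (.node (.node (.leaf 3428) (.leaf 2466)) (.node (.leaf 3925) (.leaf 0)))))) (.node (.node (.node (.node (.node (.leaf 1976) (.leaf 479)) (.node (.leaf 4999) (.leaf 172))) (.node (.node (.leaf 4589) (.leaf 1339)) (.node (.leaf 500) (.leaf 0)))) (.node (.node (.node (.leaf 1728) (.leaf 3482)) (.node (.leaf 6724) (.leaf 2537))) (.node (.node (.leaf 5821) (.leaf 7166))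 (.node (.leaf 2462) (.leaf 0))))) (.node (.node (.node (.node (.leaf 1454) (.leaf 5502)) (.node (.leaf 5017) (.leaf 2141))) (.node (.node (.leaf 1621) (.leaf 2413)) (.node (.leaf 4649) (.leaf 0)))) (.node (.node (.node (.leaf 919) (.leaf 2037)) (.node (.leaf 4110) (.leaf 698))) (.node (.node (.leaf 6351) (.leaf 2430)) (.node (.leaf 3004) (.leaf 0)))))))) (.node (.node (.node (.node (.node (.node (.node (.leaf 3608) (.leaf 4883)) (.node (.leaf 3685) (.leaf 136))) (.node (.node (.leaf 2057) (.leaf 863)) (.node (.leaf 5529) (.leaf 677)))) (.node (.node (.node (.leaf 3323) (.leaf 2099)) (.node (.leaf 4919) (.leaf 348))) (.node (.node (.leaf 1992) (.leaf 4436)) (.node (.leaf 4931) (.leaf 0))))) (.node (.node (.node (.node (.leaf 5409) (.leaf 721)) (.node (.leaf 1077) (.leaf 1233))) (.node (.node (.leaf 5426) (.leaf 536)) (.node (.leaf 6222) (.leaf 0)))) (.node (.node (.node (.leaf 4980) (.leaf 4525)) (.node (.leaf 3734) (.leaf 3014))) (.node (.node (.leaf 2393) (.leaf 80)) (.node (.leaf 1855) (.leaf 0)))))) (.node (.node (.node (.node (.node (.leaf 4835) (.leaf 4799)) (.node (.leaf 6476) (.leaf 6326))) (.node (.node (.leaf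 4619) (.leaf 5835)) (.node (.leaf 1690) (.leaf 7155)))) (.node (.node (.node (.leaf 3424) (.leaf 6757)) (.node (.leaf 6289) (.leaf 150))) (.node (.node (.leaf 3793) (.leaf 2071)) (.node (.leaf 7111) (.leaf 0))))) (.node (.node (.node (.node (.leaf 1151) (.leaf 1896)) (.node (.leaf 4265) (.leaf 7309))) (.node (.node (.leaf 2991) (.leaf 4761)) (.node (.leaf 1656) (.leaf 0)))) (.node (.node (.node (.leaf 5653) (.leaf 315)) (.node (.leaf 3620) (.leaf 2278))) (.node (.node (.leaf 3918) (.leaf 3022)) (.node (.leaf 2971) (.leaf 0))))))) (.node (.node (.node (.node (.node (.node (.leaf 2111) (.leaf 3258)) (.node (.leaf 6404) (.leaf 5474))) (.node (.node (.leaf 3148) (.leaf 2437)) (.node (.leaf 2961) (.leaf 5212)))) (.node (.node (.node (.leaf 6040) (.leaf 2535)) (.node (.leaf 3996) (.leaf 859))) (.node (.node (.leaf 410) (.leaf 3559)) (.node (.leaf 5576) (.leaf 0))))) (.node (.node (.node (.node (.leaf 612) (.leaf 2518)) (.node (.leaf 1872) (.leaf 7152))) (.node (.node (.leaf 6212) (.leaf 5303)) (.node (.leaf 4879) (.leaf 0)))) (.node (.node (.node (.leaf 2574) (.leaf 4451)) (.node (.leaf 2065) (.leaf 3976))) (.node (.node (.leaf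 2683) (.leaf 5569)) (.node (.leaf 4704) (.leaf 0)))))) (.node (.node (.node (.node (.node (.leaf 1834) (.leaf 3196)) (.node (.leaf 119) (.leaf 2026))) (.node (.node (.leaf 5791) (.leaf 5728)) (.node (.leaf 4577) (.leaf 0)))) (.node (.node (.node (.leaf 3372) (.leaf 3066)) (.node (.leaf 4617) (.leaf 6883))) (.node (.node (.leaf 951) (.leaf 4460)) (.node (.leaf 504) (.leaf 0))))) (.node (.node (.node (.node (.leaf 4851) (.leaf 3500)) (.node (.leaf 6539) (.leaf 4069))) (.node (.node (.leaf 1516) (.leaf 2237)) (.node (.leaf 4417) (.leaf 0)))) (.node (.node (.node (.leaf 5121) (.leaf 2925)) (.node (.leaf 4128) (.leaf 7262))) (.node (.node (.leaf 402) (.leaf 1639)) (.node (.leaf 6464) (.leaf 0))))))))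

def ohT8 : NT := .node (.node (.node (.node (.node (.node (.node (.node (.leaf 2360) (.leaf 6188)) (.node (.leaf 6421) (.leaf 5995))) (.node (.node (.leaf 6022) (.leaf 4970)) (.node (.leaf 726) (.leaf 4790)))) (.node (.node (.node (.leaf 6397) (.leaf 2050)) (.node (.leaf 6867) (.leaf 3633))) (.node (.node (.leaf 6921) (.leaf 1209)) (.node (.leaf 1753) (.leaf 0))))) (.node (.node (.node (.node (.leaf 1175) (.leaf 699)) (.node (.leaf 2293) (.leaf 2664))) (.node (.node (.leaf 2285) (.leaf 1650)) (.node (.leaf 1557) (.leaf 0)))) (.node (.node (.node (.leaf 4885) (.leaf 5577)) (.node (.leaf 19) (.leaf 4371))) (.node (.node (.leaf 4502) (.leaf 5907)) (.node (.leaf 2784) (.leaf 0)))))) (.node (.node (.node (.node (.node (.leaf 566) (.leaf 4318)) (.node (.leaf 5875) (.leaf 65))) (.node (.node (.leaf 7315) (.leaf 1774)) (.node (.leaf 2492) (.leaf 6459)))) (.node (.node (.node (.leaf 3684) (.leaf 3975)) (.node (.leaf 4211) (.leaf 4788))) (.node (.node (.leaf 1721) (.leaf 2674)) (.node (.leaf 3823) (.leaf 0))))) (.node (.node (.node (.node (.leaf 177) (.leaf 3318)) (.node (.leaf 4280) (.leaf 4004))) (.node (.node (.leaf 4085) (.leaf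 3585)) (.node (.leaf 667) (.leaf 0)))) (.node (.node (.node (.leaf 4561) (.leaf 4852)) (.node (.leaf 577) (.leaf 3965))) (.node (.node (.leaf 3677) (.leaf 5179)) (.node (.leaf 6966) (.leaf 0))))))) (.node (.node (.node (.node (.node (.node (.leaf 5905) (.leaf 4609)) (.node (.leaf 1353) (.leaf 6163))) (.node (.node (.leaf 7126) (.leaf 3523)) (.node (.leaf 812) (.leaf 3423)))) (.node (.node (.node (.leaf 4707) (.leaf 3939)) (.node (.leaf 3450) (.leaf 6759))) (.node (.node (.leaf 2829) (.leaf 6133)) (.node (.leaf 4587) (.leaf 0))))) (.node (.node (.node (.node (.leaf 5911) (.leaf 7225)) (.node (.leaf 518) (.leaf 810))) (.node (.node (.leaf 1654) (.leaf 6241)) (.node (.leaf 1758) (.leaf 0)))) (.node (.node (.node (.leaf 1027) (.leaf 350)) (.node (.leaf 464) (.leaf 5738))) (.node (.node (.leaf 4646) (.leaf 6466)) (.node (.leaf 7275) (.leaf 0)))))) (.node (.node (.node (.node (.node (.leaf 1808) (.leaf 5888)) (.node (.leaf 6716) (.leaf 3263))) (.node (.node (.leaf 2400) (.leaf 360)) (.node (.leaf 3798) (.leaf 0)))) (.node (.node (.node (.leaf 2414) (.leaf 2793)) (.node (.leaf 442) (.leaf 5192))) (.node (.node (.leaf 4310) (.leaf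 6225)) (.node (.leaf 1642) (.leaf 0))))) (.node (.node (.node (.node (.leaf 1235) (.leaf 6563)) (.node (.leaf 5696) (.leaf 6218))) (.node (.node (.leaf 411) (.leaf 4360)) (.node (.leaf 344) (.leaf 0)))) (.node (.node (.node (.leaf 6413) (.leaf 5452)) (.node (.leaf 1219) (.leaf 3164))) (.node (.node (.leaf 1062) (.leaf 6412)) (.node (.leaf 91) (.leaf 0)))))))) (.node (.node (.node (.node (.node (.node (.node (.leaf 96) (.leaf 4826)) (.node (.leaf 2238) (.leaf 6846))) (.node (.node (.leaf 3200) (.leaf 3443)) (.node (.leaf 6825) (.leaf 3288)))) (.node (.node (.node (.leaf 1199) (.leaf 1611)) (.node (.leaf 2898) (.leaf 1734))) (.node (.node (.leaf 4039) (.leaf 3963)) (.node (.leaf 2870) (.leaf 0))))) (.node (.node (.node (.node (.leaf 1153) (.leaf 954)) (.node (.leaf 3389) (.leaf 3455))) (.node (.node (.leaf 3697) (.leaf 3667)) (.node (.leaf 1584) (.leaf 0)))) (.node (.node (.node (.leaf 921) (.leaf 7212)) (.node (.leaf 2481) (.leaf 5097))) (.node (.node (.leaf 6740) (.leaf 2561)) (.node (.leaf 4510) (.leaf 0)))))) (.node (.node (.node (.node (.node (.leaf 4309) (.leaf 5076)) (.node (.leaf 5193) (.leaf 457))) (.node (.node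 (.leaf 4348) (.leaf 1316)) (.node (.leaf 4266) (.leaf 3136)))) (.node (.node (.node (.leaf 2579) (.leaf 2442)) (.node (.leaf 6278) (.leaf 6790))) (.node (.node (.leaf 4638) (.leaf 3249)) (.node (.leaf 6374) (.leaf 0))))) (.node (.node (.node (.node (.leaf 5822) (.leaf 6747)) (.node (.leaf 3745) (.leaf 3137))) (.node (.node (.leaf 129) (.leaf 3972)) (.node (.leaf 6660) (.leaf 0)))) (.node (.node (.node (.leaf 6818) (.leaf 6766)) (.node (.leaf 1823) (.leaf 7130))) (.node (.node (.leaf 6505) (.leaf 4263)) (.node (.leaf 3568) (.leaf 0))))))) (.node (.node (.node (.node (.node (.node (.leaf 342) (.leaf 6051)) (.node (.leaf 6004) (.leaf 5874))) (.node (.node (.leaf 3209) (.leaf 2582)) (.node (.leaf 4123) (.leaf 5233)))) (.node (.node (.node (.leaf 3221) (.leaf 1164)) (.node (.leaf 5354) (.leaf 4708))) (.node (.node (.leaf 1620) (.leaf 2606)) (.node (.leaf 5113) (.leaf 0))))) (.node (.node (.node (.node (.leaf 1060) (.leaf 1785)) (.node (.leaf 6328) (.leaf 7080))) (.node (.node (.leaf 3021) (.leaf 6477)) (.node (.leaf 6612) (.leaf 0)))) (.node (.node (.node (.leaf 2500) (.leaf 639)) (.node (.leaf 1515) (.leaf 4090))) (.node (.node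 (.leaf 4251) (.leaf 5036)) (.node (.leaf 6755) (.leaf 0)))))) (.node (.node (.node (.node (.node (.leaf 4290) (.leaf 3644)) (.node (.leaf 6032) (.leaf 1332))) (.node (.node (.leaf 4889) (.leaf 7186)) (.node (.leaf 5863) (.leaf 0)))) (.node (.node (.node (.leaf 6187) (.leaf 3987)) (.node (.leaf 5674) (.leaf 1906))) (.node (.node (.leaf 3077) (.leaf 6069)) (.node (.leaf 5633) (.leaf 0))))) (.node (.node (.node (.node (.leaf 7074) (.leaf 3400)) (.node (.leaf 5211) (.leaf 3194))) (.node (.node (.leaf 2625) (.leaf 5182)) (.node (.leaf 1012) (.leaf 0)))) (.node (.node (.node (.leaf 7213) (.leaf 4144)) (.node (.leaf 4203) (.leaf 1908))) (.node (.node (.leaf 256) (.leaf 4993)) (.node (.leaf 6784) (.leaf 0))))))))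

def ohT9 : NT := .node (.node (.node (.node (.node (.node (.node (.node (.leaf 1813) (.leaf 4179)) (.node (.leaf 1269) (.leaf 3257))) (.node (.node (.leaf 1821) (.leaf 5713)) (.node (.leaf 4870) (.leaf 4495)))) (.node (.node (.node (.leaf 2326) (.leaf 1317)) (.node (.leaf 2891) (.leaf 744))) (.node (.node (.leaf 2896) (.leaf 5422)) (.node (.leaf 634) (.leaf 0))))) (.node (.node (.node (.node (.leaf 5415) (.leaf 3715)) (.node (.leaf 6767) (.leaf 6994))) (.node (.node (.leaf 2531) (.leaf 339)) (.node (.leaf 4720) (.leaf 0)))) (.node (.node (.node (.leaf 3654) (.leaf 7168)) (.node (.leaf 1254) (.leaf 2832))) (.node (.node (.leaf 1701) (.leaf 147)) (.node (.leaf 1167) (.leaf 0)))))) (.node (.node (.node (.node (.node (.leaf 3689) (.leaf 4833)) (.node (.leaf 1828) (.leaf 1417))) (.node (.node (.leaf 283) (.leaf 7006)) (.node (.leaf 3307) (.leaf 5334)))) (.node (.node (.node (.leaf 635) (.leaf 3104)) (.node (.leaf 896) (.leaf 2135))) (.node (.node (.leaf 7238) (.leaf 5661)) (.node (.leaf 2786) (.leaf 0))))) (.node (.node (.node (.node (.leaf 4182) (.leaf 6595)) (.node (.leaf 117) (.leaf 4724))) (.node (.node (.leaf 2983) (.leaf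 89)) (.node (.leaf 3993) (.leaf 0)))) (.node (.node (.node (.leaf 6897) (.leaf 3306)) (.node (.leaf 1056) (.leaf 6812))) (.node (.node (.leaf 6656) (.leaf 692)) (.node (.leaf 3054) (.leaf 0))))))) (.node (.node (.node (.node (.node (.node (.leaf 1899) (.leaf 1886)) (.node (.leaf 6046) (.leaf 7100))) (.node (.node (.leaf 4500) (.leaf 3382)) (.node (.leaf 2841) (.leaf 6286)))) (.node (.node (.node (.leaf 562) (.leaf 3383)) (.node (.leaf 7226) (.leaf 707))) (.node (.node (.leaf 5501) (.leaf 2445)) (.node (.leaf 4719) (.leaf 0))))) (.node (.node (.node (.node (.leaf 3178) (.leaf 2707)) (.node (.leaf 6958) (.leaf 3366))) (.node (.node (.leaf 3690) (.leaf 1614)) (.node (.leaf 45) (.leaf 0)))) (.node (.node (.node (.leaf 3626) (.leaf 3198)) (.node (.leaf 4000) (.leaf 2211))) (.node (.node (.leaf 502) (.leaf 1974)) (.node (.leaf 6721) (.leaf 0)))))) (.node (.node (.node (.node (.node (.leaf 125) (.leaf 5198)) (.node (.leaf 1075) (.leaf 7138))) (.node (.node (.leaf 719) (.leaf 2253)) (.node (.leaf 61) (.leaf 0)))) (.node (.node (.node (.leaf 1066) (.leaf 6020)) (.node (.leaf 7222) (.leaf 5109))) (.node (.node (.leaf 3270) (.leaf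 5319)) (.node (.leaf 1670) (.leaf 0))))) (.node (.node (.node (.node (.leaf 2885) (.leaf 4690)) (.node (.leaf 2540) (.leaf 775))) (.node (.node (.leaf 6738) (.leaf 521)) (.node (.leaf 2246) (.leaf 0)))) (.node (.node (.node (.leaf 6870) (.leaf 1101)) (.node (.leaf 3419) (.leaf 190))) (.node (.node (.leaf 2567) (.leaf 4311)) (.node (.leaf 6723) (.leaf 0)))))))) (.node (.node (.node (.node (.node (.node (.node (.leaf 653) (.leaf 947)) (.node (.leaf 2872) (.leaf 4215))) (.node (.node (.leaf 5377) (.leaf 4896)) (.node (.leaf 7340) (.leaf 6758)))) (.node (.node (.node (.leaf 3130) (.leaf 4096)) (.node (.leaf 5679) (.leaf 2521))) (.node (.node (.leaf 6432) (.leaf 1829)) (.node (.leaf 2614) (.leaf 0))))) (.node (.node (.node (.node (.leaf 1892) (.leaf 6605)) (.node (.leaf 1757) (.leaf 5317))) (.node (.node (.leaf 2381) (.leaf 506)) (.node (.leaf 5341) (.leaf 0)))) (.node (.node (.node (.leaf 3888) (.leaf 390)) (.node (.leaf 2449) (.leaf 3017))) (.node (.node (.leaf 4544) (.leaf 4535)) (.node (.leaf 940) (.leaf 0)))))) (.node (.node (.node (.node (.node (.leaf 4969) (.leaf 4754)) (.node (.leaf 3932) (.leaf 3656))) (.node (.node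 (.leaf 4985) (.leaf 2154)) (.node (.leaf 2406) (.leaf 3191)))) (.node (.node (.node (.leaf 6822) (.leaf 2271)) (.node (.leaf 7201) (.leaf 2218))) (.node (.node (.leaf 5797) (.leaf 6248)) (.node (.leaf 3910) (.leaf 0))))) (.node (.node (.node (.node (.leaf 5408) (.leaf 3838)) (.node (.leaf 900) (.leaf 1806))) (.node (.node (.leaf 528) (.leaf 1284)) (.node (.leaf 5484) (.leaf 0)))) (.node (.node (.node (.leaf 4666) (.leaf 2223)) (.node (.leaf 5900) (.leaf 3179))) (.node (.node (.leaf 1914) (.leaf 5734)) (.node (.leaf 3785) (.leaf 0))))))) (.node (.node (.node (.node (.node (.node (.leaf 5736) (.leaf 4483)) (.node (.leaf 3958) (.leaf 4482))) (.node (.node (.leaf 4295) (.leaf 3768)) (.node (.leaf 647) (.leaf 5759)))) (.node (.node (.node (.leaf 6992) (.leaf 3426)) (.node (.leaf 3107) (.leaf 546))) (.node (.node (.leaf 6429) (.leaf 4559)) (.node (.leaf 3818) (.leaf 0))))) (.node (.node (.node (.node (.leaf 3425) (.leaf 5188)) (.node (.leaf 3826) (.leaf 3652))) (.node (.node (.leaf 5102) (.leaf 5814)) (.node (.leaf 3219) (.leaf 0)))) (.node (.node (.node (.leaf 6604) (.leaf 2608)) (.node (.leaf 3418) (.leaf 5834))) (.node (.node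 (.leaf 5579) (.leaf 7260)) (.node (.leaf 3506) (.leaf 0)))))) (.node (.node (.node (.node (.node (.leaf 2964) (.leaf 6629)) (.node (.leaf 2860) (.leaf 4823))) (.node (.node (.leaf 3741) (.leaf 5436)) (.node (.leaf 4332) (.leaf 0)))) (.node (.node (.node (.leaf 6579) (.leaf 3260)) (.node (.leaf 3142) (.leaf 6265))) (.node (.node (.leaf 5539) (.leaf 5417)) (.node (.leaf 4767) (.leaf 0))))) (.node (.node (.node (.node (.leaf 3852) (.leaf 3730)) (.node (.leaf 5946) (.leaf 6960))) (.node (.node (.leaf 5608) (.leaf 335)) (.node (.leaf 5344) (.leaf 0)))) (.node (.node (.node (.leaf 4449) (.leaf 938)) (.node (.leaf 3499) (.leaf 2501))) (.node (.node (.leaf 5631) (.leaf 1723)) (.node (.leaf 2340) (.leaf 0))))))))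

def ohT10 : NT := .node (.node (.node (.node (.node (.node (.node (.node (.leaf 1393) (.leaf 6580)) (.node (.leaf 4506) (.leaf 38))) (.node (.node (.leaf 6872) (.leaf 2439)) (.node (.leaf 2227) (.leaf 16)))) (.node (.node (.node (.leaf 715) (.leaf 5454)) (.node (.leaf 1510) (.leaf 4494))) (.node (.node (.leaf 2353) (.leaf 3026)) (.node (.leaf 5161) (.leaf 0))))) (.node (.node (.node (.node (.leaf 1134) (.leaf 881)) (.node (.leaf 2233) (.leaf 7097))) (.node (.node (.leaf 3840) (.leaf 2242)) (.node (.leaf 5774) (.leaf 0)))) (.node (.node (.node (.leaf 633) (.leaf 5398)) (.node (.leaf 2210) (.leaf 7187))) (.node (.node (.leaf 2575) (.leaf 4899)) (.node (.leaf 4391) (.leaf 0)))))) (.node (.node (.node (.node (.node (.leaf 5327) (.leaf 211)) (.node (.leaf 3160) (.leaf 7301))) (.node (.node (.leaf 6017) (.leaf 4581)) (.node (.leaf 4828) (.leaf 1815)))) (.node (.node (.node (.leaf 781) (.leaf 4454)) (.node (.leaf 3998) (.leaf 7322))) (.node (.node (.leaf 3614) (.leaf 3273)) (.node (.leaf 7284) (.leaf 0))))) (.node (.node (.node (.node (.leaf 5225) (.leaf 1496)) (.node (.leaf 6237) (.leaf 6394))) (.node (.node (.leaf 5809) (.leaf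 2656)) (.node (.leaf 5871) (.leaf 0)))) (.node (.node (.node (.leaf 3414) (.leaf 3971)) (.node (.leaf 1523) (.leaf 2418))) (.node (.node (.leaf 5925) (.leaf 3233)) (.node (.leaf 1135) (.leaf 0))))))) (.node (.node (.node (.node (.node (.node (.leaf 4373) (.leaf 5340)) (.node (.leaf 4480) (.leaf 2288))) (.node (.node (.leaf 6726) (.leaf 4894)) (.node (.leaf 2383) (.leaf 223)))) (.node (.node (.node (.leaf 3537) (.leaf 1276)) (.node (.leaf 2194) (.leaf 4393))) (.node (.node (.leaf 4717) (.leaf 4476)) (.node (.leaf 7088) (.leaf 0))))) (.node (.node (.node (.node (.leaf 2177) (.leaf 2529)) (.node (.leaf 2273) (.leaf 4583))) (.node (.node (.leaf 1615) (.leaf 1573)) (.node (.leaf 1418) (.leaf 0)))) (.node (.node (.node (.leaf 6090) (.leaf 6176)) (.node (.leaf 1068) (.leaf 4533))) (.node (.node (.leaf 4270) (.leaf 5597)) (.node (.leaf 7239) (.leaf 0)))))) (.node (.node (.node (.node (.node (.leaf 6087) (.leaf 5284)) (.node (.leaf 3075) (.leaf 4658))) (.node (.node (.leaf 217) (.leaf 4727)) (.node (.leaf 4579) (.leaf 0)))) (.node (.node (.node (.leaf 1975) (.leaf 285)) (.node (.leaf 7254) (.leaf 4445))) (.node (.node (.leaf 5838)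 (.leaf 5652)) (.node (.leaf 797) (.leaf 0))))) (.node (.node (.node (.node (.leaf 5435) (.leaf 3467)) (.node (.leaf 2617) (.leaf 2264))) (.node (.node (.leaf 2306) (.leaf 6717)) (.node (.leaf 42) (.leaf 0)))) (.node (.node (.node (.leaf 6703) (.leaf 2489)) (.node (.leaf 1407) (.leaf 54))) (.node (.node (.leaf 3402) (.leaf 1719)) (.node (.leaf 1513) (.leaf 0)))))))) (.node (.node (.node (.node (.node (.node (.node (.leaf 2398) (.leaf 1432)) (.node (.leaf 336) (.leaf 1687))) (.node (.node (.leaf 6029) (.leaf 7044)) (.node (.leaf 2145) (.leaf 6886)))) (.node (.node (.node (.leaf 6229) (.leaf 816)) (.node (.leaf 2573) (.leaf 130))) (.node (.node (.leaf 5623) (.leaf 3085)) (.node (.leaf 6626) (.leaf 0))))) (.node (.node (.node (.node (.leaf 2102) (.leaf 3068)) (.node (.leaf 6533) (.leaf 512))) (.node (.node (.leaf 484) (.leaf 793)) (.node (.leaf 1863) (.leaf 0)))) (.node (.node (.node (.leaf 5242) (.leaf 2805)) (.node (.leaf 5785) (.leaf 413))) (.node (.node (.leaf 4129) (.leaf 7172)) (.node (.leaf 5170) (.leaf 0)))))) (.node (.node (.node (.node (.node (.leaf 5978) (.leaf 7232)) (.node (.leaf 259) (.leaf 5196))) (.node (.node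 (.leaf 1716) (.leaf 4949)) (.node (.leaf 3862) (.leaf 4543)))) (.node (.node (.node (.leaf 5343) (.leaf 6447)) (.node (.leaf 671) (.leaf 1072))) (.node (.node (.leaf 5665) (.leaf 268)) (.node (.leaf 3583) (.leaf 0))))) (.node (.node (.node (.node (.leaf 3776) (.leaf 2)) (.node (.leaf 6367) (.leaf 6492))) (.node (.node (.leaf 3802) (.leaf 3749)) (.node (.leaf 3065) (.leaf 0)))) (.node (.node (.node (.leaf 1836) (.leaf 5683)) (.node (.leaf 7129) (.leaf 6598))) (.node (.node (.leaf 3186) (.leaf 826)) (.node (.leaf 4113) (.leaf 0))))))) (.node (.node (.node (.node (.node (.node (.leaf 4077) (.leaf 5717)) (.node (.leaf 5445) (.leaf 6050))) (.node (.node (.leaf 2590) (.leaf 4597)) (.node (.leaf 6419) (.leaf 6224)))) (.node (.node (.node (.leaf 1406) (.leaf 3324)) (.node (.leaf 2641) (.leaf 5277))) (.node (.node (.leaf 1970) (.leaf 3380)) (.node (.leaf 903) (.leaf 0))))) (.node (.node (.node (.node (.leaf 3374) (.leaf 3487)) (.node (.leaf 888) (.leaf 2651))) (.node (.node (.leaf 2190) (.leaf 5497)) (.node (.leaf 6527) (.leaf 0)))) (.node (.node (.node (.leaf 864) (.leaf 3686)) (.node (.leaf 5884) (.leaf 4166))) (.node (.node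 (.leaf 4669) (.leaf 4665)) (.node (.leaf 5794) (.leaf 0)))))) (.node (.node (.node (.node (.node (.leaf 904) (.leaf 3411)) (.node (.leaf 932) (.leaf 311))) (.node (.node (.leaf 3520) (.leaf 1237)) (.node (.leaf 349) (.leaf 0)))) (.node (.node (.node (.leaf 4178) (.leaf 3565)) (.node (.leaf 1762) (.leaf 5194))) (.node (.node (.leaf 1001) (.leaf 1189)) (.node (.leaf 5353) (.leaf 0))))) (.node (.node (.node (.node (.leaf 4580) (.leaf 1443)) (.node (.leaf 4934) (.leaf 1565))) (.node (.node (.leaf 6179) (.leaf 240)) (.node (.leaf 5023) (.leaf 0)))) (.node (.node (.node (.leaf 2920) (.leaf 996)) (.node (.leaf 3408) (.leaf 2038))) (.node (.node (.leaf 1288) (.leaf 3155)) (.node (.leaf 253) (.leaf 0))))))))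

def ohT11 : NT := .node (.node (.node (.node (.node (.node (.node (.node (.leaf 5373) (.leaf 2725)) (.node (.leaf 1705) (.leaf 3990))) (.node (.node (.leaf 5780) (.leaf 4637)) (.node (.leaf 323) (.leaf 6915)))) (.node (.node (.node (.leaf 3827) (.leaf 7104)) (.node (.leaf 5930) (.leaf 391))) (.node (.node (.leaf 5672) (.leaf 6707)) (.node (.leaf 527) (.leaf 0))))) (.node (.node (.node (.node (.leaf 4998) (.leaf 4016)) (.node (.leaf 331) (.leaf 31))) (.node (.node (.leaf 1727) (.leaf 4974)) (.node (.leaf 2415) (.leaf 0)))) (.node (.node (.node (.leaf 4509) (.leaf 1376)) (.node (.leaf 5177) (.leaf 792))) (.node (.node (.leaf 4607) (.leaf 6037)) (.node (.leaf 5410) (.leaf 0)))))) (.node (.node (.node (.node (.node (.leaf 520) (.leaf 2239)) (.node (.leaf 1708) (.leaf 6186))) (.node (.node (.leaf 6019) (.leaf 6627)) (.node (.leaf 872) (.leaf 1104)))) (.node (.node (.node (.leaf 1266) (.leaf 4477)) (.node (.leaf 4958) (.leaf 5162))) (.node (.node (.leaf 1553) (.leaf 4633)) (.node (.leaf 6686) (.leaf 0))))) (.node (.node (.node (.node (.leaf 207) (.leaf 3292)) (.node (.leaf 823) (.leaf 6935))) (.node (.node (.leaf 971) (.leaf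 7161)) (.node (.leaf 6600) (.leaf 0)))) (.node (.node (.node (.leaf 4584) (.leaf 5853)) (.node (.leaf 4692) (.leaf 2011))) (.node (.node (.leaf 4740) (.leaf 4416)) (.node (.leaf 5273) (.leaf 0))))))) (.node (.node (.node (.node (.node (.node (.leaf 5129) (.leaf 591)) (.node (.leaf 1638) (.leaf 6110))) (.node (.node (.leaf 2750) (.leaf 4108)) (.node (.leaf 3921) (.leaf 4808)))) (.node (.node (.node (.leaf 6608) (.leaf 6153)) (.node (.leaf 2125) (.leaf 3721))) (.node (.node (.leaf 6145) (.leaf 1227)) (.node (.leaf 4570) (.leaf 0))))) (.node (.node (.node (.node (.leaf 4425) (.leaf 2443)) (.node (.leaf 5849) (.leaf 827))) (.node (.node (.leaf 645) (.leaf 3867)) (.node (.leaf 2734) (.leaf 0)))) (.node (.node (.node (.leaf 465) (.leaf 1775)) (.node (.leaf 2879) (.leaf 1315))) (.node (.node (.leaf 5351) (.leaf 5689)) (.node (.leaf 6599) (.leaf 0)))))) (.node (.node (.node (.node (.node (.leaf 4901) (.leaf 571)) (.node (.leaf 6121) (.leaf 3556))) (.node (.node (.leaf 1) (.leaf 4135)) (.node (.leaf 5864) (.leaf 0)))) (.node (.node (.node (.leaf 6127) (.leaf 4865)) (.node (.leaf 3057) (.leaf 1277))) (.node (.node (.leaf 572) (.leaf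 912)) (.node (.leaf 6409) (.leaf 0))))) (.node (.node (.node (.node (.leaf 3189) (.leaf 5331)) (.node (.leaf 2149) (.leaf 469))) (.node (.node (.leaf 4160) (.leaf 4874)) (.node (.leaf 2616) (.leaf 0)))) (.node (.node (.node (.leaf 7101) (.leaf 3845)) (.node (.leaf 5758) (.leaf 1117))) (.node (.node (.leaf 3707) (.leaf 1819)) (.node (.leaf 2206) (.leaf 0)))))))) (.node (.node (.node (.node (.node (.node (.node (.leaf 2109) (.leaf 2892)) (.node (.leaf 6056) (.leaf 6482))) (.node (.node (.leaf 6347) (.leaf 3311)) (.node (.leaf 2312) (.leaf 2181)))) (.node (.node (.node (.leaf 2917) (.leaf 5644)) (.node (.leaf 6490) (.leaf 6864))) (.node (.node (.leaf 2643) (.leaf 2782)) (.node (.leaf 5646) (.leaf 0))))) (.node (.node (.node (.node (.leaf 2694) (.leaf 4807)) (.node (.leaf 2921) (.leaf 5054))) (.node (.node (.leaf 3643) (.leaf 2153)) (.node (.leaf 1287) (.leaf 0)))) (.node (.node (.node (.leaf 6953) (.leaf 7268)) (.node (.leaf 3824) (.leaf 5741))) (.node (.node (.leaf 3844) (.leaf 5688)) (.node (.leaf 2235) (.leaf 0)))))) (.node (.node (.node (.node (.node (.leaf 5629) (.leaf 1967)) (.node (.leaf 586) (.leaf 332))) (.node (.node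 (.leaf 3806) (.leaf 4152)) (.node (.leaf 1960) (.leaf 3803)))) (.node (.node (.node (.leaf 6896) (.leaf 5659)) (.node (.leaf 373) (.leaf 178))) (.node (.node (.leaf 3040) (.leaf 5826)) (.node (.leaf 3781) (.leaf 0))))) (.node (.node (.node (.node (.leaf 3813) (.leaf 5275)) (.node (.leaf 2474) (.leaf 2276))) (.node (.node (.leaf 871) (.leaf 1961)) (.node (.leaf 2345) (.leaf 0)))) (.node (.node (.node (.leaf 1324) (.leaf 7162)) (.node (.leaf 3497) (.leaf 408))) (.node (.node (.leaf 3134) (.leaf 6239)) (.node (.leaf 5917) (.leaf 0))))))) (.node (.node (.node (.node (.node (.node (.leaf 4774) (.leaf 2671)) (.node (.leaf 6520) (.leaf 7174))) (.node (.node (.leaf 922) (.leaf 405)) (.node (.leaf 1626) (.leaf 6321)))) (.node (.node (.node (.leaf 6791) (.leaf 6500)) (.node (.leaf 2847) (.leaf 1862))) (.node (.node (.leaf 6109) (.leaf 5847)) (.node (.leaf 3747) (.leaf 0))))) (.node (.node (.node (.node (.leaf 2027) (.leaf 4009)) (.node (.leaf 5747) (.leaf 3935))) (.node (.node (.leaf 4201) (.leaf 6255)) (.node (.leaf 2350) (.leaf 0)))) (.node (.node (.node (.leaf 5515) (.leaf 589)) (.node (.leaf 3269) (.leaf 7324))) (.node (.node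 (.leaf 1915) (.leaf 3552)) (.node (.leaf 4033) (.leaf 0)))))) (.node (.node (.node (.node (.node (.leaf 1941) (.leaf 2818)) (.node (.leaf 2138) (.leaf 7183))) (.node (.node (.leaf 987) (.leaf 663)) (.node (.leaf 3197) (.leaf 0)))) (.node (.node (.node (.leaf 3096) (.leaf 4169)) (.node (.leaf 3360) (.leaf 4054))) (.node (.node (.leaf 5264) (.leaf 7192)) (.node (.leaf 5361) (.leaf 0))))) (.node (.node (.node (.node (.leaf 5866) (.leaf 6194)) (.node (.leaf 6635) (.leaf 35))) (.node (.node (.leaf 599) (.leaf 6890)) (.node (.leaf 1231) (.leaf 0)))) (.node (.node (.node (.leaf 6532) (.leaf 6588)) (.node (.leaf 6821) (.leaf 2448))) (.node (.node (.leaf 847) (.leaf 2755)) (.node (.leaf 697) (.leaf 0))))))))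

def ohT12 : NT := .node (.node (.node (.node (.node (.node (.node (.node (.leaf 7018) (.leaf 5509)) (.node (.leaf 221) (.leaf 1322))) (.node (.node (.leaf 1367) (.leaf 5664)) (.node (.leaf 7149) (.leaf 3241)))) (.node (.node (.node (.leaf 215) (.leaf 2372)) (.node (.leaf 3175) (.leaf 2806))) (.node (.node (.leaf 2044) (.leaf 5975)) (.node (.leaf 6171) (.leaf 0))))) (.node (.node (.node (.node (.leaf 1273) (.leaf 6997)) (.node (.leaf 3640) (.leaf 6358))) (.node (.node (.leaf 567) (.leaf 6657)) (.node (.leaf 6845) (.leaf 0)))) (.node (.node (.node (.leaf 3225) (.leaf 7306)) (.node (.leaf 7115) (.leaf 6489))) (.node (.node (.leaf 4010) (.leaf 6036)) (.node (.leaf 6642) (.leaf 0)))))) (.node (.node (.node (.node (.node (.leaf 4673) (.leaf 3376)) (.node (.leaf 1351) (.leaf 878))) (.node (.node (.leaf 7057) (.leaf 967)) (.node (.leaf 7295) (.leaf 7278)))) (.node (.node (.node (.leaf 304) (.leaf 5252)) (.node (.leaf 5839) (.leaf 6344))) (.node (.node (.leaf 4598) (.leaf 5370)) (.node (.leaf 4820) (.leaf 0))))) (.node (.node (.node (.node (.leaf 2916) (.leaf 5116)) (.node (.leaf 1841) (.leaf 1518))) (.node (.node (.leaf 5959)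 (.leaf 1640)) (.node (.leaf 7065) (.leaf 0)))) (.node (.node (.node (.leaf 828) (.leaf 5096)) (.node (.leaf 6564) (.leaf 6566))) (.node (.node (.leaf 6995) (.leaf 5987)) (.node (.leaf 6062) (.leaf 0))))))) (.node (.node (.node (.node (.node (.node (.leaf 3406) (.leaf 4237)) (.node (.leaf 2140) (.leaf 6914))) (.node (.node (.leaf 2936) (.leaf 5824)) (.node (.leaf 4399) (.leaf 4018)))) (.node (.node (.node (.leaf 1081) (.leaf 471)) (.node (.leaf 389) (.leaf 3264))) (.node (.node (.leaf 4330) (.leaf 5058)) (.node (.leaf 1536) (.leaf 0))))) (.node (.node (.node (.node (.leaf 6305) (.leaf 6041)) (.node (.leaf 1425) (.leaf 3858))) (.node (.node (.leaf 575) (.leaf 6910)) (.node (.leaf 66) (.leaf 0)))) (.node (.node (.node (.leaf 4024) (.leaf 7008)) (.node (.leaf 5287) (.leaf 5208))) (.node (.node (.leaf 4641) (.leaf 5595)) (.node (.leaf 5568) (.leaf 0)))))) (.node (.node (.node (.node (.node (.leaf 613) (.leaf 4890)) (.node (.leaf 5762) (.leaf 3279))) (.node (.node (.leaf 5274) (.leaf 2562)) (.node (.leaf 3001) (.leaf 0)))) (.node (.node (.node (.leaf 7270) (.leaf 1144)) (.node (.leaf 3560) (.leaf 6442))) (.node (.node (.leaf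 3330) (.leaf 2343)) (.node (.leaf 768) (.leaf 0))))) (.node (.node (.node (.node (.leaf 6312) (.leaf 1428)) (.node (.leaf 2807) (.leaf 3245))) (.node (.node (.leaf 4242) (.leaf 4917)) (.node (.leaf 1222) (.leaf 0)))) (.node (.node (.node (.leaf 6796) (.leaf 5635)) (.node (.leaf 581) (.leaf 1733))) (.node (.node (.leaf 673) (.leaf 4121)) (.node (.leaf 5639) (.leaf 0)))))))) (.node (.node (.node (.node (.node (.node (.node (.leaf 1681) (.leaf 5326)) (.node (.leaf 1780) (.leaf 3071))) (.node (.node (.leaf 2024) (.leaf 4913)) (.node (.leaf 2548) (.leaf 2003)))) (.node (.node (.node (.leaf 4540) (.leaf 2386)) (.node (.leaf 6884) (.leaf 6699))) (.node (.node (.leaf 6164) (.leaf 6862)) (.node (.leaf 3240) (.leaf 0))))) (.node (.node (.node (.node (.leaf 2301) (.leaf 5858)) (.node (.leaf 7061) (.leaf 6807))) (.node (.node (.leaf 6431) (.leaf 838)) (.node (.leaf 5992) (.leaf 0)))) (.node (.node (.node (.leaf 277) (.leaf 5504)) (.node (.leaf 4914) (.leaf 438))) (.node (.node (.leaf 2512) (.leaf 6075)) (.node (.leaf 333) (.leaf 0)))))) (.node (.node (.node (.node (.node (.leaf 4676) (.leaf 7169)) (.node (.leaf 1684) (.leaf 2234)))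 (.node (.node (.leaf 4027) (.leaf 4798)) (.node (.leaf 2142) (.leaf 48)))) (.node (.node (.node (.leaf 2193) (.leaf 505)) (.node (.leaf 92) (.leaf 1706))) (.node (.node (.leaf 2919) (.leaf 4326)) (.node (.leaf 6039) (.leaf 0))))) (.node (.node (.node (.node (.leaf 2743) (.leaf 6587)) (.node (.leaf 7050) (.leaf 4518))) (.node (.node (.leaf 133) (.leaf 4832)) (.node (.leaf 4074) (.leaf 0)))) (.node (.node (.node (.leaf 1034) (.leaf 7026)) (.node (.leaf 6785) (.leaf 1893))) (.node (.node (.leaf 3342) (.leaf 6407)) (.node (.leaf 4114) (.leaf 0))))))) (.node (.node (.node (.node (.node (.node (.leaf 2410) (.leaf 3170)) (.node (.leaf 1297) (.leaf 7112))) (.node (.node (.leaf 4551) (.leaf 1268)) (.node (.leaf 4461) (.leaf 6998)))) (.node (.node (.node (.leaf 580) (.leaf 3349)) (.node (.leaf 5173) (.leaf 5293))) (.node (.node (.leaf 7233) (.leaf 2139)) (.node (.leaf 6789) (.leaf 0))))) (.node (.node (.node (.node (.leaf 1965) (.leaf 6393)) (.node (.leaf 3812) (.leaf 3312))) (.node (.node (.leaf 6760) (.leaf 6217)) (.node (.leaf 6776) (.leaf 0)))) (.node (.node (.node (.leaf 765) (.leaf 2262)) (.node (.leaf 542) (.leaf 3045)))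 (.node (.node (.leaf 1092) (.leaf 2405)) (.node (.leaf 5974) (.leaf 0)))))) (.node (.node (.node (.node (.node (.leaf 4791) (.leaf 3602)) (.node (.leaf 7072) (.leaf 3865))) (.node (.node (.leaf 416) (.leaf 83)) (.node (.leaf 1943) (.leaf 0)))) (.node (.node (.node (.leaf 1977) (.leaf 4112)) (.node (.leaf 7291) (.leaf 4142))) (.node (.node (.leaf 1859) (.leaf 3162)) (.node (.leaf 3716) (.leaf 0))))) (.node (.node (.node (.node (.leaf 3542) (.leaf 4897)) (.node (.leaf 2820) (.leaf 4171))) (.node (.node (.leaf 4614) (.leaf 4560)) (.node (.leaf 3488) (.leaf 0)))) (.node (.node (.node (.leaf 3041) (.leaf 1468)) (.node (.leaf 1633) (.leaf 3073))) (.node (.node (.leaf 809) (.leaf 3254)) (.node (.leaf 3714) (.leaf 0))))))))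

def ohT13 : NT := .node (.node (.node (.node (.node (.node (.node (.node (.leaf 1415) (.leaf 5065)) (.node (.leaf 3166) (.leaf 6060))) (.node (.node (.leaf 1436) (.leaf 2183)) (.node (.leaf 5482) (.leaf 2887)))) (.node (.node (.node (.leaf 2095) (.leaf 808)) (.node (.leaf 3153) (.leaf 7283))) (.node (.node (.leaf 2465) (.leaf 231)) (.node (.leaf 2036) (.leaf 0))))) (.node (.node (.node (.node (.leaf 4688) (.leaf 4804)) (.node (.leaf 5163) (.leaf 3445))) (.node (.node (.leaf 5448) (.leaf 320)) (.node (.leaf 1729) (.leaf 0)))) (.node (.node (.node (.leaf 2745) (.leaf 4466)) (.node (.leaf 2277) (.leaf 6284))) (.node (.node (.leaf 4209) (.leaf 2260)) (.node (.leaf 266) (.leaf 0)))))) (.node (.node (.node (.node (.node (.leaf 3938) (.leaf 378)) (.node (.leaf 6523) (.leaf 1374))) (.node (.node (.leaf 1789) (.leaf 4192)) (.node (.leaf 3663) (.leaf 737)))) (.node (.node (.node (.leaf 188) (.leaf 4636)) (.node (.leaf 1889) (.leaf 6386))) (.node (.node (.leaf 6054) (.leaf 1173)) (.node (.leaf 6900) (.leaf 0))))) (.node (.node (.node (.node (.leaf 3429) (.leaf 5228)) (.node (.leaf 3526) (.leaf 6403))) (.node (.node (.leaf 6979)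 (.leaf 166)) (.node (.leaf 4228) (.leaf 0)))) (.node (.node (.node (.leaf 7229) (.leaf 3012)) (.node (.leaf 4694) (.leaf 2040))) (.node (.node (.leaf 4822) (.leaf 4164)) (.node (.leaf 7015) (.leaf 0))))))) (.node (.node (.node (.node (.node (.node (.leaf 4281) (.leaf 4487)) (.node (.leaf 4496) (.leaf 5360))) (.node (.node (.leaf 393) (.leaf 3043)) (.node (.leaf 774) (.leaf 6610)))) (.node (.node (.node (.leaf 6293) (.leaf 6835)) (.node (.leaf 6782) (.leaf 4802))) (.node (.node (.leaf 5981) (.leaf 5061)) (.node (.leaf 6210) (.leaf 0))))) (.node (.node (.node (.node (.leaf 3281) (.leaf 4831)) (.node (.leaf 1477) (.leaf 1532))) (.node (.node (.leaf 1949) (.leaf 1488)) (.node (.leaf 5029) (.leaf 0)))) (.node (.node (.node (.leaf 2337) (.leaf 3811)) (.node (.leaf 6006) (.leaf 4300))) (.node (.node (.leaf 2632) (.leaf 4683)) (.node (.leaf 7195) (.leaf 0)))))) (.node (.node (.node (.node (.node (.leaf 3060) (.leaf 5735)) (.node (.leaf 137) (.leaf 1766))) (.node (.node (.leaf 5369) (.leaf 4331)) (.node (.leaf 4794) (.leaf 0)))) (.node (.node (.node (.leaf 6989) (.leaf 1157)) (.node (.leaf 7060) (.leaf 3907))) (.node (.node (.leaf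 1444) (.leaf 1545)) (.node (.leaf 5001) (.leaf 0))))) (.node (.node (.node (.node (.leaf 701) (.leaf 6683)) (.node (.leaf 6333) (.leaf 865))) (.node (.node (.leaf 3114) (.leaf 2706)) (.node (.leaf 5430) (.leaf 0)))) (.node (.node (.node (.leaf 7048) (.leaf 287)) (.node (.leaf 3893) (.leaf 6525))) (.node (.node (.leaf 94) (.leaf 5118)) (.node (.leaf 3435) (.leaf 0)))))))) (.node (.node (.node (.node (.node (.node (.node (.leaf 3079) (.leaf 4672)) (.node (.leaf 6682) (.leaf 2378))) (.node (.node (.leaf 1331) (.leaf 5670)) (.node (.leaf 890) (.leaf 5151)))) (.node (.node (.node (.leaf 4217) (.leaf 3726)) (.node (.leaf 7053) (.leaf 5342))) (.node (.node (.leaf 4184) (.leaf 3476)) (.node (.leaf 2581) (.leaf 0))))) (.node (.node (.node (.node (.leaf 6243) (.leaf 5891)) (.node (.leaf 1983) (.leaf 6235))) (.node (.node (.leaf 2650) (.leaf 2161)) (.node (.leaf 6434) (.leaf 0)))) (.node (.node (.node (.leaf 3317) (.leaf 3434)) (.node (.leaf 7285) (.leaf 6415))) (.node (.node (.leaf 4342) (.leaf 6952)) (.node (.leaf 984) (.leaf 0)))))) (.node (.node (.node (.node (.node (.leaf 68) (.leaf 5574)) (.node (.leaf 6571) (.leaf 5169)))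 (.node (.node (.leaf 627) (.leaf 1279)) (.node (.leaf 4686) (.leaf 992)))) (.node (.node (.node (.leaf 2124) (.leaf 1111)) (.node (.leaf 3875) (.leaf 164))) (.node (.node (.leaf 6531) (.leaf 3491)) (.node (.leaf 4246) (.leaf 0))))) (.node (.node (.node (.node (.leaf 5567) (.leaf 5742)) (.node (.leaf 112) (.leaf 2655))) (.node (.node (.leaf 2504) (.leaf 338)) (.node (.leaf 6399) (.leaf 0)))) (.node (.node (.node (.leaf 3944) (.leaf 4685)) (.node (.leaf 301) (.leaf 2695))) (.node (.node (.leaf 4538) (.leaf 297)) (.node (.leaf 3573) (.leaf 0))))))) (.node (.node (.node (.node (.node (.node (.leaf 5205) (.leaf 1356)) (.node (.leaf 5820) (.leaf 3067))) (.node (.node (.leaf 3889) (.leaf 2144)) (.node (.leaf 6793) (.leaf 7139)))) (.node (.node (.node (.leaf 7317) (.leaf 652)) (.node (.leaf 6850) (.leaf 6495))) (.node (.node (.leaf 1968) (.leaf 3377)) (.node (.leaf 6446) (.leaf 0))))) (.node (.node (.node (.node (.leaf 559) (.leaf 908)) (.node (.leaf 2241) (.leaf 2968))) (.node (.node (.leaf 5) (.leaf 499)) (.node (.leaf 943) (.leaf 0)))) (.node (.node (.node (.leaf 200) (.leaf 369)) (.node (.leaf 1313) (.leaf 6149))) (.node (.node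 (.leaf 1389) (.leaf 4424)) (.node (.leaf 2092) (.leaf 0)))))) (.node (.node (.node (.node (.node (.leaf 7019) (.leaf 1609)) (.node (.leaf 2657) (.leaf 2308))) (.node (.node (.leaf 923) (.leaf 3702)) (.node (.leaf 1194) (.leaf 0)))) (.node (.node (.node (.leaf 7082) (.leaf 3346)) (.node (.leaf 128) (.leaf 2299))) (.node (.node (.leaf 440) (.leaf 3978)) (.node (.leaf 702) (.leaf 0))))) (.node (.node (.node (.node (.leaf 4394) (.leaf 7107)) (.node (.leaf 2479) (.leaf 5290))) (.node (.node (.leaf 6813) (.leaf 3421)) (.node (.leaf 5238) (.leaf 0)))) (.node (.node (.node (.leaf 5514) (.leaf 5786)) (.node (.leaf 2813) (.leaf 2752))) (.node (.node (.leaf 3365) (.leaf 4239)) (.node (.leaf 3503) (.leaf 0))))))))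

def ohT14 : NT := .node (.node (.node (.node (.node (.node (.node (.node (.leaf 2833) (.leaf 1019)) (.node (.leaf 379) (.leaf 3530))) (.node (.node (.leaf 4662) (.leaf 2918)) (.node (.leaf 1652) (.leaf 6820)))) (.node (.node (.node (.leaf 2446) (.leaf 5207)) (.node (.leaf 443) (.leaf 2419))) (.node (.node (.leaf 743) (.leaf 4872)) (.node (.leaf 3940) (.leaf 0))))) (.node (.node (.node (.node (.leaf 5247) (.leaf 957)) (.node (.leaf 640) (.leaf 4442))) (.node (.node (.leaf 3883) (.leaf 2225)) (.node (.leaf 454) (.leaf 0)))) (.node (.node (.node (.leaf 6308) (.leaf 6433)) (.node (.leaf 2005) (.leaf 4663))) (.node (.node (.leaf 716) (.leaf 367)) (.node (.leaf 6624) (.leaf 0)))))) (.node (.node (.node (.node (.node (.leaf 2973) (.leaf 2202)) (.node (.leaf 1663) (.leaf 2538))) (.node (.node (.leaf 6100) (.leaf 6680)) (.node (.leaf 4599) (.leaf 7208)))) (.node (.node (.node (.leaf 6912) (.leaf 683)) (.node (.leaf 6160) (.leaf 4202))) (.node (.node (.leaf 5507) (.leaf 2565)) (.node (.leaf 6715) (.leaf 0))))) (.node (.node (.node (.node (.leaf 503) (.leaf 160)) (.node (.leaf 661) (.leaf 2700))) (.node (.node (.leaf 2731) (.leaf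 4667)) (.node (.leaf 4711) (.leaf 0)))) (.node (.node (.node (.leaf 5181) (.leaf 3761)) (.node (.leaf 5366) (.leaf 6332))) (.node (.node (.leaf 7125) (.leaf 4902)) (.node (.leaf 3515) (.leaf 0))))))) (.node (.node (.node (.node (.node (.node (.leaf 7265) (.leaf 2599)) (.node (.leaf 4684) (.leaf 3180))) (.node (.node (.leaf 1422) (.leaf 2633)) (.node (.leaf 2726) (.leaf 5200)))) (.node (.node (.node (.leaf 6292) (.leaf 2106)) (.node (.leaf 2777) (.leaf 1200))) (.node (.node (.leaf 1658) (.leaf 6216)) (.node (.leaf 1121) (.leaf 0))))) (.node (.node (.node (.node (.leaf 2604) (.leaf 3222)) (.node (.leaf 1997) (.leaf 5126))) (.node (.node (.leaf 6882) (.leaf 5778)) (.node (.leaf 3711) (.leaf 0)))) (.node (.node (.node (.leaf 1883) (.leaf 306)) (.node (.leaf 5042) (.leaf 6999))) (.node (.node (.leaf 3274) (.leaf 1211)) (.node (.leaf 5272) (.leaf 0)))))) (.node (.node (.node (.node (.node (.leaf 3213) (.leaf 6438)) (.node (.leaf 6387) (.leaf 5894))) (.node (.node (.leaf 6042) (.leaf 4576)) (.node (.leaf 6663) (.leaf 0)))) (.node (.node (.node (.leaf 596) (.leaf 4745)) (.node (.leaf 6026) (.leaf 2357))) (.node (.node (.leaf 3732)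 (.leaf 20)) (.node (.leaf 6584) (.leaf 0))))) (.node (.node (.node (.node (.leaf 7002) (.leaf 2408)) (.node (.leaf 2434) (.leaf 4657))) (.node (.node (.leaf 4775) (.leaf 5325)) (.node (.leaf 4654) (.leaf 0)))) (.node (.node (.node (.leaf 113) (.leaf 6983)) (.node (.leaf 6865) (.leaf 238))) (.node (.node (.leaf 6261) (.leaf 106)) (.node (.leaf 5519) (.leaf 0)))))))) (.node (.node (.node (.node (.node (.node (.node (.leaf 4829) (.leaf 7123)) (.node (.leaf 2208) (.leaf 696))) (.node (.node (.leaf 5463) (.leaf 6005)) (.node (.leaf 2118) (.leaf 3090)))) (.node (.node (.node (.leaf 3436) (.leaf 1118)) (.node (.leaf 7296) (.leaf 1777))) (.node (.node (.leaf 4146) (.leaf 909)) (.node (.leaf 3335) (.leaf 0))))) (.node (.node (.node (.node (.leaf 1575) (.leaf 4413)) (.node (.leaf 4256) (.leaf 3750))) (.node (.node (.leaf 2010) (.leaf 6522)) (.node (.leaf 4532) (.leaf 0)))) (.node (.node (.node (.leaf 1495) (.leaf 3819)) (.node (.leaf 7064) (.leaf 2332))) (.node (.node (.leaf 5559) (.leaf 3866)) (.node (.leaf 1427) (.leaf 0)))))) (.node (.node (.node (.node (.node (.leaf 5487) (.leaf 421)) (.node (.leaf 584) (.leaf 1016))) (.node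 (.node (.leaf 831) (.leaf 2719)) (.node (.leaf 6234) (.leaf 2791)))) (.node (.node (.node (.leaf 321) (.leaf 3913)) (.node (.leaf 4264) (.leaf 222))) (.node (.node (.leaf 6298) (.leaf 6967)) (.node (.leaf 1187) (.leaf 0))))) (.node (.node (.node (.node (.leaf 1006) (.leaf 6511)) (.node (.leaf 5637) (.leaf 631))) (.node (.node (.leaf 4340) (.leaf 6513)) (.node (.leaf 5697) (.leaf 0)))) (.node (.node (.node (.leaf 2615) (.leaf 850)) (.node (.leaf 3708) (.leaf 6274))) (.node (.node (.leaf 3610) (.leaf 556)) (.node (.leaf 6594) (.leaf 0))))))) (.node (.node (.node (.node (.node (.node (.leaf 2659) (.leaf 2136)) (.node (.leaf 3964) (.leaf 5901))) (.node (.node (.leaf 2723) (.leaf 6692)) (.node (.leaf 2602) (.leaf 688)))) (.node (.node (.node (.leaf 6395) (.leaf 2839)) (.node (.leaf 5380) (.leaf 1952))) (.node (.node (.leaf 6423) (.leaf 5142)) (.node (.leaf 2957) (.leaf 0))))) (.node (.node (.node (.node (.leaf 314) (.leaf 3475)) (.node (.leaf 307) (.leaf 340))) (.node (.node (.leaf 5584) (.leaf 772)) (.node (.leaf 6015) (.leaf 0)))) (.node (.node (.node (.leaf 1570) (.leaf 7140)) (.node (.leaf 5926) (.leaf 2569))) (.node (.node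 (.leaf 3146) (.leaf 3035)) (.node (.leaf 2528) (.leaf 0)))))) (.node (.node (.node (.node (.node (.leaf 6071) (.leaf 5997)) (.node (.leaf 5638) (.leaf 6770))) (.node (.node (.leaf 2738) (.leaf 2074)) (.node (.leaf 1449) (.leaf 0)))) (.node (.node (.node (.leaf 2061) (.leaf 4406)) (.node (.leaf 2667) (.leaf 135))) (.node (.node (.leaf 1711) (.leaf 7041)) (.node (.leaf 6826) (.leaf 0))))) (.node (.node (.node (.node (.leaf 3251) (.leaf 5852)) (.node (.leaf 558) (.leaf 4072))) (.node (.node (.leaf 6805) (.leaf 7200)) (.node (.leaf 4216) (.leaf 0)))) (.node (.node (.node (.leaf 2619) (.leaf 2450)) (.node (.leaf 592) (.leaf 5187))) (.node (.node (.leaf 2373) (.leaf 6309)) (.node (.leaf 6725) (.leaf 0))))))))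

def ohT15 : NT := .node (.node (.node (.node (.node (.node (.node (.node (.leaf 1228) (.leaf 964)) (.node (.leaf 6675) (.leaf 3733))) (.node (.node (.leaf 6401) (.leaf 6577)) (.node (.leaf 606) (.leaf 5164)))) (.node (.node (.node (.leaf 5346) (.leaf 139)) (.node (.leaf 3028) (.leaf 6727))) (.node (.node (.leaf 4252) (.leaf 4849)) (.node (.leaf 7203) (.leaf 0))))) (.node (.node (.node (.node (.leaf 928) (.leaf 4566)) (.node (.leaf 6279) (.leaf 2197))) (.node (.node (.leaf 1304) (.leaf 3446)) (.node (.leaf 7236) (.leaf 0)))) (.node (.node (.node (.leaf 4155) (.leaf 1507)) (.node (.leaf 5811) (.leaf 5481))) (.node (.node (.leaf 1102) (.leaf 2792)) (.node (.leaf 3231) (.leaf 0)))))) (.node (.node (.node (.node (.node (.leaf 3618) (.leaf 4070)) (.node (.leaf 7330) (.leaf 5040))) (.node (.node (.leaf 3210) (.leaf 4737)) (.node (.leaf 1555) (.leaf 5268)))) (.node (.node (.node (.leaf 6083) (.leaf 2588)) (.node (.leaf 4871) (.leaf 6696))) (.node (.node (.leaf 4860) (.leaf 2438)) (.node (.leaf 1074) (.leaf 0))))) (.node (.node (.node (.node (.leaf 2454) (.leaf 982)) (.node (.leaf 81) (.leaf 3103))) (.node (.node (.leaf 1554)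 (.leaf 1246)) (.node (.leaf 2846) (.leaf 0)))) (.node (.node (.node (.leaf 7197) (.leaf 4041)) (.node (.leaf 452) (.leaf 2544))) (.node (.node (.leaf 5289) (.leaf 4470)) (.node (.leaf 140) (.leaf 0))))))) (.node (.node (.node (.node (.node (.node (.leaf 3545) (.leaf 7036)) (.node (.leaf 1008) (.leaf 212))) (.node (.node (.leaf 318) (.leaf 5201)) (.node (.leaf 4143) (.leaf 1667)))) (.node (.node (.node (.leaf 2025) (.leaf 6193)) (.node (.leaf 279) (.leaf 1551))) (.node (.node (.leaf 5486) (.leaf 6035)) (.node (.leaf 832) (.leaf 0))))) (.node (.node (.node (.node (.leaf 3624) (.leaf 665)) (.node (.leaf 1848) (.leaf 2330))) (.node (.node (.leaf 5281) (.leaf 4375)) (.node (.leaf 693) (.leaf 0)))) (.node (.node (.node (.leaf 2199) (.leaf 2240)) (.node (.leaf 2105) (.leaf 4850))) (.node (.node (.leaf 4634) (.leaf 7059)) (.node (.leaf 4963) (.leaf 0)))))) (.node (.node (.node (.node (.node (.leaf 6836) (.leaf 3765)) (.node (.leaf 6282) (.leaf 2764))) (.node (.node (.leaf 51) (.leaf 5862)) (.node (.leaf 4140) (.leaf 0)))) (.node (.node (.node (.leaf 4991) (.leaf 1123)) (.node (.leaf 2908) (.leaf 4435))) (.node (.node (.leaf 3118)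 (.leaf 174)) (.node (.leaf 5895) (.leaf 0))))) (.node (.node (.node (.node (.leaf 6632) (.leaf 5706)) (.node (.leaf 3156) (.leaf 1959))) (.node (.node (.leaf 4402) (.leaf 2168)) (.node (.leaf 5805) (.leaf 0)))) (.node (.node (.node (.leaf 55) (.leaf 551)) (.node (.leaf 1508) (.leaf 2866))) (.node (.node (.leaf 5145) (.leaf 4147)) (.node (.leaf 5869) (.leaf 0)))))))) (.node (.node (.node (.node (.node (.node (.node (.leaf 6863) (.leaf 6)) (.node (.leaf 5856) (.leaf 3713))) (.node (.node (.leaf 3470) (.leaf 5286)) (.node (.leaf 5748) (.leaf 1891)))) (.node (.node (.node (.leaf 3464) (.leaf 713)) (.node (.leaf 1868) (.leaf 5045))) (.node (.node (.leaf 105) (.leaf 607)) (.node (.leaf 7279) (.leaf 0))))) (.node (.node (.node (.node (.leaf 7073) (.leaf 2922)) (.node (.leaf 3247) (.leaf 2205))) (.node (.node (.leaf 6565) (.leaf 37)) (.node (.leaf 3572) (.leaf 0)))) (.node (.node (.node (.leaf 4325) (.leaf 2307)) (.node (.leaf 3642) (.leaf 3405))) (.node (.node (.leaf 5612) (.leaf 5066)) (.node (.leaf 6710) (.leaf 0)))))) (.node (.node (.node (.node (.node (.leaf 1659) (.leaf 1336)) (.node (.leaf 5074) (.leaf 1300))) (.node (.node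 (.leaf 4284) (.leaf 6382)) (.node (.leaf 6959) (.leaf 5412)))) (.node (.node (.node (.leaf 1556) (.leaf 1343)) (.node (.leaf 1500) (.leaf 2310))) (.node (.node (.leaf 5383) (.leaf 885)) (.node (.leaf 6855) (.leaf 0))))) (.node (.node (.node (.node (.leaf 2995) (.leaf 1511)) (.node (.leaf 3508) (.leaf 4401))) (.node (.node (.leaf 6729) (.leaf 6662)) (.node (.leaf 67) (.leaf 0)))) (.node (.node (.node (.leaf 5604) (.leaf 398)) (.node (.leaf 2622) (.leaf 2720))) (.node (.node (.leaf 2645) (.leaf 2457)) (.node (.leaf 2716) (.leaf 0))))))) (.node (.node (.node (.node (.node (.node (.leaf 1437) (.leaf 2366)) (.node (.leaf 4421) (.leaf 1634))) (.node (.node (.leaf 2164) (.leaf 2547)) (.node (.leaf 5441) (.leaf 3030)))) (.node (.node (.node (.leaf 4725) (.leaf 6007)) (.node (.leaf 202) (.leaf 5618))) (.node (.node (.leaf 1740) (.leaf 5034)) (.node (.leaf 220) (.leaf 0))))) (.node (.node (.node (.node (.leaf 2222) (.leaf 6370)) (.node (.leaf 6528) (.leaf 2243))) (.node (.node (.leaf 6672) (.leaf 1043)) (.node (.leaf 1610) (.leaf 0)))) (.node (.node (.node (.leaf 3989) (.leaf 1994)) (.node (.leaf 5451) (.leaf 3549))) (.node (.node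 (.leaf 1827) (.leaf 7013)) (.node (.leaf 5189) (.leaf 0)))))) (.node (.node (.node (.node (.node (.leaf 5882) (.leaf 1822)) (.node (.leaf 6498) (.leaf 6655))) (.node (.node (.leaf 3437) (.leaf 1940)) (.node (.leaf 5419) (.leaf 0)))) (.node (.node (.node (.leaf 5549) (.leaf 3588)) (.node (.leaf 1239) (.leaf 7160))) (.node (.node (.leaf 7294) (.leaf 844)) (.node (.leaf 4988) (.leaf 0))))) (.node (.node (.node (.node (.leaf 2132) (.leaf 3305)) (.node (.leaf 2045) (.leaf 6198))) (.node (.node (.leaf 1837) (.leaf 6301)) (.node (.leaf 5025) (.leaf 0)))) (.node (.node (.node (.leaf 2944) (.leaf 5053)) (.node (.leaf 3539) (.leaf 4157))) (.node (.node (.leaf 1452) (.leaf 6197)) (.node (.leaf 3981) (.leaf 0))))))))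

def ohT16 : NT := .node (.node (.node (.node (.node (.node (.node (.node (.leaf 5337) (.leaf 3535)) (.node (.leaf 330) (.leaf 1445))) (.node (.node (.leaf 7153) (.leaf 6889)) (.node (.leaf 5846) (.leaf 289)))) (.node (.node (.node (.leaf 4623) (.leaf 1686)) (.node (.leaf 6892) (.leaf 3278))) (.node (.node (.leaf 4670) (.leaf 6291)) (.node (.leaf 251) (.leaf 0))))) (.node (.node (.node (.node (.leaf 3253) (.leaf 1281)) (.node (.leaf 554) (.leaf 6538))) (.node (.node (.leaf 6775) (.leaf 6815)) (.node (.leaf 2425) (.leaf 0)))) (.node (.node (.node (.leaf 3738) (.leaf 3892)) (.node (.leaf 1257) (.leaf 5081))) (.node (.node (.leaf 216) (.leaf 2338)) (.node (.leaf 4188) (.leaf 0)))))) (.node (.node (.node (.node (.node (.leaf 6507) (.leaf 294)) (.node (.leaf 3354) (.leaf 5132))) (.node (.node (.leaf 4296) (.leaf 2039)) (.node (.leaf 3215) (.leaf 2831)))) (.node (.node (.node (.leaf 1399) (.leaf 7052)) (.node (.leaf 4844) (.leaf 2191))) (.node (.node (.leaf 4154) (.leaf 6306)) (.node (.leaf 377) (.leaf 0))))) (.node (.node (.node (.node (.leaf 4149) (.leaf 1041)) (.node (.leaf 3286) (.leaf 1748))) (.node (.node (.leaf 4050)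 (.leaf 4116)) (.node (.leaf 4818) (.leaf 0)))) (.node (.node (.node (.leaf 1326) (.leaf 3232)) (.node (.leaf 6991) (.leaf 1644))) (.node (.node (.leaf 2662) (.leaf 3227)) (.node (.leaf 814) (.leaf 0))))))) (.node (.node (.node (.node (.node (.node (.leaf 4289) (.leaf 4568)) (.node (.leaf 5478) (.leaf 5542))) (.node (.node (.leaf 7259) (.leaf 3869)) (.node (.leaf 2923) (.leaf 3385)))) (.node (.node (.node (.leaf 2265) (.leaf 250)) (.node (.leaf 370) (.leaf 5263))) (.node (.node (.leaf 4718) (.leaf 2881)) (.node (.leaf 4285) (.leaf 0))))) (.node (.node (.node (.node (.leaf 913) (.leaf 85)) (.node (.leaf 2294) (.leaf 482))) (.node (.node (.leaf 5695) (.leaf 513)) (.node (.leaf 6475) (.leaf 0)))) (.node (.node (.node (.leaf 5673) (.leaf 5530)) (.node (.leaf 5064) (.leaf 4873))) (.node (.node (.leaf 5935) (.leaf 6832)) (.node (.leaf 6061) (.leaf 0)))))) (.node (.node (.node (.node (.node (.leaf 472) (.leaf 3052)) (.node (.leaf 593) (.leaf 1588))) (.node (.node (.leaf 3473) (.leaf 6254)) (.node (.leaf 4992) (.leaf 0)))) (.node (.node (.node (.leaf 5000) (.leaf 4065)) (.node (.leaf 1482) (.leaf 6745))) (.node (.node (.leaf 4405)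 (.leaf 1255)) (.node (.leaf 507) (.leaf 0))))) (.node (.node (.node (.node (.leaf 6888) (.leaf 1846)) (.node (.leaf 3016) (.leaf 4679))) (.node (.node (.leaf 7157) (.leaf 4304)) (.node (.leaf 1918) (.leaf 0)))) (.node (.node (.node (.leaf 6097) (.leaf 6933)) (.node (.leaf 3790) (.leaf 2688))) (.node (.node (.leaf 956) (.leaf 3154)) (.node (.leaf 510) (.leaf 0)))))))) (.node (.node (.node (.node (.node (.node (.node (.leaf 4274) (.leaf 5585)) (.node (.leaf 234) (.leaf 1142))) (.node (.node (.leaf 7165) (.leaf 975)) (.node (.leaf 3509) (.leaf 6161)))) (.node (.node (.node (.leaf 7336) (.leaf 337)) (.node (.leaf 1923) (.leaf 1698))) (.node (.node (.leaf 6620) (.leaf 5625)) (.node (.leaf 36) (.leaf 0))))) (.node (.node (.node (.node (.leaf 2955) (.leaf 3603)) (.node (.leaf 2220) (.leaf 6517))) (.node (.node (.leaf 2543) (.leaf 4656)) (.node (.leaf 2166) (.leaf 0)))) (.node (.node (.node (.leaf 6103) (.leaf 4161)) (.node (.leaf 6430) (.leaf 5166))) (.node (.node (.leaf 2631) (.leaf 1487)) (.node (.leaf 2113) (.leaf 0)))))) (.node (.node (.node (.node (.node (.leaf 2072) (.leaf 5719)) (.node (.leaf 1502) (.leaf 1025))) (.node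 (.node (.leaf 1878) (.leaf 5495)) (.node (.leaf 4452) (.leaf 0)))) (.node (.node (.node (.leaf 3229) (.leaf 424)) (.node (.leaf 2717) (.leaf 4199))) (.node (.node (.leaf 1348) (.leaf 1423)) (.node (.leaf 5407) (.leaf 0))))) (.node (.node (.node (.node (.leaf 5544) (.leaf 860)) (.node (.leaf 3848) (.leaf 5490))) (.node (.node (.leaf 2848) (.leaf 5743)) (.node (.leaf 4653) (.leaf 0)))) (.node (.node (.node (.leaf 6089) (.leaf 5564)) (.node (.leaf 5028) (.leaf 3920))) (.node (.node (.leaf 6929) (.leaf 5172)) (.node (.leaf 4376) (.leaf 0))))))) (.node (.node (.node (.node (.node (.node (.leaf 6063) (.leaf 3401)) (.node (.leaf 1137) (.leaf 3999))) (.node (.node (.leaf 3771) (.leaf 1290)) (.node (.leaf 170) (.leaf 446)))) (.node (.node (.node (.leaf 4206) (.leaf 4357)) (.node (.leaf 3485) (.leaf 7215))) (.node (.node (.leaf 4410) (.leaf 219)) (.node (.leaf 4855) (.leaf 0))))) (.node (.node (.node (.node (.leaf 6765) (.leaf 1044)) (.node (.leaf 914) (.leaf 4975))) (.node (.node (.leaf 343) (.leaf 4119)) (.node (.leaf 522) (.leaf 0)))) (.node (.node (.node (.leaf 2490) (.leaf 906)) (.node (.leaf 5255) (.leaf 4294))) (.node (.node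 (.leaf 6664) (.leaf 801)) (.node (.leaf 3084) (.leaf 0)))))) (.node (.node (.node (.node (.node (.leaf 5282) (.leaf 4037)) (.node (.leaf 3850) (.leaf 3122))) (.node (.node (.leaf 3465) (.leaf 3929)) (.node (.leaf 6391) (.leaf 0)))) (.node (.node (.node (.leaf 4358) (.leaf 325)) (.node (.leaf 6638) (.leaf 5120))) (.node (.node (.leaf 2986) (.leaf 5854)) (.node (.leaf 2993) (.leaf 0))))) (.node (.node (.node (.node (.leaf 5236) (.leaf 1145)) (.node (.leaf 487) (.leaf 474))) (.node (.node (.leaf 2020) (.leaf 208)) (.node (.leaf 4508) (.leaf 0)))) (.node (.node (.node (.leaf 3282) (.leaf 6801)) (.node (.leaf 5555) (.leaf 1765))) (.node (.node (.leaf 1197) (.leaf 3131)) (.node (.leaf 4272) (.leaf 0))))))))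

def ohT17 : NT := .node (.node (.node (.node (.node (.node (.node (.node (.leaf 191) (.leaf 4941)) (.node (.leaf 3447) (.leaf 1492))) (.node (.node (.leaf 3817) (.leaf 5632)) (.node (.leaf 3673) (.leaf 6428)))) (.node (.node (.node (.leaf 6294) (.leaf 5078)) (.node (.leaf 3150) (.leaf 4787))) (.node (.node (.leaf 4811) (.leaf 5566)) (.node (.leaf 901) (.leaf 0))))) (.node (.node (.node (.node (.leaf 2063) (.leaf 5232)) (.node (.leaf 7267) (.leaf 2979))) (.node (.node (.leaf 2347) (.leaf 4762)) (.node (.leaf 4857) (.leaf 0)))) (.node (.node (.node (.leaf 4067) (.leaf 5685)) (.node (.leaf 179) (.leaf 6874))) (.node (.node (.leaf 3276) (.leaf 372)) (.node (.leaf 6844) (.leaf 0)))))) (.node (.node (.node (.node (.node (.leaf 802) (.leaf 3195)) (.node (.leaf 3034) (.leaf 3452))) (.node (.node (.leaf 783) (.leaf 6926)) (.node (.leaf 615) (.leaf 6460)))) (.node (.node (.node (.leaf 4302) (.leaf 2817)) (.node (.leaf 4848) (.leaf 749))) (.node (.node (.leaf 5446) (.leaf 1948)) (.node (.leaf 6519) (.leaf 0))))) (.node (.node (.node (.node (.leaf 2316) (.leaf 5094)) (.node (.leaf 4893) (.leaf 7034))) (.node (.node (.leaf 7119) (.leaf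 6558)) (.node (.leaf 2473) (.leaf 0)))) (.node (.node (.node (.leaf 5459) (.leaf 1998)) (.node (.leaf 2801) (.leaf 2767))) (.node (.node (.leaf 4361) (.leaf 2770)) (.node (.leaf 5642) (.leaf 0))))))) (.node (.node (.node (.node (.node (.node (.leaf 352) (.leaf 3658)) (.node (.leaf 2948) (.leaf 4467))) (.node (.node (.leaf 4512) (.leaf 1491)) (.node (.leaf 531) (.leaf 1752)))) (.node (.node (.node (.leaf 776) (.leaf 2472)) (.node (.leaf 2263) (.leaf 3598))) (.node (.node (.leaf 6139) (.leaf 941)) (.node (.leaf 628) (.leaf 0))))) (.node (.node (.node (.node (.leaf 6639) (.leaf 3704)) (.node (.leaf 2827) (.leaf 3680))) (.node (.node (.leaf 5002) (.leaf 553)) (.node (.leaf 6334) (.leaf 0)))) (.node (.node (.node (.leaf 3800) (.leaf 3327)) (.node (.leaf 6330) (.leaf 5598))) (.node (.node (.leaf 6027) (.leaf 5889)) (.node (.leaf 2584) (.leaf 0)))))) (.node (.node (.node (.node (.node (.leaf 6885) (.leaf 4038)) (.node (.leaf 5556) (.leaf 6303))) (.node (.node (.leaf 1201) (.leaf 6024)) (.node (.leaf 2868) (.leaf 0)))) (.node (.node (.node (.leaf 1264) (.leaf 1161)) (.node (.leaf 4374) (.leaf 3736))) (.node (.node (.leaf 6363)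 (.leaf 1381)) (.node (.leaf 1112) (.leaf 0))))) (.node (.node (.node (.node (.leaf 7343) (.leaf 6158)) (.node (.leaf 7067) (.leaf 5526))) (.node (.node (.leaf 2869) (.leaf 4705)) (.node (.leaf 2939) (.leaf 0)))) (.node (.node (.node (.leaf 6554) (.leaf 4881)) (.node (.leaf 1890) (.leaf 2126))) (.node (.node (.leaf 4858) (.leaf 6142)) (.node (.leaf 4262) (.leaf 0)))))))) (.node (.node (.node (.node (.node (.node (.node (.leaf 3378) (.leaf 2798)) (.node (.leaf 116) (.leaf 3099))) (.node (.node (.leaf 1623) (.leaf 328)) (.node (.leaf 2794) (.leaf 1206)))) (.node (.node (.node (.leaf 3739) (.leaf 6768)) (.node (.leaf 1852) (.leaf 514))) (.node (.node (.leaf 6232) (.leaf 3674)) (.node (.leaf 4032) (.leaf 0))))) (.node (.node (.node (.node (.leaf 2741) (.leaf 1689)) (.node (.leaf 5328) (.leaf 6077))) (.node (.node (.leaf 5943) (.leaf 1919)) (.node (.leaf 4427) (.leaf 0)))) (.node (.node (.node (.leaf 6200) (.leaf 2845)) (.node (.leaf 6925) (.leaf 292))) (.node (.node (.leaf 6536) (.leaf 6136)) (.node (.leaf 6736) (.leaf 0)))))) (.node (.node (.node (.node (.node (.leaf 3193) (.leaf 5038)) (.node (.leaf 3877) (.leaf 3460))) (.node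 (.node (.leaf 6769) (.leaf 4923)) (.node (.leaf 6345) (.leaf 0)))) (.node (.node (.node (.leaf 3664) (.leaf 1132)) (.node (.leaf 6184) (.leaf 7021))) (.node (.node (.leaf 569) (.leaf 5073)) (.node (.leaf 1147) (.leaf 0))))) (.node (.node (.node (.node (.leaf 6172) (.leaf 1589)) (.node (.leaf 980) (.leaf 2292))) (.node (.node (.leaf 4233) (.leaf 3671)) (.node (.leaf 2068) (.leaf 0)))) (.node (.node (.node (.leaf 7247) (.leaf 4521)) (.node (.leaf 6014) (.leaf 2259))) (.node (.node (.leaf 4029) (.leaf 4245)) (.node (.leaf 3322) (.leaf 0))))))) (.node (.node (.node (.node (.node (.node (.leaf 5561) (.leaf 4349)) (.node (.leaf 4491) (.leaf 897))) (.node (.node (.leaf 6213) (.leaf 4625)) (.node (.leaf 1250) (.leaf 2047)))) (.node (.node (.node (.leaf 4320) (.leaf 5708)) (.node (.leaf 2736) (.leaf 3855))) (.node (.node (.leaf 1751) (.leaf 5367)) (.node (.leaf 2468) (.leaf 0))))) (.node (.node (.node (.node (.leaf 1951) (.leaf 4204)) (.node (.leaf 4031) (.leaf 6025))) (.node (.node (.leaf 2245) (.leaf 3454)) (.node (.leaf 2672) (.leaf 0)))) (.node (.node (.node (.leaf 6903) (.leaf 2042)) (.node (.leaf 3789) (.leaf 5314))) (.node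 (.node (.leaf 2022) (.leaf 1693)) (.node (.leaf 2519) (.leaf 0)))))) (.node (.node (.node (.node (.node (.leaf 574) (.leaf 2889)) (.node (.leaf 1453) (.leaf 6081))) (.node (.node (.leaf 6730) (.leaf 6227)) (.node (.leaf 1106) (.leaf 0)))) (.node (.node (.node (.leaf 4674) (.leaf 435)) (.node (.leaf 265) (.leaf 2369))) (.node (.node (.leaf 3005) (.leaf 4052)) (.node (.leaf 433) (.leaf 0))))) (.node (.node (.node (.node (.leaf 5592) (.leaf 5872)) (.node (.leaf 3519) (.leaf 2279))) (.node (.node (.leaf 62) (.leaf 5226)) (.node (.leaf 6461) (.leaf 0)))) (.node (.node (.node (.leaf 1184) (.leaf 1416)) (.node (.leaf 6318) (.leaf 3842))) (.node (.node (.leaf 5421) (.leaf 1126)) (.node (.leaf 5010) (.leaf 0))))))))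

def ohT18 : NT := .node (.node (.node (.node (.node (.node (.node (.node (.leaf 4267) (.leaf 1911)) (.node (.leaf 2232) (.leaf 3717))) (.node (.node (.leaf 6734) (.leaf 5352)) (.node (.leaf 246) (.leaf 4253)))) (.node (.node (.node (.leaf 431) (.leaf 33)) (.node (.leaf 3256) (.leaf 4351))) (.node (.node (.leaf 1405) (.leaf 6961)) (.node (.leaf 2980) (.leaf 0))))) (.node (.node (.node (.node (.leaf 4792) (.leaf 6253)) (.node (.leaf 4484) (.leaf 4080))) (.node (.node (.leaf 825) (.leaf 990)) (.node (.leaf 7110) (.leaf 0)))) (.node (.node (.node (.leaf 3328) (.leaf 4481)) (.node (.leaf 5315) (.leaf 6764))) (.node (.node (.leaf 4785) (.leaf 108)) (.node (.leaf 6944) (.leaf 0)))))) (.node (.node (.node (.node (.node (.leaf 2368) (.leaf 1533)) (.node (.leaf 6151) (.leaf 2160))) (.node (.node (.leaf 5967) (.leaf 5818)) (.node (.leaf 3062) (.leaf 3728)))) (.node (.node (.node (.leaf 3013) (.leaf 3139)) (.node (.leaf 641) (.leaf 4432))) (.node (.node (.leaf 525) (.leaf 6572)) (.node (.leaf 4210) (.leaf 0))))) (.node (.node (.node (.node (.leaf 50) (.leaf 3009)) (.node (.leaf 675) (.leaf 7063))) (.node (.node (.leaf 994) (.leaf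 6609)) (.node (.leaf 2636) (.leaf 0)))) (.node (.node (.node (.leaf 2395) (.leaf 6739)) (.node (.leaf 5425) (.leaf 2432))) (.node (.node (.leaf 6969) (.leaf 4141)) (.node (.leaf 2385) (.leaf 0))))))) (.node (.node (.node (.node (.node (.node (.leaf 1946) (.leaf 5740)) (.node (.leaf 7321) (.leaf 441))) (.node (.node (.leaf 5186) (.leaf 2626)) (.node (.leaf 1715) (.leaf 4411)))) (.node (.node (.node (.leaf 1776) (.leaf 7031)) (.node (.leaf 590) (.leaf 3846))) (.node (.node (.leaf 1140) (.leaf 7005)) (.node (.leaf 5374) (.leaf 0))))) (.node (.node (.node (.node (.leaf 6708) (.leaf 4827)) (.node (.leaf 1648) (.leaf 621))) (.node (.node (.leaf 3804) (.leaf 7266)) (.node (.leaf 5528) (.leaf 0)))) (.node (.node (.node (.leaf 884) (.leaf 3206)) (.node (.leaf 4298) (.leaf 5964))) (.node (.node (.leaf 1881) (.leaf 840)) (.node (.leaf 5301) (.leaf 0)))))) (.node (.node (.node (.node (.node (.leaf 563) (.leaf 1991)) (.node (.leaf 3695) (.leaf 4148))) (.node (.node (.leaf 4965) (.leaf 4068)) (.node (.leaf 543) (.leaf 0)))) (.node (.node (.node (.leaf 186) (.leaf 3514)) (.node (.leaf 5694) (.leaf 3250))) (.node (.node (.leaf 6540) (.leaf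 4066)) (.node (.leaf 2819) (.leaf 0))))) (.node (.node (.node (.node (.leaf 4333) (.leaf 6073)) (.node (.leaf 6410) (.leaf 3128))) (.node (.node (.leaf 3809) (.leaf 4613)) (.node (.leaf 674) (.leaf 0)))) (.node (.node (.node (.leaf 2032) (.leaf 1371)) (.node (.leaf 5256) (.leaf 5271))) (.node (.node (.leaf 2530) (.leaf 1722)) (.node (.leaf 4531) (.leaf 0)))))))) (.node (.node (.node (.node (.node (.node (.node (.leaf 4043) (.leaf 5985)) (.node (.leaf 7029) (.leaf 5843))) (.node (.node (.leaf 5433) (.leaf 2230)) (.node (.leaf 608) (.leaf 1058)))) (.node (.node (.node (.leaf 5056) (.leaf 1641)) (.node (.leaf 7182) (.leaf 4001))) (.node (.node (.leaf 6968) (.leaf 7281)) (.node (.leaf 3505) (.leaf 0))))) (.node (.node (.node (.node (.leaf 3141) (.leaf 312)) (.node (.leaf 517) (.leaf 5944))) (.node (.node (.leaf 1576) (.leaf 1146)) (.node (.leaf 290) (.leaf 0)))) (.node (.node (.node (.leaf 6728) (.leaf 7049)) (.node (.leaf 1580) (.leaf 6817))) (.node (.node (.leaf 3622) (.leaf 6280)) (.node (.leaf 3795) (.leaf 0)))))) (.node (.node (.node (.node (.node (.leaf 5432) (.leaf 1547)) (.node (.leaf 2482) (.leaf 7070))) (.node (.node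 (.leaf 363) (.leaf 1490)) (.node (.leaf 4986) (.leaf 0)))) (.node (.node (.node (.leaf 6575) (.leaf 3970)) (.node (.leaf 3076) (.leaf 2670))) (.node (.node (.leaf 4888) (.leaf 2737)) (.node (.leaf 2962) (.leaf 0))))) (.node (.node (.node (.node (.leaf 97) (.leaf 5071)) (.node (.leaf 6088) (.leaf 4918))) (.node (.node (.leaf 3375) (.leaf 867)) (.node (.leaf 1049) (.leaf 0)))) (.node (.node (.node (.leaf 3942) (.leaf 6355)) (.node (.leaf 271) (.leaf 366))) (.node (.node (.leaf 3983) (.leaf 468)) (.node (.leaf 2682) (.leaf 0))))))) (.node (.node (.node (.node (.node (.node (.leaf 6633) (.leaf 5886)) (.node (.leaf 3631) (.leaf 79))) (.node (.node (.leaf 7040) (.leaf 853)) (.node (.leaf 345) (.leaf 5004)))) (.node (.node (.node (.leaf 4604) (.leaf 3310)) (.node (.leaf 4977) (.leaf 3780))) (.node (.node (.leaf 7055) (.leaf 1048)) (.node (.leaf 2286) (.leaf 0))))) (.node (.node (.node (.node (.leaf 6268) (.leaf 4104)) (.node (.leaf 4365) (.leaf 2907))) (.node (.node (.leaf 41) (.leaf 2722)) (.node (.leaf 1370) (.leaf 0)))) (.node (.node (.node (.leaf 3102) (.leaf 7188)) (.node (.leaf 2642) (.leaf 2853))) (.node (.node (.leaf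 2804) (.leaf 1990)) (.node (.leaf 3187) (.leaf 0)))))) (.node (.node (.node (.node (.node (.leaf 7303) (.leaf 4328)) (.node (.leaf 4107) (.leaf 1396))) (.node (.node (.leaf 5348) (.leaf 4562)) (.node (.leaf 2897) (.leaf 0)))) (.node (.node (.node (.leaf 5261) (.leaf 2933)) (.node (.leaf 6891) (.leaf 803))) (.node (.node (.leaf 3900) (.leaf 2104)) (.node (.leaf 1230) (.leaf 0))))) (.node (.node (.node (.node (.leaf 5285) (.leaf 6178)) (.node (.leaf 1978) (.leaf 4002))) (.node (.node (.leaf 3204) (.leaf 2865)) (.node (.leaf 6927) (.leaf 0)))) (.node (.node (.node (.leaf 1541) (.leaf 5279)) (.node (.leaf 6264) (.leaf 5825))) (.node (.node (.leaf 4751) (.leaf 1382)) (.node (.leaf 6667) (.leaf 0))))))))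

def ohT19 : NT := .node (.node (.node (.node (.node (.node (.node (.node (.leaf 2270) (.leaf 1133)) (.node (.leaf 3533) (.leaf 703))) (.node (.node (.leaf 4783) (.leaf 3967)) (.node (.leaf 436) (.leaf 4933)))) (.node (.node (.node (.leaf 1809) (.leaf 4863)) (.node (.leaf 3173) (.leaf 5224))) (.node (.node (.leaf 579) (.leaf 2773)) (.node (.leaf 4821) (.leaf 0))))) (.node (.node (.node (.node (.leaf 6962) (.leaf 1217)) (.node (.leaf 5718) (.leaf 5100))) (.node (.node (.leaf 1805) (.leaf 6405)) (.node (.leaf 3044) (.leaf 0)))) (.node (.node (.node (.leaf 7151) (.leaf 6047)) (.node (.leaf 3902) (.leaf 2221))) (.node (.node (.leaf 1787) (.leaf 1593)) (.node (.leaf 5941) (.leaf 0)))))) (.node (.node (.node (.node (.node (.leaf 2653) (.leaf 3650)) (.node (.leaf 3183) (.leaf 4472))) (.node (.node (.leaf 4989) (.leaf 7249)) (.node (.leaf 2600) (.leaf 6581)))) (.node (.node (.node (.leaf 1930) (.leaf 709)) (.node (.leaf 7255) (.leaf 1835))) (.node (.node (.leaf 4943) (.leaf 5060)) (.node (.leaf 5333) (.leaf 0))))) (.node (.node (.node (.node (.leaf 6304) (.leaf 1192)) (.node (.leaf 2081) (.leaf 3433))) (.node (.node (.leaf 3606)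 (.leaf 6659)) (.node (.leaf 6113) (.leaf 0)))) (.node (.node (.node (.leaf 2661) (.leaf 396)) (.node (.leaf 1215) (.leaf 329))) (.node (.node (.leaf 486) (.leaf 2729)) (.node (.leaf 643) (.leaf 0))))))) (.node (.node (.node (.node (.node (.node (.leaf 3284) (.leaf 5989)) (.node (.leaf 1902) (.leaf 2499))) (.node (.node (.leaf 4420) (.leaf 5609)) (.node (.leaf 3805) (.leaf 753)))) (.node (.node (.node (.leaf 7009) (.leaf 4817)) (.node (.leaf 1497) (.leaf 1083))) (.node (.node (.leaf 2927) (.leaf 4305)) (.node (.leaf 4023) (.leaf 0))))) (.node (.node (.node (.node (.leaf 706) (.leaf 4760)) (.node (.leaf 5724) (.leaf 5308))) (.node (.node (.leaf 4071) (.leaf 6296)) (.node (.leaf 5462) (.leaf 0)))) (.node (.node (.node (.leaf 4645) (.leaf 1020)) (.node (.leaf 3237) (.leaf 3922))) (.node (.node (.leaf 5138) (.leaf 2679)) (.node (.leaf 2703) (.leaf 0)))))) (.node (.node (.node (.node (.node (.leaf 7234) (.leaf 2785)) (.node (.leaf 1457) (.leaf 5711))) (.node (.node (.leaf 4395) (.leaf 5927)) (.node (.leaf 4308) (.leaf 0)))) (.node (.node (.node (.leaf 7335) (.leaf 7127)) (.node (.leaf 3472) (.leaf 4853))) (.node (.node (.leaf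 1685) (.leaf 1162)) (.node (.leaf 3190) (.leaf 0))))) (.node (.node (.node (.node (.leaf 143) (.leaf 123)) (.node (.leaf 3836) (.leaf 6228))) (.node (.node (.leaf 2976) (.leaf 1840)) (.node (.leaf 206) (.leaf 0)))) (.node (.node (.node (.leaf 5687) (.leaf 3600)) (.node (.leaf 2542) (.leaf 3145))) (.node (.node (.leaf 4383) (.leaf 4588)) (.node (.leaf 5553) (.leaf 0)))))))) (.node (.node (.node (.node (.node (.node (.node (.leaf 4220) (.leaf 4730)) (.node (.leaf 4279) (.leaf 447))) (.node (.node (.leaf 6816) (.leaf 407)) (.node (.leaf 4306) (.leaf 4087)))) (.node (.node (.node (.leaf 6550) (.leaf 1921)) (.node (.leaf 309) (.leaf 2880))) (.node (.node (.leaf 4448) (.leaf 6549)) (.node (.leaf 5986) (.leaf 0))))) (.node (.node (.node (.node (.leaf 7014) (.leaf 6181)) (.node (.leaf 4926) (.leaf 1577))) (.node (.node (.leaf 1900) (.leaf 5725)) (.node (.leaf 6685) (.leaf 0)))) (.node (.node (.node (.leaf 4586) (.leaf 4564)) (.node (.leaf 2715) (.leaf 1082))) (.node (.node (.leaf 2639) (.leaf 4680)) (.node (.leaf 1525) (.leaf 0)))))) (.node (.node (.node (.node (.node (.leaf 1124) (.leaf 4995)) (.node (.leaf 5039) (.leaf 1398)))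 (.node (.node (.leaf 4125) (.leaf 6941)) (.node (.leaf 2988) (.leaf 0)))) (.node (.node (.node (.leaf 5362) (.leaf 3294)) (.node (.leaf 1833) (.leaf 5583))) (.node (.node (.leaf 5790) (.leaf 620)) (.node (.leaf 4124) (.leaf 0))))) (.node (.node (.node (.node (.leaf 5438) (.leaf 760)) (.node (.leaf 4457) (.leaf 4603))) (.node (.node (.leaf 3744) (.leaf 5280)) (.node (.leaf 6283) (.leaf 0)))) (.node (.node (.node (.leaf 3216) (.leaf 4907)) (.node (.leaf 6649) (.leaf 1996))) (.node (.node (.leaf 1773) (.leaf 6192)) (.node (.leaf 7099) (.leaf 0))))))) (.node (.node (.node (.node (.node (.node (.leaf 6860) (.leaf 1021)) (.node (.leaf 4225) (.leaf 659))) (.node (.node (.leaf 5952) (.leaf 498)) (.node (.leaf 4) (.leaf 1969)))) (.node (.node (.node (.leaf 4368) (.leaf 6137)) (.node (.leaf 1420) (.leaf 4736))) (.node (.node (.leaf 4930) (.leaf 4652)) (.node (.leaf 1035) (.leaf 0))))) (.node (.node (.node (.node (.leaf 6494) (.leaf 6714)) (.node (.leaf 4594) (.leaf 1480))) (.node (.node (.leaf 1303) (.leaf 3770)) (.node (.leaf 2028) (.leaf 0)))) (.node (.node (.node (.leaf 6364) (.leaf 4706)) (.node (.leaf 1935) (.leaf 739))) (.node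 (.node (.leaf 789) (.leaf 1818)) (.node (.leaf 6665) (.leaf 0)))))) (.node (.node (.node (.node (.node (.leaf 3777) (.leaf 3593)) (.node (.leaf 3381) (.leaf 5693))) (.node (.node (.leaf 1694) (.leaf 3201)) (.node (.leaf 4578) (.leaf 0)))) (.node (.node (.node (.leaf 5322) (.leaf 619)) (.node (.leaf 5229) (.leaf 5772))) (.node (.node (.leaf 4739) (.leaf 6329)) (.node (.leaf 2932) (.leaf 0))))) (.node (.node (.node (.node (.leaf 7329) (.leaf 4522)) (.node (.leaf 5254) (.leaf 1662))) (.node (.node (.leaf 5865) (.leaf 6349)) (.node (.leaf 981) (.leaf 0)))) (.node (.node (.node (.leaf 948) (.leaf 6701)) (.node (.leaf 1905) (.leaf 6553))) (.node (.node (.leaf 5796) (.leaf 3047)) (.node (.leaf 3930) (.leaf 0))))))))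

def ohT20 : NT := .node (.node (.node (.node (.node (.node (.node (.node (.leaf 2407) (.leaf 4755)) (.node (.leaf 3432) (.leaf 5877))) (.node (.node (.leaf 5603) (.leaf 3484)) (.node (.leaf 1867) (.leaf 2775)))) (.node (.node (.node (.leaf 3083) (.leaf 6080)) (.node (.leaf 4955) (.leaf 6512))) (.node (.node (.leaf 916) (.leaf 7210)) (.node (.leaf 3478) (.leaf 0))))) (.node (.node (.node (.node (.leaf 3835) (.leaf 3941)) (.node (.leaf 63) (.leaf 2987))) (.node (.node (.leaf 1519) (.leaf 7216)) (.node (.leaf 3557) (.leaf 0)))) (.node (.node (.node (.leaf 837) (.leaf 1131)) (.node (.leaf 7251) (.leaf 313))) (.node (.node (.leaf 718) (.leaf 1372)) (.node (.leaf 2131) (.leaf 0)))))) (.node (.node (.node (.node (.node (.leaf 2269) (.leaf 2558)) (.node (.leaf 2751) (.leaf 3053))) (.node (.node (.leaf 3955) (.leaf 1007)) (.node (.leaf 4557) (.leaf 1441)))) (.node (.node (.node (.leaf 2901) (.leaf 3722)) (.node (.leaf 3687) (.leaf 5240))) (.node (.node (.leaf 1786) (.leaf 6918)) (.node (.leaf 6327) (.leaf 0))))) (.node (.node (.node (.node (.leaf 2422) (.leaf 1249)) (.node (.leaf 821) (.leaf 3536))) (.node (.node (.leaf 5965)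 (.leaf 3510)) (.node (.leaf 5622) (.leaf 0)))) (.node (.node (.node (.leaf 2998) (.leaf 2855)) (.node (.leaf 4539) (.leaf 2231))) (.node (.node (.leaf 3518) (.leaf 4363)) (.node (.leaf 3008) (.leaf 0))))))) (.node (.node (.node (.node (.node (.node (.leaf 4051) (.leaf 4945)) (.node (.leaf 5390) (.leaf 7058))) (.node (.node (.leaf 1680) (.leaf 6543)) (.node (.leaf 4795) (.leaf 2508)))) (.node (.node (.node (.leaf 120) (.leaf 565)) (.node (.leaf 3986) (.leaf 288))) (.node (.node (.leaf 4020) (.leaf 6691)) (.node (.leaf 733) (.leaf 0))))) (.node (.node (.node (.node (.leaf 3049) (.leaf 3169)) (.node (.leaf 3751) (.leaf 6981))) (.node (.node (.leaf 1714) (.leaf 6879)) (.node (.leaf 2023) (.leaf 0)))) (.node (.node (.node (.leaf 3182) (.leaf 1380)) (.node (.leaf 2876) (.leaf 5815))) (.node (.node (.leaf 3604) (.leaf 3534)) (.node (.leaf 1596) (.leaf 0)))))) (.node (.node (.node (.node (.node (.leaf 3927) (.leaf 1972)) (.node (.leaf 4464) (.leaf 7039))) (.node (.node (.leaf 2282) (.leaf 3058)) (.node (.leaf 532) (.leaf 0)))) (.node (.node (.node (.leaf 3235) (.leaf 4011)) (.node (.leaf 642) (.leaf 3694))) (.node (.node (.leaf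 138) (.leaf 6320)) (.node (.leaf 7054) (.leaf 0))))) (.node (.node (.node (.node (.leaf 419) (.leaf 678)) (.node (.leaf 3493) (.leaf 3290))) (.node (.node (.leaf 463) (.leaf 6285)) (.node (.leaf 6947) (.leaf 0)))) (.node (.node (.node (.leaf 2093) (.leaf 1450)) (.node (.leaf 5470) (.leaf 6059))) (.node (.node (.leaf 4384) (.leaf 630)) (.node (.leaf 6211) (.leaf 0)))))))) (.node (.node (.node (.node (.node (.node (.node (.leaf 3158) (.leaf 6340)) (.node (.leaf 3596) (.leaf 3031))) (.node (.node (.leaf 1125) (.leaf 3379)) (.node (.leaf 6709) (.leaf 2985)))) (.node (.node (.node (.leaf 2800) (.leaf 5085)) (.node (.leaf 6277) (.leaf 5005))) (.node (.node (.leaf 1091) (.leaf 995)) (.node (.leaf 6273) (.leaf 0))))) (.node (.node (.node (.node (.leaf 6313) (.leaf 3319)) (.node (.leaf 958) (.leaf 1901))) (.node (.node (.leaf 813) (.leaf 1431)) (.node (.leaf 5165) (.leaf 0)))) (.node (.node (.node (.leaf 2204) (.leaf 5782)) (.node (.leaf 2950) (.leaf 6934))) (.node (.node (.leaf 6067) (.leaf 2692)) (.node (.leaf 6603) (.leaf 0)))))) (.node (.node (.node (.node (.node (.leaf 2598) (.leaf 700)) (.node (.leaf 2096) (.leaf 2802)))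 (.node (.node (.leaf 1089) (.leaf 2570)) (.node (.leaf 6478) (.leaf 0)))) (.node (.node (.node (.leaf 3092) (.leaf 4021)) (.node (.leaf 2963) (.leaf 6001))) (.node (.node (.leaf 3638) (.leaf 3679)) (.node (.leaf 3468) (.leaf 0))))) (.node (.node (.node (.node (.leaf 159) (.leaf 3876)) (.node (.leaf 5793) (.leaf 2176))) (.node (.node (.leaf 6945) (.leaf 1571)) (.node (.leaf 3308) (.leaf 0)))) (.node (.node (.node (.leaf 4238) (.leaf 4549)) (.node (.leaf 2321) (.leaf 2300))) (.node (.node (.leaf 6271) (.leaf 4840)) (.node (.leaf 7205) (.leaf 0))))))) (.node (.node (.node (.node (.node (.node (.leaf 7219) (.leaf 6281)) (.node (.leaf 7158) (.leaf 3701))) (.node (.node (.leaf 6893) (.leaf 4367)) (.node (.leaf 43) (.leaf 6630)))) (.node (.node (.node (.leaf 3202) (.leaf 4681)) (.node (.leaf 6233) (.leaf 1874))) (.node (.node (.leaf 5593) (.leaf 1743)) (.node (.leaf 2946) (.leaf 0))))) (.node (.node (.node (.node (.leaf 2553) (.leaf 2004)) (.node (.leaf 5920) (.leaf 6957))) (.node (.node (.leaf 3882) (.leaf 2163)) (.node (.leaf 732) (.leaf 0)))) (.node (.node (.node (.leaf 7227) (.leaf 2863)) (.node (.leaf 3094) (.leaf 4935)))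 (.node (.node (.leaf 899) (.leaf 1718)) (.node (.leaf 2744) (.leaf 0)))))) (.node (.node (.node (.node (.node (.leaf 3760) (.leaf 5511)) (.node (.leaf 4153) (.leaf 5831))) (.node (.node (.leaf 5297) (.leaf 3265)) (.node (.leaf 4959) (.leaf 0)))) (.node (.node (.node (.leaf 165) (.leaf 3064)) (.node (.leaf 134) (.leaf 5231))) (.node (.node (.leaf 458) (.leaf 2873)) (.node (.leaf 3799) (.leaf 0))))) (.node (.node (.node (.node (.leaf 6270) (.leaf 2053)) (.node (.leaf 1244) (.leaf 3285))) (.node (.node (.leaf 1018) (.leaf 4806)) (.node (.leaf 6643) (.leaf 0)))) (.node (.node (.node (.leaf 1433) (.leaf 5968)) (.node (.leaf 4962) (.leaf 4370))) (.node (.node (.leaf 2115) (.leaf 7312)) (.node (.leaf 5572) (.leaf 0))))))))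

def ohT21 : NT := .node (.node (.node (.node (.node (.node (.node (.node (.leaf 4967) (.leaf 6917)) (.node (.leaf 3036) (.leaf 5243))) (.node (.node (.leaf 1360) (.leaf 4780)) (.node (.leaf 3362) (.leaf 2123)))) (.node (.node (.node (.leaf 6975) (.leaf 6700)) (.node (.leaf 2195) (.leaf 6661))) (.node (.node (.leaf 4569) (.leaf 4271)) (.node (.leaf 6798) (.leaf 0))))) (.node (.node (.node (.node (.leaf 1622) (.leaf 5427)) (.node (.leaf 2629) (.leaf 1079))) (.node (.node (.leaf 3479) (.leaf 1170)) (.node (.leaf 5721) (.leaf 0)))) (.node (.node (.node (.leaf 1076) (.leaf 388)) (.node (.leaf 3619) (.leaf 2475))) (.node (.node (.leaf 1262) (.leaf 894)) (.node (.leaf 1252) (.leaf 0)))))) (.node (.node (.node (.node (.node (.leaf 5392) (.leaf 1139)) (.node (.leaf 2937) (.leaf 6455))) (.node (.node (.leaf 3089) (.leaf 2996)) (.node (.leaf 5112) (.leaf 1522)))) (.node (.node (.node (.leaf 6547) (.leaf 1349)) (.node (.leaf 3669) (.leaf 1301))) (.node (.node (.leaf 5966) (.leaf 6919)) (.node (.leaf 4782) (.leaf 0))))) (.node (.node (.node (.node (.leaf 5892) (.leaf 169)) (.node (.leaf 4846) (.leaf 655))) (.node (.node (.leaf 1479)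 (.leaf 5550)) (.node (.leaf 2732) (.leaf 0)))) (.node (.node (.node (.leaf 5206) (.leaf 1271)) (.node (.leaf 7277) (.leaf 6275))) (.node (.node (.leaf 6741) (.leaf 6488)) (.node (.leaf 5093) (.leaf 0))))))) (.node (.node (.node (.node (.node (.node (.leaf 7206) (.leaf 4526)) (.node (.leaf 2808) (.leaf 1795))) (.node (.node (.leaf 2108) (.leaf 3611)) (.node (.leaf 4642) (.leaf 742)))) (.node (.node (.node (.leaf 4948) (.leaf 4643)) (.node (.leaf 3872) (.leaf 4258))) (.node (.node (.leaf 5259) (.leaf 4156)) (.node (.leaf 1732) (.leaf 0))))) (.node (.node (.node (.node (.leaf 3720) (.leaf 6712)) (.node (.leaf 2155) (.leaf 3554))) (.node (.node (.leaf 3486) (.leaf 2640)) (.node (.leaf 1329) (.leaf 0)))) (.node (.node (.node (.leaf 2469) (.leaf 4497)) (.node (.leaf 3797) (.leaf 4235))) (.node (.node (.leaf 769) (.leaf 1108)) (.node (.leaf 4771) (.leaf 0)))))) (.node (.node (.node (.node (.node (.leaf 1309) (.leaf 7299)) (.node (.leaf 7221) (.leaf 6439))) (.node (.node (.leaf 5536) (.leaf 3336)) (.node (.leaf 187) (.leaf 0)))) (.node (.node (.node (.leaf 6156) (.leaf 1080)) (.node (.leaf 3688) (.leaf 414))) (.node (.node (.leaf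 2852) (.leaf 6316)) (.node (.leaf 3135) (.leaf 0))))) (.node (.node (.node (.node (.leaf 1334) (.leaf 5403)) (.node (.leaf 1700) (.leaf 3106))) (.node (.node (.leaf 7198) (.leaf 496)) (.node (.leaf 5035) (.leaf 0)))) (.node (.node (.node (.leaf 602) (.leaf 1195)) (.node (.leaf 2618) (.leaf 4994))) (.node (.node (.leaf 7108) (.leaf 834)) (.node (.leaf 2019) (.leaf 0)))))))) (.node (.node (.node (.node (.node (.node (.node (.leaf 3019) (.leaf 397)) (.node (.leaf 2107) (.leaf 6814))) (.node (.node (.leaf 6542) (.leaf 4026)) (.node (.leaf 6436) (.leaf 2790)))) (.node (.node (.node (.leaf 5424) (.leaf 5750)) (.node (.leaf 3271) (.leaf 3223))) (.node (.node (.leaf 3296) (.leaf 676)) (.node (.leaf 497) (.leaf 0))))) (.node (.node (.node (.node (.leaf 241) (.leaf 3371)) (.node (.leaf 4567) (.leaf 1084))) (.node (.node (.leaf 4911) (.leaf 1937)) (.node (.leaf 7272) (.leaf 0)))) (.node (.node (.node (.leaf 830) (.leaf 6116)) (.node (.leaf 5548) (.leaf 6336))) (.node (.node (.leaf 731) (.leaf 2129)) (.node (.leaf 4781) (.leaf 0)))))) (.node (.node (.node (.node (.node (.leaf 4555) (.leaf 3188)) (.node (.leaf 5524) (.leaf 5431)))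 (.node (.node (.leaf 6167) (.leaf 3496)) (.node (.leaf 5628) (.leaf 0)))) (.node (.node (.node (.leaf 4952) (.leaf 5260)) (.node (.leaf 4099) (.leaf 4189))) (.node (.node (.leaf 382) (.leaf 4316)) (.node (.leaf 477) (.leaf 0))))) (.node (.node (.node (.node (.leaf 1241) (.leaf 6157)) (.node (.leaf 2313) (.leaf 3988))) (.node (.node (.leaf 84) (.leaf 3367)) (.node (.leaf 626) (.leaf 0)))) (.node (.node (.node (.leaf 1032) (.leaf 1155)) (.node (.leaf 1311) (.leaf 4469))) (.node (.node (.leaf 6898) (.leaf 2127)) (.node (.leaf 4173) (.leaf 0))))))) (.node (.node (.node (.node (.node (.node (.leaf 2460) (.leaf 357)) (.node (.leaf 6849) (.leaf 2424))) (.node (.node (.leaf 5812) (.leaf 771)) (.node (.leaf 2760) (.leaf 3431)))) (.node (.node (.node (.leaf 7257) (.leaf 1947)) (.node (.leaf 3752) (.leaf 6323))) (.node (.node (.leaf 3946) (.leaf 6809)) (.node (.leaf 5770) (.leaf 0))))) (.node (.node (.node (.node (.leaf 2877) (.leaf 3091)) (.node (.leaf 3399) (.leaf 3461))) (.node (.node (.leaf 5447) (.leaf 3226)) (.node (.leaf 6023) (.leaf 0)))) (.node (.node (.node (.leaf 2894) (.leaf 5957)) (.node (.leaf 6666) (.leaf 2467))) (.node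 (.node (.leaf 933) (.leaf 7109)) (.node (.leaf 934) (.leaf 0)))))) (.node (.node (.node (.node (.node (.leaf 2030) (.leaf 5912)) (.node (.leaf 3968) (.leaf 5088))) (.node (.node (.leaf 4028) (.leaf 764)) (.node (.leaf 3343) (.leaf 0)))) (.node (.node (.node (.leaf 1245) (.leaf 3678)) (.node (.leaf 2697) (.leaf 6252))) (.node (.node (.leaf 5897) (.leaf 5938)) (.node (.leaf 501) (.leaf 0))))) (.node (.node (.node (.node (.leaf 171) (.leaf 2073)) (.node (.leaf 163) (.leaf 6778))) (.node (.node (.leaf 5358) (.leaf 4744)) (.node (.leaf 2836) (.leaf 0)))) (.node (.node (.node (.leaf 2017) (.leaf 1885)) (.node (.leaf 5472) (.leaf 2390))) (.node (.node (.leaf 6053) (.leaf 4019)) (.node (.leaf 4409) (.leaf 0))))))))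

def ohT22 : NT := .node (.node (.node (.node (.node (.node (.node (.node (.leaf 4869) (.leaf 1747)) (.node (.leaf 2673) (.leaf 6693))) (.node (.node (.leaf 944) (.leaf 7326)) (.node (.leaf 1926) (.leaf 2687)))) (.node (.node (.node (.leaf 5171) (.leaf 5278)) (.node (.leaf 3339) (.leaf 4230))) (.node (.node (.leaf 3550) (.leaf 3000)) (.node (.leaf 2054) (.leaf 0))))) (.node (.node (.node (.node (.leaf 4752) (.leaf 4185)) (.node (.leaf 5816) (.leaf 3006))) (.node (.node (.leaf 4800) (.leaf 917)) (.node (.leaf 6357) (.leaf 0)))) (.node (.node (.node (.leaf 2965) (.leaf 2192)) (.node (.leaf 2768) (.leaf 3531))) (.node (.node (.leaf 184) (.leaf 4055)) (.node (.leaf 155) (.leaf 0)))))) (.node (.node (.node (.node (.node (.leaf 107) (.leaf 6574)) (.node (.leaf 4218) (.leaf 4979))) (.node (.node (.leaf 6749) (.leaf 7043)) (.node (.leaf 4273) (.leaf 6065)))) (.node (.node (.node (.leaf 276) (.leaf 4168)) (.node (.leaf 1945) (.leaf 3880))) (.node (.node (.leaf 7069) (.leaf 5069)) (.node (.leaf 2101) (.leaf 0))))) (.node (.node (.node (.node (.leaf 210) (.leaf 5440)) (.node (.leaf 1015) (.leaf 6354))) (.node (.node (.leaf 2906)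 (.leaf 6398)) (.node (.leaf 5062) (.leaf 0)))) (.node (.node (.node (.leaf 149) (.leaf 4997)) (.node (.leaf 2646) (.leaf 3220))) (.node (.node (.leaf 2399) (.leaf 4592)) (.node (.leaf 4797) (.leaf 0))))))) (.node (.node (.node (.node (.node (.node (.leaf 7290) (.leaf 3956)) (.node (.leaf 787) (.leaf 2517))) (.node (.node (.leaf 2082) (.leaf 1800)) (.node (.leaf 5701) (.leaf 3830)))) (.node (.node (.node (.leaf 5680) (.leaf 5335)) (.node (.leaf 2361) (.leaf 1985))) (.node (.node (.leaf 5013) (.leaf 5191)) (.node (.leaf 6524) (.leaf 0))))) (.node (.node (.node (.node (.leaf 6684) (.leaf 5999)) (.node (.leaf 6469) (.leaf 4379))) (.node (.node (.leaf 6887) (.leaf 3623)) (.node (.leaf 3348) (.leaf 0)))) (.node (.node (.node (.leaf 6317) (.leaf 3632)) (.node (.leaf 1152) (.leaf 5842))) (.node (.node (.leaf 509) (.leaf 5098)) (.node (.leaf 1567) (.leaf 0)))))) (.node (.node (.node (.node (.node (.leaf 6493) (.leaf 6484)) (.node (.leaf 2587) (.leaf 1857))) (.node (.node (.leaf 5716) (.leaf 1657)) (.node (.leaf 1265) (.leaf 0)))) (.node (.node (.node (.leaf 1778) (.leaf 3849)) (.node (.leaf 3661) (.leaf 4042))) (.node (.node (.leaf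 4459) (.leaf 7328)) (.node (.leaf 5043) (.leaf 0))))) (.node (.node (.node (.node (.leaf 5489) (.leaf 6593)) (.node (.leaf 3422) (.leaf 681))) (.node (.node (.leaf 6009) (.leaf 4862)) (.node (.leaf 5144) (.leaf 0)))) (.node (.node (.node (.leaf 5108) (.leaf 5420)) (.node (.leaf 2171) (.leaf 680))) (.node (.node (.leaf 2843) (.leaf 6086)) (.node (.leaf 248) (.leaf 0)))))))) (.node (.node (.node (.node (.node (.node (.node (.leaf 705) (.leaf 4928)) (.node (.leaf 5299) (.leaf 7241))) (.node (.node (.leaf 3576) (.leaf 1059)) (.node (.leaf 3931) (.leaf 3120)))) (.node (.node (.node (.leaf 1214) (.leaf 2982)) (.node (.leaf 573) (.leaf 1980))) (.node (.node (.leaf 2520) (.leaf 3287)) (.node (.leaf 5324) (.leaf 0))))) (.node (.node (.node (.node (.leaf 1916) (.leaf 1061)) (.node (.leaf 5699) (.leaf 6418))) (.node (.node (.leaf 2384) (.leaf 3181)) (.node (.leaf 2309) (.leaf 0)))) (.node (.node (.node (.leaf 5371) (.leaf 4631)) (.node (.leaf 5751) (.leaf 7297))) (.node (.node (.leaf 5450) (.leaf 4936)) (.node (.leaf 1625) (.leaf 0)))))) (.node (.node (.node (.node (.node (.leaf 1803) (.leaf 7325)) (.node (.leaf 5295) (.leaf 1122)))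 (.node (.node (.leaf 310) (.leaf 7042)) (.node (.leaf 6028) (.leaf 0)))) (.node (.node (.node (.leaf 2151) (.leaf 5014)) (.node (.leaf 784) (.leaf 5223))) (.node (.node (.leaf 2506) (.leaf 5771)) (.node (.leaf 6748) (.leaf 0))))) (.node (.node (.node (.node (.leaf 302) (.leaf 7020)) (.node (.leaf 5887) (.leaf 3113))) (.node (.node (.leaf 3703) (.leaf 766)) (.node (.leaf 122) (.leaf 0)))) (.node (.node (.node (.leaf 4346) (.leaf 968)) (.node (.leaf 6857) (.leaf 3438))) (.node (.node (.leaf 353) (.leaf 6828)) (.node (.leaf 6182) (.leaf 0))))))) (.node (.node (.node (.node (.node (.node (.leaf 3244) (.leaf 2251)) (.node (.leaf 6976) (.leaf 6928))) (.node (.node (.leaf 2006) (.leaf 2376)) (.node (.leaf 2648) (.leaf 2339)))) (.node (.node (.node (.leaf 5090) (.leaf 4516)) (.node (.leaf 6486) (.leaf 905))) (.node (.node (.leaf 1451) (.leaf 5499)) (.node (.leaf 668) (.leaf 0))))) (.node (.node (.node (.node (.leaf 547) (.leaf 3224)) (.node (.leaf 1442) (.leaf 4895))) (.node (.node (.leaf 4385) (.leaf 6744)) (.node (.leaf 4060) (.leaf 0)))) (.node (.node (.node (.leaf 5349) (.leaf 494)) (.node (.leaf 6504) (.leaf 3015))) (.node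 (.node (.leaf 6937) (.leaf 4248)) (.node (.leaf 6938) (.leaf 0)))))) (.node (.node (.node (.node (.node (.leaf 1030) (.leaf 2336)) (.node (.leaf 5510) (.leaf 4640))) (.node (.node (.leaf 2344) (.leaf 1569)) (.node (.leaf 3345) (.leaf 0)))) (.node (.node (.node (.leaf 5124) (.leaf 5405)) (.node (.leaf 3300) (.leaf 1280))) (.node (.node (.leaf 5046) (.leaf 5878)) (.node (.leaf 5153) (.leaf 0))))) (.node (.node (.node (.node (.leaf 1251) (.leaf 7273)) (.node (.leaf 4984) (.leaf 2778))) (.node (.node (.leaf 963) (.leaf 5766)) (.node (.leaf 3205) (.leaf 0)))) (.node (.node (.node (.leaf 4268) (.leaf 4608)) (.node (.leaf 7116) (.leaf 7011))) (.node (.node (.leaf 3217) (.leaf 224)) (.node (.leaf 6646) (.leaf 0))))))))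

def ohT23 : NT := .node (.node (.node (.node (.node (.node (.node (.node (.leaf 4845) (.leaf 2941)) (.node (.leaf 6618) (.leaf 3973))) (.node (.node (.leaf 4664) (.leaf 4474)) (.node (.leaf 4940) (.leaf 6794)))) (.node (.node (.node (.leaf 3589) (.leaf 1612)) (.node (.leaf 3481) (.leaf 999))) (.node (.node (.leaf 5918) (.leaf 6111)) (.node (.leaf 6616) (.leaf 0))))) (.node (.node (.node (.node (.leaf 3762) (.leaf 3816)) (.node (.leaf 4243) (.leaf 4159))) (.node (.node (.leaf 2391) (.leaf 5413)) (.node (.leaf 5387) (.leaf 0)))) (.node (.node (.node (.leaf 4490) (.leaf 5174)) (.node (.leaf 1439) (.leaf 3303))) (.node (.node (.leaf 4063) (.leaf 2536)) (.node (.leaf 2328) (.leaf 0)))))) (.node (.node (.node (.node (.node (.leaf 2280) (.leaf 7028)) (.node (.leaf 4132) (.leaf 6135))) (.node (.node (.leaf 2083) (.leaf 6458)) (.node (.leaf 5011) (.leaf 6196)))) (.node (.node (.node (.leaf 4834) (.leaf 1932)) (.node (.leaf 351) (.leaf 2216))) (.node (.node (.leaf 2904) (.leaf 4190)) (.node (.leaf 1590) (.leaf 0))))) (.node (.node (.node (.node (.leaf 5867) (.leaf 5590)) (.node (.leaf 3659) (.leaf 3512))) (.node (.node (.leaf 722)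 (.leaf 7144)) (.node (.leaf 2772) (.leaf 0)))) (.node (.node (.node (.leaf 1065) (.leaf 5830)) (.node (.leaf 672) (.leaf 6964))) (.node (.node (.leaf 6377) (.leaf 1958)) (.node (.leaf 2960) (.leaf 0))))))) (.node (.node (.node (.node (.node (.node (.leaf 1879) (.leaf 4677)) (.node (.leaf 6012) (.leaf 2335))) (.node (.node (.leaf 4847) (.leaf 1022)) (.node (.leaf 2371) (.leaf 2660)))) (.node (.node (.node (.leaf 5755) (.leaf 3124)) (.node (.leaf 2709) (.leaf 2159))) (.node (.node (.leaf 3238) (.leaf 2771)) (.node (.leaf 3441) (.leaf 0))))) (.node (.node (.node (.node (.leaf 6034) (.leaf 5909)) (.node (.leaf 2605) (.leaf 2412))) (.node (.node (.leaf 5381) (.leaf 485)) (.node (.leaf 5956) (.leaf 0)))) (.node (.node (.node (.leaf 495) (.leaf 6557)) (.node (.leaf 3151) (.leaf 4036))) (.node (.node (.leaf 2611) (.leaf 1447)) (.node (.leaf 2878) (.leaf 0)))))) (.node (.node (.node (.node (.node (.leaf 4884) (.leaf 6018)) (.node (.leaf 2705) (.leaf 1760))) (.node (.node (.leaf 6242) (.leaf 2365)) (.node (.leaf 5443) (.leaf 0)))) (.node (.node (.node (.leaf 4102) (.leaf 6417)) (.node (.leaf 4765) (.leaf 1999))) (.node (.node (.leaf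 3101) (.leaf 6204)) (.node (.leaf 7141) (.leaf 0))))) (.node (.node (.node (.node (.leaf 5949) (.leaf 70)) (.node (.leaf 2169) (.leaf 5779))) (.node (.node (.leaf 5304) (.leaf 728)) (.node (.leaf 1359) (.leaf 0)))) (.node (.node (.node (.leaf 6008) (.leaf 2564)) (.node (.leaf 5651) (.leaf 2815))) (.node (.node (.leaf 4573) (.leaf 1709)) (.node (.leaf 6426) (.leaf 0)))))))) (.node (.node (.node (.node (.node (.node (.node (.leaf 7191) (.leaf 4353)) (.node (.leaf 2943) (.leaf 383))) (.node (.node (.leaf 4971) (.leaf 6470)) (.node (.leaf 5217) (.leaf 4629)))) (.node (.node (.node (.leaf 6551) (.leaf 4084)) (.node (.leaf 2362) (.leaf 1258))) (.node (.node (.leaf 3369) (.leaf 4812)) (.node (.leaf 4400) (.leaf 0))))) (.node (.node (.node (.node (.leaf 1390) (.leaf 3637)) (.node (.leaf 6650) (.leaf 6679))) (.node (.node (.leaf 4590) (.leaf 5543)) (.node (.leaf 6771) (.leaf 0)))) (.node (.node (.node (.leaf 5222) (.leaf 1953)) (.node (.leaf 6402) (.leaf 5928))) (.node (.node (.leaf 493) (.leaf 7242)) (.node (.leaf 5746) (.leaf 0)))))) (.node (.node (.node (.node (.node (.leaf 5732) (.leaf 4563)) (.node (.leaf 5836) (.leaf 3767)))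 (.node (.node (.leaf 3864) (.leaf 104)) (.node (.leaf 4234) (.leaf 0)))) (.node (.node (.node (.leaf 4536) (.leaf 7245)) (.node (.leaf 142) (.leaf 5647))) (.node (.node (.leaf 6245) (.leaf 7287)) (.node (.leaf 2079) (.leaf 0))))) (.node (.node (.node (.node (.leaf 131) (.leaf 4922)) (.node (.leaf 6134) (.leaf 1260))) (.node (.node (.leaf 664) (.leaf 1988)) (.node (.leaf 6205) (.leaf 0)))) (.node (.node (.node (.leaf 2974) (.leaf 4193)) (.node (.leaf 4886) (.leaf 5573))) (.node (.node (.leaf 2248) (.leaf 2689)) (.node (.leaf 4259) (.leaf 0))))))) (.node (.node (.node (.node (.node (.node (.leaf 1982) (.leaf 2456)) (.node (.leaf 412) (.leaf 2433))) (.node (.node (.leaf 5007) (.leaf 694)) (.node (.leaf 889) (.leaf 1499)))) (.node (.node (.node (.leaf 1871) (.leaf 5079)) (.node (.leaf 3590) (.leaf 5807))) (.node (.node (.leaf 1196) (.leaf 102)) (.node (.leaf 88) (.leaf 0))))) (.node (.node (.node (.node (.leaf 6592) (.leaf 5178)) (.node (.leaf 3729) (.leaf 4475))) (.node (.node (.leaf 2844) (.leaf 7300)) (.node (.leaf 5973) (.leaf 0)))) (.node (.node (.node (.leaf 3522) (.leaf 5312)) (.node (.leaf 3895) (.leaf 1955))) (.node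 (.node (.leaf 5641) (.leaf 1521)) (.node (.leaf 689) (.leaf 0)))))) (.node (.node (.node (.node (.node (.leaf 5663) (.leaf 6908)) (.node (.leaf 7095) (.leaf 4929))) (.node (.node (.leaf 1717) (.leaf 644)) (.node (.leaf 3587) (.leaf 0)))) (.node (.node (.node (.leaf 1274) (.leaf 2762)) (.node (.leaf 1672) (.leaf 662))) (.node (.node (.leaf 1699) (.leaf 738)) (.node (.leaf 2209) (.leaf 0))))) (.node (.node (.node (.node (.leaf 3140) (.leaf 1046)) (.node (.leaf 6352) (.leaf 2363))) (.node (.node (.leaf 267) (.leaf 7176)) (.node (.leaf 7079) (.leaf 0)))) (.node (.node (.node (.leaf 979) (.leaf 5804)) (.node (.leaf 3723) (.leaf 2596))) (.node (.node (.leaf 4756) (.leaf 4927)) (.node (.leaf 6548) (.leaf 0))))))))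

def ohT24 : NT := .node (.node (.node (.node (.node (.node (.node (.node (.leaf 1481) (.leaf 843)) (.node (.leaf 3051) (.leaf 624))) (.node (.node (.leaf 6098) (.leaf 280)) (.node (.leaf 2290) (.leaf 5150)))) (.node (.node (.node (.leaf 6596) (.leaf 4034)) (.node (.leaf 2698) (.leaf 6456))) (.node (.node (.leaf 3356) (.leaf 2051)) (.node (.leaf 5131) (.leaf 0))))) (.node (.node (.node (.node (.leaf 5983) (.leaf 1202)) (.node (.leaf 4045) (.leaf 5534))) (.node (.node (.leaf 3262) (.leaf 1375)) (.node (.leaf 3982) (.leaf 0)))) (.node (.node (.node (.leaf 3404) (.leaf 1897)) (.node (.leaf 6064) (.leaf 6742))) (.node (.node (.leaf 1401) (.leaf 5467)) (.node (.leaf 2256) (.leaf 0)))))) (.node (.node (.node (.node (.node (.leaf 371) (.leaf 4966)) (.node (.leaf 6956) (.leaf 1029))) (.node (.node (.leaf 4288) (.leaf 3786)) (.node (.leaf 6335) (.leaf 6379)))) (.node (.node (.node (.leaf 2931) (.leaf 295)) (.node (.leaf 2295) (.leaf 6651))) (.node (.node (.leaf 6852) (.leaf 598)) (.node (.leaf 4053) (.leaf 0))))) (.node (.node (.node (.node (.leaf 2563) (.leaf 1966)) (.node (.leaf 6165) (.leaf 3725))) (.node (.node (.leaf 2261)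 (.leaf 6797)) (.node (.leaf 1939) (.leaf 0)))) (.node (.node (.node (.leaf 2592) (.leaf 3562)) (.node (.leaf 93) (.leaf 3566))) (.node (.node (.leaf 3791) (.leaf 1742)) (.node (.leaf 6170) (.leaf 0))))))) (.node (.node (.node (.node (.node (.node (.leaf 6854) (.leaf 5630)) (.node (.leaf 4015) (.leaf 6907))) (.node (.node (.leaf 5538) (.leaf 3933)) (.node (.leaf 935) (.leaf 2997)))) (.node (.node (.node (.leaf 5479) (.leaf 5294)) (.node (.leaf 2305) (.leaf 2822))) (.node (.node (.leaf 2049) (.leaf 2730)) (.node (.leaf 4219) (.leaf 0))))) (.node (.node (.node (.node (.leaf 4254) (.leaf 5234)) (.node (.leaf 2331) (.leaf 3489))) (.node (.node (.leaf 6902) (.leaf 213)) (.node (.leaf 2272) (.leaf 0)))) (.node (.node (.node (.leaf 1321) (.leaf 5903)) (.node (.leaf 6501) (.leaf 2075))) (.node (.node (.leaf 57) (.leaf 4616)) (.node (.leaf 548) (.leaf 0)))))) (.node (.node (.node (.node (.node (.leaf 5610) (.leaf 4983)) (.node (.leaf 1293) (.leaf 264))) (.node (.node (.leaf 1574) (.leaf 5485)) (.node (.leaf 3039) (.leaf 0)))) (.node (.node (.node (.leaf 4313) (.leaf 7314)) (.node (.leaf 7199) (.leaf 1531))) (.node (.node (.leaf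 1702) (.leaf 5051)) (.node (.leaf 7135) (.leaf 0))))) (.node (.node (.node (.node (.leaf 6373) (.leaf 5977)) (.node (.leaf 4534) (.leaf 515))) (.node (.node (.leaf 6154) (.leaf 3668)) (.node (.leaf 2086) (.leaf 0)))) (.node (.node (.node (.leaf 2721) (.leaf 4714)) (.node (.leaf 6840) (.leaf 6589))) (.node (.node (.leaf 2874) (.leaf 1582)) (.node (.leaf 4226) (.leaf 0)))))))) (.node (.node (.node (.node (.node (.node (.node (.leaf 3719) (.leaf 1707)) (.node (.leaf 1213) (.leaf 4741))) (.node (.node (.leaf 58) (.leaf 2156)) (.node (.leaf 1528) (.leaf 7096)))) (.node (.node (.node (.leaf 6307) (.leaf 552)) (.node (.leaf 5068) (.leaf 180))) (.node (.node (.leaf 2137) (.leaf 5586)) (.node (.leaf 5626) (.leaf 0))))) (.node (.node (.node (.node (.leaf 6425) (.leaf 747)) (.node (.leaf 7045) (.leaf 6406))) (.node (.node (.leaf 1763) (.leaf 6923)) (.node (.leaf 4689) (.leaf 0)))) (.node (.node (.node (.leaf 480) (.leaf 5669)) (.node (.leaf 1671) (.leaf 6096))) (.node (.node (.leaf 296) (.leaf 1675)) (.node (.leaf 887) (.leaf 0)))))) (.node (.node (.node (.node (.node (.leaf 5214) (.leaf 5781)) (.node (.leaf 4183) (.leaf 3359)))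 (.node (.node (.leaf 5156) (.leaf 233)) (.node (.leaf 6508) (.leaf 0)))) (.node (.node (.node (.leaf 2621) (.leaf 3954)) (.node (.leaf 3211) (.leaf 5239))) (.node (.node (.leaf 3601) (.leaf 2478)) (.node (.leaf 3841) (.leaf 0))))) (.node (.node (.node (.node (.leaf 2502) (.leaf 1347)) (.node (.leaf 773) (.leaf 182))) (.node (.node (.leaf 2080) (.leaf 989)) (.node (.leaf 6389) (.leaf 0)))) (.node (.node (.node (.leaf 879) (.leaf 114)) (.node (.leaf 5923) (.leaf 6913))) (.node (.node (.leaf 2969) (.leaf 3003)) (.node (.leaf 1430) (.leaf 0))))))) (.node (.node (.node (.node (.node (.node (.leaf 751) (.leaf 4440)) (.node (.leaf 1637) (.leaf 3886))) (.node (.node (.leaf 2403) (.leaf 2834)) (.node (.leaf 5159) (.leaf 5070)))) (.node (.node (.node (.leaf 5666) (.leaf 3388)) (.node (.leaf 76) (.leaf 1942))) (.node (.node (.leaf 4092) (.leaf 3948)) (.node (.leaf 10) (.leaf 0))))) (.node (.node (.node (.node (.leaf 4175) (.leaf 691)) (.node (.leaf 3969) (.leaf 1225))) (.node (.node (.leaf 3992) (.leaf 127)) (.node (.leaf 1847) (.leaf 0)))) (.node (.node (.node (.leaf 601) (.leaf 3831)) (.node (.leaf 1514) (.leaf 3670))) (.node (.node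 (.leaf 1603) (.leaf 3561)) (.node (.leaf 6408) (.leaf 0)))))) (.node (.node (.node (.node (.node (.leaf 1010) (.leaf 2323)) (.node (.leaf 5505) (.leaf 4354))) (.node (.node (.leaf 920) (.leaf 1712)) (.node (.leaf 5518) (.leaf 0)))) (.node (.node (.node (.leaf 243) (.leaf 1559)) (.node (.leaf 4478) (.leaf 3527))) (.node (.node (.leaf 6653) (.leaf 1109)) (.node (.leaf 5176) (.leaf 0))))) (.node (.node (.node (.node (.leaf 156) (.leaf 7075)) (.node (.leaf 1767) (.leaf 5611))) (.node (.node (.leaf 3177) (.leaf 3822)) (.node (.leaf 4407) (.leaf 0)))) (.node (.node (.node (.leaf 3403) (.leaf 5988)) (.node (.leaf 1350) (.leaf 4553))) (.node (.node (.leaf 2048) (.leaf 5990)) (.node (.leaf 4784) (.leaf 0))))))))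

def ohT25 : NT := .node (.node (.node (.node (.node (.node (.node (.node (.leaf 2756) (.leaf 2213)) (.node (.leaf 5185) (.leaf 3563))) (.node (.node (.leaf 2404) (.leaf 3772)) (.node (.leaf 3387) (.leaf 3326)))) (.node (.node (.node (.leaf 3796) (.leaf 988)) (.node (.leaf 1673) (.leaf 875))) (.node (.node (.leaf 4750) (.leaf 2117)) (.node (.leaf 7244) (.leaf 0))))) (.node (.node (.node (.node (.leaf 5276) (.leaf 7133)) (.node (.leaf 5018) (.leaf 1113))) (.node (.node (.leaf 5356) (.leaf 3997)) (.node (.leaf 1357) (.leaf 0)))) (.node (.node (.node (.leaf 2428) (.leaf 4101)) (.node (.leaf 6869) (.leaf 2409))) (.node (.node (.leaf 1383) (.leaf 5655)) (.node (.leaf 249) (.leaf 0)))))) (.node (.node (.node (.node (.node (.leaf 2902) (.leaf 4843)) (.node (.leaf 3025) (.leaf 3456))) (.node (.node (.leaf 4514) (.leaf 7313)) (.node (.leaf 7263) (.leaf 7282)))) (.node (.node (.node (.leaf 432) (.leaf 600)) (.node (.leaf 1471) (.leaf 6762))) (.node (.node (.leaf 3314) (.leaf 4056)) (.node (.leaf 845) (.leaf 0))))) (.node (.node (.node (.node (.leaf 6698) (.leaf 560)) (.node (.leaf 5619) (.leaf 712))) (.node (.node (.leaf 368) (.leaf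 4443)) (.node (.leaf 794) (.leaf 0)))) (.node (.node (.node (.leaf 1193) (.leaf 2516)) (.node (.leaf 3706) (.leaf 3246))) (.node (.node (.leaf 3569) (.leaf 4678)) (.node (.leaf 2471) (.leaf 0))))))) (.node (.node (.node (.node (.node (.node (.leaf 1843) (.leaf 4329)) (.node (.leaf 855) (.leaf 4044))) (.node (.node (.leaf 4008) (.leaf 1933)) (.node (.leaf 806) (.leaf 4731)))) (.node (.node (.node (.leaf 2314) (.leaf 7173)) (.node (.leaf 930) (.leaf 5155))) (.node (.node (.leaf 5580) (.leaf 7175)) (.node (.leaf 6950) (.leaf 0))))) (.node (.node (.node (.node (.leaf 5745) (.leaf 409)) (.node (.leaf 5059) (.leaf 3521))) (.node (.node (.leaf 1784) (.leaf 2382)) (.node (.leaf 4396) (.leaf 0)))) (.node (.node (.node (.leaf 5457) (.leaf 5773)) (.node (.leaf 3427) (.leaf 1989))) (.node (.node (.leaf 526) (.leaf 6084)) (.node (.leaf 2554) (.leaf 0)))))) (.node (.node (.node (.node (.node (.leaf 2120) (.leaf 6203)) (.node (.leaf 4122) (.leaf 4059))) (.node (.node (.leaf 2146) (.leaf 5883)) (.node (.leaf 1635) (.leaf 0)))) (.node (.node (.node (.leaf 4158) (.leaf 6753)) (.node (.leaf 3641) (.leaf 324))) (.node (.node (.leaf 4503)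 (.leaf 6463)) (.node (.leaf 7316) (.leaf 0))))) (.node (.node (.node (.node (.leaf 3495) (.leaf 3691)) (.node (.leaf 1530) (.leaf 6480))) (.node (.node (.leaf 4882) (.leaf 1540)) (.node (.leaf 6177) (.leaf 0)))) (.node (.node (.node (.leaf 5712) (.leaf 1172)) (.node (.leaf 6220) (.leaf 326))) (.node (.node (.leaf 6625) (.leaf 1772)) (.node (.leaf 6713) (.leaf 0)))))))) (.node (.node (.node (.node (.node (.node (.node (.leaf 3584) (.leaf 4507)) (.node (.leaf 5606) (.leaf 5587))) (.node (.node (.leaf 2681) (.leaf 2397)) (.node (.leaf 6414) (.leaf 6763)))) (.node (.node (.node (.leaf 4022) (.leaf 6946)) (.node (.leaf 4422) (.leaf 5316))) (.node (.node (.leaf 2435) (.leaf 2436)) (.node (.leaf 822) (.leaf 0))))) (.node (.node (.node (.node (.leaf 1362) (.leaf 993)) (.node (.leaf 2392) (.leaf 1810))) (.node (.node (.leaf 3392) (.leaf 4200)) (.node (.leaf 6562) (.leaf 0)))) (.node (.node (.node (.leaf 1799) (.leaf 1506)) (.node (.leaf 2463) (.leaf 6093))) (.node (.node (.leaf 7163) (.leaf 5710)) (.node (.leaf 118) (.leaf 0)))))) (.node (.node (.node (.node (.node (.leaf 7154) (.leaf 4236)) (.node (.leaf 4139) (.leaf 1601))) (.node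 (.node (.leaf 910) (.leaf 6695)) (.node (.leaf 7081) (.leaf 0)))) (.node (.node (.node (.leaf 5027) (.leaf 5195)) (.node (.leaf 1769) (.leaf 1232))) (.node (.node (.leaf 4813) (.leaf 5483)) (.node (.leaf 1764) (.leaf 0))))) (.node (.node (.node (.node (.leaf 439) (.leaf 5382)) (.node (.leaf 4398) (.leaf 4118))) (.node (.node (.leaf 6954) (.leaf 4035)) (.node (.leaf 4698) (.leaf 0)))) (.node (.node (.node (.leaf 5157) (.leaf 5089)) (.node (.leaf 4046) (.leaf 976))) (.node (.node (.leaf 3766) (.leaf 5244)) (.node (.leaf 1986) (.leaf 0))))))) (.node (.node (.node (.node (.node (.node (.leaf 6129) (.leaf 6623)) (.node (.leaf 2250) (.leaf 654))) (.node (.node (.leaf 1054) (.leaf 476)) (.node (.leaf 4048) (.leaf 3874)))) (.node (.node (.node (.leaf 533) (.leaf 5931)) (.node (.leaf 6290) (.leaf 937))) (.node (.node (.leaf 6396) (.leaf 2951)) (.node (.leaf 7342) (.leaf 0))))) (.node (.node (.node (.node (.leaf 6183) (.leaf 3050)) (.node (.leaf 3293) (.leaf 6453))) (.node (.node (.leaf 3100) (.leaf 1737)) (.node (.leaf 5329) (.leaf 0)))) (.node (.node (.node (.leaf 5600) (.leaf 5729)) (.node (.leaf 5257) (.leaf 849))) (.node (.node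 (.leaf 5677) (.leaf 6641)) (.node (.leaf 1459) (.leaf 0)))))) (.node (.node (.node (.node (.node (.leaf 5783) (.leaf 936)) (.node (.leaf 4734) (.leaf 3681))) (.node (.node (.leaf 69) (.leaf 3870)) (.node (.leaf 6930) (.leaf 0)))) (.node (.node (.node (.leaf 4571) (.leaf 194)) (.node (.leaf 1504) (.leaf 82))) (.node (.node (.leaf 2893) (.leaf 1014)) (.node (.leaf 4017) (.leaf 0))))) (.node (.node (.node (.node (.leaf 6117) (.leaf 7145)) (.node (.leaf 1956) (.leaf 1414))) (.node (.node (.leaf 6876) (.leaf 1629)) (.node (.leaf 1963) (.leaf 0)))) (.node (.node (.node (.leaf 1643) (.leaf 4165)) (.node (.leaf 710) (.leaf 4341))) (.node (.node (.leaf 258) (.leaf 1295)) (.node (.leaf 3636) (.leaf 0))))))))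

def ohT26 : NT := .node (.node (.node (.node (.node (.node (.node (.node (.leaf 4240) (.leaf 2690)) (.node (.leaf 6441) (.leaf 3682))) (.node (.node (.leaf 4635) (.leaf 5775)) (.node (.leaf 1754) (.leaf 1377)))) (.node (.node (.node (.leaf 3110) (.leaf 1987)) (.node (.leaf 4292) (.leaf 6262))) (.node (.node (.leaf 1168) (.leaf 5613)) (.node (.leaf 1950) (.leaf 0))))) (.node (.node (.node (.node (.leaf 2601) (.leaf 6722)) (.node (.leaf 5922) (.leaf 638))) (.node (.node (.leaf 4232) (.leaf 3340)) (.node (.leaf 4030) (.leaf 0)))) (.node (.node (.node (.leaf 4269) (.leaf 4552)) (.node (.leaf 6613) (.leaf 5707))) (.node (.node (.leaf 6677) (.leaf 6343)) (.node (.leaf 1342) (.leaf 0)))))) (.node (.node (.node (.node (.node (.leaf 4082) (.leaf 4582)) (.node (.leaf 1726) (.leaf 358))) (.node (.node (.leaf 3544) (.leaf 2583)) (.node (.leaf 883) (.leaf 7304)))) (.node (.node (.node (.leaf 252) (.leaf 5599)) (.node (.leaf 1548) (.leaf 6873))) (.node (.node (.leaf 2416) (.leaf 3234)) (.node (.leaf 7231) (.leaf 0))))) (.node (.node (.node (.node (.leaf 6904) (.leaf 3297)) (.node (.leaf 6159) (.leaf 1116))) (.node (.node (.leaf 4214)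 (.leaf 7207)) (.node (.leaf 839) (.leaf 0)))) (.node (.node (.node (.leaf 3010) (.leaf 2595)) (.node (.leaf 6678) (.leaf 2461))) (.node (.node (.leaf 3615) (.leaf 6720)) (.node (.leaf 4816) (.leaf 0))))))) (.node (.node (.node (.node (.node (.node (.leaf 6219) (.leaf 201)) (.node (.leaf 1291) (.leaf 2523))) (.node (.node (.leaf 6392) (.leaf 2966)) (.node (.leaf 1426) (.leaf 1319)))) (.node (.node (.node (.leaf 6772) (.leaf 2704)) (.node (.leaf 5220) (.leaf 6263))) (.node (.node (.leaf 483) (.leaf 4439)) (.node (.leaf 5202) (.leaf 0))))) (.node (.node (.node (.node (.leaf 5494) (.leaf 4513)) (.node (.leaf 2320) (.leaf 5321))) (.node (.node (.leaf 5350) (.leaf 1154)) (.node (.leaf 60) (.leaf 0)))) (.node (.node (.node (.leaf 5996) (.leaf 1129)) (.node (.leaf 3325) (.leaf 305))) (.node (.node (.leaf 2638) (.leaf 3851)) (.node (.leaf 235) (.leaf 0)))))) (.node (.node (.node (.node (.node (.leaf 1413) (.leaf 3524)) (.node (.leaf 949) (.leaf 4976))) (.node (.node (.leaf 7035) (.leaf 541)) (.node (.leaf 4241) (.leaf 0)))) (.node (.node (.node (.leaf 3127) (.leaf 2134)) (.node (.leaf 227) (.leaf 434))) (.node (.node (.leaf 2576)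 (.leaf 2322)) (.node (.leaf 5180) (.leaf 0))))) (.node (.node (.node (.node (.leaf 3712) (.leaf 4766)) (.node (.leaf 2560) (.leaf 4450))) (.node (.node (.leaf 5049) (.leaf 1183)) (.node (.leaf 780) (.leaf 0)))) (.node (.node (.node (.leaf 4105) (.leaf 77)) (.node (.leaf 962) (.leaf 2228))) (.node (.node (.leaf 6043) (.leaf 4520)) (.node (.leaf 5910) (.leaf 0)))))))) (.node (.node (.node (.node (.node (.node (.node (.leaf 2693) (.leaf 7038)) (.node (.leaf 2571) (.leaf 3024))) (.node (.node (.leaf 7004) (.leaf 7089)) (.node (.leaf 2150) (.leaf 2217)))) (.node (.node (.node (.leaf 519) (.leaf 3655)) (.node (.leaf 13) (.leaf 6462))) (.node (.node (.leaf 2797) (.leaf 3023)) (.node (.leaf 1922) (.leaf 0))))) (.node (.node (.node (.node (.leaf 4303) (.leaf 2258)) (.node (.leaf 892) (.leaf 991))) (.node (.node (.leaf 6166) (.leaf 5873)) (.node (.leaf 4671) (.leaf 0)))) (.node (.node (.node (.leaf 5476) (.leaf 2182)) (.node (.leaf 6799) (.leaf 5588))) (.node (.node (.leaf 5684) (.leaf 3420)) (.node (.leaf 4137) (.leaf 0)))))) (.node (.node (.node (.node (.node (.leaf 1738) (.leaf 2515)) (.node (.leaf 3115) (.leaf 5213))) (.node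 (.node (.leaf 1544) (.leaf 1368)) (.node (.leaf 4729) (.leaf 0)))) (.node (.node (.node (.leaf 4954) (.leaf 1070)) (.node (.leaf 356) (.leaf 5119))) (.node (.node (.leaf 4261) (.leaf 1653)) (.node (.leaf 4515) (.leaf 0))))) (.node (.node (.node (.node (.leaf 2816) (.leaf 6297)) (.node (.leaf 3676) (.leaf 4528))) (.node (.node (.leaf 5512) (.leaf 6199)) (.node (.leaf 972) (.leaf 0)))) (.node (.node (.node (.leaf 868) (.leaf 684)) (.node (.leaf 1474) (.leaf 3985))) (.node (.node (.leaf 3165) (.leaf 3597)) (.node (.leaf 7224) (.leaf 0))))))) (.node (.node (.node (.node (.node (.node (.leaf 4434) (.leaf 3847)) (.node (.leaf 4463) (.leaf 3313))) (.node (.node (.leaf 3412) (.leaf 1099)) (.node (.leaf 6465) (.leaf 2612)))) (.node (.node (.node (.leaf 4546) (.leaf 1756)) (.node (.leaf 1759) (.leaf 2324))) (.node (.node (.leaf 6048) (.leaf 1563)) (.node (.leaf 1607) (.leaf 0))))) (.node (.node (.node (.node (.leaf 6719) (.leaf 3055)) (.node (.leaf 3551) (.leaf 1802))) (.node (.node (.leaf 2851) (.leaf 2524)) (.node (.leaf 1236) (.leaf 0)))) (.node (.node (.node (.leaf 2849) (.leaf 5378)) (.node (.leaf 3807) (.leaf 866))) (.node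 (.node (.leaf 907) (.leaf 2915)) (.node (.leaf 7010) (.leaf 0)))))) (.node (.node (.node (.node (.node (.leaf 3995) (.leaf 6774)) (.node (.leaf 1256) (.leaf 623))) (.node (.node (.leaf 5104) (.leaf 4801)) (.node (.leaf 52) (.leaf 0)))) (.node (.node (.node (.leaf 4892) (.leaf 1419)) (.node (.leaf 3890) (.leaf 3275))) (.node (.node (.leaf 1697) (.leaf 6175)) (.node (.leaf 5091) (.leaf 0))))) (.node (.node (.node (.node (.leaf 6472) (.leaf 1373)) (.node (.leaf 3950) (.leaf 6544))) (.node (.node (.leaf 7246) (.leaf 7114)) (.node (.leaf 3352) (.leaf 0)))) (.node (.node (.node (.leaf 2431) (.leaf 925)) (.node (.leaf 6673) (.leaf 381))) (.node (.node (.leaf 2977) (.leaf 4505)) (.node (.leaf 746) (.leaf 0))))))))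

def ohT27 : NT := .node (.node (.node (.node (.node (.node (.node (.node (.leaf 1461) (.leaf 1876)) (.node (.leaf 6422) (.leaf 1333))) (.node (.node (.leaf 682) (.leaf 5860)) (.node (.leaf 534) (.leaf 6868)))) (.node (.node (.node (.leaf 1928) (.leaf 2172)) (.node (.leaf 4758) (.leaf 6295))) (.node (.node (.leaf 3742) (.leaf 2634)) (.node (.leaf 724) (.leaf 0))))) (.node (.node (.node (.node (.leaf 4558) (.leaf 7185)) (.node (.leaf 1564) (.leaf 6781))) (.node (.node (.leaf 6654) (.leaf 1579)) (.node (.leaf 3239) (.leaf 0)))) (.node (.node (.node (.leaf 1537) (.leaf 1141)) (.node (.leaf 7106) (.leaf 5149))) (.node (.node (.leaf 6388) (.leaf 5128)) (.node (.leaf 6506) (.leaf 0)))))) (.node (.node (.node (.node (.node (.leaf 5101) (.leaf 725)) (.node (.leaf 1005) (.leaf 1907))) (.node (.node (.leaf 7103) (.leaf 3769)) (.node (.leaf 4644) (.leaf 2812)))) (.node (.node (.node (.leaf 4083) (.leaf 6369)) (.node (.leaf 3898) (.leaf 6249))) (.node (.node (.leaf 1730) (.leaf 1302)) (.node (.leaf 4861) (.leaf 0))))) (.node (.node (.node (.node (.leaf 5833) (.leaf 1354)) (.node (.leaf 1688) (.leaf 1920))) (.node (.node (.leaf 4837)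 (.leaf 2826)) (.node (.leaf 2884) (.leaf 0)))) (.node (.node (.node (.leaf 5095) (.leaf 274)) (.node (.leaf 1088) (.leaf 470))) (.node (.node (.leaf 4187) (.leaf 856)) (.node (.leaf 6795) (.leaf 0))))))) (.node (.node (.node (.node (.node (.node (.leaf 2266) (.leaf 3595)) (.node (.leaf 404) (.leaf 1736))) (.node (.node (.leaf 3755) (.leaf 2317)) (.node (.leaf 7164) (.leaf 5456)))) (.node (.node (.node (.leaf 1223) (.leaf 2586)) (.node (.leaf 2858) (.leaf 7001))) (.node (.node (.leaf 3393) (.leaf 6622)) (.node (.leaf 740) (.leaf 0))))) (.node (.node (.node (.node (.leaf 1369) (.leaf 6516)) (.node (.leaf 5617) (.leaf 6689))) (.node (.node (.leaf 6943) (.leaf 4007)) (.node (.leaf 6985) (.leaf 0)))) (.node (.node (.node (.leaf 1608) (.leaf 6491)) (.node (.leaf 3754) (.leaf 3810))) (.node (.node (.leaf 5160) (.leaf 262)) (.node (.leaf 4196) (.leaf 0)))))) (.node (.node (.node (.node (.node (.leaf 4486) (.leaf 2423)) (.node (.leaf 1434) (.leaf 4224))) (.node (.node (.leaf 6021) (.leaf 3268)) (.node (.leaf 5908) (.leaf 0)))) (.node (.node (.node (.leaf 3395) (.leaf 946)) (.node (.leaf 1768) (.leaf 2685))) (.node (.node (.leaf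 550) (.leaf 23)) (.node (.leaf 7196) (.leaf 0))))) (.node (.node (.node (.node (.leaf 269) (.leaf 646)) (.node (.leaf 2541) (.leaf 6450))) (.node (.node (.leaf 4825) (.leaf 4005)) (.node (.leaf 5388) (.leaf 0)))) (.node (.node (.node (.leaf 6449) (.leaf 1307)) (.node (.leaf 2016) (.leaf 2377))) (.node (.node (.leaf 1745) (.leaf 7302)) (.node (.leaf 1981) (.leaf 0)))))))) (.node (.node (.node (.node (.node (.node (.node (.leaf 2130) (.leaf 4257)) (.node (.leaf 5269) (.leaf 6955))) (.node (.node (.leaf 3453) (.leaf 5506)) (.node (.leaf 2550) (.leaf 6359)))) (.node (.node (.node (.leaf 2484) (.leaf 456)) (.node (.leaf 650) (.leaf 1645))) (.node (.node (.leaf 4100) (.leaf 5765)) (.node (.leaf 5140) (.leaf 0))))) (.node (.node (.node (.node (.leaf 880) (.leaf 365)) (.node (.leaf 7093) (.leaf 1647))) (.node (.node (.leaf 3660) (.leaf 3579)) (.node (.leaf 763) (.leaf 0)))) (.node (.node (.node (.leaf 977) (.leaf 2236)) (.node (.leaf 3821) (.leaf 5850))) (.node (.node (.leaf 4904) (.leaf 1512)) (.node (.leaf 2613) (.leaf 0)))))) (.node (.node (.node (.node (.node (.leaf 2525) (.leaf 2594)) (.node (.leaf 7250) (.leaf 5692))) (.node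 (.node (.leaf 4866) (.leaf 5675)) (.node (.leaf 6339) (.leaf 0)))) (.node (.node (.node (.leaf 2796) (.leaf 5654)) (.node (.leaf 228) (.leaf 6058))) (.node (.node (.leaf 4661) (.leaf 7124)) (.node (.leaf 1817) (.leaf 0))))) (.node (.node (.node (.node (.leaf 1534) (.leaf 3792)) (.node (.leaf 610) (.leaf 1038))) (.node (.node (.leaf 1931) (.leaf 3564)) (.node (.leaf 5960) (.leaf 0)))) (.node (.node (.node (.leaf 3951) (.leaf 2281)) (.node (.leaf 1791) (.leaf 6931))) (.node (.node (.leaf 6674) (.leaf 7305)) (.node (.leaf 4465) (.leaf 0))))))) (.node (.node (.node (.node (.node (.node (.leaf 4675) (.leaf 3507)) (.node (.leaf 355) (.leaf 2291))) (.node (.node (.leaf 5667) (.leaf 6833)) (.node (.leaf 5620) (.leaf 6206)))) (.node (.node (.node (.leaf 3859) (.leaf 2635)) (.node (.leaf 6118) (.leaf 2480))) (.node (.node (.leaf 5465) (.leaf 6859)) (.node (.leaf 6150) (.leaf 0))))) (.node (.node (.node (.node (.leaf 1023) (.leaf 6617)) (.node (.leaf 2152) (.leaf 5477))) (.node (.node (.leaf 4352) (.leaf 1435)) (.node (.leaf 886) (.leaf 0)))) (.node (.node (.node (.leaf 1180) (.leaf 7318)) (.node (.leaf 2100) (.leaf 299))) (.node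 (.node (.leaf 5668) (.leaf 4062)) (.node (.leaf 5810) (.leaf 0)))))) (.node (.node (.node (.node (.node (.leaf 4565) (.leaf 4925)) (.node (.leaf 176) (.leaf 6984))) (.node (.node (.leaf 804) (.leaf 767)) (.node (.leaf 2577) (.leaf 0)))) (.node (.node (.node (.leaf 790) (.leaf 2735)) (.node (.leaf 4701) (.leaf 4109))) (.node (.node (.leaf 6074) (.leaf 2064)) (.node (.leaf 5962) (.leaf 0))))) (.node (.node (.node (.node (.leaf 3878) (.leaf 6606)) (.node (.leaf 4134) (.leaf 2298))) (.node (.node (.leaf 5230) (.leaf 5218)) (.node (.leaf 3914) (.leaf 0)))) (.node (.node (.node (.leaf 2766) (.leaf 1285)) (.node (.leaf 3459) (.leaf 2505))) (.node (.node (.leaf 1746) (.leaf 5137)) (.node (.leaf 3494) (.leaf 0))))))))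

def ohT28 : NT := .node (.node (.node (.node (.node (.node (.node (.node (.leaf 5309) (.leaf 2128)) (.node (.leaf 6485) (.leaf 5488))) (.node (.node (.leaf 3504) (.leaf 1826)) (.node (.leaf 3860) (.leaf 7000)))) (.node (.node (.node (.leaf 708) (.leaf 4390)) (.node (.leaf 748) (.leaf 5676))) (.node (.node (.leaf 1410) (.leaf 6545)) (.node (.leaf 4915) (.leaf 0))))) (.node (.node (.node (.node (.leaf 4944) (.leaf 2875)) (.node (.leaf 4660) (.leaf 2776))) (.node (.node (.leaf 2069) (.leaf 4130)) (.node (.leaf 3984) (.leaf 0)))) (.node (.node (.node (.leaf 5106) (.leaf 2748)) (.node (.leaf 6424) (.leaf 1616))) (.node (.node (.leaf 4621) (.leaf 4131)) (.node (.leaf 4759) (.leaf 0)))))) (.node (.node (.node (.node (.node (.leaf 4916) (.leaf 3648)) (.node (.leaf 3839) (.leaf 417))) (.node (.node (.leaf 5722) (.leaf 2511)) (.node (.leaf 2864) (.leaf 1226)))) (.node (.node (.node (.leaf 2981) (.leaf 2989)) (.node (.leaf 5523) (.leaf 4942))) (.node (.node (.leaf 4499) (.leaf 5241)) (.node (.leaf 5508) (.leaf 0))))) (.node (.node (.node (.node (.leaf 3753) (.leaf 555)) (.node (.leaf 4778) (.leaf 3458))) (.node (.node (.leaf 237)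 (.leaf 5776)) (.node (.leaf 5434) (.leaf 0)))) (.node (.node (.node (.leaf 4344) (.leaf 2364)) (.node (.leaf 7243) (.leaf 7211))) (.node (.node (.leaf 1850) (.leaf 2297)) (.node (.leaf 4388) (.leaf 0))))))) (.node (.node (.node (.node (.node (.node (.leaf 777) (.leaf 6092)) (.node (.leaf 4596) (.leaf 3391))) (.node (.node (.leaf 1664) (.leaf 6107)) (.node (.leaf 1478) (.leaf 6705)))) (.node (.node (.node (.leaf 597) (.leaf 4639)) (.node (.leaf 1825) (.leaf 195))) (.node (.node (.leaf 6030) (.leaf 5008)) (.node (.leaf 2509) (.leaf 0))))) (.node (.node (.node (.node (.leaf 1739) (.leaf 4003)) (.node (.leaf 4047) (.leaf 1097))) (.node (.node (.leaf 1047) (.leaf 3304)) (.node (.leaf 5730) (.leaf 0)))) (.node (.node (.node (.leaf 3117) (.leaf 1585)) (.node (.leaf 6013) (.leaf 5026))) (.node (.node (.leaf 5139) (.leaf 2669)) (.node (.leaf 5857) (.leaf 0)))))) (.node (.node (.node (.node (.node (.leaf 3784) (.leaf 2527)) (.node (.leaf 5210) (.leaf 2491))) (.node (.node (.leaf 286) (.leaf 4471)) (.node (.leaf 6226) (.leaf 0)))) (.node (.node (.node (.leaf 261) (.leaf 5032)) (.node (.leaf 5700) (.leaf 5558))) (.node (.node (.leaf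 2658) (.leaf 6773)) (.node (.leaf 985) (.leaf 0))))) (.node (.node (.node (.node (.leaf 5914) (.leaf 5984)) (.node (.leaf 5469) (.leaf 7217))) (.node (.node (.leaf 2713) (.leaf 2341)) (.node (.leaf 2348) (.leaf 0)))) (.node (.node (.node (.leaf 2214) (.leaf 3885)) (.node (.leaf 1605) (.leaf 3513))) (.node (.node (.leaf 530) (.leaf 1115)) (.node (.leaf 3243) (.leaf 0)))))))) (.node (.node (.node (.node (.node (.node (.node (.leaf 2329) (.leaf 3111)) (.node (.leaf 5107) (.leaf 2545))) (.node (.node (.leaf 5624) (.leaf 4735)) (.node (.leaf 5022) (.leaf 6130)))) (.node (.node (.node (.leaf 1095) (.leaf 7017)) (.node (.leaf 4524) (.leaf 2769))) (.node (.node (.leaf 6824) (.leaf 3364)) (.node (.leaf 4703) (.leaf 0))))) (.node (.node (.node (.node (.leaf 5379) (.leaf 6496)) (.node (.leaf 3350) (.leaf 5723))) (.node (.node (.leaf 6909) (.leaf 1811)) (.node (.leaf 32) (.leaf 0)))) (.node (.node (.node (.leaf 5253) (.leaf 334)) (.node (.leaf 6792) (.leaf 2947))) (.node (.node (.leaf 6112) (.leaf 6300)) (.node (.leaf 3974) (.leaf 0)))))) (.node (.node (.node (.node (.node (.leaf 4089) (.leaf 1543)) (.node (.leaf 7) (.leaf 5950)))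 (.node (.node (.leaf 5578) (.leaf 2147)) (.node (.leaf 4716) (.leaf 0)))) (.node (.node (.node (.leaf 605) (.leaf 475)) (.node (.leaf 6108) (.leaf 5980))) (.node (.node (.leaf 255) (.leaf 230)) (.node (.leaf 5267) (.leaf 0))))) (.node (.node (.node (.node (.leaf 6977) (.leaf 7256)) (.node (.leaf 4312) (.leaf 5516))) (.node (.node (.leaf 4167) (.leaf 6131)) (.node (.leaf 6146) (.leaf 0)))) (.node (.node (.node (.leaf 3302) (.leaf 1473)) (.node (.leaf 955) (.leaf 2578))) (.node (.node (.leaf 7214) (.leaf 3038)) (.node (.leaf 1470) (.leaf 0))))))) (.node (.node (.node (.node (.node (.node (.leaf 1259) (.leaf 5636)) (.node (.leaf 3018) (.leaf 4198))) (.node (.node (.leaf 7334) (.leaf 1624)) (.node (.leaf 6180) (.leaf 4136)))) (.node (.node (.node (.leaf 420) (.leaf 4905)) (.node (.leaf 1856) (.leaf 3909))) (.node (.node (.leaf 5761) (.leaf 1600)) (.node (.leaf 6189) (.leaf 0))))) (.node (.node (.node (.node (.leaf 1120) (.leaf 5808)) (.node (.leaf 3261) (.leaf 5248))) (.node (.node (.leaf 5235) (.leaf 6746)) (.node (.leaf 7128) (.leaf 0)))) (.node (.node (.node (.leaf 1538) (.leaf 5167)) (.node (.leaf 4231) (.leaf 756))) (.node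 (.node (.leaf 1995) (.leaf 3528)) (.node (.leaf 5702) (.leaf 0)))))) (.node (.node (.node (.node (.node (.leaf 1308) (.leaf 3338)) (.node (.leaf 22) (.leaf 7189))) (.node (.node (.leaf 5806) (.leaf 796)) (.node (.leaf 3731) (.leaf 0)))) (.node (.node (.node (.leaf 2810) (.leaf 2189)) (.node (.leaf 6831) (.leaf 4779))) (.node (.node (.leaf 4403) (.leaf 4793)) (.node (.leaf 2628) (.leaf 0))))) (.node (.node (.node (.node (.leaf 1503) (.leaf 1619)) (.node (.leaf 1578) (.leaf 1207))) (.node (.node (.leaf 5705) (.leaf 5594)) (.node (.leaf 1344) (.leaf 0)))) (.node (.node (.node (.leaf 6231) (.leaf 6559)) (.node (.leaf 4961) (.leaf 960))) (.node (.node (.leaf 1520) (.leaf 1704)) (.node (.leaf 4145) (.leaf 0))))))))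

def ohT29 : NT := .node (.node (.node (.node (.node (.node (.node (.node (.leaf 4321) (.leaf 5283)) (.node (.leaf 5678) (.leaf 418))) (.node (.node (.leaf 2097) (.leaf 5932)) (.node (.leaf 4547) (.leaf 4492)))) (.node (.node (.node (.leaf 1720) (.leaf 6287)) (.node (.leaf 4322) (.leaf 204))) (.node (.node (.leaf 1957) (.leaf 1299)) (.node (.leaf 7046) (.leaf 0))))) (.node (.node (.node (.node (.leaf 2162) (.leaf 4297)) (.node (.leaf 3628) (.leaf 1392))) (.node (.node (.leaf 6971) (.leaf 2303)) (.node (.leaf 4554) (.leaf 0)))) (.node (.node (.node (.leaf 1179) (.leaf 1628)) (.node (.leaf 3192) (.leaf 858))) (.node (.node (.leaf 5117) (.leaf 1296)) (.node (.leaf 3168) (.leaf 0)))))) (.node (.node (.node (.node (.node (.leaf 7047) (.leaf 1865)) (.node (.leaf 2252) (.leaf 924))) (.node (.node (.leaf 2498) (.leaf 5215)) (.node (.leaf 3463) (.leaf 5057)))) (.node (.node (.node (.leaf 3272) (.leaf 625)) (.node (.leaf 6038) (.leaf 3613))) (.node (.node (.leaf 6072) (.leaf 3881)) (.node (.leaf 1595) (.leaf 0))))) (.node (.node (.node (.node (.leaf 6690) (.leaf 729)) (.node (.leaf 7177) (.leaf 5749))) (.node (.node (.leaf 3911)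 (.leaf 5861)) (.node (.leaf 1234) (.leaf 0)))) (.node (.node (.node (.leaf 799) (.leaf 2900)) (.node (.leaf 5648) (.leaf 6191))) (.node (.node (.leaf 6190) (.leaf 4605)) (.node (.leaf 4337) (.leaf 0))))))) (.node (.node (.node (.node (.node (.node (.leaf 5364) (.leaf 6586)) (.node (.leaf 1267) (.leaf 3078))) (.node (.node (.leaf 3355) (.leaf 5615)) (.node (.leaf 6452) (.leaf 7235)))) (.node (.node (.node (.leaf 197) (.leaf 1387)) (.node (.leaf 6834) (.leaf 6810))) (.node (.node (.leaf 3407) (.leaf 3072)) (.node (.leaf 616) (.leaf 0))))) (.node (.node (.node (.node (.leaf 557) (.leaf 4776)) (.node (.leaf 3501) (.leaf 1606))) (.node (.node (.leaf 5803) (.leaf 750)) (.node (.leaf 3645) (.leaf 0)))) (.node (.node (.node (.leaf 5971) (.leaf 1037)) (.node (.leaf 4093) (.leaf 5739))) (.node (.node (.leaf 4150) (.leaf 6000)) (.node (.leaf 193) (.leaf 0)))))) (.node (.node (.node (.node (.node (.leaf 5197) (.leaf 1917)) (.node (.leaf 5945) (.leaf 4722))) (.node (.node (.leaf 1713) (.leaf 1085)) (.node (.leaf 5733) (.leaf 0)))) (.node (.node (.node (.leaf 1489) (.leaf 6143)) (.node (.leaf 1198) (.leaf 595))) (.node (.node (.leaf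 2556) (.leaf 5560)) (.node (.leaf 6711) (.leaf 0))))) (.node (.node (.node (.node (.leaf 5535) (.leaf 3121)) (.node (.leaf 1561) (.leaf 3442))) (.node (.node (.leaf 5401) (.leaf 4777)) (.node (.leaf 2001) (.leaf 0)))) (.node (.node (.node (.leaf 1631) (.leaf 4900)) (.node (.leaf 1004) (.leaf 695))) (.node (.node (.leaf 2555) (.leaf 3724)) (.node (.leaf 2459) (.leaf 0)))))))) (.node (.node (.node (.node (.node (.node (.node (.leaf 4960) (.leaf 1984)) (.node (.leaf 1003) (.leaf 2041))) (.node (.node (.leaf 2654) (.leaf 649)) (.node (.leaf 5662) (.leaf 34)))) (.node (.node (.node (.leaf 6257) (.leaf 6881)) (.node (.leaf 99) (.leaf 6250))) (.node (.node (.leaf 1964) (.leaf 2609)) (.node (.leaf 4757) (.leaf 0))))) (.node (.node (.node (.node (.leaf 209) (.leaf 1824)) (.node (.leaf 1938) (.leaf 5614))) (.node (.node (.leaf 327) (.leaf 4345)) (.node (.leaf 1568) (.leaf 0)))) (.node (.node (.node (.leaf 162) (.leaf 4891)) (.node (.leaf 460) (.leaf 5792))) (.node (.node (.leaf 2198) (.leaf 5300)) (.node (.leaf 1042) (.leaf 0)))))) (.node (.node (.node (.node (.node (.leaf 1171) (.leaf 1186)) (.node (.leaf 3097) (.leaf 7339))) (.node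 (.node (.leaf 4668) (.leaf 2549)) (.node (.leaf 5365) (.leaf 0)))) (.node (.node (.node (.leaf 7087) (.leaf 3291)) (.node (.leaf 3774) (.leaf 5270))) (.node (.node (.leaf 6939) (.leaf 451)) (.node (.leaf 1067) (.leaf 0))))) (.node (.node (.node (.node (.leaf 870) (.leaf 6786)) (.node (.leaf 3782) (.leaf 2334))) (.node (.node (.leaf 278) (.leaf 199)) (.node (.leaf 761) (.leaf 0)))) (.node (.node (.node (.leaf 5788) (.leaf 1550)) (.node (.leaf 6260) (.leaf 5570))) (.node (.node (.leaf 3854) (.leaf 6207)) (.node (.leaf 734) (.leaf 0))))))) (.node (.node (.node (.node (.node (.node (.leaf 181) (.leaf 4126)) (.node (.leaf 3037) (.leaf 4541))) (.node (.node (.leaf 1203) (.leaf 6851)) (.node (.leaf 1475) (.leaf 7178)))) (.node (.node (.node (.leaf 1335) (.leaf 5621)) (.node (.leaf 4710) (.leaf 7180))) (.node (.node (.leaf 2533) (.leaf 1240)) (.node (.leaf 757) (.leaf 0))))) (.node (.node (.node (.node (.leaf 2158) (.leaf 1529)) (.node (.leaf 5067) (.leaf 1409))) (.node (.node (.leaf 5731) (.leaf 950)) (.node (.leaf 3517) (.leaf 0)))) (.node (.node (.node (.leaf 1598) (.leaf 7131)) (.node (.leaf 5423) (.leaf 5496))) (.node (.node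 (.leaf 2910) (.leaf 2928)) (.node (.leaf 3957) (.leaf 0)))))) (.node (.node (.node (.node (.node (.leaf 3887) (.leaf 110)) (.node (.leaf 3) (.leaf 3081))) (.node (.node (.leaf 2370) (.leaf 911)) (.node (.leaf 7105) (.leaf 0)))) (.node (.node (.node (.leaf 1292) (.leaf 6400)) (.node (.leaf 284) (.leaf 5563))) (.node (.node (.leaf 770) (.leaf 4176)) (.node (.leaf 1895) (.leaf 0))))) (.node (.node (.node (.node (.leaf 5075) (.leaf 5338)) (.node (.leaf 2289) (.leaf 1562))) (.node (.node (.leaf 6057) (.leaf 2929)) (.node (.leaf 425) (.leaf 0)))) (.node (.node (.node (.leaf 6880) (.leaf 1100)) (.node (.leaf 1039) (.leaf 1282))) (.node (.node (.leaf 3480) (.leaf 6615)) (.node (.leaf 2926) (.leaf 0))))))))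

def ohT30 : NT := .node (.node (.node (.node (.node (.node (.node (.node (.leaf 101) (.leaf 5389)) (.node (.leaf 3027) (.leaf 2510))) (.node (.node (.leaf 4293) (.leaf 4545)) (.node (.leaf 4334) (.leaf 1138)))) (.node (.node (.node (.leaf 2420) (.leaf 4327)) (.node (.leaf 5310) (.leaf 4615))) (.node (.node (.leaf 5757) (.leaf 4468)) (.node (.leaf 6337) (.leaf 0))))) (.node (.node (.node (.node (.leaf 3208) (.leaf 3236)) (.node (.leaf 291) (.leaf 5372))) (.node (.node (.leaf 5016) (.leaf 2333)) (.node (.leaf 5127) (.leaf 0)))) (.node (.node (.node (.leaf 4628) (.leaf 6259)) (.node (.leaf 7037) (.leaf 2076))) (.node (.node (.leaf 4456) (.leaf 2112)) (.node (.leaf 1400) (.leaf 0)))))) (.node (.node (.node (.node (.node (.leaf 6338) (.leaf 2970)) (.node (.leaf 359) (.leaf 2699))) (.node (.node (.leaf 1320) (.leaf 5916)) (.node (.leaf 6788) (.leaf 2838)))) (.node (.node (.node (.leaf 4632) (.leaf 6346)) (.node (.leaf 7071) (.leaf 6076))) (.node (.node (.leaf 759) (.leaf 6936)) (.node (.leaf 1566) (.leaf 0))))) (.node (.node (.node (.node (.leaf 3498) (.leaf 6467)) (.node (.leaf 4006) (.leaf 6010))) (.node (.node (.leaf 4854)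 (.leaf 3773)) (.node (.leaf 2355) (.leaf 0)))) (.node (.node (.node (.leaf 1691) (.leaf 5870)) (.node (.leaf 4324) (.leaf 467))) (.node (.node (.leaf 4887) (.leaf 3924)) (.node (.leaf 6541) (.leaf 0))))))) (.node (.node (.node (.node (.node (.node (.leaf 2055) (.leaf 6487)) (.node (.leaf 2043) (.leaf 6916))) (.node (.node (.leaf 4081) (.leaf 6568)) (.node (.leaf 5105) (.leaf 5249)))) (.node (.node (.node (.leaf 17) (.leaf 5368)) (.node (.leaf 1063) (.leaf 4489))) (.node (.node (.leaf 2783) (.leaf 1864)) (.node (.leaf 6378) (.leaf 0))))) (.node (.node (.node (.node (.leaf 2526) (.leaf 6777)) (.node (.leaf 6932) (.leaf 2487))) (.node (.node (.leaf 4749) (.leaf 6128)) (.node (.leaf 2084) (.leaf 0)))) (.node (.node (.node (.leaf 2739) (.leaf 6302)) (.node (.leaf 6427) (.leaf 6104))) (.node (.node (.leaf 2455) (.leaf 5265)) (.node (.leaf 3252) (.leaf 0)))))) (.node (.node (.node (.node (.node (.leaf 4446) (.leaf 1093)) (.node (.leaf 2059) (.leaf 5227))) (.node (.node (.leaf 3871) (.leaf 4903)) (.node (.leaf 2488) (.leaf 0)))) (.node (.node (.node (.leaf 3868) (.leaf 2828)) (.node (.leaf 3309) (.leaf 3555))) (.node (.node (.leaf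 1017) (.leaf 3994)) (.node (.leaf 3672) (.leaf 0))))) (.node (.node (.node (.node (.leaf 1114) (.leaf 4630)) (.node (.leaf 5313) (.leaf 6440))) (.node (.node (.leaf 1973) (.leaf 1465)) (.node (.leaf 1338) (.leaf 0)))) (.node (.node (.node (.leaf 5063) (.leaf 124)) (.node (.leaf 4648) (.leaf 7136))) (.node (.node (.leaf 5077) (.leaf 711)) (.node (.leaf 6223) (.leaf 0)))))))) (.node (.node (.node (.node (.node (.node (.node (.leaf 2557) (.leaf 6648)) (.node (.leaf 2031) (.leaf 3088))) (.node (.node (.leaf 6963) (.leaf 3693)) (.node (.leaf 3605) (.leaf 2283)))) (.node (.node (.node (.leaf 5141) (.leaf 6668)) (.node (.leaf 481) (.leaf 4222))) (.node (.node (.leaf 807) (.leaf 3825)) (.node (.leaf 4291) (.leaf 0))))) (.node (.node (.node (.node (.leaf 6258) (.leaf 2002)) (.node (.leaf 1485) (.leaf 622))) (.node (.node (.leaf 2862) (.leaf 4414)) (.node (.leaf 3163) (.leaf 0)))) (.node (.node (.node (.leaf 1243) (.leaf 3086)) (.node (.leaf 5125) (.leaf 5546))) (.node (.node (.leaf 6922) (.leaf 5898)) (.node (.leaf 6546) (.leaf 0)))))) (.node (.node (.node (.node (.node (.leaf 5414) (.leaf 1040)) (.node (.leaf 1323) (.leaf 1050)))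 (.node (.node (.leaf 1744) (.leaf 3126)) (.node (.leaf 6125) (.leaf 0)))) (.node (.node (.node (.leaf 1925) (.leaf 6147)) (.node (.leaf 5152) (.leaf 7066))) (.node (.node (.leaf 3952) (.leaf 1771)) (.node (.leaf 4593) (.leaf 0))))) (.node (.node (.node (.node (.leaf 3953) (.leaf 5777)) (.node (.leaf 582) (.leaf 5500))) (.node (.node (.leaf 3149) (.leaf 7327)) (.node (.leaf 5982) (.leaf 0)))) (.node (.node (.node (.leaf 2094) (.leaf 2972)) (.node (.leaf 3570) (.leaf 7122))) (.node (.node (.leaf 3779) (.leaf 4950)) (.node (.leaf 5375) (.leaf 0))))))) (.node (.node (.node (.node (.node (.node (.leaf 1696) (.leaf 2007)) (.node (.leaf 3157) (.leaf 427))) (.node (.node (.leaf 21) (.leaf 5302)) (.node (.leaf 5958) (.leaf 7007)))) (.node (.node (.node (.leaf 491) (.leaf 3919)) (.node (.leaf 1366) (.leaf 3582))) (.node (.node (.leaf 4227) (.leaf 5437)) (.node (.leaf 2274) (.leaf 0))))) (.node (.node (.node (.node (.leaf 346) (.leaf 5581)) (.node (.leaf 1882) (.leaf 6718))) (.node (.node (.leaf 5498) (.leaf 4012)) (.node (.leaf 2165) (.leaf 0)))) (.node (.node (.node (.leaf 1695) (.leaf 3417)) (.node (.leaf 1000) (.leaf 2747)))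 (.node (.node (.leaf 1484) (.leaf 2311)) (.node (.leaf 3448) (.leaf 0)))))) (.node (.node (.node (.node (.node (.leaf 1456) (.leaf 1208)) (.node (.leaf 6735) (.leaf 4772))) (.node (.node (.leaf 2325) (.leaf 4867)) (.node (.leaf 141) (.leaf 0)))) (.node (.node (.node (.leaf 1328) (.leaf 7078)) (.node (.leaf 1797) (.leaf 5844))) (.node (.node (.leaf 5114) (.leaf 466)) (.node (.leaf 1793) (.leaf 0))))) (.node (.node (.node (.node (.leaf 5829) (.leaf 1229)) (.node (.leaf 2302) (.leaf 1476))) (.node (.node (.leaf 2103) (.leaf 6140)) (.node (.leaf 6965) (.leaf 0)))) (.node (.node (.node (.leaf 401) (.leaf 5323)) (.node (.leaf 3923) (.leaf 2014))) (.node (.node (.leaf 18) (.leaf 648)) (.node (.leaf 6138) (.leaf 0))))))))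

def ohT31 : NT := .node (.node (.node (.node (.node (.node (.node (.node (.leaf 2999) (.leaf 1127)) (.node (.leaf 3161) (.leaf 754))) (.node (.node (.leaf 2483) (.leaf 5551)) (.node (.leaf 144) (.leaf 6843)))) (.node (.node (.node (.leaf 2837) (.leaf 5044)) (.node (.leaf 6800) (.leaf 6381))) (.node (.node (.leaf 1677) (.leaf 3879)) (.node (.leaf 2522) (.leaf 0))))) (.node (.node (.node (.node (.leaf 5552) (.leaf 4921)) (.node (.leaf 3607) (.leaf 1812))) (.node (.node (.leaf 895) (.leaf 5899)) (.node (.leaf 2597) (.leaf 0)))) (.node (.node (.node (.leaf 2701) (.leaf 2034)) (.node (.leaf 7016) (.leaf 6411))) (.node (.node (.leaf 5904) (.leaf 4412)) (.node (.leaf 387) (.leaf 0)))))) (.node (.node (.node (.node (.node (.leaf 7253) (.leaf 3936)) (.node (.leaf 4805) (.leaf 6974))) (.node (.node (.leaf 406) (.leaf 6640)) (.node (.leaf 4764) (.leaf 651)))) (.node (.node (.node (.leaf 5660) (.leaf 876)) (.node (.leaf 5292) (.leaf 2359))) (.node (.node (.leaf 3159) (.leaf 3532)) (.node (.leaf 3469) (.leaf 0))))) (.node (.node (.node (.node (.leaf 1298) (.leaf 2702)) (.node (.leaf 6385) (.leaf 5305))) (.node (.node (.leaf 4696)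 (.leaf 4612)) (.node (.leaf 2098) (.leaf 0)))) (.node (.node (.node (.leaf 4659) (.leaf 3794)) (.node (.leaf 7117) (.leaf 4419))) (.node (.node (.leaf 6319) (.leaf 4207)) (.node (.leaf 5399) (.leaf 0))))))) (.node (.node (.node (.node (.node (.node (.leaf 6124) (.leaf 3926)) (.node (.leaf 4682) (.leaf 24))) (.node (.node (.leaf 7150) (.leaf 4205)) (.node (.leaf 6079) (.leaf 4381)))) (.node (.node (.node (.leaf 2724) (.leaf 3147)) (.node (.leaf 4738) (.leaf 4040))) (.node (.node (.leaf 1830) (.leaf 5048)) (.node (.leaf 7280) (.leaf 0))))) (.node (.node (.node (.node (.leaf 3820) (.leaf 2358)) (.node (.leaf 3410) (.leaf 6669))) (.node (.node (.leaf 1166) (.leaf 4433)) (.node (.leaf 854) (.leaf 0)))) (.node (.node (.node (.leaf 2799) (.leaf 1221)) (.node (.leaf 4932) (.leaf 3657))) (.node (.node (.leaf 2452) (.leaf 2201)) (.node (.leaf 6556) (.leaf 0)))))) (.node (.node (.node (.node (.node (.leaf 4197) (.leaf 2665)) (.node (.leaf 4485) (.leaf 303))) (.node (.node (.leaf 1494) (.leaf 455)) (.node (.leaf 1098) (.leaf 0)))) (.node (.node (.node (.leaf 2830) (.leaf 1649)) (.node (.leaf 2990) (.leaf 5396))) (.node (.node (.leaf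 3046) (.leaf 4350)) (.node (.leaf 6802) (.leaf 0))))) (.node (.node (.node (.node (.leaf 1617) (.leaf 3746)) (.node (.leaf 5520) (.leaf 2494))) (.node (.node (.leaf 2196) (.leaf 4431)) (.node (.leaf 423) (.leaf 0)))) (.node (.node (.node (.leaf 1174) (.leaf 1024)) (.node (.leaf 1325) (.leaf 5868))) (.node (.node (.leaf 549) (.leaf 152)) (.node (.leaf 95) (.leaf 0)))))))) (.node (.node (.node (.node (.node (.node (.node (.leaf 4602) (.leaf 5616)) (.node (.leaf 1604) (.leaf 1261))) (.node (.node (.leaf 4981) (.leaf 4523)) (.node (.leaf 5083) (.leaf 6091)))) (.node (.node (.node (.leaf 5033) (.leaf 1636)) (.node (.leaf 755) (.leaf 4098))) (.node (.node (.leaf 5111) (.leaf 3109)) (.node (.leaf 3048) (.leaf 0))))) (.node (.node (.node (.node (.leaf 4712) (.leaf 6841)) (.node (.leaf 2825) (.leaf 1460))) (.node (.node (.leaf 2229) (.leaf 5634)) (.node (.leaf 3979) (.leaf 0)))) (.node (.node (.node (.leaf 5055) (.leaf 5021)) (.node (.leaf 5146) (.leaf 3832))) (.node (.node (.leaf 5339) (.leaf 2284)) (.node (.leaf 3361) (.leaf 0)))))) (.node (.node (.node (.node (.node (.leaf 918) (.leaf 6552)) (.node (.leaf 2663) (.leaf 7121)))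 (.node (.node (.leaf 5306) (.leaf 7194)) (.node (.leaf 2056) (.leaf 0)))) (.node (.node (.node (.leaf 2121) (.leaf 5798)) (.node (.leaf 1505) (.leaf 308))) (.node (.node (.leaf 869) (.leaf 5513)) (.node (.leaf 4364) (.leaf 0))))) (.node (.node (.node (.node (.leaf 2477) (.leaf 4097)) (.node (.leaf 3856) (.leaf 4386))) (.node (.node (.leaf 3255) (.leaf 1618)) (.node (.leaf 394) (.leaf 0)))) (.node (.node (.node (.leaf 2033) (.leaf 5209)) (.node (.leaf 2740) (.leaf 1051))) (.node (.node (.leaf 2070) (.leaf 4973)) (.node (.leaf 1527) (.leaf 0))))))) (.node (.node (.node (.node (.node (.node (.leaf 6652) (.leaf 2675)) (.node (.leaf 1549) (.leaf 1346))) (.node (.node (.leaf 175) (.leaf 7179)) (.node (.leaf 6978) (.leaf 1363)))) (.node (.node (.node (.leaf 6384) (.leaf 2607)) (.node (.leaf 4878) (.leaf 5110))) (.node (.node (.leaf 4186) (.leaf 158)) (.node (.leaf 6122) (.leaf 0))))) (.node (.node (.node (.node (.leaf 44) (.leaf 2644)) (.node (.leaf 148) (.leaf 1119))) (.node (.node (.leaf 4362) (.leaf 3756)) (.node (.leaf 3571) (.leaf 0)))) (.node (.node (.node (.leaf 2507) (.leaf 1136)) (.node (.leaf 727) (.leaf 4317))) (.node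 (.node (.leaf 5993) (.leaf 2539)) (.node (.leaf 6033) (.leaf 0)))))) (.node (.node (.node (.node (.node (.leaf 4255) (.leaf 5397)) (.node (.leaf 3059) (.leaf 2909))) (.node (.node (.leaf 3529) (.leaf 1391)) (.node (.leaf 5545) (.leaf 0)))) (.node (.node (.node (.leaf 5461) (.leaf 2186)) (.node (.leaf 6251) (.leaf 2157))) (.node (.node (.leaf 5492) (.leaf 4769)) (.node (.leaf 317) (.leaf 0))))) (.node (.node (.node (.node (.leaf 2552) (.leaf 192)) (.node (.leaf 3814) (.leaf 1424))) (.node (.node (.leaf 6750) (.leaf 5031)) (.node (.leaf 6948) (.leaf 0)))) (.node (.node (.node (.leaf 364) (.leaf 5411)) (.node (.leaf 4529) (.leaf 4276))) (.node (.node (.leaf 5030) (.leaf 3692)) (.node (.leaf 4213) (.leaf 0))))))))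

def ohT : NT := .node (.node (.node (.node (.node (ohT0) (ohT16)) (.node (ohT8) (ohT24))) (.node (.node (ohT4) (ohT20)) (.node (ohT12) (ohT28)))) (.node (.node (.node (ohT2) (ohT18)) (.node (ohT10) (ohT26))) (.node (.node (ohT6) (ohT22)) (.node (ohT14) (ohT30))))) (.node (.node (.node (.node (ohT1) (ohT17)) (.node (ohT9) (ohT25))) (.node (.node (ohT5) (ohT21)) (.node (ohT13) (ohT29)))) (.node (.node (.node (ohT3) (ohT19)) (.node (ohT11) (ohT27))) (.node (.node (ohT7) (ohT23)) (.node (ohT15) (ohT31)))))

end Cfsg.Agent.JankoThree.Main
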