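import Cfsg.Agent.JankoThree.Cert

/-! Generated certificate tables (Main, part C). -/

set_option autoImplicit false
set_option linter.all false

namespace Cfsg.Agent.JankoThree.Main

def e0T0 : NT := .node (.node (.node (.node (.node (.node (.node (.node (.leaf 8192) (.leaf 91270222)) (.node (.leaf 92815360) (.leaf 0))) (.node (.node (.leaf 50020352) (.leaf 134100008)) (.node (.leaf 128663552) (.leaf 0)))) (.node (.node (.node (.leaf 25821184) (.leaf 163651584)) (.node (.leaf 37996492) (.leaf 0))) (.node (.node (.leaf 72327168) (.leaf 0)) (.node (.leaf 143073280) (.leaf 0))))) (.node (.node (.node (.node (.leaf 13099008) (.leaf 127440627)) (.node (.leaf 102440960) (.leaf 0))) (.node (.node (.leaf 61448192) (.leaf 0)) (.node (.leaf 136093696) (.leaf 0)))) (.node (.node (.node (.leaf 38166528) (.leaf 49831010)) (.node (.leaf 120258560) (.leaf 0))) (.node (.node (.leaf 82870272) (.leaf 0)) (.node (.leaf 137364133) (.leaf 0)))))) (.node (.node (.node (.node (.node (.leaf 6602752) (.leaf 157605888)) (.node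 (.leaf 97640448) (.leaf 0))) (.node (.node (.leaf 55681024) (.leaf 0)) (.node (.leaf 6992275) (.leaf 0)))) (.node (.node (.node (.leaf 32055296) (.leaf 162171703)) (.node (.leaf 116105216) (.leaf 0))) (.node (.node (.leaf 77611008) (.leaf 0)) (.node (.leaf 146374656) (.leaf 0))))) (.node (.node (.node (.node (.leaf 19619840) (.leaf 161857536)) (.node (.leaf 107184128) (.leaf 0))) (.node (.node (.leaf 52859819) (.leaf 0)) (.node (.leaf 22799406) (.leaf 0)))) (.node (.node (.node (.leaf 44097536) (.leaf 153628806)) (.node (.leaf 93965438) (.leaf 0))) (.node (.node (.leaf 87826432) (.leaf 0)) (.node (.leaf 18247539) (.leaf 0))))))) (.node (.node (.node (.node (.node (.node (.leaf 3342336) (.leaf 37823236)) (.node (.leaf 95281152) (.leaf 0))) (.node (.node (.leaf 52944896) (.leaf 0)) (.node (.leaf 130449408) (.leaf 0)))) (.node (.node (.node (.leaf 28934144) (.leaf 144605338)) (.node (.leaf 113901568) (.leaf 0))) (.node (.node (.leaf 74981376) (.leaf 0)) (.node (.leaf 68852872) (.leaf 0))))) (.node (.node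 (.node (.node (.leaf 16359424) (.leaf 72709503)) (.node (.leaf 104693760) (.leaf 0))) (.node (.node (.leaf 57782371) (.leaf 0)) (.node (.leaf 137838592) (.leaf 0)))) (.node (.node (.node (.leaf 41132032) (.leaf 33544724)) (.node (.leaf 122454016) (.leaf 0))) (.node (.node (.leaf 85303296) (.leaf 0)) (.node (.leaf 140856452) (.leaf 0)))))) (.node (.node (.node (.node (.node (.leaf 9887744) (.leaf 104333690)) (.node (.leaf 20974199) (.leaf 0))) (.node (.node (.leaf 58572800) (.leaf 0)) (.node (.leaf 134217728) (.leaf 0)))) (.node (.node (.node (.leaf 35094528) (.leaf 157569295)) (.node (.leaf 118292480) (.leaf 0))) (.node (.node (.leaf 24754900) (.leaf 0)) (.node (.leaf 102644680) (.leaf 0))))) (.node (.node (.node (.node (.leaf 22724608) (.leaf 162824192)) (.node (.leaf 109502464) (.leaf 0))) (.node (.node (.leaf 69681152) (.leaf 0)) (.node (.leaf 7577600) (.leaf 0)))) (.node (.node (.node (.leaf 19277090) (.leaf 41728968)) (.node (.leaf 126631936) (.leaf 0))) (.node (.node (.leaf 90406912) (.leaf 0)) (.node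 (.leaf 77210048) (.leaf 0)))))))) (.node (.node (.node (.node (.node (.node (.node (.leaf 1679360) (.leaf 124871647)) (.node (.leaf 94142464) (.leaf 0))) (.node (.node (.leaf 51453952) (.leaf 0)) (.node (.leaf 129572864) (.leaf 0)))) (.node (.node (.node (.leaf 27377664) (.leaf 164110336)) (.node (.leaf 112771072) (.leaf 0))) (.node (.node (.leaf 73654272) (.leaf 0)) (.node (.leaf 143892480) (.leaf 0))))) (.node (.node (.node (.node (.leaf 14721024) (.leaf 50652890)) (.node (.leaf 103497728) (.leaf 0))) (.node (.node (.leaf 62889984) (.leaf 0)) (.node (.leaf 136970240) (.leaf 0)))) (.node (.node (.node (.leaf 9268356) (.leaf 143035205)) (.node (.leaf 121454592) (.leaf 0))) (.node (.node (.leaf 84115456) (.leaf 0)) (.node (.leaf 150265856) (.leaf 0)))))) (.node (.node (.node (.node (.node (.leaf 8257536) (.leaf 158056448)) (.node (.leaf 98861056) (.leaf 0))) (.node (.node (.leaf 57024512) (.leaf 0)) (.node (.leaf 28561289) (.leaf 0)))) (.node (.node (.node (.leaf 33628160) (.leaf 103027428)) (.node (.leaf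 117178368) (.leaf 0))) (.node (.node (.leaf 50087020) (.leaf 0)) (.node (.leaf 54732293) (.leaf 0))))) (.node (.node (.node (.node (.leaf 21217280) (.leaf 160598013)) (.node (.leaf 108421120) (.leaf 0))) (.node (.node (.leaf 27144549) (.leaf 0)) (.node (.leaf 119229198) (.leaf 0)))) (.node (.node (.node (.leaf 45596672) (.leaf 164406498)) (.node (.leaf 83570994) (.leaf 0))) (.node (.node (.leaf 89104384) (.leaf 0)) (.node (.leaf 56444947) (.leaf 0))))))) (.node (.node (.node (.node (.node (.node (.leaf 4988928) (.leaf 128688456)) (.node (.leaf 96485376) (.leaf 0))) (.node (.node (.leaf 22444806) (.leaf 0)) (.node (.leaf 131522560) (.leaf 0)))) (.node (.node (.node (.leaf 30498816) (.leaf 120463902)) (.node (.leaf 39644414) (.leaf 0))) (.node (.node (.leaf 34296507) (.leaf 0)) (.node (.leaf 145498112) (.leaf 0))))) (.node (.node (.node (.node (.leaf 18006016) (.leaf 159656878)) (.node (.leaf 105979904) (.leaf 0))) (.node (.node (.leaf 65642496) (.leaf 0)) (.node (.leaf 138674176) (.leaf 0)))) (.node (.node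 (.node (.leaf 42590208) (.leaf 167510016)) (.node (.leaf 112231960) (.leaf 0))) (.node (.node (.leaf 86548480) (.leaf 0)) (.node (.leaf 151715840) (.leaf 0)))))) (.node (.node (.node (.node (.node (.leaf 11509760) (.leaf 60345855)) (.node (.leaf 101294080) (.leaf 0))) (.node (.node (.leaf 60022784) (.leaf 0)) (.node (.leaf 135176192) (.leaf 0)))) (.node (.node (.node (.leaf 36683776) (.leaf 114025595)) (.node (.leaf 98783659) (.leaf 0))) (.node (.node (.leaf 81502208) (.leaf 0)) (.node (.leaf 55902708) (.leaf 0))))) (.node (.node (.node (.node (.leaf 24313856) (.leaf 117755887)) (.node (.leaf 62917052) (.leaf 0))) (.node (.node (.leaf 70975488) (.leaf 0)) (.node (.leaf 134812726) (.leaf 0)))) (.node (.node (.node (.leaf 48570368) (.leaf 50556315)) (.node (.leaf 127639552) (.leaf 0))) (.node (.node (.leaf 91570176) (.leaf 0)) (.node (.leaf 143652255) (.leaf 0))))))))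

def e0T1 : NT := .node (.node (.node (.node (.node (.node (.node (.node (.leaf 16384) (.leaf 132355682)) (.node (.leaf 92831744) (.leaf 0))) (.node (.node (.leaf 50028544) (.leaf 143266363)) (.node (.leaf 18870015) (.leaf 0)))) (.node (.node (.node (.leaf 25837568) (.leaf 159133587)) (.node (.leaf 111706112) (.leaf 0))) (.node (.node (.leaf 2318336) (.leaf 0)) (.node (.leaf 143081472) (.leaf 0))))) (.node (.node (.node (.node (.leaf 13107200) (.leaf 127456212)) (.node (.leaf 28132869) (.leaf 0))) (.node (.node (.leaf 4629453) (.leaf 0)) (.node (.leaf 45173920) (.leaf 0)))) (.node (.node (.node (.leaf 38182912) (.leaf 166895616)) (.node (.leaf 113930955) (.leaf 0))) (.node (.node (.leaf 82886656) (.leaf 0)) (.node (.leaf 57009063) (.leaf 0)))))) (.node (.node (.node (.node (.node (.leaf 6619136) (.leaf 140208482)) (.node (.leaf 97648640) (.leaf 0))) (.node (.node (.leaf 55689216) (.leaf 0)) (.node (.leaf 56746748) (.leaf 0)))) (.node (.node (.node (.leaf 32063488) (.leaf 91786286)) (.node (.leaf 116113408)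 (.leaf 0))) (.node (.node (.leaf 77627392) (.leaf 0)) (.node (.leaf 121582342) (.leaf 0))))) (.node (.node (.node (.node (.leaf 19636224) (.leaf 161865728)) (.node (.leaf 107192320) (.leaf 0))) (.node (.node (.leaf 31814790) (.leaf 0)) (.node (.leaf 139665408) (.leaf 0)))) (.node (.node (.node (.leaf 44113920) (.leaf 167188145)) (.node (.leaf 22903069) (.leaf 0))) (.node (.node (.leaf 87834624) (.leaf 0)) (.node (.leaf 84263888) (.leaf 0))))))) (.node (.node (.node (.node (.node (.node (.leaf 3350528) (.leaf 149644920)) (.node (.leaf 95297536) (.leaf 0))) (.node (.node (.leaf 52953088) (.leaf 0)) (.node (.leaf 130465792) (.leaf 0)))) (.node (.node (.node (.leaf 28950528) (.leaf 160245651)) (.node (.leaf 113909760) (.leaf 0))) (.node (.node (.leaf 74989568) (.leaf 0)) (.node (.leaf 99790252) (.leaf 0))))) (.node (.node (.node (.node (.leaf 16367616) (.leaf 160866304)) (.node (.leaf 104710144) (.leaf 0))) (.node (.node (.leaf 64266240) (.leaf 0)) (.node (.leaf 137846784) (.leaf 0)))) (.node (.node (.node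 (.leaf 41140224) (.leaf 82859596)) (.node (.leaf 122470400) (.leaf 0))) (.node (.node (.leaf 66835750) (.leaf 0)) (.node (.leaf 151027712) (.leaf 0)))))) (.node (.node (.node (.node (.node (.leaf 9904128) (.leaf 154750880)) (.node (.leaf 100065280) (.leaf 0))) (.node (.node (.leaf 58589184) (.leaf 0)) (.node (.leaf 14567453) (.leaf 0)))) (.node (.node (.node (.leaf 35110912) (.leaf 149212413)) (.node (.leaf 55962046) (.leaf 0))) (.node (.node (.leaf 80224256) (.leaf 0)) (.node (.leaf 147906560) (.leaf 0))))) (.node (.node (.node (.node (.leaf 22740992) (.leaf 162832384)) (.node (.leaf 109510656) (.leaf 0))) (.node (.node (.leaf 22845725) (.leaf 0)) (.node (.leaf 21041496) (.leaf 0)))) (.node (.node (.node (.leaf 47128576) (.leaf 63220826)) (.node (.leaf 126640128) (.leaf 0))) (.node (.node (.leaf 86399581) (.leaf 0)) (.node (.leaf 151713513) (.leaf 0)))))))) (.node (.node (.node (.node (.node (.node (.node (.leaf 1687552) (.leaf 115895102)) (.node (.leaf 94158848) (.leaf 0))) (.node (.node (.leaf 51470336)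 (.leaf 0)) (.node (.leaf 129581056) (.leaf 0)))) (.node (.node (.node (.leaf 27385856) (.leaf 157139482)) (.node (.leaf 112779264) (.leaf 0))) (.node (.node (.leaf 58288037) (.leaf 0)) (.node (.leaf 76705232) (.leaf 0))))) (.node (.node (.node (.node (.leaf 14729216) (.leaf 160301056)) (.node (.leaf 75886774) (.leaf 0))) (.node (.node (.leaf 62906368) (.leaf 0)) (.node (.leaf 49976008) (.leaf 0)))) (.node (.node (.node (.leaf 39624704) (.leaf 68235889)) (.node (.leaf 121462784) (.leaf 0))) (.node (.node (.leaf 84123648) (.leaf 0)) (.node (.leaf 150274048) (.leaf 0)))))) (.node (.node (.node (.node (.node (.leaf 8273920) (.leaf 158064640)) (.node (.leaf 54064545) (.leaf 0))) (.node (.node (.leaf 29464869) (.leaf 0)) (.node (.leaf 14064713) (.leaf 0)))) (.node (.node (.node (.leaf 33636352) (.leaf 165847040)) (.node (.leaf 68107173) (.leaf 0))) (.node (.node (.leaf 54036421) (.leaf 0)) (.node (.leaf 147202048) (.leaf 0))))) (.node (.node (.node (.node (.leaf 21233664) (.leaf 128244454)) (.node (.leaf 108429312)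 (.leaf 0))) (.node (.node (.leaf 48564045) (.leaf 0)) (.node (.leaf 126257440) (.leaf 0)))) (.node (.node (.node (.leaf 45613056) (.leaf 23732224)) (.node (.leaf 81602435) (.leaf 0))) (.node (.node (.leaf 89112576) (.leaf 0)) (.node (.leaf 153042944) (.leaf 0))))))) (.node (.node (.node (.node (.node (.node (.leaf 4997120) (.leaf 144952002)) (.node (.leaf 76649603) (.leaf 0))) (.node (.node (.leaf 54329344) (.leaf 0)) (.node (.leaf 130762465) (.leaf 0)))) (.node (.node (.node (.leaf 30515200) (.leaf 165044224)) (.node (.leaf 114991104) (.leaf 0))) (.node (.node (.leaf 76324864) (.leaf 0)) (.node (.leaf 145506304) (.leaf 0))))) (.node (.node (.node (.node (.leaf 18022400) (.leaf 132323071)) (.node (.leaf 105996288) (.leaf 0))) (.node (.node (.leaf 65650688) (.leaf 0)) (.node (.leaf 138682368) (.leaf 0)))) (.node (.node (.node (.leaf 42606592) (.leaf 166139560)) (.node (.leaf 123543552) (.leaf 0))) (.node (.node (.leaf 86556672) (.leaf 0)) (.node (.leaf 151724032) (.leaf 0)))))) (.node (.node (.node (.node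 (.node (.leaf 11526144) (.leaf 77830348)) (.node (.leaf 101310464) (.leaf 0))) (.node (.node (.leaf 60039168) (.leaf 0)) (.node (.leaf 82496091) (.leaf 0)))) (.node (.node (.node (.leaf 36700160) (.leaf 109245896)) (.node (.leaf 119332864) (.leaf 0))) (.node (.node (.leaf 81518592) (.leaf 0)) (.node (.leaf 148783104) (.leaf 0))))) (.node (.node (.node (.node (.leaf 24330240) (.leaf 148538014)) (.node (.leaf 110632960) (.leaf 0))) (.node (.node (.leaf 70983680) (.leaf 0)) (.node (.leaf 120765551) (.leaf 0)))) (.node (.node (.node (.leaf 48578560) (.leaf 76822855)) (.node (.leaf 127655936) (.leaf 0))) (.node (.node (.leaf 25322641) (.leaf 0)) (.node (.leaf 134276840) (.leaf 0))))))))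

def e0T2 : NT := .node (.node (.node (.node (.node (.node (.node (.node (.leaf 32768) (.leaf 124294808)) (.node (.leaf 92848128) (.leaf 0))) (.node (.node (.leaf 50044928) (.leaf 161382500)) (.node (.leaf 128671744) (.leaf 0)))) (.node (.node (.node (.leaf 25853952) (.leaf 163659776)) (.node (.leaf 111722496) (.leaf 0))) (.node (.node (.leaf 72335360) (.leaf 0)) (.node (.leaf 143097856) (.leaf 0))))) (.node (.node (.node (.node (.leaf 13123584) (.leaf 159711232)) (.node (.leaf 7959824) (.leaf 0))) (.node (.node (.leaf 61464576) (.leaf 0)) (.node (.leaf 122894947) (.leaf 0)))) (.node (.node (.node (.leaf 38199296) (.leaf 74281967)) (.node (.leaf 120266752) (.leaf 0))) (.node (.node (.leaf 82903040) (.leaf 0)) (.node (.leaf 149479424) (.leaf 0)))))) (.node (.node (.node (.node (.node (.leaf 6627328) (.leaf 118411471)) (.node (.leaf 97665024) (.leaf 0))) (.node (.node (.leaf 55705600) (.leaf 0)) (.node (.leaf 105226371) (.leaf 0)))) (.node (.node (.node (.leaf 32079872) (.leaf 134232146)) (.node (.leaf 116129792)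 (.leaf 0))) (.node (.node (.leaf 77635584) (.leaf 0)) (.node (.leaf 132511741) (.leaf 0))))) (.node (.node (.node (.node (.leaf 19652608) (.leaf 161873920)) (.node (.leaf 107208704) (.leaf 0))) (.node (.node (.leaf 32288573) (.leaf 0)) (.node (.leaf 7634944) (.leaf 0)))) (.node (.node (.node (.leaf 44122112) (.leaf 135239005)) (.node (.leaf 124551168) (.leaf 0))) (.node (.node (.leaf 87851008) (.leaf 0)) (.node (.leaf 143920661) (.leaf 0))))))) (.node (.node (.node (.node (.node (.node (.leaf 3366912) (.leaf 156393472)) (.node (.leaf 95305728) (.leaf 0))) (.node (.node (.leaf 22518183) (.leaf 0)) (.node (.leaf 130473984) (.leaf 0)))) (.node (.node (.node (.leaf 28966912) (.leaf 76166352)) (.node (.leaf 113917952) (.leaf 0))) (.node (.node (.leaf 30874074) (.leaf 0)) (.node (.leaf 144719872) (.leaf 0))))) (.node (.node (.node (.node (.leaf 16384000) (.leaf 159330859)) (.node (.leaf 104718336) (.leaf 0))) (.node (.node (.leaf 64274432) (.leaf 0)) (.node (.leaf 70947828) (.leaf 0)))) (.node (.node (.node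 (.leaf 41156608) (.leaf 87535345)) (.node (.leaf 122478592) (.leaf 0))) (.node (.node (.leaf 82199189) (.leaf 0)) (.node (.leaf 28690383) (.leaf 0)))))) (.node (.node (.node (.node (.node (.leaf 9920512) (.leaf 112121453)) (.node (.leaf 100081664) (.leaf 0))) (.node (.node (.leaf 58597376) (.leaf 0)) (.node (.leaf 10728874) (.leaf 0)))) (.node (.node (.node (.leaf 35119104) (.leaf 26121087)) (.node (.leaf 118308864) (.leaf 0))) (.node (.node (.leaf 80232448) (.leaf 0)) (.node (.leaf 147922944) (.leaf 0))))) (.node (.node (.node (.node (.leaf 22757376) (.leaf 162840576)) (.node (.leaf 109518848) (.leaf 0))) (.node (.node (.leaf 69697536) (.leaf 0)) (.node (.leaf 67807202) (.leaf 0)))) (.node (.node (.node (.leaf 29626787) (.leaf 88819590)) (.node (.leaf 109637734) (.leaf 0))) (.node (.node (.leaf 30785935) (.leaf 0)) (.node (.leaf 150283598) (.leaf 0)))))))) (.node (.node (.node (.node (.node (.node (.node (.leaf 1703936) (.leaf 155754496)) (.node (.leaf 94167040) (.leaf 0))) (.node (.node (.leaf 51486720)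 (.leaf 0)) (.node (.leaf 83460640) (.leaf 0)))) (.node (.node (.node (.leaf 27402240) (.leaf 41793797)) (.node (.leaf 106037248) (.leaf 0))) (.node (.node (.leaf 73670656) (.leaf 0)) (.node (.leaf 37020022) (.leaf 0))))) (.node (.node (.node (.node (.leaf 14745600) (.leaf 141528279)) (.node (.leaf 103514112) (.leaf 0))) (.node (.node (.leaf 3111769) (.leaf 0)) (.node (.leaf 89280140) (.leaf 0)))) (.node (.node (.node (.leaf 39632896) (.leaf 166598730)) (.node (.leaf 121479168) (.leaf 0))) (.node (.node (.leaf 84131840) (.leaf 0)) (.node (.leaf 32507506) (.leaf 0)))))) (.node (.node (.node (.node (.node (.leaf 8282112) (.leaf 158072832)) (.node (.leaf 98877440) (.leaf 0))) (.node (.node (.leaf 2072576) (.leaf 0)) (.node (.leaf 133373952) (.leaf 0)))) (.node (.node (.node (.leaf 33652736) (.leaf 16834560)) (.node (.leaf 32843229) (.leaf 0))) (.node (.node (.leaf 36943145) (.leaf 0)) (.node (.leaf 147210240) (.leaf 0))))) (.node (.node (.node (.node (.leaf 21241856) (.leaf 162365440)) (.node (.leaf 108445696)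 (.leaf 0))) (.node (.node (.leaf 68476928) (.leaf 0)) (.node (.leaf 102176977) (.leaf 0)))) (.node (.node (.node (.leaf 45629440) (.leaf 103454154)) (.node (.leaf 102275093) (.leaf 0))) (.node (.node (.leaf 89128960) (.leaf 0)) (.node (.leaf 153051136) (.leaf 0))))))) (.node (.node (.node (.node (.node (.node (.leaf 5013504) (.leaf 120354040)) (.node (.leaf 96493568) (.leaf 0))) (.node (.node (.leaf 54337536) (.leaf 0)) (.node (.leaf 131530752) (.leaf 0)))) (.node (.node (.node (.leaf 30523392) (.leaf 165052416)) (.node (.leaf 114999296) (.leaf 0))) (.node (.node (.leaf 76333056) (.leaf 0)) (.node (.leaf 133154916) (.leaf 0))))) (.node (.node (.node (.node (.leaf 18030592) (.leaf 156946667)) (.node (.leaf 106004480) (.leaf 0))) (.node (.node (.leaf 65667072) (.leaf 0)) (.node (.leaf 53775499) (.leaf 0)))) (.node (.node (.node (.leaf 42614784) (.leaf 167518208)) (.node (.leaf 123551744) (.leaf 0))) (.node (.node (.leaf 28906537) (.leaf 0)) (.node (.leaf 132557567) (.leaf 0)))))) (.node (.node (.node (.node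 (.node (.leaf 11534336) (.leaf 159203328)) (.node (.leaf 63648006) (.leaf 0))) (.node (.node (.leaf 60047360) (.leaf 0)) (.node (.leaf 135184384) (.leaf 0)))) (.node (.node (.node (.leaf 36716544) (.leaf 165086833)) (.node (.leaf 119341056) (.leaf 0))) (.node (.node (.leaf 81534976) (.leaf 0)) (.node (.leaf 121327037) (.leaf 0))))) (.node (.node (.node (.node (.leaf 24346624) (.leaf 163282944)) (.node (.leaf 110641152) (.leaf 0))) (.node (.node (.leaf 71000064) (.leaf 0)) (.node (.leaf 142336000) (.leaf 0)))) (.node (.node (.node (.leaf 48594944) (.leaf 167729796)) (.node (.leaf 51464312) (.leaf 0))) (.node (.node (.leaf 31567980) (.leaf 0)) (.node (.leaf 76666021) (.leaf 0))))))))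

def e0T3 : NT := .node (.node (.node (.node (.node (.node (.node (.node (.leaf 49152) (.leaf 153726978)) (.node (.leaf 10016175) (.leaf 0))) (.node (.node (.leaf 50053120) (.leaf 119731644)) (.node (.leaf 128679936) (.leaf 0)))) (.node (.node (.node (.leaf 25862144) (.leaf 163667968)) (.node (.leaf 111730688) (.leaf 0))) (.node (.node (.leaf 72343552) (.leaf 0)) (.node (.leaf 143106048) (.leaf 0))))) (.node (.node (.node (.node (.leaf 13131776) (.leaf 159727616)) (.node (.leaf 97324934) (.leaf 0))) (.node (.node (.leaf 61480960) (.leaf 0)) (.node (.leaf 136101888) (.leaf 0)))) (.node (.node (.node (.leaf 38207488) (.leaf 129664128)) (.node (.leaf 120283136) (.leaf 0))) (.node (.node (.leaf 82911232) (.leaf 0)) (.node (.leaf 149487616) (.leaf 0)))))) (.node (.node (.node (.node (.node (.leaf 6643712) (.leaf 157622272)) (.node (.leaf 97673216) (.leaf 0))) (.node (.node (.leaf 55713792) (.leaf 0)) (.node (.leaf 132456448) (.leaf 0)))) (.node (.node (.node (.leaf 32088064) (.leaf 157938559)) (.node (.leaf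 4857856) (.leaf 0))) (.node (.node (.leaf 77651968) (.leaf 0)) (.node (.leaf 104227325) (.leaf 0))))) (.node (.node (.node (.node (.leaf 19660800) (.leaf 161882112)) (.node (.leaf 107216896) (.leaf 0))) (.node (.node (.leaf 67067904) (.leaf 0)) (.node (.leaf 139681792) (.leaf 0)))) (.node (.node (.node (.leaf 44130304) (.leaf 166709884)) (.node (.leaf 124567552) (.leaf 0))) (.node (.node (.leaf 87859200) (.leaf 0)) (.node (.leaf 152395776) (.leaf 0))))))) (.node (.node (.node (.node (.node (.node (.leaf 3375104) (.leaf 102847402)) (.node (.leaf 95322112) (.leaf 0))) (.node (.node (.leaf 52969472) (.leaf 0)) (.node (.leaf 130482176) (.leaf 0)))) (.node (.node (.node (.leaf 28975104) (.leaf 162981857)) (.node (.leaf 6732088) (.leaf 0))) (.node (.node (.leaf 58339688) (.leaf 0)) (.node (.leaf 110182725) (.leaf 0))))) (.node (.node (.node (.node (.leaf 16400384) (.leaf 160874496)) (.node (.leaf 104734720) (.leaf 0))) (.node (.node (.leaf 47450287) (.leaf 0)) (.node (.leaf 137863168) (.leaf 0)))) (.node (.node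 (.node (.leaf 15125237) (.leaf 113370172)) (.node (.leaf 122494976) (.leaf 0))) (.node (.node (.leaf 85327872) (.leaf 0)) (.node (.leaf 151035904) (.leaf 0)))))) (.node (.node (.node (.node (.node (.leaf 9928704) (.leaf 158662656)) (.node (.leaf 47696250) (.leaf 0))) (.node (.node (.leaf 58605568) (.leaf 0)) (.node (.leaf 134234112) (.leaf 0)))) (.node (.node (.node (.leaf 35135488) (.leaf 60525443)) (.node (.leaf 118325248) (.leaf 0))) (.node (.node (.leaf 9375425) (.leaf 0)) (.node (.leaf 147939328) (.leaf 0))))) (.node (.node (.node (.node (.leaf 22765568) (.leaf 64389266)) (.node (.leaf 109535232) (.leaf 0))) (.node (.node (.leaf 69705728) (.leaf 0)) (.node (.leaf 141475840) (.leaf 0)))) (.node (.node (.node (.leaf 47144960) (.leaf 59654245)) (.node (.leaf 90794881) (.leaf 0))) (.node (.node (.leaf 90423296) (.leaf 0)) (.node (.leaf 153780224) (.leaf 0)))))))) (.node (.node (.node (.node (.node (.node (.node (.leaf 1712128) (.leaf 155762688)) (.node (.leaf 12932587) (.leaf 0))) (.node (.node (.leaf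 51494912) (.leaf 0)) (.node (.leaf 129589248) (.leaf 0)))) (.node (.node (.node (.leaf 25049220) (.leaf 145660824)) (.node (.leaf 112787456) (.leaf 0))) (.node (.node (.leaf 73678848) (.leaf 0)) (.node (.leaf 30265448) (.leaf 0))))) (.node (.node (.node (.node (.leaf 14761984) (.leaf 94514255)) (.node (.leaf 103530496) (.leaf 0))) (.node (.node (.leaf 62922752) (.leaf 0)) (.node (.leaf 136978432) (.leaf 0)))) (.node (.node (.node (.leaf 39649280) (.leaf 167157760)) (.node (.leaf 121487360) (.leaf 0))) (.node (.node (.leaf 84148224) (.leaf 0)) (.node (.leaf 34260044) (.leaf 0)))))) (.node (.node (.node (.node (.node (.leaf 8298496) (.leaf 60648344)) (.node (.leaf 98893824) (.leaf 0))) (.node (.node (.leaf 57049088) (.leaf 0)) (.node (.leaf 6512640) (.leaf 0)))) (.node (.node (.node (.leaf 909312) (.leaf 154276415)) (.node (.leaf 89354864) (.leaf 0))) (.node (.node (.leaf 78905344) (.leaf 0)) (.node (.leaf 147226624) (.leaf 0))))) (.node (.node (.node (.node (.leaf 21258240) (.leaf 162373632)) (.node (.leaf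 108453888) (.leaf 0))) (.node (.node (.leaf 68485120) (.leaf 0)) (.node (.leaf 140673024) (.leaf 0)))) (.node (.node (.node (.leaf 19888833) (.leaf 110238214)) (.node (.leaf 125616128) (.leaf 0))) (.node (.node (.leaf 77573444) (.leaf 0)) (.node (.leaf 153059328) (.leaf 0))))))) (.node (.node (.node (.node (.node (.node (.leaf 5021696) (.leaf 148005404)) (.node (.leaf 45488407) (.leaf 0))) (.node (.node (.leaf 54353920) (.leaf 0)) (.node (.leaf 131547136) (.leaf 0)))) (.node (.node (.node (.leaf 30539776) (.leaf 15785984)) (.node (.leaf 29876232) (.leaf 0))) (.node (.node (.leaf 76341248) (.leaf 0)) (.node (.leaf 145530880) (.leaf 0))))) (.node (.node (.node (.node (.leaf 18046976) (.leaf 161292288)) (.node (.leaf 106020864) (.leaf 0))) (.node (.node (.leaf 65675264) (.leaf 0)) (.node (.leaf 138706944) (.leaf 0)))) (.node (.node (.node (.leaf 42631168) (.leaf 37755460)) (.node (.leaf 123568128) (.leaf 0))) (.node (.node (.leaf 86573056) (.leaf 0)) (.node (.leaf 151732224) (.leaf 0)))))) (.node (.node (.node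 (.node (.node (.leaf 11550720) (.leaf 159211520)) (.node (.leaf 101318656) (.leaf 0))) (.node (.node (.leaf 60063744) (.leaf 0)) (.node (.leaf 78793128) (.leaf 0)))) (.node (.node (.node (.leaf 36732928) (.leaf 18038784)) (.node (.leaf 119349248) (.leaf 0))) (.node (.node (.leaf 81551360) (.leaf 0)) (.node (.leaf 148799488) (.leaf 0))))) (.node (.node (.node (.node (.leaf 630784) (.leaf 160143300)) (.node (.leaf 110649344) (.leaf 0))) (.node (.node (.leaf 71016448) (.leaf 0)) (.node (.leaf 142344192) (.leaf 0)))) (.node (.node (.node (.leaf 48603136) (.leaf 137486588)) (.node (.leaf 127664128) (.leaf 0))) (.node (.node (.leaf 91594752) (.leaf 0)) (.node (.leaf 147133426) (.leaf 0))))))))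

def e0T4 : NT := .node (.node (.node (.node (.node (.node (.node (.node (.leaf 57344) (.leaf 155090944)) (.node (.leaf 92864512) (.leaf 0))) (.node (.node (.leaf 50069504) (.leaf 125076585)) (.node (.leaf 120788483) (.leaf 0)))) (.node (.node (.node (.leaf 25878528) (.leaf 163676160)) (.node (.leaf 111738880) (.leaf 0))) (.node (.node (.leaf 72359936) (.leaf 0)) (.node (.leaf 143114240) (.leaf 0))))) (.node (.node (.node (.node (.leaf 13148160) (.leaf 151454017)) (.node (.leaf 102457344) (.leaf 0))) (.node (.node (.leaf 61497344) (.leaf 0)) (.node (.leaf 49263655) (.leaf 0)))) (.node (.node (.node (.leaf 29448270) (.leaf 166749026)) (.node (.leaf 120291328) (.leaf 0))) (.node (.node (.leaf 82927616) (.leaf 0)) (.node (.leaf 14039463) (.leaf 0)))))) (.node (.node (.node (.node (.node (.leaf 6651904) (.leaf 151824400)) (.node (.leaf 97689600) (.leaf 0))) (.node (.node (.leaf 55730176) (.leaf 0)) (.node (.leaf 132464640) (.leaf 0)))) (.node (.node (.node (.leaf 32096256) (.leaf 17619765)) (.node (.leaf 116146176)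 (.leaf 0))) (.node (.node (.leaf 77660160) (.leaf 0)) (.node (.leaf 146382848) (.leaf 0))))) (.node (.node (.node (.node (.leaf 19677184) (.leaf 110383867)) (.node (.leaf 86644960) (.leaf 0))) (.node (.node (.leaf 67084288) (.leaf 0)) (.node (.leaf 139689984) (.leaf 0)))) (.node (.node (.node (.leaf 44146688) (.leaf 146534515)) (.node (.leaf 70788088) (.leaf 0))) (.node (.node (.leaf 54398273) (.leaf 0)) (.node (.leaf 140024130) (.leaf 0))))))) (.node (.node (.node (.node (.node (.node (.leaf 3391488) (.leaf 156418048)) (.node (.leaf 69052742) (.leaf 0))) (.node (.node (.leaf 52985856) (.leaf 0)) (.node (.leaf 130498560) (.leaf 0)))) (.node (.node (.node (.leaf 28991488) (.leaf 123122132)) (.node (.leaf 65007489) (.leaf 0))) (.node (.node (.leaf 75014144) (.leaf 0)) (.node (.leaf 144728064) (.leaf 0))))) (.node (.node (.node (.node (.leaf 16416768) (.leaf 160882688)) (.node (.leaf 91976123) (.leaf 0))) (.node (.node (.leaf 64282624) (.leaf 0)) (.node (.leaf 137871360) (.leaf 0)))) (.node (.node (.node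 (.leaf 41164800) (.leaf 165815286)) (.node (.leaf 122511360) (.leaf 0))) (.node (.node (.leaf 35146269) (.leaf 0)) (.node (.leaf 151044096) (.leaf 0)))))) (.node (.node (.node (.node (.node (.leaf 9945088) (.leaf 158670848)) (.node (.leaf 100098048) (.leaf 0))) (.node (.node (.leaf 11726605) (.leaf 0)) (.node (.leaf 53491590) (.leaf 0)))) (.node (.node (.node (.leaf 35151872) (.leaf 161799320)) (.node (.leaf 104793455) (.leaf 0))) (.node (.node (.leaf 80257024) (.leaf 0)) (.node (.leaf 136280713) (.leaf 0))))) (.node (.node (.node (.node (.leaf 22781952) (.leaf 111676525)) (.node (.leaf 82363620) (.leaf 0))) (.node (.node (.leaf 30758184) (.leaf 0)) (.node (.leaf 106116106) (.leaf 0)))) (.node (.node (.node (.leaf 47153152) (.leaf 166791466)) (.node (.leaf 103632912) (.leaf 0))) (.node (.node (.leaf 61539059) (.leaf 0)) (.node (.leaf 153788416) (.leaf 0)))))))) (.node (.node (.node (.node (.node (.node (.node (.leaf 1728512) (.leaf 67298927)) (.node (.leaf 94191616) (.leaf 0))) (.node (.node (.leaf 51511296)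 (.leaf 0)) (.node (.leaf 129597440) (.leaf 0)))) (.node (.node (.node (.leaf 27418624) (.leaf 58141986)) (.node (.leaf 112795648) (.leaf 0))) (.node (.node (.leaf 73695232) (.leaf 0)) (.node (.leaf 130755052) (.leaf 0))))) (.node (.node (.node (.node (.leaf 14778368) (.leaf 160325632)) (.node (.leaf 103546880) (.leaf 0))) (.node (.node (.leaf 62930944) (.leaf 0)) (.node (.leaf 126399980) (.leaf 0)))) (.node (.node (.node (.leaf 39665664) (.leaf 89265282)) (.node (.leaf 88835667) (.leaf 0))) (.node (.node (.leaf 57416877) (.leaf 0)) (.node (.leaf 61656609) (.leaf 0)))))) (.node (.node (.node (.node (.node (.leaf 8314880) (.leaf 158081024)) (.node (.leaf 98902016) (.leaf 0))) (.node (.node (.leaf 57065472) (.leaf 0)) (.node (.leaf 133398528) (.leaf 0)))) (.node (.node (.node (.leaf 33669120) (.leaf 165855232)) (.node (.leaf 117194752) (.leaf 0))) (.node (.node (.leaf 78913536) (.leaf 0)) (.node (.leaf 147243008) (.leaf 0))))) (.node (.node (.node (.node (.leaf 21266432) (.leaf 121809248)) (.node (.leaf 108462080)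 (.leaf 0))) (.node (.node (.leaf 9348803) (.leaf 0)) (.node (.leaf 140681216) (.leaf 0)))) (.node (.node (.node (.leaf 45645824) (.leaf 29538327)) (.node (.leaf 125632512) (.leaf 0))) (.node (.node (.leaf 89145344) (.leaf 0)) (.node (.leaf 100093676) (.leaf 0))))))) (.node (.node (.node (.node (.node (.node (.leaf 5038080) (.leaf 25787515)) (.node (.leaf 14479331) (.leaf 0))) (.node (.node (.leaf 3627817) (.leaf 0)) (.node (.leaf 131563520) (.leaf 0)))) (.node (.node (.node (.leaf 30547968) (.leaf 161675165)) (.node (.leaf 65608174) (.leaf 0))) (.node (.node (.leaf 76357632) (.leaf 0)) (.node (.leaf 145539072) (.leaf 0))))) (.node (.node (.node (.node (.leaf 18063360) (.leaf 31414854)) (.node (.leaf 106029056) (.leaf 0))) (.node (.node (.leaf 65691648) (.leaf 0)) (.node (.leaf 138715136) (.leaf 0)))) (.node (.node (.node (.leaf 42639360) (.leaf 167526400)) (.node (.leaf 123576320) (.leaf 0))) (.node (.node (.leaf 86581248) (.leaf 0)) (.node (.leaf 151740416) (.leaf 0)))))) (.node (.node (.node (.node (.node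 (.leaf 11558912) (.leaf 88437342)) (.node (.leaf 101335040) (.leaf 0))) (.node (.node (.leaf 60080128) (.leaf 0)) (.node (.leaf 135200768) (.leaf 0)))) (.node (.node (.node (.leaf 36741120) (.leaf 77353797)) (.node (.leaf 119365632) (.leaf 0))) (.node (.node (.leaf 81559552) (.leaf 0)) (.node (.leaf 46469926) (.leaf 0))))) (.node (.node (.node (.node (.leaf 24363008) (.leaf 108300246)) (.node (.leaf 110657536) (.leaf 0))) (.node (.node (.leaf 71024640) (.leaf 0)) (.node (.leaf 142352384) (.leaf 0)))) (.node (.node (.node (.leaf 48619520) (.leaf 76738781)) (.node (.leaf 127680512) (.leaf 0))) (.node (.node (.leaf 3252224) (.leaf 0)) (.node (.leaf 121363290) (.leaf 0))))))))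

def e0T5 : NT := .node (.node (.node (.node (.node (.node (.node (.node (.leaf 73728) (.leaf 155099136)) (.node (.leaf 92880896) (.leaf 0))) (.node (.node (.leaf 34806141) (.leaf 112159789)) (.node (.leaf 5996544) (.leaf 0)))) (.node (.node (.node (.leaf 7073835) (.leaf 156931493)) (.node (.leaf 96674214) (.leaf 0))) (.node (.node (.leaf 17463800) (.leaf 0)) (.node (.leaf 143122432) (.leaf 0))))) (.node (.node (.node (.node (.leaf 13164544) (.leaf 76605057)) (.node (.leaf 102465536) (.leaf 0))) (.node (.node (.leaf 61505536) (.leaf 0)) (.node (.leaf 28796543) (.leaf 0)))) (.node (.node (.node (.leaf 38223872) (.leaf 153287294)) (.node (.leaf 43765117) (.leaf 0))) (.node (.node (.leaf 82935808) (.leaf 0)) (.node (.leaf 54570815) (.leaf 0)))))) (.node (.node (.node (.node (.node (.leaf 6668288) (.leaf 141957653)) (.node (.leaf 97697792) (.leaf 0))) (.node (.node (.leaf 55738368) (.leaf 0)) (.node (.leaf 132472832) (.leaf 0)))) (.node (.node (.node (.leaf 32112640) (.leaf 158265593)) (.node (.leaf 79065206)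 (.leaf 0))) (.node (.node (.leaf 77676544) (.leaf 0)) (.node (.leaf 99432668) (.leaf 0))))) (.node (.node (.node (.node (.leaf 19693568) (.leaf 97160039)) (.node (.leaf 107233280) (.leaf 0))) (.node (.node (.leaf 67092480) (.leaf 0)) (.node (.leaf 139706368) (.leaf 0)))) (.node (.node (.node (.leaf 44163072) (.leaf 129077345)) (.node (.leaf 124583936) (.leaf 0))) (.node (.node (.leaf 87875584) (.leaf 0)) (.node (.leaf 96871662) (.leaf 0))))))) (.node (.node (.node (.node (.node (.node (.leaf 3407872) (.leaf 44666283)) (.node (.leaf 61409362) (.leaf 0))) (.node (.node (.leaf 52994048) (.leaf 0)) (.node (.leaf 130506752) (.leaf 0)))) (.node (.node (.node (.leaf 28999680) (.leaf 120099050)) (.node (.leaf 113934336) (.leaf 0))) (.node (.node (.leaf 13934836) (.leaf 0)) (.node (.leaf 144736256) (.leaf 0))))) (.node (.node (.node (.node (.leaf 16424960) (.leaf 160899072)) (.node (.leaf 94780100) (.leaf 0))) (.node (.node (.leaf 47958191) (.leaf 0)) (.node (.leaf 72471325) (.leaf 0)))) (.node (.node (.node (.leaf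 41172992) (.leaf 163329522)) (.node (.leaf 70454310) (.leaf 0))) (.node (.node (.leaf 68211760) (.leaf 0)) (.node (.leaf 35639008) (.leaf 0)))))) (.node (.node (.node (.node (.node (.leaf 9961472) (.leaf 158419163)) (.node (.leaf 100106240) (.leaf 0))) (.node (.node (.leaf 58621952) (.leaf 0)) (.node (.leaf 134250496) (.leaf 0)))) (.node (.node (.node (.leaf 35160064) (.leaf 101887832)) (.node (.leaf 118341632) (.leaf 0))) (.node (.node (.leaf 80265216) (.leaf 0)) (.node (.leaf 41242608) (.leaf 0))))) (.node (.node (.node (.node (.leaf 22790144) (.leaf 95885144)) (.node (.leaf 109551616) (.leaf 0))) (.node (.node (.leaf 69722112) (.leaf 0)) (.node (.leaf 25715283) (.leaf 0)))) (.node (.node (.node (.leaf 47169536) (.leaf 45447865)) (.node (.leaf 126664704) (.leaf 0))) (.node (.node (.leaf 90439680) (.leaf 0)) (.node (.leaf 104789720) (.leaf 0)))))))) (.node (.node (.node (.node (.node (.node (.node (.leaf 1744896) (.leaf 155779072)) (.node (.leaf 41027542) (.leaf 0))) (.node (.node (.leaf 51519488) (.leaf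 0)) (.node (.leaf 129613824) (.leaf 0)))) (.node (.node (.node (.leaf 27435008) (.leaf 113763989)) (.node (.leaf 112803840) (.leaf 0))) (.node (.node (.leaf 73703424) (.leaf 0)) (.node (.leaf 118723361) (.leaf 0))))) (.node (.node (.node (.node (.leaf 14786560) (.leaf 160342016)) (.node (.leaf 103563264) (.leaf 0))) (.node (.node (.leaf 62947328) (.leaf 0)) (.node (.leaf 136994816) (.leaf 0)))) (.node (.node (.node (.leaf 39673856) (.leaf 167165952)) (.node (.leaf 121503744) (.leaf 0))) (.node (.node (.leaf 84164608) (.leaf 0)) (.node (.leaf 150290432) (.leaf 0)))))) (.node (.node (.node (.node (.node (.leaf 250034) (.leaf 146835890)) (.node (.leaf 98918400) (.leaf 0))) (.node (.node (.leaf 57081856) (.leaf 0)) (.node (.leaf 62333054) (.leaf 0)))) (.node (.node (.node (.leaf 33677312) (.leaf 79110442)) (.node (.leaf 117211136) (.leaf 0))) (.node (.node (.leaf 78921728) (.leaf 0)) (.node (.leaf 8495104) (.leaf 0))))) (.node (.node (.node (.node (.leaf 3518642) (.leaf 162398208)) (.node (.leaf 108478464)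 (.leaf 0))) (.node (.node (.leaf 55138551) (.leaf 0)) (.node (.leaf 140689408) (.leaf 0)))) (.node (.node (.node (.leaf 45662208) (.leaf 36968883)) (.node (.leaf 125640704) (.leaf 0))) (.node (.node (.leaf 89161728) (.leaf 0)) (.node (.leaf 68127384) (.leaf 0))))))) (.node (.node (.node (.node (.node (.node (.leaf 5054464) (.leaf 157007872)) (.node (.leaf 96518144) (.leaf 0))) (.node (.node (.leaf 54370304) (.leaf 0)) (.node (.leaf 131571712) (.leaf 0)))) (.node (.node (.node (.leaf 30564352) (.leaf 159834149)) (.node (.leaf 73763882) (.leaf 0))) (.node (.node (.leaf 76365824) (.leaf 0)) (.node (.leaf 23164793) (.leaf 0))))) (.node (.node (.node (.node (.leaf 18071552) (.leaf 33286608)) (.node (.leaf 106045440) (.leaf 0))) (.node (.node (.leaf 8198436) (.leaf 0)) (.node (.leaf 138723328) (.leaf 0)))) (.node (.node (.node (.leaf 42655744) (.leaf 70621698)) (.node (.leaf 123592704) (.leaf 0))) (.node (.node (.leaf 86589440) (.leaf 0)) (.node (.leaf 79020112) (.leaf 0)))))) (.node (.node (.node (.node (.node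 (.leaf 11575296) (.leaf 51881802)) (.node (.leaf 101343232) (.leaf 0))) (.node (.node (.leaf 60088320) (.leaf 0)) (.node (.leaf 69256223) (.leaf 0)))) (.node (.node (.node (.leaf 36757504) (.leaf 166551552)) (.node (.leaf 59566812) (.leaf 0))) (.node (.node (.leaf 81567744) (.leaf 0)) (.node (.leaf 148815872) (.leaf 0))))) (.node (.node (.node (.node (.leaf 24371200) (.leaf 163299328)) (.node (.leaf 110673920) (.leaf 0))) (.node (.node (.leaf 71041024) (.leaf 0)) (.node (.leaf 41659545) (.leaf 0)))) (.node (.node (.node (.leaf 11333730) (.leaf 139478498)) (.node (.leaf 127688704) (.leaf 0))) (.node (.node (.leaf 91611136) (.leaf 0)) (.node (.leaf 154451968) (.leaf 0))))))))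

def e0T6 : NT := .node (.node (.node (.node (.node (.node (.node (.node (.leaf 81920) (.leaf 140353609)) (.node (.leaf 92897280) (.leaf 0))) (.node (.node (.leaf 3809280) (.leaf 159199674)) (.node (.leaf 34012087) (.leaf 0)))) (.node (.node (.node (.leaf 25894912) (.leaf 82832186)) (.node (.leaf 111755264) (.leaf 0))) (.node (.node (.leaf 72368128) (.leaf 0)) (.node (.leaf 30083964) (.leaf 0))))) (.node (.node (.node (.node (.leaf 13172736) (.leaf 128170390)) (.node (.leaf 71072497) (.leaf 0))) (.node (.node (.leaf 61521920) (.leaf 0)) (.node (.leaf 19726982) (.leaf 0)))) (.node (.node (.node (.leaf 16496977) (.leaf 164433033)) (.node (.leaf 109748289) (.leaf 0))) (.node (.node (.leaf 42897533) (.leaf 0)) (.node (.leaf 67596174) (.leaf 0)))))) (.node (.node (.node (.node (.node (.leaf 6684672) (.leaf 47986162)) (.node (.leaf 97714176) (.leaf 0))) (.node (.node (.leaf 55754752) (.leaf 0)) (.node (.leaf 132481024) (.leaf 0)))) (.node (.node (.node (.leaf 32120832) (.leaf 29509755)) (.node (.leaf 116162560)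 (.leaf 0))) (.node (.node (.leaf 77684736) (.leaf 0)) (.node (.leaf 146391040) (.leaf 0))))) (.node (.node (.node (.node (.leaf 19701760) (.leaf 138779513)) (.node (.leaf 107241472) (.leaf 0))) (.node (.node (.leaf 67108864) (.leaf 0)) (.node (.leaf 139714560) (.leaf 0)))) (.node (.node (.node (.leaf 44171264) (.leaf 109188887)) (.node (.leaf 121474750) (.leaf 0))) (.node (.node (.leaf 87883776) (.leaf 0)) (.node (.leaf 95929327) (.leaf 0))))))) (.node (.node (.node (.node (.node (.node (.leaf 3416064) (.leaf 108409013)) (.node (.leaf 95338496) (.leaf 0))) (.node (.node (.leaf 53002240) (.leaf 0)) (.node (.leaf 130523136) (.leaf 0)))) (.node (.node (.node (.leaf 29007872) (.leaf 131971799)) (.node (.leaf 113942528) (.leaf 0))) (.node (.node (.leaf 75022336) (.leaf 0)) (.node (.leaf 129608507) (.leaf 0))))) (.node (.node (.node (.node (.leaf 16441344) (.leaf 116393803)) (.node (.leaf 104759296) (.leaf 0))) (.node (.node (.leaf 64299008) (.leaf 0)) (.node (.leaf 137879552) (.leaf 0)))) (.node (.node (.node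 (.leaf 41189376) (.leaf 120404028)) (.node (.leaf 17007157) (.leaf 0))) (.node (.node (.leaf 74379633) (.leaf 0)) (.node (.leaf 144345666) (.leaf 0)))))) (.node (.node (.node (.node (.node (.leaf 9969664) (.leaf 132877841)) (.node (.leaf 81160088) (.leaf 0))) (.node (.node (.leaf 58630144) (.leaf 0)) (.node (.leaf 134258688) (.leaf 0)))) (.node (.node (.node (.leaf 35168256) (.leaf 75811984)) (.node (.leaf 118349824) (.leaf 0))) (.node (.node (.leaf 80273408) (.leaf 0)) (.node (.leaf 69731998) (.leaf 0))))) (.node (.node (.node (.node (.leaf 22806528) (.leaf 151053469)) (.node (.leaf 50731106) (.leaf 0))) (.node (.node (.leaf 69738496) (.leaf 0)) (.node (.leaf 15807222) (.leaf 0)))) (.node (.node (.node (.leaf 38390338) (.leaf 123151825)) (.node (.leaf 126681088) (.leaf 0))) (.node (.node (.leaf 90456064) (.leaf 0)) (.node (.leaf 114005225) (.leaf 0)))))))) (.node (.node (.node (.node (.node (.node (.node (.leaf 1753088) (.leaf 155787264)) (.node (.leaf 64523619) (.leaf 0))) (.node (.node (.leaf 51535872)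 (.leaf 0)) (.node (.leaf 23529972) (.leaf 0)))) (.node (.node (.node (.leaf 27443200) (.leaf 163431752)) (.node (.leaf 112820224) (.leaf 0))) (.node (.node (.leaf 16026158) (.leaf 0)) (.node (.leaf 35484962) (.leaf 0))))) (.node (.node (.node (.node (.leaf 14802944) (.leaf 160350208)) (.node (.leaf 103571456) (.leaf 0))) (.node (.node (.leaf 62955520) (.leaf 0)) (.node (.leaf 112341016) (.leaf 0)))) (.node (.node (.node (.leaf 39690240) (.leaf 21745606)) (.node (.leaf 121511936) (.leaf 0))) (.node (.node (.leaf 84172800) (.leaf 0)) (.node (.leaf 150298624) (.leaf 0)))))) (.node (.node (.node (.node (.node (.leaf 8331264) (.leaf 158089216)) (.node (.leaf 35553280) (.leaf 0))) (.node (.node (.leaf 57098240) (.leaf 0)) (.node (.leaf 49732047) (.leaf 0)))) (.node (.node (.node (.leaf 33693696) (.leaf 16859136)) (.node (.leaf 117219328) (.leaf 0))) (.node (.node (.leaf 57926920) (.leaf 0)) (.node (.leaf 110521053) (.leaf 0))))) (.node (.node (.node (.node (.leaf 21291008) (.leaf 149498258)) (.node (.leaf 108486656)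 (.leaf 0))) (.node (.node (.leaf 68509696) (.leaf 0)) (.node (.leaf 140697600) (.leaf 0)))) (.node (.node (.node (.leaf 36186372) (.leaf 77525816)) (.node (.leaf 125657088) (.leaf 0))) (.node (.node (.leaf 89178112) (.leaf 0)) (.node (.leaf 137443891) (.leaf 0))))))) (.node (.node (.node (.node (.node (.node (.leaf 5062656) (.leaf 123797843)) (.node (.leaf 96534528) (.leaf 0))) (.node (.node (.leaf 54386688) (.leaf 0)) (.node (.leaf 123183171) (.leaf 0)))) (.node (.node (.node (.leaf 30580736) (.leaf 42190995)) (.node (.leaf 115023872) (.leaf 0))) (.node (.node (.leaf 42441389) (.leaf 0)) (.node (.leaf 145547264) (.leaf 0))))) (.node (.node (.node (.node (.leaf 18087936) (.leaf 153487643)) (.node (.leaf 27049984) (.leaf 0))) (.node (.node (.leaf 65708032) (.leaf 0)) (.node (.leaf 135655486) (.leaf 0)))) (.node (.node (.node (.leaf 42672128) (.leaf 74039296)) (.node (.leaf 26526173) (.leaf 0))) (.node (.node (.leaf 86597632) (.leaf 0)) (.node (.leaf 27246592) (.leaf 0)))))) (.node (.node (.node (.node (.node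 (.leaf 11591680) (.leaf 124407727)) (.node (.leaf 83747486) (.leaf 0))) (.node (.node (.leaf 60104704) (.leaf 0)) (.node (.leaf 135208960) (.leaf 0)))) (.node (.node (.node (.leaf 36765696) (.leaf 60391424)) (.node (.leaf 119373824) (.leaf 0))) (.node (.node (.leaf 81584128) (.leaf 0)) (.node (.leaf 147525171) (.leaf 0))))) (.node (.node (.node (.node (.leaf 24387584) (.leaf 95841039)) (.node (.leaf 110682112) (.leaf 0))) (.node (.node (.leaf 71057408) (.leaf 0)) (.node (.leaf 141234878) (.leaf 0)))) (.node (.node (.node (.leaf 48644096) (.leaf 165877935)) (.node (.leaf 127705088) (.leaf 0))) (.node (.node (.leaf 24356330) (.leaf 0)) (.node (.leaf 68873869) (.leaf 0))))))))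

def e0T7 : NT := .node (.node (.node (.node (.node (.node (.node (.node (.leaf 90112) (.leaf 129551593)) (.node (.leaf 13406559) (.leaf 0))) (.node (.node (.leaf 50094080) (.leaf 149054063)) (.node (.leaf 105368928) (.leaf 0)))) (.node (.node (.node (.leaf 25911296) (.leaf 155423898)) (.node (.leaf 111771648) (.leaf 0))) (.node (.node (.leaf 72384512) (.leaf 0)) (.node (.leaf 20780070) (.leaf 0))))) (.node (.node (.node (.node (.leaf 13189120) (.leaf 127937480)) (.node (.leaf 53154104) (.leaf 0))) (.node (.node (.leaf 61530112) (.leaf 0)) (.node (.leaf 136118272) (.leaf 0)))) (.node (.node (.node (.leaf 38232064) (.leaf 166920192)) (.node (.leaf 120315904) (.leaf 0))) (.node (.node (.leaf 82960384) (.leaf 0)) (.node (.leaf 149512192) (.leaf 0)))))) (.node (.node (.node (.node (.node (.leaf 6692864) (.leaf 145753895)) (.node (.leaf 97722368) (.leaf 0))) (.node (.node (.leaf 20845593) (.leaf 0)) (.node (.leaf 65700694) (.leaf 0)))) (.node (.node (.node (.leaf 32137216) (.leaf 161891470)) (.node (.leaf 116170752)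 (.leaf 0))) (.node (.node (.leaf 77692928) (.leaf 0)) (.node (.leaf 43074259) (.leaf 0))))) (.node (.node (.node (.node (.leaf 19718144) (.leaf 156801386)) (.node (.leaf 59369230) (.leaf 0))) (.node (.node (.leaf 67117056) (.leaf 0)) (.node (.leaf 90911016) (.leaf 0)))) (.node (.node (.node (.leaf 44179456) (.leaf 131376933)) (.node (.leaf 70905884) (.leaf 0))) (.node (.node (.leaf 87891968) (.leaf 0)) (.node (.leaf 150596438) (.leaf 0))))))) (.node (.node (.node (.node (.node (.node (.leaf 3432448) (.leaf 45277386)) (.node (.leaf 95346688) (.leaf 0))) (.node (.node (.leaf 53018624) (.leaf 0)) (.node (.leaf 79979271) (.leaf 0)))) (.node (.node (.node (.leaf 29024256) (.leaf 160657231)) (.node (.leaf 113950720) (.leaf 0))) (.node (.node (.leaf 75038720) (.leaf 0)) (.node (.leaf 144752640) (.leaf 0))))) (.node (.node (.node (.node (.leaf 16457728) (.leaf 80841974)) (.node (.leaf 102830561) (.leaf 0))) (.node (.node (.leaf 36755883) (.leaf 0)) (.node (.leaf 137887744) (.leaf 0)))) (.node (.node (.node (.leaf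 41205760) (.leaf 153673728)) (.node (.leaf 27830737) (.leaf 0))) (.node (.node (.leaf 85344256) (.leaf 0)) (.node (.leaf 106967993) (.leaf 0)))))) (.node (.node (.node (.node (.node (.leaf 9986048) (.leaf 45906468)) (.node (.leaf 100122624) (.leaf 0))) (.node (.node (.leaf 58646528) (.leaf 0)) (.node (.leaf 134266880) (.leaf 0)))) (.node (.node (.node (.leaf 35184640) (.leaf 94886506)) (.node (.leaf 118366208) (.leaf 0))) (.node (.node (.leaf 75033208) (.leaf 0)) (.node (.leaf 147963904) (.leaf 0))))) (.node (.node (.node (.node (.leaf 22822912) (.leaf 162865152)) (.node (.leaf 109568000) (.leaf 0))) (.node (.node (.leaf 26732542) (.leaf 0)) (.node (.leaf 141492224) (.leaf 0)))) (.node (.node (.node (.leaf 47177728) (.leaf 82645390)) (.node (.leaf 126697472) (.leaf 0))) (.node (.node (.leaf 79143924) (.leaf 0)) (.node (.leaf 153804800) (.leaf 0)))))))) (.node (.node (.node (.node (.node (.node (.node (.leaf 1769472) (.leaf 110624768)) (.node (.leaf 94208000) (.leaf 0))) (.node (.node (.leaf 51552256) (.leaf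 0)) (.node (.leaf 45414464) (.leaf 0)))) (.node (.node (.node (.leaf 27459584) (.leaf 162743489)) (.node (.leaf 112836608) (.leaf 0))) (.node (.node (.leaf 2375680) (.leaf 0)) (.node (.leaf 143925248) (.leaf 0))))) (.node (.node (.node (.node (.leaf 14811136) (.leaf 22498010)) (.node (.leaf 103587840) (.leaf 0))) (.node (.node (.leaf 62971904) (.leaf 0)) (.node (.leaf 137011200) (.leaf 0)))) (.node (.node (.node (.leaf 39698432) (.leaf 162359021)) (.node (.leaf 121520128) (.leaf 0))) (.node (.node (.leaf 84180992) (.leaf 0)) (.node (.leaf 126379460) (.leaf 0)))))) (.node (.node (.node (.node (.node (.leaf 8347648) (.leaf 130668280)) (.node (.leaf 98934784) (.leaf 0))) (.node (.node (.leaf 57114624) (.leaf 0)) (.node (.leaf 133414912) (.leaf 0)))) (.node (.node (.node (.leaf 33710080) (.leaf 101137019)) (.node (.leaf 117235712) (.leaf 0))) (.node (.node (.leaf 78938112) (.leaf 0)) (.node (.leaf 147251200) (.leaf 0))))) (.node (.node (.node (.node (.leaf 21299200) (.leaf 30928404)) (.node (.leaf 47383452)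 (.leaf 0))) (.node (.node (.leaf 68517888) (.leaf 0)) (.node (.leaf 83411464) (.leaf 0)))) (.node (.node (.node (.leaf 45678592) (.leaf 167870464)) (.node (.leaf 125665280) (.leaf 0))) (.node (.node (.leaf 89194496) (.leaf 0)) (.node (.leaf 153075712) (.leaf 0))))))) (.node (.node (.node (.node (.node (.node (.leaf 5070848) (.leaf 150491963)) (.node (.leaf 75447275) (.leaf 0))) (.node (.node (.leaf 44430985) (.leaf 0)) (.node (.leaf 131588096) (.leaf 0)))) (.node (.node (.node (.leaf 30588928) (.leaf 145813209)) (.node (.leaf 115032064) (.leaf 0))) (.node (.node (.leaf 76382208) (.leaf 0)) (.node (.leaf 145563648) (.leaf 0))))) (.node (.node (.node (.node (.leaf 18096128) (.leaf 161325056)) (.node (.leaf 106061824) (.leaf 0))) (.node (.node (.leaf 65724416) (.leaf 0)) (.node (.leaf 138739712) (.leaf 0)))) (.node (.node (.node (.leaf 42680320) (.leaf 28021328)) (.node (.leaf 121992294) (.leaf 0))) (.node (.node (.leaf 86605824) (.leaf 0)) (.node (.leaf 130368145) (.leaf 0)))))) (.node (.node (.node (.node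 (.node (.leaf 11599872) (.leaf 159227904)) (.node (.leaf 101367808) (.leaf 0))) (.node (.node (.leaf 60121088) (.leaf 0)) (.node (.leaf 135217152) (.leaf 0)))) (.node (.node (.node (.leaf 36782080) (.leaf 162677391)) (.node (.leaf 104644774) (.leaf 0))) (.node (.node (.leaf 81592320) (.leaf 0)) (.node (.leaf 148832256) (.leaf 0))))) (.node (.node (.node (.node (.leaf 24403968) (.leaf 162818774)) (.node (.leaf 110690304) (.leaf 0))) (.node (.node (.leaf 35439342) (.leaf 0)) (.node (.leaf 142368768) (.leaf 0)))) (.node (.node (.node (.leaf 48652288) (.leaf 164007843)) (.node (.leaf 127713280) (.leaf 0))) (.node (.node (.leaf 9492165) (.leaf 0)) (.node (.leaf 105762812) (.leaf 0))))))))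

def e0T8 : NT := .node (.node (.node (.node (.node (.node (.node (.node (.leaf 106496) (.leaf 88698543)) (.node (.leaf 92913664) (.leaf 0))) (.node (.node (.leaf 50110464) (.leaf 98007202)) (.node (.leaf 128704512) (.leaf 0)))) (.node (.node (.node (.leaf 25919488) (.leaf 109230143)) (.node (.leaf 41554630) (.leaf 0))) (.node (.node (.leaf 10170519) (.leaf 0)) (.node (.leaf 104056226) (.leaf 0))))) (.node (.node (.node (.node (.leaf 13205504) (.leaf 149790935)) (.node (.leaf 102490112) (.leaf 0))) (.node (.node (.leaf 61546496) (.leaf 0)) (.node (.leaf 118610004) (.leaf 0)))) (.node (.node (.node (.leaf 38248448) (.leaf 165978750)) (.node (.leaf 120324096) (.leaf 0))) (.node (.node (.leaf 82968576) (.leaf 0)) (.node (.leaf 149528576) (.leaf 0)))))) (.node (.node (.node (.node (.node (.leaf 6709248) (.leaf 14077460)) (.node (.leaf 33249106) (.leaf 0))) (.node (.node (.leaf 55771136) (.leaf 0)) (.node (.leaf 65108480) (.leaf 0)))) (.node (.node (.node (.leaf 32153600) (.leaf 111339645)) (.node (.leaf 116187136)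 (.leaf 0))) (.node (.node (.leaf 77701120) (.leaf 0)) (.node (.leaf 122971767) (.leaf 0))))) (.node (.node (.node (.node (.leaf 19734528) (.leaf 50391268)) (.node (.leaf 107249664) (.leaf 0))) (.node (.node (.leaf 67125248) (.leaf 0)) (.node (.leaf 124991643) (.leaf 0)))) (.node (.node (.node (.leaf 5050546) (.leaf 161321890)) (.node (.leaf 124592128) (.leaf 0))) (.node (.node (.leaf 87908352) (.leaf 0)) (.node (.leaf 152403968) (.leaf 0))))))) (.node (.node (.node (.node (.node (.node (.leaf 3448832) (.leaf 74179649)) (.node (.leaf 95363072) (.leaf 0))) (.node (.node (.leaf 53035008) (.leaf 0)) (.node (.leaf 6405156) (.leaf 0)))) (.node (.node (.node (.leaf 29032448) (.leaf 18828047)) (.node (.leaf 113958912) (.leaf 0))) (.node (.node (.leaf 75046912) (.leaf 0)) (.node (.leaf 144760832) (.leaf 0))))) (.node (.node (.node (.node (.leaf 16465920) (.leaf 135886246)) (.node (.leaf 104775680) (.leaf 0))) (.node (.node (.leaf 6283493) (.leaf 0)) (.node (.leaf 9676067) (.leaf 0)))) (.node (.node (.node (.leaf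 41222144) (.leaf 84946146)) (.node (.leaf 122535936) (.leaf 0))) (.node (.node (.leaf 85352448) (.leaf 0)) (.node (.leaf 151068672) (.leaf 0)))))) (.node (.node (.node (.node (.node (.leaf 9994240) (.leaf 148325632)) (.node (.leaf 30289162) (.leaf 0))) (.node (.node (.leaf 58662912) (.leaf 0)) (.node (.leaf 39657522) (.leaf 0)))) (.node (.node (.node (.leaf 35201024) (.leaf 166182912)) (.node (.leaf 117324325) (.leaf 0))) (.node (.node (.leaf 46338687) (.leaf 0)) (.node (.leaf 145067161) (.leaf 0))))) (.node (.node (.node (.node (.leaf 22831104) (.leaf 123029874)) (.node (.leaf 109576192) (.leaf 0))) (.node (.node (.leaf 69746688) (.leaf 0)) (.node (.leaf 141500416) (.leaf 0)))) (.node (.node (.node (.leaf 33150411) (.leaf 144479369)) (.node (.leaf 25205055) (.leaf 0))) (.node (.node (.leaf 90472448) (.leaf 0)) (.node (.leaf 153812992) (.leaf 0)))))))) (.node (.node (.node (.node (.node (.node (.node (.leaf 1777664) (.leaf 155803648)) (.node (.leaf 94224384) (.leaf 0))) (.node (.node (.leaf 1490944) (.leaf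 0)) (.node (.leaf 32383436) (.leaf 0)))) (.node (.node (.node (.leaf 27475968) (.leaf 159905135)) (.node (.leaf 4603904) (.leaf 0))) (.node (.node (.leaf 73728000) (.leaf 0)) (.node (.leaf 125774249) (.leaf 0))))) (.node (.node (.node (.node (.leaf 14827520) (.leaf 160366592)) (.node (.leaf 72320439) (.leaf 0))) (.node (.node (.leaf 62980096) (.leaf 0)) (.node (.leaf 137019392) (.leaf 0)))) (.node (.node (.node (.leaf 39706624) (.leaf 157944018)) (.node (.leaf 121528320) (.leaf 0))) (.node (.node (.leaf 84189184) (.leaf 0)) (.node (.leaf 110098410) (.leaf 0)))))) (.node (.node (.node (.node (.node (.leaf 8355840) (.leaf 48293996)) (.node (.leaf 98942976) (.leaf 0))) (.node (.node (.leaf 33706729) (.leaf 0)) (.node (.leaf 128091163) (.leaf 0)))) (.node (.node (.node (.leaf 33718272) (.leaf 90002177)) (.node (.leaf 101192605) (.leaf 0))) (.node (.node (.leaf 78946304) (.leaf 0)) (.node (.leaf 123405861) (.leaf 0))))) (.node (.node (.node (.node (.leaf 21307392) (.leaf 146363094)) (.node (.leaf 108503040)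 (.leaf 0))) (.node (.node (.leaf 13094639) (.leaf 0)) (.node (.leaf 134887974) (.leaf 0)))) (.node (.node (.node (.leaf 42165273) (.leaf 124770358)) (.node (.leaf 83642896) (.leaf 0))) (.node (.node (.leaf 89202688) (.leaf 0)) (.node (.leaf 135389763) (.leaf 0))))))) (.node (.node (.node (.node (.node (.node (.leaf 5087232) (.leaf 157016064)) (.node (.leaf 96550912) (.leaf 0))) (.node (.node (.leaf 54403072) (.leaf 0)) (.node (.leaf 64190734) (.leaf 0)))) (.node (.node (.node (.leaf 30605312) (.leaf 110131506)) (.node (.leaf 115040256) (.leaf 0))) (.node (.node (.leaf 76398592) (.leaf 0)) (.node (.leaf 145580032) (.leaf 0))))) (.node (.node (.node (.node (.leaf 18112512) (.leaf 110986630)) (.node (.leaf 106078208) (.leaf 0))) (.node (.node (.leaf 65732608) (.leaf 0)) (.node (.leaf 138747904) (.leaf 0)))) (.node (.node (.node (.leaf 42696704) (.leaf 167534592)) (.node (.leaf 123609088) (.leaf 0))) (.node (.node (.leaf 86622208) (.leaf 0)) (.node (.leaf 151756800) (.leaf 0)))))) (.node (.node (.node (.node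 (.node (.leaf 11616256) (.leaf 25610465)) (.node (.leaf 88635067) (.leaf 0))) (.node (.node (.leaf 60137472) (.leaf 0)) (.node (.leaf 135225344) (.leaf 0)))) (.node (.node (.node (.leaf 36798464) (.leaf 166120053)) (.node (.leaf 41202916) (.leaf 0))) (.node (.node (.leaf 13240202) (.leaf 0)) (.node (.leaf 148840448) (.leaf 0))))) (.node (.node (.node (.node (.leaf 24412160) (.leaf 131070106)) (.node (.leaf 110698496) (.leaf 0))) (.node (.node (.leaf 57882211) (.leaf 0)) (.node (.leaf 134607012) (.leaf 0)))) (.node (.node (.node (.leaf 48660480) (.leaf 168034304)) (.node (.leaf 15609592) (.leaf 0))) (.node (.node (.leaf 91635712) (.leaf 0)) (.node (.leaf 154460160) (.leaf 0))))))))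

def e0T9 : NT := .node (.node (.node (.node (.node (.node (.node (.node (.leaf 114688) (.leaf 138977896)) (.node (.leaf 92930048) (.leaf 0))) (.node (.node (.leaf 50118656) (.leaf 116042460)) (.node (.leaf 128720896) (.leaf 0)))) (.node (.node (.node (.leaf 25935872) (.leaf 157512296)) (.node (.leaf 111779840) (.leaf 0))) (.node (.node (.leaf 72400896) (.leaf 0)) (.node (.leaf 143130624) (.leaf 0))))) (.node (.node (.node (.node (.leaf 13213696) (.leaf 127433667)) (.node (.leaf 41097609) (.leaf 0))) (.node (.node (.leaf 61562880) (.leaf 0)) (.node (.leaf 136134656) (.leaf 0)))) (.node (.node (.node (.leaf 32526073) (.leaf 91433514)) (.node (.leaf 76220326) (.leaf 0))) (.node (.node (.leaf 82976768) (.leaf 0)) (.node (.leaf 149544960) (.leaf 0)))))) (.node (.node (.node (.node (.node (.leaf 6717440) (.leaf 100406528)) (.node (.leaf 97730560) (.leaf 0))) (.node (.node (.leaf 55779328) (.leaf 0)) (.node (.leaf 129258272) (.leaf 0)))) (.node (.node (.node (.leaf 32161792) (.leaf 38977582)) (.node (.leaf 116195328)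 (.leaf 0))) (.node (.node (.leaf 77717504) (.leaf 0)) (.node (.leaf 146407424) (.leaf 0))))) (.node (.node (.node (.node (.leaf 19742720) (.leaf 47127536)) (.node (.leaf 107266048) (.leaf 0))) (.node (.node (.leaf 67141632) (.leaf 0)) (.node (.leaf 100804075) (.leaf 0)))) (.node (.node (.node (.leaf 44195840) (.leaf 167655375)) (.node (.leaf 124608512) (.leaf 0))) (.node (.node (.leaf 53704195) (.leaf 0)) (.node (.leaf 109913740) (.leaf 0))))))) (.node (.node (.node (.node (.node (.node (.leaf 3457024) (.leaf 147794596)) (.node (.leaf 95371264) (.leaf 0))) (.node (.node (.leaf 53043200) (.leaf 0)) (.node (.leaf 130547712) (.leaf 0)))) (.node (.node (.node (.leaf 29048832) (.leaf 48629069)) (.node (.leaf 113967104) (.leaf 0))) (.node (.node (.leaf 75063296) (.leaf 0)) (.node (.leaf 144769024) (.leaf 0))))) (.node (.node (.node (.node (.leaf 16482304) (.leaf 37976722)) (.node (.leaf 64466526) (.leaf 0))) (.node (.node (.leaf 33951785) (.leaf 0)) (.node (.leaf 137895936) (.leaf 0)))) (.node (.node (.node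 (.leaf 41230336) (.leaf 63873103)) (.node (.leaf 122544128) (.leaf 0))) (.node (.node (.leaf 85368832) (.leaf 0)) (.node (.leaf 151076864) (.leaf 0)))))) (.node (.node (.node (.node (.node (.leaf 10002432) (.leaf 158695424)) (.node (.leaf 76448977) (.leaf 0))) (.node (.node (.leaf 58671104) (.leaf 0)) (.node (.leaf 134283264) (.leaf 0)))) (.node (.node (.node (.leaf 35209216) (.leaf 166175553)) (.node (.leaf 118382592) (.leaf 0))) (.node (.node (.leaf 80281600) (.leaf 0)) (.node (.leaf 147972096) (.leaf 0))))) (.node (.node (.node (.node (.leaf 22847488) (.leaf 162873344)) (.node (.leaf 109592576) (.leaf 0))) (.node (.node (.leaf 69763072) (.leaf 0)) (.node (.leaf 141508608) (.leaf 0)))) (.node (.node (.node (.leaf 47194112) (.leaf 129483668)) (.node (.leaf 29177981) (.leaf 0))) (.node (.node (.leaf 90480640) (.leaf 0)) (.node (.leaf 146457448) (.leaf 0)))))))) (.node (.node (.node (.node (.node (.node (.node (.leaf 1794048) (.leaf 149807354)) (.node (.leaf 94232576) (.leaf 0))) (.node (.node (.leaf 51568640)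 (.leaf 0)) (.node (.leaf 89075727) (.leaf 0)))) (.node (.node (.node (.leaf 27484160) (.leaf 129868042)) (.node (.leaf 112852992) (.leaf 0))) (.node (.node (.leaf 55799595) (.leaf 0)) (.node (.leaf 143949824) (.leaf 0))))) (.node (.node (.node (.node (.leaf 14843904) (.leaf 117698352)) (.node (.leaf 41668552) (.leaf 0))) (.node (.node (.leaf 24615922) (.leaf 0)) (.node (.leaf 137027584) (.leaf 0)))) (.node (.node (.node (.leaf 39723008) (.leaf 124318129)) (.node (.leaf 121536512) (.leaf 0))) (.node (.node (.leaf 84197376) (.leaf 0)) (.node (.leaf 150323200) (.leaf 0)))))) (.node (.node (.node (.node (.node (.leaf 8372224) (.leaf 126264167)) (.node (.leaf 98951168) (.leaf 0))) (.node (.node (.leaf 20230322) (.leaf 0)) (.node (.leaf 58363697) (.leaf 0)))) (.node (.node (.node (.leaf 6221513) (.leaf 111113328)) (.node (.leaf 117252096) (.leaf 0))) (.node (.node (.leaf 78954496) (.leaf 0)) (.node (.leaf 87467113) (.leaf 0))))) (.node (.node (.node (.node (.leaf 21323776) (.leaf 162406400)) (.node (.leaf 108511232)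 (.leaf 0))) (.node (.node (.leaf 68542464) (.leaf 0)) (.node (.leaf 124306767) (.leaf 0)))) (.node (.node (.node (.leaf 45694976) (.leaf 108585282)) (.node (.leaf 94606310) (.leaf 0))) (.node (.node (.leaf 89219072) (.leaf 0)) (.node (.leaf 57391672) (.leaf 0))))))) (.node (.node (.node (.node (.node (.node (.leaf 5095424) (.leaf 157024256)) (.node (.leaf 96559104) (.leaf 0))) (.node (.node (.leaf 54419456) (.leaf 0)) (.node (.leaf 131604480) (.leaf 0)))) (.node (.node (.node (.leaf 30613504) (.leaf 149815387)) (.node (.leaf 115056640) (.leaf 0))) (.node (.node (.leaf 76406784) (.leaf 0)) (.node (.leaf 145588224) (.leaf 0))))) (.node (.node (.node (.node (.leaf 18128896) (.leaf 129114939)) (.node (.leaf 106086400) (.leaf 0))) (.node (.node (.leaf 65748992) (.leaf 0)) (.node (.leaf 138756096) (.leaf 0)))) (.node (.node (.node (.leaf 16313092) (.leaf 163021233)) (.node (.leaf 93217847) (.leaf 0))) (.node (.node (.leaf 86630400) (.leaf 0)) (.node (.leaf 147608091) (.leaf 0)))))) (.node (.node (.node (.node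 (.node (.leaf 11632640) (.leaf 63039179)) (.node (.leaf 101376000) (.leaf 0))) (.node (.node (.leaf 60145664) (.leaf 0)) (.node (.leaf 135241728) (.leaf 0)))) (.node (.node (.node (.leaf 36806656) (.leaf 137939530)) (.node (.leaf 60576507) (.leaf 0))) (.node (.node (.leaf 81608704) (.leaf 0)) (.node (.leaf 148848640) (.leaf 0))))) (.node (.node (.node (.node (.leaf 24428544) (.leaf 153637528)) (.node (.leaf 11645354) (.leaf 0))) (.node (.node (.leaf 71081984) (.leaf 0)) (.node (.leaf 124560170) (.leaf 0)))) (.node (.node (.node (.leaf 48668672) (.leaf 167892581)) (.node (.leaf 65174110) (.leaf 0))) (.node (.node (.leaf 91652096) (.leaf 0)) (.node (.leaf 154476544) (.leaf 0))))))))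

def e0T10 : NT := .node (.node (.node (.node (.node (.node (.node (.node (.leaf 131072) (.leaf 155123712)) (.node (.leaf 92946432) (.leaf 0))) (.node (.node (.leaf 50135040) (.leaf 36085760)) (.node (.leaf 128737280) (.leaf 0)))) (.node (.node (.node (.leaf 25944064) (.leaf 163692544)) (.node (.leaf 111796224) (.leaf 0))) (.node (.node (.leaf 72417280) (.leaf 0)) (.node (.leaf 133910035) (.leaf 0))))) (.node (.node (.node (.node (.leaf 13230080) (.leaf 154154584)) (.node (.leaf 102506496) (.leaf 0))) (.node (.node (.leaf 61571072) (.leaf 0)) (.node (.leaf 118630695) (.leaf 0)))) (.node (.node (.node (.leaf 38264832) (.leaf 97819511)) (.node (.leaf 120340480) (.leaf 0))) (.node (.node (.leaf 82993152) (.leaf 0)) (.node (.leaf 66061654) (.leaf 0)))))) (.node (.node (.node (.node (.node (.leaf 6733824) (.leaf 40707486)) (.node (.leaf 97746944) (.leaf 0))) (.node (.node (.leaf 55787520) (.leaf 0)) (.node (.leaf 132497408) (.leaf 0)))) (.node (.node (.node (.leaf 32178176) (.leaf 138464863)) (.node (.leaf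 113026924) (.leaf 0))) (.node (.node (.leaf 77725696) (.leaf 0)) (.node (.leaf 146423808) (.leaf 0))))) (.node (.node (.node (.node (.leaf 19759104) (.leaf 161898496)) (.node (.leaf 107274240) (.leaf 0))) (.node (.node (.leaf 67149824) (.leaf 0)) (.node (.leaf 47884770) (.leaf 0)))) (.node (.node (.node (.leaf 44212224) (.leaf 165388898)) (.node (.leaf 124616704) (.leaf 0))) (.node (.node (.leaf 87924736) (.leaf 0)) (.node (.leaf 81646016) (.leaf 0))))))) (.node (.node (.node (.node (.node (.node (.leaf 3473408) (.leaf 151062144)) (.node (.leaf 82455193) (.leaf 0))) (.node (.node (.leaf 53059584) (.leaf 0)) (.node (.leaf 16914313) (.leaf 0)))) (.node (.node (.node (.leaf 29057024) (.leaf 164732928)) (.node (.leaf 107834823) (.leaf 0))) (.node (.node (.leaf 2441216) (.leaf 0)) (.node (.leaf 144777216) (.leaf 0))))) (.node (.node (.node (.node (.leaf 11609183) (.leaf 148276690)) (.node (.leaf 21778663) (.leaf 0))) (.node (.node (.leaf 64315392) (.leaf 0)) (.node (.leaf 137912320) (.leaf 0)))) (.node (.node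 (.node (.leaf 41246720) (.leaf 113744827)) (.node (.leaf 122552320) (.leaf 0))) (.node (.node (.leaf 85385216) (.leaf 0)) (.node (.leaf 77289989) (.leaf 0)))))) (.node (.node (.node (.node (.node (.leaf 10018816) (.leaf 73810101)) (.node (.leaf 100139008) (.leaf 0))) (.node (.node (.leaf 58687488) (.leaf 0)) (.node (.leaf 134291456) (.leaf 0)))) (.node (.node (.node (.leaf 35225600) (.leaf 144944631)) (.node (.leaf 79558265) (.leaf 0))) (.node (.node (.leaf 80289792) (.leaf 0)) (.node (.leaf 134981842) (.leaf 0))))) (.node (.node (.node (.node (.leaf 16130048) (.leaf 111447967)) (.node (.leaf 68293081) (.leaf 0))) (.node (.node (.leaf 69771264) (.leaf 0)) (.node (.leaf 134511276) (.leaf 0)))) (.node (.node (.node (.leaf 47210496) (.leaf 154208557)) (.node (.leaf 126722048) (.leaf 0))) (.node (.node (.leaf 90488832) (.leaf 0)) (.node (.leaf 153829376) (.leaf 0)))))))) (.node (.node (.node (.node (.node (.node (.node (.leaf 1810432) (.leaf 152062823)) (.node (.leaf 94240768) (.leaf 0))) (.node (.node (.leaf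 1848485) (.leaf 0)) (.node (.leaf 129638400) (.leaf 0)))) (.node (.node (.node (.leaf 27492352) (.leaf 164134912)) (.node (.leaf 112861184) (.leaf 0))) (.node (.node (.leaf 73744384) (.leaf 0)) (.node (.leaf 135800834) (.leaf 0))))) (.node (.node (.node (.node (.leaf 11673600) (.leaf 136763416)) (.node (.leaf 103596032) (.leaf 0))) (.node (.node (.leaf 62996480) (.leaf 0)) (.node (.leaf 105262302) (.leaf 0)))) (.node (.node (.node (.leaf 20415012) (.leaf 123626934)) (.node (.leaf 121544704) (.leaf 0))) (.node (.node (.leaf 84213760) (.leaf 0)) (.node (.leaf 147987465) (.leaf 0)))))) (.node (.node (.node (.node (.node (.leaf 8380416) (.leaf 158105600)) (.node (.leaf 98967552) (.leaf 0))) (.node (.node (.leaf 57139200) (.leaf 0)) (.node (.leaf 104888243) (.leaf 0)))) (.node (.node (.node (.leaf 33734656) (.leaf 69299465)) (.node (.leaf 39733280) (.leaf 0))) (.node (.node (.leaf 78970880) (.leaf 0)) (.node (.leaf 147259392) (.leaf 0))))) (.node (.node (.node (.node (.leaf 21331968) (.leaf 96516730)) (.node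 (.leaf 108519424) (.leaf 0))) (.node (.node (.leaf 68550656) (.leaf 0)) (.node (.leaf 137006328) (.leaf 0)))) (.node (.node (.node (.leaf 45711360) (.leaf 149972712)) (.node (.leaf 125689856) (.leaf 0))) (.node (.node (.leaf 89235456) (.leaf 0)) (.node (.leaf 153092096) (.leaf 0))))))) (.node (.node (.node (.node (.node (.node (.leaf 5111808) (.leaf 106276201)) (.node (.leaf 96567296) (.leaf 0))) (.node (.node (.leaf 54427648) (.leaf 0)) (.node (.leaf 131612672) (.leaf 0)))) (.node (.node (.node (.leaf 30629888) (.leaf 157389227)) (.node (.leaf 115064832) (.leaf 0))) (.node (.node (.leaf 76423168) (.leaf 0)) (.node (.leaf 75313576) (.leaf 0))))) (.node (.node (.node (.node (.leaf 18137088) (.leaf 161210368)) (.node (.leaf 106094592) (.leaf 0))) (.node (.node (.leaf 20212873) (.leaf 0)) (.node (.leaf 67530224) (.leaf 0)))) (.node (.node (.node (.leaf 42713088) (.leaf 39918495)) (.node (.leaf 95945466) (.leaf 0))) (.node (.node (.leaf 86646784) (.leaf 0)) (.node (.leaf 35756603) (.leaf 0)))))) (.node (.node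 (.node (.node (.node (.leaf 286720) (.leaf 14137295)) (.node (.leaf 101392384) (.leaf 0))) (.node (.node (.leaf 60153856) (.leaf 0)) (.node (.leaf 135258112) (.leaf 0)))) (.node (.node (.node (.leaf 36823040) (.leaf 166567936)) (.node (.leaf 22231421) (.leaf 0))) (.node (.node (.leaf 49555304) (.leaf 0)) (.node (.leaf 116256668) (.leaf 0))))) (.node (.node (.node (.node (.leaf 24436736) (.leaf 91523347)) (.node (.leaf 110723072) (.leaf 0))) (.node (.node (.leaf 71090176) (.leaf 0)) (.node (.leaf 142385152) (.leaf 0)))) (.node (.node (.node (.leaf 48676864) (.leaf 167282907)) (.node (.leaf 127729664) (.leaf 0))) (.node (.node (.leaf 91660288) (.leaf 0)) (.node (.leaf 10215424) (.leaf 0))))))))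

def e0T11 : NT := .node (.node (.node (.node (.node (.node (.node (.node (.leaf 147456) (.leaf 155131904)) (.node (.leaf 92954624) (.leaf 0))) (.node (.node (.leaf 50143232) (.leaf 66323273)) (.node (.leaf 128745472) (.leaf 0)))) (.node (.node (.node (.leaf 25952256) (.leaf 163700736)) (.node (.leaf 111804416) (.leaf 0))) (.node (.node (.leaf 72425472) (.leaf 0)) (.node (.leaf 143138816) (.leaf 0))))) (.node (.node (.node (.node (.leaf 13246464) (.leaf 112850125)) (.node (.leaf 41998543) (.leaf 0))) (.node (.node (.leaf 61579264) (.leaf 0)) (.node (.leaf 136142848) (.leaf 0)))) (.node (.node (.node (.leaf 31220050) (.leaf 153371185)) (.node (.leaf 120356864) (.leaf 0))) (.node (.node (.leaf 83001344) (.leaf 0)) (.node (.leaf 149561344) (.leaf 0)))))) (.node (.node (.node (.node (.node (.leaf 6742016) (.leaf 157630464)) (.node (.leaf 97763328) (.leaf 0))) (.node (.node (.leaf 55803904) (.leaf 0)) (.node (.leaf 105737288) (.leaf 0)))) (.node (.node (.node (.leaf 32194560) (.leaf 82122224)) (.node (.leaf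 10982740) (.leaf 0))) (.node (.node (.leaf 77742080) (.leaf 0)) (.node (.leaf 146432000) (.leaf 0))))) (.node (.node (.node (.node (.leaf 19767296) (.leaf 150623788)) (.node (.leaf 107282432) (.leaf 0))) (.node (.node (.leaf 63267024) (.leaf 0)) (.node (.leaf 139747328) (.leaf 0)))) (.node (.node (.node (.leaf 29405326) (.leaf 167714816)) (.node (.leaf 124624896) (.leaf 0))) (.node (.node (.leaf 87941120) (.leaf 0)) (.node (.leaf 19616765) (.leaf 0))))))) (.node (.node (.node (.node (.node (.node (.leaf 1761741) (.leaf 140040217)) (.node (.leaf 95395840) (.leaf 0))) (.node (.node (.leaf 53067776) (.leaf 0)) (.node (.leaf 45028623) (.leaf 0)))) (.node (.node (.node (.leaf 29073408) (.leaf 153465245)) (.node (.leaf 69677317) (.leaf 0))) (.node (.node (.leaf 75079680) (.leaf 0)) (.node (.leaf 144785408) (.leaf 0))))) (.node (.node (.node (.node (.leaf 16498688) (.leaf 110414779)) (.node (.leaf 104800256) (.leaf 0))) (.node (.node (.leaf 64331776) (.leaf 0)) (.node (.leaf 56109273) (.leaf 0)))) (.node (.node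 (.node (.leaf 41263104) (.leaf 164841418)) (.node (.leaf 46553559) (.leaf 0))) (.node (.node (.leaf 85393408) (.leaf 0)) (.node (.leaf 84346971) (.leaf 0)))))) (.node (.node (.node (.node (.node (.leaf 10027008) (.leaf 146959166)) (.node (.leaf 100147200) (.leaf 0))) (.node (.node (.leaf 58695680) (.leaf 0)) (.node (.leaf 134299648) (.leaf 0)))) (.node (.node (.node (.leaf 35233792) (.leaf 162862244)) (.node (.leaf 55663020) (.leaf 0))) (.node (.node (.leaf 47973954) (.leaf 0)) (.node (.leaf 137964710) (.leaf 0))))) (.node (.node (.node (.node (.leaf 22863872) (.leaf 67219798)) (.node (.leaf 30686272) (.leaf 0))) (.node (.node (.leaf 69779456) (.leaf 0)) (.node (.leaf 89216125) (.leaf 0)))) (.node (.node (.node (.leaf 47218688) (.leaf 116552453)) (.node (.leaf 126730240) (.leaf 0))) (.node (.node (.leaf 90505216) (.leaf 0)) (.node (.leaf 153837568) (.leaf 0)))))))) (.node (.node (.node (.node (.node (.node (.node (.leaf 1818624) (.leaf 155811840)) (.node (.leaf 94248960) (.leaf 0))) (.node (.node (.leaf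 51585024) (.leaf 0)) (.node (.leaf 68772610) (.leaf 0)))) (.node (.node (.node (.leaf 27500544) (.leaf 132404726)) (.node (.leaf 112869376) (.leaf 0))) (.node (.node (.leaf 73752576) (.leaf 0)) (.node (.leaf 143958016) (.leaf 0))))) (.node (.node (.node (.node (.leaf 14860288) (.leaf 90755227)) (.node (.leaf 10588605) (.leaf 0))) (.node (.node (.leaf 63004672) (.leaf 0)) (.node (.leaf 28588683) (.leaf 0)))) (.node (.node (.node (.leaf 39739392) (.leaf 69019900)) (.node (.leaf 121552896) (.leaf 0))) (.node (.node (.leaf 84221952) (.leaf 0)) (.node (.leaf 150339584) (.leaf 0)))))) (.node (.node (.node (.node (.node (.leaf 8396800) (.leaf 158113792)) (.node (.leaf 98975744) (.leaf 0))) (.node (.node (.leaf 57155584) (.leaf 0)) (.node (.leaf 133431296) (.leaf 0)))) (.node (.node (.node (.leaf 33751040) (.leaf 156429081)) (.node (.leaf 117260288) (.leaf 0))) (.node (.node (.leaf 78979072) (.leaf 0)) (.node (.leaf 147267584) (.leaf 0))))) (.node (.node (.node (.node (.leaf 21348352) (.leaf 17220045)) (.node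 (.leaf 108527616) (.leaf 0))) (.node (.node (.leaf 64585728) (.leaf 0)) (.node (.leaf 91493881) (.leaf 0)))) (.node (.node (.node (.leaf 45719552) (.leaf 97799607)) (.node (.leaf 125698048) (.leaf 0))) (.node (.node (.leaf 5505882) (.leaf 0)) (.node (.leaf 102674340) (.leaf 0))))))) (.node (.node (.node (.node (.node (.node (.leaf 5120000) (.leaf 140139595)) (.node (.leaf 96583680) (.leaf 0))) (.node (.node (.leaf 54444032) (.leaf 0)) (.node (.leaf 131620864) (.leaf 0)))) (.node (.node (.node (.leaf 30646272) (.leaf 78779506)) (.node (.leaf 33578057) (.leaf 0))) (.node (.node (.leaf 41312256) (.leaf 0)) (.node (.leaf 145596416) (.leaf 0))))) (.node (.node (.node (.node (.leaf 18153472) (.leaf 161349632)) (.node (.leaf 78040721) (.leaf 0))) (.node (.node (.leaf 65765376) (.leaf 0)) (.node (.leaf 138780672) (.leaf 0)))) (.node (.node (.node (.leaf 42721280) (.leaf 154490174)) (.node (.leaf 123617280) (.leaf 0))) (.node (.node (.leaf 8806692) (.leaf 0)) (.node (.leaf 97835083) (.leaf 0)))))) (.node (.node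 (.node (.node (.node (.leaf 11649024) (.leaf 29719623)) (.node (.leaf 44753214) (.leaf 0))) (.node (.node (.leaf 60170240) (.leaf 0)) (.node (.leaf 135266304) (.leaf 0)))) (.node (.node (.node (.leaf 36839424) (.leaf 166576128)) (.node (.leaf 119390208) (.leaf 0))) (.node (.node (.leaf 81625088) (.leaf 0)) (.node (.leaf 107228125) (.leaf 0))))) (.node (.node (.node (.node (.leaf 24453120) (.leaf 32170455)) (.node (.leaf 110731264) (.leaf 0))) (.node (.node (.leaf 71106560) (.leaf 0)) (.node (.leaf 66786901) (.leaf 0)))) (.node (.node (.node (.leaf 48693248) (.leaf 84751056)) (.node (.leaf 61092527) (.leaf 0))) (.node (.node (.leaf 91676672) (.leaf 0)) (.node (.leaf 111284425) (.leaf 0))))))))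

def e0T12 : NT := .node (.node (.node (.node (.node (.node (.node (.node (.leaf 163840) (.leaf 80255342)) (.node (.leaf 92971008) (.leaf 0))) (.node (.node (.leaf 21387263) (.leaf 39955104)) (.node (.leaf 59542585) (.leaf 0)))) (.node (.node (.node (.leaf 15592718) (.leaf 163708928)) (.node (.leaf 111812608) (.leaf 0))) (.node (.node (.leaf 72441856) (.leaf 0)) (.node (.leaf 103557322) (.leaf 0))))) (.node (.node (.node (.node (.leaf 3442509) (.leaf 159760384)) (.node (.leaf 95727932) (.leaf 0))) (.node (.node (.leaf 61595648) (.leaf 0)) (.node (.leaf 62053334) (.leaf 0)))) (.node (.node (.node (.leaf 38281216) (.leaf 161312527)) (.node (.leaf 120365056) (.leaf 0))) (.node (.node (.leaf 83009536) (.leaf 0)) (.node (.leaf 61976742) (.leaf 0)))))) (.node (.node (.node (.node (.node (.leaf 6758400) (.leaf 30160853)) (.node (.leaf 97779712) (.leaf 0))) (.node (.node (.leaf 55820288) (.leaf 0)) (.node (.leaf 132513792) (.leaf 0)))) (.node (.node (.node (.leaf 32202752) (.leaf 143376415)) (.node (.leaf 12156928)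 (.leaf 0))) (.node (.node (.leaf 77750272) (.leaf 0)) (.node (.leaf 23955273) (.leaf 0))))) (.node (.node (.node (.node (.leaf 19783680) (.leaf 161906688)) (.node (.leaf 107298816) (.leaf 0))) (.node (.node (.leaf 67166208) (.leaf 0)) (.node (.leaf 139755520) (.leaf 0)))) (.node (.node (.node (.leaf 44228608) (.leaf 138490277)) (.node (.leaf 124641280) (.leaf 0))) (.node (.node (.leaf 87949312) (.leaf 0)) (.node (.leaf 152412160) (.leaf 0))))))) (.node (.node (.node (.node (.node (.node (.leaf 3481600) (.leaf 156442624)) (.node (.leaf 95404032) (.leaf 0))) (.node (.node (.leaf 53084160) (.leaf 0)) (.node (.leaf 120313518) (.leaf 0)))) (.node (.node (.node (.leaf 24379531) (.leaf 163276636)) (.node (.leaf 90606723) (.leaf 0))) (.node (.node (.leaf 75087872) (.leaf 0)) (.node (.leaf 120072094) (.leaf 0))))) (.node (.node (.node (.node (.leaf 16515072) (.leaf 60809332)) (.node (.leaf 104816640) (.leaf 0))) (.node (.node (.leaf 64348160) (.leaf 0)) (.node (.leaf 107671145) (.leaf 0)))) (.node (.node (.node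 (.leaf 37355520) (.leaf 156353084)) (.node (.leaf 122560512) (.leaf 0))) (.node (.node (.leaf 85401600) (.leaf 0)) (.node (.leaf 133452593) (.leaf 0)))))) (.node (.node (.node (.node (.node (.leaf 10043392) (.leaf 43806581)) (.node (.leaf 61290500) (.leaf 0))) (.node (.node (.leaf 58703872) (.leaf 0)) (.node (.leaf 134307840) (.leaf 0)))) (.node (.node (.node (.leaf 35241984) (.leaf 154472364)) (.node (.leaf 118398976) (.leaf 0))) (.node (.node (.leaf 80306176) (.leaf 0)) (.node (.leaf 49884420) (.leaf 0))))) (.node (.node (.node (.node (.leaf 22872064) (.leaf 162881536)) (.node (.leaf 102906132) (.leaf 0))) (.node (.node (.leaf 69787648) (.leaf 0)) (.node (.leaf 119705176) (.leaf 0)))) (.node (.node (.node (.leaf 35061947) (.leaf 87314825)) (.node (.leaf 126738432) (.leaf 0))) (.node (.node (.leaf 90513408) (.leaf 0)) (.node (.leaf 151972792) (.leaf 0)))))))) (.node (.node (.node (.node (.node (.node (.node (.leaf 1835008) (.leaf 80050848)) (.node (.leaf 75650654) (.leaf 0))) (.node (.node (.leaf 28923045)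 (.leaf 0)) (.node (.leaf 129654784) (.leaf 0)))) (.node (.node (.node (.leaf 27516928) (.leaf 164151296)) (.node (.leaf 112885760) (.leaf 0))) (.node (.node (.leaf 26064077) (.leaf 0)) (.node (.leaf 34918140) (.leaf 0))))) (.node (.node (.node (.node (.leaf 14876672) (.leaf 53217351)) (.node (.leaf 103612416) (.leaf 0))) (.node (.node (.leaf 63021056) (.leaf 0)) (.node (.leaf 83741414) (.leaf 0)))) (.node (.node (.node (.leaf 39755776) (.leaf 148238402)) (.node (.leaf 100958626) (.leaf 0))) (.node (.node (.leaf 84238336) (.leaf 0)) (.node (.leaf 150347776) (.leaf 0)))))) (.node (.node (.node (.node (.node (.leaf 8413184) (.leaf 37005913)) (.node (.leaf 98992128) (.leaf 0))) (.node (.node (.leaf 57171968) (.leaf 0)) (.node (.leaf 18081526) (.leaf 0)))) (.node (.node (.node (.leaf 33759232) (.leaf 125488128)) (.node (.leaf 9474699) (.leaf 0))) (.node (.node (.leaf 78995456) (.leaf 0)) (.node (.leaf 136351432) (.leaf 0))))) (.node (.node (.node (.node (.leaf 21364736) (.leaf 162414592)) (.node (.leaf 108535808)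 (.leaf 0))) (.node (.node (.leaf 68567040) (.leaf 0)) (.node (.leaf 112503620) (.leaf 0)))) (.node (.node (.node (.leaf 45735936) (.leaf 68607081)) (.node (.leaf 125714432) (.leaf 0))) (.node (.node (.leaf 89251840) (.leaf 0)) (.node (.leaf 127126255) (.leaf 0))))))) (.node (.node (.node (.node (.node (.node (.leaf 5136384) (.leaf 140805858)) (.node (.leaf 96591872) (.leaf 0))) (.node (.node (.leaf 52236063) (.leaf 0)) (.node (.leaf 101495900) (.leaf 0)))) (.node (.node (.node (.leaf 24223744) (.leaf 26993466)) (.node (.leaf 115089408) (.leaf 0))) (.node (.node (.leaf 76439552) (.leaf 0)) (.node (.leaf 142255976) (.leaf 0))))) (.node (.node (.node (.node (.leaf 18161664) (.leaf 30536345)) (.node (.leaf 103153664) (.leaf 0))) (.node (.node (.leaf 65781760) (.leaf 0)) (.node (.leaf 43932035) (.leaf 0)))) (.node (.node (.node (.leaf 42729472) (.leaf 118007086)) (.node (.leaf 123633664) (.leaf 0))) (.node (.node (.leaf 86654976) (.leaf 0)) (.node (.leaf 151764992) (.leaf 0)))))) (.node (.node (.node (.node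 (.node (.leaf 11657216) (.leaf 159236096)) (.node (.leaf 101408768) (.leaf 0))) (.node (.node (.leaf 60178432) (.leaf 0)) (.node (.leaf 135282688) (.leaf 0)))) (.node (.node (.node (.leaf 999424) (.leaf 164324734)) (.node (.leaf 119398400) (.leaf 0))) (.node (.node (.leaf 8586124) (.leaf 0)) (.node (.leaf 130459508) (.leaf 0))))) (.node (.node (.node (.node (.leaf 24461312) (.leaf 154255551)) (.node (.leaf 103817733) (.leaf 0))) (.node (.node (.leaf 3602855) (.leaf 0)) (.node (.leaf 67040222) (.leaf 0)))) (.node (.node (.node (.leaf 48701440) (.leaf 164919194)) (.node (.leaf 127746048) (.leaf 0))) (.node (.node (.leaf 91684864) (.leaf 0)) (.node (.leaf 32717578) (.leaf 0))))))))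

def e0T13 : NT := .node (.node (.node (.node (.node (.node (.node (.node (.leaf 172032) (.leaf 155140096)) (.node (.leaf 92987392) (.leaf 0))) (.node (.node (.leaf 50151424) (.leaf 167273972)) (.node (.leaf 128761856) (.leaf 0)))) (.node (.node (.node (.leaf 25968640) (.leaf 75292850)) (.node (.leaf 111820800) (.leaf 0))) (.node (.node (.leaf 72450048) (.leaf 0)) (.node (.leaf 143147008) (.leaf 0))))) (.node (.node (.node (.node (.leaf 13262848) (.leaf 159768576)) (.node (.leaf 102522880) (.leaf 0))) (.node (.node (.leaf 61612032) (.leaf 0)) (.node (.leaf 39200029) (.leaf 0)))) (.node (.node (.node (.leaf 38297600) (.leaf 166158901)) (.node (.leaf 120373248) (.leaf 0))) (.node (.node (.leaf 83025920) (.leaf 0)) (.node (.leaf 122326336) (.leaf 0)))))) (.node (.node (.node (.node (.node (.leaf 6774784) (.leaf 16065064)) (.node (.leaf 97787904) (.leaf 0))) (.node (.node (.leaf 53592064) (.leaf 0)) (.node (.leaf 28443408) (.leaf 0)))) (.node (.node (.node (.leaf 32219136) (.leaf 57896403)) (.node (.leaf 116228096)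 (.leaf 0))) (.node (.node (.leaf 77758464) (.leaf 0)) (.node (.leaf 140670529) (.leaf 0))))) (.node (.node (.node (.node (.leaf 19791872) (.leaf 161914880)) (.node (.leaf 54417713) (.leaf 0))) (.node (.node (.leaf 67174400) (.leaf 0)) (.node (.leaf 95317212) (.leaf 0)))) (.node (.node (.node (.leaf 44236800) (.leaf 88258730)) (.node (.leaf 124657664) (.leaf 0))) (.node (.node (.leaf 74748287) (.leaf 0)) (.node (.leaf 99238413) (.leaf 0))))))) (.node (.node (.node (.node (.node (.node (.leaf 3497984) (.leaf 142382800)) (.node (.leaf 89709319) (.leaf 0))) (.node (.node (.leaf 53092352) (.leaf 0)) (.node (.leaf 130564096) (.leaf 0)))) (.node (.node (.node (.leaf 29089792) (.leaf 60100829)) (.node (.leaf 34325514) (.leaf 0))) (.node (.node (.leaf 75096064) (.leaf 0)) (.node (.leaf 103750074) (.leaf 0))))) (.node (.node (.node (.node (.leaf 16523264) (.leaf 160915456)) (.node (.leaf 12356797) (.leaf 0))) (.node (.node (.leaf 64356352) (.leaf 0)) (.node (.leaf 69850046) (.leaf 0)))) (.node (.node (.node (.leaf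 41279488) (.leaf 137861725)) (.node (.leaf 122568704) (.leaf 0))) (.node (.node (.leaf 85409792) (.leaf 0)) (.node (.leaf 122908373) (.leaf 0)))))) (.node (.node (.node (.node (.node (.leaf 10051584) (.leaf 158703616)) (.node (.leaf 100171776) (.leaf 0))) (.node (.node (.leaf 58720256) (.leaf 0)) (.node (.leaf 100288696) (.leaf 0)))) (.node (.node (.node (.leaf 35258368) (.leaf 166207488)) (.node (.leaf 57755960) (.leaf 0))) (.node (.node (.leaf 80314368) (.leaf 0)) (.node (.leaf 101158765) (.leaf 0))))) (.node (.node (.node (.node (.leaf 22888448) (.leaf 162889728)) (.node (.leaf 109617152) (.leaf 0))) (.node (.node (.leaf 69804032) (.leaf 0)) (.node (.leaf 141541376) (.leaf 0)))) (.node (.node (.node (.leaf 47243264) (.leaf 167238360)) (.node (.leaf 126746624) (.leaf 0))) (.node (.node (.leaf 6640895) (.leaf 0)) (.node (.leaf 28211736) (.leaf 0)))))))) (.node (.node (.node (.node (.node (.node (.node (.leaf 1851392) (.leaf 85438499)) (.node (.leaf 94265344) (.leaf 0))) (.node (.node (.leaf 51609600)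 (.leaf 0)) (.node (.leaf 129279284) (.leaf 0)))) (.node (.node (.node (.leaf 27533312) (.leaf 164159488)) (.node (.leaf 112902144) (.leaf 0))) (.node (.node (.leaf 73768960) (.leaf 0)) (.node (.leaf 143974400) (.leaf 0))))) (.node (.node (.node (.node (.leaf 14884864) (.leaf 133796029)) (.node (.leaf 103620608) (.leaf 0))) (.node (.node (.leaf 63029248) (.leaf 0)) (.node (.leaf 133602433) (.leaf 0)))) (.node (.node (.node (.leaf 39763968) (.leaf 148985897)) (.node (.leaf 121561088) (.leaf 0))) (.node (.node (.leaf 84246528) (.leaf 0)) (.node (.leaf 150355968) (.leaf 0)))))) (.node (.node (.node (.node (.node (.leaf 8421376) (.leaf 134536124)) (.node (.leaf 99008512) (.leaf 0))) (.node (.node (.leaf 57180160) (.leaf 0)) (.node (.leaf 133455872) (.leaf 0)))) (.node (.node (.node (.leaf 33775616) (.leaf 126863380)) (.node (.leaf 52031885) (.leaf 0))) (.node (.node (.leaf 79003648) (.leaf 0)) (.node (.leaf 147275776) (.leaf 0))))) (.node (.node (.node (.node (.leaf 21372928) (.leaf 98455364)) (.node (.leaf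 108544000) (.leaf 0))) (.node (.node (.leaf 68583424) (.leaf 0)) (.node (.leaf 140722176) (.leaf 0)))) (.node (.node (.node (.leaf 45744128) (.leaf 151599193)) (.node (.leaf 125730816) (.leaf 0))) (.node (.node (.leaf 89268224) (.leaf 0)) (.node (.leaf 129062975) (.leaf 0))))))) (.node (.node (.node (.node (.node (.node (.leaf 5152768) (.leaf 157032448)) (.node (.leaf 96600064) (.leaf 0))) (.node (.node (.leaf 54460416) (.leaf 0)) (.node (.leaf 126830826) (.leaf 0)))) (.node (.node (.node (.leaf 30662656) (.leaf 126695633)) (.node (.leaf 77912021) (.leaf 0))) (.node (.node (.leaf 49209344) (.leaf 0)) (.node (.leaf 145604608) (.leaf 0))))) (.node (.node (.node (.node (.leaf 18178048) (.leaf 129428837)) (.node (.leaf 106119168) (.leaf 0))) (.node (.node (.leaf 65789952) (.leaf 0)) (.node (.leaf 138797056) (.leaf 0)))) (.node (.node (.node (.leaf 42745856) (.leaf 43378267)) (.node (.leaf 89827067) (.leaf 0))) (.node (.node (.leaf 86663168) (.leaf 0)) (.node (.leaf 58474782) (.leaf 0)))))) (.node (.node (.node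 (.node (.node (.leaf 11567936) (.leaf 159252480)) (.node (.leaf 101416960) (.leaf 0))) (.node (.node (.leaf 60194816) (.leaf 0)) (.node (.leaf 135290880) (.leaf 0)))) (.node (.node (.node (.leaf 36847616) (.leaf 26511321)) (.node (.leaf 68978137) (.leaf 0))) (.node (.node (.leaf 39052146) (.leaf 0)) (.node (.leaf 148856832) (.leaf 0))))) (.node (.node (.node (.node (.leaf 24477696) (.leaf 74650877)) (.node (.leaf 76779611) (.leaf 0))) (.node (.node (.leaf 71122944) (.leaf 0)) (.node (.leaf 142393344) (.leaf 0)))) (.node (.node (.node (.leaf 48709632) (.leaf 96118542)) (.node (.leaf 115085960) (.leaf 0))) (.node (.node (.leaf 80553401) (.leaf 0)) (.node (.leaf 154158655) (.leaf 0))))))))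

def e0T14 : NT := .node (.node (.node (.node (.node (.node (.node (.node (.leaf 188416) (.leaf 40805612)) (.node (.leaf 3317760) (.leaf 0))) (.node (.node (.leaf 50159616) (.leaf 132586305)) (.node (.leaf 8752225) (.leaf 0)))) (.node (.node (.node (.leaf 25985024) (.leaf 163717120)) (.node (.leaf 111837184) (.leaf 0))) (.node (.node (.leaf 72458240) (.leaf 0)) (.node (.leaf 105047465) (.leaf 0))))) (.node (.node (.node (.node (.leaf 13271040) (.leaf 67764864)) (.node (.leaf 102531072) (.leaf 0))) (.node (.node (.leaf 6491840) (.leaf 0)) (.node (.leaf 136151040) (.leaf 0)))) (.node (.node (.node (.leaf 38313984) (.leaf 155009257)) (.node (.leaf 120389632) (.leaf 0))) (.node (.node (.leaf 83034112) (.leaf 0)) (.node (.leaf 149577728) (.leaf 0)))))) (.node (.node (.node (.node (.node (.leaf 6782976) (.leaf 149138311)) (.node (.leaf 97804288) (.leaf 0))) (.node (.node (.leaf 37275584) (.leaf 0)) (.node (.leaf 132521984) (.leaf 0)))) (.node (.node (.node (.leaf 32227328) (.leaf 98331947)) (.node (.leaf 12890790)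 (.leaf 0))) (.node (.node (.leaf 77774848) (.leaf 0)) (.node (.leaf 146448384) (.leaf 0))))) (.node (.node (.node (.node (.leaf 19808256) (.leaf 115579295)) (.node (.leaf 107315200) (.leaf 0))) (.node (.node (.leaf 67182592) (.leaf 0)) (.node (.leaf 139763712) (.leaf 0)))) (.node (.node (.node (.leaf 44253184) (.leaf 46597657)) (.node (.leaf 75843792) (.leaf 0))) (.node (.node (.leaf 87965696) (.leaf 0)) (.node (.leaf 152420352) (.leaf 0))))))) (.node (.node (.node (.node (.node (.node (.leaf 3506176) (.leaf 156450816)) (.node (.leaf 95412224) (.leaf 0))) (.node (.node (.leaf 53100544) (.leaf 0)) (.node (.leaf 98810018) (.leaf 0)))) (.node (.node (.node (.leaf 29106176) (.leaf 164741120)) (.node (.leaf 38653226) (.leaf 0))) (.node (.node (.leaf 75104256) (.leaf 0)) (.node (.leaf 127067497) (.leaf 0))))) (.node (.node (.node (.node (.leaf 6208466) (.leaf 151538263)) (.node (.leaf 104833024) (.leaf 0))) (.node (.node (.leaf 17182180) (.leaf 0)) (.node (.leaf 137928704) (.leaf 0)))) (.node (.node (.node (.leaf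 41287680) (.leaf 109382761)) (.node (.leaf 122576896) (.leaf 0))) (.node (.node (.leaf 85426176) (.leaf 0)) (.node (.leaf 76375091) (.leaf 0)))))) (.node (.node (.node (.node (.node (.leaf 10059776) (.leaf 158711808)) (.node (.leaf 100188160) (.leaf 0))) (.node (.node (.leaf 58728448) (.leaf 0)) (.node (.leaf 133136384) (.leaf 0)))) (.node (.node (.node (.leaf 35274752) (.leaf 121133639)) (.node (.leaf 5029888) (.leaf 0))) (.node (.node (.leaf 36313224) (.leaf 0)) (.node (.leaf 147996672) (.leaf 0))))) (.node (.node (.node (.node (.leaf 22904832) (.leaf 127514501)) (.node (.leaf 109625344) (.leaf 0))) (.node (.node (.leaf 69820416) (.leaf 0)) (.node (.leaf 141557760) (.leaf 0)))) (.node (.node (.node (.leaf 47251456) (.leaf 145526559)) (.node (.leaf 125844423) (.leaf 0))) (.node (.node (.leaf 90521600) (.leaf 0)) (.node (.leaf 37466072) (.leaf 0)))))))) (.node (.node (.node (.node (.node (.node (.node (.leaf 1859584) (.leaf 155828224)) (.node (.leaf 21013794) (.leaf 0))) (.node (.node (.leaf 51617792)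 (.leaf 0)) (.node (.leaf 48988300) (.leaf 0)))) (.node (.node (.node (.leaf 27541504) (.leaf 156112604)) (.node (.leaf 112918528) (.leaf 0))) (.node (.node (.leaf 73785344) (.leaf 0)) (.node (.leaf 143982592) (.leaf 0))))) (.node (.node (.node (.node (.leaf 7051250) (.leaf 38047819)) (.node (.leaf 103636992) (.leaf 0))) (.node (.node (.leaf 63045632) (.leaf 0)) (.node (.leaf 137068544) (.leaf 0)))) (.node (.node (.node (.leaf 39780352) (.leaf 119560886)) (.node (.leaf 121569280) (.leaf 0))) (.node (.node (.leaf 42654091) (.leaf 0)) (.node (.leaf 150372352) (.leaf 0)))))) (.node (.node (.node (.node (.node (.leaf 8437760) (.leaf 35964474)) (.node (.leaf 99024896) (.leaf 0))) (.node (.node (.leaf 57188352) (.leaf 0)) (.node (.leaf 133464064) (.leaf 0)))) (.node (.node (.node (.leaf 33792000) (.leaf 40002549)) (.node (.leaf 117276672) (.leaf 0))) (.node (.node (.leaf 79011840) (.leaf 0)) (.node (.leaf 97064566) (.leaf 0))))) (.node (.node (.node (.node (.leaf 21389312) (.leaf 124984047)) (.node (.leaf 108560384)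 (.leaf 0))) (.node (.node (.leaf 68591616) (.leaf 0)) (.node (.leaf 131114127) (.leaf 0)))) (.node (.node (.node (.leaf 45760512) (.leaf 165840396)) (.node (.leaf 125747200) (.leaf 0))) (.node (.node (.leaf 89284608) (.leaf 0)) (.node (.leaf 149233956) (.leaf 0))))))) (.node (.node (.node (.node (.node (.node (.leaf 5160960) (.leaf 157040640)) (.node (.leaf 96608256) (.leaf 0))) (.node (.node (.leaf 54468608) (.leaf 0)) (.node (.leaf 131645440) (.leaf 0)))) (.node (.node (.node (.leaf 30670848) (.leaf 158655765)) (.node (.leaf 115105792) (.leaf 0))) (.node (.node (.leaf 76455936) (.leaf 0)) (.node (.leaf 145620992) (.leaf 0))))) (.node (.node (.node (.node (.leaf 18186240) (.leaf 125651673)) (.node (.leaf 106127360) (.leaf 0))) (.node (.node (.leaf 65798144) (.leaf 0)) (.node (.leaf 125089798) (.leaf 0)))) (.node (.node (.node (.leaf 42754048) (.leaf 166061606)) (.node (.leaf 123650048) (.leaf 0))) (.node (.node (.leaf 86671360) (.leaf 0)) (.node (.leaf 151773184) (.leaf 0)))))) (.node (.node (.node (.node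 (.node (.leaf 11681792) (.leaf 149749911)) (.node (.leaf 101433344) (.leaf 0))) (.node (.node (.leaf 60203008) (.leaf 0)) (.node (.leaf 87071072) (.leaf 0)))) (.node (.node (.node (.leaf 36855808) (.leaf 166600704)) (.node (.leaf 35217719) (.leaf 0))) (.node (.node (.leaf 81649664) (.leaf 0)) (.node (.leaf 147309259) (.leaf 0))))) (.node (.node (.node (.node (.leaf 24494080) (.leaf 14237696)) (.node (.leaf 87224091) (.leaf 0))) (.node (.node (.leaf 71139328) (.leaf 0)) (.node (.leaf 142409728) (.leaf 0)))) (.node (.node (.node (.leaf 48726016) (.leaf 166787415)) (.node (.leaf 127754240) (.leaf 0))) (.node (.node (.leaf 91701248) (.leaf 0)) (.node (.leaf 133918007) (.leaf 0))))))))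

def e0T15 : NT := .node (.node (.node (.node (.node (.node (.node (.node (.leaf 204800) (.leaf 21423807)) (.node (.leaf 93003776) (.leaf 0))) (.node (.node (.leaf 50167808) (.leaf 165064957)) (.node (.leaf 6004736) (.leaf 0)))) (.node (.node (.node (.leaf 25993216) (.leaf 161997370)) (.node (.leaf 56568908) (.leaf 0))) (.node (.node (.leaf 72474624) (.leaf 0)) (.node (.leaf 143155200) (.leaf 0))))) (.node (.node (.node (.node (.leaf 13287424) (.leaf 35465321)) (.node (.leaf 102547456) (.leaf 0))) (.node (.node (.leaf 61628416) (.leaf 0)) (.node (.leaf 136159232) (.leaf 0)))) (.node (.node (.node (.leaf 1048576) (.leaf 85660254)) (.node (.leaf 120406016) (.leaf 0))) (.node (.node (.leaf 21189978) (.leaf 0)) (.node (.leaf 130722091) (.leaf 0)))))) (.node (.node (.node (.node (.node (.leaf 6799360) (.leaf 87554614)) (.node (.leaf 20961376) (.leaf 0))) (.node (.node (.leaf 55836672) (.leaf 0)) (.node (.leaf 49477637) (.leaf 0)))) (.node (.node (.node (.leaf 19061689) (.leaf 118247405)) (.node (.leaf 82226366)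 (.leaf 0))) (.node (.node (.leaf 77791232) (.leaf 0)) (.node (.leaf 146464768) (.leaf 0))))) (.node (.node (.node (.node (.leaf 19816448) (.leaf 60286558)) (.node (.leaf 57320351) (.leaf 0))) (.node (.node (.leaf 67198976) (.leaf 0)) (.node (.leaf 139780096) (.leaf 0)))) (.node (.node (.node (.leaf 44269568) (.leaf 99668310)) (.node (.leaf 124665856) (.leaf 0))) (.node (.node (.leaf 87973888) (.leaf 0)) (.node (.leaf 16692863) (.leaf 0))))))) (.node (.node (.node (.node (.node (.node (.leaf 3522560) (.leaf 156459008)) (.node (.leaf 95428608) (.leaf 0))) (.node (.node (.leaf 17487746) (.leaf 0)) (.node (.leaf 130572288) (.leaf 0)))) (.node (.node (.node (.leaf 29114368) (.leaf 163628905)) (.node (.leaf 43655168) (.leaf 0))) (.node (.node (.leaf 75120640) (.leaf 0)) (.node (.leaf 144801792) (.leaf 0))))) (.node (.node (.node (.node (.leaf 16547840) (.leaf 91010587)) (.node (.leaf 104841216) (.leaf 0))) (.node (.node (.leaf 3149966) (.leaf 0)) (.node (.leaf 8839949) (.leaf 0)))) (.node (.node (.node (.leaf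 41304064) (.leaf 131998533)) (.node (.leaf 122593280) (.leaf 0))) (.node (.node (.leaf 43176244) (.leaf 0)) (.node (.leaf 146907160) (.leaf 0)))))) (.node (.node (.node (.node (.node (.leaf 10076160) (.leaf 158720000)) (.node (.leaf 100196352) (.leaf 0))) (.node (.node (.leaf 58744832) (.leaf 0)) (.node (.leaf 134324224) (.leaf 0)))) (.node (.node (.node (.leaf 35282944) (.leaf 159759519)) (.node (.leaf 118415360) (.leaf 0))) (.node (.node (.leaf 10073192) (.leaf 0)) (.node (.leaf 148013056) (.leaf 0))))) (.node (.node (.node (.node (.leaf 22913024) (.leaf 141469541)) (.node (.leaf 109641728) (.leaf 0))) (.node (.node (.leaf 69828608) (.leaf 0)) (.node (.leaf 20681835) (.leaf 0)))) (.node (.node (.node (.leaf 47259648) (.leaf 81281577)) (.node (.leaf 126763008) (.leaf 0))) (.node (.node (.leaf 90529792) (.leaf 0)) (.node (.leaf 153853952) (.leaf 0)))))))) (.node (.node (.node (.node (.node (.node (.node (.leaf 1875968) (.leaf 155836416)) (.node (.leaf 73943124) (.leaf 0))) (.node (.node (.leaf 51634176)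 (.leaf 0)) (.node (.leaf 57263224) (.leaf 0)))) (.node (.node (.node (.leaf 27557888) (.leaf 145081181)) (.node (.leaf 112926720) (.leaf 0))) (.node (.node (.leaf 21616001) (.leaf 0)) (.node (.leaf 42092098) (.leaf 0))))) (.node (.node (.node (.node (.leaf 14505779) (.leaf 160374784)) (.node (.leaf 103645184) (.leaf 0))) (.node (.node (.leaf 63053824) (.leaf 0)) (.node (.leaf 34867346) (.leaf 0)))) (.node (.node (.node (.leaf 39788544) (.leaf 167190528)) (.node (.leaf 115799480) (.leaf 0))) (.node (.node (.leaf 84254720) (.leaf 0)) (.node (.leaf 150388736) (.leaf 0)))))) (.node (.node (.node (.node (.node (.leaf 8445952) (.leaf 131943571)) (.node (.leaf 99033088) (.leaf 0))) (.node (.node (.leaf 57204736) (.leaf 0)) (.node (.leaf 86245376) (.leaf 0)))) (.node (.node (.node (.leaf 33800192) (.leaf 160298226)) (.node (.leaf 117284864) (.leaf 0))) (.node (.node (.leaf 79028224) (.leaf 0)) (.node (.leaf 64668091) (.leaf 0))))) (.node (.node (.node (.node (.leaf 21397504) (.leaf 159812364)) (.node (.leaf 6832413)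 (.leaf 0))) (.node (.node (.leaf 68608000) (.leaf 0)) (.node (.leaf 57918776) (.leaf 0)))) (.node (.node (.node (.leaf 45776896) (.leaf 146002696)) (.node (.leaf 125755392) (.leaf 0))) (.node (.node (.leaf 89300992) (.leaf 0)) (.node (.leaf 55326633) (.leaf 0))))))) (.node (.node (.node (.node (.node (.node (.leaf 5177344) (.leaf 157048832)) (.node (.leaf 96624640) (.leaf 0))) (.node (.node (.leaf 54476800) (.leaf 0)) (.node (.leaf 131661824) (.leaf 0)))) (.node (.node (.node (.leaf 30687232) (.leaf 49175581)) (.node (.leaf 115113984) (.leaf 0))) (.node (.node (.leaf 21447784) (.leaf 0)) (.node (.leaf 74892827) (.leaf 0))))) (.node (.node (.node (.node (.leaf 18202624) (.leaf 155120950)) (.node (.leaf 16475372) (.leaf 0))) (.node (.node (.leaf 65814528) (.leaf 0)) (.node (.leaf 103982473) (.leaf 0)))) (.node (.node (.node (.leaf 42770432) (.leaf 79806726)) (.node (.leaf 123666432) (.leaf 0))) (.node (.node (.leaf 44984518) (.leaf 0)) (.node (.leaf 151781376) (.leaf 0)))))) (.node (.node (.node (.node (.node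 (.leaf 11689984) (.leaf 159260672)) (.node (.leaf 101441536) (.leaf 0))) (.node (.node (.leaf 60211200) (.leaf 0)) (.node (.leaf 135299072) (.leaf 0)))) (.node (.node (.node (.leaf 36872192) (.leaf 32188866)) (.node (.leaf 88790681) (.leaf 0))) (.node (.node (.leaf 81666048) (.leaf 0)) (.node (.leaf 148865024) (.leaf 0))))) (.node (.node (.node (.node (.leaf 24502272) (.leaf 163315712)) (.node (.leaf 110747648) (.leaf 0))) (.node (.node (.leaf 71147520) (.leaf 0)) (.node (.leaf 142417920) (.leaf 0)))) (.node (.node (.node (.leaf 48734208) (.leaf 64784333)) (.node (.leaf 127762432) (.leaf 0))) (.node (.node (.leaf 64155319) (.leaf 0)) (.node (.leaf 154501120) (.leaf 0))))))))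

def e0T16 : NT := .node (.node (.node (.node (.node (.node (.node (.node (.leaf 212992) (.leaf 155148288)) (.node (.leaf 93011968) (.leaf 0))) (.node (.node (.leaf 50184192) (.leaf 143556650)) (.node (.leaf 128770048) (.leaf 0)))) (.node (.node (.node (.leaf 26009600) (.leaf 70721595)) (.node (.leaf 111845376) (.leaf 0))) (.node (.node (.leaf 23327597) (.leaf 0)) (.node (.leaf 143163392) (.leaf 0))))) (.node (.node (.node (.node (.leaf 13303808) (.leaf 76048368)) (.node (.leaf 102555648) (.leaf 0))) (.node (.node (.leaf 61644800) (.leaf 0)) (.node (.leaf 83916780) (.leaf 0)))) (.node (.node (.node (.leaf 38338560) (.leaf 166928384)) (.node (.leaf 120414208) (.leaf 0))) (.node (.node (.leaf 83042304) (.leaf 0)) (.node (.leaf 149585920) (.leaf 0)))))) (.node (.node (.node (.node (.node (.leaf 6807552) (.leaf 157655040)) (.node (.leaf 97820672) (.leaf 0))) (.node (.node (.leaf 55844864) (.leaf 0)) (.node (.leaf 132538368) (.leaf 0)))) (.node (.node (.node (.leaf 32251904) (.leaf 155626150)) (.node (.leaf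 94625898) (.leaf 0))) (.node (.node (.leaf 77799424) (.leaf 0)) (.node (.leaf 146472960) (.leaf 0))))) (.node (.node (.node (.node (.leaf 19832832) (.leaf 24814373)) (.node (.leaf 107331584) (.leaf 0))) (.node (.node (.leaf 16799279) (.leaf 0)) (.node (.leaf 22705472) (.leaf 0)))) (.node (.node (.node (.leaf 44277760) (.leaf 166306917)) (.node (.leaf 120044423) (.leaf 0))) (.node (.node (.leaf 87982080) (.leaf 0)) (.node (.leaf 145217093) (.leaf 0))))))) (.node (.node (.node (.node (.node (.node (.leaf 3538944) (.leaf 72086959)) (.node (.leaf 95436800) (.leaf 0))) (.node (.node (.leaf 1548288) (.leaf 0)) (.node (.leaf 29352798) (.leaf 0)))) (.node (.node (.node (.leaf 5240009) (.leaf 143679622)) (.node (.leaf 114008064) (.leaf 0))) (.node (.node (.leaf 75128832) (.leaf 0)) (.node (.leaf 144809984) (.leaf 0))))) (.node (.node (.node (.node (.leaf 16564224) (.leaf 69469623)) (.node (.leaf 42809109) (.leaf 0))) (.node (.node (.leaf 64380928) (.leaf 0)) (.node (.leaf 88761911) (.leaf 0)))) (.node (.node (.node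 (.leaf 41320448) (.leaf 111437691)) (.node (.leaf 122601472) (.leaf 0))) (.node (.node (.leaf 85442560) (.leaf 0)) (.node (.leaf 103435158) (.leaf 0)))))) (.node (.node (.node (.node (.node (.leaf 10092544) (.leaf 158728192)) (.node (.leaf 100212736) (.leaf 0))) (.node (.node (.leaf 58761216) (.leaf 0)) (.node (.leaf 104181534) (.leaf 0)))) (.node (.node (.node (.leaf 35299328) (.leaf 148510902)) (.node (.leaf 118423552) (.leaf 0))) (.node (.node (.leaf 46150271) (.leaf 0)) (.node (.leaf 75141278) (.leaf 0))))) (.node (.node (.node (.node (.leaf 22929408) (.leaf 151467758)) (.node (.leaf 71049657) (.leaf 0))) (.node (.node (.leaf 69836800) (.leaf 0)) (.node (.leaf 141565952) (.leaf 0)))) (.node (.node (.node (.leaf 47276032) (.leaf 94189703)) (.node (.leaf 65193021) (.leaf 0))) (.node (.node (.leaf 90537984) (.leaf 0)) (.node (.leaf 153862144) (.leaf 0)))))))) (.node (.node (.node (.node (.node (.node (.node (.leaf 1884160) (.leaf 44385244)) (.node (.leaf 94289920) (.leaf 0))) (.node (.node (.leaf 51650560)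 (.leaf 0)) (.node (.leaf 38071443) (.leaf 0)))) (.node (.node (.node (.leaf 27566080) (.leaf 140043671)) (.node (.leaf 112934912) (.leaf 0))) (.node (.node (.leaf 73801728) (.leaf 0)) (.node (.leaf 23378962) (.leaf 0))))) (.node (.node (.node (.node (.leaf 14909440) (.leaf 160382976)) (.node (.leaf 103653376) (.leaf 0))) (.node (.node (.leaf 63070208) (.leaf 0)) (.node (.leaf 113668784) (.leaf 0)))) (.node (.node (.node (.leaf 39796736) (.leaf 111690246)) (.node (.leaf 121585664) (.leaf 0))) (.node (.node (.leaf 15553876) (.leaf 0)) (.node (.leaf 129371244) (.leaf 0)))))) (.node (.node (.node (.node (.node (.leaf 8462336) (.leaf 158121984)) (.node (.leaf 99041280) (.leaf 0))) (.node (.node (.leaf 57212928) (.leaf 0)) (.node (.leaf 40737515) (.leaf 0)))) (.node (.node (.node (.leaf 33816576) (.leaf 42706828)) (.node (.leaf 117293056) (.leaf 0))) (.node (.node (.leaf 79036416) (.leaf 0)) (.node (.leaf 131920872) (.leaf 0))))) (.node (.node (.node (.node (.leaf 21413888) (.leaf 124605991)) (.node (.leaf 108576768)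 (.leaf 0))) (.node (.node (.leaf 68616192) (.leaf 0)) (.node (.leaf 104903950) (.leaf 0)))) (.node (.node (.node (.leaf 45785088) (.leaf 145334630)) (.node (.leaf 118566198) (.leaf 0))) (.node (.node (.leaf 89309184) (.leaf 0)) (.node (.leaf 153108480) (.leaf 0))))))) (.node (.node (.node (.node (.node (.node (.leaf 5185536) (.leaf 11042816)) (.node (.leaf 28857502) (.leaf 0))) (.node (.node (.leaf 54493184) (.leaf 0)) (.node (.leaf 109722591) (.leaf 0)))) (.node (.node (.node (.leaf 30703616) (.leaf 165109760)) (.node (.leaf 72681672) (.leaf 0))) (.node (.node (.leaf 76472320) (.leaf 0)) (.node (.leaf 145645568) (.leaf 0))))) (.node (.node (.node (.node (.leaf 18219008) (.leaf 152725475)) (.node (.leaf 106151936) (.leaf 0))) (.node (.node (.leaf 57616289) (.leaf 0)) (.node (.leaf 48433963) (.leaf 0)))) (.node (.node (.node (.leaf 42786816) (.leaf 161155673)) (.node (.leaf 62674852) (.leaf 0))) (.node (.node (.leaf 86695936) (.leaf 0)) (.node (.leaf 137924139) (.leaf 0)))))) (.node (.node (.node (.node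 (.node (.leaf 11706368) (.leaf 152841256)) (.node (.leaf 101449728) (.leaf 0))) (.node (.node (.leaf 60227584) (.leaf 0)) (.node (.leaf 49625074) (.leaf 0)))) (.node (.node (.node (.leaf 36888576) (.leaf 165868054)) (.node (.leaf 5128192) (.leaf 0))) (.node (.node (.leaf 81674240) (.leaf 0)) (.node (.leaf 124654682) (.leaf 0))))) (.node (.node (.node (.node (.leaf 24518656) (.leaf 63564988)) (.node (.leaf 110764032) (.leaf 0))) (.node (.node (.leaf 22653530) (.leaf 0)) (.node (.leaf 142426112) (.leaf 0)))) (.node (.node (.node (.leaf 48750592) (.leaf 31655538)) (.node (.leaf 127770624) (.leaf 0))) (.node (.node (.leaf 61447191) (.leaf 0)) (.node (.leaf 100504194) (.leaf 0))))))))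

def e0T17 : NT := .node (.node (.node (.node (.node (.node (.node (.node (.leaf 229376) (.leaf 25067838)) (.node (.leaf 93028352) (.leaf 0))) (.node (.node (.leaf 50192384) (.leaf 145871645)) (.node (.leaf 128786432) (.leaf 0)))) (.node (.node (.node (.leaf 26017792) (.leaf 163725312)) (.node (.leaf 111861760) (.leaf 0))) (.node (.node (.leaf 72491008) (.leaf 0)) (.node (.leaf 83248833) (.leaf 0))))) (.node (.node (.node (.node (.leaf 13312000) (.leaf 102069868)) (.node (.leaf 102563840) (.leaf 0))) (.node (.node (.leaf 61661184) (.leaf 0)) (.node (.leaf 136167424) (.leaf 0)))) (.node (.node (.node (.leaf 38346752) (.leaf 81700214)) (.node (.leaf 120422400) (.leaf 0))) (.node (.node (.leaf 83058688) (.leaf 0)) (.node (.leaf 20263985) (.leaf 0)))))) (.node (.node (.node (.node (.node (.leaf 6823936) (.leaf 157663232)) (.node (.leaf 68430959) (.leaf 0))) (.node (.node (.leaf 55861248) (.leaf 0)) (.node (.leaf 48806404) (.leaf 0)))) (.node (.node (.node (.leaf 32260096) (.leaf 165519360)) (.node (.leaf 116244480)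 (.leaf 0))) (.node (.node (.leaf 77807616) (.leaf 0)) (.node (.leaf 146481152) (.leaf 0))))) (.node (.node (.node (.node (.leaf 19849216) (.leaf 56213509)) (.node (.leaf 107339776) (.leaf 0))) (.node (.node (.leaf 67207168) (.leaf 0)) (.node (.leaf 139788288) (.leaf 0)))) (.node (.node (.node (.leaf 44285952) (.leaf 53544887)) (.node (.leaf 118381651) (.leaf 0))) (.node (.node (.leaf 51049079) (.leaf 0)) (.node (.leaf 116957360) (.leaf 0))))))) (.node (.node (.node (.node (.node (.node (.leaf 3547136) (.leaf 156467200)) (.node (.leaf 95453184) (.leaf 0))) (.node (.node (.leaf 53116928) (.leaf 0)) (.node (.leaf 102247365) (.leaf 0)))) (.node (.node (.node (.leaf 29122560) (.leaf 164749312)) (.node (.leaf 114016256) (.leaf 0))) (.node (.node (.leaf 75145216) (.leaf 0)) (.node (.leaf 144818176) (.leaf 0))))) (.node (.node (.node (.node (.leaf 16572416) (.leaf 160931840)) (.node (.leaf 104857600) (.leaf 0))) (.node (.node (.leaf 64397312) (.leaf 0)) (.node (.leaf 7094272) (.leaf 0)))) (.node (.node (.node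 (.leaf 41328640) (.leaf 165827373)) (.node (.leaf 113097384) (.leaf 0))) (.node (.node (.leaf 83700948) (.leaf 0)) (.node (.leaf 151101440) (.leaf 0)))))) (.node (.node (.node (.node (.node (.leaf 10100736) (.leaf 158736384)) (.node (.leaf 100220928) (.leaf 0))) (.node (.node (.leaf 58769408) (.leaf 0)) (.node (.leaf 133445413) (.leaf 0)))) (.node (.node (.node (.leaf 35315712) (.leaf 140923732)) (.node (.leaf 118439936) (.leaf 0))) (.node (.node (.leaf 80347136) (.leaf 0)) (.node (.leaf 148029440) (.leaf 0))))) (.node (.node (.node (.node (.leaf 22945792) (.leaf 162227488)) (.node (.leaf 109649920) (.leaf 0))) (.node (.node (.leaf 55180004) (.leaf 0)) (.node (.leaf 25220648) (.leaf 0)))) (.node (.node (.node (.leaf 47284224) (.leaf 96472927)) (.node (.leaf 126779392) (.leaf 0))) (.node (.node (.leaf 90554368) (.leaf 0)) (.node (.leaf 153870336) (.leaf 0)))))))) (.node (.node (.node (.node (.node (.node (.node (.leaf 1900544) (.leaf 155844608)) (.node (.leaf 94298112) (.leaf 0))) (.node (.node (.leaf 36675589)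 (.leaf 0)) (.node (.leaf 54583729) (.leaf 0)))) (.node (.node (.node (.leaf 27582464) (.leaf 164175872)) (.node (.leaf 112943104) (.leaf 0))) (.node (.node (.leaf 73818112) (.leaf 0)) (.node (.leaf 84142939) (.leaf 0))))) (.node (.node (.node (.node (.leaf 14925824) (.leaf 88465470)) (.node (.leaf 103669760) (.leaf 0))) (.node (.node (.leaf 63086592) (.leaf 0)) (.node (.leaf 88980143) (.leaf 0)))) (.node (.node (.node (.leaf 39804928) (.leaf 127411260)) (.node (.leaf 22582900) (.leaf 0))) (.node (.node (.leaf 84271104) (.leaf 0)) (.node (.leaf 150396928) (.leaf 0)))))) (.node (.node (.node (.node (.node (.leaf 8470528) (.leaf 158130176)) (.node (.leaf 99049472) (.leaf 0))) (.node (.node (.leaf 57221120) (.leaf 0)) (.node (.leaf 133488640) (.leaf 0)))) (.node (.node (.node (.leaf 33824768) (.leaf 92892677)) (.node (.leaf 106801553) (.leaf 0))) (.node (.node (.leaf 79052800) (.leaf 0)) (.node (.leaf 147283968) (.leaf 0))))) (.node (.node (.node (.node (.leaf 21430272) (.leaf 143936739)) (.node (.leaf 105405053)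 (.leaf 0))) (.node (.node (.leaf 36280367) (.leaf 0)) (.node (.leaf 15192795) (.leaf 0)))) (.node (.node (.node (.leaf 45801472) (.leaf 47479881)) (.node (.leaf 89449004) (.leaf 0))) (.node (.node (.leaf 89317376) (.leaf 0)) (.node (.leaf 15631200) (.leaf 0))))))) (.node (.node (.node (.node (.node (.node (.leaf 5201920) (.leaf 157065216)) (.node (.leaf 74062109) (.leaf 0))) (.node (.node (.leaf 54501376) (.leaf 0)) (.node (.leaf 131670016) (.leaf 0)))) (.node (.node (.node (.leaf 30711808) (.leaf 85221386)) (.node (.leaf 115122176) (.leaf 0))) (.node (.node (.leaf 76480512) (.leaf 0)) (.node (.leaf 117152876) (.leaf 0))))) (.node (.node (.node (.node (.leaf 18227200) (.leaf 71910688)) (.node (.leaf 106160128) (.leaf 0))) (.node (.node (.leaf 65830912) (.leaf 0)) (.node (.leaf 109421661) (.leaf 0)))) (.node (.node (.node (.leaf 42795008) (.leaf 158471383)) (.node (.leaf 47329980) (.leaf 0))) (.node (.node (.leaf 69813231) (.leaf 0)) (.node (.leaf 151789568) (.leaf 0)))))) (.node (.node (.node (.node (.node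 (.leaf 11714560) (.leaf 98703402)) (.node (.leaf 101457920) (.leaf 0))) (.node (.node (.leaf 60235776) (.leaf 0)) (.node (.leaf 135307264) (.leaf 0)))) (.node (.node (.node (.leaf 36896768) (.leaf 148935642)) (.node (.leaf 119431168) (.leaf 0))) (.node (.node (.leaf 48492024) (.leaf 0)) (.node (.leaf 73139921) (.leaf 0))))) (.node (.node (.node (.node (.leaf 24535040) (.leaf 163215903)) (.node (.leaf 104811375) (.leaf 0))) (.node (.node (.leaf 71163904) (.leaf 0)) (.node (.leaf 100209478) (.leaf 0)))) (.node (.node (.node (.leaf 15235357) (.leaf 65464395)) (.node (.leaf 127778816) (.leaf 0))) (.node (.node (.leaf 91717632) (.leaf 0)) (.node (.leaf 147164678) (.leaf 0))))))))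

def e0T18 : NT := .node (.node (.node (.node (.node (.node (.node (.node (.leaf 237568) (.leaf 155156480)) (.node (.leaf 93036544) (.leaf 0))) (.node (.node (.leaf 50208768) (.leaf 87602953)) (.node (.leaf 84493008) (.leaf 0)))) (.node (.node (.node (.leaf 26034176) (.leaf 163733504)) (.node (.leaf 111869952) (.leaf 0))) (.node (.node (.leaf 72499200) (.leaf 0)) (.node (.leaf 9398364) (.leaf 0))))) (.node (.node (.node (.node (.leaf 13328384) (.leaf 26881432)) (.node (.leaf 31696461) (.leaf 0))) (.node (.node (.leaf 61677568) (.leaf 0)) (.node (.leaf 34680272) (.leaf 0)))) (.node (.node (.node (.leaf 38354944) (.leaf 166936576)) (.node (.leaf 120430592) (.leaf 0))) (.node (.node (.leaf 83066880) (.leaf 0)) (.node (.leaf 149602304) (.leaf 0)))))) (.node (.node (.node (.node (.node (.leaf 6840320) (.leaf 140415474)) (.node (.leaf 89339987) (.leaf 0))) (.node (.node (.leaf 55869440) (.leaf 0)) (.node (.leaf 132562944) (.leaf 0)))) (.node (.node (.node (.leaf 32276480) (.leaf 123606015)) (.node (.leaf 70993017)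 (.leaf 0))) (.node (.node (.leaf 77815808) (.leaf 0)) (.node (.leaf 146497536) (.leaf 0))))) (.node (.node (.node (.node (.leaf 19857408) (.leaf 161931264)) (.node (.leaf 107347968) (.leaf 0))) (.node (.node (.leaf 67223552) (.leaf 0)) (.node (.leaf 100570706) (.leaf 0)))) (.node (.node (.node (.leaf 44302336) (.leaf 126414872)) (.node (.leaf 124698624) (.leaf 0))) (.node (.node (.leaf 51628221) (.leaf 0)) (.node (.leaf 152428544) (.leaf 0))))))) (.node (.node (.node (.node (.node (.node (.leaf 3563520) (.leaf 156483584)) (.node (.leaf 95461376) (.leaf 0))) (.node (.node (.leaf 37403656) (.leaf 0)) (.node (.leaf 130596864) (.leaf 0)))) (.node (.node (.node (.leaf 29138944) (.leaf 164757504)) (.node (.leaf 114032640) (.leaf 0))) (.node (.node (.leaf 18446173) (.leaf 0)) (.node (.leaf 129317569) (.leaf 0))))) (.node (.node (.node (.node (.leaf 16588800) (.leaf 92944767)) (.node (.leaf 104865792) (.leaf 0))) (.node (.node (.leaf 44026817) (.leaf 0)) (.node (.leaf 110461969) (.leaf 0)))) (.node (.node (.node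 (.leaf 41336832) (.leaf 45354920)) (.node (.leaf 122609664) (.leaf 0))) (.node (.node (.leaf 85458944) (.leaf 0)) (.node (.leaf 151109632) (.leaf 0)))))) (.node (.node (.node (.node (.node (.leaf 10117120) (.leaf 158744576)) (.node (.leaf 100237312) (.leaf 0))) (.node (.node (.leaf 58777600) (.leaf 0)) (.node (.leaf 134356992) (.leaf 0)))) (.node (.node (.node (.leaf 35323904) (.leaf 166223872)) (.node (.leaf 118456320) (.leaf 0))) (.node (.node (.leaf 80355328) (.leaf 0)) (.node (.leaf 148037632) (.leaf 0))))) (.node (.node (.node (.node (.leaf 17760256) (.leaf 162906112)) (.node (.leaf 89473654) (.leaf 0))) (.node (.node (.leaf 2203648) (.leaf 0)) (.node (.leaf 122010092) (.leaf 0)))) (.node (.node (.node (.leaf 47292416) (.leaf 145924110)) (.node (.leaf 126795776) (.leaf 0))) (.node (.node (.leaf 3186688) (.leaf 0)) (.node (.leaf 39933051) (.leaf 0)))))))) (.node (.node (.node (.node (.node (.node (.node (.leaf 1916928) (.leaf 142049750)) (.node (.leaf 79962936) (.leaf 0))) (.node (.node (.leaf 51666944)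 (.leaf 0)) (.node (.leaf 129687552) (.leaf 0)))) (.node (.node (.node (.leaf 27598848) (.leaf 147545186)) (.node (.leaf 112959488) (.leaf 0))) (.node (.node (.leaf 73834496) (.leaf 0)) (.node (.leaf 143998976) (.leaf 0))))) (.node (.node (.node (.node (.leaf 14934016) (.leaf 160399360)) (.node (.leaf 103677952) (.leaf 0))) (.node (.node (.leaf 63094784) (.leaf 0)) (.node (.leaf 137084928) (.leaf 0)))) (.node (.node (.node (.leaf 39821312) (.leaf 167198720)) (.node (.leaf 104314044) (.leaf 0))) (.node (.node (.leaf 84287488) (.leaf 0)) (.node (.leaf 131208691) (.leaf 0)))))) (.node (.node (.node (.node (.node (.leaf 8486912) (.leaf 122074718)) (.node (.leaf 99065856) (.leaf 0))) (.node (.node (.leaf 57237504) (.leaf 0)) (.node (.leaf 115524974) (.leaf 0)))) (.node (.node (.node (.leaf 33841152) (.leaf 37926651)) (.node (.leaf 117301248) (.leaf 0))) (.node (.node (.leaf 50350301) (.leaf 0)) (.node (.leaf 11110029) (.leaf 0))))) (.node (.node (.node (.node (.leaf 21438464) (.leaf 162430976)) (.node (.leaf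 108601344) (.leaf 0))) (.node (.node (.leaf 68624384) (.leaf 0)) (.node (.leaf 69866126) (.leaf 0)))) (.node (.node (.node (.leaf 45817856) (.leaf 167852777)) (.node (.leaf 54522570) (.leaf 0))) (.node (.node (.leaf 89325568) (.leaf 0)) (.node (.leaf 25845984) (.leaf 0))))))) (.node (.node (.node (.node (.node (.node (.leaf 5218304) (.leaf 79627865)) (.node (.leaf 96641024) (.leaf 0))) (.node (.node (.leaf 20091058) (.leaf 0)) (.node (.leaf 91116006) (.leaf 0)))) (.node (.node (.node (.leaf 30728192) (.leaf 164708885)) (.node (.leaf 29945977) (.leaf 0))) (.node (.node (.leaf 76488704) (.leaf 0)) (.node (.leaf 64540139) (.leaf 0))))) (.node (.node (.node (.node (.leaf 18235392) (.leaf 161357824)) (.node (.leaf 93517527) (.leaf 0))) (.node (.node (.leaf 65839104) (.leaf 0)) (.node (.leaf 138805248) (.leaf 0)))) (.node (.node (.node (.leaf 42811392) (.leaf 110743842)) (.node (.leaf 123682816) (.leaf 0))) (.node (.node (.leaf 86712320) (.leaf 0)) (.node (.leaf 108860787) (.leaf 0)))))) (.node (.node (.node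 (.node (.node (.leaf 11730944) (.leaf 159268864)) (.node (.leaf 101466112) (.leaf 0))) (.node (.node (.leaf 60252160) (.leaf 0)) (.node (.leaf 135315456) (.leaf 0)))) (.node (.node (.node (.leaf 36913152) (.leaf 99963477)) (.node (.leaf 6577321) (.leaf 0))) (.node (.node (.leaf 81690624) (.leaf 0)) (.node (.leaf 53612019) (.leaf 0))))) (.node (.node (.node (.node (.leaf 24543232) (.leaf 163332096)) (.node (.leaf 110788608) (.leaf 0))) (.node (.node (.leaf 71180288) (.leaf 0)) (.node (.leaf 96843016) (.leaf 0)))) (.node (.node (.node (.leaf 48766976) (.leaf 135045605)) (.node (.leaf 9742487) (.leaf 0))) (.node (.node (.leaf 90969080) (.leaf 0)) (.node (.leaf 154517504) (.leaf 0))))))))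

def e0T19 : NT := .node (.node (.node (.node (.node (.node (.node (.node (.leaf 253952) (.leaf 115984571)) (.node (.leaf 93044736) (.leaf 0))) (.node (.node (.leaf 50216960) (.leaf 56487826)) (.node (.leaf 13640561) (.leaf 0)))) (.node (.node (.node (.leaf 26050560) (.leaf 153594455)) (.node (.leaf 55442213) (.leaf 0))) (.node (.node (.leaf 72507392) (.leaf 0)) (.node (.leaf 117821471) (.leaf 0))))) (.node (.node (.node (.node (.leaf 13344768) (.leaf 82032896)) (.node (.leaf 102580224) (.leaf 0))) (.node (.node (.leaf 61685760) (.leaf 0)) (.node (.leaf 130962574) (.leaf 0)))) (.node (.node (.node (.leaf 38371328) (.leaf 48825059)) (.node (.leaf 120438784) (.leaf 0))) (.node (.node (.leaf 83083264) (.leaf 0)) (.node (.leaf 20599628) (.leaf 0)))))) (.node (.node (.node (.node (.node (.leaf 6848512) (.leaf 94155780)) (.node (.leaf 62905438) (.leaf 0))) (.node (.node (.leaf 55885824) (.leaf 0)) (.node (.leaf 132571136) (.leaf 0)))) (.node (.node (.node (.leaf 32292864) (.leaf 164957188)) (.node (.leaf 116260864)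 (.leaf 0))) (.node (.node (.leaf 77832192) (.leaf 0)) (.node (.leaf 146505728) (.leaf 0))))) (.node (.node (.node (.node (.leaf 19873792) (.leaf 161939456)) (.node (.leaf 107364352) (.leaf 0))) (.node (.node (.leaf 67239936) (.leaf 0)) (.node (.leaf 139804672) (.leaf 0)))) (.node (.node (.node (.leaf 44310528) (.leaf 131783750)) (.node (.leaf 80541941) (.leaf 0))) (.node (.node (.leaf 87998464) (.leaf 0)) (.node (.leaf 152444928) (.leaf 0))))))) (.node (.node (.node (.node (.node (.node (.leaf 3579904) (.leaf 122250133)) (.node (.leaf 95469568) (.leaf 0))) (.node (.node (.leaf 53133312) (.leaf 0)) (.node (.leaf 51646487) (.leaf 0)))) (.node (.node (.node (.leaf 29155328) (.leaf 147382427)) (.node (.leaf 78290088) (.leaf 0))) (.node (.node (.leaf 75169792) (.leaf 0)) (.node (.leaf 144826368) (.leaf 0))))) (.node (.node (.node (.node (.leaf 16605184) (.leaf 53052786)) (.node (.leaf 104873984) (.leaf 0))) (.node (.node (.leaf 64405504) (.leaf 0)) (.node (.leaf 60275831) (.leaf 0)))) (.node (.node (.node (.leaf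 41345024) (.leaf 67667186)) (.node (.leaf 122617856) (.leaf 0))) (.node (.node (.leaf 85475328) (.leaf 0)) (.node (.leaf 78233744) (.leaf 0)))))) (.node (.node (.node (.node (.node (.leaf 10125312) (.leaf 158752768)) (.node (.leaf 35407666) (.leaf 0))) (.node (.node (.leaf 58793984) (.leaf 0)) (.node (.leaf 134373376) (.leaf 0)))) (.node (.node (.node (.leaf 35332096) (.leaf 61220369)) (.node (.leaf 118464512) (.leaf 0))) (.node (.node (.leaf 57639061) (.leaf 0)) (.node (.leaf 81850258) (.leaf 0))))) (.node (.node (.node (.node (.leaf 22962176) (.leaf 104405443)) (.node (.leaf 89471938) (.leaf 0))) (.node (.node (.leaf 53754662) (.leaf 0)) (.node (.leaf 141582336) (.leaf 0)))) (.node (.node (.node (.leaf 47300608) (.leaf 151390062)) (.node (.leaf 27279511) (.leaf 0))) (.node (.node (.leaf 24447161) (.leaf 0)) (.node (.leaf 153878528) (.leaf 0)))))))) (.node (.node (.node (.node (.node (.node (.node (.leaf 1925120) (.leaf 104704958)) (.node (.leaf 94306304) (.leaf 0))) (.node (.node (.leaf 18675468) (.leaf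 0)) (.node (.leaf 129695744) (.leaf 0)))) (.node (.node (.node (.leaf 27607040) (.leaf 87994760)) (.node (.leaf 112967680) (.leaf 0))) (.node (.node (.leaf 73842688) (.leaf 0)) (.node (.leaf 130070262) (.leaf 0))))) (.node (.node (.node (.node (.leaf 14950400) (.leaf 160407552)) (.node (.leaf 103694336) (.leaf 0))) (.node (.node (.leaf 63111168) (.leaf 0)) (.node (.leaf 137093120) (.leaf 0)))) (.node (.node (.node (.leaf 39829504) (.leaf 153363302)) (.node (.leaf 121602048) (.leaf 0))) (.node (.node (.leaf 84295680) (.leaf 0)) (.node (.leaf 146973538) (.leaf 0)))))) (.node (.node (.node (.node (.node (.leaf 8503296) (.leaf 90564951)) (.node (.leaf 99074048) (.leaf 0))) (.node (.node (.leaf 57253888) (.leaf 0)) (.node (.leaf 20073079) (.leaf 0)))) (.node (.node (.node (.leaf 33849344) (.leaf 165336689)) (.node (.leaf 117309440) (.leaf 0))) (.node (.node (.leaf 79069184) (.leaf 0)) (.node (.leaf 36397944) (.leaf 0))))) (.node (.node (.node (.node (.leaf 14542545) (.leaf 162447360)) (.node (.leaf 108609536)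 (.leaf 0))) (.node (.node (.leaf 68640768) (.leaf 0)) (.node (.leaf 140738560) (.leaf 0)))) (.node (.node (.node (.leaf 45826048) (.leaf 86759170)) (.node (.leaf 125779968) (.leaf 0))) (.node (.node (.leaf 89341952) (.leaf 0)) (.node (.leaf 153116672) (.leaf 0))))))) (.node (.node (.node (.node (.node (.node (.leaf 5226496) (.leaf 29648300)) (.node (.leaf 96657408) (.leaf 0))) (.node (.node (.leaf 54525952) (.leaf 0)) (.node (.leaf 131686400) (.leaf 0)))) (.node (.node (.node (.leaf 25624576) (.leaf 165117952)) (.node (.leaf 115146752) (.leaf 0))) (.node (.node (.leaf 51961856) (.leaf 0)) (.node (.leaf 87381672) (.leaf 0))))) (.node (.node (.node (.node (.leaf 18251776) (.leaf 135826764)) (.node (.leaf 106176512) (.leaf 0))) (.node (.node (.leaf 65855488) (.leaf 0)) (.node (.leaf 138821632) (.leaf 0)))) (.node (.node (.node (.leaf 42819584) (.leaf 167550976)) (.node (.leaf 123699200) (.leaf 0))) (.node (.node (.leaf 86720512) (.leaf 0)) (.node (.leaf 151805952) (.leaf 0)))))) (.node (.node (.node (.node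 (.node (.leaf 11747328) (.leaf 120626201)) (.node (.leaf 101482496) (.leaf 0))) (.node (.node (.leaf 60260352) (.leaf 0)) (.node (.leaf 6766592) (.leaf 0)))) (.node (.node (.node (.leaf 11772772) (.leaf 162440945)) (.node (.leaf 22362989) (.leaf 0))) (.node (.node (.leaf 81707008) (.leaf 0)) (.node (.leaf 29827914) (.leaf 0))))) (.node (.node (.node (.node (.leaf 24551424) (.leaf 111964615)) (.node (.leaf 110796800) (.leaf 0))) (.node (.node (.leaf 71188480) (.leaf 0)) (.node (.leaf 142450688) (.leaf 0)))) (.node (.node (.node (.leaf 48775168) (.leaf 166989833)) (.node (.leaf 22456017) (.leaf 0))) (.node (.node (.leaf 91734016) (.leaf 0)) (.node (.leaf 27804866) (.leaf 0))))))))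

def e0T20 : NT := .node (.node (.node (.node (.node (.node (.node (.node (.leaf 262144) (.leaf 140488080)) (.node (.leaf 86618732) (.leaf 0))) (.node (.node (.leaf 50233344) (.leaf 167338437)) (.node (.leaf 75155302) (.leaf 0)))) (.node (.node (.node (.leaf 26066944) (.leaf 160862623)) (.node (.leaf 86133676) (.leaf 0))) (.node (.node (.leaf 72523776) (.leaf 0)) (.node (.leaf 139886813) (.leaf 0))))) (.node (.node (.node (.node (.leaf 13352960) (.leaf 78838624)) (.node (.leaf 102596608) (.leaf 0))) (.node (.node (.leaf 61702144) (.leaf 0)) (.node (.leaf 6873088) (.leaf 0)))) (.node (.node (.node (.leaf 38379520) (.leaf 166944768)) (.node (.leaf 120455168) (.leaf 0))) (.node (.node (.leaf 83091456) (.leaf 0)) (.node (.leaf 58938884) (.leaf 0)))))) (.node (.node (.node (.node (.node (.leaf 6864896) (.leaf 157679616)) (.node (.leaf 56781616) (.leaf 0))) (.node (.node (.leaf 55894016) (.leaf 0)) (.node (.leaf 67101296) (.leaf 0)))) (.node (.node (.node (.leaf 32309248) (.leaf 144409609)) (.node (.leaf 29739143)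 (.leaf 0))) (.node (.node (.leaf 77848576) (.leaf 0)) (.node (.leaf 145489920) (.leaf 0))))) (.node (.node (.node (.node (.leaf 19890176) (.leaf 155686776)) (.node (.leaf 107372544) (.leaf 0))) (.node (.node (.leaf 67248128) (.leaf 0)) (.node (.leaf 139821056) (.leaf 0)))) (.node (.node (.node (.leaf 44326912) (.leaf 70049995)) (.node (.leaf 44833083) (.leaf 0))) (.node (.node (.leaf 88014848) (.leaf 0)) (.node (.leaf 74566722) (.leaf 0))))))) (.node (.node (.node (.node (.node (.node (.leaf 3588096) (.leaf 152488386)) (.node (.leaf 95477760) (.leaf 0))) (.node (.node (.leaf 53141504) (.leaf 0)) (.node (.leaf 130613248) (.leaf 0)))) (.node (.node (.node (.leaf 29163520) (.leaf 164765696)) (.node (.leaf 114049024) (.leaf 0))) (.node (.node (.leaf 75177984) (.leaf 0)) (.node (.leaf 94902975) (.leaf 0))))) (.node (.node (.node (.node (.leaf 16613376) (.leaf 157552401)) (.node (.leaf 104890368) (.leaf 0))) (.node (.node (.leaf 64421888) (.leaf 0)) (.node (.leaf 137945088) (.leaf 0)))) (.node (.node (.node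 (.leaf 41361408) (.leaf 167354368)) (.node (.leaf 122626048) (.leaf 0))) (.node (.node (.leaf 85483520) (.leaf 0)) (.node (.leaf 151117824) (.leaf 0)))))) (.node (.node (.node (.node (.node (.leaf 10141696) (.leaf 156961542)) (.node (.leaf 100245504) (.leaf 0))) (.node (.node (.leaf 58802176) (.leaf 0)) (.node (.leaf 128606547) (.leaf 0)))) (.node (.node (.node (.leaf 35348480) (.leaf 166240256)) (.node (.leaf 63109276) (.leaf 0))) (.node (.node (.leaf 80371712) (.leaf 0)) (.node (.leaf 147041800) (.leaf 0))))) (.node (.node (.node (.node (.leaf 22970368) (.leaf 153014252)) (.node (.leaf 109674496) (.leaf 0))) (.node (.node (.leaf 46082181) (.leaf 0)) (.node (.leaf 89296998) (.leaf 0)))) (.node (.node (.node (.leaf 47316992) (.leaf 150927477)) (.node (.leaf 126812160) (.leaf 0))) (.node (.node (.leaf 50580476) (.leaf 0)) (.node (.leaf 153886720) (.leaf 0)))))))) (.node (.node (.node (.node (.node (.node (.node (.leaf 1941504) (.leaf 155860992)) (.node (.leaf 23009083) (.leaf 0))) (.node (.node (.leaf 51683328)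 (.leaf 0)) (.node (.leaf 129703936) (.leaf 0)))) (.node (.node (.node (.leaf 27623424) (.leaf 159512742)) (.node (.leaf 112984064) (.leaf 0))) (.node (.node (.leaf 73859072) (.leaf 0)) (.node (.leaf 144007168) (.leaf 0))))) (.node (.node (.node (.node (.leaf 14958592) (.leaf 160415744)) (.node (.leaf 103702528) (.leaf 0))) (.node (.node (.leaf 63119360) (.leaf 0)) (.node (.leaf 72593260) (.leaf 0)))) (.node (.node (.node (.leaf 39845888) (.leaf 165021339)) (.node (.leaf 121610240) (.leaf 0))) (.node (.node (.leaf 84312064) (.leaf 0)) (.node (.leaf 150405120) (.leaf 0)))))) (.node (.node (.node (.node (.node (.leaf 8511488) (.leaf 149171251)) (.node (.leaf 99090432) (.leaf 0))) (.node (.node (.leaf 57270272) (.leaf 0)) (.node (.leaf 133505024) (.leaf 0)))) (.node (.node (.node (.leaf 33857536) (.leaf 85177354)) (.node (.leaf 117325824) (.leaf 0))) (.node (.node (.leaf 79085568) (.leaf 0)) (.node (.leaf 125854401) (.leaf 0))))) (.node (.node (.node (.node (.leaf 21454848) (.leaf 162455552)) (.node (.leaf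 108625920) (.leaf 0))) (.node (.node (.leaf 68648960) (.leaf 0)) (.node (.leaf 7471104) (.leaf 0)))) (.node (.node (.node (.leaf 45834240) (.leaf 161716864)) (.node (.leaf 78155151) (.leaf 0))) (.node (.node (.leaf 89358336) (.leaf 0)) (.node (.leaf 150149402) (.leaf 0))))))) (.node (.node (.node (.node (.node (.node (.leaf 5242880) (.leaf 74521520)) (.node (.leaf 96665600) (.leaf 0))) (.node (.node (.leaf 54542336) (.leaf 0)) (.node (.leaf 85889141) (.leaf 0)))) (.node (.node (.node (.leaf 30736384) (.leaf 165134336)) (.node (.leaf 115154944) (.leaf 0))) (.node (.node (.leaf 60692905) (.leaf 0)) (.node (.leaf 59225107) (.leaf 0))))) (.node (.node (.node (.node (.leaf 18268160) (.leaf 161374208)) (.node (.leaf 106192896) (.leaf 0))) (.node (.node (.leaf 65871872) (.leaf 0)) (.node (.leaf 51342535) (.leaf 0)))) (.node (.node (.node (.leaf 42827776) (.leaf 106641654)) (.node (.leaf 123707392) (.leaf 0))) (.node (.node (.leaf 62964155) (.leaf 0)) (.node (.leaf 140616840) (.leaf 0)))))) (.node (.node (.node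 (.node (.node (.leaf 884736) (.leaf 159277056)) (.node (.leaf 56602139) (.leaf 0))) (.node (.node (.leaf 60276736) (.leaf 0)) (.node (.leaf 135323648) (.leaf 0)))) (.node (.node (.node (.leaf 2703360) (.leaf 95140113)) (.node (.leaf 119447552) (.leaf 0))) (.node (.node (.leaf 37089492) (.leaf 0)) (.node (.leaf 14526983) (.leaf 0))))) (.node (.node (.node (.node (.leaf 24559616) (.leaf 141015398)) (.node (.leaf 110804992) (.leaf 0))) (.node (.node (.leaf 71196672) (.leaf 0)) (.node (.leaf 142458880) (.leaf 0)))) (.node (.node (.node (.leaf 48791552) (.leaf 107615729)) (.node (.leaf 8006833) (.leaf 0))) (.node (.node (.leaf 91742208) (.leaf 0)) (.node (.leaf 68350659) (.leaf 0))))))))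

def e0T21 : NT := .node (.node (.node (.node (.node (.node (.node (.node (.leaf 278528) (.leaf 155172864)) (.node (.leaf 93061120) (.leaf 0))) (.node (.node (.leaf 50241536) (.leaf 166842012)) (.node (.leaf 36998527) (.leaf 0)))) (.node (.node (.node (.leaf 26075136) (.leaf 97594230)) (.node (.leaf 111894528) (.leaf 0))) (.node (.node (.leaf 33226752) (.leaf 0)) (.node (.leaf 143196160) (.leaf 0))))) (.node (.node (.node (.node (.leaf 13369344) (.leaf 120656519)) (.node (.leaf 42670343) (.leaf 0))) (.node (.node (.leaf 61718528) (.leaf 0)) (.node (.leaf 125216893) (.leaf 0)))) (.node (.node (.node (.leaf 38395904) (.leaf 160995342)) (.node (.leaf 120471552) (.leaf 0))) (.node (.node (.leaf 83107840) (.leaf 0)) (.node (.leaf 149626880) (.leaf 0)))))) (.node (.node (.node (.node (.node (.leaf 6881280) (.leaf 43093311)) (.node (.leaf 97845248) (.leaf 0))) (.node (.node (.leaf 55910400) (.leaf 0)) (.node (.leaf 31684054) (.leaf 0)))) (.node (.node (.node (.leaf 32325632) (.leaf 142521622)) (.node (.leaf 116277248)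 (.leaf 0))) (.node (.node (.leaf 77856768) (.leaf 0)) (.node (.leaf 146513920) (.leaf 0))))) (.node (.node (.node (.node (.leaf 19898368) (.leaf 124373596)) (.node (.leaf 107380736) (.leaf 0))) (.node (.node (.leaf 27359814) (.leaf 0)) (.node (.leaf 37722386) (.leaf 0)))) (.node (.node (.node (.leaf 44343296) (.leaf 80408260)) (.node (.leaf 37306725) (.leaf 0))) (.node (.node (.leaf 88023040) (.leaf 0)) (.node (.leaf 152453120) (.leaf 0))))))) (.node (.node (.node (.node (.node (.node (.leaf 3604480) (.leaf 153100413)) (.node (.leaf 58658666) (.leaf 0))) (.node (.node (.leaf 53157888) (.leaf 0)) (.node (.leaf 130621440) (.leaf 0)))) (.node (.node (.node (.leaf 29179904) (.leaf 110717297)) (.node (.leaf 114057216) (.leaf 0))) (.node (.node (.leaf 75186176) (.leaf 0)) (.node (.leaf 101115133) (.leaf 0))))) (.node (.node (.node (.node (.leaf 16629760) (.leaf 160940032)) (.node (.leaf 42317988) (.leaf 0))) (.node (.node (.leaf 64430080) (.leaf 0)) (.node (.leaf 137953280) (.leaf 0)))) (.node (.node (.node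 (.leaf 41369600) (.leaf 166464202)) (.node (.leaf 122634240) (.leaf 0))) (.node (.node (.leaf 85491712) (.leaf 0)) (.node (.leaf 139594514) (.leaf 0)))))) (.node (.node (.node (.node (.node (.leaf 10158080) (.leaf 84309299)) (.node (.leaf 100253696) (.leaf 0))) (.node (.node (.leaf 58818560) (.leaf 0)) (.node (.leaf 134397952) (.leaf 0)))) (.node (.node (.node (.leaf 35356672) (.leaf 126707328)) (.node (.leaf 32411329) (.leaf 0))) (.node (.node (.leaf 80388096) (.leaf 0)) (.node (.leaf 148054016) (.leaf 0))))) (.node (.node (.node (.node (.leaf 22986752) (.leaf 113635532)) (.node (.leaf 83534253) (.leaf 0))) (.node (.node (.leaf 69869568) (.leaf 0)) (.node (.leaf 79663656) (.leaf 0)))) (.node (.node (.node (.leaf 47333376) (.leaf 137266576)) (.node (.leaf 95094390) (.leaf 0))) (.node (.node (.leaf 84112398) (.leaf 0)) (.node (.leaf 143825703) (.leaf 0)))))))) (.node (.node (.node (.node (.node (.node (.node (.leaf 1957888) (.leaf 155869184)) (.node (.leaf 94322688) (.leaf 0))) (.node (.node (.leaf 51699712)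 (.leaf 0)) (.node (.leaf 129720320) (.leaf 0)))) (.node (.node (.node (.leaf 26470571) (.leaf 143501982)) (.node (.leaf 112992256) (.leaf 0))) (.node (.node (.leaf 73867264) (.leaf 0)) (.node (.leaf 86781530) (.leaf 0))))) (.node (.node (.node (.node (.leaf 14966784) (.leaf 145151850)) (.node (.leaf 103710720) (.leaf 0))) (.node (.node (.leaf 63135744) (.leaf 0)) (.node (.leaf 137101312) (.leaf 0)))) (.node (.node (.node (.leaf 39862272) (.leaf 92045519)) (.node (.leaf 121618432) (.leaf 0))) (.node (.node (.leaf 84320256) (.leaf 0)) (.node (.leaf 150413312) (.leaf 0)))))) (.node (.node (.node (.node (.node (.leaf 8527872) (.leaf 158146560)) (.node (.leaf 99098624) (.leaf 0))) (.node (.node (.leaf 57286656) (.leaf 0)) (.node (.leaf 78442985) (.leaf 0)))) (.node (.node (.node (.leaf 33865728) (.leaf 111570499)) (.node (.leaf 117334016) (.leaf 0))) (.node (.node (.leaf 52435339) (.leaf 0)) (.node (.leaf 125151285) (.leaf 0))))) (.node (.node (.node (.node (.leaf 21463040) (.leaf 143435603)) (.node (.leaf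 108634112) (.leaf 0))) (.node (.node (.leaf 29137439) (.leaf 0)) (.node (.leaf 140754944) (.leaf 0)))) (.node (.node (.node (.leaf 45842432) (.leaf 125270747)) (.node (.leaf 96790225) (.leaf 0))) (.node (.node (.leaf 89366528) (.leaf 0)) (.node (.leaf 148204472) (.leaf 0))))))) (.node (.node (.node (.node (.node (.node (.leaf 5259264) (.leaf 154941907)) (.node (.leaf 56670439) (.leaf 0))) (.node (.node (.leaf 54550528) (.leaf 0)) (.node (.leaf 131702784) (.leaf 0)))) (.node (.node (.node (.leaf 30744576) (.leaf 100715603)) (.node (.leaf 115171328) (.leaf 0))) (.node (.node (.leaf 76505088) (.leaf 0)) (.node (.leaf 145661952) (.leaf 0))))) (.node (.node (.node (.node (.leaf 18276352) (.leaf 138028772)) (.node (.leaf 106209280) (.leaf 0))) (.node (.node (.leaf 65888256) (.leaf 0)) (.node (.leaf 42783554) (.leaf 0)))) (.node (.node (.node (.leaf 42844160) (.leaf 167335673)) (.node (.leaf 62542490) (.leaf 0))) (.node (.node (.leaf 18352160) (.leaf 0)) (.node (.leaf 145765850) (.leaf 0)))))) (.node (.node (.node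 (.node (.node (.leaf 11763712) (.leaf 159285248)) (.node (.leaf 101498880) (.leaf 0))) (.node (.node (.leaf 60293120) (.leaf 0)) (.node (.leaf 11587619) (.leaf 0)))) (.node (.node (.node (.leaf 36929536) (.leaf 163648945)) (.node (.leaf 85015162) (.leaf 0))) (.node (.node (.leaf 81715200) (.leaf 0)) (.node (.leaf 148873216) (.leaf 0))))) (.node (.node (.node (.node (.leaf 24567808) (.leaf 155488232)) (.node (.leaf 107528879) (.leaf 0))) (.node (.node (.leaf 71204864) (.leaf 0)) (.node (.leaf 142467072) (.leaf 0)))) (.node (.node (.node (.leaf 48807936) (.leaf 167440543)) (.node (.leaf 127803392) (.leaf 0))) (.node (.node (.leaf 91750400) (.leaf 0)) (.node (.leaf 103772845) (.leaf 0))))))))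

def e0T22 : NT := .node (.node (.node (.node (.node (.node (.node (.node (.leaf 294912) (.leaf 139802614)) (.node (.leaf 93077504) (.leaf 0))) (.node (.node (.leaf 50249728) (.leaf 43721477)) (.node (.leaf 128794624) (.leaf 0)))) (.node (.node (.node (.leaf 26091520) (.leaf 92860954)) (.node (.leaf 111902720) (.leaf 0))) (.node (.node (.leaf 72540160) (.leaf 0)) (.node (.leaf 143204352) (.leaf 0))))) (.node (.node (.node (.node (.leaf 13377536) (.leaf 159784960)) (.node (.leaf 102604800) (.leaf 0))) (.node (.node (.leaf 3982851) (.leaf 0)) (.node (.leaf 49287936) (.leaf 0)))) (.node (.node (.node (.leaf 38404096) (.leaf 165758207)) (.node (.leaf 120479744) (.leaf 0))) (.node (.node (.leaf 83116032) (.leaf 0)) (.node (.leaf 149635072) (.leaf 0)))))) (.node (.node (.node (.node (.node (.leaf 6889472) (.leaf 155222999)) (.node (.leaf 97861632) (.leaf 0))) (.node (.node (.leaf 55918592) (.leaf 0)) (.node (.leaf 31610770) (.leaf 0)))) (.node (.node (.node (.leaf 32333824) (.leaf 161606281)) (.node (.leaf 116285440)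 (.leaf 0))) (.node (.node (.leaf 77864960) (.leaf 0)) (.node (.leaf 146522112) (.leaf 0))))) (.node (.node (.node (.node (.leaf 19914752) (.leaf 161955840)) (.node (.leaf 107388928) (.leaf 0))) (.node (.node (.leaf 67272704) (.leaf 0)) (.node (.leaf 139829248) (.leaf 0)))) (.node (.node (.node (.leaf 44351488) (.leaf 167731200)) (.node (.leaf 123047601) (.leaf 0))) (.node (.node (.leaf 65883106) (.leaf 0)) (.node (.leaf 88146764) (.leaf 0))))))) (.node (.node (.node (.node (.node (.node (.leaf 3612672) (.leaf 156491776)) (.node (.leaf 95494144) (.leaf 0))) (.node (.node (.leaf 53166080) (.leaf 0)) (.node (.leaf 130637824) (.leaf 0)))) (.node (.node (.node (.leaf 29196288) (.leaf 164773888)) (.node (.leaf 114065408) (.leaf 0))) (.node (.node (.leaf 75202560) (.leaf 0)) (.node (.leaf 144842752) (.leaf 0))))) (.node (.node (.node (.node (.leaf 16637952) (.leaf 160948224)) (.node (.leaf 53981910) (.leaf 0))) (.node (.node (.leaf 64446464) (.leaf 0)) (.node (.leaf 46571624) (.leaf 0)))) (.node (.node (.node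 (.leaf 41385984) (.leaf 123322588)) (.node (.leaf 122642432) (.leaf 0))) (.node (.node (.leaf 85508096) (.leaf 0)) (.node (.leaf 151126016) (.leaf 0)))))) (.node (.node (.node (.node (.node (.leaf 10174464) (.leaf 83264891)) (.node (.leaf 19710945) (.leaf 0))) (.node (.node (.leaf 32658778) (.leaf 0)) (.node (.leaf 29071644) (.leaf 0)))) (.node (.node (.node (.leaf 35373056) (.leaf 166248448)) (.node (.leaf 74844940) (.leaf 0))) (.node (.node (.leaf 80396288) (.leaf 0)) (.node (.leaf 23278763) (.leaf 0))))) (.node (.node (.node (.node (.leaf 22994944) (.leaf 61810451)) (.node (.leaf 16243380) (.leaf 0))) (.node (.node (.leaf 69885952) (.leaf 0)) (.node (.leaf 141606912) (.leaf 0)))) (.node (.node (.node (.leaf 47341568) (.leaf 100400095)) (.node (.leaf 20804217) (.leaf 0))) (.node (.node (.leaf 90578944) (.leaf 0)) (.node (.leaf 121888942) (.leaf 0)))))))) (.node (.node (.node (.node (.node (.node (.node (.leaf 40960) (.leaf 86692632)) (.node (.leaf 94330880) (.leaf 0))) (.node (.node (.leaf 51707904)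 (.leaf 0)) (.node (.leaf 6820347) (.leaf 0)))) (.node (.node (.node (.leaf 22777174) (.leaf 164184064)) (.node (.leaf 92635174) (.leaf 0))) (.node (.node (.leaf 73883648) (.leaf 0)) (.node (.leaf 144015360) (.leaf 0))))) (.node (.node (.node (.node (.leaf 14983168) (.leaf 107971488)) (.node (.leaf 103718912) (.leaf 0))) (.node (.node (.leaf 63152128) (.leaf 0)) (.node (.leaf 137109504) (.leaf 0)))) (.node (.node (.node (.leaf 39870464) (.leaf 160754249)) (.node (.leaf 26715712) (.leaf 0))) (.node (.node (.leaf 84328448) (.leaf 0)) (.node (.leaf 150421504) (.leaf 0)))))) (.node (.node (.node (.node (.node (.leaf 8536064) (.leaf 158154752)) (.node (.leaf 99106816) (.leaf 0))) (.node (.node (.leaf 57303040) (.leaf 0)) (.node (.leaf 133521408) (.leaf 0)))) (.node (.node (.node (.leaf 33882112) (.leaf 140157456)) (.node (.leaf 117350400) (.leaf 0))) (.node (.node (.leaf 79101952) (.leaf 0)) (.node (.leaf 147324928) (.leaf 0))))) (.node (.node (.node (.node (.leaf 21471232) (.leaf 160924987)) (.node (.leaf 100831788)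 (.leaf 0))) (.node (.node (.leaf 68665344) (.leaf 0)) (.node (.leaf 140763136) (.leaf 0)))) (.node (.node (.node (.leaf 45858816) (.leaf 155515854)) (.node (.leaf 125788160) (.leaf 0))) (.node (.node (.leaf 89382912) (.leaf 0)) (.node (.leaf 88081904) (.leaf 0))))))) (.node (.node (.node (.node (.node (.node (.leaf 5267456) (.leaf 155373171)) (.node (.leaf 76295205) (.leaf 0))) (.node (.node (.leaf 38524091) (.leaf 0)) (.node (.leaf 73536766) (.leaf 0)))) (.node (.node (.node (.leaf 30760960) (.leaf 149079303)) (.node (.leaf 8073316) (.leaf 0))) (.node (.node (.leaf 76513280) (.leaf 0)) (.node (.leaf 145670144) (.leaf 0))))) (.node (.node (.node (.node (.leaf 18292736) (.leaf 88041143)) (.node (.leaf 106217472) (.leaf 0))) (.node (.node (.leaf 65896448) (.leaf 0)) (.node (.leaf 138838016) (.leaf 0)))) (.node (.node (.node (.leaf 42852352) (.leaf 162850465)) (.node (.leaf 123723776) (.leaf 0))) (.node (.node (.leaf 86736896) (.leaf 0)) (.node (.leaf 151838720) (.leaf 0)))))) (.node (.node (.node (.node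 (.node (.leaf 11780096) (.leaf 120246497)) (.node (.leaf 101507072) (.leaf 0))) (.node (.node (.leaf 7222172) (.leaf 0)) (.node (.leaf 135340032) (.leaf 0)))) (.node (.node (.node (.leaf 36945920) (.leaf 18120704)) (.node (.leaf 98652073) (.leaf 0))) (.node (.node (.leaf 81723392) (.leaf 0)) (.node (.leaf 36582517) (.leaf 0))))) (.node (.node (.node (.node (.leaf 24576000) (.leaf 61247508)) (.node (.leaf 110829568) (.leaf 0))) (.node (.node (.leaf 37264168) (.leaf 0)) (.node (.leaf 142483456) (.leaf 0)))) (.node (.node (.node (.leaf 48816128) (.leaf 42988659)) (.node (.leaf 111958309) (.leaf 0))) (.node (.node (.leaf 91766784) (.leaf 0)) (.node (.leaf 102716252) (.leaf 0))))))))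

def e0T23 : NT := .node (.node (.node (.node (.node (.node (.node (.node (.leaf 303104) (.leaf 154241603)) (.node (.leaf 93085696) (.leaf 0))) (.node (.node (.leaf 33981770) (.leaf 84004494)) (.node (.leaf 128811008) (.leaf 0)))) (.node (.node (.node (.leaf 19006495) (.leaf 63525196)) (.node (.leaf 13952149) (.leaf 0))) (.node (.node (.leaf 72556544) (.leaf 0)) (.node (.leaf 137449194) (.leaf 0))))) (.node (.node (.node (.node (.leaf 13393920) (.leaf 138230241)) (.node (.leaf 102612992) (.leaf 0))) (.node (.node (.leaf 61726720) (.leaf 0)) (.node (.leaf 130606440) (.leaf 0)))) (.node (.node (.node (.leaf 38420480) (.leaf 151423738)) (.node (.leaf 65941667) (.leaf 0))) (.node (.node (.leaf 83124224) (.leaf 0)) (.node (.leaf 149651456) (.leaf 0)))))) (.node (.node (.node (.node (.node (.leaf 6905856) (.leaf 157687808)) (.node (.leaf 97869824) (.leaf 0))) (.node (.node (.leaf 55934976) (.leaf 0)) (.node (.leaf 132595712) (.leaf 0)))) (.node (.node (.node (.leaf 32350208) (.leaf 165527552)) (.node (.leaf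 15089942) (.leaf 0))) (.node (.node (.leaf 71526354) (.leaf 0)) (.node (.leaf 146538496) (.leaf 0))))) (.node (.node (.node (.node (.leaf 19922944) (.leaf 161964032)) (.node (.leaf 85678533) (.leaf 0))) (.node (.node (.leaf 67280896) (.leaf 0)) (.node (.leaf 139845632) (.leaf 0)))) (.node (.node (.node (.leaf 44367872) (.leaf 36439141)) (.node (.leaf 61959111) (.leaf 0))) (.node (.node (.leaf 88047616) (.leaf 0)) (.node (.leaf 113119884) (.leaf 0))))))) (.node (.node (.node (.node (.node (.node (.leaf 3629056) (.leaf 125739493)) (.node (.leaf 95510528) (.leaf 0))) (.node (.node (.leaf 33387831) (.leaf 0)) (.node (.leaf 130646016) (.leaf 0)))) (.node (.node (.node (.leaf 29204480) (.leaf 109560381)) (.node (.leaf 114073600) (.leaf 0))) (.node (.node (.leaf 38417752) (.leaf 0)) (.node (.leaf 73196208) (.leaf 0))))) (.node (.node (.node (.node (.leaf 16654336) (.leaf 75162666)) (.node (.leaf 104914944) (.leaf 0))) (.node (.node (.leaf 64454656) (.leaf 0)) (.node (.leaf 137969664) (.leaf 0)))) (.node (.node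 (.node (.leaf 41402368) (.leaf 45756663)) (.node (.leaf 46211692) (.leaf 0))) (.node (.node (.leaf 85516288) (.leaf 0)) (.node (.leaf 151134208) (.leaf 0)))))) (.node (.node (.node (.node (.node (.leaf 10182656) (.leaf 158769152)) (.node (.leaf 100270080) (.leaf 0))) (.node (.node (.leaf 58843136) (.leaf 0)) (.node (.leaf 134406144) (.leaf 0)))) (.node (.node (.node (.leaf 35381248) (.leaf 158688102)) (.node (.leaf 118489088) (.leaf 0))) (.node (.node (.leaf 80412672) (.leaf 0)) (.node (.leaf 74635549) (.leaf 0))))) (.node (.node (.node (.node (.leaf 23011328) (.leaf 100752120)) (.node (.leaf 109707264) (.leaf 0))) (.node (.node (.leaf 69894144) (.leaf 0)) (.node (.leaf 132085397) (.leaf 0)))) (.node (.node (.node (.leaf 47357952) (.leaf 106294955)) (.node (.leaf 126820352) (.leaf 0))) (.node (.node (.leaf 90587136) (.leaf 0)) (.node (.leaf 153894912) (.leaf 0)))))))) (.node (.node (.node (.node (.node (.node (.node (.leaf 1974272) (.leaf 131694712)) (.node (.leaf 43501646) (.leaf 0))) (.node (.node (.leaf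 51724288) (.leaf 0)) (.node (.leaf 129728512) (.leaf 0)))) (.node (.node (.node (.leaf 27648000) (.leaf 46630182)) (.node (.leaf 113000448) (.leaf 0))) (.node (.node (.leaf 73891840) (.leaf 0)) (.node (.leaf 108500912) (.leaf 0))))) (.node (.node (.node (.node (.leaf 11411456) (.leaf 160432128)) (.node (.leaf 103727104) (.leaf 0))) (.node (.node (.leaf 63160320) (.leaf 0)) (.node (.leaf 137117696) (.leaf 0)))) (.node (.node (.node (.leaf 39878656) (.leaf 68241811)) (.node (.leaf 121634816) (.leaf 0))) (.node (.node (.leaf 84336640) (.leaf 0)) (.node (.leaf 73341731) (.leaf 0)))))) (.node (.node (.node (.node (.node (.leaf 8552448) (.leaf 158162944)) (.node (.leaf 99115008) (.leaf 0))) (.node (.node (.leaf 57311232) (.leaf 0)) (.node (.leaf 49378322) (.leaf 0)))) (.node (.node (.node (.leaf 33898496) (.leaf 165879808)) (.node (.leaf 116154368) (.leaf 0))) (.node (.node (.leaf 79118336) (.leaf 0)) (.node (.leaf 60791021) (.leaf 0))))) (.node (.node (.node (.node (.leaf 21487616) (.leaf 114693519)) (.node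 (.leaf 95392440) (.leaf 0))) (.node (.node (.leaf 68673536) (.leaf 0)) (.node (.leaf 79752212) (.leaf 0)))) (.node (.node (.node (.leaf 31247947) (.leaf 155067714)) (.node (.leaf 125804544) (.leaf 0))) (.node (.node (.leaf 89391104) (.leaf 0)) (.node (.leaf 153133056) (.leaf 0))))))) (.node (.node (.node (.node (.node (.node (.leaf 5283840) (.leaf 152914113)) (.node (.leaf 96681984) (.leaf 0))) (.node (.node (.leaf 54558720) (.leaf 0)) (.node (.leaf 131719168) (.leaf 0)))) (.node (.node (.node (.leaf 30777344) (.leaf 17636520)) (.node (.leaf 115187712) (.leaf 0))) (.node (.node (.leaf 76521472) (.leaf 0)) (.node (.leaf 90240764) (.leaf 0))))) (.node (.node (.node (.node (.leaf 18309120) (.leaf 161390592)) (.node (.leaf 106233856) (.leaf 0))) (.node (.node (.leaf 65904640) (.leaf 0)) (.node (.leaf 42279320) (.leaf 0)))) (.node (.node (.node (.leaf 17038107) (.leaf 167559168)) (.node (.leaf 123731968) (.leaf 0))) (.node (.node (.leaf 86745088) (.leaf 0)) (.node (.leaf 151846912) (.leaf 0)))))) (.node (.node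 (.node (.node (.node (.leaf 11788288) (.leaf 159293440)) (.node (.leaf 52172059) (.leaf 0))) (.node (.node (.leaf 60309504) (.leaf 0)) (.node (.leaf 135356416) (.leaf 0)))) (.node (.node (.node (.leaf 36954112) (.leaf 80386164)) (.node (.leaf 119463936) (.leaf 0))) (.node (.node (.leaf 81731584) (.leaf 0)) (.node (.leaf 148889600) (.leaf 0))))) (.node (.node (.node (.node (.leaf 24592384) (.leaf 62716850)) (.node (.leaf 110837760) (.leaf 0))) (.node (.node (.leaf 71221248) (.leaf 0)) (.node (.leaf 142491648) (.leaf 0)))) (.node (.node (.node (.leaf 48832512) (.leaf 82733376)) (.node (.leaf 116141601) (.leaf 0))) (.node (.node (.leaf 91774976) (.leaf 0)) (.node (.leaf 154550272) (.leaf 0))))))))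

def e0T24 : NT := .node (.node (.node (.node (.node (.node (.node (.node (.leaf 319488) (.leaf 139115354)) (.node (.leaf 93093888) (.leaf 0))) (.node (.node (.leaf 50266112) (.leaf 167700854)) (.node (.leaf 128819200) (.leaf 0)))) (.node (.node (.node (.leaf 26107904) (.leaf 128317770)) (.node (.leaf 36465872) (.leaf 0))) (.node (.node (.leaf 72572928) (.leaf 0)) (.node (.leaf 143212544) (.leaf 0))))) (.node (.node (.node (.node (.leaf 13410304) (.leaf 129176762)) (.node (.leaf 102621184) (.leaf 0))) (.node (.node (.leaf 61743104) (.leaf 0)) (.node (.leaf 136183808) (.leaf 0)))) (.node (.node (.node (.leaf 38436864) (.leaf 166348097)) (.node (.leaf 120496128) (.leaf 0))) (.node (.node (.leaf 83140608) (.leaf 0)) (.node (.leaf 144796734) (.leaf 0)))))) (.node (.node (.node (.node (.node (.leaf 6914048) (.leaf 152389322)) (.node (.leaf 97878016) (.leaf 0))) (.node (.node (.leaf 55943168) (.leaf 0)) (.node (.leaf 6438912) (.leaf 0)))) (.node (.node (.node (.leaf 32366592) (.leaf 134059491)) (.node (.leaf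 116310016) (.leaf 0))) (.node (.node (.leaf 77873152) (.leaf 0)) (.node (.leaf 127678970) (.leaf 0))))) (.node (.node (.node (.node (.leaf 19939328) (.leaf 99089229)) (.node (.leaf 7565046) (.leaf 0))) (.node (.node (.leaf 4281793) (.leaf 0)) (.node (.leaf 127637699) (.leaf 0)))) (.node (.node (.node (.leaf 44376064) (.leaf 133684124)) (.node (.leaf 63242930) (.leaf 0))) (.node (.node (.leaf 88055808) (.leaf 0)) (.node (.leaf 77328992) (.leaf 0))))))) (.node (.node (.node (.node (.node (.node (.leaf 3645440) (.leaf 120980833)) (.node (.leaf 95518720) (.leaf 0))) (.node (.node (.leaf 53190656) (.leaf 0)) (.node (.leaf 72659245) (.leaf 0)))) (.node (.node (.node (.leaf 29220864) (.leaf 161423425)) (.node (.leaf 114081792) (.leaf 0))) (.node (.node (.leaf 38933812) (.leaf 0)) (.node (.leaf 113112477) (.leaf 0))))) (.node (.node (.node (.node (.leaf 16670720) (.leaf 133178266)) (.node (.leaf 104923136) (.leaf 0))) (.node (.node (.leaf 64471040) (.leaf 0)) (.node (.leaf 137977856) (.leaf 0)))) (.node (.node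 (.node (.leaf 41410560) (.leaf 56325470)) (.node (.leaf 122667008) (.leaf 0))) (.node (.node (.leaf 85524480) (.leaf 0)) (.node (.leaf 151142400) (.leaf 0)))))) (.node (.node (.node (.node (.node (.leaf 10199040) (.leaf 69689769)) (.node (.leaf 3768320) (.leaf 0))) (.node (.node (.leaf 58851328) (.leaf 0)) (.node (.leaf 134414336) (.leaf 0)))) (.node (.node (.node (.leaf 35397632) (.leaf 51661254)) (.node (.leaf 118497280) (.leaf 0))) (.node (.node (.leaf 80429056) (.leaf 0)) (.node (.leaf 121382561) (.leaf 0))))) (.node (.node (.node (.node (.leaf 23019520) (.leaf 162922496)) (.node (.leaf 109723648) (.leaf 0))) (.node (.node (.leaf 69910528) (.leaf 0)) (.node (.leaf 141615104) (.leaf 0)))) (.node (.node (.node (.leaf 47374336) (.leaf 131513138)) (.node (.leaf 126836736) (.leaf 0))) (.node (.node (.leaf 24344552) (.leaf 0)) (.node (.leaf 153903104) (.leaf 0)))))))) (.node (.node (.node (.node (.node (.node (.node (.leaf 1982464) (.leaf 155877376)) (.node (.leaf 94347264) (.leaf 0))) (.node (.node (.leaf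 7390618) (.leaf 0)) (.node (.leaf 129736704) (.leaf 0)))) (.node (.node (.node (.leaf 27656192) (.leaf 164192256)) (.node (.leaf 6111232) (.leaf 0))) (.node (.node (.leaf 73908224) (.leaf 0)) (.node (.leaf 141823152) (.leaf 0))))) (.node (.node (.node (.node (.leaf 14999552) (.leaf 99279015)) (.node (.leaf 103735296) (.leaf 0))) (.node (.node (.leaf 63168512) (.leaf 0)) (.node (.leaf 57815875) (.leaf 0)))) (.node (.node (.node (.leaf 25402065) (.leaf 155457883)) (.node (.leaf 101966818) (.leaf 0))) (.node (.node (.leaf 84353024) (.leaf 0)) (.node (.leaf 150429696) (.leaf 0)))))) (.node (.node (.node (.node (.node (.leaf 8568832) (.leaf 46619704)) (.node (.leaf 99123200) (.leaf 0))) (.node (.node (.leaf 57327616) (.leaf 0)) (.node (.leaf 133529600) (.leaf 0)))) (.node (.node (.node (.leaf 33906688) (.leaf 145226538)) (.node (.leaf 117374976) (.leaf 0))) (.node (.node (.leaf 50895000) (.leaf 0)) (.node (.leaf 124225560) (.leaf 0))))) (.node (.node (.node (.node (.leaf 21495808) (.leaf 32032062)) (.node (.leaf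 108650496) (.leaf 0))) (.node (.node (.leaf 68689920) (.leaf 0)) (.node (.leaf 93106996) (.leaf 0)))) (.node (.node (.node (.leaf 45875200) (.leaf 156725818)) (.node (.leaf 125812736) (.leaf 0))) (.node (.node (.leaf 89399296) (.leaf 0)) (.node (.leaf 121745324) (.leaf 0))))))) (.node (.node (.node (.node (.node (.node (.leaf 5292032) (.leaf 139988059)) (.node (.leaf 96698368) (.leaf 0))) (.node (.node (.leaf 54575104) (.leaf 0)) (.node (.leaf 6332416) (.leaf 0)))) (.node (.node (.node (.leaf 30793728) (.leaf 165076992)) (.node (.leaf 115195904) (.leaf 0))) (.node (.node (.leaf 76537856) (.leaf 0)) (.node (.leaf 120948664) (.leaf 0))))) (.node (.node (.node (.node (.leaf 18317312) (.leaf 161398784)) (.node (.leaf 106242048) (.leaf 0))) (.node (.node (.leaf 65912832) (.leaf 0)) (.node (.leaf 125196089) (.leaf 0)))) (.node (.node (.node (.leaf 42868736) (.leaf 162959520)) (.node (.leaf 123740160) (.leaf 0))) (.node (.node (.leaf 86761472) (.leaf 0)) (.node (.leaf 43224016) (.leaf 0)))))) (.node (.node (.node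 (.node (.node (.leaf 11804672) (.leaf 159301632)) (.node (.leaf 101523456) (.leaf 0))) (.node (.node (.leaf 60325888) (.leaf 0)) (.node (.leaf 135372800) (.leaf 0)))) (.node (.node (.node (.leaf 36970496) (.leaf 160720959)) (.node (.leaf 119472128) (.leaf 0))) (.node (.node (.leaf 81739776) (.leaf 0)) (.node (.leaf 21062517) (.leaf 0))))) (.node (.node (.node (.node (.leaf 24600576) (.leaf 115079018)) (.node (.leaf 110845952) (.leaf 0))) (.node (.node (.leaf 62777699) (.leaf 0)) (.node (.leaf 102577458) (.leaf 0)))) (.node (.node (.node (.leaf 48840704) (.leaf 166441079)) (.node (.leaf 5914624) (.leaf 0))) (.node (.node (.leaf 91791360) (.leaf 0)) (.node (.leaf 110857169) (.leaf 0))))))))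

def e0T25 : NT := .node (.node (.node (.node (.node (.node (.node (.node (.leaf 327680) (.leaf 86302954)) (.node (.leaf 93110272) (.leaf 0))) (.node (.node (.leaf 50282496) (.leaf 85919610)) (.node (.leaf 88531349) (.leaf 0)))) (.node (.node (.node (.leaf 26124288) (.leaf 110371479)) (.node (.leaf 111927296) (.leaf 0))) (.node (.node (.leaf 40175102) (.leaf 0)) (.node (.leaf 143220736) (.leaf 0))))) (.node (.node (.node (.node (.leaf 13418496) (.leaf 159801344)) (.node (.leaf 102629376) (.leaf 0))) (.node (.node (.leaf 61759488) (.leaf 0)) (.node (.leaf 136192000) (.leaf 0)))) (.node (.node (.node (.leaf 38445056) (.leaf 166952960)) (.node (.leaf 120504320) (.leaf 0))) (.node (.node (.leaf 83148800) (.leaf 0)) (.node (.leaf 149659648) (.leaf 0)))))) (.node (.node (.node (.node (.node (.leaf 6930432) (.leaf 157696000)) (.node (.leaf 97894400) (.leaf 0))) (.node (.node (.leaf 31885430) (.leaf 0)) (.node (.leaf 132603904) (.leaf 0)))) (.node (.node (.node (.leaf 32374784) (.leaf 164031510)) (.node (.leaf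 116326400) (.leaf 0))) (.node (.node (.leaf 77889536) (.leaf 0)) (.node (.leaf 79775162) (.leaf 0))))) (.node (.node (.node (.node (.leaf 19955712) (.leaf 47832233)) (.node (.leaf 90331047) (.leaf 0))) (.node (.node (.leaf 53936411) (.leaf 0)) (.node (.leaf 89657422) (.leaf 0)))) (.node (.node (.node (.leaf 44392448) (.leaf 142403243)) (.node (.leaf 124731392) (.leaf 0))) (.node (.node (.leaf 88072192) (.leaf 0)) (.node (.leaf 152469504) (.leaf 0))))))) (.node (.node (.node (.node (.node (.node (.leaf 3653632) (.leaf 63941969)) (.node (.leaf 95526912) (.leaf 0))) (.node (.node (.leaf 53198848) (.leaf 0)) (.node (.leaf 130654208) (.leaf 0)))) (.node (.node (.node (.leaf 29229056) (.leaf 162612728)) (.node (.leaf 105204027) (.leaf 0))) (.node (.node (.leaf 75227136) (.leaf 0)) (.node (.leaf 27786263) (.leaf 0))))) (.node (.node (.node (.node (.leaf 16678912) (.leaf 160980992)) (.node (.leaf 41001135) (.leaf 0))) (.node (.node (.leaf 19176253) (.leaf 0)) (.node (.leaf 128926912) (.leaf 0)))) (.node (.node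 (.node (.leaf 41426944) (.leaf 159049152)) (.node (.leaf 95860244) (.leaf 0))) (.node (.node (.leaf 85540864) (.leaf 0)) (.node (.leaf 91650356) (.leaf 0)))))) (.node (.node (.node (.node (.node (.leaf 10207232) (.leaf 148494386)) (.node (.leaf 74217716) (.leaf 0))) (.node (.node (.leaf 58867712) (.leaf 0)) (.node (.leaf 134422528) (.leaf 0)))) (.node (.node (.node (.leaf 35414016) (.leaf 97856858)) (.node (.leaf 118505472) (.leaf 0))) (.node (.node (.leaf 80437248) (.leaf 0)) (.node (.leaf 20392646) (.leaf 0))))) (.node (.node (.node (.node (.leaf 23035904) (.leaf 162930688)) (.node (.leaf 109731840) (.leaf 0))) (.node (.node (.leaf 69918720) (.leaf 0)) (.node (.leaf 119834008) (.leaf 0)))) (.node (.node (.node (.leaf 37585942) (.leaf 135976330)) (.node (.leaf 9959421) (.leaf 0))) (.node (.node (.leaf 12654720) (.leaf 0)) (.node (.leaf 153911296) (.leaf 0)))))))) (.node (.node (.node (.node (.node (.node (.node (.leaf 1998848) (.leaf 155893760)) (.node (.leaf 94363648) (.leaf 0))) (.node (.node (.leaf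 51740672) (.leaf 0)) (.node (.leaf 128958919) (.leaf 0)))) (.node (.node (.node (.leaf 27672576) (.leaf 133016876)) (.node (.leaf 40117311) (.leaf 0))) (.node (.node (.leaf 73916416) (.leaf 0)) (.node (.leaf 144031744) (.leaf 0))))) (.node (.node (.node (.node (.leaf 15015936) (.leaf 160448512)) (.node (.leaf 18261436) (.leaf 0))) (.node (.node (.leaf 63176704) (.leaf 0)) (.node (.leaf 123368314) (.leaf 0)))) (.node (.node (.node (.leaf 20997698) (.leaf 120385522)) (.node (.leaf 63316160) (.leaf 0))) (.node (.node (.leaf 84361216) (.leaf 0)) (.node (.leaf 150437888) (.leaf 0)))))) (.node (.node (.node (.node (.node (.leaf 8577024) (.leaf 153749482)) (.node (.leaf 99131392) (.leaf 0))) (.node (.node (.leaf 57335808) (.leaf 0)) (.node (.leaf 133537792) (.leaf 0)))) (.node (.node (.node (.leaf 8092691) (.leaf 124748303)) (.node (.leaf 84047947) (.leaf 0))) (.node (.node (.leaf 79134720) (.leaf 0)) (.node (.leaf 123585820) (.leaf 0))))) (.node (.node (.node (.node (.leaf 21504000) (.leaf 145287659)) (.node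 (.leaf 46057384) (.leaf 0))) (.node (.node (.leaf 39016978) (.leaf 0)) (.node (.leaf 95268530) (.leaf 0)))) (.node (.node (.node (.leaf 45891584) (.leaf 116487990)) (.node (.leaf 125829120) (.leaf 0))) (.node (.node (.leaf 89415680) (.leaf 0)) (.node (.leaf 39814589) (.leaf 0))))))) (.node (.node (.node (.node (.node (.node (.leaf 5308416) (.leaf 157081600)) (.node (.leaf 96706560) (.leaf 0))) (.node (.node (.leaf 54591488) (.leaf 0)) (.node (.leaf 129779059) (.leaf 0)))) (.node (.node (.node (.leaf 30801920) (.leaf 165142528)) (.node (.leaf 115212288) (.leaf 0))) (.node (.node (.leaf 76546048) (.leaf 0)) (.node (.leaf 88201055) (.leaf 0))))) (.node (.node (.node (.node (.leaf 18333696) (.leaf 130325587)) (.node (.leaf 106250240) (.leaf 0))) (.node (.node (.leaf 26103159) (.leaf 0)) (.node (.leaf 138862592) (.leaf 0)))) (.node (.node (.node (.leaf 42885120) (.leaf 116581568)) (.node (.leaf 123748352) (.leaf 0))) (.node (.node (.leaf 86769664) (.leaf 0)) (.node (.leaf 122390801) (.leaf 0)))))) (.node (.node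 (.node (.node (.node (.leaf 11812864) (.leaf 11919360)) (.node (.leaf 101531648) (.leaf 0))) (.node (.node (.leaf 60334080) (.leaf 0)) (.node (.leaf 135380992) (.leaf 0)))) (.node (.node (.node (.leaf 36986880) (.leaf 144561271)) (.node (.leaf 119488512) (.leaf 0))) (.node (.node (.leaf 81756160) (.leaf 0)) (.node (.leaf 105473943) (.leaf 0))))) (.node (.node (.node (.node (.leaf 24616960) (.leaf 110949830)) (.node (.leaf 32078423) (.leaf 0))) (.node (.node (.leaf 71237632) (.leaf 0)) (.node (.leaf 10485845) (.leaf 0)))) (.node (.node (.node (.leaf 48857088) (.leaf 167950909)) (.node (.leaf 106572294) (.leaf 0))) (.node (.node (.leaf 91799552) (.leaf 0)) (.node (.leaf 154558464) (.leaf 0))))))))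

def e0T26 : NT := .node (.node (.node (.node (.node (.node (.node (.node (.leaf 344064) (.leaf 55462204)) (.node (.leaf 48083950) (.leaf 0))) (.node (.node (.leaf 50298880) (.leaf 75860977)) (.node (.leaf 110156603) (.leaf 0)))) (.node (.node (.node (.leaf 26132480) (.leaf 141376015)) (.node (.leaf 111935488) (.leaf 0))) (.node (.node (.leaf 72581120) (.leaf 0)) (.node (.leaf 143228928) (.leaf 0))))) (.node (.node (.node (.node (.leaf 13434880) (.leaf 134974393)) (.node (.leaf 102645760) (.leaf 0))) (.node (.node (.leaf 1867776) (.leaf 0)) (.node (.leaf 99371500) (.leaf 0)))) (.node (.node (.node (.leaf 38461440) (.leaf 104381370)) (.node (.leaf 120512512) (.leaf 0))) (.node (.node (.leaf 83156992) (.leaf 0)) (.node (.leaf 149667840) (.leaf 0)))))) (.node (.node (.node (.node (.node (.leaf 6946816) (.leaf 137671994)) (.node (.leaf 97910784) (.leaf 0))) (.node (.node (.leaf 55967744) (.leaf 0)) (.node (.leaf 124059703) (.leaf 0)))) (.node (.node (.node (.leaf 32391168) (.leaf 16392192)) (.node (.leaf 34638606)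 (.leaf 0))) (.node (.node (.leaf 45676482) (.leaf 0)) (.node (.leaf 104638115) (.leaf 0))))) (.node (.node (.node (.node (.leaf 19963904) (.leaf 14265456)) (.node (.leaf 107405312) (.leaf 0))) (.node (.node (.leaf 67305472) (.leaf 0)) (.node (.leaf 139870208) (.leaf 0)))) (.node (.node (.node (.leaf 44408832) (.leaf 150118763)) (.node (.leaf 124739584) (.leaf 0))) (.node (.node (.leaf 88088576) (.leaf 0)) (.node (.leaf 138942090) (.leaf 0))))))) (.node (.node (.node (.node (.node (.node (.leaf 3670016) (.leaf 26189824)) (.node (.leaf 95535104) (.leaf 0))) (.node (.node (.leaf 51692002) (.leaf 0)) (.node (.leaf 110054202) (.leaf 0)))) (.node (.node (.node (.leaf 29245440) (.leaf 31732198)) (.node (.leaf 114089984) (.leaf 0))) (.node (.node (.leaf 75235328) (.leaf 0)) (.node (.leaf 144867328) (.leaf 0))))) (.node (.node (.node (.node (.leaf 16695296) (.leaf 160735232)) (.node (.leaf 104939520) (.leaf 0))) (.node (.node (.leaf 64487424) (.leaf 0)) (.node (.leaf 75607442) (.leaf 0)))) (.node (.node (.node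 (.leaf 41435136) (.leaf 73629863)) (.node (.leaf 122683392) (.leaf 0))) (.node (.node (.leaf 85557248) (.leaf 0)) (.node (.leaf 67890981) (.leaf 0)))))) (.node (.node (.node (.node (.node (.leaf 10223616) (.leaf 11698176)) (.node (.leaf 24855799) (.leaf 0))) (.node (.node (.leaf 58884096) (.leaf 0)) (.node (.leaf 65487432) (.leaf 0)))) (.node (.node (.node (.leaf 22400331) (.leaf 161462320)) (.node (.leaf 118513664) (.leaf 0))) (.node (.node (.leaf 5686749) (.leaf 0)) (.node (.leaf 148078592) (.leaf 0))))) (.node (.node (.node (.node (.leaf 23052288) (.leaf 66430182)) (.node (.leaf 57452555) (.leaf 0))) (.node (.node (.leaf 69935104) (.leaf 0)) (.node (.leaf 141631488) (.leaf 0)))) (.node (.node (.node (.leaf 47390720) (.leaf 161197142)) (.node (.leaf 126844928) (.leaf 0))) (.node (.node (.leaf 14592607) (.leaf 0)) (.node (.leaf 112113259) (.leaf 0)))))))) (.node (.node (.node (.node (.node (.node (.node (.leaf 2015232) (.leaf 155901952)) (.node (.leaf 23788114) (.leaf 0))) (.node (.node (.leaf 51757056)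 (.leaf 0)) (.node (.leaf 129744896) (.leaf 0)))) (.node (.node (.node (.leaf 27688960) (.leaf 81339885)) (.node (.leaf 113033216) (.leaf 0))) (.node (.node (.leaf 73924608) (.leaf 0)) (.node (.leaf 67424707) (.leaf 0))))) (.node (.node (.node (.node (.leaf 15024128) (.leaf 45330536)) (.node (.leaf 103751680) (.leaf 0))) (.node (.node (.leaf 63193088) (.leaf 0)) (.node (.leaf 22927749) (.leaf 0)))) (.node (.node (.node (.leaf 39895040) (.leaf 78461152)) (.node (.leaf 121643008) (.leaf 0))) (.node (.node (.leaf 84369408) (.leaf 0)) (.node (.leaf 148526310) (.leaf 0)))))) (.node (.node (.node (.node (.node (.leaf 8593408) (.leaf 152847295)) (.node (.leaf 85771679) (.leaf 0))) (.node (.node (.leaf 57352192) (.leaf 0)) (.node (.leaf 132440983) (.leaf 0)))) (.node (.node (.node (.leaf 33923072) (.leaf 111704248)) (.node (.leaf 79853906) (.leaf 0))) (.node (.node (.leaf 27038936) (.leaf 0)) (.node (.leaf 147341312) (.leaf 0))))) (.node (.node (.node (.node (.leaf 21512192) (.leaf 162471936)) (.node (.leaf 108666880)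 (.leaf 0))) (.node (.node (.leaf 68698112) (.leaf 0)) (.node (.leaf 43749771) (.leaf 0)))) (.node (.node (.node (.leaf 45907968) (.leaf 92738576)) (.node (.leaf 98928127) (.leaf 0))) (.node (.node (.leaf 89423872) (.leaf 0)) (.node (.leaf 40443945) (.leaf 0))))))) (.node (.node (.node (.node (.node (.node (.leaf 5324800) (.leaf 46760057)) (.node (.leaf 96722944) (.leaf 0))) (.node (.node (.leaf 19443890) (.leaf 0)) (.node (.leaf 131727360) (.leaf 0)))) (.node (.node (.node (.leaf 30818304) (.leaf 159793333)) (.node (.leaf 115228672) (.leaf 0))) (.node (.node (.leaf 76562432) (.leaf 0)) (.node (.leaf 145686528) (.leaf 0))))) (.node (.node (.node (.node (.leaf 18341888) (.leaf 152246790)) (.node (.leaf 106266624) (.leaf 0))) (.node (.node (.leaf 32486403) (.leaf 0)) (.node (.leaf 106518388) (.leaf 0)))) (.node (.node (.node (.leaf 42901504) (.leaf 23115207)) (.node (.leaf 83816924) (.leaf 0))) (.node (.node (.leaf 66184475) (.leaf 0)) (.node (.leaf 76251824) (.leaf 0)))))) (.node (.node (.node (.node (.node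 (.leaf 11829248) (.leaf 63791678)) (.node (.leaf 101539840) (.leaf 0))) (.node (.node (.leaf 60350464) (.leaf 0)) (.node (.leaf 114642205) (.leaf 0)))) (.node (.node (.node (.leaf 28598447) (.leaf 165005931)) (.node (.leaf 31387375) (.leaf 0))) (.node (.node (.leaf 81764352) (.leaf 0)) (.node (.leaf 107398352) (.leaf 0))))) (.node (.node (.node (.node (.leaf 24633344) (.leaf 163340288)) (.node (.leaf 110862336) (.leaf 0))) (.node (.node (.leaf 44971117) (.leaf 0)) (.node (.leaf 37344357) (.leaf 0)))) (.node (.node (.node (.leaf 48865280) (.leaf 161680344)) (.node (.leaf 127819776) (.leaf 0))) (.node (.node (.leaf 91815936) (.leaf 0)) (.node (.leaf 50376236) (.leaf 0))))))))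

def e0T27 : NT := .node (.node (.node (.node (.node (.node (.node (.node (.leaf 360448) (.leaf 144749891)) (.node (.leaf 93134848) (.leaf 0))) (.node (.node (.leaf 50307072) (.leaf 51833286)) (.node (.leaf 120256495) (.leaf 0)))) (.node (.node (.node (.leaf 26140672) (.leaf 163766272)) (.node (.leaf 111714604) (.leaf 0))) (.node (.node (.leaf 72597504) (.leaf 0)) (.node (.leaf 141876154) (.leaf 0))))) (.node (.node (.node (.node (.leaf 13443072) (.leaf 159817728)) (.node (.leaf 102653952) (.leaf 0))) (.node (.node (.leaf 61775872) (.leaf 0)) (.node (.leaf 101067868) (.leaf 0)))) (.node (.node (.node (.leaf 38477824) (.leaf 66458230)) (.node (.leaf 120528896) (.leaf 0))) (.node (.node (.leaf 83165184) (.leaf 0)) (.node (.leaf 149676032) (.leaf 0)))))) (.node (.node (.node (.node (.node (.leaf 6955008) (.leaf 144646370)) (.node (.leaf 97927168) (.leaf 0))) (.node (.node (.leaf 55975936) (.leaf 0)) (.node (.leaf 132620288) (.leaf 0)))) (.node (.node (.node (.leaf 32399360) (.leaf 158445941)) (.node (.leaf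 32598823) (.leaf 0))) (.node (.node (.leaf 47187709) (.leaf 0)) (.node (.leaf 124528217) (.leaf 0))))) (.node (.node (.node (.node (.leaf 19980288) (.leaf 161980416)) (.node (.leaf 34396415) (.leaf 0))) (.node (.node (.leaf 67313664) (.leaf 0)) (.node (.leaf 139878400) (.leaf 0)))) (.node (.node (.node (.leaf 44417024) (.leaf 141146966)) (.node (.leaf 124755968) (.leaf 0))) (.node (.node (.leaf 88096768) (.leaf 0)) (.node (.leaf 110893042) (.leaf 0))))))) (.node (.node (.node (.node (.node (.node (.leaf 3686400) (.leaf 156508160)) (.node (.leaf 95551488) (.leaf 0))) (.node (.node (.leaf 44923521) (.leaf 0)) (.node (.leaf 62081496) (.leaf 0)))) (.node (.node (.node (.leaf 29261824) (.leaf 164066472)) (.node (.leaf 114106368) (.leaf 0))) (.node (.node (.leaf 75251712) (.leaf 0)) (.node (.leaf 144875520) (.leaf 0))))) (.node (.node (.node (.node (.leaf 16703488) (.leaf 154583925)) (.node (.leaf 104947712) (.leaf 0))) (.node (.node (.leaf 64503808) (.leaf 0)) (.node (.leaf 127217482) (.leaf 0)))) (.node (.node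 (.node (.leaf 41451520) (.leaf 156629525)) (.node (.leaf 58051384) (.leaf 0))) (.node (.node (.leaf 85573632) (.leaf 0)) (.node (.leaf 151150592) (.leaf 0)))))) (.node (.node (.node (.node (.node (.leaf 10240000) (.leaf 158785536)) (.node (.leaf 100302848) (.leaf 0))) (.node (.node (.leaf 58892288) (.leaf 0)) (.node (.leaf 115409240) (.leaf 0)))) (.node (.node (.node (.leaf 35430400) (.leaf 61264001)) (.node (.leaf 90714916) (.leaf 0))) (.node (.node (.leaf 80445440) (.leaf 0)) (.node (.leaf 148086784) (.leaf 0))))) (.node (.node (.node (.node (.leaf 23060480) (.leaf 52981172)) (.node (.leaf 101308611) (.leaf 0))) (.node (.node (.leaf 69951488) (.leaf 0)) (.node (.leaf 141639680) (.leaf 0)))) (.node (.node (.node (.leaf 17157731) (.leaf 142834238)) (.node (.leaf 126853120) (.leaf 0))) (.node (.node (.leaf 36131370) (.leaf 0)) (.node (.leaf 153919488) (.leaf 0)))))))) (.node (.node (.node (.node (.node (.node (.node (.leaf 2023424) (.leaf 155910144)) (.node (.leaf 55702903) (.leaf 0))) (.node (.node (.leaf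 51773440) (.leaf 0)) (.node (.leaf 129753088) (.leaf 0)))) (.node (.node (.node (.leaf 27697152) (.leaf 164200448)) (.node (.leaf 113041408) (.leaf 0))) (.node (.node (.leaf 12836995) (.leaf 0)) (.node (.leaf 144039936) (.leaf 0))))) (.node (.node (.node (.node (.leaf 15040512) (.leaf 160464896)) (.node (.leaf 77011703) (.leaf 0))) (.node (.node (.leaf 63209472) (.leaf 0)) (.node (.leaf 125845665) (.leaf 0)))) (.node (.node (.node (.leaf 39903232) (.leaf 106408651)) (.node (.leaf 25030230) (.leaf 0))) (.node (.node (.leaf 84377600) (.leaf 0)) (.node (.leaf 123646049) (.leaf 0)))))) (.node (.node (.node (.node (.node (.leaf 8609792) (.leaf 156901833)) (.node (.leaf 99147776) (.leaf 0))) (.node (.node (.leaf 57360384) (.leaf 0)) (.node (.leaf 133545984) (.leaf 0)))) (.node (.node (.node (.leaf 33939456) (.leaf 51060754)) (.node (.leaf 117391360) (.leaf 0))) (.node (.node (.leaf 79159296) (.leaf 0)) (.node (.leaf 147357696) (.leaf 0))))) (.node (.node (.node (.node (.leaf 21528576) (.leaf 125770274)) (.node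 (.leaf 101894607) (.leaf 0))) (.node (.node (.leaf 68706304) (.leaf 0)) (.node (.leaf 140787712) (.leaf 0)))) (.node (.node (.node (.leaf 45916160) (.leaf 24035328)) (.node (.leaf 27074739) (.leaf 0))) (.node (.node (.leaf 89432064) (.leaf 0)) (.node (.leaf 153141248) (.leaf 0))))))) (.node (.node (.node (.node (.node (.node (.leaf 5332992) (.leaf 127981800)) (.node (.leaf 96739328) (.leaf 0))) (.node (.node (.leaf 54607872) (.leaf 0)) (.node (.leaf 131743744) (.leaf 0)))) (.node (.node (.node (.leaf 30834688) (.leaf 33135383)) (.node (.leaf 115236864) (.leaf 0))) (.node (.node (.leaf 76570624) (.leaf 0)) (.node (.leaf 145702912) (.leaf 0))))) (.node (.node (.node (.node (.leaf 18358272) (.leaf 161415168)) (.node (.leaf 88379474) (.leaf 0))) (.node (.node (.leaf 65921024) (.leaf 0)) (.node (.leaf 138887168) (.leaf 0)))) (.node (.node (.node (.leaf 42909696) (.leaf 167364476)) (.node (.leaf 123764736) (.leaf 0))) (.node (.node (.leaf 2998272) (.leaf 0)) (.node (.leaf 151863296) (.leaf 0)))))) (.node (.node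 (.node (.node (.node (.leaf 11845632) (.leaf 99517480)) (.node (.leaf 55589680) (.leaf 0))) (.node (.node (.leaf 60358656) (.leaf 0)) (.node (.leaf 135397376) (.leaf 0)))) (.node (.node (.node (.leaf 5961653) (.leaf 84677383)) (.node (.leaf 119496704) (.leaf 0))) (.node (.node (.leaf 81780736) (.leaf 0)) (.node (.leaf 148905984) (.leaf 0))))) (.node (.node (.node (.node (.leaf 24641536) (.leaf 155856618)) (.node (.leaf 110870528) (.leaf 0))) (.node (.node (.leaf 71254016) (.leaf 0)) (.node (.leaf 54455395) (.leaf 0)))) (.node (.node (.node (.leaf 48881664) (.leaf 94726200)) (.node (.leaf 127827968) (.leaf 0))) (.node (.node (.leaf 65403058) (.leaf 0)) (.node (.leaf 50416768) (.leaf 0))))))))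

def e0T28 : NT := .node (.node (.node (.node (.node (.node (.node (.node (.leaf 368640) (.leaf 101476411)) (.node (.leaf 77587999) (.leaf 0))) (.node (.node (.leaf 10661321) (.leaf 167636799)) (.node (.leaf 128827392) (.leaf 0)))) (.node (.node (.node (.leaf 26157056) (.leaf 135553415)) (.node (.leaf 15722293) (.leaf 0))) (.node (.node (.leaf 72605696) (.leaf 0)) (.node (.leaf 26086701) (.leaf 0))))) (.node (.node (.node (.node (.leaf 13459456) (.leaf 109590208)) (.node (.leaf 102662144) (.leaf 0))) (.node (.node (.leaf 61784064) (.leaf 0)) (.node (.leaf 136208384) (.leaf 0)))) (.node (.node (.node (.leaf 38486016) (.leaf 35529565)) (.node (.leaf 116849665) (.leaf 0))) (.node (.node (.leaf 83181568) (.leaf 0)) (.node (.leaf 133192042) (.leaf 0)))))) (.node (.node (.node (.node (.node (.leaf 6971392) (.leaf 157712384)) (.node (.leaf 97935360) (.leaf 0))) (.node (.node (.leaf 55984128) (.leaf 0)) (.node (.leaf 132636672) (.leaf 0)))) (.node (.node (.node (.leaf 32415744) (.leaf 58518396)) (.node (.leaf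 60983751) (.leaf 0))) (.node (.node (.leaf 77897728) (.leaf 0)) (.node (.leaf 146563072) (.leaf 0))))) (.node (.node (.node (.node (.leaf 19996672) (.leaf 98592448)) (.node (.leaf 107421696) (.leaf 0))) (.node (.node (.leaf 67321856) (.leaf 0)) (.node (.leaf 139894784) (.leaf 0)))) (.node (.node (.node (.leaf 44433408) (.leaf 73025927)) (.node (.leaf 23621886) (.leaf 0))) (.node (.node (.leaf 75247772) (.leaf 0)) (.node (.leaf 152477696) (.leaf 0))))))) (.node (.node (.node (.node (.node (.node (.leaf 3694592) (.leaf 156516352)) (.node (.leaf 3465216) (.leaf 0))) (.node (.node (.leaf 53223424) (.leaf 0)) (.node (.leaf 130678784) (.leaf 0)))) (.node (.node (.node (.leaf 29270016) (.leaf 142443166)) (.node (.leaf 27531733) (.leaf 0))) (.node (.node (.leaf 75259904) (.leaf 0)) (.node (.leaf 144883712) (.leaf 0))))) (.node (.node (.node (.node (.leaf 16719872) (.leaf 74722454)) (.node (.leaf 104964096) (.leaf 0))) (.node (.node (.leaf 64512000) (.leaf 0)) (.node (.leaf 138002432) (.leaf 0)))) (.node (.node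 (.node (.leaf 41467904) (.leaf 134948006)) (.node (.leaf 122699776) (.leaf 0))) (.node (.node (.leaf 2932736) (.leaf 0)) (.node (.leaf 151158784) (.leaf 0)))))) (.node (.node (.node (.node (.node (.leaf 10248192) (.leaf 85293221)) (.node (.leaf 100319232) (.leaf 0))) (.node (.node (.leaf 58908672) (.leaf 0)) (.node (.leaf 134438912) (.leaf 0)))) (.node (.node (.node (.leaf 35446784) (.leaf 156216876)) (.node (.leaf 118530048) (.leaf 0))) (.node (.node (.leaf 80453632) (.leaf 0)) (.node (.leaf 41945486) (.leaf 0))))) (.node (.node (.node (.node (.leaf 23068672) (.leaf 82987663)) (.node (.leaf 4407296) (.leaf 0))) (.node (.node (.leaf 69959680) (.leaf 0)) (.node (.leaf 121198037) (.leaf 0)))) (.node (.node (.node (.leaf 1343488) (.leaf 36492047)) (.node (.leaf 126869504) (.leaf 0))) (.node (.node (.leaf 90611712) (.leaf 0)) (.node (.leaf 81221395) (.leaf 0)))))))) (.node (.node (.node (.node (.node (.node (.node (.leaf 2039808) (.leaf 66880775)) (.node (.leaf 94371840) (.leaf 0))) (.node (.node (.leaf 51781632)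 (.leaf 0)) (.node (.leaf 129761280) (.leaf 0)))) (.node (.node (.node (.leaf 27713536) (.leaf 95628357)) (.node (.leaf 113057792) (.leaf 0))) (.node (.node (.leaf 18633893) (.leaf 0)) (.node (.leaf 34516423) (.leaf 0))))) (.node (.node (.node (.node (.leaf 15056896) (.leaf 148129313)) (.node (.leaf 103759872) (.leaf 0))) (.node (.node (.leaf 63225856) (.leaf 0)) (.node (.leaf 137142272) (.leaf 0)))) (.node (.node (.node (.leaf 39919616) (.leaf 134646292)) (.node (.leaf 121659392) (.leaf 0))) (.node (.node (.leaf 84393984) (.leaf 0)) (.node (.leaf 150446080) (.leaf 0)))))) (.node (.node (.node (.node (.node (.leaf 8617984) (.leaf 155350185)) (.node (.leaf 3702784) (.leaf 0))) (.node (.node (.leaf 57376768) (.leaf 0)) (.node (.leaf 133562368) (.leaf 0)))) (.node (.node (.node (.leaf 20945743) (.leaf 111912817)) (.node (.leaf 117399552) (.leaf 0))) (.node (.node (.leaf 76177408) (.leaf 0)) (.node (.leaf 25005873) (.leaf 0))))) (.node (.node (.node (.node (.leaf 15319040) (.leaf 58587482)) (.node (.leaf 6858327)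 (.leaf 0))) (.node (.node (.leaf 13160175) (.leaf 0)) (.node (.leaf 140795904) (.leaf 0)))) (.node (.node (.node (.leaf 45932544) (.leaf 167780426)) (.node (.leaf 114901192) (.leaf 0))) (.node (.node (.leaf 89440256) (.leaf 0)) (.node (.leaf 59136423) (.leaf 0))))))) (.node (.node (.node (.node (.node (.node (.leaf 5349376) (.leaf 116644183)) (.node (.leaf 96747520) (.leaf 0))) (.node (.node (.leaf 54616064) (.leaf 0)) (.node (.leaf 32269144) (.leaf 0)))) (.node (.node (.node (.leaf 30842880) (.leaf 136932925)) (.node (.leaf 97292181) (.leaf 0))) (.node (.node (.leaf 76578816) (.leaf 0)) (.node (.leaf 145711104) (.leaf 0))))) (.node (.node (.node (.node (.leaf 18366464) (.leaf 161431552)) (.node (.leaf 59155878) (.leaf 0))) (.node (.node (.leaf 65929216) (.leaf 0)) (.node (.leaf 138895360) (.leaf 0)))) (.node (.node (.node (.leaf 42926080) (.leaf 147724850)) (.node (.leaf 66244292) (.leaf 0))) (.node (.node (.leaf 71251802) (.leaf 0)) (.node (.leaf 128481917) (.leaf 0)))))) (.node (.node (.node (.node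 (.node (.leaf 11853824) (.leaf 155184248)) (.node (.leaf 33413977) (.leaf 0))) (.node (.node (.leaf 60375040) (.leaf 0)) (.node (.leaf 16728064) (.leaf 0)))) (.node (.node (.node (.leaf 17248011) (.leaf 166413360)) (.node (.leaf 8656874) (.leaf 0))) (.node (.node (.leaf 81788928) (.leaf 0)) (.node (.leaf 12480429) (.leaf 0))))) (.node (.node (.node (.node (.leaf 24657920) (.leaf 147711677)) (.node (.leaf 110878720) (.leaf 0))) (.node (.node (.leaf 45588807) (.leaf 0)) (.node (.leaf 142499840) (.leaf 0)))) (.node (.node (.node (.leaf 48889856) (.leaf 164218149)) (.node (.leaf 127836160) (.leaf 0))) (.node (.node (.leaf 91832320) (.leaf 0)) (.node (.leaf 31546119) (.leaf 0))))))))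

def e0T29 : NT := .node (.node (.node (.node (.node (.node (.node (.node (.leaf 0) (.leaf 70709822)) (.node (.leaf 93151232) (.leaf 0))) (.node (.node (.leaf 50323456) (.leaf 159681906)) (.node (.leaf 101936800) (.leaf 0)))) (.node (.node (.node (.leaf 26165248) (.leaf 102931464)) (.node (.leaf 72569015) (.leaf 0))) (.node (.node (.leaf 72622080) (.leaf 0)) (.node (.leaf 143237120) (.leaf 0))))) (.node (.node (.node (.node (.leaf 13475840) (.leaf 64443132)) (.node (.leaf 102678528) (.leaf 0))) (.node (.node (.leaf 61800448) (.leaf 0)) (.node (.leaf 72727248) (.leaf 0)))) (.node (.node (.node (.leaf 38494208) (.leaf 52041792)) (.node (.leaf 120545280) (.leaf 0))) (.node (.node (.leaf 69201213) (.leaf 0)) (.node (.leaf 143609366) (.leaf 0)))))) (.node (.node (.node (.node (.node (.leaf 6979584) (.leaf 157728768)) (.node (.leaf 97951744) (.leaf 0))) (.node (.node (.leaf 56000512) (.leaf 0)) (.node (.leaf 132644864) (.leaf 0)))) (.node (.node (.node (.leaf 32423936) (.leaf 145514715)) (.node (.leaf 116342784)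 (.leaf 0))) (.node (.node (.leaf 77914112) (.leaf 0)) (.node (.leaf 114750141) (.leaf 0))))) (.node (.node (.node (.node (.leaf 20004864) (.leaf 147934590)) (.node (.leaf 107429888) (.leaf 0))) (.node (.node (.leaf 67338240) (.leaf 0)) (.node (.leaf 34476419) (.leaf 0)))) (.node (.node (.node (.leaf 44449792) (.leaf 163367331)) (.node (.leaf 86037939) (.leaf 0))) (.node (.node (.leaf 37327007) (.leaf 0)) (.node (.leaf 152494080) (.leaf 0))))))) (.node (.node (.node (.node (.node (.node (.leaf 3710976) (.leaf 129350306)) (.node (.leaf 23138889) (.leaf 0))) (.node (.node (.leaf 53231616) (.leaf 0)) (.node (.leaf 130695168) (.leaf 0)))) (.node (.node (.node (.leaf 29286400) (.leaf 163759763)) (.node (.leaf 114122752) (.leaf 0))) (.node (.node (.leaf 59199504) (.leaf 0)) (.node (.leaf 112370238) (.leaf 0))))) (.node (.node (.node (.node (.leaf 16736256) (.leaf 72913185)) (.node (.leaf 104972288) (.leaf 0))) (.node (.node (.leaf 64528384) (.leaf 0)) (.node (.leaf 138010624) (.leaf 0)))) (.node (.node (.node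 (.leaf 41484288) (.leaf 119689070)) (.node (.leaf 122707968) (.leaf 0))) (.node (.node (.leaf 85590016) (.leaf 0)) (.node (.leaf 131078036) (.leaf 0)))))) (.node (.node (.node (.node (.node (.leaf 10264576) (.leaf 158801920)) (.node (.leaf 100327424) (.leaf 0))) (.node (.node (.leaf 51752519) (.leaf 0)) (.node (.leaf 100312106) (.leaf 0)))) (.node (.node (.node (.leaf 35454976) (.leaf 105550247)) (.node (.leaf 34623408) (.leaf 0))) (.node (.node (.leaf 80470016) (.leaf 0)) (.node (.leaf 105121925) (.leaf 0))))) (.node (.node (.node (.node (.leaf 23085056) (.leaf 17578597)) (.node (.leaf 79100342) (.leaf 0))) (.node (.node (.leaf 13621268) (.leaf 0)) (.node (.leaf 139072208) (.leaf 0)))) (.node (.node (.node (.leaf 47415296) (.leaf 167952384)) (.node (.leaf 126885888) (.leaf 0))) (.node (.node (.leaf 88960238) (.leaf 0)) (.node (.leaf 153927680) (.leaf 0)))))))) (.node (.node (.node (.node (.node (.node (.node (.leaf 2048000) (.leaf 122859915)) (.node (.leaf 3383296) (.leaf 0))) (.node (.node (.leaf 51789824)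 (.leaf 0)) (.node (.leaf 129769472) (.leaf 0)))) (.node (.node (.node (.leaf 27721728) (.leaf 91304393)) (.node (.leaf 113065984) (.leaf 0))) (.node (.node (.leaf 73932800) (.leaf 0)) (.node (.leaf 144056320) (.leaf 0))))) (.node (.node (.node (.node (.leaf 15073280) (.leaf 120857702)) (.node (.leaf 3997696) (.leaf 0))) (.node (.node (.leaf 63234048) (.leaf 0)) (.node (.leaf 137158656) (.leaf 0)))) (.node (.node (.node (.leaf 39936000) (.leaf 123523951)) (.node (.leaf 108034109) (.leaf 0))) (.node (.node (.leaf 84410368) (.leaf 0)) (.node (.leaf 142640091) (.leaf 0)))))) (.node (.node (.node (.node (.node (.leaf 8634368) (.leaf 153068485)) (.node (.leaf 99164160) (.leaf 0))) (.node (.node (.leaf 57393152) (.leaf 0)) (.node (.leaf 133570560) (.leaf 0)))) (.node (.node (.node (.leaf 33955840) (.leaf 100448027)) (.node (.leaf 84212607) (.leaf 0))) (.node (.node (.leaf 79175680) (.leaf 0)) (.node (.leaf 147365888) (.leaf 0))))) (.node (.node (.node (.node (.leaf 21544960) (.leaf 162480128)) (.node (.leaf 108691456)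 (.leaf 0))) (.node (.node (.leaf 68714496) (.leaf 0)) (.node (.leaf 90926830) (.leaf 0)))) (.node (.node (.node (.leaf 45940736) (.leaf 162941029)) (.node (.leaf 125861888) (.leaf 0))) (.node (.node (.leaf 89456640) (.leaf 0)) (.node (.leaf 153149440) (.leaf 0))))))) (.node (.node (.node (.node (.node (.node (.leaf 5365760) (.leaf 157097984)) (.node (.leaf 96755712) (.leaf 0))) (.node (.node (.leaf 54632448) (.leaf 0)) (.node (.leaf 106833870) (.leaf 0)))) (.node (.node (.node (.leaf 30851072) (.leaf 41258464)) (.node (.leaf 115245056) (.leaf 0))) (.node (.node (.leaf 76595200) (.leaf 0)) (.node (.leaf 145719296) (.leaf 0))))) (.node (.node (.node (.node (.leaf 18382848) (.leaf 12943360)) (.node (.leaf 106283008) (.leaf 0))) (.node (.node (.leaf 65945600) (.leaf 0)) (.node (.leaf 30815857) (.leaf 0)))) (.node (.node (.node (.leaf 42934272) (.leaf 145895231)) (.node (.leaf 41461735) (.leaf 0))) (.node (.node (.leaf 86802432) (.leaf 0)) (.node (.leaf 117503724) (.leaf 0)))))) (.node (.node (.node (.node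 (.node (.leaf 11870208) (.leaf 46246875)) (.node (.leaf 101556224) (.leaf 0))) (.node (.node (.leaf 60383232) (.leaf 0)) (.node (.leaf 135405568) (.leaf 0)))) (.node (.node (.node (.leaf 35952785) (.leaf 153003773)) (.node (.leaf 119513088) (.leaf 0))) (.node (.node (.leaf 81805312) (.leaf 0)) (.node (.leaf 148914176) (.leaf 0))))) (.node (.node (.node (.node (.leaf 24674304) (.leaf 40206715)) (.node (.leaf 110895104) (.leaf 0))) (.node (.node (.leaf 71278592) (.leaf 0)) (.node (.leaf 142508032) (.leaf 0)))) (.node (.node (.node (.leaf 48906240) (.leaf 53910565)) (.node (.leaf 127844352) (.leaf 0))) (.node (.node (.leaf 91840512) (.leaf 0)) (.node (.leaf 25186306) (.leaf 0))))))))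

def e0T30 : NT := .node (.node (.node (.node (.node (.node (.node (.node (.leaf 393216) (.leaf 155197440)) (.node (.leaf 93159424) (.leaf 0))) (.node (.node (.leaf 50339840) (.leaf 163778145)) (.node (.leaf 128835584) (.leaf 0)))) (.node (.node (.node (.leaf 26181632) (.leaf 155169342)) (.node (.leaf 111968256) (.leaf 0))) (.node (.node (.leaf 72638464) (.leaf 0)) (.node (.leaf 143253504) (.leaf 0))))) (.node (.node (.node (.node (.leaf 13484032) (.leaf 155796070)) (.node (.leaf 102686720) (.leaf 0))) (.node (.node (.leaf 61816832) (.leaf 0)) (.node (.leaf 136216576) (.leaf 0)))) (.node (.node (.node (.leaf 38510592) (.leaf 166961152)) (.node (.leaf 120561664) (.leaf 0))) (.node (.node (.leaf 83189760) (.leaf 0)) (.node (.leaf 149684224) (.leaf 0)))))) (.node (.node (.node (.node (.node (.leaf 6995968) (.leaf 133423528)) (.node (.leaf 40311517) (.leaf 0))) (.node (.node (.leaf 56016896) (.leaf 0)) (.node (.leaf 132661248) (.leaf 0)))) (.node (.node (.node (.leaf 32432128) (.leaf 160584618)) (.node (.leaf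 116350976) (.leaf 0))) (.node (.node (.leaf 77922304) (.leaf 0)) (.node (.leaf 48763987) (.leaf 0))))) (.node (.node (.node (.node (.leaf 20021248) (.leaf 157720879)) (.node (.leaf 88171757) (.leaf 0))) (.node (.node (.leaf 67354624) (.leaf 0)) (.node (.leaf 138128106) (.leaf 0)))) (.node (.node (.node (.leaf 44457984) (.leaf 154408135)) (.node (.leaf 27618168) (.leaf 0))) (.node (.node (.leaf 88104960) (.leaf 0)) (.node (.leaf 152502272) (.leaf 0))))))) (.node (.node (.node (.node (.node (.node (.leaf 3719168) (.leaf 154812734)) (.node (.leaf 95567872) (.leaf 0))) (.node (.node (.leaf 53248000) (.leaf 0)) (.node (.leaf 130703360) (.leaf 0)))) (.node (.node (.node (.leaf 29294592) (.leaf 120280511)) (.node (.leaf 100825132) (.leaf 0))) (.node (.node (.leaf 75276288) (.leaf 0)) (.node (.leaf 142285865) (.leaf 0))))) (.node (.node (.node (.node (.leaf 16744448) (.leaf 136324615)) (.node (.leaf 104988672) (.leaf 0))) (.node (.node (.leaf 64544768) (.leaf 0)) (.node (.leaf 62878610) (.leaf 0)))) (.node (.node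 (.node (.leaf 41492480) (.leaf 146192579)) (.node (.leaf 122724352) (.leaf 0))) (.node (.node (.leaf 85598208) (.leaf 0)) (.node (.leaf 151175168) (.leaf 0)))))) (.node (.node (.node (.node (.node (.leaf 10272768) (.leaf 110512132)) (.node (.leaf 93130161) (.leaf 0))) (.node (.node (.leaf 58925056) (.leaf 0)) (.node (.leaf 13981250) (.leaf 0)))) (.node (.node (.node (.leaf 35471360) (.leaf 166131960)) (.node (.leaf 75514746) (.leaf 0))) (.node (.node (.leaf 80478208) (.leaf 0)) (.node (.leaf 148103168) (.leaf 0))))) (.node (.node (.node (.node (.leaf 23093248) (.leaf 162947072)) (.node (.leaf 109764608) (.leaf 0))) (.node (.node (.leaf 69976064) (.leaf 0)) (.node (.leaf 141656064) (.leaf 0)))) (.node (.node (.node (.leaf 47423488) (.leaf 128456594)) (.node (.leaf 47791003) (.leaf 0))) (.node (.node (.leaf 90619904) (.leaf 0)) (.node (.leaf 153935872) (.leaf 0)))))))) (.node (.node (.node (.node (.node (.node (.node (.leaf 2064384) (.leaf 144511003)) (.node (.leaf 87845293) (.leaf 0))) (.node (.node (.leaf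 18660172) (.leaf 0)) (.node (.leaf 129785856) (.leaf 0)))) (.node (.node (.node (.leaf 17436871) (.leaf 148735089)) (.node (.leaf 84842407) (.leaf 0))) (.node (.node (.leaf 19780761) (.leaf 0)) (.node (.leaf 144064512) (.leaf 0))))) (.node (.node (.node (.node (.leaf 15081472) (.leaf 124953138)) (.node (.leaf 103776256) (.leaf 0))) (.node (.node (.leaf 63250432) (.leaf 0)) (.node (.leaf 54871419) (.leaf 0)))) (.node (.node (.node (.leaf 39944192) (.leaf 163982494)) (.node (.leaf 121675776) (.leaf 0))) (.node (.node (.leaf 84418560) (.leaf 0)) (.node (.leaf 70600228) (.leaf 0)))))) (.node (.node (.node (.node (.node (.leaf 8642560) (.leaf 114861135)) (.node (.leaf 99172352) (.leaf 0))) (.node (.node (.leaf 57401344) (.leaf 0)) (.node (.leaf 133578752) (.leaf 0)))) (.node (.node (.node (.leaf 33972224) (.leaf 165888000)) (.node (.leaf 53323497) (.leaf 0))) (.node (.node (.leaf 23232620) (.leaf 0)) (.node (.leaf 73482989) (.leaf 0))))) (.node (.node (.node (.node (.leaf 21561344) (.leaf 162488320)) (.node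 (.leaf 108699648) (.leaf 0))) (.node (.node (.leaf 68730880) (.leaf 0)) (.node (.leaf 137040222) (.leaf 0)))) (.node (.node (.node (.leaf 45957120) (.leaf 164671924)) (.node (.leaf 125870080) (.leaf 0))) (.node (.node (.leaf 34408600) (.leaf 0)) (.node (.leaf 153165824) (.leaf 0))))))) (.node (.node (.node (.node (.node (.node (.leaf 122880) (.leaf 157114368)) (.node (.leaf 96772096) (.leaf 0))) (.node (.node (.leaf 54640640) (.leaf 0)) (.node (.leaf 131751936) (.leaf 0)))) (.node (.node (.node (.leaf 30859264) (.leaf 165150720)) (.node (.leaf 79895003) (.leaf 0))) (.node (.node (.leaf 61604752) (.leaf 0)) (.node (.leaf 96192803) (.leaf 0))))) (.node (.node (.node (.node (.leaf 18391040) (.leaf 104911580)) (.node (.leaf 24490664) (.leaf 0))) (.node (.node (.leaf 65953792) (.leaf 0)) (.node (.leaf 138919936) (.leaf 0)))) (.node (.node (.node (.leaf 42950656) (.leaf 157465615)) (.node (.leaf 123772928) (.leaf 0))) (.node (.node (.leaf 62183312) (.leaf 0)) (.node (.leaf 151871488) (.leaf 0)))))) (.node (.node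 (.node (.node (.node (.leaf 7767187) (.leaf 34105433)) (.node (.leaf 9715712) (.leaf 0))) (.node (.node (.leaf 60399616) (.leaf 0)) (.node (.leaf 135421952) (.leaf 0)))) (.node (.node (.node (.leaf 37011456) (.leaf 166625280)) (.node (.leaf 79684239) (.leaf 0))) (.node (.node (.leaf 81821696) (.leaf 0)) (.node (.leaf 115100862) (.leaf 0))))) (.node (.node (.node (.node (.leaf 24682496) (.leaf 72231804)) (.node (.leaf 110903296) (.leaf 0))) (.node (.node (.leaf 38868453) (.leaf 0)) (.node (.leaf 142524416) (.leaf 0)))) (.node (.node (.node (.leaf 48922624) (.leaf 159415178)) (.node (.leaf 105147732) (.leaf 0))) (.node (.node (.leaf 91856896) (.leaf 0)) (.node (.leaf 154566656) (.leaf 0))))))))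

def e0T31 : NT := .node (.node (.node (.node (.node (.node (.node (.node (.leaf 401408) (.leaf 155205632)) (.node (.leaf 93175808) (.leaf 0))) (.node (.node (.leaf 50356224) (.leaf 103391530)) (.node (.leaf 47067463) (.leaf 0)))) (.node (.node (.node (.leaf 26198016) (.leaf 150722117)) (.node (.leaf 111976448) (.leaf 0))) (.node (.node (.leaf 72646656) (.leaf 0)) (.node (.leaf 46441259) (.leaf 0))))) (.node (.node (.node (.node (.leaf 13500416) (.leaf 150385370)) (.node (.leaf 102694912) (.leaf 0))) (.node (.node (.leaf 61825024) (.leaf 0)) (.node (.leaf 136224768) (.leaf 0)))) (.node (.node (.node (.leaf 38526976) (.leaf 94258911)) (.node (.leaf 120569856) (.leaf 0))) (.node (.node (.leaf 83197952) (.leaf 0)) (.node (.leaf 149692416) (.leaf 0)))))) (.node (.node (.node (.node (.node (.leaf 7012352) (.leaf 157745152)) (.node (.leaf 35307863) (.leaf 0))) (.node (.node (.leaf 56025088) (.leaf 0)) (.node (.leaf 132669440) (.leaf 0)))) (.node (.node (.node (.leaf 32448512) (.leaf 165543936)) (.node (.leaf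 116123106) (.leaf 0))) (.node (.node (.leaf 77930496) (.leaf 0)) (.node (.leaf 129404007) (.leaf 0))))) (.node (.node (.node (.node (.leaf 20037632) (.leaf 161988608)) (.node (.leaf 107446272) (.leaf 0))) (.node (.node (.leaf 67362816) (.leaf 0)) (.node (.leaf 139911168) (.leaf 0)))) (.node (.node (.node (.leaf 44474368) (.leaf 96222112)) (.node (.leaf 124772352) (.leaf 0))) (.node (.node (.leaf 88121344) (.leaf 0)) (.node (.leaf 152510464) (.leaf 0))))))) (.node (.node (.node (.node (.node (.node (.leaf 3735552) (.leaf 156532736)) (.node (.leaf 70929217) (.leaf 0))) (.node (.node (.leaf 53256192) (.leaf 0)) (.node (.leaf 92144643) (.leaf 0)))) (.node (.node (.node (.leaf 29302784) (.leaf 164782080)) (.node (.leaf 22021599) (.leaf 0))) (.node (.node (.leaf 75284480) (.leaf 0)) (.node (.leaf 144891904) (.leaf 0))))) (.node (.node (.node (.node (.leaf 16760832) (.leaf 49521684)) (.node (.leaf 104996864) (.leaf 0))) (.node (.node (.leaf 64552960) (.leaf 0)) (.node (.leaf 138018816) (.leaf 0)))) (.node (.node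 (.node (.leaf 41500672) (.leaf 132769825)) (.node (.leaf 72483798) (.leaf 0))) (.node (.node (.leaf 85614592) (.leaf 0)) (.node (.leaf 36383309) (.leaf 0)))))) (.node (.node (.node (.node (.node (.leaf 10289152) (.leaf 158818304)) (.node (.leaf 100343808) (.leaf 0))) (.node (.node (.leaf 58941440) (.leaf 0)) (.node (.leaf 114730438) (.leaf 0)))) (.node (.node (.node (.leaf 35487744) (.leaf 150878916)) (.node (.leaf 111753205) (.leaf 0))) (.node (.node (.leaf 80494592) (.leaf 0)) (.node (.leaf 142664813) (.leaf 0))))) (.node (.node (.node (.node (.leaf 12094936) (.leaf 128733832)) (.node (.leaf 109772800) (.leaf 0))) (.node (.node (.leaf 69984256) (.leaf 0)) (.node (.leaf 141664256) (.leaf 0)))) (.node (.node (.node (.leaf 47439872) (.leaf 162390355)) (.node (.leaf 126894080) (.leaf 0))) (.node (.node (.leaf 7500534) (.leaf 0)) (.node (.leaf 130240301) (.leaf 0)))))))) (.node (.node (.node (.node (.node (.node (.node (.leaf 2080768) (.leaf 155918336)) (.node (.leaf 94388224) (.leaf 0))) (.node (.node (.leaf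 51806208) (.leaf 0)) (.node (.leaf 104394972) (.leaf 0)))) (.node (.node (.node (.leaf 27746304) (.leaf 49787414)) (.node (.leaf 110571537) (.leaf 0))) (.node (.node (.leaf 73949184) (.leaf 0)) (.node (.leaf 103207335) (.leaf 0))))) (.node (.node (.node (.node (.leaf 15097856) (.leaf 71896272)) (.node (.leaf 73002567) (.leaf 0))) (.node (.node (.leaf 63258624) (.leaf 0)) (.node (.leaf 137175040) (.leaf 0)))) (.node (.node (.node (.leaf 39960576) (.leaf 157444613)) (.node (.leaf 121683968) (.leaf 0))) (.node (.node (.leaf 84434944) (.leaf 0)) (.node (.leaf 9199616) (.leaf 0)))))) (.node (.node (.node (.node (.node (.leaf 8658944) (.leaf 102349975)) (.node (.leaf 99188736) (.leaf 0))) (.node (.node (.leaf 57417728) (.leaf 0)) (.node (.leaf 133586944) (.leaf 0)))) (.node (.node (.node (.leaf 33988608) (.leaf 153758127)) (.node (.leaf 117415936) (.leaf 0))) (.node (.node (.leaf 79192064) (.leaf 0)) (.node (.leaf 48251921) (.leaf 0))))) (.node (.node (.node (.node (.leaf 15917056) (.leaf 136243274)) (.node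 (.leaf 108707840) (.leaf 0))) (.node (.node (.leaf 68739072) (.leaf 0)) (.node (.leaf 140812288) (.leaf 0)))) (.node (.node (.node (.leaf 45965312) (.leaf 97247762)) (.node (.leaf 125886464) (.leaf 0))) (.node (.node (.leaf 40264003) (.leaf 0)) (.node (.leaf 153182208) (.leaf 0))))))) (.node (.node (.node (.node (.node (.node (.leaf 5382144) (.leaf 121950797)) (.node (.leaf 19631803) (.leaf 0))) (.node (.node (.leaf 21632632) (.leaf 0)) (.node (.leaf 131760128) (.leaf 0)))) (.node (.node (.node (.leaf 30875648) (.leaf 72636632)) (.node (.leaf 115253248) (.leaf 0))) (.node (.node (.leaf 55101120) (.leaf 0)) (.node (.leaf 114949047) (.leaf 0))))) (.node (.node (.node (.node (.leaf 18407424) (.leaf 109686169)) (.node (.leaf 95603535) (.leaf 0))) (.node (.node (.leaf 65970176) (.leaf 0)) (.node (.leaf 120336802) (.leaf 0)))) (.node (.node (.node (.leaf 42958848) (.leaf 81819546)) (.node (.leaf 123781120) (.leaf 0))) (.node (.node (.leaf 86810624) (.leaf 0)) (.node (.leaf 151879680) (.leaf 0)))))) (.node (.node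 (.node (.node (.node (.leaf 11886592) (.leaf 47238230)) (.node (.leaf 101572608) (.leaf 0))) (.node (.node (.leaf 60416000) (.leaf 0)) (.node (.leaf 135430144) (.leaf 0)))) (.node (.node (.node (.leaf 37027840) (.leaf 162917575)) (.node (.leaf 119529472) (.leaf 0))) (.node (.node (.leaf 81829888) (.leaf 0)) (.node (.leaf 107311698) (.leaf 0))))) (.node (.node (.node (.node (.leaf 24698880) (.leaf 160044393)) (.node (.leaf 110919680) (.leaf 0))) (.node (.node (.leaf 71294976) (.leaf 0)) (.node (.leaf 122503859) (.leaf 0)))) (.node (.node (.node (.leaf 48930816) (.leaf 161282136)) (.node (.leaf 79045063) (.leaf 0))) (.node (.node (.leaf 91873280) (.leaf 0)) (.node (.leaf 103121685) (.leaf 0))))))))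

def e0T32 : NT := .node (.node (.node (.node (.node (.node (.node (.node (.leaf 417792) (.leaf 155213824)) (.node (.leaf 93192192) (.leaf 0))) (.node (.node (.leaf 50364416) (.leaf 90600137)) (.node (.leaf 93770906) (.leaf 0)))) (.node (.node (.node (.leaf 26206208) (.leaf 18515268)) (.node (.leaf 111984640) (.leaf 0))) (.node (.node (.leaf 72663040) (.leaf 0)) (.node (.leaf 143269888) (.leaf 0))))) (.node (.node (.node (.node (.leaf 13516800) (.leaf 57060684)) (.node (.leaf 46702855) (.leaf 0))) (.node (.node (.leaf 61841408) (.leaf 0)) (.node (.leaf 38329489) (.leaf 0)))) (.node (.node (.node (.leaf 38535168) (.leaf 166977536)) (.node (.leaf 120578048) (.leaf 0))) (.node (.node (.leaf 38566690) (.leaf 0)) (.node (.leaf 138482670) (.leaf 0)))))) (.node (.node (.node (.node (.node (.leaf 7020544) (.leaf 65050087)) (.node (.leaf 97968128) (.leaf 0))) (.node (.node (.leaf 56033280) (.leaf 0)) (.node (.leaf 119098575) (.leaf 0)))) (.node (.node (.node (.leaf 32456704) (.leaf 152011741)) (.node (.leaf 61717616)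 (.leaf 0))) (.node (.node (.leaf 77946880) (.leaf 0)) (.node (.leaf 146262386) (.leaf 0))))) (.node (.node (.node (.node (.leaf 20045824) (.leaf 162004992)) (.node (.leaf 107454464) (.leaf 0))) (.node (.node (.leaf 67379200) (.leaf 0)) (.node (.leaf 139919360) (.leaf 0)))) (.node (.node (.node (.leaf 44490752) (.leaf 163136256)) (.node (.leaf 124788736) (.leaf 0))) (.node (.node (.leaf 88137728) (.leaf 0)) (.node (.leaf 152526848) (.leaf 0))))))) (.node (.node (.node (.node (.node (.node (.leaf 3751936) (.leaf 130265813)) (.node (.leaf 22334981) (.leaf 0))) (.node (.node (.leaf 53264384) (.leaf 0)) (.node (.leaf 130727936) (.leaf 0)))) (.node (.node (.node (.leaf 29319168) (.leaf 70203057)) (.node (.leaf 114147328) (.leaf 0))) (.node (.node (.leaf 75300864) (.leaf 0)) (.node (.leaf 144900096) (.leaf 0))))) (.node (.node (.node (.node (.leaf 16777216) (.leaf 129113263)) (.node (.leaf 85320611) (.leaf 0))) (.node (.node (.leaf 64561152) (.leaf 0)) (.node (.leaf 83050496) (.leaf 0)))) (.node (.node (.node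 (.leaf 41517056) (.leaf 166530819)) (.node (.leaf 122740736) (.leaf 0))) (.node (.node (.leaf 85630976) (.leaf 0)) (.node (.leaf 151191552) (.leaf 0)))))) (.node (.node (.node (.node (.node (.leaf 10297344) (.leaf 156230418)) (.node (.leaf 100352000) (.leaf 0))) (.node (.node (.leaf 19975655) (.leaf 0)) (.node (.leaf 59698943) (.leaf 0)))) (.node (.node (.node (.leaf 35495936) (.leaf 165680299)) (.node (.leaf 66349806) (.leaf 0))) (.node (.node (.leaf 80510976) (.leaf 0)) (.node (.leaf 148119552) (.leaf 0))))) (.node (.node (.node (.node (.leaf 23117824) (.leaf 162963456)) (.node (.leaf 105306396) (.leaf 0))) (.node (.node (.leaf 69992448) (.leaf 0)) (.node (.leaf 141672448) (.leaf 0)))) (.node (.node (.node (.leaf 23645001) (.leaf 32465378)) (.node (.leaf 108877992) (.leaf 0))) (.node (.node (.leaf 90636288) (.leaf 0)) (.node (.leaf 130851283) (.leaf 0)))))))) (.node (.node (.node (.node (.node (.node (.node (.leaf 2088960) (.leaf 58079525)) (.node (.leaf 94396416) (.leaf 0))) (.node (.node (.leaf 51814400)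 (.leaf 0)) (.node (.leaf 129802240) (.leaf 0)))) (.node (.node (.node (.leaf 27754496) (.leaf 104982429)) (.node (.leaf 113082368) (.leaf 0))) (.node (.node (.leaf 73965568) (.leaf 0)) (.node (.leaf 144072704) (.leaf 0))))) (.node (.node (.node (.node (.leaf 15114240) (.leaf 95576368)) (.node (.leaf 103784448) (.leaf 0))) (.node (.node (.leaf 58918848) (.leaf 0)) (.node (.leaf 90630551) (.leaf 0)))) (.node (.node (.node (.leaf 39968768) (.leaf 101103146)) (.node (.leaf 71652269) (.leaf 0))) (.node (.node (.leaf 84451328) (.leaf 0)) (.node (.leaf 27413169) (.leaf 0)))))) (.node (.node (.node (.node (.node (.leaf 8675328) (.leaf 126677582)) (.node (.leaf 99205120) (.leaf 0))) (.node (.node (.leaf 57425920) (.leaf 0)) (.node (.leaf 131828016) (.leaf 0)))) (.node (.node (.node (.leaf 33996800) (.leaf 157074237)) (.node (.leaf 117424128) (.leaf 0))) (.node (.node (.leaf 37909223) (.leaf 0)) (.node (.leaf 117831081) (.leaf 0))))) (.node (.node (.node (.node (.leaf 21577728) (.leaf 162504704)) (.node (.leaf 108724224)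 (.leaf 0))) (.node (.node (.leaf 30013724) (.leaf 0)) (.node (.leaf 27184347) (.leaf 0)))) (.node (.node (.node (.leaf 45981696) (.leaf 121654651)) (.node (.leaf 125894656) (.leaf 0))) (.node (.node (.leaf 15401362) (.leaf 0)) (.node (.leaf 153190400) (.leaf 0))))))) (.node (.node (.node (.node (.node (.node (.leaf 5390336) (.leaf 143192116)) (.node (.leaf 96780288) (.leaf 0))) (.node (.node (.leaf 54173941) (.leaf 0)) (.node (.leaf 131768320) (.leaf 0)))) (.node (.node (.node (.leaf 30892032) (.leaf 99541963)) (.node (.leaf 115261440) (.leaf 0))) (.node (.node (.leaf 76619776) (.leaf 0)) (.node (.leaf 99888721) (.leaf 0))))) (.node (.node (.node (.node (.leaf 18423808) (.leaf 161439744)) (.node (.leaf 4161536) (.leaf 0))) (.node (.node (.leaf 65986560) (.leaf 0)) (.node (.leaf 74863626) (.leaf 0)))) (.node (.node (.node (.leaf 42975232) (.leaf 167567360)) (.node (.leaf 86094063) (.leaf 0))) (.node (.node (.leaf 86818816) (.leaf 0)) (.node (.leaf 151896064) (.leaf 0)))))) (.node (.node (.node (.node (.node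 (.leaf 11894784) (.leaf 18146687)) (.node (.leaf 101588992) (.leaf 0))) (.node (.node (.leaf 60424192) (.leaf 0)) (.node (.leaf 126966711) (.leaf 0)))) (.node (.node (.node (.leaf 37044224) (.leaf 77670084)) (.node (.leaf 105187970) (.leaf 0))) (.node (.node (.leaf 81838080) (.leaf 0)) (.node (.leaf 148922368) (.leaf 0))))) (.node (.node (.node (.node (.leaf 24707072) (.leaf 92804348)) (.node (.leaf 110936064) (.leaf 0))) (.node (.node (.leaf 71311360) (.leaf 0)) (.node (.leaf 120058745) (.leaf 0)))) (.node (.node (.node (.leaf 48939008) (.leaf 131272551)) (.node (.leaf 21685969) (.leaf 0))) (.node (.node (.leaf 75371765) (.leaf 0)) (.node (.leaf 153456155) (.leaf 0))))))))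

def e0T33 : NT := .node (.node (.node (.node (.node (.node (.node (.node (.leaf 434176) (.leaf 155230208)) (.node (.leaf 93200384) (.leaf 0))) (.node (.node (.leaf 50380800) (.leaf 134245012)) (.node (.leaf 48523264) (.leaf 0)))) (.node (.node (.node (.leaf 25423971) (.leaf 163790848)) (.node (.leaf 111992832) (.leaf 0))) (.node (.node (.leaf 72671232) (.leaf 0)) (.node (.leaf 7856128) (.leaf 0))))) (.node (.node (.node (.node (.leaf 13524992) (.leaf 79548818)) (.node (.leaf 102719488) (.leaf 0))) (.node (.node (.leaf 61849600) (.leaf 0)) (.node (.leaf 36832732) (.leaf 0)))) (.node (.node (.node (.leaf 38551552) (.leaf 160117191)) (.node (.leaf 98873240) (.leaf 0))) (.node (.node (.leaf 83214336) (.leaf 0)) (.node (.leaf 149708800) (.leaf 0)))))) (.node (.node (.node (.node (.node (.leaf 7036928) (.leaf 154334174)) (.node (.leaf 89016752) (.leaf 0))) (.node (.node (.leaf 25130885) (.leaf 0)) (.node (.leaf 110361000) (.leaf 0)))) (.node (.node (.node (.leaf 32473088) (.leaf 139663543)) (.node (.leaf 116359168)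 (.leaf 0))) (.node (.node (.leaf 77955072) (.leaf 0)) (.node (.leaf 146587648) (.leaf 0))))) (.node (.node (.node (.node (.leaf 14631087) (.leaf 162013184)) (.node (.leaf 107470848) (.leaf 0))) (.node (.node (.leaf 67387392) (.leaf 0)) (.node (.leaf 139935744) (.leaf 0)))) (.node (.node (.node (.leaf 44498944) (.leaf 154580057)) (.node (.leaf 124796928) (.leaf 0))) (.node (.node (.leaf 88154112) (.leaf 0)) (.node (.leaf 152535040) (.leaf 0))))))) (.node (.node (.node (.node (.node (.node (.leaf 3760128) (.leaf 142101341)) (.node (.leaf 95592448) (.leaf 0))) (.node (.node (.leaf 53280768) (.leaf 0)) (.node (.leaf 103073627) (.leaf 0)))) (.node (.node (.node (.leaf 29335552) (.leaf 164790272)) (.node (.leaf 102590312) (.leaf 0))) (.node (.node (.leaf 75317248) (.leaf 0)) (.node (.leaf 144916480) (.leaf 0))))) (.node (.node (.node (.node (.leaf 16785408) (.leaf 44075746)) (.node (.leaf 19322505) (.leaf 0))) (.node (.node (.leaf 64577536) (.leaf 0)) (.node (.leaf 55855461) (.leaf 0)))) (.node (.node (.node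 (.leaf 41525248) (.leaf 117141514)) (.node (.leaf 80244261) (.leaf 0))) (.node (.node (.leaf 28265481) (.leaf 0)) (.node (.leaf 109277719) (.leaf 0)))))) (.node (.node (.node (.node (.node (.leaf 10313728) (.leaf 117125701)) (.node (.leaf 100360192) (.leaf 0))) (.node (.node (.leaf 58949632) (.leaf 0)) (.node (.leaf 134479872) (.leaf 0)))) (.node (.node (.node (.leaf 35512320) (.leaf 166273024)) (.node (.leaf 118546432) (.leaf 0))) (.node (.node (.leaf 80527360) (.leaf 0)) (.node (.leaf 136015407) (.leaf 0))))) (.node (.node (.node (.node (.leaf 23126016) (.leaf 28402659)) (.node (.leaf 109780992) (.leaf 0))) (.node (.node (.leaf 70000640) (.leaf 0)) (.node (.leaf 128110204) (.leaf 0)))) (.node (.node (.node (.leaf 28983577) (.leaf 101330654)) (.node (.leaf 126918656) (.leaf 0))) (.node (.node (.leaf 90644480) (.leaf 0)) (.node (.leaf 145474538) (.leaf 0)))))))) (.node (.node (.node (.node (.node (.node (.node (.leaf 2105344) (.leaf 155926528)) (.node (.leaf 59302248) (.leaf 0))) (.node (.node (.leaf 51822592)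 (.leaf 0)) (.node (.leaf 129818624) (.leaf 0)))) (.node (.node (.node (.leaf 27770880) (.leaf 163199445)) (.node (.leaf 113098752) (.leaf 0))) (.node (.node (.leaf 73973760) (.leaf 0)) (.node (.leaf 144089088) (.leaf 0))))) (.node (.node (.node (.node (.leaf 376832) (.leaf 160473088)) (.node (.leaf 56523864) (.leaf 0))) (.node (.node (.leaf 63283200) (.leaf 0)) (.node (.leaf 120724156) (.leaf 0)))) (.node (.node (.node (.leaf 39985152) (.leaf 156566621)) (.node (.leaf 33045510) (.leaf 0))) (.node (.node (.leaf 41276613) (.leaf 0)) (.node (.leaf 60072709) (.leaf 0)))))) (.node (.node (.node (.node (.node (.leaf 8683520) (.leaf 107002077)) (.node (.leaf 99213312) (.leaf 0))) (.node (.node (.leaf 54208993) (.leaf 0)) (.node (.leaf 100170554) (.leaf 0)))) (.node (.node (.node (.leaf 34013184) (.leaf 165896192)) (.node (.leaf 117432320) (.leaf 0))) (.node (.node (.leaf 79200256) (.leaf 0)) (.node (.leaf 147374080) (.leaf 0))))) (.node (.node (.node (.node (.leaf 21585920) (.leaf 147623570)) (.node (.leaf 108732416)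 (.leaf 0))) (.node (.node (.leaf 68755456) (.leaf 0)) (.node (.leaf 125254325) (.leaf 0)))) (.node (.node (.node (.leaf 45998080) (.leaf 166429437)) (.node (.leaf 25544202) (.leaf 0))) (.node (.node (.leaf 89481216) (.leaf 0)) (.node (.leaf 133262175) (.leaf 0))))))) (.node (.node (.node (.node (.node (.node (.leaf 5406720) (.leaf 157130752)) (.node (.leaf 96796672) (.leaf 0))) (.node (.node (.leaf 53582460) (.leaf 0)) (.node (.leaf 63293906) (.leaf 0)))) (.node (.node (.node (.leaf 30900224) (.leaf 149267186)) (.node (.leaf 115277824) (.leaf 0))) (.node (.node (.leaf 76627968) (.leaf 0)) (.node (.leaf 113256676) (.leaf 0))))) (.node (.node (.node (.node (.leaf 18432000) (.leaf 159972181)) (.node (.leaf 106299392) (.leaf 0))) (.node (.node (.leaf 65994752) (.leaf 0)) (.node (.leaf 134689643) (.leaf 0)))) (.node (.node (.node (.leaf 42991616) (.leaf 167575552)) (.node (.leaf 123789312) (.leaf 0))) (.node (.node (.leaf 86835200) (.leaf 0)) (.node (.leaf 143915361) (.leaf 0)))))) (.node (.node (.node (.node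 (.node (.leaf 11911168) (.leaf 102500968)) (.node (.leaf 101597184) (.leaf 0))) (.node (.node (.leaf 58545899) (.leaf 0)) (.node (.leaf 135446528) (.leaf 0)))) (.node (.node (.node (.leaf 37052416) (.leaf 132097895)) (.node (.leaf 118071296) (.leaf 0))) (.node (.node (.leaf 81854464) (.leaf 0)) (.node (.leaf 148938752) (.leaf 0))))) (.node (.node (.node (.node (.leaf 24723456) (.leaf 89790354)) (.node (.leaf 4472832) (.leaf 0))) (.node (.node (.leaf 71319552) (.leaf 0)) (.node (.leaf 142540800) (.leaf 0)))) (.node (.node (.node (.leaf 48955392) (.leaf 164910917)) (.node (.leaf 127885312) (.leaf 0))) (.node (.node (.leaf 91881472) (.leaf 0)) (.node (.leaf 152069797) (.leaf 0))))))))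

def e0T34 : NT := .node (.node (.node (.node (.node (.node (.node (.node (.leaf 442368) (.leaf 155246592)) (.node (.leaf 93208576) (.leaf 0))) (.node (.node (.leaf 50397184) (.leaf 168060835)) (.node (.leaf 128843776) (.leaf 0)))) (.node (.node (.node (.leaf 26230784) (.leaf 48138301)) (.node (.leaf 112001024) (.leaf 0))) (.node (.node (.leaf 72687616) (.leaf 0)) (.node (.leaf 143278080) (.leaf 0))))) (.node (.node (.node (.node (.leaf 13541376) (.leaf 143802599)) (.node (.leaf 70428252) (.leaf 0))) (.node (.node (.leaf 61857792) (.leaf 0)) (.node (.leaf 136249344) (.leaf 0)))) (.node (.node (.node (.leaf 1428064) (.leaf 111920757)) (.node (.leaf 120594432) (.leaf 0))) (.node (.node (.leaf 83230720) (.leaf 0)) (.node (.leaf 104666875) (.leaf 0)))))) (.node (.node (.node (.node (.node (.leaf 7053312) (.leaf 153682749)) (.node (.leaf 97984512) (.leaf 0))) (.node (.node (.leaf 56049664) (.leaf 0)) (.node (.leaf 71077935) (.leaf 0)))) (.node (.node (.node (.leaf 32489472) (.leaf 150711032)) (.node (.leaf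 18573662) (.leaf 0))) (.node (.node (.leaf 77971456) (.leaf 0)) (.node (.leaf 145301504) (.leaf 0))))) (.node (.node (.node (.node (.leaf 20062208) (.leaf 56369933)) (.node (.leaf 107479040) (.leaf 0))) (.node (.node (.leaf 67403776) (.leaf 0)) (.node (.leaf 139943936) (.leaf 0)))) (.node (.node (.node (.leaf 44515328) (.leaf 126760142)) (.node (.leaf 124805120) (.leaf 0))) (.node (.node (.leaf 88162304) (.leaf 0)) (.node (.leaf 152551424) (.leaf 0))))))) (.node (.node (.node (.node (.node (.node (.leaf 3776512) (.leaf 156540928)) (.node (.leaf 95608832) (.leaf 0))) (.node (.node (.leaf 35089190) (.leaf 0)) (.node (.leaf 34138243) (.leaf 0)))) (.node (.node (.node (.leaf 29343744) (.leaf 88335830)) (.node (.leaf 4710400) (.leaf 0))) (.node (.node (.leaf 75325440) (.leaf 0)) (.node (.leaf 144924672) (.leaf 0))))) (.node (.node (.node (.node (.leaf 16801792) (.leaf 103805151)) (.node (.leaf 105013248) (.leaf 0))) (.node (.node (.leaf 20575644) (.leaf 0)) (.node (.leaf 138035200) (.leaf 0)))) (.node (.node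 (.node (.leaf 41541632) (.leaf 104519952)) (.node (.leaf 122748928) (.leaf 0))) (.node (.node (.leaf 85647360) (.leaf 0)) (.node (.leaf 137708788) (.leaf 0)))))) (.node (.node (.node (.node (.node (.leaf 10330112) (.leaf 138768583)) (.node (.leaf 100376576) (.leaf 0))) (.node (.node (.leaf 58957824) (.leaf 0)) (.node (.leaf 134488064) (.leaf 0)))) (.node (.node (.node (.leaf 35520512) (.leaf 162760637)) (.node (.leaf 118554624) (.leaf 0))) (.node (.node (.leaf 26248812) (.leaf 0)) (.node (.leaf 45305162) (.leaf 0))))) (.node (.node (.node (.node (.leaf 23142400) (.leaf 114116213)) (.node (.leaf 109797376) (.leaf 0))) (.node (.node (.leaf 70008832) (.leaf 0)) (.node (.leaf 141680640) (.leaf 0)))) (.node (.node (.node (.leaf 47464448) (.leaf 154516440)) (.node (.leaf 126926848) (.leaf 0))) (.node (.node (.leaf 90660864) (.leaf 0)) (.node (.leaf 133162159) (.leaf 0)))))))) (.node (.node (.node (.node (.node (.node (.node (.leaf 2121728) (.leaf 155942912)) (.node (.leaf 90770500) (.leaf 0))) (.node (.node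 (.leaf 51838976) (.leaf 0)) (.node (.leaf 129835008) (.leaf 0)))) (.node (.node (.node (.leaf 27787264) (.leaf 80857544)) (.node (.leaf 93187826) (.leaf 0))) (.node (.node (.leaf 73990144) (.leaf 0)) (.node (.leaf 88502345) (.leaf 0))))) (.node (.node (.node (.node (.leaf 15130624) (.leaf 35651599)) (.node (.leaf 103792640) (.leaf 0))) (.node (.node (.leaf 48614031) (.leaf 0)) (.node (.leaf 137191424) (.leaf 0)))) (.node (.node (.node (.leaf 39993344) (.leaf 51003804)) (.node (.leaf 121700352) (.leaf 0))) (.node (.node (.leaf 84467712) (.leaf 0)) (.node (.leaf 150462464) (.leaf 0)))))) (.node (.node (.node (.node (.node (.leaf 8691712) (.leaf 48057759)) (.node (.leaf 99221504) (.leaf 0))) (.node (.node (.leaf 57442304) (.leaf 0)) (.node (.leaf 133603328) (.leaf 0)))) (.node (.node (.node (.leaf 34021376) (.leaf 34032310)) (.node (.leaf 117448704) (.leaf 0))) (.node (.node (.leaf 79216640) (.leaf 0)) (.node (.leaf 147390464) (.leaf 0))))) (.node (.node (.node (.node (.leaf 21594112) (.leaf 54307250)) (.node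 (.leaf 108748800) (.leaf 0))) (.node (.node (.leaf 53923053) (.leaf 0)) (.node (.leaf 140820480) (.leaf 0)))) (.node (.node (.node (.leaf 46006272) (.leaf 147920491)) (.node (.leaf 45703666) (.leaf 0))) (.node (.node (.leaf 89489408) (.leaf 0)) (.node (.leaf 153206784) (.leaf 0))))))) (.node (.node (.node (.node (.node (.node (.leaf 5423104) (.leaf 122334127)) (.node (.leaf 96804864) (.leaf 0))) (.node (.node (.leaf 54673408) (.leaf 0)) (.node (.leaf 131784704) (.leaf 0)))) (.node (.node (.node (.leaf 30916608) (.leaf 114753979)) (.node (.leaf 115294208) (.leaf 0))) (.node (.node (.leaf 76636160) (.leaf 0)) (.node (.leaf 134580694) (.leaf 0))))) (.node (.node (.node (.node (.leaf 18448384) (.leaf 131657281)) (.node (.leaf 106307584) (.leaf 0))) (.node (.node (.leaf 66011136) (.leaf 0)) (.node (.leaf 61919821) (.leaf 0)))) (.node (.node (.node (.leaf 42999808) (.leaf 166852157)) (.node (.leaf 119069494) (.leaf 0))) (.node (.node (.leaf 86843392) (.leaf 0)) (.node (.leaf 128868971) (.leaf 0)))))) (.node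 (.node (.node (.node (.node (.leaf 11927552) (.leaf 29487819)) (.node (.leaf 25966363) (.leaf 0))) (.node (.node (.leaf 60440576) (.leaf 0)) (.node (.leaf 64887685) (.leaf 0)))) (.node (.node (.node (.leaf 37068800) (.leaf 25337885)) (.node (.leaf 119545856) (.leaf 0))) (.node (.node (.leaf 70361599) (.leaf 0)) (.node (.leaf 113023045) (.leaf 0))))) (.node (.node (.node (.node (.leaf 8633041) (.leaf 119795490)) (.node (.leaf 52406279) (.leaf 0))) (.node (.node (.leaf 71327744) (.leaf 0)) (.node (.leaf 142548992) (.leaf 0)))) (.node (.node (.node (.leaf 48963584) (.leaf 141784863)) (.node (.leaf 43527350) (.leaf 0))) (.node (.node (.leaf 91897856) (.leaf 0)) (.node (.leaf 154591232) (.leaf 0))))))))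

def e0T35 : NT := .node (.node (.node (.node (.node (.node (.node (.node (.leaf 458752) (.leaf 11885089)) (.node (.leaf 93224960) (.leaf 0))) (.node (.node (.leaf 50405376) (.leaf 167496733)) (.node (.leaf 119951480) (.leaf 0)))) (.node (.node (.node (.leaf 26238976) (.leaf 163799040)) (.node (.leaf 112009216) (.leaf 0))) (.node (.node (.leaf 2334720) (.leaf 0)) (.node (.leaf 143286272) (.leaf 0))))) (.node (.node (.node (.node (.leaf 13549568) (.leaf 20519970)) (.node (.leaf 78685125) (.leaf 0))) (.node (.node (.leaf 61865984) (.leaf 0)) (.node (.leaf 111387887) (.leaf 0)))) (.node (.node (.node (.leaf 38567936) (.leaf 122592403)) (.node (.leaf 120602624) (.leaf 0))) (.node (.node (.leaf 81297408) (.leaf 0)) (.node (.leaf 149733376) (.leaf 0)))))) (.node (.node (.node (.node (.node (.leaf 7061504) (.leaf 146321986)) (.node (.leaf 80007520) (.leaf 0))) (.node (.node (.leaf 56066048) (.leaf 0)) (.node (.leaf 132685824) (.leaf 0)))) (.node (.node (.node (.leaf 32497664) (.leaf 159709877)) (.node (.leaf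 116367360) (.leaf 0))) (.node (.node (.leaf 77979648) (.leaf 0)) (.node (.leaf 146612224) (.leaf 0))))) (.node (.node (.node (.node (.leaf 20078592) (.leaf 156440551)) (.node (.leaf 107495424) (.leaf 0))) (.node (.node (.leaf 67411968) (.leaf 0)) (.node (.leaf 139952128) (.leaf 0)))) (.node (.node (.node (.leaf 44531712) (.leaf 135088269)) (.node (.leaf 124821504) (.leaf 0))) (.node (.node (.leaf 88178688) (.leaf 0)) (.node (.leaf 121270073) (.leaf 0))))))) (.node (.node (.node (.node (.node (.node (.leaf 3784704) (.leaf 156557312)) (.node (.leaf 95617024) (.leaf 0))) (.node (.node (.leaf 53297152) (.leaf 0)) (.node (.leaf 130736128) (.leaf 0)))) (.node (.node (.node (.leaf 29360128) (.leaf 60665056)) (.node (.leaf 88684791) (.leaf 0))) (.node (.node (.leaf 75341824) (.leaf 0)) (.node (.leaf 144932864) (.leaf 0))))) (.node (.node (.node (.node (.leaf 16809984) (.leaf 12746752)) (.node (.leaf 105029632) (.leaf 0))) (.node (.node (.leaf 64593920) (.leaf 0)) (.node (.leaf 138043392) (.leaf 0)))) (.node (.node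 (.node (.leaf 41558016) (.leaf 71496716)) (.node (.leaf 122757120) (.leaf 0))) (.node (.node (.leaf 24653074) (.leaf 0)) (.node (.leaf 129996309) (.leaf 0)))))) (.node (.node (.node (.node (.node (.leaf 10338304) (.leaf 158826496)) (.node (.leaf 62443109) (.leaf 0))) (.node (.node (.leaf 58974208) (.leaf 0)) (.node (.leaf 18503904) (.leaf 0)))) (.node (.node (.node (.leaf 35536896) (.leaf 166232064)) (.node (.leaf 118571008) (.leaf 0))) (.node (.node (.leaf 80543744) (.leaf 0)) (.node (.leaf 42765837) (.leaf 0))))) (.node (.node (.node (.node (.leaf 598016) (.leaf 77122466)) (.node (.leaf 109805568) (.leaf 0))) (.node (.node (.leaf 70025216) (.leaf 0)) (.node (.leaf 126912630) (.leaf 0)))) (.node (.node (.node (.leaf 47480832) (.leaf 125144194)) (.node (.leaf 126935040) (.leaf 0))) (.node (.node (.leaf 90669056) (.leaf 0)) (.node (.leaf 153952256) (.leaf 0)))))))) (.node (.node (.node (.node (.node (.node (.node (.leaf 2129920) (.leaf 116666797)) (.node (.leaf 94412800) (.leaf 0))) (.node (.node (.leaf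 51855360) (.leaf 0)) (.node (.leaf 129843200) (.leaf 0)))) (.node (.node (.node (.leaf 27795456) (.leaf 157313438)) (.node (.leaf 113123328) (.leaf 0))) (.node (.node (.leaf 14739153) (.leaf 0)) (.node (.leaf 116909459) (.leaf 0))))) (.node (.node (.node (.node (.leaf 15138816) (.leaf 150186464)) (.node (.leaf 103809024) (.leaf 0))) (.node (.node (.leaf 63299584) (.leaf 0)) (.node (.leaf 10748285) (.leaf 0)))) (.node (.node (.node (.leaf 40009728) (.leaf 117811229)) (.node (.leaf 121708544) (.leaf 0))) (.node (.node (.leaf 81637519) (.leaf 0)) (.node (.leaf 150470656) (.leaf 0)))))) (.node (.node (.node (.node (.node (.leaf 8699904) (.leaf 157910396)) (.node (.leaf 99229696) (.leaf 0))) (.node (.node (.leaf 57458688) (.leaf 0)) (.node (.leaf 133611520) (.leaf 0)))) (.node (.node (.node (.leaf 34037760) (.leaf 165171504)) (.node (.leaf 116080640) (.leaf 0))) (.node (.node (.leaf 79224832) (.leaf 0)) (.node (.leaf 147398656) (.leaf 0))))) (.node (.node (.node (.node (.leaf 21602304) (.leaf 152929699)) (.node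 (.leaf 108765184) (.leaf 0))) (.node (.node (.leaf 49361017) (.leaf 0)) (.node (.leaf 140836864) (.leaf 0)))) (.node (.node (.node (.leaf 46022656) (.leaf 130882604)) (.node (.leaf 97761703) (.leaf 0))) (.node (.node (.leaf 89505792) (.leaf 0)) (.node (.leaf 18566206) (.leaf 0))))))) (.node (.node (.node (.node (.node (.node (.leaf 5431296) (.leaf 135665504)) (.node (.leaf 96821248) (.leaf 0))) (.node (.node (.leaf 54681600) (.leaf 0)) (.node (.leaf 126776489) (.leaf 0)))) (.node (.node (.node (.leaf 30932992) (.leaf 125025039)) (.node (.leaf 92824451) (.leaf 0))) (.node (.node (.leaf 76652544) (.leaf 0)) (.node (.leaf 145727488) (.leaf 0))))) (.node (.node (.node (.node (.leaf 18456576) (.leaf 105995071)) (.node (.leaf 17698094) (.leaf 0))) (.node (.node (.leaf 66019328) (.leaf 0)) (.node (.leaf 138871966) (.leaf 0)))) (.node (.node (.node (.leaf 43016192) (.leaf 157676742)) (.node (.leaf 51400421) (.leaf 0))) (.node (.node (.leaf 36795639) (.leaf 0)) (.node (.leaf 151912448) (.leaf 0)))))) (.node (.node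 (.node (.node (.node (.leaf 11935744) (.leaf 159334400)) (.node (.leaf 101605376) (.leaf 0))) (.node (.node (.leaf 60456960) (.leaf 0)) (.node (.leaf 102102767) (.leaf 0)))) (.node (.node (.node (.leaf 37076992) (.leaf 162288551)) (.node (.leaf 119562240) (.leaf 0))) (.node (.node (.leaf 71336424) (.leaf 0)) (.node (.leaf 148955136) (.leaf 0))))) (.node (.node (.node (.node (.leaf 24739840) (.leaf 99809229)) (.node (.leaf 110952448) (.leaf 0))) (.node (.node (.leaf 71344128) (.leaf 0)) (.node (.leaf 142557184) (.leaf 0)))) (.node (.node (.node (.leaf 48971776) (.leaf 101005070)) (.node (.leaf 127901696) (.leaf 0))) (.node (.node (.leaf 91906048) (.leaf 0)) (.node (.leaf 154098473) (.leaf 0))))))))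

def e0T36 : NT := .node (.node (.node (.node (.node (.node (.node (.node (.leaf 466944) (.leaf 155254784)) (.node (.leaf 77770146) (.leaf 0))) (.node (.node (.leaf 50421760) (.leaf 59044619)) (.node (.leaf 51506429) (.leaf 0)))) (.node (.node (.node (.leaf 26255360) (.leaf 101913381)) (.node (.leaf 112025600) (.leaf 0))) (.node (.node (.leaf 72712192) (.leaf 0)) (.node (.leaf 104411773) (.leaf 0))))) (.node (.node (.node (.node (.leaf 335872) (.leaf 23341144)) (.node (.leaf 85645554) (.leaf 0))) (.node (.node (.leaf 55337923) (.leaf 0)) (.node (.leaf 136257536) (.leaf 0)))) (.node (.node (.node (.leaf 38584320) (.leaf 160891486)) (.node (.leaf 120610816) (.leaf 0))) (.node (.node (.leaf 83238912) (.leaf 0)) (.node (.leaf 9027584) (.leaf 0)))))) (.node (.node (.node (.node (.node (.leaf 7077888) (.leaf 96815523)) (.node (.leaf 97992704) (.leaf 0))) (.node (.node (.leaf 42299507) (.leaf 0)) (.node (.leaf 132694016) (.leaf 0)))) (.node (.node (.node (.leaf 32514048) (.leaf 128562060)) (.node (.leaf 116383744)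 (.leaf 0))) (.node (.node (.leaf 77987840) (.leaf 0)) (.node (.leaf 92218915) (.leaf 0))))) (.node (.node (.node (.node (.leaf 20094976) (.leaf 159598784)) (.node (.leaf 107503616) (.leaf 0))) (.node (.node (.leaf 67428352) (.leaf 0)) (.node (.leaf 53626344) (.leaf 0)))) (.node (.node (.node (.leaf 7930414) (.leaf 94320106)) (.node (.leaf 124837888) (.leaf 0))) (.node (.node (.leaf 88186880) (.leaf 0)) (.node (.leaf 152559616) (.leaf 0))))))) (.node (.node (.node (.node (.node (.node (.leaf 3801088) (.leaf 156573696)) (.node (.leaf 95633408) (.leaf 0))) (.node (.node (.leaf 53305344) (.leaf 0)) (.node (.leaf 130744320) (.leaf 0)))) (.node (.node (.node (.leaf 29376512) (.leaf 15507456)) (.node (.leaf 114155520) (.leaf 0))) (.node (.node (.leaf 10085209) (.leaf 0)) (.node (.leaf 93858080) (.leaf 0))))) (.node (.node (.node (.node (.leaf 16826368) (.leaf 161005568)) (.node (.leaf 105037824) (.leaf 0))) (.node (.node (.leaf 48013983) (.leaf 0)) (.node (.leaf 138051584) (.leaf 0)))) (.node (.node (.node (.leaf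 41566208) (.leaf 164963132)) (.node (.leaf 93913921) (.leaf 0))) (.node (.node (.leaf 20453165) (.leaf 0)) (.node (.leaf 151199744) (.leaf 0)))))) (.node (.node (.node (.node (.node (.leaf 10354688) (.leaf 102707245)) (.node (.leaf 36726532) (.leaf 0))) (.node (.node (.leaf 58990592) (.leaf 0)) (.node (.leaf 127187214) (.leaf 0)))) (.node (.node (.node (.leaf 35545088) (.leaf 43363473)) (.node (.leaf 85500162) (.leaf 0))) (.node (.node (.leaf 80560128) (.leaf 0)) (.node (.leaf 8708096) (.leaf 0))))) (.node (.node (.node (.node (.leaf 23166976) (.leaf 33744842)) (.node (.leaf 47166667) (.leaf 0))) (.node (.node (.leaf 70033408) (.leaf 0)) (.node (.leaf 141688832) (.leaf 0)))) (.node (.node (.node (.leaf 47497216) (.leaf 163272509)) (.node (.leaf 126951424) (.leaf 0))) (.node (.node (.leaf 37809809) (.leaf 0)) (.node (.leaf 118361375) (.leaf 0)))))))) (.node (.node (.node (.node (.node (.node (.node (.leaf 2146304) (.leaf 155959296)) (.node (.leaf 94420992) (.leaf 0))) (.node (.node (.leaf 51871744) (.leaf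 0)) (.node (.leaf 48419097) (.leaf 0)))) (.node (.node (.node (.leaf 27811840) (.leaf 162067863)) (.node (.leaf 113131520) (.leaf 0))) (.node (.node (.leaf 27591606) (.leaf 0)) (.node (.leaf 119912912) (.leaf 0))))) (.node (.node (.node (.node (.leaf 15155200) (.leaf 160481280)) (.node (.leaf 103825408) (.leaf 0))) (.node (.node (.leaf 63307776) (.leaf 0)) (.node (.leaf 137199616) (.leaf 0)))) (.node (.node (.node (.leaf 40017920) (.leaf 131336452)) (.node (.leaf 121724928) (.leaf 0))) (.node (.node (.leaf 84484096) (.leaf 0)) (.node (.leaf 95502845) (.leaf 0)))))) (.node (.node (.node (.node (.node (.leaf 8716288) (.leaf 158203904)) (.node (.leaf 99246080) (.leaf 0))) (.node (.node (.leaf 57475072) (.leaf 0)) (.node (.leaf 27875242) (.leaf 0)))) (.node (.node (.node (.leaf 34045952) (.leaf 157557892)) (.node (.leaf 117465088) (.leaf 0))) (.node (.node (.leaf 79241216) (.leaf 0)) (.node (.leaf 135255772) (.leaf 0))))) (.node (.node (.node (.node (.leaf 21618688) (.leaf 125483316)) (.node (.leaf 9060602)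 (.leaf 0))) (.node (.node (.leaf 65544192) (.leaf 0)) (.node (.leaf 134103265) (.leaf 0)))) (.node (.node (.node (.leaf 46030848) (.leaf 50671422)) (.node (.leaf 125911040) (.leaf 0))) (.node (.node (.leaf 73418972) (.leaf 0)) (.node (.leaf 153084604) (.leaf 0))))))) (.node (.node (.node (.node (.node (.node (.leaf 5447680) (.leaf 51897363)) (.node (.leaf 88728995) (.leaf 0))) (.node (.node (.leaf 54689792) (.leaf 0)) (.node (.leaf 131792896) (.leaf 0)))) (.node (.node (.node (.leaf 819200) (.leaf 165158912)) (.node (.leaf 71487396) (.leaf 0))) (.node (.node (.leaf 76668928) (.leaf 0)) (.node (.leaf 145743872) (.leaf 0))))) (.node (.node (.node (.node (.leaf 18464768) (.leaf 152005195)) (.node (.leaf 106323968) (.leaf 0))) (.node (.node (.leaf 66027520) (.leaf 0)) (.node (.leaf 138952704) (.leaf 0)))) (.node (.node (.node (.leaf 43024384) (.leaf 94480929)) (.node (.leaf 123813888) (.leaf 0))) (.node (.node (.leaf 86859776) (.leaf 0)) (.node (.leaf 151928832) (.leaf 0)))))) (.node (.node (.node (.node (.node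 (.leaf 11952128) (.leaf 118101529)) (.node (.leaf 101621760) (.leaf 0))) (.node (.node (.leaf 60465152) (.leaf 0)) (.node (.leaf 135454720) (.leaf 0)))) (.node (.node (.node (.leaf 37093376) (.leaf 139674241)) (.node (.leaf 119570432) (.leaf 0))) (.node (.node (.leaf 81870848) (.leaf 0)) (.node (.leaf 84645021) (.leaf 0))))) (.node (.node (.node (.node (.leaf 24756224) (.leaf 149933920)) (.node (.leaf 110960640) (.leaf 0))) (.node (.node (.leaf 5849088) (.leaf 0)) (.node (.leaf 7725056) (.leaf 0)))) (.node (.node (.node (.leaf 48979968) (.leaf 135751430)) (.node (.leaf 127909888) (.leaf 0))) (.node (.node (.leaf 45774792) (.leaf 0)) (.node (.leaf 154607616) (.leaf 0))))))))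

def e0T37 : NT := .node (.node (.node (.node (.node (.node (.node (.node (.leaf 483328) (.leaf 153242542)) (.node (.leaf 93241344) (.leaf 0))) (.node (.node (.leaf 50429952) (.leaf 65340984)) (.node (.leaf 128851968) (.leaf 0)))) (.node (.node (.node (.leaf 26263552) (.leaf 153348126)) (.node (.leaf 112041984) (.leaf 0))) (.node (.node (.leaf 72728576) (.leaf 0)) (.node (.leaf 143294464) (.leaf 0))))) (.node (.node (.node (.node (.leaf 3922205) (.leaf 86994541)) (.node (.leaf 102744064) (.leaf 0))) (.node (.node (.leaf 27102199) (.leaf 0)) (.node (.leaf 94404645) (.leaf 0)))) (.node (.node (.node (.leaf 38600704) (.leaf 166736561)) (.node (.leaf 87425103) (.leaf 0))) (.node (.node (.leaf 59783299) (.leaf 0)) (.node (.leaf 149741568) (.leaf 0)))))) (.node (.node (.node (.node (.node (.leaf 7086080) (.leaf 130846008)) (.node (.leaf 60623268) (.leaf 0))) (.node (.node (.leaf 6923807) (.leaf 0)) (.node (.leaf 132710400) (.leaf 0)))) (.node (.node (.node (.leaf 32530432) (.leaf 157919013)) (.node (.leaf 113800925)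 (.leaf 0))) (.node (.node (.leaf 53850664) (.leaf 0)) (.node (.leaf 146620416) (.leaf 0))))) (.node (.node (.node (.node (.leaf 20103168) (.leaf 102743136)) (.node (.leaf 107520000) (.leaf 0))) (.node (.node (.leaf 67444736) (.leaf 0)) (.node (.leaf 139960320) (.leaf 0)))) (.node (.node (.node (.leaf 44548096) (.leaf 157705155)) (.node (.leaf 124846080) (.leaf 0))) (.node (.node (.leaf 88203264) (.leaf 0)) (.node (.leaf 142861063) (.leaf 0))))))) (.node (.node (.node (.node (.node (.node (.leaf 3817472) (.leaf 156581888)) (.node (.leaf 65963575) (.leaf 0))) (.node (.node (.leaf 53313536) (.leaf 0)) (.node (.leaf 30306292) (.leaf 0)))) (.node (.node (.node (.leaf 29384704) (.leaf 164798464)) (.node (.leaf 114171904) (.leaf 0))) (.node (.node (.leaf 75358208) (.leaf 0)) (.node (.leaf 91809867) (.leaf 0))))) (.node (.node (.node (.node (.leaf 16842752) (.leaf 161013760)) (.node (.leaf 105054208) (.leaf 0))) (.node (.node (.leaf 64610304) (.leaf 0)) (.node (.leaf 138059776) (.leaf 0)))) (.node (.node (.node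 (.leaf 41582592) (.leaf 62657610)) (.node (.leaf 122773504) (.leaf 0))) (.node (.node (.leaf 46106934) (.leaf 0)) (.node (.leaf 151207936) (.leaf 0)))))) (.node (.node (.node (.node (.node (.leaf 10362880) (.leaf 158842880)) (.node (.leaf 57727593) (.leaf 0))) (.node (.node (.leaf 59006976) (.leaf 0)) (.node (.leaf 118903776) (.leaf 0)))) (.node (.node (.node (.leaf 35561472) (.leaf 25369201)) (.node (.leaf 118579200) (.leaf 0))) (.node (.node (.leaf 80568320) (.leaf 0)) (.node (.leaf 148144128) (.leaf 0))))) (.node (.node (.node (.node (.leaf 23175168) (.leaf 143048969)) (.node (.leaf 109830144) (.leaf 0))) (.node (.node (.leaf 70041600) (.leaf 0)) (.node (.leaf 122946594) (.leaf 0)))) (.node (.node (.node (.leaf 47505408) (.leaf 28626578)) (.node (.leaf 126967808) (.leaf 0))) (.node (.node (.leaf 76101934) (.leaf 0)) (.node (.leaf 139028779) (.leaf 0)))))))) (.node (.node (.node (.node (.node (.node (.node (.leaf 2154496) (.leaf 155967488)) (.node (.leaf 94437376) (.leaf 0))) (.node (.node (.leaf 51888128)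 (.leaf 0)) (.node (.leaf 129859584) (.leaf 0)))) (.node (.node (.node (.leaf 27820032) (.leaf 160318648)) (.node (.leaf 113139712) (.leaf 0))) (.node (.node (.leaf 74006528) (.leaf 0)) (.node (.leaf 144105472) (.leaf 0))))) (.node (.node (.node (.node (.leaf 15171584) (.leaf 128447090)) (.node (.leaf 47575526) (.leaf 0))) (.node (.node (.leaf 55954243) (.leaf 0)) (.node (.leaf 65384541) (.leaf 0)))) (.node (.node (.node (.leaf 40026112) (.leaf 122396858)) (.node (.leaf 121733120) (.leaf 0))) (.node (.node (.leaf 84500480) (.leaf 0)) (.node (.leaf 140983052) (.leaf 0)))))) (.node (.node (.node (.node (.node (.leaf 8732672) (.leaf 66412892)) (.node (.leaf 99262464) (.leaf 0))) (.node (.node (.leaf 57483264) (.leaf 0)) (.node (.leaf 133619712) (.leaf 0)))) (.node (.node (.node (.leaf 34054144) (.leaf 16990208)) (.node (.leaf 117481472) (.leaf 0))) (.node (.node (.leaf 79257600) (.leaf 0)) (.node (.leaf 147406848) (.leaf 0))))) (.node (.node (.node (.node (.leaf 21635072) (.leaf 151907147)) (.node (.leaf 87657706)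 (.leaf 0))) (.node (.node (.leaf 41149436) (.leaf 0)) (.node (.leaf 140845056) (.leaf 0)))) (.node (.node (.node (.leaf 46047232) (.leaf 166808821)) (.node (.leaf 112835131) (.leaf 0))) (.node (.node (.leaf 89522176) (.leaf 0)) (.node (.leaf 153223168) (.leaf 0))))))) (.node (.node (.node (.node (.node (.node (.leaf 5455872) (.leaf 61754976)) (.node (.leaf 96829440) (.leaf 0))) (.node (.node (.leaf 54697984) (.leaf 0)) (.node (.leaf 131809280) (.leaf 0)))) (.node (.node (.node (.leaf 30949376) (.leaf 149277641)) (.node (.leaf 115310592) (.leaf 0))) (.node (.node (.leaf 5079276) (.leaf 0)) (.node (.leaf 135067398) (.leaf 0))))) (.node (.node (.node (.node (.leaf 18481152) (.leaf 103978923)) (.node (.leaf 10428416) (.leaf 0))) (.node (.node (.leaf 64602656) (.leaf 0)) (.node (.leaf 138969088) (.leaf 0)))) (.node (.node (.node (.leaf 43040768) (.leaf 151923000)) (.node (.leaf 119024725) (.leaf 0))) (.node (.node (.leaf 86867968) (.leaf 0)) (.node (.leaf 151937024) (.leaf 0)))))) (.node (.node (.node (.node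 (.node (.leaf 11960320) (.leaf 11943936)) (.node (.leaf 92511299) (.leaf 0))) (.node (.node (.leaf 60481536) (.leaf 0)) (.node (.leaf 135462912) (.leaf 0)))) (.node (.node (.node (.leaf 25905764) (.leaf 57550896)) (.node (.leaf 80081004) (.leaf 0))) (.node (.node (.leaf 81887232) (.leaf 0)) (.node (.leaf 73553157) (.leaf 0))))) (.node (.node (.node (.node (.leaf 24764416) (.leaf 66152390)) (.node (.leaf 110968832) (.leaf 0))) (.node (.node (.leaf 71360512) (.leaf 0)) (.node (.leaf 122285186) (.leaf 0)))) (.node (.node (.node (.leaf 48996352) (.leaf 139903507)) (.node (.leaf 127918080) (.leaf 0))) (.node (.node (.leaf 91922432) (.leaf 0)) (.node (.leaf 154615808) (.leaf 0))))))))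

def e0T38 : NT := .node (.node (.node (.node (.node (.node (.node (.node (.leaf 499712) (.leaf 133516968)) (.node (.leaf 93257728) (.leaf 0))) (.node (.node (.leaf 50446336) (.leaf 55999499)) (.node (.leaf 128860160) (.leaf 0)))) (.node (.node (.node (.leaf 26279936) (.leaf 85943254)) (.node (.leaf 112058368) (.leaf 0))) (.node (.node (.leaf 72744960) (.leaf 0)) (.node (.leaf 143310848) (.leaf 0))))) (.node (.node (.node (.node (.leaf 13582336) (.leaf 159825920)) (.node (.leaf 102760448) (.leaf 0))) (.node (.node (.leaf 61882368) (.leaf 0)) (.node (.leaf 136282112) (.leaf 0)))) (.node (.node (.node (.leaf 15704064) (.leaf 93119737)) (.node (.leaf 120627200) (.leaf 0))) (.node (.node (.leaf 83255296) (.leaf 0)) (.node (.leaf 133666898) (.leaf 0)))))) (.node (.node (.node (.node (.node (.leaf 7102464) (.leaf 157753344)) (.node (.leaf 98009088) (.leaf 0))) (.node (.node (.leaf 56074240) (.leaf 0)) (.node (.leaf 132718592) (.leaf 0)))) (.node (.node (.node (.leaf 32538624) (.leaf 161845529)) (.node (.leaf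 25760663) (.leaf 0))) (.node (.node (.leaf 77996032) (.leaf 0)) (.node (.leaf 146636800) (.leaf 0))))) (.node (.node (.node (.node (.leaf 20111360) (.leaf 87058695)) (.node (.leaf 107536384) (.leaf 0))) (.node (.node (.leaf 67452928) (.leaf 0)) (.node (.leaf 139976704) (.leaf 0)))) (.node (.node (.node (.leaf 44556288) (.leaf 165413777)) (.node (.leaf 124862464) (.leaf 0))) (.node (.node (.leaf 43703294) (.leaf 0)) (.node (.leaf 152576000) (.leaf 0))))))) (.node (.node (.node (.node (.node (.node (.leaf 3825664) (.leaf 156590080)) (.node (.leaf 95657984) (.leaf 0))) (.node (.node (.leaf 53329920) (.leaf 0)) (.node (.leaf 62273683) (.leaf 0)))) (.node (.node (.node (.leaf 29392896) (.leaf 136622472)) (.node (.leaf 114180096) (.leaf 0))) (.node (.node (.leaf 75374592) (.leaf 0)) (.node (.leaf 19954369) (.leaf 0))))) (.node (.node (.node (.node (.leaf 16850944) (.leaf 118649241)) (.node (.leaf 105070592) (.leaf 0))) (.node (.node (.leaf 64626688) (.leaf 0)) (.node (.leaf 129915249) (.leaf 0)))) (.node (.node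 (.node (.leaf 41598976) (.leaf 144718799)) (.node (.leaf 122789888) (.leaf 0))) (.node (.node (.leaf 85680128) (.leaf 0)) (.node (.leaf 71718148) (.leaf 0)))))) (.node (.node (.node (.node (.node (.leaf 10379264) (.leaf 60119613)) (.node (.leaf 100409344) (.leaf 0))) (.node (.node (.leaf 59015168) (.leaf 0)) (.node (.leaf 134512640) (.leaf 0)))) (.node (.node (.node (.leaf 35569664) (.leaf 17530880)) (.node (.leaf 118587392) (.leaf 0))) (.node (.node (.leaf 80584704) (.leaf 0)) (.node (.leaf 148152320) (.leaf 0))))) (.node (.node (.node (.node (.leaf 23191552) (.leaf 150586130)) (.node (.leaf 109838336) (.leaf 0))) (.node (.node (.leaf 31517321) (.leaf 0)) (.node (.leaf 141705216) (.leaf 0)))) (.node (.node (.node (.leaf 47521792) (.leaf 167960576)) (.node (.leaf 118972941) (.leaf 0))) (.node (.node (.leaf 90693632) (.leaf 0)) (.node (.leaf 153968640) (.leaf 0)))))))) (.node (.node (.node (.node (.node (.node (.node (.leaf 2170880) (.leaf 154433629)) (.node (.leaf 40788612) (.leaf 0))) (.node (.node (.leaf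 51904512) (.leaf 0)) (.node (.leaf 56796688) (.leaf 0)))) (.node (.node (.node (.leaf 27836416) (.leaf 164225024)) (.node (.leaf 68636368) (.leaf 0))) (.node (.node (.leaf 74022912) (.leaf 0)) (.node (.leaf 144113664) (.leaf 0))))) (.node (.node (.node (.node (.leaf 15179776) (.leaf 160497664)) (.node (.leaf 103833600) (.leaf 0))) (.node (.node (.leaf 63324160) (.leaf 0)) (.node (.leaf 21819616) (.leaf 0)))) (.node (.node (.node (.leaf 40042496) (.leaf 167010801)) (.node (.leaf 119508809) (.leaf 0))) (.node (.node (.leaf 84508672) (.leaf 0)) (.node (.leaf 48224443) (.leaf 0)))))) (.node (.node (.node (.node (.node (.leaf 8740864) (.leaf 158212096)) (.node (.leaf 99270656) (.leaf 0))) (.node (.node (.leaf 57491456) (.leaf 0)) (.node (.leaf 133636096) (.leaf 0)))) (.node (.node (.node (.leaf 34070528) (.leaf 47857700)) (.node (.leaf 52134041) (.leaf 0))) (.node (.node (.leaf 79265792) (.leaf 0)) (.node (.leaf 147423232) (.leaf 0))))) (.node (.node (.node (.node (.leaf 557056) (.leaf 140401068)) (.node (.leaf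 108773376) (.leaf 0))) (.node (.node (.leaf 68780032) (.leaf 0)) (.node (.leaf 140861440) (.leaf 0)))) (.node (.node (.node (.leaf 46063616) (.leaf 160457672)) (.node (.leaf 125919232) (.leaf 0))) (.node (.node (.leaf 78139781) (.leaf 0)) (.node (.leaf 76317946) (.leaf 0))))))) (.node (.node (.node (.node (.node (.node (.leaf 5472256) (.leaf 130021970)) (.node (.leaf 96845824) (.leaf 0))) (.node (.node (.leaf 54706176) (.leaf 0)) (.node (.leaf 98681454) (.leaf 0)))) (.node (.node (.node (.leaf 30957568) (.leaf 138442004)) (.node (.leaf 115326976) (.leaf 0))) (.node (.node (.leaf 76677120) (.leaf 0)) (.node (.leaf 59643752) (.leaf 0))))) (.node (.node (.node (.node (.leaf 18489344) (.leaf 89246999)) (.node (.leaf 106340352) (.leaf 0))) (.node (.node (.leaf 66052096) (.leaf 0)) (.node (.leaf 121852480) (.leaf 0)))) (.node (.node (.node (.leaf 43057152) (.leaf 124908016)) (.node (.leaf 123822080) (.leaf 0))) (.node (.node (.leaf 86884352) (.leaf 0)) (.node (.leaf 140307249) (.leaf 0)))))) (.node (.node (.node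 (.node (.node (.leaf 11976704) (.leaf 108439249)) (.node (.leaf 101629952) (.leaf 0))) (.node (.node (.leaf 60489728) (.leaf 0)) (.node (.leaf 7244168) (.leaf 0)))) (.node (.node (.node (.leaf 37109760) (.leaf 151090283)) (.node (.leaf 71373133) (.leaf 0))) (.node (.node (.leaf 34465987) (.leaf 0)) (.node (.leaf 148971520) (.leaf 0))))) (.node (.node (.node (.node (.leaf 24780800) (.leaf 75198700)) (.node (.leaf 110977024) (.leaf 0))) (.node (.node (.leaf 71376896) (.leaf 0)) (.node (.leaf 142581760) (.leaf 0)))) (.node (.node (.node (.leaf 49012736) (.leaf 163751038)) (.node (.leaf 127926272) (.leaf 0))) (.node (.node (.leaf 48952520) (.leaf 0)) (.node (.leaf 50499915) (.leaf 0))))))))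

def e0T39 : NT := .node (.node (.node (.node (.node (.node (.node (.node (.leaf 507904) (.leaf 10461184)) (.node (.leaf 93265920) (.leaf 0))) (.node (.node (.leaf 50462720) (.leaf 132172333)) (.node (.leaf 128876544) (.leaf 0)))) (.node (.node (.node (.leaf 26296320) (.leaf 114986026)) (.node (.leaf 112074752) (.leaf 0))) (.node (.node (.leaf 42744539) (.leaf 0)) (.node (.leaf 26904152) (.leaf 0))))) (.node (.node (.node (.node (.leaf 13598720) (.leaf 95334964)) (.node (.leaf 102768640) (.leaf 0))) (.node (.node (.leaf 61898752) (.leaf 0)) (.node (.leaf 115336522) (.leaf 0)))) (.node (.node (.node (.leaf 38617088) (.leaf 152126054)) (.node (.leaf 120635392) (.leaf 0))) (.node (.node (.leaf 83271680) (.leaf 0)) (.node (.leaf 149757952) (.leaf 0)))))) (.node (.node (.node (.node (.node (.leaf 7118848) (.leaf 33728186)) (.node (.leaf 98017280) (.leaf 0))) (.node (.node (.leaf 56090624) (.leaf 0)) (.node (.leaf 27992457) (.leaf 0)))) (.node (.node (.node (.leaf 32546816) (.leaf 146007066)) (.node (.leaf 116400128)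 (.leaf 0))) (.node (.node (.leaf 78012416) (.leaf 0)) (.node (.leaf 146644992) (.leaf 0))))) (.node (.node (.node (.node (.leaf 20127744) (.leaf 158959051)) (.node (.leaf 83347869) (.leaf 0))) (.node (.node (.leaf 67469312) (.leaf 0)) (.node (.leaf 57568513) (.leaf 0)))) (.node (.node (.node (.leaf 44572672) (.leaf 165476307)) (.node (.leaf 83835998) (.leaf 0))) (.node (.node (.leaf 88219648) (.leaf 0)) (.node (.leaf 64899061) (.leaf 0))))))) (.node (.node (.node (.node (.node (.node (.leaf 3842048) (.leaf 37937846)) (.node (.leaf 32778346) (.leaf 0))) (.node (.node (.leaf 53338112) (.leaf 0)) (.node (.leaf 130768896) (.leaf 0)))) (.node (.node (.node (.leaf 29409280) (.leaf 118201461)) (.node (.leaf 86186674) (.leaf 0))) (.node (.node (.leaf 75382784) (.leaf 0)) (.node (.leaf 87443091) (.leaf 0))))) (.node (.node (.node (.node (.leaf 16867328) (.leaf 149296285)) (.node (.leaf 105078784) (.leaf 0))) (.node (.node (.leaf 64643072) (.leaf 0)) (.node (.leaf 138076160) (.leaf 0)))) (.node (.node (.node (.leaf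 41607168) (.leaf 167370752)) (.node (.leaf 115603091) (.leaf 0))) (.node (.node (.leaf 85688320) (.leaf 0)) (.node (.leaf 72172571) (.leaf 0)))))) (.node (.node (.node (.node (.node (.leaf 10395648) (.leaf 158859264)) (.node (.leaf 84428159) (.leaf 0))) (.node (.node (.leaf 59031552) (.leaf 0)) (.node (.leaf 134520832) (.leaf 0)))) (.node (.node (.node (.leaf 35577856) (.leaf 160126895)) (.node (.leaf 52806719) (.leaf 0))) (.node (.node (.leaf 80601088) (.leaf 0)) (.node (.leaf 109793067) (.leaf 0))))) (.node (.node (.node (.node (.leaf 23199744) (.leaf 141516812)) (.node (.leaf 109846528) (.leaf 0))) (.node (.node (.leaf 70057984) (.leaf 0)) (.node (.leaf 141713408) (.leaf 0)))) (.node (.node (.node (.leaf 47529984) (.leaf 161954528)) (.node (.leaf 60164711) (.leaf 0))) (.node (.node (.leaf 90701824) (.leaf 0)) (.node (.leaf 153976832) (.leaf 0)))))))) (.node (.node (.node (.node (.node (.node (.node (.leaf 2187264) (.leaf 155983872)) (.node (.leaf 94461952) (.leaf 0))) (.node (.node (.leaf 51912704)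 (.leaf 0)) (.node (.leaf 129875968) (.leaf 0)))) (.node (.node (.node (.leaf 27852800) (.leaf 98482554)) (.node (.leaf 113156096) (.leaf 0))) (.node (.node (.leaf 74031104) (.leaf 0)) (.node (.leaf 140832536) (.leaf 0))))) (.node (.node (.node (.node (.leaf 15196160) (.leaf 157108550)) (.node (.leaf 103849984) (.leaf 0))) (.node (.node (.leaf 63332352) (.leaf 0)) (.node (.leaf 135414602) (.leaf 0)))) (.node (.node (.node (.leaf 40050688) (.leaf 109133941)) (.node (.leaf 121749504) (.leaf 0))) (.node (.node (.leaf 84525056) (.leaf 0)) (.node (.leaf 150495232) (.leaf 0)))))) (.node (.node (.node (.node (.node (.leaf 8757248) (.leaf 96914911)) (.node (.leaf 99287040) (.leaf 0))) (.node (.node (.leaf 57507840) (.leaf 0)) (.node (.leaf 41538848) (.leaf 0)))) (.node (.node (.node (.leaf 34078720) (.leaf 165904384)) (.node (.leaf 117506048) (.leaf 0))) (.node (.node (.leaf 79282176) (.leaf 0)) (.node (.leaf 147431424) (.leaf 0))))) (.node (.node (.node (.node (.leaf 21651456) (.leaf 139054578)) (.node (.leaf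 79463451) (.leaf 0))) (.node (.node (.leaf 68796416) (.leaf 0)) (.node (.leaf 84764882) (.leaf 0)))) (.node (.node (.node (.leaf 46071808) (.leaf 134082893)) (.node (.leaf 125927424) (.leaf 0))) (.node (.node (.leaf 38639910) (.leaf 0)) (.node (.leaf 133723633) (.leaf 0))))))) (.node (.node (.node (.node (.node (.node (.leaf 5488640) (.leaf 71612312)) (.node (.leaf 32884837) (.leaf 0))) (.node (.node (.leaf 12432573) (.leaf 0)) (.node (.leaf 131817472) (.leaf 0)))) (.node (.node (.node (.leaf 23761923) (.leaf 127881494)) (.node (.leaf 115343360) (.leaf 0))) (.node (.node (.leaf 76693504) (.leaf 0)) (.node (.leaf 21345676) (.leaf 0))))) (.node (.node (.node (.node (.leaf 18505728) (.leaf 161472512)) (.node (.leaf 84883646) (.leaf 0))) (.node (.node (.leaf 66068480) (.leaf 0)) (.node (.leaf 138985472) (.leaf 0)))) (.node (.node (.node (.leaf 43065344) (.leaf 32584140)) (.node (.leaf 123838464) (.leaf 0))) (.node (.node (.leaf 86892544) (.leaf 0)) (.node (.leaf 82137963) (.leaf 0)))))) (.node (.node (.node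 (.node (.node (.leaf 11993088) (.leaf 159358976)) (.node (.leaf 101638144) (.leaf 0))) (.node (.node (.leaf 60506112) (.leaf 0)) (.node (.leaf 135471104) (.leaf 0)))) (.node (.node (.node (.leaf 37126144) (.leaf 166641664)) (.node (.leaf 119586816) (.leaf 0))) (.node (.node (.leaf 81903616) (.leaf 0)) (.node (.leaf 146277350) (.leaf 0))))) (.node (.node (.node (.node (.leaf 24797184) (.leaf 163348480)) (.node (.leaf 71268334) (.leaf 0))) (.node (.node (.leaf 71385088) (.leaf 0)) (.node (.leaf 142589952) (.leaf 0)))) (.node (.node (.node (.leaf 49020928) (.leaf 137287730)) (.node (.leaf 16942221) (.leaf 0))) (.node (.node (.leaf 91930624) (.leaf 0)) (.node (.leaf 154624000) (.leaf 0))))))))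

def e0T40 : NT := .node (.node (.node (.node (.node (.node (.node (.node (.leaf 524288) (.leaf 155271168)) (.node (.leaf 93282304) (.leaf 0))) (.node (.node (.leaf 50470912) (.leaf 0)) (.node (.leaf 78128779) (.leaf 0)))) (.node (.node (.node (.leaf 26304512) (.leaf 163807232)) (.node (.leaf 112082944) (.leaf 0))) (.node (.node (.leaf 72753152) (.leaf 0)) (.node (.leaf 116753627) (.leaf 0))))) (.node (.node (.node (.node (.leaf 13606912) (.leaf 159842304)) (.node (.leaf 102785024) (.leaf 0))) (.node (.node (.leaf 61906944) (.leaf 0)) (.node (.leaf 112519472) (.leaf 0)))) (.node (.node (.node (.leaf 38625280) (.leaf 165697988)) (.node (.leaf 120643584) (.leaf 0))) (.node (.node (.leaf 83279872) (.leaf 0)) (.node (.leaf 84234535) (.leaf 0)))))) (.node (.node (.node (.node (.node (.leaf 7127040) (.leaf 145450579)) (.node (.leaf 98025472) (.leaf 0))) (.node (.node (.leaf 56098816) (.leaf 0)) (.node (.leaf 132726784) (.leaf 0)))) (.node (.node (.node (.leaf 21149407) (.leaf 102044576)) (.node (.leaf 116416512)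 (.leaf 0))) (.node (.node (.leaf 78020608) (.leaf 0)) (.node (.leaf 146653184) (.leaf 0))))) (.node (.node (.node (.node (.leaf 20135936) (.leaf 157617795)) (.node (.leaf 107544576) (.leaf 0))) (.node (.node (.leaf 67485696) (.leaf 0)) (.node (.leaf 139993088) (.leaf 0)))) (.node (.node (.node (.leaf 44589056) (.leaf 167476162)) (.node (.leaf 21710776) (.leaf 0))) (.node (.node (.leaf 88236032) (.leaf 0)) (.node (.leaf 115144744) (.leaf 0))))))) (.node (.node (.node (.node (.node (.node (.leaf 3858432) (.leaf 156598272)) (.node (.leaf 61346031) (.leaf 0))) (.node (.node (.leaf 53354496) (.leaf 0)) (.node (.leaf 130777088) (.leaf 0)))) (.node (.node (.node (.leaf 8310962) (.leaf 93950386)) (.node (.leaf 114188288) (.leaf 0))) (.node (.node (.leaf 75390976) (.leaf 0)) (.node (.leaf 144957440) (.leaf 0))))) (.node (.node (.node (.node (.leaf 16883712) (.leaf 105236497)) (.node (.leaf 105095168) (.leaf 0))) (.node (.node (.leaf 44092412) (.leaf 0)) (.node (.leaf 138092544) (.leaf 0)))) (.node (.node (.node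 (.leaf 41623552) (.leaf 151172680)) (.node (.leaf 8236143) (.leaf 0))) (.node (.node (.leaf 85704704) (.leaf 0)) (.node (.leaf 111079430) (.leaf 0)))))) (.node (.node (.node (.node (.node (.leaf 10403840) (.leaf 158867456)) (.node (.leaf 100417536) (.leaf 0))) (.node (.node (.leaf 59047936) (.leaf 0)) (.node (.leaf 134537216) (.leaf 0)))) (.node (.node (.node (.leaf 35586048) (.leaf 98192822)) (.node (.leaf 118595584) (.leaf 0))) (.node (.node (.leaf 80609280) (.leaf 0)) (.node (.leaf 56586555) (.leaf 0))))) (.node (.node (.node (.node (.leaf 23216128) (.leaf 161735240)) (.node (.leaf 109862912) (.leaf 0))) (.node (.node (.leaf 70074368) (.leaf 0)) (.node (.leaf 141721600) (.leaf 0)))) (.node (.node (.node (.leaf 47538176) (.leaf 150810535)) (.node (.leaf 126984192) (.leaf 0))) (.node (.node (.leaf 90718208) (.leaf 0)) (.node (.leaf 83380940) (.leaf 0)))))))) (.node (.node (.node (.node (.node (.node (.node (.leaf 2195456) (.leaf 156000256)) (.node (.leaf 94470144) (.leaf 0))) (.node (.node (.leaf 51929088)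 (.leaf 0)) (.node (.leaf 69428688) (.leaf 0)))) (.node (.node (.node (.leaf 27860992) (.leaf 164233216)) (.node (.leaf 113164288) (.leaf 0))) (.node (.node (.leaf 74047488) (.leaf 0)) (.node (.leaf 144138240) (.leaf 0))))) (.node (.node (.node (.node (.leaf 15204352) (.leaf 140996513)) (.node (.leaf 103858176) (.leaf 0))) (.node (.node (.leaf 63348736) (.leaf 0)) (.node (.leaf 137224192) (.leaf 0)))) (.node (.node (.node (.leaf 40067072) (.leaf 73667587)) (.node (.leaf 121757696) (.leaf 0))) (.node (.node (.leaf 84541440) (.leaf 0)) (.node (.leaf 145562757) (.leaf 0)))))) (.node (.node (.node (.node (.node (.leaf 8773632) (.leaf 158228480)) (.node (.leaf 99303424) (.leaf 0))) (.node (.node (.leaf 57516032) (.leaf 0)) (.node (.leaf 133652480) (.leaf 0)))) (.node (.node (.node (.leaf 34095104) (.leaf 130075025)) (.node (.leaf 30038251) (.leaf 0))) (.node (.node (.leaf 79298560) (.leaf 0)) (.node (.leaf 82404969) (.leaf 0))))) (.node (.node (.node (.node (.leaf 21659648) (.leaf 162512896)) (.node (.leaf 108781568)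 (.leaf 0))) (.node (.node (.leaf 68812800) (.leaf 0)) (.node (.leaf 140869632) (.leaf 0)))) (.node (.node (.node (.leaf 5214386) (.leaf 160493655)) (.node (.leaf 92525838) (.leaf 0))) (.node (.node (.leaf 89546752) (.leaf 0)) (.node (.leaf 149705827) (.leaf 0))))))) (.node (.node (.node (.node (.node (.node (.leaf 5496832) (.leaf 79316954)) (.node (.leaf 31345991) (.leaf 0))) (.node (.node (.leaf 54722560) (.leaf 0)) (.node (.leaf 131833856) (.leaf 0)))) (.node (.node (.node (.leaf 30973952) (.leaf 37136563)) (.node (.leaf 115351552) (.leaf 0))) (.node (.node (.leaf 76709888) (.leaf 0)) (.node (.leaf 101405874) (.leaf 0))))) (.node (.node (.node (.node (.leaf 18522112) (.leaf 130339720)) (.node (.leaf 106356736) (.leaf 0))) (.node (.node (.leaf 7985124) (.leaf 0)) (.node (.leaf 125342325) (.leaf 0)))) (.node (.node (.node (.leaf 43081728) (.leaf 68058085)) (.node (.leaf 123846656) (.leaf 0))) (.node (.node (.leaf 86908928) (.leaf 0)) (.node (.leaf 151945216) (.leaf 0)))))) (.node (.node (.node (.node (.node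 (.leaf 12001280) (.leaf 150762279)) (.node (.leaf 101646336) (.leaf 0))) (.node (.node (.leaf 60514304) (.leaf 0)) (.node (.leaf 135487488) (.leaf 0)))) (.node (.node (.node (.leaf 37142528) (.leaf 166649856)) (.node (.leaf 119603200) (.leaf 0))) (.node (.node (.leaf 81920000) (.leaf 0)) (.node (.leaf 148996096) (.leaf 0))))) (.node (.node (.node (.node (.leaf 24805376) (.leaf 99849962)) (.node (.leaf 24889245) (.leaf 0))) (.node (.node (.leaf 71393280) (.leaf 0)) (.node (.leaf 52301601) (.leaf 0)))) (.node (.node (.node (.leaf 49037312) (.leaf 117741031)) (.node (.leaf 127942656) (.leaf 0))) (.node (.node (.leaf 91947008) (.leaf 0)) (.node (.leaf 154632192) (.leaf 0))))))))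

def e0T41 : NT := .node (.node (.node (.node (.node (.node (.node (.node (.leaf 540672) (.leaf 155279360)) (.node (.leaf 44511011) (.leaf 0))) (.node (.node (.leaf 43861807) (.leaf 0)) (.node (.leaf 119154375) (.leaf 0)))) (.node (.node (.node (.leaf 26320896) (.leaf 61834020)) (.node (.leaf 103239289) (.leaf 0))) (.node (.node (.leaf 69974939) (.leaf 0)) (.node (.leaf 59869576) (.leaf 0))))) (.node (.node (.node (.node (.leaf 13623296) (.leaf 159850496)) (.node (.leaf 57283031) (.leaf 0))) (.node (.node (.leaf 61923328) (.leaf 0)) (.node (.leaf 136298496) (.leaf 0)))) (.node (.node (.node (.leaf 38641664) (.leaf 145635567)) (.node (.leaf 94702466) (.leaf 0))) (.node (.node (.leaf 32976333) (.leaf 0)) (.node (.leaf 149774336) (.leaf 0)))))) (.node (.node (.node (.node (.node (.leaf 7143424) (.leaf 19868355)) (.node (.leaf 41820728) (.leaf 0))) (.node (.node (.leaf 56115200) (.leaf 0)) (.node (.leaf 94124132) (.leaf 0)))) (.node (.node (.node (.leaf 868352) (.leaf 165552128)) (.node (.leaf 116424704) (.leaf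 0))) (.node (.node (.leaf 2572288) (.leaf 0)) (.node (.leaf 146661376) (.leaf 0))))) (.node (.node (.node (.node (.leaf 20152320) (.leaf 138847912)) (.node (.leaf 107552768) (.leaf 0))) (.node (.node (.leaf 67493888) (.leaf 0)) (.node (.leaf 60409140) (.leaf 0)))) (.node (.node (.node (.leaf 44597248) (.leaf 153613441)) (.node (.leaf 124878848) (.leaf 0))) (.node (.node (.leaf 61172988) (.leaf 0)) (.node (.leaf 152592384) (.leaf 0))))))) (.node (.node (.node (.node (.node (.node (.leaf 3866624) (.leaf 156614656)) (.node (.leaf 95682560) (.leaf 0))) (.node (.node (.leaf 8866975) (.leaf 0)) (.node (.leaf 126490300) (.leaf 0)))) (.node (.node (.node (.leaf 29425664) (.leaf 164620582)) (.node (.leaf 114204672) (.leaf 0))) (.node (.node (.leaf 71545997) (.leaf 0)) (.node (.leaf 8151040) (.leaf 0))))) (.node (.node (.node (.node (.leaf 425984) (.leaf 119151233)) (.node (.leaf 105111552) (.leaf 0))) (.node (.node (.leaf 64659456) (.leaf 0)) (.node (.leaf 42224003) (.leaf 0)))) (.node (.node (.node (.leaf 41631744)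 (.leaf 73852443)) (.node (.leaf 51299249) (.leaf 0))) (.node (.node (.leaf 85712896) (.leaf 0)) (.node (.leaf 151224320) (.leaf 0)))))) (.node (.node (.node (.node (.node (.leaf 10420224) (.leaf 158875648)) (.node (.leaf 100425728) (.leaf 0))) (.node (.node (.leaf 59056128) (.leaf 0)) (.node (.leaf 134545408) (.leaf 0)))) (.node (.node (.node (.leaf 35602432) (.leaf 133214617)) (.node (.leaf 118611968) (.leaf 0))) (.node (.node (.leaf 80617472) (.leaf 0)) (.node (.leaf 148160512) (.leaf 0))))) (.node (.node (.node (.node (.leaf 23224320) (.leaf 76393713)) (.node (.leaf 109871104) (.leaf 0))) (.node (.node (.leaf 70082560) (.leaf 0)) (.node (.leaf 141729792) (.leaf 0)))) (.node (.node (.node (.leaf 47546368) (.leaf 167709568)) (.node (.leaf 126992384) (.leaf 0))) (.node (.node (.leaf 90726400) (.leaf 0)) (.node (.leaf 153985024) (.leaf 0)))))))) (.node (.node (.node (.node (.node (.node (.node (.leaf 2211840) (.leaf 87018044)) (.node (.leaf 94486528) (.leaf 0))) (.node (.node (.leaf 51945472) (.leaf 0))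 (.node (.leaf 6135808) (.leaf 0)))) (.node (.node (.node (.leaf 27877376) (.leaf 35906550)) (.node (.leaf 113172480) (.leaf 0))) (.node (.node (.leaf 74063872) (.leaf 0)) (.node (.leaf 144146432) (.leaf 0))))) (.node (.node (.node (.node (.leaf 15220736) (.leaf 155318828)) (.node (.leaf 103866368) (.leaf 0))) (.node (.node (.leaf 63356928) (.leaf 0)) (.node (.leaf 137232384) (.leaf 0)))) (.node (.node (.node (.leaf 40083456) (.leaf 21078016)) (.node (.leaf 121774080) (.leaf 0))) (.node (.node (.leaf 34957889) (.leaf 0)) (.node (.leaf 150511616) (.leaf 0)))))) (.node (.node (.node (.node (.node (.leaf 8790016) (.leaf 158236672)) (.node (.leaf 94572640) (.leaf 0))) (.node (.node (.leaf 57532416) (.leaf 0)) (.node (.leaf 133055252) (.leaf 0)))) (.node (.node (.node (.leaf 34111488) (.leaf 165912576)) (.node (.leaf 117522432) (.leaf 0))) (.node (.node (.leaf 79306752) (.leaf 0)) (.node (.leaf 94178055) (.leaf 0))))) (.node (.node (.node (.node (.leaf 21676032) (.leaf 86569673)) (.node (.leaf 108789760) (.leaf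 0))) (.node (.node (.leaf 68820992) (.leaf 0)) (.node (.leaf 140877824) (.leaf 0)))) (.node (.node (.node (.leaf 46096384) (.leaf 117514335)) (.node (.leaf 73174379) (.leaf 0))) (.node (.node (.leaf 89554944) (.leaf 0)) (.node (.leaf 153247744) (.leaf 0))))))) (.node (.node (.node (.node (.node (.node (.leaf 5513216) (.leaf 157155328)) (.node (.leaf 86686722) (.leaf 0))) (.node (.node (.leaf 54738944) (.leaf 0)) (.node (.leaf 131842048) (.leaf 0)))) (.node (.node (.node (.leaf 30990336) (.leaf 110584617)) (.node (.leaf 115367936) (.leaf 0))) (.node (.node (.leaf 23971130) (.leaf 0)) (.node (.leaf 8265728) (.leaf 0))))) (.node (.node (.node (.node (.leaf 18530304) (.leaf 161480704)) (.node (.leaf 106373120) (.leaf 0))) (.node (.node (.leaf 66076672) (.leaf 0)) (.node (.leaf 103541743) (.leaf 0)))) (.node (.node (.node (.leaf 43098112) (.leaf 161342775)) (.node (.leaf 69624345) (.leaf 0))) (.node (.node (.leaf 86925312) (.leaf 0)) (.node (.leaf 151953408) (.leaf 0)))))) (.node (.node (.node (.node (.node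 (.leaf 12017664) (.leaf 92464669)) (.node (.leaf 92847257) (.leaf 0))) (.node (.node (.leaf 60530688) (.leaf 0)) (.node (.leaf 135503872) (.leaf 0)))) (.node (.node (.node (.leaf 37150720) (.leaf 165767538)) (.node (.leaf 119619584) (.leaf 0))) (.node (.node (.leaf 81936384) (.leaf 0)) (.node (.leaf 149004288) (.leaf 0))))) (.node (.node (.node (.node (.leaf 24821760) (.leaf 68660973)) (.node (.leaf 110993408) (.leaf 0))) (.node (.node (.leaf 71409664) (.leaf 0)) (.node (.leaf 91713752) (.leaf 0)))) (.node (.node (.node (.leaf 49053696) (.leaf 97147540)) (.node (.leaf 127950848) (.leaf 0))) (.node (.node (.leaf 44786680) (.leaf 0)) (.node (.leaf 154640384) (.leaf 0))))))))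

def e0T42 : NT := .node (.node (.node (.node (.node (.node (.node (.node (.leaf 548864) (.leaf 25296896)) (.node (.leaf 93290496) (.leaf 0))) (.node (.node (.leaf 50487296) (.leaf 0)) (.node (.leaf 128892928) (.leaf 0)))) (.node (.node (.node (.leaf 26337280) (.leaf 163815424)) (.node (.leaf 112099328) (.leaf 0))) (.node (.node (.leaf 36542276) (.leaf 0)) (.node (.leaf 143319040) (.leaf 0))))) (.node (.node (.node (.node (.leaf 13631488) (.leaf 27209450)) (.node (.leaf 102801408) (.leaf 0))) (.node (.node (.leaf 11008318) (.leaf 0)) (.node (.leaf 136314880) (.leaf 0)))) (.node (.node (.node (.leaf 38658048) (.leaf 151356493)) (.node (.leaf 120659968) (.leaf 0))) (.node (.node (.leaf 83296256) (.leaf 0)) (.node (.leaf 149782528) (.leaf 0)))))) (.node (.node (.node (.node (.node (.leaf 7159808) (.leaf 157761536)) (.node (.leaf 98041856) (.leaf 0))) (.node (.node (.leaf 56123392) (.leaf 0)) (.node (.leaf 132743168) (.leaf 0)))) (.node (.node (.node (.leaf 4519571) (.leaf 159078384)) (.node (.leaf 116432896)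 (.leaf 0))) (.node (.node (.leaf 78045184) (.leaf 0)) (.node (.leaf 146677760) (.leaf 0))))) (.node (.node (.node (.node (.leaf 20168704) (.leaf 87614797)) (.node (.leaf 33475358) (.leaf 0))) (.node (.node (.leaf 67510272) (.leaf 0)) (.node (.leaf 108254334) (.leaf 0)))) (.node (.node (.node (.leaf 44613632) (.leaf 167755776)) (.node (.leaf 57436507) (.leaf 0))) (.node (.node (.leaf 48326278) (.leaf 0)) (.node (.leaf 14822766) (.leaf 0))))))) (.node (.node (.node (.node (.node (.node (.leaf 3883008) (.leaf 136987814)) (.node (.leaf 95690752) (.leaf 0))) (.node (.node (.leaf 53362688) (.leaf 0)) (.node (.leaf 66728056) (.leaf 0)))) (.node (.node (.node (.leaf 29433856) (.leaf 42877081)) (.node (.leaf 114221056) (.leaf 0))) (.node (.node (.leaf 46877509) (.leaf 0)) (.node (.leaf 144965632) (.leaf 0))))) (.node (.node (.node (.node (.leaf 16900096) (.leaf 161021952)) (.node (.leaf 105127936) (.leaf 0))) (.node (.node (.leaf 64675840) (.leaf 0)) (.node (.leaf 138100736) (.leaf 0)))) (.node (.node (.node (.leaf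 41648128) (.leaf 164449403)) (.node (.leaf 122814464) (.leaf 0))) (.node (.node (.leaf 75594343) (.leaf 0)) (.node (.leaf 151232512) (.leaf 0)))))) (.node (.node (.node (.node (.node (.leaf 10436608) (.leaf 66927011)) (.node (.leaf 100433920) (.leaf 0))) (.node (.node (.leaf 59064320) (.leaf 0)) (.node (.leaf 134553600) (.leaf 0)))) (.node (.node (.node (.leaf 35610624) (.leaf 166281216)) (.node (.leaf 118620160) (.leaf 0))) (.node (.node (.leaf 80625664) (.leaf 0)) (.node (.leaf 92681440) (.leaf 0))))) (.node (.node (.node (.node (.leaf 23240704) (.leaf 150171661)) (.node (.leaf 109879296) (.leaf 0))) (.node (.node (.leaf 70098944) (.leaf 0)) (.node (.leaf 141737984) (.leaf 0)))) (.node (.node (.node (.leaf 47562752) (.leaf 26329088)) (.node (.leaf 127008768) (.leaf 0))) (.node (.node (.leaf 90742784) (.leaf 0)) (.node (.leaf 48031099) (.leaf 0)))))))) (.node (.node (.node (.node (.node (.node (.node (.leaf 2220032) (.leaf 156008448)) (.node (.leaf 20147011) (.leaf 0))) (.node (.node (.leaf 51953664)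 (.leaf 0)) (.node (.leaf 129900544) (.leaf 0)))) (.node (.node (.node (.leaf 27893760) (.leaf 141555611)) (.node (.leaf 113180672) (.leaf 0))) (.node (.node (.leaf 74072064) (.leaf 0)) (.node (.leaf 50907233) (.leaf 0))))) (.node (.node (.node (.node (.leaf 15237120) (.leaf 160514048)) (.node (.leaf 103874560) (.leaf 0))) (.node (.node (.leaf 63373312) (.leaf 0)) (.node (.leaf 137240576) (.leaf 0)))) (.node (.node (.node (.leaf 40091648) (.leaf 64092427)) (.node (.leaf 67190784) (.leaf 0))) (.node (.node (.leaf 84557824) (.leaf 0)) (.node (.leaf 150519808) (.leaf 0)))))) (.node (.node (.node (.node (.node (.leaf 8798208) (.leaf 158244864)) (.node (.leaf 99319808) (.leaf 0))) (.node (.node (.leaf 57540608) (.leaf 0)) (.node (.leaf 88530071) (.leaf 0)))) (.node (.node (.node (.leaf 34119680) (.leaf 150212091)) (.node (.leaf 117530624) (.leaf 0))) (.node (.node (.leaf 79323136) (.leaf 0)) (.node (.leaf 33809258) (.leaf 0))))) (.node (.node (.node (.node (.leaf 21692416) (.leaf 145777080)) (.node (.leaf 56918276)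 (.leaf 0))) (.node (.node (.leaf 68837376) (.leaf 0)) (.node (.leaf 37574147) (.leaf 0)))) (.node (.node (.node (.leaf 46112768) (.leaf 50337083)) (.node (.leaf 125943808) (.leaf 0))) (.node (.node (.leaf 89571328) (.leaf 0)) (.node (.leaf 127542543) (.leaf 0))))))) (.node (.node (.node (.node (.node (.node (.leaf 5529600) (.leaf 41748943)) (.node (.leaf 96878592) (.leaf 0))) (.node (.node (.leaf 46896147) (.leaf 0)) (.node (.leaf 131850240) (.leaf 0)))) (.node (.node (.node (.leaf 30998528) (.leaf 100934181)) (.node (.leaf 15689536) (.leaf 0))) (.node (.node (.leaf 76726272) (.leaf 0)) (.node (.leaf 63442704) (.leaf 0))))) (.node (.node (.node (.node (.leaf 18546688) (.leaf 129448026)) (.node (.leaf 106389504) (.leaf 0))) (.node (.node (.leaf 66093056) (.leaf 0)) (.node (.leaf 139010048) (.leaf 0)))) (.node (.node (.node (.leaf 1196032) (.leaf 167049317)) (.node (.leaf 123854848) (.leaf 0))) (.node (.node (.leaf 86933504) (.leaf 0)) (.node (.leaf 151961600) (.leaf 0)))))) (.node (.node (.node (.node (.node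 (.leaf 12034048) (.leaf 152809914)) (.node (.leaf 33879209) (.leaf 0))) (.node (.node (.leaf 54346301) (.leaf 0)) (.node (.leaf 66977792) (.leaf 0)))) (.node (.node (.node (.leaf 37167104) (.leaf 97305031)) (.node (.leaf 119627776) (.leaf 0))) (.node (.node (.leaf 25095829) (.leaf 0)) (.node (.leaf 149012480) (.leaf 0))))) (.node (.node (.node (.node (.leaf 24829952) (.leaf 17659529)) (.node (.leaf 111001600) (.leaf 0))) (.node (.node (.leaf 71417856) (.leaf 0)) (.node (.leaf 127042131) (.leaf 0)))) (.node (.node (.node (.leaf 49061888) (.leaf 70318085)) (.node (.leaf 127959040) (.leaf 0))) (.node (.node (.leaf 91963392) (.leaf 0)) (.node (.leaf 154648576) (.leaf 0))))))))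

def e0T43 : NT := .node (.node (.node (.node (.node (.node (.node (.node (.leaf 565248) (.leaf 72967413)) (.node (.leaf 56347693) (.leaf 0))) (.node (.node (.leaf 50503680) (.leaf 0)) (.node (.leaf 127240499) (.leaf 0)))) (.node (.node (.node (.leaf 26353664) (.leaf 66567194)) (.node (.leaf 34225268) (.leaf 0))) (.node (.node (.leaf 72761344) (.leaf 0)) (.node (.leaf 87109545) (.leaf 0))))) (.node (.node (.node (.node (.leaf 13647872) (.leaf 159866880)) (.node (.leaf 67480002) (.leaf 0))) (.node (.node (.leaf 61939712) (.leaf 0)) (.node (.leaf 136331264) (.leaf 0)))) (.node (.node (.node (.leaf 38674432) (.leaf 64052019)) (.node (.leaf 120676352) (.leaf 0))) (.node (.node (.leaf 25891086) (.leaf 0)) (.node (.leaf 144026643) (.leaf 0)))))) (.node (.node (.node (.node (.node (.leaf 7168000) (.leaf 157769728)) (.node (.leaf 98050048) (.leaf 0))) (.node (.node (.leaf 56131584) (.leaf 0)) (.node (.leaf 132751360) (.leaf 0)))) (.node (.node (.node (.leaf 32571392) (.leaf 39577091)) (.node (.leaf 116449280)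 (.leaf 0))) (.node (.node (.leaf 78053376) (.leaf 0)) (.node (.leaf 146685952) (.leaf 0))))) (.node (.node (.node (.node (.leaf 20176896) (.leaf 152947128)) (.node (.leaf 107569152) (.leaf 0))) (.node (.node (.leaf 67518464) (.leaf 0)) (.node (.leaf 140025856) (.leaf 0)))) (.node (.node (.node (.leaf 44630016) (.leaf 95293570)) (.node (.leaf 108664392) (.leaf 0))) (.node (.node (.leaf 88260608) (.leaf 0)) (.node (.leaf 152608768) (.leaf 0))))))) (.node (.node (.node (.node (.node (.node (.leaf 3891200) (.leaf 118061555)) (.node (.leaf 95698944) (.leaf 0))) (.node (.node (.leaf 53370880) (.leaf 0)) (.node (.leaf 130801664) (.leaf 0)))) (.node (.node (.node (.leaf 29450240) (.leaf 52197907)) (.node (.leaf 29021358) (.leaf 0))) (.node (.node (.leaf 75407360) (.leaf 0)) (.node (.leaf 112267281) (.leaf 0))))) (.node (.node (.node (.node (.leaf 16916480) (.leaf 161030144)) (.node (.leaf 105136128) (.leaf 0))) (.node (.node (.leaf 64684032) (.leaf 0)) (.node (.leaf 132618203) (.leaf 0)))) (.node (.node (.node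 (.leaf 37815835) (.leaf 137382209)) (.node (.leaf 122822656) (.leaf 0))) (.node (.node (.leaf 85729280) (.leaf 0)) (.node (.leaf 83340378) (.leaf 0)))))) (.node (.node (.node (.node (.node (.leaf 10444800) (.leaf 158883840)) (.node (.leaf 19147396) (.leaf 0))) (.node (.node (.leaf 59072512) (.leaf 0)) (.node (.leaf 134561792) (.leaf 0)))) (.node (.node (.node (.leaf 35627008) (.leaf 133487589)) (.node (.leaf 19122575) (.leaf 0))) (.node (.node (.leaf 80642048) (.leaf 0)) (.node (.leaf 83674673) (.leaf 0))))) (.node (.node (.node (.node (.leaf 23257088) (.leaf 161508222)) (.node (.leaf 109887488) (.leaf 0))) (.node (.node (.leaf 55491264) (.leaf 0)) (.node (.leaf 141746176) (.leaf 0)))) (.node (.node (.node (.leaf 47579136) (.leaf 154719617)) (.node (.leaf 22276676) (.leaf 0))) (.node (.node (.leaf 74715660) (.leaf 0)) (.node (.leaf 154001408) (.leaf 0)))))))) (.node (.node (.node (.node (.node (.node (.node (.leaf 2236416) (.leaf 156016640)) (.node (.leaf 94494720) (.leaf 0))) (.node (.node (.leaf 51970048)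 (.leaf 0)) (.node (.leaf 129916928) (.leaf 0)))) (.node (.node (.node (.leaf 27901952) (.leaf 154708867)) (.node (.leaf 54225112) (.leaf 0))) (.node (.node (.leaf 74088448) (.leaf 0)) (.node (.leaf 144154624) (.leaf 0))))) (.node (.node (.node (.node (.leaf 15245312) (.leaf 43136299)) (.node (.leaf 103882752) (.leaf 0))) (.node (.node (.leaf 36427418) (.leaf 0)) (.node (.leaf 83609901) (.leaf 0)))) (.node (.node (.node (.leaf 40108032) (.leaf 149230537)) (.node (.leaf 121798656) (.leaf 0))) (.node (.node (.leaf 27227036) (.leaf 0)) (.node (.leaf 99005198) (.leaf 0)))))) (.node (.node (.node (.node (.node (.leaf 2641301) (.leaf 133557607)) (.node (.leaf 29238614) (.leaf 0))) (.node (.node (.leaf 57556992) (.leaf 0)) (.node (.leaf 133668864) (.leaf 0)))) (.node (.node (.node (.leaf 34127872) (.leaf 164335648)) (.node (.leaf 66207809) (.leaf 0))) (.node (.node (.leaf 79339520) (.leaf 0)) (.node (.leaf 139814561) (.leaf 0))))) (.node (.node (.node (.node (.leaf 21700608) (.leaf 51941956)) (.node (.leaf 58987275)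 (.leaf 0))) (.node (.node (.leaf 68853760) (.leaf 0)) (.node (.leaf 28324022) (.leaf 0)))) (.node (.node (.node (.leaf 46120960) (.leaf 65302921)) (.node (.leaf 125960192) (.leaf 0))) (.node (.node (.leaf 35367714) (.leaf 0)) (.node (.leaf 63627332) (.leaf 0))))))) (.node (.node (.node (.node (.node (.node (.leaf 5537792) (.leaf 117963024)) (.node (.leaf 96886784) (.leaf 0))) (.node (.node (.leaf 54755328) (.leaf 0)) (.node (.leaf 131858432) (.leaf 0)))) (.node (.node (.node (.leaf 31014912) (.leaf 165183488)) (.node (.leaf 115376128) (.leaf 0))) (.node (.node (.leaf 33338532) (.leaf 0)) (.node (.leaf 31597290) (.leaf 0))))) (.node (.node (.node (.node (.leaf 18554880) (.leaf 161488896)) (.node (.leaf 106397696) (.leaf 0))) (.node (.node (.leaf 66101248) (.leaf 0)) (.node (.leaf 139018240) (.leaf 0)))) (.node (.node (.node (.leaf 43114496) (.leaf 118159328)) (.node (.leaf 123871232) (.leaf 0))) (.node (.node (.leaf 52768956) (.leaf 0)) (.node (.leaf 145421212) (.leaf 0)))))) (.node (.node (.node (.node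 (.node (.leaf 12042240) (.leaf 72550095)) (.node (.leaf 101662720) (.leaf 0))) (.node (.node (.leaf 60538880) (.leaf 0)) (.node (.leaf 135512064) (.leaf 0)))) (.node (.node (.node (.leaf 37183488) (.leaf 138860687)) (.node (.leaf 119644160) (.leaf 0))) (.node (.node (.leaf 81944576) (.leaf 0)) (.node (.leaf 149020672) (.leaf 0))))) (.node (.node (.node (.node (.leaf 24846336) (.leaf 143760481)) (.node (.leaf 40604255) (.leaf 0))) (.node (.node (.leaf 71434240) (.leaf 0)) (.node (.leaf 139410494) (.leaf 0)))) (.node (.node (.node (.leaf 49070080) (.leaf 93366046)) (.node (.leaf 35195363) (.leaf 0))) (.node (.node (.leaf 81581899) (.leaf 0)) (.node (.leaf 154656768) (.leaf 0))))))))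

def e0T44 : NT := .node (.node (.node (.node (.node (.node (.node (.node (.leaf 573440) (.leaf 155190429)) (.node (.leaf 93306880) (.leaf 0))) (.node (.node (.leaf 50511872) (.leaf 0)) (.node (.leaf 71700301) (.leaf 0)))) (.node (.node (.node (.leaf 26370048) (.leaf 162353479)) (.node (.leaf 109530817) (.leaf 0))) (.node (.node (.leaf 72777728) (.leaf 0)) (.node (.leaf 62020147) (.leaf 0))))) (.node (.node (.node (.node (.leaf 13664256) (.leaf 159875072)) (.node (.leaf 102809600) (.leaf 0))) (.node (.node (.leaf 56277816) (.leaf 0)) (.node (.leaf 136339456) (.leaf 0)))) (.node (.node (.node (.leaf 38682624) (.leaf 146221566)) (.node (.leaf 120692736) (.leaf 0))) (.node (.node (.leaf 83312640) (.leaf 0)) (.node (.leaf 149798912) (.leaf 0)))))) (.node (.node (.node (.node (.node (.leaf 7184384) (.leaf 55627650)) (.node (.leaf 3637248) (.leaf 0))) (.node (.node (.leaf 56147968) (.leaf 0)) (.node (.leaf 132759552) (.leaf 0)))) (.node (.node (.node (.leaf 32587776) (.leaf 106352193)) (.node (.leaf 35990953)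 (.leaf 0))) (.node (.node (.leaf 78069760) (.leaf 0)) (.node (.leaf 146694144) (.leaf 0))))) (.node (.node (.node (.node (.leaf 20193280) (.leaf 162029568)) (.node (.leaf 107577344) (.leaf 0))) (.node (.node (.leaf 67534848) (.leaf 0)) (.node (.leaf 138829824) (.leaf 0)))) (.node (.node (.node (.leaf 44638208) (.leaf 22855680)) (.node (.leaf 124895232) (.leaf 0))) (.node (.node (.leaf 88268800) (.leaf 0)) (.node (.leaf 114434054) (.leaf 0))))))) (.node (.node (.node (.node (.node (.node (.leaf 3907584) (.leaf 156631040)) (.node (.leaf 95707136) (.leaf 0))) (.node (.node (.leaf 53379072) (.leaf 0)) (.node (.leaf 130818048) (.leaf 0)))) (.node (.node (.node (.leaf 29466624) (.leaf 164823040)) (.node (.leaf 114237440) (.leaf 0))) (.node (.node (.leaf 75415552) (.leaf 0)) (.node (.leaf 136856634) (.leaf 0))))) (.node (.node (.node (.node (.leaf 16924672) (.leaf 132159607)) (.node (.leaf 105152512) (.leaf 0))) (.node (.node (.leaf 64700416) (.leaf 0)) (.node (.leaf 116446204) (.leaf 0)))) (.node (.node (.node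 (.leaf 12146244) (.leaf 78326880)) (.node (.leaf 122830848) (.leaf 0))) (.node (.node (.leaf 85737472) (.leaf 0)) (.node (.leaf 151240704) (.leaf 0)))))) (.node (.node (.node (.node (.node (.leaf 10452992) (.leaf 131539145)) (.node (.leaf 100450304) (.leaf 0))) (.node (.node (.leaf 59088896) (.leaf 0)) (.node (.leaf 75929896) (.leaf 0)))) (.node (.node (.node (.leaf 35643392) (.leaf 90735621)) (.node (.leaf 83022754) (.leaf 0))) (.node (.node (.leaf 80650240) (.leaf 0)) (.node (.leaf 148176896) (.leaf 0))))) (.node (.node (.node (.node (.leaf 23265280) (.leaf 153256884)) (.node (.leaf 51384502) (.leaf 0))) (.node (.node (.leaf 70115328) (.leaf 0)) (.node (.leaf 141762560) (.leaf 0)))) (.node (.node (.node (.leaf 47587328) (.leaf 123493042)) (.node (.leaf 127016960) (.leaf 0))) (.node (.node (.leaf 90759168) (.leaf 0)) (.node (.leaf 154017792) (.leaf 0)))))))) (.node (.node (.node (.node (.node (.node (.node (.leaf 2244608) (.leaf 12523557)) (.node (.leaf 51255412) (.leaf 0))) (.node (.node (.leaf 51978240)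 (.leaf 0)) (.node (.leaf 129925120) (.leaf 0)))) (.node (.node (.node (.leaf 27918336) (.leaf 153428886)) (.node (.leaf 113197056) (.leaf 0))) (.node (.node (.leaf 74096640) (.leaf 0)) (.node (.leaf 91849073) (.leaf 0))))) (.node (.node (.node (.node (.leaf 15261696) (.leaf 40237269)) (.node (.leaf 103890944) (.leaf 0))) (.node (.node (.leaf 63389696) (.leaf 0)) (.node (.leaf 137248768) (.leaf 0)))) (.node (.node (.node (.leaf 40124416) (.leaf 117492604)) (.node (.leaf 121815040) (.leaf 0))) (.node (.node (.leaf 84574208) (.leaf 0)) (.node (.leaf 70247110) (.leaf 0)))))) (.node (.node (.node (.node (.node (.leaf 8822784) (.leaf 124071223)) (.node (.leaf 99328000) (.leaf 0))) (.node (.node (.leaf 57573376) (.leaf 0)) (.node (.leaf 6545408) (.leaf 0)))) (.node (.node (.node (.leaf 34144256) (.leaf 165928960)) (.node (.leaf 117547008) (.leaf 0))) (.node (.node (.leaf 79347712) (.leaf 0)) (.node (.leaf 38738614) (.leaf 0))))) (.node (.node (.node (.node (.leaf 21716992) (.leaf 82307043)) (.node (.leaf 36050926)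 (.leaf 0))) (.node (.node (.leaf 68861952) (.leaf 0)) (.node (.leaf 140894208) (.leaf 0)))) (.node (.node (.node (.leaf 46137344) (.leaf 122657335)) (.node (.leaf 72055159) (.leaf 0))) (.node (.node (.leaf 89579520) (.leaf 0)) (.node (.leaf 153264128) (.leaf 0))))))) (.node (.node (.node (.node (.node (.node (.leaf 5554176) (.leaf 122785561)) (.node (.leaf 96903168) (.leaf 0))) (.node (.node (.leaf 54771712) (.leaf 0)) (.node (.leaf 131866624) (.leaf 0)))) (.node (.node (.node (.leaf 31031296) (.leaf 165191680)) (.node (.leaf 115384320) (.leaf 0))) (.node (.node (.leaf 28337596) (.leaf 0)) (.node (.leaf 145784832) (.leaf 0))))) (.node (.node (.node (.node (.leaf 14870091) (.leaf 69414020)) (.node (.leaf 106414080) (.leaf 0))) (.node (.node (.leaf 66109440) (.leaf 0)) (.node (.leaf 139034624) (.leaf 0)))) (.node (.node (.node (.leaf 43122688) (.leaf 113830480)) (.node (.leaf 110109713) (.leaf 0))) (.node (.node (.leaf 86949888) (.leaf 0)) (.node (.leaf 89408311) (.leaf 0)))))) (.node (.node (.node (.node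 (.node (.leaf 12058624) (.leaf 133868097)) (.node (.leaf 101679104) (.leaf 0))) (.node (.node (.leaf 60555264) (.leaf 0)) (.node (.leaf 125676798) (.leaf 0)))) (.node (.node (.node (.leaf 37191680) (.leaf 67348930)) (.node (.leaf 38790199) (.leaf 0))) (.node (.node (.leaf 81952768) (.leaf 0)) (.node (.leaf 149028864) (.leaf 0))))) (.node (.node (.node (.node (.leaf 24862720) (.leaf 152097890)) (.node (.leaf 108167168) (.leaf 0))) (.node (.node (.leaf 71442432) (.leaf 0)) (.node (.leaf 12313006) (.leaf 0)))) (.node (.node (.node (.leaf 49078272) (.leaf 155885881)) (.node (.leaf 127967232) (.leaf 0))) (.node (.node (.leaf 91979776) (.leaf 0)) (.node (.leaf 142565542) (.leaf 0))))))))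

def e0T45 : NT := .node (.node (.node (.node (.node (.node (.node (.node (.leaf 589824) (.leaf 155287552)) (.node (.leaf 48642577) (.leaf 0))) (.node (.node (.leaf 50520064) (.leaf 0)) (.node (.leaf 13079041) (.leaf 0)))) (.node (.node (.node (.leaf 26378240) (.leaf 163823616)) (.node (.leaf 103285064) (.leaf 0))) (.node (.node (.leaf 68269838) (.leaf 0)) (.node (.leaf 143343616) (.leaf 0))))) (.node (.node (.node (.node (.leaf 13672448) (.leaf 159883264)) (.node (.leaf 102817792) (.leaf 0))) (.node (.node (.leaf 12246034) (.leaf 0)) (.node (.leaf 136355840) (.leaf 0)))) (.node (.node (.node (.leaf 38699008) (.leaf 166993920)) (.node (.leaf 120700928) (.leaf 0))) (.node (.node (.leaf 81133568) (.leaf 0)) (.node (.leaf 56861004) (.leaf 0)))))) (.node (.node (.node (.node (.node (.leaf 7200768) (.leaf 154527684)) (.node (.leaf 56721740) (.leaf 0))) (.node (.node (.leaf 56156160) (.leaf 0)) (.node (.leaf 119239851) (.leaf 0)))) (.node (.node (.node (.leaf 32604160) (.leaf 165560320)) (.node (.leaf 116465664)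 (.leaf 0))) (.node (.node (.leaf 78086144) (.leaf 0)) (.node (.leaf 36925029) (.leaf 0))))) (.node (.node (.node (.node (.leaf 20201472) (.leaf 124544808)) (.node (.leaf 107585536) (.leaf 0))) (.node (.node (.leaf 67551232) (.leaf 0)) (.node (.leaf 140050432) (.leaf 0)))) (.node (.node (.node (.leaf 44654592) (.leaf 155393076)) (.node (.leaf 124911616) (.leaf 0))) (.node (.node (.leaf 88276992) (.leaf 0)) (.node (.leaf 152625152) (.leaf 0))))))) (.node (.node (.node (.node (.node (.node (.leaf 3923968) (.leaf 65360520)) (.node (.leaf 95715328) (.leaf 0))) (.node (.node (.leaf 53395456) (.leaf 0)) (.node (.leaf 58271402) (.leaf 0)))) (.node (.node (.node (.leaf 29474816) (.leaf 111404716)) (.node (.leaf 114245632) (.leaf 0))) (.node (.node (.leaf 75431936) (.leaf 0)) (.node (.leaf 144982016) (.leaf 0))))) (.node (.node (.node (.node (.leaf 16932864) (.leaf 161038336)) (.node (.leaf 105168896) (.leaf 0))) (.node (.node (.leaf 64708608) (.leaf 0)) (.node (.leaf 138108928) (.leaf 0)))) (.node (.node (.node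 (.leaf 41672704) (.leaf 167378944)) (.node (.leaf 122839040) (.leaf 0))) (.node (.node (.leaf 85753856) (.leaf 0)) (.node (.leaf 95057853) (.leaf 0)))))) (.node (.node (.node (.node (.node (.leaf 10469376) (.leaf 30248294)) (.node (.leaf 100458496) (.leaf 0))) (.node (.node (.leaf 59097088) (.leaf 0)) (.node (.leaf 81246463) (.leaf 0)))) (.node (.node (.node (.leaf 35659776) (.leaf 161175164)) (.node (.leaf 104585033) (.leaf 0))) (.node (.node (.leaf 80658432) (.leaf 0)) (.node (.leaf 148185088) (.leaf 0))))) (.node (.node (.node (.node (.leaf 23281664) (.leaf 150454498)) (.node (.leaf 79416149) (.leaf 0))) (.node (.node (.leaf 70131712) (.leaf 0)) (.node (.leaf 141770752) (.leaf 0)))) (.node (.node (.node (.leaf 47595520) (.leaf 159913997)) (.node (.leaf 127025152) (.leaf 0))) (.node (.node (.leaf 90775552) (.leaf 0)) (.node (.leaf 154034176) (.leaf 0)))))))) (.node (.node (.node (.node (.node (.node (.node (.leaf 2260992) (.leaf 156024832)) (.node (.leaf 59577998) (.leaf 0))) (.node (.node (.leaf 51994624)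 (.leaf 0)) (.node (.leaf 129941504) (.leaf 0)))) (.node (.node (.node (.leaf 27934720) (.leaf 164257792)) (.node (.leaf 113205248) (.leaf 0))) (.node (.node (.leaf 74104832) (.leaf 0)) (.node (.leaf 81356983) (.leaf 0))))) (.node (.node (.node (.node (.leaf 15278080) (.leaf 88068326)) (.node (.leaf 103899136) (.leaf 0))) (.node (.node (.leaf 46736752) (.leaf 0)) (.node (.leaf 79236168) (.leaf 0)))) (.node (.node (.node (.leaf 40132608) (.leaf 107566893)) (.node (.leaf 121823232) (.leaf 0))) (.node (.node (.leaf 33933116) (.leaf 0)) (.node (.leaf 150536192) (.leaf 0)))))) (.node (.node (.node (.node (.node (.leaf 8830976) (.leaf 122194253)) (.node (.leaf 99336192) (.leaf 0))) (.node (.node (.leaf 1720320) (.leaf 0)) (.node (.leaf 115547137) (.leaf 0)))) (.node (.node (.node (.leaf 34152448) (.leaf 161137973)) (.node (.leaf 117563392) (.leaf 0))) (.node (.node (.leaf 79355904) (.leaf 0)) (.node (.leaf 147447808) (.leaf 0))))) (.node (.node (.node (.node (.leaf 21725184) (.leaf 140325915)) (.node (.leaf 78735804)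 (.leaf 0))) (.node (.node (.leaf 68878336) (.leaf 0)) (.node (.leaf 7917470) (.leaf 0)))) (.node (.node (.node (.leaf 1302528) (.leaf 161339961)) (.node (.leaf 125976576) (.leaf 0))) (.node (.node (.leaf 89587712) (.leaf 0)) (.node (.leaf 105751015) (.leaf 0))))))) (.node (.node (.node (.node (.node (.node (.leaf 5562368) (.leaf 157179904)) (.node (.leaf 52455374) (.leaf 0))) (.node (.node (.leaf 54779904) (.leaf 0)) (.node (.leaf 131883008) (.leaf 0)))) (.node (.node (.node (.leaf 31039488) (.leaf 109494991)) (.node (.leaf 16050808) (.leaf 0))) (.node (.node (.leaf 76750848) (.leaf 0)) (.node (.leaf 145793024) (.leaf 0))))) (.node (.node (.node (.node (.leaf 18579456) (.leaf 152374941)) (.node (.leaf 106422272) (.leaf 0))) (.node (.node (.leaf 66125824) (.leaf 0)) (.node (.leaf 139042816) (.leaf 0)))) (.node (.node (.node (.leaf 43139072) (.leaf 152442040)) (.node (.leaf 84804983) (.leaf 0))) (.node (.node (.leaf 86966272) (.leaf 0)) (.node (.leaf 62252239) (.leaf 0)))))) (.node (.node (.node (.node (.node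 (.leaf 12066816) (.leaf 159367168)) (.node (.leaf 101687296) (.leaf 0))) (.node (.node (.leaf 60563456) (.leaf 0)) (.node (.leaf 104732896) (.leaf 0)))) (.node (.node (.node (.leaf 37208064) (.leaf 166658048)) (.node (.leaf 119652352) (.leaf 0))) (.node (.node (.leaf 81960960) (.leaf 0)) (.node (.leaf 149037056) (.leaf 0))))) (.node (.node (.node (.node (.leaf 20879586) (.leaf 152656640)) (.node (.leaf 111026176) (.leaf 0))) (.node (.node (.leaf 71458816) (.leaf 0)) (.node (.leaf 92321376) (.leaf 0)))) (.node (.node (.node (.leaf 49094656) (.leaf 167832559)) (.node (.leaf 82613272) (.leaf 0))) (.node (.node (.leaf 91987968) (.leaf 0)) (.node (.leaf 154664960) (.leaf 0))))))))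

def e0T46 : NT := .node (.node (.node (.node (.node (.node (.node (.node (.leaf 606208) (.leaf 79290685)) (.node (.leaf 93315072) (.leaf 0))) (.node (.node (.leaf 50536448) (.leaf 0)) (.node (.leaf 128917504) (.leaf 0)))) (.node (.node (.node (.leaf 26394624) (.leaf 119009775)) (.node (.leaf 90575957) (.leaf 0))) (.node (.node (.leaf 66553851) (.leaf 0)) (.node (.leaf 143351808) (.leaf 0))))) (.node (.node (.node (.node (.leaf 13688832) (.leaf 159891456)) (.node (.leaf 102834176) (.leaf 0))) (.node (.node (.leaf 14114816) (.leaf 0)) (.node (.leaf 136364032) (.leaf 0)))) (.node (.node (.node (.leaf 38715392) (.leaf 130139339)) (.node (.leaf 120709120) (.leaf 0))) (.node (.node (.leaf 83329024) (.leaf 0)) (.node (.leaf 149727820) (.leaf 0)))))) (.node (.node (.node (.node (.node (.leaf 7208960) (.leaf 67921850)) (.node (.leaf 7192576) (.leaf 0))) (.node (.node (.leaf 2688236) (.leaf 0)) (.node (.leaf 101389172) (.leaf 0)))) (.node (.node (.node (.leaf 32612352) (.leaf 160809412)) (.node (.leaf 70125871)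 (.leaf 0))) (.node (.node (.leaf 49031679) (.leaf 0)) (.node (.leaf 146710528) (.leaf 0))))) (.node (.node (.node (.node (.leaf 20217856) (.leaf 116730107)) (.node (.leaf 107601920) (.leaf 0))) (.node (.node (.leaf 23552708) (.leaf 0)) (.node (.leaf 140066816) (.leaf 0)))) (.node (.node (.node (.leaf 44670976) (.leaf 101816553)) (.node (.leaf 106457556) (.leaf 0))) (.node (.node (.leaf 88293376) (.leaf 0)) (.node (.leaf 152633344) (.leaf 0))))))) (.node (.node (.node (.node (.node (.node (.leaf 3932160) (.leaf 94550772)) (.node (.leaf 95731712) (.leaf 0))) (.node (.node (.leaf 53403648) (.leaf 0)) (.node (.leaf 130834432) (.leaf 0)))) (.node (.node (.node (.leaf 7136052) (.leaf 30642912)) (.node (.leaf 104956562) (.leaf 0))) (.node (.node (.leaf 75448320) (.leaf 0)) (.node (.leaf 139202622) (.leaf 0))))) (.node (.node (.node (.node (.leaf 16949248) (.leaf 77473199)) (.node (.leaf 85083919) (.leaf 0))) (.node (.node (.leaf 15766843) (.leaf 0)) (.node (.leaf 138117120) (.leaf 0)))) (.node (.node (.node (.leaf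 2770013) (.leaf 145003975)) (.node (.leaf 99183780) (.leaf 0))) (.node (.node (.leaf 66226167) (.leaf 0)) (.node (.leaf 151257088) (.leaf 0)))))) (.node (.node (.node (.node (.node (.leaf 10477568) (.leaf 144528512)) (.node (.leaf 20641330) (.leaf 0))) (.node (.node (.leaf 59113472) (.leaf 0)) (.node (.leaf 82954403) (.leaf 0)))) (.node (.node (.node (.leaf 35676160) (.leaf 166297600)) (.node (.leaf 100955255) (.leaf 0))) (.node (.node (.leaf 80666624) (.leaf 0)) (.node (.leaf 148193280) (.leaf 0))))) (.node (.node (.node (.node (.leaf 23289856) (.leaf 30695487)) (.node (.leaf 109903872) (.leaf 0))) (.node (.node (.leaf 70139904) (.leaf 0)) (.node (.leaf 141062913) (.leaf 0)))) (.node (.node (.node (.leaf 47603712) (.leaf 90305840)) (.node (.leaf 127033344) (.leaf 0))) (.node (.node (.leaf 90783744) (.leaf 0)) (.node (.leaf 154042368) (.leaf 0)))))))) (.node (.node (.node (.node (.node (.node (.node (.leaf 2277376) (.leaf 156033024)) (.node (.leaf 94519296) (.leaf 0))) (.node (.node (.leaf 52002816) (.leaf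 0)) (.node (.leaf 129949696) (.leaf 0)))) (.node (.node (.node (.leaf 27942912) (.leaf 145192769)) (.node (.leaf 51270182) (.leaf 0))) (.node (.node (.leaf 11739136) (.leaf 0)) (.node (.leaf 144179200) (.leaf 0))))) (.node (.node (.node (.node (.leaf 385024) (.leaf 160522240)) (.node (.leaf 103915520) (.leaf 0))) (.node (.node (.leaf 27741337) (.leaf 0)) (.node (.leaf 137256960) (.leaf 0)))) (.node (.node (.node (.leaf 40140800) (.leaf 155982018)) (.node (.leaf 38015081) (.leaf 0))) (.node (.node (.leaf 76190243) (.leaf 0)) (.node (.leaf 150544384) (.leaf 0)))))) (.node (.node (.node (.node (.node (.leaf 8847360) (.leaf 126592895)) (.node (.leaf 51335362) (.leaf 0))) (.node (.node (.leaf 57589760) (.leaf 0)) (.node (.leaf 102405045) (.leaf 0)))) (.node (.node (.node (.leaf 34168832) (.leaf 158781601)) (.node (.leaf 117571584) (.leaf 0))) (.node (.node (.leaf 79372288) (.leaf 0)) (.node (.leaf 147456000) (.leaf 0))))) (.node (.node (.node (.node (.leaf 21733376) (.leaf 162529280)) (.node (.leaf 51865496)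 (.leaf 0))) (.node (.node (.leaf 15289161) (.leaf 0)) (.node (.leaf 112034571) (.leaf 0)))) (.node (.node (.node (.leaf 46153728) (.leaf 121297666)) (.node (.leaf 5718016) (.leaf 0))) (.node (.node (.leaf 89604096) (.leaf 0)) (.node (.leaf 153272320) (.leaf 0))))))) (.node (.node (.node (.node (.node (.node (.leaf 5570560) (.leaf 106058694)) (.node (.leaf 91563000) (.leaf 0))) (.node (.node (.leaf 54796288) (.leaf 0)) (.node (.leaf 131891200) (.leaf 0)))) (.node (.node (.node (.leaf 22256407) (.leaf 165199872)) (.node (.leaf 115392512) (.leaf 0))) (.node (.node (.leaf 76759040) (.leaf 0)) (.node (.leaf 145801216) (.leaf 0))))) (.node (.node (.node (.node (.leaf 18587648) (.leaf 84064835)) (.node (.leaf 106438656) (.leaf 0))) (.node (.node (.leaf 66134016) (.leaf 0)) (.node (.leaf 52351174) (.leaf 0)))) (.node (.node (.node (.leaf 43155456) (.leaf 21536768)) (.node (.leaf 75565313) (.leaf 0))) (.node (.node (.leaf 86982656) (.leaf 0)) (.node (.leaf 134840970) (.leaf 0)))))) (.node (.node (.node (.node (.node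 (.leaf 12083200) (.leaf 159375360)) (.node (.leaf 101703680) (.leaf 0))) (.node (.node (.leaf 60579840) (.leaf 0)) (.node (.leaf 135528448) (.leaf 0)))) (.node (.node (.node (.leaf 37216256) (.leaf 157893356)) (.node (.leaf 119668736) (.leaf 0))) (.node (.node (.leaf 71747771) (.leaf 0)) (.node (.leaf 149045248) (.leaf 0))))) (.node (.node (.node (.node (.leaf 24879104) (.leaf 79401107)) (.node (.leaf 111034368) (.leaf 0))) (.node (.node (.leaf 71475200) (.leaf 0)) (.node (.leaf 103360992) (.leaf 0)))) (.node (.node (.node (.leaf 49111040) (.leaf 166320812)) (.node (.leaf 127983616) (.leaf 0))) (.node (.node (.leaf 91996160) (.leaf 0)) (.node (.leaf 154673152) (.leaf 0))))))))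

def e0T47 : NT := .node (.node (.node (.node (.node (.node (.node (.node (.leaf 614400) (.leaf 155295744)) (.node (.leaf 93331456) (.leaf 0))) (.node (.node (.leaf 50544640) (.leaf 0)) (.node (.leaf 40670142) (.leaf 0)))) (.node (.node (.node (.leaf 26402816) (.leaf 60681919)) (.node (.leaf 112123904) (.leaf 0))) (.node (.node (.leaf 72802304) (.leaf 0)) (.node (.leaf 143360000) (.leaf 0))))) (.node (.node (.node (.node (.leaf 13697024) (.leaf 34236843)) (.node (.leaf 102850560) (.leaf 0))) (.node (.node (.leaf 61964288) (.leaf 0)) (.node (.leaf 136372224) (.leaf 0)))) (.node (.node (.node (.leaf 38723584) (.leaf 151836736)) (.node (.leaf 120725504) (.leaf 0))) (.node (.node (.leaf 55015617) (.leaf 0)) (.node (.leaf 149823488) (.leaf 0)))))) (.node (.node (.node (.node (.node (.leaf 7225344) (.leaf 119458355)) (.node (.leaf 57295180) (.leaf 0))) (.node (.node (.leaf 56172544) (.leaf 0)) (.node (.leaf 132276849) (.leaf 0)))) (.node (.node (.node (.leaf 32628736) (.leaf 16449536)) (.node (.leaf 116490240)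 (.leaf 0))) (.node (.node (.leaf 77650620) (.leaf 0)) (.node (.leaf 17101171) (.leaf 0))))) (.node (.node (.node (.node (.leaf 20234240) (.leaf 162045952)) (.node (.leaf 8111348) (.leaf 0))) (.node (.node (.leaf 67567616) (.leaf 0)) (.node (.leaf 60013208) (.leaf 0)))) (.node (.node (.node (.leaf 44679168) (.leaf 165095661)) (.node (.leaf 113194663) (.leaf 0))) (.node (.node (.leaf 36886082) (.leaf 0)) (.node (.leaf 140909538) (.leaf 0))))))) (.node (.node (.node (.node (.node (.node (.leaf 3948544) (.leaf 156639232)) (.node (.leaf 95739904) (.leaf 0))) (.node (.node (.leaf 53411840) (.leaf 0)) (.node (.leaf 8880128) (.leaf 0)))) (.node (.node (.node (.leaf 29499392) (.leaf 25877265)) (.node (.leaf 114262016) (.leaf 0))) (.node (.node (.leaf 65866798) (.leaf 0)) (.node (.leaf 144990208) (.leaf 0))))) (.node (.node (.node (.node (.leaf 16957440) (.leaf 142132092)) (.node (.leaf 4079616) (.leaf 0))) (.node (.node (.leaf 49637201) (.leaf 0)) (.node (.leaf 101871882) (.leaf 0)))) (.node (.node (.node (.leaf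 41680896) (.leaf 41575934)) (.node (.leaf 122847232) (.leaf 0))) (.node (.node (.leaf 72101524) (.leaf 0)) (.node (.leaf 68687882) (.leaf 0)))))) (.node (.node (.node (.node (.node (.leaf 10493952) (.leaf 38757255)) (.node (.leaf 100466688) (.leaf 0))) (.node (.node (.leaf 19470203) (.leaf 0)) (.node (.leaf 134586368) (.leaf 0)))) (.node (.node (.node (.leaf 35684352) (.leaf 59630044)) (.node (.leaf 118652928) (.leaf 0))) (.node (.node (.leaf 80683008) (.leaf 0)) (.node (.leaf 148209664) (.leaf 0))))) (.node (.node (.node (.node (.leaf 23306240) (.leaf 101717771)) (.node (.leaf 79594493) (.leaf 0))) (.node (.node (.leaf 70148096) (.leaf 0)) (.node (.leaf 90121887) (.leaf 0)))) (.node (.node (.node (.leaf 34559250) (.leaf 137742567)) (.node (.leaf 5832704) (.leaf 0))) (.node (.node (.leaf 90800128) (.leaf 0)) (.node (.leaf 121835596) (.leaf 0)))))))) (.node (.node (.node (.node (.node (.node (.node (.leaf 2285568) (.leaf 156041216)) (.node (.leaf 94527488) (.leaf 0))) (.node (.node (.leaf 52019200) (.leaf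 0)) (.node (.leaf 129966080) (.leaf 0)))) (.node (.node (.node (.leaf 11467309) (.leaf 164274176)) (.node (.leaf 108554548) (.leaf 0))) (.node (.node (.leaf 74121216) (.leaf 0)) (.node (.leaf 144187392) (.leaf 0))))) (.node (.node (.node (.node (.leaf 15294464) (.leaf 118162587)) (.node (.leaf 103923712) (.leaf 0))) (.node (.node (.leaf 63414272) (.leaf 0)) (.node (.leaf 97773900) (.leaf 0)))) (.node (.node (.node (.leaf 10682370) (.leaf 106143829)) (.node (.leaf 87267671) (.leaf 0))) (.node (.node (.leaf 84590592) (.leaf 0)) (.node (.leaf 150552576) (.leaf 0)))))) (.node (.node (.node (.node (.node (.leaf 8855552) (.leaf 149575111)) (.node (.leaf 99344384) (.leaf 0))) (.node (.node (.leaf 31205910) (.leaf 0)) (.node (.leaf 111530067) (.leaf 0)))) (.node (.node (.node (.leaf 5895890) (.leaf 70543647)) (.node (.leaf 117579776) (.leaf 0))) (.node (.node (.leaf 79380480) (.leaf 0)) (.node (.leaf 147464192) (.leaf 0))))) (.node (.node (.node (.node (.leaf 21749760) (.leaf 127084592)) (.node (.leaf 108806144)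 (.leaf 0))) (.node (.node (.leaf 68894720) (.leaf 0)) (.node (.leaf 37178992) (.leaf 0)))) (.node (.node (.node (.leaf 46161920) (.leaf 24322048)) (.node (.leaf 125984768) (.leaf 0))) (.node (.node (.leaf 89612288) (.leaf 0)) (.node (.leaf 98530615) (.leaf 0))))))) (.node (.node (.node (.node (.node (.node (.leaf 5586944) (.leaf 106140109)) (.node (.leaf 96927744) (.leaf 0))) (.node (.node (.leaf 26550806) (.leaf 0)) (.node (.leaf 131899392) (.leaf 0)))) (.node (.node (.node (.leaf 31055872) (.leaf 165208064)) (.node (.leaf 115400704) (.leaf 0))) (.node (.node (.leaf 76767232) (.leaf 0)) (.node (.leaf 87935466) (.leaf 0))))) (.node (.node (.node (.node (.leaf 18604032) (.leaf 114041951)) (.node (.leaf 106446848) (.leaf 0))) (.node (.node (.leaf 66142208) (.leaf 0)) (.node (.leaf 139059200) (.leaf 0)))) (.node (.node (.node (.leaf 43163648) (.leaf 67437240)) (.node (.leaf 17377986) (.leaf 0))) (.node (.node (.leaf 86999040) (.leaf 0)) (.node (.leaf 151977984) (.leaf 0)))))) (.node (.node (.node (.node (.node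 (.leaf 12099584) (.leaf 153126387)) (.node (.leaf 72039063) (.leaf 0))) (.node (.node (.leaf 55451648) (.leaf 0)) (.node (.leaf 48175632) (.leaf 0)))) (.node (.node (.node (.leaf 37232640) (.leaf 166674432)) (.node (.leaf 80814771) (.leaf 0))) (.node (.node (.leaf 81969152) (.leaf 0)) (.node (.leaf 73579622) (.leaf 0))))) (.node (.node (.node (.node (.leaf 24895488) (.leaf 160805589)) (.node (.leaf 89229397) (.leaf 0))) (.node (.node (.leaf 30829285) (.leaf 0)) (.node (.leaf 142622720) (.leaf 0)))) (.node (.node (.node (.leaf 49119232) (.leaf 138701050)) (.node (.leaf 128000000) (.leaf 0))) (.node (.node (.leaf 92012544) (.leaf 0)) (.node (.leaf 144163837) (.leaf 0))))))))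

def e0T48 : NT := .node (.node (.node (.node (.node (.node (.node (.node (.leaf 622592) (.leaf 155303936)) (.node (.leaf 93347840) (.leaf 0))) (.node (.node (.leaf 50561024) (.leaf 0)) (.node (.leaf 115133263) (.leaf 0)))) (.node (.node (.node (.leaf 26419200) (.leaf 163840000)) (.node (.leaf 36980949) (.leaf 0))) (.node (.node (.leaf 72818688) (.leaf 0)) (.node (.leaf 141626503) (.leaf 0))))) (.node (.node (.node (.node (.leaf 13713408) (.leaf 159011008)) (.node (.leaf 102858752) (.leaf 0))) (.node (.node (.leaf 61980672) (.leaf 0)) (.node (.leaf 50317081) (.leaf 0)))) (.node (.node (.node (.leaf 38739968) (.leaf 147731250)) (.node (.leaf 120733696) (.leaf 0))) (.node (.node (.leaf 33456378) (.leaf 0)) (.node (.leaf 50018943) (.leaf 0)))))) (.node (.node (.node (.node (.node (.leaf 7233536) (.leaf 157777920)) (.node (.leaf 98099200) (.leaf 0))) (.node (.node (.leaf 56180736) (.leaf 0)) (.node (.leaf 75060434) (.leaf 0)))) (.node (.node (.node (.leaf 32636928) (.leaf 145773714)) (.node (.leaf 116498432)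 (.leaf 0))) (.node (.node (.leaf 78102528) (.leaf 0)) (.node (.leaf 89570186) (.leaf 0))))) (.node (.node (.node (.node (.leaf 16662528) (.leaf 162054144)) (.node (.leaf 107618304) (.leaf 0))) (.node (.node (.leaf 67584000) (.leaf 0)) (.node (.leaf 48686426) (.leaf 0)))) (.node (.node (.node (.leaf 44695552) (.leaf 167772160)) (.node (.leaf 124919808) (.leaf 0))) (.node (.node (.leaf 88309760) (.leaf 0)) (.node (.leaf 111630647) (.leaf 0))))))) (.node (.node (.node (.node (.node (.node (.leaf 3964928) (.leaf 133699680)) (.node (.leaf 95756288) (.leaf 0))) (.node (.node (.leaf 53428224) (.leaf 0)) (.node (.leaf 123267107) (.leaf 0)))) (.node (.node (.node (.leaf 778240) (.leaf 67749928)) (.node (.leaf 114270208) (.leaf 0))) (.node (.node (.leaf 75464704) (.leaf 0)) (.node (.leaf 118392539) (.leaf 0))))) (.node (.node (.node (.node (.leaf 16973824) (.leaf 155268639)) (.node (.leaf 105193472) (.leaf 0))) (.node (.node (.leaf 62002920) (.leaf 0)) (.node (.leaf 138133504) (.leaf 0)))) (.node (.node (.node (.leaf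 41697280) (.leaf 101677818)) (.node (.leaf 122863616) (.leaf 0))) (.node (.node (.leaf 85762048) (.leaf 0)) (.node (.leaf 44693958) (.leaf 0)))))) (.node (.node (.node (.node (.node (.leaf 10502144) (.leaf 155333720)) (.node (.leaf 100483072) (.leaf 0))) (.node (.node (.leaf 59121664) (.leaf 0)) (.node (.leaf 97842801) (.leaf 0)))) (.node (.node (.node (.leaf 35700736) (.leaf 120189739)) (.node (.leaf 112071016) (.leaf 0))) (.node (.node (.leaf 80691200) (.leaf 0)) (.node (.leaf 148217856) (.leaf 0))))) (.node (.node (.node (.node (.leaf 23314432) (.leaf 156415339)) (.node (.leaf 109920256) (.leaf 0))) (.node (.node (.leaf 70164480) (.leaf 0)) (.node (.leaf 141787136) (.leaf 0)))) (.node (.node (.node (.leaf 47620096) (.leaf 75672310)) (.node (.leaf 127049728) (.leaf 0))) (.node (.node (.leaf 3943726) (.leaf 0)) (.node (.leaf 135857403) (.leaf 0)))))))) (.node (.node (.node (.node (.node (.node (.node (.leaf 2301952) (.leaf 108125022)) (.node (.leaf 94535680) (.leaf 0))) (.node (.node (.leaf 20478156)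 (.leaf 0)) (.node (.leaf 129974272) (.leaf 0)))) (.node (.node (.node (.leaf 27959296) (.leaf 164282368)) (.node (.leaf 113221632) (.leaf 0))) (.node (.node (.leaf 74129408) (.leaf 0)) (.node (.leaf 144195584) (.leaf 0))))) (.node (.node (.node (.node (.leaf 15310848) (.leaf 130217302)) (.node (.leaf 103940096) (.leaf 0))) (.node (.node (.leaf 63422464) (.leaf 0)) (.node (.leaf 61798480) (.leaf 0)))) (.node (.node (.node (.leaf 40157184) (.leaf 165300021)) (.node (.leaf 121839616) (.leaf 0))) (.node (.node (.leaf 84606976) (.leaf 0)) (.node (.leaf 150560768) (.leaf 0)))))) (.node (.node (.node (.node (.node (.leaf 8871936) (.leaf 143410100)) (.node (.leaf 99352576) (.leaf 0))) (.node (.node (.leaf 57606144) (.leaf 0)) (.node (.leaf 133685248) (.leaf 0)))) (.node (.node (.node (.leaf 34185216) (.leaf 96355835)) (.node (.leaf 117587968) (.leaf 0))) (.node (.node (.leaf 46241639) (.leaf 0)) (.node (.leaf 147472384) (.leaf 0))))) (.node (.node (.node (.node (.leaf 21766144) (.leaf 120966752)) (.node (.leaf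 108814336) (.leaf 0))) (.node (.node (.leaf 23594481) (.leaf 0)) (.node (.leaf 140926976) (.leaf 0)))) (.node (.node (.node (.leaf 46178304) (.leaf 96988925)) (.node (.leaf 125992960) (.leaf 0))) (.node (.node (.leaf 89628672) (.leaf 0)) (.node (.leaf 153288704) (.leaf 0))))))) (.node (.node (.node (.node (.node (.node (.leaf 5595136) (.leaf 157196288)) (.node (.leaf 3555328) (.leaf 0))) (.node (.node (.leaf 54812672) (.leaf 0)) (.node (.leaf 131907584) (.leaf 0)))) (.node (.node (.node (.leaf 31072256) (.leaf 81864658)) (.node (.leaf 115417088) (.leaf 0))) (.node (.node (.leaf 76783616) (.leaf 0)) (.node (.leaf 145817600) (.leaf 0))))) (.node (.node (.node (.node (.leaf 18612224) (.leaf 147156753)) (.node (.leaf 51126948) (.leaf 0))) (.node (.node (.leaf 66158592) (.leaf 0)) (.node (.leaf 62478902) (.leaf 0)))) (.node (.node (.node (.leaf 32937993) (.leaf 165807158)) (.node (.leaf 99420200) (.leaf 0))) (.node (.node (.leaf 87007232) (.leaf 0)) (.node (.leaf 139351654) (.leaf 0)))))) (.node (.node (.node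 (.node (.node (.leaf 12107776) (.leaf 159391744)) (.node (.leaf 101720064) (.leaf 0))) (.node (.node (.leaf 60596224) (.leaf 0)) (.node (.leaf 96896397) (.leaf 0)))) (.node (.node (.node (.leaf 37240832) (.leaf 105184347)) (.node (.leaf 119676928) (.leaf 0))) (.node (.node (.leaf 81977344) (.leaf 0)) (.node (.leaf 137218065) (.leaf 0))))) (.node (.node (.node (.node (.leaf 647168) (.leaf 163356672)) (.node (.leaf 51356367) (.leaf 0))) (.node (.node (.leaf 59001232) (.leaf 0)) (.node (.leaf 142630912) (.leaf 0)))) (.node (.node (.node (.leaf 49135616) (.leaf 162780953)) (.node (.leaf 119615271) (.leaf 0))) (.node (.node (.leaf 92020736) (.leaf 0)) (.node (.leaf 154689536) (.leaf 0))))))))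

def e0T49 : NT := .node (.node (.node (.node (.node (.node (.node (.node (.leaf 638976) (.leaf 155320320)) (.node (.leaf 93356032) (.leaf 0))) (.node (.node (.leaf 50569216) (.leaf 0)) (.node (.leaf 128933888) (.leaf 0)))) (.node (.node (.node (.leaf 26435584) (.leaf 116769163)) (.node (.leaf 45606682) (.leaf 0))) (.node (.node (.leaf 72826880) (.leaf 0)) (.node (.leaf 143368192) (.leaf 0))))) (.node (.node (.node (.node (.leaf 13721600) (.leaf 142199578)) (.node (.leaf 28308535) (.leaf 0))) (.node (.node (.leaf 61988864) (.leaf 0)) (.node (.leaf 136380416) (.leaf 0)))) (.node (.node (.node (.leaf 38748160) (.leaf 87652622)) (.node (.leaf 120750080) (.leaf 0))) (.node (.node (.leaf 83353600) (.leaf 0)) (.node (.leaf 149831680) (.leaf 0)))))) (.node (.node (.node (.node (.node (.leaf 7249920) (.leaf 141249559)) (.node (.leaf 21410713) (.leaf 0))) (.node (.node (.leaf 56197120) (.leaf 0)) (.node (.leaf 75830596) (.leaf 0)))) (.node (.node (.node (.leaf 32645120) (.leaf 21209507)) (.node (.leaf 116514816)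 (.leaf 0))) (.node (.node (.leaf 78110720) (.leaf 0)) (.node (.leaf 146726912) (.leaf 0))))) (.node (.node (.node (.node (.leaf 20250624) (.leaf 159725909)) (.node (.leaf 107634688) (.leaf 0))) (.node (.node (.leaf 2097152) (.leaf 0)) (.node (.leaf 140083200) (.leaf 0)))) (.node (.node (.node (.leaf 44703744) (.leaf 157839413)) (.node (.leaf 54538160) (.leaf 0))) (.node (.node (.leaf 82796687) (.leaf 0)) (.node (.leaf 9756672) (.leaf 0))))))) (.node (.node (.node (.node (.node (.node (.leaf 3973120) (.leaf 57249755)) (.node (.leaf 95764480) (.leaf 0))) (.node (.node (.leaf 53436416) (.leaf 0)) (.node (.leaf 12817094) (.leaf 0)))) (.node (.node (.node (.leaf 29515776) (.leaf 125710934)) (.node (.leaf 114278400) (.leaf 0))) (.node (.node (.leaf 75472896) (.leaf 0)) (.node (.leaf 10353594) (.leaf 0))))) (.node (.node (.node (.node (.leaf 1236992) (.leaf 108091258)) (.node (.leaf 62573319) (.leaf 0))) (.node (.node (.leaf 64741376) (.leaf 0)) (.node (.leaf 138141696) (.leaf 0)))) (.node (.node (.node (.leaf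 41705472) (.leaf 164127696)) (.node (.leaf 90870261) (.leaf 0))) (.node (.node (.leaf 85778432) (.leaf 0)) (.node (.leaf 42530493) (.leaf 0)))))) (.node (.node (.node (.node (.node (.leaf 10510336) (.leaf 43850189)) (.node (.leaf 100491264) (.leaf 0))) (.node (.node (.leaf 59138048) (.leaf 0)) (.node (.leaf 76471262) (.leaf 0)))) (.node (.node (.node (.leaf 35708928) (.leaf 87290623)) (.node (.leaf 80326166) (.leaf 0))) (.node (.node (.leaf 80707584) (.leaf 0)) (.node (.leaf 48479148) (.leaf 0))))) (.node (.node (.node (.node (.leaf 23330816) (.leaf 162996224)) (.node (.leaf 86421541) (.leaf 0))) (.node (.node (.leaf 70172672) (.leaf 0)) (.node (.leaf 110760104) (.leaf 0)))) (.node (.node (.node (.leaf 47636480) (.leaf 167968768)) (.node (.leaf 94940227) (.leaf 0))) (.node (.node (.leaf 53781276) (.leaf 0)) (.node (.leaf 154050560) (.leaf 0)))))))) (.node (.node (.node (.node (.node (.node (.node (.leaf 2310144) (.leaf 102999696)) (.node (.leaf 94552064) (.leaf 0))) (.node (.node (.leaf 52043776) (.leaf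 0)) (.node (.leaf 20163397) (.leaf 0)))) (.node (.node (.node (.leaf 24944640) (.leaf 104756679)) (.node (.leaf 112601006) (.leaf 0))) (.node (.node (.leaf 74137600) (.leaf 0)) (.node (.leaf 144203776) (.leaf 0))))) (.node (.node (.node (.node (.leaf 15327232) (.leaf 128915064)) (.node (.leaf 74553914) (.leaf 0))) (.node (.node (.leaf 42626131) (.leaf 0)) (.node (.leaf 37041674) (.leaf 0)))) (.node (.node (.node (.leaf 40165376) (.leaf 94131816)) (.node (.leaf 29549858) (.leaf 0))) (.node (.node (.leaf 67292361) (.leaf 0)) (.node (.leaf 119416855) (.leaf 0)))))) (.node (.node (.node (.node (.node (.leaf 8888320) (.leaf 122094242)) (.node (.leaf 97427456) (.leaf 0))) (.node (.node (.leaf 57622528) (.leaf 0)) (.node (.leaf 125935656) (.leaf 0)))) (.node (.node (.node (.leaf 34201600) (.leaf 165752991)) (.node (.leaf 113377872) (.leaf 0))) (.node (.node (.leaf 32819561) (.leaf 0)) (.node (.leaf 147480576) (.leaf 0))))) (.node (.node (.node (.node (.leaf 21782528) (.leaf 85963277)) (.node (.leaf 108822528)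 (.leaf 0))) (.node (.node (.leaf 68911104) (.leaf 0)) (.node (.leaf 56763602) (.leaf 0)))) (.node (.node (.node (.leaf 46194688) (.leaf 138336893)) (.node (.leaf 126001152) (.leaf 0))) (.node (.node (.leaf 89636864) (.leaf 0)) (.node (.leaf 117228818) (.leaf 0))))))) (.node (.node (.node (.node (.node (.node (.leaf 5611520) (.leaf 157204480)) (.node (.leaf 96944128) (.leaf 0))) (.node (.node (.leaf 54829056) (.leaf 0)) (.node (.leaf 131923968) (.leaf 0)))) (.node (.node (.node (.leaf 31088640) (.leaf 151631610)) (.node (.leaf 115425280) (.leaf 0))) (.node (.node (.leaf 76800000) (.leaf 0)) (.node (.leaf 145825792) (.leaf 0))))) (.node (.node (.node (.node (.leaf 18620416) (.leaf 161513472)) (.node (.leaf 106471424) (.leaf 0))) (.node (.node (.leaf 66166784) (.leaf 0)) (.node (.leaf 38152259) (.leaf 0)))) (.node (.node (.node (.leaf 40295579) (.leaf 160965018)) (.node (.leaf 123895808) (.leaf 0))) (.node (.node (.leaf 87023616) (.leaf 0)) (.node (.leaf 151994368) (.leaf 0)))))) (.node (.node (.node (.node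 (.node (.leaf 12124160) (.leaf 159399936)) (.node (.leaf 101728256) (.leaf 0))) (.node (.node (.leaf 60604416) (.leaf 0)) (.node (.leaf 135536640) (.leaf 0)))) (.node (.node (.node (.leaf 37249024) (.leaf 166056772)) (.node (.leaf 65622049) (.leaf 0))) (.node (.node (.leaf 81993728) (.leaf 0)) (.node (.leaf 149061632) (.leaf 0))))) (.node (.node (.node (.node (.leaf 24911872) (.leaf 60958700)) (.node (.leaf 111058944) (.leaf 0))) (.node (.node (.leaf 71499776) (.leaf 0)) (.node (.leaf 119538149) (.leaf 0)))) (.node (.node (.node (.leaf 47369295) (.leaf 134051034)) (.node (.leaf 128008192) (.leaf 0))) (.node (.node (.leaf 92028928) (.leaf 0)) (.node (.leaf 154697728) (.leaf 0))))))))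

def e0T50 : NT := .node (.node (.node (.node (.node (.node (.node (.node (.leaf 655360) (.leaf 155336704)) (.node (.leaf 93372416) (.leaf 0))) (.node (.node (.leaf 43566059) (.leaf 0)) (.node (.leaf 58446440) (.leaf 0)))) (.node (.node (.node (.leaf 26443776) (.leaf 163856384)) (.node (.leaf 112132096) (.leaf 0))) (.node (.node (.leaf 72843264) (.leaf 0)) (.node (.leaf 96180886) (.leaf 0))))) (.node (.node (.node (.node (.leaf 13737984) (.leaf 72925704)) (.node (.leaf 77068832) (.leaf 0))) (.node (.node (.leaf 62005248) (.leaf 0)) (.node (.leaf 132735465) (.leaf 0)))) (.node (.node (.node (.leaf 38764544) (.leaf 105525217)) (.node (.leaf 56168811) (.leaf 0))) (.node (.node (.leaf 15423911) (.leaf 0)) (.node (.leaf 149839872) (.leaf 0)))))) (.node (.node (.node (.node (.node (.leaf 7266304) (.leaf 11304960)) (.node (.leaf 43296254) (.leaf 0))) (.node (.node (.leaf 56205312) (.leaf 0)) (.node (.leaf 132775936) (.leaf 0)))) (.node (.node (.node (.leaf 32661504) (.leaf 144855055)) (.node (.leaf 4882432) (.leaf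 0))) (.node (.node (.leaf 78118912) (.leaf 0)) (.node (.leaf 146735104) (.leaf 0))))) (.node (.node (.node (.node (.leaf 20267008) (.leaf 158901032)) (.node (.leaf 106103521) (.leaf 0))) (.node (.node (.leaf 67600384) (.leaf 0)) (.node (.leaf 140099584) (.leaf 0)))) (.node (.node (.node (.leaf 4059314) (.leaf 162737438)) (.node (.leaf 124928000) (.leaf 0))) (.node (.node (.leaf 88326144) (.leaf 0)) (.node (.leaf 82762182) (.leaf 0))))))) (.node (.node (.node (.node (.node (.node (.leaf 3989504) (.leaf 156655616)) (.node (.leaf 95187947) (.leaf 0))) (.node (.node (.leaf 53452800) (.leaf 0)) (.node (.leaf 130859008) (.leaf 0)))) (.node (.node (.node (.leaf 29523968) (.leaf 163171370)) (.node (.leaf 114286592) (.leaf 0))) (.node (.node (.leaf 16090567) (.leaf 0)) (.node (.leaf 92981081) (.leaf 0))))) (.node (.node (.node (.node (.leaf 16998400) (.leaf 100903104)) (.node (.leaf 105218048) (.leaf 0))) (.node (.node (.leaf 44880484) (.leaf 0)) (.node (.leaf 96029446) (.leaf 0)))) (.node (.node (.node (.leaf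 41713664) (.leaf 119765325)) (.node (.leaf 7599768) (.leaf 0))) (.node (.node (.leaf 85786624) (.leaf 0)) (.node (.leaf 10042462) (.leaf 0)))))) (.node (.node (.node (.node (.node (.leaf 10526720) (.leaf 123692106)) (.node (.leaf 100507648) (.leaf 0))) (.node (.node (.leaf 59146240) (.leaf 0)) (.node (.leaf 12225713) (.leaf 0)))) (.node (.node (.node (.leaf 35725312) (.leaf 126905565)) (.node (.leaf 118669312) (.leaf 0))) (.node (.node (.leaf 80715776) (.leaf 0)) (.node (.leaf 23029411) (.leaf 0))))) (.node (.node (.node (.node (.leaf 23347200) (.leaf 35428402)) (.node (.leaf 109936640) (.leaf 0))) (.node (.node (.leaf 70180864) (.leaf 0)) (.node (.leaf 127473101) (.leaf 0)))) (.node (.node (.node (.leaf 47652864) (.leaf 100184063)) (.node (.leaf 127057920) (.leaf 0))) (.node (.node (.leaf 90824704) (.leaf 0)) (.node (.leaf 154058752) (.leaf 0)))))))) (.node (.node (.node (.node (.node (.node (.node (.leaf 2326528) (.leaf 156049408)) (.node (.leaf 94560256) (.leaf 0))) (.node (.node (.leaf 52051968) (.leaf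 0)) (.node (.leaf 129982464) (.leaf 0)))) (.node (.node (.node (.leaf 27983872) (.leaf 135524808)) (.node (.leaf 61207433) (.leaf 0))) (.node (.node (.leaf 74153984) (.leaf 0)) (.node (.leaf 144220160) (.leaf 0))))) (.node (.node (.node (.node (.leaf 15335424) (.leaf 22553593)) (.node (.leaf 72270711) (.leaf 0))) (.node (.node (.leaf 63430656) (.leaf 0)) (.node (.leaf 137273344) (.leaf 0)))) (.node (.node (.node (.leaf 40181760) (.leaf 164729900)) (.node (.leaf 121856000) (.leaf 0))) (.node (.node (.leaf 14674621) (.leaf 0)) (.node (.leaf 107631937) (.leaf 0)))))) (.node (.node (.node (.node (.node (.leaf 8896512) (.leaf 158269440)) (.node (.leaf 98157550) (.leaf 0))) (.node (.node (.leaf 57630720) (.leaf 0)) (.node (.leaf 56477165) (.leaf 0)))) (.node (.node (.node (.leaf 34209792) (.leaf 165945344)) (.node (.leaf 117604352) (.leaf 0))) (.node (.node (.leaf 79405056) (.leaf 0)) (.node (.leaf 68942862) (.leaf 0))))) (.node (.node (.node (.node (.leaf 21790720) (.leaf 26613751)) (.node (.leaf 4341760) (.leaf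 0))) (.node (.node (.leaf 68927488) (.leaf 0)) (.node (.leaf 114497715) (.leaf 0)))) (.node (.node (.node (.leaf 46202880) (.leaf 96531235)) (.node (.leaf 126009344) (.leaf 0))) (.node (.node (.leaf 83080041) (.leaf 0)) (.node (.leaf 126943558) (.leaf 0))))))) (.node (.node (.node (.node (.node (.node (.leaf 5627904) (.leaf 145177435)) (.node (.leaf 96952320) (.leaf 0))) (.node (.node (.leaf 54837248) (.leaf 0)) (.node (.leaf 60593908) (.leaf 0)))) (.node (.node (.node (.leaf 31096832) (.leaf 159526481)) (.node (.leaf 115441664) (.leaf 0))) (.node (.node (.leaf 76808192) (.leaf 0)) (.node (.leaf 75223340) (.leaf 0))))) (.node (.node (.node (.node (.leaf 18636800) (.leaf 87632546)) (.node (.leaf 106479616) (.leaf 0))) (.node (.node (.leaf 66174976) (.leaf 0)) (.node (.leaf 21930534) (.leaf 0)))) (.node (.node (.node (.leaf 43180032) (.leaf 106855037)) (.node (.leaf 33918936) (.leaf 0))) (.node (.node (.leaf 87031808) (.leaf 0)) (.node (.leaf 90252740) (.leaf 0)))))) (.node (.node (.node (.node (.node (.leaf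 12132352) (.leaf 93886619)) (.node (.leaf 59744325) (.leaf 0))) (.node (.node (.leaf 60612608) (.leaf 0)) (.node (.leaf 135544832) (.leaf 0)))) (.node (.node (.node (.leaf 37265408) (.leaf 166690816)) (.node (.leaf 12561819) (.leaf 0))) (.node (.node (.leaf 82001920) (.leaf 0)) (.node (.leaf 45813159) (.leaf 0))))) (.node (.node (.node (.node (.leaf 24920064) (.leaf 63532220)) (.node (.leaf 27886544) (.leaf 0))) (.node (.node (.leaf 71507968) (.leaf 0)) (.node (.leaf 142574473) (.leaf 0)))) (.node (.node (.node (.leaf 10620736) (.leaf 152602321)) (.node (.leaf 128016384) (.leaf 0))) (.node (.node (.leaf 43885591) (.leaf 0)) (.node (.leaf 78080172) (.leaf 0))))))))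

def e0T51 : NT := .node (.node (.node (.node (.node (.node (.node (.node (.leaf 663552) (.leaf 155353088)) (.node (.leaf 93388800) (.leaf 0))) (.node (.node (.leaf 50585600) (.leaf 0)) (.node (.leaf 128942080) (.leaf 0)))) (.node (.node (.node (.leaf 26460160) (.leaf 160363558)) (.node (.leaf 112148480) (.leaf 0))) (.node (.node (.leaf 52639253) (.leaf 0)) (.node (.leaf 58461778) (.leaf 0))))) (.node (.node (.node (.node (.leaf 13754368) (.leaf 159924224)) (.node (.leaf 15034222) (.leaf 0))) (.node (.node (.leaf 62021632) (.leaf 0)) (.node (.leaf 136404992) (.leaf 0)))) (.node (.node (.node (.leaf 31577926) (.leaf 167002112)) (.node (.leaf 118486049) (.leaf 0))) (.node (.node (.leaf 83369984) (.leaf 0)) (.node (.leaf 149848064) (.leaf 0)))))) (.node (.node (.node (.node (.node (.leaf 7274496) (.leaf 157786112)) (.node (.leaf 98115584) (.leaf 0))) (.node (.node (.leaf 56221696) (.leaf 0)) (.node (.leaf 99751215) (.leaf 0)))) (.node (.node (.node (.leaf 32669696) (.leaf 99461880)) (.node (.leaf 116523008)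 (.leaf 0))) (.node (.node (.leaf 14700768) (.leaf 0)) (.node (.leaf 146751488) (.leaf 0))))) (.node (.node (.node (.node (.leaf 20275200) (.leaf 144242671)) (.node (.leaf 107659264) (.leaf 0))) (.node (.node (.leaf 67608576) (.leaf 0)) (.node (.leaf 135334878) (.leaf 0)))) (.node (.node (.node (.leaf 44720128) (.leaf 167447322)) (.node (.leaf 124944384) (.leaf 0))) (.node (.node (.leaf 88342528) (.leaf 0)) (.node (.leaf 126143043) (.leaf 0))))))) (.node (.node (.node (.node (.node (.node (.leaf 4005888) (.leaf 156663808)) (.node (.leaf 95772672) (.leaf 0))) (.node (.node (.leaf 53469184) (.leaf 0)) (.node (.leaf 130867200) (.leaf 0)))) (.node (.node (.node (.leaf 29540352) (.leaf 138089126)) (.node (.leaf 114294784) (.leaf 0))) (.node (.node (.leaf 75489280) (.leaf 0)) (.node (.leaf 145014784) (.leaf 0))))) (.node (.node (.node (.node (.leaf 17014784) (.leaf 161046528)) (.node (.leaf 71804211) (.leaf 0))) (.node (.node (.leaf 64757760) (.leaf 0)) (.node (.leaf 138158080) (.leaf 0)))) (.node (.node (.node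 (.leaf 41730048) (.leaf 166201114)) (.node (.leaf 122880000) (.leaf 0))) (.node (.node (.leaf 85803008) (.leaf 0)) (.node (.leaf 151273472) (.leaf 0)))))) (.node (.node (.node (.node (.node (.leaf 10534912) (.leaf 104099440)) (.node (.leaf 100515840) (.leaf 0))) (.node (.node (.leaf 59162624) (.leaf 0)) (.node (.leaf 133644288) (.leaf 0)))) (.node (.node (.node (.leaf 35741696) (.leaf 158003566)) (.node (.leaf 118677504) (.leaf 0))) (.node (.node (.leaf 80723968) (.leaf 0)) (.node (.leaf 40931171) (.leaf 0))))) (.node (.node (.node (.node (.leaf 12856133) (.leaf 67579573)) (.node (.leaf 109944832) (.leaf 0))) (.node (.node (.leaf 70189056) (.leaf 0)) (.node (.leaf 141811712) (.leaf 0)))) (.node (.node (.node (.leaf 47661056) (.leaf 158032762)) (.node (.leaf 117443448) (.leaf 0))) (.node (.node (.leaf 55205034) (.leaf 0)) (.node (.leaf 14757118) (.leaf 0)))))))) (.node (.node (.node (.node (.node (.node (.node (.leaf 2342912) (.leaf 112052782)) (.node (.leaf 94576640) (.leaf 0))) (.node (.node (.leaf 27685349)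 (.leaf 0)) (.node (.leaf 76721864) (.leaf 0)))) (.node (.node (.node (.leaf 28000256) (.leaf 127618706)) (.node (.leaf 113238016) (.leaf 0))) (.node (.node (.leaf 74170368) (.leaf 0)) (.node (.leaf 144228352) (.leaf 0))))) (.node (.node (.node (.node (.leaf 15351808) (.leaf 106774908)) (.node (.leaf 103956480) (.leaf 0))) (.node (.node (.leaf 63447040) (.leaf 0)) (.node (.leaf 124016221) (.leaf 0)))) (.node (.node (.node (.leaf 40198144) (.leaf 167206912)) (.node (.leaf 121872384) (.leaf 0))) (.node (.node (.leaf 84623360) (.leaf 0)) (.node (.leaf 141803980) (.leaf 0)))))) (.node (.node (.node (.node (.node (.leaf 8912896) (.leaf 158277632)) (.node (.leaf 20558080) (.leaf 0))) (.node (.node (.leaf 57647104) (.leaf 0)) (.node (.leaf 112023828) (.leaf 0)))) (.node (.node (.node (.leaf 34226176) (.leaf 165953536)) (.node (.leaf 117612544) (.leaf 0))) (.node (.node (.leaf 79421440) (.leaf 0)) (.node (.leaf 52884252) (.leaf 0))))) (.node (.node (.node (.node (.leaf 21807104) (.leaf 126036067)) (.node (.leaf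 79394759) (.leaf 0))) (.node (.node (.leaf 34340914) (.leaf 0)) (.node (.leaf 102777348) (.leaf 0)))) (.node (.node (.node (.leaf 46219264) (.leaf 159995369)) (.node (.leaf 126025728) (.leaf 0))) (.node (.node (.leaf 89645056) (.leaf 0)) (.node (.leaf 149610730) (.leaf 0))))))) (.node (.node (.node (.node (.node (.node (.leaf 5636096) (.leaf 157212672)) (.node (.leaf 96960512) (.leaf 0))) (.node (.node (.leaf 54853632) (.leaf 0)) (.node (.leaf 95546871) (.leaf 0)))) (.node (.node (.node (.leaf 31113216) (.leaf 164643453)) (.node (.leaf 115449856) (.leaf 0))) (.node (.node (.leaf 76824576) (.leaf 0)) (.node (.leaf 145833984) (.leaf 0))))) (.node (.node (.node (.node (.leaf 18644992) (.leaf 125971839)) (.node (.leaf 106496000) (.leaf 0))) (.node (.node (.leaf 66191360) (.leaf 0)) (.node (.leaf 80984518) (.leaf 0)))) (.node (.node (.node (.leaf 43196416) (.leaf 154600995)) (.node (.leaf 75216206) (.leaf 0))) (.node (.node (.leaf 87048192) (.leaf 0)) (.node (.leaf 96035899) (.leaf 0)))))) (.node (.node (.node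 (.node (.node (.leaf 12148736) (.leaf 113558198)) (.node (.leaf 101744640) (.leaf 0))) (.node (.node (.leaf 60628992) (.leaf 0)) (.node (.leaf 135561216) (.leaf 0)))) (.node (.node (.node (.leaf 21887794) (.leaf 151818683)) (.node (.leaf 100133876) (.leaf 0))) (.node (.node (.leaf 82018304) (.leaf 0)) (.node (.leaf 108310336) (.leaf 0))))) (.node (.node (.node (.node (.leaf 24936448) (.leaf 163373056)) (.node (.leaf 16822315) (.leaf 0))) (.node (.node (.leaf 71516160) (.leaf 0)) (.node (.leaf 142647296) (.leaf 0)))) (.node (.node (.node (.leaf 49160192) (.leaf 166972674)) (.node (.leaf 128024576) (.leaf 0))) (.node (.node (.leaf 92053504) (.leaf 0)) (.node (.leaf 51431543) (.leaf 0))))))))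

def e0T52 : NT := .node (.node (.node (.node (.node (.node (.node (.node (.leaf 679936) (.leaf 110816643)) (.node (.leaf 93396992) (.leaf 0))) (.node (.node (.leaf 50601984) (.leaf 0)) (.node (.leaf 128950272) (.leaf 0)))) (.node (.node (.node (.leaf 26476544) (.leaf 163872768)) (.node (.leaf 4562944) (.leaf 0))) (.node (.node (.leaf 72859648) (.leaf 0)) (.node (.leaf 143384576) (.leaf 0))))) (.node (.node (.node (.node (.leaf 13762560) (.leaf 140652069)) (.node (.leaf 102883328) (.leaf 0))) (.node (.node (.leaf 62038016) (.leaf 0)) (.node (.leaf 12624074) (.leaf 0)))) (.node (.node (.node (.leaf 38780928) (.leaf 132491920)) (.node (.leaf 89994076) (.leaf 0))) (.node (.node (.leaf 2834432) (.leaf 0)) (.node (.leaf 78722543) (.leaf 0)))))) (.node (.node (.node (.node (.node (.leaf 7290880) (.leaf 136413317)) (.node (.leaf 98123776) (.leaf 0))) (.node (.node (.leaf 56238080) (.leaf 0)) (.node (.leaf 124162420) (.leaf 0)))) (.node (.node (.node (.leaf 32686080) (.leaf 155675692)) (.node (.leaf 116531200)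 (.leaf 0))) (.node (.node (.leaf 7542982) (.leaf 0)) (.node (.leaf 8388608) (.leaf 0))))) (.node (.node (.node (.node (.leaf 20291584) (.leaf 162070528)) (.node (.leaf 4259840) (.leaf 0))) (.node (.node (.leaf 67616768) (.leaf 0)) (.node (.leaf 140107776) (.leaf 0)))) (.node (.node (.node (.leaf 44736512) (.leaf 166173051)) (.node (.leaf 106339023) (.leaf 0))) (.node (.node (.leaf 88358912) (.leaf 0)) (.node (.leaf 152657920) (.leaf 0))))))) (.node (.node (.node (.node (.node (.node (.leaf 3338418) (.leaf 156672000)) (.node (.leaf 95780864) (.leaf 0))) (.node (.node (.leaf 53477376) (.leaf 0)) (.node (.leaf 113271006) (.leaf 0)))) (.node (.node (.node (.leaf 29556736) (.leaf 164831232)) (.node (.leaf 114311168) (.leaf 0))) (.node (.node (.leaf 75497472) (.leaf 0)) (.node (.leaf 145031168) (.leaf 0))))) (.node (.node (.node (.node (.leaf 17022976) (.leaf 12787712)) (.node (.leaf 38670074) (.leaf 0))) (.node (.node (.leaf 64774144) (.leaf 0)) (.node (.leaf 138166272) (.leaf 0)))) (.node (.node (.node (.leaf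 41738240) (.leaf 156480044)) (.node (.leaf 57986661) (.leaf 0))) (.node (.node (.leaf 85819392) (.leaf 0)) (.node (.leaf 61892360) (.leaf 0)))))) (.node (.node (.node (.node (.node (.leaf 10551296) (.leaf 158908416)) (.node (.leaf 100532224) (.leaf 0))) (.node (.node (.leaf 59170816) (.leaf 0)) (.node (.leaf 134610944) (.leaf 0)))) (.node (.node (.node (.leaf 4950876) (.leaf 166322176)) (.node (.leaf 118685696) (.leaf 0))) (.node (.node (.leaf 60829073) (.leaf 0)) (.node (.leaf 134804475) (.leaf 0))))) (.node (.node (.node (.node (.leaf 23363584) (.leaf 163004416)) (.node (.leaf 109961216) (.leaf 0))) (.node (.node (.leaf 70205440) (.leaf 0)) (.node (.leaf 141828096) (.leaf 0)))) (.node (.node (.node (.leaf 47677440) (.leaf 161109448)) (.node (.leaf 127074304) (.leaf 0))) (.node (.node (.leaf 90841088) (.leaf 0)) (.node (.leaf 106316498) (.leaf 0)))))))) (.node (.node (.node (.node (.node (.node (.node (.leaf 2351104) (.leaf 151804488)) (.node (.leaf 94584832) (.leaf 0))) (.node (.node (.leaf 52076544)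 (.leaf 0)) (.node (.leaf 129998848) (.leaf 0)))) (.node (.node (.node (.leaf 28008448) (.leaf 164298752)) (.node (.leaf 113246208) (.leaf 0))) (.node (.node (.leaf 2400256) (.leaf 0)) (.node (.leaf 91588341) (.leaf 0))))) (.node (.node (.node (.node (.leaf 15368192) (.leaf 96968791)) (.node (.leaf 103964672) (.leaf 0))) (.node (.node (.leaf 63455232) (.leaf 0)) (.node (.leaf 105210872) (.leaf 0)))) (.node (.node (.node (.leaf 40214528) (.leaf 22641831)) (.node (.leaf 121880576) (.leaf 0))) (.node (.node (.leaf 84631552) (.leaf 0)) (.node (.leaf 9224192) (.leaf 0)))))) (.node (.node (.node (.node (.node (.leaf 8929280) (.leaf 158294016)) (.node (.leaf 99377152) (.leaf 0))) (.node (.node (.leaf 57655296) (.leaf 0)) (.node (.leaf 133701632) (.leaf 0)))) (.node (.node (.node (.leaf 925696) (.leaf 79796445)) (.node (.leaf 115362763) (.leaf 0))) (.node (.node (.leaf 79429632) (.leaf 0)) (.node (.leaf 53132019) (.leaf 0))))) (.node (.node (.node (.node (.leaf 21823488) (.leaf 159471225)) (.node (.leaf 108830720)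 (.leaf 0))) (.node (.node (.leaf 68943872) (.leaf 0)) (.node (.leaf 140943360) (.leaf 0)))) (.node (.node (.node (.leaf 46227456) (.leaf 163746508)) (.node (.leaf 126042112) (.leaf 0))) (.node (.node (.leaf 89661440) (.leaf 0)) (.node (.leaf 153305088) (.leaf 0))))))) (.node (.node (.node (.node (.node (.node (.leaf 5652480) (.leaf 104197644)) (.node (.leaf 96976896) (.leaf 0))) (.node (.node (.leaf 54861824) (.leaf 0)) (.node (.leaf 131948544) (.leaf 0)))) (.node (.node (.node (.leaf 31121408) (.leaf 165224448)) (.node (.leaf 95653083) (.leaf 0))) (.node (.node (.leaf 76832768) (.leaf 0)) (.node (.leaf 145842176) (.leaf 0))))) (.node (.node (.node (.node (.leaf 18661376) (.leaf 155719741)) (.node (.leaf 90273698) (.leaf 0))) (.node (.node (.leaf 66199552) (.leaf 0)) (.node (.leaf 129684894) (.leaf 0)))) (.node (.node (.node (.leaf 43204608) (.leaf 161370866)) (.node (.leaf 123904000) (.leaf 0))) (.node (.node (.leaf 51317802) (.leaf 0)) (.node (.leaf 148778411) (.leaf 0)))))) (.node (.node (.node (.node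 (.node (.leaf 12165120) (.leaf 159416320)) (.node (.leaf 84163307) (.leaf 0))) (.node (.node (.leaf 60637184) (.leaf 0)) (.node (.leaf 64342139) (.leaf 0)))) (.node (.node (.node (.leaf 37281792) (.leaf 114133298)) (.node (.leaf 119693312) (.leaf 0))) (.node (.node (.leaf 82034688) (.leaf 0)) (.node (.leaf 149086208) (.leaf 0))))) (.node (.node (.node (.node (.leaf 24952832) (.leaf 107946737)) (.node (.leaf 111083520) (.leaf 0))) (.node (.node (.leaf 71532544) (.leaf 0)) (.node (.leaf 72739409) (.leaf 0)))) (.node (.node (.node (.leaf 49176576) (.leaf 166544579)) (.node (.leaf 128032768) (.leaf 0))) (.node (.node (.leaf 18211865) (.leaf 0)) (.node (.leaf 154722304) (.leaf 0))))))))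

def e0T53 : NT := .node (.node (.node (.node (.node (.node (.node (.node (.leaf 688128) (.leaf 155361280)) (.node (.leaf 93413376) (.leaf 0))) (.node (.node (.leaf 50610176) (.leaf 0)) (.node (.leaf 128966656) (.leaf 0)))) (.node (.node (.node (.leaf 1368403) (.leaf 111144008)) (.node (.leaf 93343331) (.leaf 0))) (.node (.node (.leaf 72876032) (.leaf 0)) (.node (.leaf 143392768) (.leaf 0))))) (.node (.node (.node (.node (.leaf 13770752) (.leaf 119265584)) (.node (.leaf 102891520) (.leaf 0))) (.node (.node (.leaf 62054400) (.leaf 0)) (.node (.leaf 136421376) (.leaf 0)))) (.node (.node (.node (.leaf 38797312) (.leaf 132811361)) (.node (.leaf 13577982) (.leaf 0))) (.node (.node (.leaf 80425910) (.leaf 0)) (.node (.leaf 30348446) (.leaf 0)))))) (.node (.node (.node (.node (.node (.leaf 7307264) (.leaf 115459211)) (.node (.leaf 98131968) (.leaf 0))) (.node (.node (.leaf 56246272) (.leaf 0)) (.node (.leaf 132784128) (.leaf 0)))) (.node (.node (.node (.leaf 17330009) (.leaf 157097047)) (.node (.leaf 116539392)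 (.leaf 0))) (.node (.node (.leaf 78143488) (.leaf 0)) (.node (.leaf 93530690) (.leaf 0))))) (.node (.node (.node (.node (.leaf 20307968) (.leaf 123146771)) (.node (.leaf 52824285) (.leaf 0))) (.node (.node (.leaf 67633152) (.leaf 0)) (.node (.leaf 41448363) (.leaf 0)))) (.node (.node (.node (.leaf 44744704) (.leaf 161080815)) (.node (.leaf 79481909) (.leaf 0))) (.node (.node (.leaf 88367104) (.leaf 0)) (.node (.leaf 152674304) (.leaf 0))))))) (.node (.node (.node (.node (.node (.node (.leaf 4022272) (.leaf 10903552)) (.node (.leaf 95797248) (.leaf 0))) (.node (.node (.leaf 53493760) (.leaf 0)) (.node (.leaf 130891776) (.leaf 0)))) (.node (.node (.node (.leaf 29564928) (.leaf 122933743)) (.node (.leaf 114319360) (.leaf 0))) (.node (.node (.leaf 75505664) (.leaf 0)) (.node (.leaf 49152436) (.leaf 0))))) (.node (.node (.node (.node (.leaf 17039360) (.leaf 84573216)) (.node (.leaf 105242624) (.leaf 0))) (.node (.node (.leaf 1990656) (.leaf 0)) (.node (.leaf 138174464) (.leaf 0)))) (.node (.node (.node (.leaf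 41754624) (.leaf 73985077)) (.node (.leaf 121699170) (.leaf 0))) (.node (.node (.leaf 59449569) (.leaf 0)) (.node (.leaf 151281664) (.leaf 0)))))) (.node (.node (.node (.node (.node (.leaf 10567680) (.leaf 11755520)) (.node (.leaf 100540416) (.leaf 0))) (.node (.node (.leaf 59187200) (.leaf 0)) (.node (.leaf 134619136) (.leaf 0)))) (.node (.node (.node (.leaf 35758080) (.leaf 156527058)) (.node (.leaf 118693888) (.leaf 0))) (.node (.node (.leaf 80732160) (.leaf 0)) (.node (.leaf 62522630) (.leaf 0))))) (.node (.node (.node (.node (.leaf 6097474) (.leaf 113422474)) (.node (.leaf 80747281) (.leaf 0))) (.node (.node (.leaf 70221824) (.leaf 0)) (.node (.leaf 34712918) (.leaf 0)))) (.node (.node (.node (.leaf 47685632) (.leaf 111419948)) (.node (.leaf 124448745) (.leaf 0))) (.node (.node (.leaf 70072153) (.leaf 0)) (.node (.leaf 154066944) (.leaf 0)))))))) (.node (.node (.node (.node (.node (.node (.node (.leaf 2367488) (.leaf 156057600)) (.node (.leaf 94593024) (.leaf 0))) (.node (.node (.leaf 52084736) (.leaf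 0)) (.node (.leaf 60250385) (.leaf 0)))) (.node (.node (.node (.leaf 28024832) (.leaf 40354534)) (.node (.leaf 60219392) (.leaf 0))) (.node (.node (.leaf 74186752) (.leaf 0)) (.node (.leaf 144244736) (.leaf 0))))) (.node (.node (.node (.node (.leaf 15384576) (.leaf 142750263)) (.node (.leaf 46317633) (.leaf 0))) (.node (.node (.leaf 63471616) (.leaf 0)) (.node (.leaf 61131902) (.leaf 0)))) (.node (.node (.node (.leaf 40222720) (.leaf 59277748)) (.node (.leaf 121896960) (.leaf 0))) (.node (.node (.leaf 84647936) (.leaf 0)) (.node (.leaf 59608009) (.leaf 0)))))) (.node (.node (.node (.node (.node (.leaf 8937472) (.leaf 89744185)) (.node (.leaf 99385344) (.leaf 0))) (.node (.node (.leaf 57671680) (.leaf 0)) (.node (.leaf 97479143) (.leaf 0)))) (.node (.node (.node (.leaf 34242560) (.leaf 148992589)) (.node (.leaf 37614434) (.leaf 0))) (.node (.node (.leaf 79446016) (.leaf 0)) (.node (.leaf 147505152) (.leaf 0))))) (.node (.node (.node (.node (.leaf 21831680) (.leaf 160000504)) (.node (.leaf 91895808) (.leaf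 0))) (.node (.node (.leaf 68952064) (.leaf 0)) (.node (.leaf 140959744) (.leaf 0)))) (.node (.node (.node (.leaf 15469949) (.leaf 81437811)) (.node (.leaf 126050304) (.leaf 0))) (.node (.node (.leaf 9511215) (.leaf 0)) (.node (.leaf 91607298) (.leaf 0))))))) (.node (.node (.node (.node (.node (.node (.leaf 5660672) (.leaf 125631247)) (.node (.leaf 64127500) (.leaf 0))) (.node (.node (.leaf 54878208) (.leaf 0)) (.node (.leaf 131956736) (.leaf 0)))) (.node (.node (.node (.leaf 31137792) (.leaf 146670740)) (.node (.leaf 115466240) (.leaf 0))) (.node (.node (.leaf 9913594) (.leaf 0)) (.node (.leaf 145850368) (.leaf 0))))) (.node (.node (.node (.node (.leaf 18677760) (.leaf 54996665)) (.node (.leaf 102873587) (.leaf 0))) (.node (.node (.leaf 66215936) (.leaf 0)) (.node (.leaf 130235539) (.leaf 0)))) (.node (.node (.node (.leaf 43212800) (.leaf 135102613)) (.node (.leaf 123912192) (.leaf 0))) (.node (.node (.leaf 87072768) (.leaf 0)) (.node (.leaf 70863676) (.leaf 0)))))) (.node (.node (.node (.node (.node (.leaf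 12173312) (.leaf 159424512)) (.node (.leaf 101769216) (.leaf 0))) (.node (.node (.leaf 60653568) (.leaf 0)) (.node (.leaf 135569408) (.leaf 0)))) (.node (.node (.node (.leaf 37298176) (.leaf 164017102)) (.node (.leaf 119709696) (.leaf 0))) (.node (.node (.leaf 82042880) (.leaf 0)) (.node (.leaf 86362250) (.leaf 0))))) (.node (.node (.node (.node (.leaf 24961024) (.leaf 162113652)) (.node (.leaf 111091712) (.leaf 0))) (.node (.node (.leaf 52715863) (.leaf 0)) (.node (.leaf 25163683) (.leaf 0)))) (.node (.node (.node (.leaf 49184768) (.leaf 117624053)) (.node (.leaf 128049152) (.leaf 0))) (.node (.node (.leaf 92069888) (.leaf 0)) (.node (.leaf 128228154) (.leaf 0))))))))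

def e0T54 : NT := .node (.node (.node (.node (.node (.node (.node (.node (.leaf 704512) (.leaf 43323932)) (.node (.leaf 93421568) (.leaf 0))) (.node (.node (.leaf 50618368) (.leaf 0)) (.node (.leaf 6029312) (.leaf 0)))) (.node (.node (.node (.leaf 26492928) (.leaf 163880960)) (.node (.leaf 104749258) (.leaf 0))) (.node (.node (.leaf 72884224) (.leaf 0)) (.node (.leaf 143400960) (.leaf 0))))) (.node (.node (.node (.node (.leaf 13787136) (.leaf 23410498)) (.node (.leaf 102907904) (.leaf 0))) (.node (.node (.leaf 62070784) (.leaf 0)) (.node (.leaf 134709613) (.leaf 0)))) (.node (.node (.node (.leaf 38805504) (.leaf 75073680)) (.node (.leaf 120774656) (.leaf 0))) (.node (.node (.leaf 83386368) (.leaf 0)) (.node (.leaf 140942230) (.leaf 0)))))) (.node (.node (.node (.node (.node (.leaf 7315456) (.leaf 151185745)) (.node (.leaf 98140160) (.leaf 0))) (.node (.node (.leaf 56254464) (.leaf 0)) (.node (.leaf 132800512) (.leaf 0)))) (.node (.node (.node (.leaf 32702464) (.leaf 83365515)) (.node (.leaf 116555776)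 (.leaf 0))) (.node (.node (.leaf 78159872) (.leaf 0)) (.node (.leaf 93305926) (.leaf 0))))) (.node (.node (.node (.node (.leaf 20316160) (.leaf 61934489)) (.node (.leaf 107675648) (.leaf 0))) (.node (.node (.leaf 67641344) (.leaf 0)) (.node (.leaf 127699406) (.leaf 0)))) (.node (.node (.node (.leaf 44761088) (.leaf 156501939)) (.node (.leaf 124040804) (.leaf 0))) (.node (.node (.leaf 88383488) (.leaf 0)) (.node (.leaf 131580162) (.leaf 0))))))) (.node (.node (.node (.node (.node (.node (.leaf 4030464) (.leaf 68830426)) (.node (.leaf 95805440) (.leaf 0))) (.node (.node (.leaf 53501952) (.leaf 0)) (.node (.leaf 12502744) (.leaf 0)))) (.node (.node (.node (.leaf 29581312) (.leaf 142060173)) (.node (.leaf 114327552) (.leaf 0))) (.node (.node (.leaf 75522048) (.leaf 0)) (.node (.leaf 11969033) (.leaf 0))))) (.node (.node (.node (.node (.leaf 17047552) (.leaf 161071104)) (.node (.leaf 105250816) (.leaf 0))) (.node (.node (.leaf 29214237) (.leaf 0)) (.node (.leaf 138182656) (.leaf 0)))) (.node (.node (.node (.leaf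 41771008) (.leaf 70384328)) (.node (.leaf 122896384) (.leaf 0))) (.node (.node (.leaf 85835776) (.leaf 0)) (.node (.leaf 123987704) (.leaf 0)))))) (.node (.node (.node (.node (.node (.leaf 10575872) (.leaf 47731740)) (.node (.leaf 100556800) (.leaf 0))) (.node (.node (.leaf 59203584) (.leaf 0)) (.node (.leaf 134627328) (.leaf 0)))) (.node (.node (.node (.leaf 35766272) (.leaf 97745260)) (.node (.leaf 82482045) (.leaf 0))) (.node (.node (.leaf 39716771) (.leaf 0)) (.node (.leaf 100369129) (.leaf 0))))) (.node (.node (.node (.node (.leaf 18968693) (.leaf 125370579)) (.node (.leaf 109969408) (.leaf 0))) (.node (.node (.leaf 70238208) (.leaf 0)) (.node (.leaf 106821508) (.leaf 0)))) (.node (.node (.node (.leaf 47702016) (.leaf 76134358)) (.node (.leaf 127090688) (.leaf 0))) (.node (.node (.leaf 90857472) (.leaf 0)) (.node (.leaf 52941873) (.leaf 0)))))))) (.node (.node (.node (.node (.node (.node (.node (.leaf 2383872) (.leaf 133301469)) (.node (.leaf 84462627) (.leaf 0))) (.node (.node (.leaf 52101120) (.leaf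 0)) (.node (.leaf 130007040) (.leaf 0)))) (.node (.node (.node (.leaf 28033024) (.leaf 146888228)) (.node (.leaf 113262592) (.leaf 0))) (.node (.node (.leaf 74203136) (.leaf 0)) (.node (.leaf 144261120) (.leaf 0))))) (.node (.node (.node (.node (.leaf 15392768) (.leaf 160538624)) (.node (.leaf 19935056) (.leaf 0))) (.node (.node (.leaf 63479808) (.leaf 0)) (.node (.leaf 137289728) (.leaf 0)))) (.node (.node (.node (.leaf 40239104) (.leaf 78321877)) (.node (.leaf 121905152) (.leaf 0))) (.node (.node (.leaf 84664320) (.leaf 0)) (.node (.leaf 131290070) (.leaf 0)))))) (.node (.node (.node (.node (.node (.leaf 8953856) (.leaf 158302208)) (.node (.leaf 99393536) (.leaf 0))) (.node (.node (.leaf 57679872) (.leaf 0)) (.node (.leaf 129852691) (.leaf 0)))) (.node (.node (.node (.leaf 34250752) (.leaf 81988188)) (.node (.leaf 92237587) (.leaf 0))) (.node (.node (.leaf 79454208) (.leaf 0)) (.node (.leaf 72286944) (.leaf 0))))) (.node (.node (.node (.node (.leaf 21848064) (.leaf 150889598)) (.node (.leaf 108847104)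 (.leaf 0))) (.node (.node (.leaf 68960256) (.leaf 0)) (.node (.leaf 140967936) (.leaf 0)))) (.node (.node (.node (.leaf 46252032) (.leaf 116318897)) (.node (.leaf 126058496) (.leaf 0))) (.node (.node (.leaf 89669632) (.leaf 0)) (.node (.leaf 146706141) (.leaf 0))))))) (.node (.node (.node (.node (.node (.node (.leaf 5677056) (.leaf 147565546)) (.node (.leaf 96993280) (.leaf 0))) (.node (.node (.leaf 54886400) (.leaf 0)) (.node (.leaf 12968603) (.leaf 0)))) (.node (.node (.node (.leaf 31154176) (.leaf 146562025)) (.node (.leaf 115474432) (.leaf 0))) (.node (.node (.leaf 76849152) (.leaf 0)) (.node (.leaf 145858560) (.leaf 0))))) (.node (.node (.node (.node (.leaf 18685952) (.leaf 136312681)) (.node (.leaf 106504192) (.leaf 0))) (.node (.node (.leaf 66232320) (.leaf 0)) (.node (.leaf 9600000) (.leaf 0)))) (.node (.node (.node (.leaf 43229184) (.leaf 67877605)) (.node (.leaf 122145478) (.leaf 0))) (.node (.node (.leaf 87080960) (.leaf 0)) (.node (.leaf 152018944) (.leaf 0)))))) (.node (.node (.node (.node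 (.node (.leaf 12189696) (.leaf 159440896)) (.node (.leaf 101777408) (.leaf 0))) (.node (.node (.leaf 60669952) (.leaf 0)) (.node (.leaf 6791168) (.leaf 0)))) (.node (.node (.node (.leaf 37314560) (.leaf 156201651)) (.node (.leaf 111546258) (.leaf 0))) (.node (.node (.leaf 82059264) (.leaf 0)) (.node (.leaf 149094400) (.leaf 0))))) (.node (.node (.node (.node (.leaf 24969216) (.leaf 163381248)) (.node (.leaf 111099904) (.leaf 0))) (.node (.node (.leaf 71557120) (.leaf 0)) (.node (.leaf 7741440) (.leaf 0)))) (.node (.node (.node (.leaf 49201152) (.leaf 78472738)) (.node (.leaf 63982078) (.leaf 0))) (.node (.node (.leaf 92078080) (.leaf 0)) (.node (.leaf 154738688) (.leaf 0))))))))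

def e0T55 : NT := .node (.node (.node (.node (.node (.node (.node (.node (.leaf 720896) (.leaf 82882789)) (.node (.leaf 91959490) (.leaf 0))) (.node (.node (.leaf 50626560) (.leaf 0)) (.node (.leaf 12701458) (.leaf 0)))) (.node (.node (.node (.leaf 26501120) (.leaf 156885285)) (.node (.leaf 112173056) (.leaf 0))) (.node (.node (.leaf 72900608) (.leaf 0)) (.node (.leaf 143417344) (.leaf 0))))) (.node (.node (.node (.node (.leaf 13803520) (.leaf 159932416)) (.node (.leaf 102916096) (.leaf 0))) (.node (.node (.leaf 62087168) (.leaf 0)) (.node (.leaf 136429568) (.leaf 0)))) (.node (.node (.node (.leaf 1064960) (.leaf 158857633)) (.node (.leaf 120791040) (.leaf 0))) (.node (.node (.leaf 83402752) (.leaf 0)) (.node (.leaf 132301344) (.leaf 0)))))) (.node (.node (.node (.node (.node (.leaf 7331840) (.leaf 77624917)) (.node (.leaf 98148352) (.leaf 0))) (.node (.node (.leaf 56262656) (.leaf 0)) (.node (.leaf 122187538) (.leaf 0)))) (.node (.node (.node (.leaf 32718848) (.leaf 165576704)) (.node (.leaf 116563968)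 (.leaf 0))) (.node (.node (.leaf 78176256) (.leaf 0)) (.node (.leaf 146767872) (.leaf 0))))) (.node (.node (.node (.node (.leaf 20332544) (.leaf 137821065)) (.node (.leaf 107692032) (.leaf 0))) (.node (.node (.leaf 67657728) (.leaf 0)) (.node (.leaf 128620891) (.leaf 0)))) (.node (.node (.node (.leaf 44769280) (.leaf 134382246)) (.node (.leaf 35882705) (.leaf 0))) (.node (.node (.leaf 88399872) (.leaf 0)) (.node (.leaf 152682496) (.leaf 0))))))) (.node (.node (.node (.node (.node (.node (.leaf 4046848) (.leaf 115917846)) (.node (.leaf 95821824) (.leaf 0))) (.node (.node (.leaf 14157614) (.leaf 0)) (.node (.leaf 72836581) (.leaf 0)))) (.node (.node (.node (.leaf 29589504) (.leaf 17500481)) (.node (.leaf 114343936) (.leaf 0))) (.node (.node (.leaf 13591515) (.leaf 0)) (.node (.leaf 145039360) (.leaf 0))))) (.node (.node (.node (.node (.leaf 17063936) (.leaf 160960192)) (.node (.leaf 74392644) (.leaf 0))) (.node (.node (.leaf 64790528) (.leaf 0)) (.node (.leaf 138190848) (.leaf 0)))) (.node (.node (.node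 (.leaf 41779200) (.leaf 139867353)) (.node (.leaf 102516554) (.leaf 0))) (.node (.node (.leaf 40153164) (.leaf 0)) (.node (.leaf 151306240) (.leaf 0)))))) (.node (.node (.node (.node (.node (.leaf 10592256) (.leaf 85340015)) (.node (.leaf 100573184) (.leaf 0))) (.node (.node (.leaf 59211776) (.leaf 0)) (.node (.leaf 36708572) (.leaf 0)))) (.node (.node (.node (.leaf 35782656) (.leaf 148288664)) (.node (.leaf 81752756) (.leaf 0))) (.node (.node (.leaf 80748544) (.leaf 0)) (.node (.leaf 148258816) (.leaf 0))))) (.node (.node (.node (.node (.leaf 23379968) (.leaf 131241150)) (.node (.leaf 96721857) (.leaf 0))) (.node (.node (.leaf 56945607) (.leaf 0)) (.node (.leaf 141844480) (.leaf 0)))) (.node (.node (.node (.leaf 47710208) (.leaf 167976960)) (.node (.leaf 49799392) (.leaf 0))) (.node (.node (.leaf 90873856) (.leaf 0)) (.node (.leaf 10108928) (.leaf 0)))))))) (.node (.node (.node (.node (.node (.node (.node (.leaf 2392064) (.leaf 156073984)) (.node (.leaf 94609408) (.leaf 0))) (.node (.node (.leaf 52109312)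 (.leaf 0)) (.node (.leaf 31775344) (.leaf 0)))) (.node (.node (.node (.leaf 28041216) (.leaf 161633993)) (.node (.leaf 31048031) (.leaf 0))) (.node (.node (.leaf 74219520) (.leaf 0)) (.node (.leaf 144269312) (.leaf 0))))) (.node (.node (.node (.node (.leaf 15409152) (.leaf 97049261)) (.node (.leaf 38035456) (.leaf 0))) (.node (.node (.leaf 63496192) (.leaf 0)) (.node (.leaf 137297920) (.leaf 0)))) (.node (.node (.node (.leaf 40255488) (.leaf 167215104)) (.node (.leaf 5316608) (.leaf 0))) (.node (.node (.leaf 84680704) (.leaf 0)) (.node (.leaf 66295868) (.leaf 0)))))) (.node (.node (.node (.node (.node (.leaf 8962048) (.leaf 151859569)) (.node (.leaf 99401728) (.leaf 0))) (.node (.node (.leaf 57688064) (.leaf 0)) (.node (.leaf 133709824) (.leaf 0)))) (.node (.node (.node (.leaf 34267136) (.leaf 160104775)) (.node (.leaf 117637120) (.leaf 0))) (.node (.node (.leaf 79470592) (.leaf 0)) (.node (.leaf 22733918) (.leaf 0))))) (.node (.node (.node (.node (.leaf 21856256) (.leaf 75338186)) (.node (.leaf 108863488)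 (.leaf 0))) (.node (.node (.leaf 68968448) (.leaf 0)) (.node (.leaf 61491898) (.leaf 0)))) (.node (.node (.node (.leaf 13146269) (.leaf 128991804)) (.node (.leaf 126066688) (.leaf 0))) (.node (.node (.leaf 89686016) (.leaf 0)) (.node (.leaf 153321472) (.leaf 0))))))) (.node (.node (.node (.node (.node (.node (.leaf 5693440) (.leaf 157229056)) (.node (.leaf 97001472) (.leaf 0))) (.node (.node (.leaf 54902784) (.leaf 0)) (.node (.leaf 131973120) (.leaf 0)))) (.node (.node (.node (.leaf 31170560) (.leaf 79916360)) (.node (.leaf 94059545) (.leaf 0))) (.node (.node (.leaf 76857344) (.leaf 0)) (.node (.leaf 145874944) (.leaf 0))))) (.node (.node (.node (.node (.leaf 18702336) (.leaf 126883510)) (.node (.leaf 106520576) (.leaf 0))) (.node (.node (.leaf 66248704) (.leaf 0)) (.node (.leaf 139083776) (.leaf 0)))) (.node (.node (.node (.leaf 40764286) (.leaf 70438731)) (.node (.leaf 123920384) (.leaf 0))) (.node (.node (.leaf 87097344) (.leaf 0)) (.node (.leaf 152035328) (.leaf 0)))))) (.node (.node (.node (.node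 (.node (.leaf 12206080) (.leaf 159449088)) (.node (.leaf 101785600) (.leaf 0))) (.node (.node (.leaf 1826816) (.leaf 0)) (.node (.leaf 85846071) (.leaf 0)))) (.node (.node (.node (.leaf 37330944) (.leaf 71136967)) (.node (.leaf 109446316) (.leaf 0))) (.node (.node (.leaf 82075648) (.leaf 0)) (.node (.leaf 149110784) (.leaf 0))))) (.node (.node (.node (.node (.leaf 24977408) (.leaf 108677348)) (.node (.leaf 111116288) (.leaf 0))) (.node (.node (.leaf 71565312) (.leaf 0)) (.node (.leaf 142680064) (.leaf 0)))) (.node (.node (.node (.leaf 49217536) (.leaf 107438920)) (.node (.leaf 49193081) (.leaf 0))) (.node (.node (.leaf 92086272) (.leaf 0)) (.node (.leaf 14436079) (.leaf 0))))))))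

def e0T56 : NT := .node (.node (.node (.node (.node (.node (.node (.node (.leaf 729088) (.leaf 130185413)) (.node (.leaf 84731770) (.leaf 0))) (.node (.node (.leaf 50634752) (.leaf 0)) (.node (.leaf 115880888) (.leaf 0)))) (.node (.node (.node (.leaf 26517504) (.leaf 162425311)) (.node (.leaf 112189440) (.leaf 0))) (.node (.node (.leaf 36254937) (.leaf 0)) (.node (.leaf 143425536) (.leaf 0))))) (.node (.node (.node (.node (.leaf 13811712) (.leaf 153965990)) (.node (.leaf 58882034) (.leaf 0))) (.node (.node (.leaf 62095360) (.leaf 0)) (.node (.leaf 136437760) (.leaf 0)))) (.node (.node (.node (.leaf 38813696) (.leaf 166767129)) (.node (.leaf 67650546) (.leaf 0))) (.node (.node (.leaf 83419136) (.leaf 0)) (.node (.leaf 123306326) (.leaf 0)))))) (.node (.node (.node (.node (.node (.leaf 7340032) (.leaf 115830978)) (.node (.leaf 98164736) (.leaf 0))) (.node (.node (.leaf 32362611) (.leaf 0)) (.node (.leaf 132816896) (.leaf 0)))) (.node (.node (.node (.leaf 13897109) (.leaf 81491006)) (.node (.leaf 116572160)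 (.leaf 0))) (.node (.node (.leaf 78184448) (.leaf 0)) (.node (.leaf 47028430) (.leaf 0))))) (.node (.node (.node (.node (.leaf 20348928) (.leaf 155560852)) (.node (.leaf 107700224) (.leaf 0))) (.node (.node (.leaf 67674112) (.leaf 0)) (.node (.leaf 140115968) (.leaf 0)))) (.node (.node (.node (.leaf 44777472) (.leaf 60056197)) (.node (.leaf 124960768) (.leaf 0))) (.node (.node (.leaf 84615168) (.leaf 0)) (.node (.leaf 152690688) (.leaf 0))))))) (.node (.node (.node (.node (.node (.node (.leaf 4063232) (.leaf 121024297)) (.node (.leaf 95830016) (.leaf 0))) (.node (.node (.leaf 53518336) (.leaf 0)) (.node (.leaf 130908160) (.leaf 0)))) (.node (.node (.node (.leaf 29605888) (.leaf 164847616)) (.node (.leaf 114360320) (.leaf 0))) (.node (.node (.leaf 75538432) (.leaf 0)) (.node (.leaf 145047552) (.leaf 0))))) (.node (.node (.node (.node (.leaf 17080320) (.leaf 73649483)) (.node (.leaf 105267200) (.leaf 0))) (.node (.node (.leaf 64806912) (.leaf 0)) (.node (.leaf 79280571) (.leaf 0)))) (.node (.node (.node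 (.leaf 37533041) (.leaf 88131501)) (.node (.leaf 122920960) (.leaf 0))) (.node (.node (.leaf 85852160) (.leaf 0)) (.node (.leaf 67162873) (.leaf 0)))))) (.node (.node (.node (.node (.node (.leaf 10600448) (.leaf 123090956)) (.node (.leaf 100581376) (.leaf 0))) (.node (.node (.leaf 12186543) (.leaf 0)) (.node (.leaf 134635520) (.leaf 0)))) (.node (.node (.node (.leaf 35799040) (.leaf 165351587)) (.node (.leaf 118710272) (.leaf 0))) (.node (.node (.leaf 80756736) (.leaf 0)) (.node (.leaf 148267008) (.leaf 0))))) (.node (.node (.node (.node (.leaf 23396352) (.leaf 163028992)) (.node (.leaf 109985792) (.leaf 0))) (.node (.node (.leaf 70254592) (.leaf 0)) (.node (.leaf 117344287) (.leaf 0)))) (.node (.node (.node (.leaf 47718400) (.leaf 167985152)) (.node (.leaf 44012118) (.leaf 0))) (.node (.node (.leaf 90882048) (.leaf 0)) (.node (.leaf 154075136) (.leaf 0)))))))) (.node (.node (.node (.node (.node (.node (.node (.leaf 2408448) (.leaf 115436355)) (.node (.leaf 94617600) (.leaf 0))) (.node (.node (.leaf 52125696)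 (.leaf 0)) (.node (.leaf 130023424) (.leaf 0)))) (.node (.node (.node (.leaf 28057600) (.leaf 102182106)) (.node (.leaf 113278976) (.leaf 0))) (.node (.node (.leaf 74227712) (.leaf 0)) (.node (.leaf 144277504) (.leaf 0))))) (.node (.node (.node (.node (.leaf 15425536) (.leaf 141653365)) (.node (.leaf 103989248) (.leaf 0))) (.node (.node (.leaf 63504384) (.leaf 0)) (.node (.leaf 137314304) (.leaf 0)))) (.node (.node (.node (.leaf 40271872) (.leaf 151093998)) (.node (.leaf 121913344) (.leaf 0))) (.node (.node (.leaf 84688896) (.leaf 0)) (.node (.leaf 150601728) (.leaf 0)))))) (.node (.node (.node (.node (.node (.leaf 8978432) (.leaf 141979814)) (.node (.leaf 97552871) (.leaf 0))) (.node (.node (.leaf 57704448) (.leaf 0)) (.node (.leaf 127484082) (.leaf 0)))) (.node (.node (.node (.leaf 34275328) (.leaf 37895015)) (.node (.leaf 117653504) (.leaf 0))) (.node (.node (.leaf 79486976) (.leaf 0)) (.node (.leaf 134185451) (.leaf 0))))) (.node (.node (.node (.node (.leaf 21872640) (.leaf 100600033)) (.node (.leaf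 12259407) (.leaf 0))) (.node (.node (.leaf 68984832) (.leaf 0)) (.node (.leaf 125952584) (.leaf 0)))) (.node (.node (.node (.leaf 46276608) (.leaf 162208839)) (.node (.leaf 126074880) (.leaf 0))) (.node (.node (.leaf 89694208) (.leaf 0)) (.node (.leaf 80364977) (.leaf 0))))))) (.node (.node (.node (.node (.node (.node (.leaf 5701632) (.leaf 152549650)) (.node (.leaf 97009664) (.leaf 0))) (.node (.node (.leaf 54910976) (.leaf 0)) (.node (.leaf 131981312) (.leaf 0)))) (.node (.node (.node (.leaf 31178752) (.leaf 165240832)) (.node (.leaf 115490816) (.leaf 0))) (.node (.node (.leaf 76865536) (.leaf 0)) (.node (.leaf 145883136) (.leaf 0))))) (.node (.node (.node (.node (.leaf 18710528) (.leaf 12992512)) (.node (.leaf 106528768) (.leaf 0))) (.node (.node (.leaf 66265088) (.leaf 0)) (.node (.leaf 139100160) (.leaf 0)))) (.node (.node (.node (.leaf 43245568) (.leaf 164254586)) (.node (.leaf 115618945) (.leaf 0))) (.node (.node (.leaf 87113728) (.leaf 0)) (.node (.leaf 152043520) (.leaf 0)))))) (.node (.node (.node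 (.node (.node (.leaf 12214272) (.leaf 155952561)) (.node (.leaf 101801984) (.leaf 0))) (.node (.node (.leaf 60694528) (.leaf 0)) (.node (.leaf 129898651) (.leaf 0)))) (.node (.node (.node (.leaf 37347328) (.leaf 95674453)) (.node (.leaf 119717888) (.leaf 0))) (.node (.node (.leaf 82083840) (.leaf 0)) (.node (.leaf 149118976) (.leaf 0))))) (.node (.node (.node (.node (.leaf 24993792) (.leaf 142877548)) (.node (.leaf 101569351) (.leaf 0))) (.node (.node (.leaf 71581696) (.leaf 0)) (.node (.leaf 142688256) (.leaf 0)))) (.node (.node (.node (.leaf 49225728) (.leaf 54602617)) (.node (.leaf 98260396) (.leaf 0))) (.node (.node (.leaf 92102656) (.leaf 0)) (.node (.leaf 121499695) (.leaf 0))))))))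

def e0T57 : NT := .node (.node (.node (.node (.node (.node (.node (.node (.leaf 745472) (.leaf 130126624)) (.node (.leaf 93437952) (.leaf 0))) (.node (.node (.leaf 50642944) (.leaf 0)) (.node (.leaf 128983040) (.leaf 0)))) (.node (.node (.node (.leaf 26533888) (.leaf 163889152)) (.node (.leaf 23184286) (.leaf 0))) (.node (.node (.leaf 72916992) (.leaf 0)) (.node (.leaf 9583090) (.leaf 0))))) (.node (.node (.node (.node (.leaf 13828096) (.leaf 73903160)) (.node (.leaf 102932480) (.leaf 0))) (.node (.node (.leaf 62103552) (.leaf 0)) (.node (.leaf 136454144) (.leaf 0)))) (.node (.node (.node (.leaf 38821888) (.leaf 162239028)) (.node (.leaf 120799232) (.leaf 0))) (.node (.node (.leaf 83427328) (.leaf 0)) (.node (.leaf 39977655) (.leaf 0)))))) (.node (.node (.node (.node (.node (.leaf 7356416) (.leaf 88721472)) (.node (.leaf 98181120) (.leaf 0))) (.node (.node (.leaf 56279040) (.leaf 0)) (.node (.leaf 85902670) (.leaf 0)))) (.node (.node (.node (.leaf 32735232) (.leaf 148953638)) (.node (.leaf 111592394)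 (.leaf 0))) (.node (.node (.leaf 78192640) (.leaf 0)) (.node (.leaf 136767793) (.leaf 0))))) (.node (.node (.node (.node (.leaf 20357120) (.leaf 109169040)) (.node (.leaf 107708416) (.leaf 0))) (.node (.node (.leaf 67682304) (.leaf 0)) (.node (.leaf 120136089) (.leaf 0)))) (.node (.node (.node (.leaf 44793856) (.leaf 167788544)) (.node (.leaf 124968960) (.leaf 0))) (.node (.node (.leaf 88416256) (.leaf 0)) (.node (.leaf 73519044) (.leaf 0))))))) (.node (.node (.node (.node (.node (.node (.leaf 4071424) (.leaf 156680192)) (.node (.leaf 95846400) (.leaf 0))) (.node (.node (.leaf 53534720) (.leaf 0)) (.node (.leaf 130916352) (.leaf 0)))) (.node (.node (.node (.leaf 29614080) (.leaf 128758901)) (.node (.leaf 114368512) (.leaf 0))) (.node (.node (.leaf 52914222) (.leaf 0)) (.node (.leaf 145055744) (.leaf 0))))) (.node (.node (.node (.node (.leaf 17088512) (.leaf 161087488)) (.node (.leaf 105283584) (.leaf 0))) (.node (.node (.leaf 64815104) (.leaf 0)) (.node (.leaf 138199040) (.leaf 0)))) (.node (.node (.node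 (.leaf 41803776) (.leaf 120080332)) (.node (.leaf 122937344) (.leaf 0))) (.node (.node (.leaf 72953640) (.leaf 0)) (.node (.leaf 150568960) (.leaf 0)))))) (.node (.node (.node (.node (.node (.leaf 10608640) (.leaf 111950403)) (.node (.leaf 100589568) (.leaf 0))) (.node (.node (.leaf 59228160) (.leaf 0)) (.node (.leaf 6676480) (.leaf 0)))) (.node (.node (.node (.leaf 3537674) (.leaf 166338560)) (.node (.leaf 118726656) (.leaf 0))) (.node (.node (.leaf 80773120) (.leaf 0)) (.node (.leaf 129624308) (.leaf 0))))) (.node (.node (.node (.node (.leaf 23412736) (.leaf 156404503)) (.node (.leaf 109993984) (.leaf 0))) (.node (.node (.leaf 70270976) (.leaf 0)) (.node (.leaf 98429945) (.leaf 0)))) (.node (.node (.node (.leaf 47734784) (.leaf 130494476)) (.node (.leaf 58864542) (.leaf 0))) (.node (.node (.leaf 90898432) (.leaf 0)) (.node (.leaf 131042431) (.leaf 0)))))))) (.node (.node (.node (.node (.node (.node (.node (.leaf 2416640) (.leaf 156090368)) (.node (.leaf 94633984) (.leaf 0))) (.node (.node (.leaf 44139814)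 (.leaf 0)) (.node (.leaf 105009553) (.leaf 0)))) (.node (.node (.node (.leaf 28065792) (.leaf 147994311)) (.node (.leaf 77534449) (.leaf 0))) (.node (.node (.leaf 74235904) (.leaf 0)) (.node (.leaf 144293888) (.leaf 0))))) (.node (.node (.node (.node (.leaf 15433728) (.leaf 100550488)) (.node (.leaf 72852866) (.leaf 0))) (.node (.node (.leaf 61005824) (.leaf 0)) (.node (.leaf 137322496) (.leaf 0)))) (.node (.node (.node (.leaf 40280064) (.leaf 167223296)) (.node (.leaf 44848491) (.leaf 0))) (.node (.node (.leaf 13684091) (.leaf 0)) (.node (.leaf 59325279) (.leaf 0)))))) (.node (.node (.node (.node (.node (.leaf 8994816) (.leaf 134339733)) (.node (.leaf 99409920) (.leaf 0))) (.node (.node (.leaf 57712640) (.leaf 0)) (.node (.leaf 123716780) (.leaf 0)))) (.node (.node (.node (.leaf 34283520) (.leaf 43195279)) (.node (.leaf 117669888) (.leaf 0))) (.node (.node (.leaf 79503360) (.leaf 0)) (.node (.leaf 147513344) (.leaf 0))))) (.node (.node (.node (.node (.leaf 15376384) (.leaf 162562048)) (.node (.leaf 108879872)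 (.leaf 0))) (.node (.node (.leaf 68993024) (.leaf 0)) (.node (.leaf 115291538) (.leaf 0)))) (.node (.node (.node (.leaf 46284800) (.leaf 162974503)) (.node (.leaf 126083072) (.leaf 0))) (.node (.node (.leaf 89710592) (.leaf 0)) (.node (.leaf 20856904) (.leaf 0))))))) (.node (.node (.node (.node (.node (.node (.leaf 5709824) (.leaf 154858824)) (.node (.leaf 97026048) (.leaf 0))) (.node (.node (.leaf 54919168) (.leaf 0)) (.node (.leaf 131989504) (.leaf 0)))) (.node (.node (.node (.leaf 22981563) (.leaf 143852823)) (.node (.leaf 115507200) (.leaf 0))) (.node (.node (.leaf 74148457) (.leaf 0)) (.node (.leaf 23208522) (.leaf 0))))) (.node (.node (.node (.node (.leaf 18726912) (.leaf 153654692)) (.node (.leaf 71470261) (.leaf 0))) (.node (.node (.leaf 12725952) (.leaf 0)) (.node (.leaf 99256741) (.leaf 0)))) (.node (.node (.node (.leaf 43253760) (.leaf 99955249)) (.node (.leaf 44648565) (.leaf 0))) (.node (.node (.leaf 87121920) (.leaf 0)) (.node (.leaf 99318842) (.leaf 0)))))) (.node (.node (.node (.node (.node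 (.leaf 12230656) (.leaf 84660212)) (.node (.leaf 101818368) (.leaf 0))) (.node (.node (.leaf 60702720) (.leaf 0)) (.node (.leaf 135585792) (.leaf 0)))) (.node (.node (.node (.leaf 37363712) (.leaf 26929308)) (.node (.leaf 81804429) (.leaf 0))) (.node (.node (.leaf 82100224) (.leaf 0)) (.node (.leaf 128538606) (.leaf 0))))) (.node (.node (.node (.node (.leaf 25010176) (.leaf 154382029)) (.node (.leaf 111124480) (.leaf 0))) (.node (.node (.leaf 71598080) (.leaf 0)) (.node (.leaf 142696448) (.leaf 0)))) (.node (.node (.node (.leaf 49242112) (.leaf 165069649)) (.node (.leaf 128065536) (.leaf 0))) (.node (.node (.leaf 92110848) (.leaf 0)) (.node (.leaf 10280960) (.leaf 0))))))))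

def e0T58 : NT := .node (.node (.node (.node (.node (.node (.node (.node (.leaf 761856) (.leaf 49497209)) (.node (.leaf 32734152) (.leaf 0))) (.node (.node (.leaf 40874176) (.leaf 0)) (.node (.leaf 102483751) (.leaf 0)))) (.node (.node (.node (.leaf 26542080) (.leaf 163897344)) (.node (.leaf 112205824) (.leaf 0))) (.node (.node (.leaf 41909101) (.leaf 0)) (.node (.leaf 108374751) (.leaf 0))))) (.node (.node (.node (.node (.leaf 13844480) (.leaf 103052699)) (.node (.leaf 102948864) (.leaf 0))) (.node (.node (.leaf 62119936) (.leaf 0)) (.node (.leaf 48548929) (.leaf 0)))) (.node (.node (.node (.leaf 38830080) (.leaf 30727219)) (.node (.leaf 120815616) (.leaf 0))) (.node (.node (.leaf 83443712) (.leaf 0)) (.node (.leaf 149872640) (.leaf 0)))))) (.node (.node (.node (.node (.node (.leaf 7372800) (.leaf 157794304)) (.node (.leaf 98197504) (.leaf 0))) (.node (.node (.leaf 1671168) (.leaf 0)) (.node (.leaf 132825088) (.leaf 0)))) (.node (.node (.node (.leaf 32743424) (.leaf 151580131)) (.node (.leaf 116588544)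 (.leaf 0))) (.node (.node (.leaf 78200832) (.leaf 0)) (.node (.leaf 146776064) (.leaf 0))))) (.node (.node (.node (.node (.leaf 20365312) (.leaf 120540075)) (.node (.leaf 107724800) (.leaf 0))) (.node (.node (.leaf 67698688) (.leaf 0)) (.node (.leaf 94221793) (.leaf 0)))) (.node (.node (.node (.leaf 12682844) (.leaf 167750912)) (.node (.leaf 116379219) (.leaf 0))) (.node (.node (.leaf 88424448) (.leaf 0)) (.node (.leaf 149952602) (.leaf 0))))))) (.node (.node (.node (.node (.node (.node (.leaf 4087808) (.leaf 50842196)) (.node (.leaf 46960534) (.leaf 0))) (.node (.node (.leaf 53551104) (.leaf 0)) (.node (.leaf 130932736) (.leaf 0)))) (.node (.node (.node (.leaf 29630464) (.leaf 32962578)) (.node (.leaf 114384896) (.leaf 0))) (.node (.node (.leaf 75554816) (.leaf 0)) (.node (.leaf 145072128) (.leaf 0))))) (.node (.node (.node (.node (.leaf 17104896) (.leaf 66637504)) (.node (.leaf 105291776) (.leaf 0))) (.node (.node (.leaf 64823296) (.leaf 0)) (.node (.leaf 119198676) (.leaf 0)))) (.node (.node (.node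 (.leaf 13748809) (.leaf 66257538)) (.node (.leaf 99825519) (.leaf 0))) (.node (.node (.leaf 85746027) (.leaf 0)) (.node (.leaf 151314432) (.leaf 0)))))) (.node (.node (.node (.node (.node (.leaf 10625024) (.leaf 119362654)) (.node (.leaf 100605952) (.leaf 0))) (.node (.node (.leaf 59244544) (.leaf 0)) (.node (.leaf 134651904) (.leaf 0)))) (.node (.node (.node (.leaf 35815424) (.leaf 106952836)) (.node (.leaf 118734848) (.leaf 0))) (.node (.node (.leaf 80781312) (.leaf 0)) (.node (.leaf 8724480) (.leaf 0))))) (.node (.node (.node (.node (.leaf 23420928) (.leaf 68153139)) (.node (.leaf 110010368) (.leaf 0))) (.node (.node (.leaf 70287360) (.leaf 0)) (.node (.leaf 141860864) (.leaf 0)))) (.node (.node (.node (.leaf 47751168) (.leaf 150678620)) (.node (.leaf 127115264) (.leaf 0))) (.node (.node (.leaf 90914816) (.leaf 0)) (.node (.leaf 154083328) (.leaf 0)))))))) (.node (.node (.node (.node (.node (.node (.node (.leaf 2433024) (.leaf 142797417)) (.node (.leaf 94650368) (.leaf 0))) (.node (.node (.leaf 52142080)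 (.leaf 0)) (.node (.leaf 93784901) (.leaf 0)))) (.node (.node (.node (.leaf 28082176) (.leaf 106466696)) (.node (.leaf 113295360) (.leaf 0))) (.node (.node (.leaf 74244096) (.leaf 0)) (.node (.leaf 144302080) (.leaf 0))))) (.node (.node (.node (.node (.leaf 15450112) (.leaf 160546816)) (.node (.leaf 104005632) (.leaf 0))) (.node (.node (.leaf 55531392) (.leaf 0)) (.node (.leaf 137330688) (.leaf 0)))) (.node (.node (.node (.leaf 40296448) (.leaf 61520258)) (.node (.leaf 121921536) (.leaf 0))) (.node (.node (.leaf 84713472) (.leaf 0)) (.node (.leaf 125398054) (.leaf 0)))))) (.node (.node (.node (.node (.node (.leaf 9011200) (.leaf 97946291)) (.node (.leaf 89157017) (.leaf 0))) (.node (.node (.leaf 57729024) (.leaf 0)) (.node (.leaf 133734400) (.leaf 0)))) (.node (.node (.node (.leaf 34299904) (.leaf 151481414)) (.node (.leaf 117678080) (.leaf 0))) (.node (.node (.leaf 79511552) (.leaf 0)) (.node (.leaf 131600663) (.leaf 0))))) (.node (.node (.node (.node (.leaf 21889024) (.leaf 112678695)) (.node (.leaf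 108888064) (.leaf 0))) (.node (.node (.leaf 69009408) (.leaf 0)) (.node (.leaf 112226746) (.leaf 0)))) (.node (.node (.node (.leaf 46301184) (.leaf 166611750)) (.node (.leaf 126091264) (.leaf 0))) (.node (.node (.leaf 89718784) (.leaf 0)) (.node (.leaf 9936896) (.leaf 0))))))) (.node (.node (.node (.node (.node (.node (.leaf 5726208) (.leaf 157237248)) (.node (.leaf 97034240) (.leaf 0))) (.node (.node (.leaf 47920008) (.leaf 0)) (.node (.leaf 6356992) (.leaf 0)))) (.node (.node (.node (.leaf 31195136) (.leaf 58029035)) (.node (.leaf 115515392) (.leaf 0))) (.node (.node (.leaf 54290142) (.leaf 0)) (.node (.leaf 128412065) (.leaf 0))))) (.node (.node (.node (.node (.leaf 18743296) (.leaf 137765608)) (.node (.leaf 106545152) (.leaf 0))) (.node (.node (.leaf 66273280) (.leaf 0)) (.node (.leaf 139116544) (.leaf 0)))) (.node (.node (.node (.leaf 43270144) (.leaf 54152694)) (.node (.leaf 123936768) (.leaf 0))) (.node (.node (.leaf 87130112) (.leaf 0)) (.node (.leaf 136522722) (.leaf 0)))))) (.node (.node (.node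 (.node (.node (.leaf 6754713) (.leaf 136087594)) (.node (.leaf 101826560) (.leaf 0))) (.node (.node (.leaf 60710912) (.leaf 0)) (.node (.leaf 71014521) (.leaf 0)))) (.node (.node (.node (.leaf 37371904) (.leaf 166699008)) (.node (.leaf 91943656) (.leaf 0))) (.node (.node (.leaf 82108416) (.leaf 0)) (.node (.leaf 149127168) (.leaf 0))))) (.node (.node (.node (.node (.leaf 25018368) (.leaf 150534875)) (.node (.leaf 111132672) (.leaf 0))) (.node (.node (.leaf 70263164) (.leaf 0)) (.node (.leaf 142704640) (.leaf 0)))) (.node (.node (.node (.leaf 49250304) (.leaf 84601550)) (.node (.leaf 128073728) (.leaf 0))) (.node (.node (.leaf 92127232) (.leaf 0)) (.node (.leaf 86471039) (.leaf 0))))))))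

def e0T59 : NT := .node (.node (.node (.node (.node (.node (.node (.node (.leaf 770048) (.leaf 43345372)) (.node (.leaf 93454336) (.leaf 0))) (.node (.node (.leaf 50659328) (.leaf 0)) (.node (.leaf 128999424) (.leaf 0)))) (.node (.node (.node (.leaf 26558464) (.leaf 151514712)) (.node (.leaf 112214016) (.leaf 0))) (.node (.node (.leaf 14460622) (.leaf 0)) (.node (.leaf 143450112) (.leaf 0))))) (.node (.node (.node (.node (.leaf 4751360) (.leaf 159940608)) (.node (.leaf 102965248) (.leaf 0))) (.node (.node (.leaf 62128128) (.leaf 0)) (.node (.leaf 100683527) (.leaf 0)))) (.node (.node (.node (.leaf 38838272) (.leaf 73128759)) (.node (.leaf 120832000) (.leaf 0))) (.node (.node (.leaf 83451904) (.leaf 0)) (.node (.leaf 149880832) (.leaf 0)))))) (.node (.node (.node (.node (.node (.leaf 7380992) (.leaf 157810688)) (.node (.leaf 98205696) (.leaf 0))) (.node (.node (.leaf 56295424) (.leaf 0)) (.node (.leaf 132833280) (.leaf 0)))) (.node (.node (.node (.leaf 32751616) (.leaf 135120252)) (.node (.leaf 38367592)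 (.leaf 0))) (.node (.node (.leaf 78217216) (.leaf 0)) (.node (.leaf 146784256) (.leaf 0))))) (.node (.node (.node (.node (.leaf 20381696) (.leaf 149526855)) (.node (.leaf 107741184) (.leaf 0))) (.node (.node (.leaf 59474939) (.leaf 0)) (.node (.leaf 75352477) (.leaf 0)))) (.node (.node (.node (.leaf 44810240) (.leaf 167796736)) (.node (.leaf 48155426) (.leaf 0))) (.node (.node (.leaf 88440832) (.leaf 0)) (.node (.leaf 82017208) (.leaf 0))))))) (.node (.node (.node (.node (.node (.node (.leaf 4096000) (.leaf 47670824)) (.node (.leaf 95862784) (.leaf 0))) (.node (.node (.leaf 1564672) (.leaf 0)) (.node (.leaf 130940928) (.leaf 0)))) (.node (.node (.node (.leaf 29638656) (.leaf 164542964)) (.node (.leaf 16351660) (.leaf 0))) (.node (.node (.leaf 75571200) (.leaf 0)) (.node (.leaf 104932254) (.leaf 0))))) (.node (.node (.node (.node (.leaf 17113088) (.leaf 115308013)) (.node (.leaf 78094757) (.leaf 0))) (.node (.node (.leaf 64839680) (.leaf 0)) (.node (.leaf 138207232) (.leaf 0)))) (.node (.node (.node (.leaf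 41811968) (.leaf 167395328)) (.node (.leaf 103662456) (.leaf 0))) (.node (.node (.leaf 85876736) (.leaf 0)) (.node (.leaf 55534757) (.leaf 0)))))) (.node (.node (.node (.node (.node (.leaf 10633216) (.leaf 147581993)) (.node (.leaf 100614144) (.leaf 0))) (.node (.node (.leaf 59260928) (.leaf 0)) (.node (.leaf 134668288) (.leaf 0)))) (.node (.node (.node (.leaf 35831808) (.leaf 148621443)) (.node (.leaf 118743040) (.leaf 0))) (.node (.node (.leaf 80797696) (.leaf 0)) (.node (.leaf 102166589) (.leaf 0))))) (.node (.node (.node (.node (.leaf 23429120) (.leaf 147052975)) (.node (.leaf 110018560) (.leaf 0))) (.node (.node (.leaf 70295552) (.leaf 0)) (.node (.leaf 141877248) (.leaf 0)))) (.node (.node (.node (.leaf 47759360) (.leaf 155079316)) (.node (.leaf 127131648) (.leaf 0))) (.node (.node (.leaf 35600590) (.leaf 0)) (.node (.leaf 75944372) (.leaf 0)))))))) (.node (.node (.node (.node (.node (.node (.node (.leaf 2449408) (.leaf 150867512)) (.node (.leaf 94658560) (.leaf 0))) (.node (.node (.leaf 52150272)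 (.leaf 0)) (.node (.leaf 130039808) (.leaf 0)))) (.node (.node (.node (.leaf 28090368) (.leaf 164339712)) (.node (.leaf 113303552) (.leaf 0))) (.node (.node (.leaf 13280193) (.leaf 0)) (.node (.leaf 9186215) (.leaf 0))))) (.node (.node (.node (.node (.leaf 15458304) (.leaf 160555008)) (.node (.leaf 104022016) (.leaf 0))) (.node (.node (.leaf 60438104) (.leaf 0)) (.node (.leaf 34831088) (.leaf 0)))) (.node (.node (.node (.leaf 40312832) (.leaf 158930677)) (.node (.leaf 66117985) (.leaf 0))) (.node (.node (.leaf 84721664) (.leaf 0)) (.node (.leaf 87167479) (.leaf 0)))))) (.node (.node (.node (.node (.node (.leaf 9019392) (.leaf 158310400)) (.node (.leaf 99434496) (.leaf 0))) (.node (.node (.leaf 52542475) (.leaf 0)) (.node (.leaf 74772309) (.leaf 0)))) (.node (.node (.node (.leaf 34308096) (.leaf 139701087)) (.node (.leaf 117686272) (.leaf 0))) (.node (.node (.leaf 79527936) (.leaf 0)) (.node (.leaf 121784108) (.leaf 0))))) (.node (.node (.node (.node (.leaf 21897216) (.leaf 129797939)) (.node (.leaf 108896256)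 (.leaf 0))) (.node (.node (.leaf 19989348) (.leaf 0)) (.node (.leaf 140984320) (.leaf 0)))) (.node (.node (.node (.leaf 46309376) (.leaf 167895040)) (.node (.leaf 126099456) (.leaf 0))) (.node (.node (.leaf 89726976) (.leaf 0)) (.node (.leaf 27579014) (.leaf 0))))))) (.node (.node (.node (.node (.node (.node (.leaf 5734400) (.leaf 16412870)) (.node (.leaf 97050624) (.leaf 0))) (.node (.node (.leaf 54935552) (.leaf 0)) (.node (.leaf 132014080) (.leaf 0)))) (.node (.node (.node (.leaf 31211520) (.leaf 141315808)) (.node (.leaf 115531776) (.leaf 0))) (.node (.node (.leaf 76881920) (.leaf 0)) (.node (.leaf 145899520) (.leaf 0))))) (.node (.node (.node (.node (.leaf 18751488) (.leaf 156836702)) (.node (.leaf 106561536) (.leaf 0))) (.node (.node (.leaf 66281472) (.leaf 0)) (.node (.leaf 139124736) (.leaf 0)))) (.node (.node (.node (.leaf 43286528) (.leaf 148658187)) (.node (.leaf 123944960) (.leaf 0))) (.node (.node (.leaf 87138304) (.leaf 0)) (.node (.leaf 152051712) (.leaf 0)))))) (.node (.node (.node (.node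 (.node (.leaf 12247040) (.leaf 159473664)) (.node (.leaf 101842944) (.leaf 0))) (.node (.node (.leaf 60727296) (.leaf 0)) (.node (.leaf 11802595) (.leaf 0)))) (.node (.node (.node (.leaf 37388288) (.leaf 166673161)) (.node (.leaf 71782579) (.leaf 0))) (.node (.node (.leaf 82124800) (.leaf 0)) (.node (.leaf 102437029) (.leaf 0))))) (.node (.node (.node (.node (.leaf 25034752) (.leaf 163405824)) (.node (.leaf 42247839) (.leaf 0))) (.node (.node (.leaf 45231752) (.leaf 0)) (.node (.leaf 138883642) (.leaf 0)))) (.node (.node (.node (.leaf 49266688) (.leaf 152620756)) (.node (.leaf 128081920) (.leaf 0))) (.node (.node (.leaf 92135424) (.leaf 0)) (.node (.leaf 45857683) (.leaf 0))))))))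

def e0T60 : NT := .node (.node (.node (.node (.node (.node (.node (.node (.leaf 786432) (.leaf 139231402)) (.node (.leaf 93462528) (.leaf 0))) (.node (.node (.leaf 50675712) (.leaf 0)) (.node (.leaf 13533713) (.leaf 0)))) (.node (.node (.node (.leaf 26566656) (.leaf 137800709)) (.node (.leaf 81935322) (.leaf 0))) (.node (.node (.leaf 72933376) (.leaf 0)) (.node (.leaf 143458304) (.leaf 0))))) (.node (.node (.node (.node (.leaf 13860864) (.leaf 84083981)) (.node (.leaf 94382993) (.leaf 0))) (.node (.node (.leaf 62144512) (.leaf 0)) (.node (.leaf 136462336) (.leaf 0)))) (.node (.node (.node (.leaf 38846464) (.leaf 165605181)) (.node (.leaf 113232760) (.leaf 0))) (.node (.node (.leaf 83468288) (.leaf 0)) (.node (.leaf 36105565) (.leaf 0)))))) (.node (.node (.node (.node (.node (.leaf 7397376) (.leaf 157818880)) (.node (.leaf 37205411) (.leaf 0))) (.node (.node (.leaf 56303616) (.leaf 0)) (.node (.leaf 132841472) (.leaf 0)))) (.node (.node (.node (.leaf 32768000) (.leaf 135853425)) (.node (.leaf 116596736)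 (.leaf 0))) (.node (.node (.leaf 78225408) (.leaf 0)) (.node (.leaf 146765117) (.leaf 0))))) (.node (.node (.node (.node (.leaf 20398080) (.leaf 100857430)) (.node (.leaf 42600510) (.leaf 0))) (.node (.node (.leaf 67706880) (.leaf 0)) (.node (.leaf 140140544) (.leaf 0)))) (.node (.node (.node (.leaf 44818432) (.leaf 86376741)) (.node (.leaf 104852956) (.leaf 0))) (.node (.node (.leaf 88449024) (.leaf 0)) (.node (.leaf 13836673) (.leaf 0))))))) (.node (.node (.node (.node (.node (.node (.leaf 4112384) (.leaf 105596107)) (.node (.leaf 95870976) (.leaf 0))) (.node (.node (.leaf 53567488) (.leaf 0)) (.node (.leaf 115624523) (.leaf 0)))) (.node (.node (.node (.leaf 29655040) (.leaf 25121850)) (.node (.leaf 114401280) (.leaf 0))) (.node (.node (.leaf 75579392) (.leaf 0)) (.node (.leaf 100268686) (.leaf 0))))) (.node (.node (.node (.node (.leaf 17121280) (.leaf 152762484)) (.node (.leaf 105308160) (.leaf 0))) (.node (.node (.leaf 64847872) (.leaf 0)) (.node (.leaf 69658604) (.leaf 0)))) (.node (.node (.node (.leaf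 30331298) (.leaf 132913208)) (.node (.leaf 122953728) (.leaf 0))) (.node (.node (.leaf 35008881) (.leaf 0)) (.node (.leaf 151322624) (.leaf 0)))))) (.node (.node (.node (.node (.node (.leaf 10649600) (.leaf 91421168)) (.node (.leaf 100630528) (.leaf 0))) (.node (.node (.leaf 59269120) (.leaf 0)) (.node (.leaf 111884478) (.leaf 0)))) (.node (.node (.node (.leaf 35840000) (.leaf 95029239)) (.node (.leaf 118751232) (.leaf 0))) (.node (.node (.leaf 80805888) (.leaf 0)) (.node (.leaf 148291584) (.leaf 0))))) (.node (.node (.node (.node (.leaf 23437312) (.leaf 162549753)) (.node (.leaf 110034944) (.leaf 0))) (.node (.node (.leaf 70303744) (.leaf 0)) (.node (.leaf 141885440) (.leaf 0)))) (.node (.node (.node (.leaf 22054605) (.leaf 142146066)) (.node (.leaf 127139840) (.leaf 0))) (.node (.node (.leaf 90931200) (.leaf 0)) (.node (.leaf 66621636) (.leaf 0)))))))) (.node (.node (.node (.node (.node (.node (.node (.leaf 2457600) (.leaf 121791902)) (.node (.leaf 94666752) (.leaf 0))) (.node (.node (.leaf 52158464)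 (.leaf 0)) (.node (.leaf 127400262) (.leaf 0)))) (.node (.node (.node (.leaf 28106752) (.leaf 108957948)) (.node (.leaf 101224817) (.leaf 0))) (.node (.node (.leaf 74252288) (.leaf 0)) (.node (.leaf 103253869) (.leaf 0))))) (.node (.node (.node (.node (.leaf 15474688) (.leaf 27328745)) (.node (.leaf 104038400) (.leaf 0))) (.node (.node (.leaf 63537152) (.leaf 0)) (.node (.leaf 137338880) (.leaf 0)))) (.node (.node (.node (.leaf 40321024) (.leaf 117373458)) (.node (.leaf 121937920) (.leaf 0))) (.node (.node (.leaf 84738048) (.leaf 0)) (.node (.leaf 150634496) (.leaf 0)))))) (.node (.node (.node (.node (.node (.leaf 9035776) (.leaf 70808400)) (.node (.leaf 99442688) (.leaf 0))) (.node (.node (.leaf 57745408) (.leaf 0)) (.node (.leaf 56542581) (.leaf 0)))) (.node (.node (.node (.leaf 34316288) (.leaf 55366329)) (.node (.leaf 117702656) (.leaf 0))) (.node (.node (.leaf 79536128) (.leaf 0)) (.node (.leaf 147529728) (.leaf 0))))) (.node (.node (.node (.node (.leaf 21905408) (.leaf 162572235)) (.node (.leaf 5748698)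 (.leaf 0))) (.node (.node (.leaf 69025792) (.leaf 0)) (.node (.leaf 141000704) (.leaf 0)))) (.node (.node (.node (.leaf 46325760) (.leaf 24510464)) (.node (.leaf 126107648) (.leaf 0))) (.node (.node (.leaf 89735168) (.leaf 0)) (.node (.leaf 153329664) (.leaf 0))))))) (.node (.node (.node (.node (.node (.node (.leaf 5750784) (.leaf 157245440)) (.node (.leaf 97067008) (.leaf 0))) (.node (.node (.leaf 1613824) (.leaf 0)) (.node (.leaf 132022272) (.leaf 0)))) (.node (.node (.node (.leaf 31227904) (.leaf 159349777)) (.node (.leaf 115548160) (.leaf 0))) (.node (.node (.leaf 2514944) (.leaf 0)) (.node (.leaf 145915904) (.leaf 0))))) (.node (.node (.node (.node (.leaf 18767872) (.leaf 121336238)) (.node (.leaf 39342119) (.leaf 0))) (.node (.node (.leaf 66297856) (.leaf 0)) (.node (.leaf 112958554) (.leaf 0)))) (.node (.node (.node (.leaf 2559924) (.leaf 156610800)) (.node (.leaf 123953152) (.leaf 0))) (.node (.node (.leaf 32798276) (.leaf 0)) (.node (.leaf 82051799) (.leaf 0)))))) (.node (.node (.node (.node (.node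 (.leaf 12263424) (.leaf 97980217)) (.node (.leaf 101851136) (.leaf 0))) (.node (.node (.leaf 60735488) (.leaf 0)) (.node (.leaf 135593984) (.leaf 0)))) (.node (.node (.node (.leaf 37404672) (.leaf 166715392)) (.node (.leaf 119734272) (.leaf 0))) (.node (.node (.leaf 82141184) (.leaf 0)) (.node (.leaf 134352223) (.leaf 0))))) (.node (.node (.node (.node (.leaf 25051136) (.leaf 162707681)) (.node (.leaf 26291179) (.leaf 0))) (.node (.node (.leaf 71622656) (.leaf 0)) (.node (.leaf 138914175) (.leaf 0)))) (.node (.node (.node (.leaf 49274880) (.leaf 163509631)) (.node (.leaf 100000706) (.leaf 0))) (.node (.node (.leaf 92151808) (.leaf 0)) (.node (.leaf 30947337) (.leaf 0))))))))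

def e0T61 : NT := .node (.node (.node (.node (.node (.node (.node (.node (.leaf 794624) (.leaf 155402240)) (.node (.leaf 93470720) (.leaf 0))) (.node (.node (.leaf 50683904) (.leaf 0)) (.node (.leaf 129007616) (.leaf 0)))) (.node (.node (.node (.leaf 13258521) (.leaf 133862203)) (.node (.leaf 66596864) (.leaf 0))) (.node (.node (.leaf 72941568) (.leaf 0)) (.node (.leaf 38577694) (.leaf 0))))) (.node (.node (.node (.node (.leaf 13869056) (.leaf 79131502)) (.node (.leaf 102973440) (.leaf 0))) (.node (.node (.leaf 62152704) (.leaf 0)) (.node (.leaf 136470528) (.leaf 0)))) (.node (.node (.node (.leaf 38854656) (.leaf 166591029)) (.node (.leaf 120848384) (.leaf 0))) (.node (.node (.leaf 83484672) (.leaf 0)) (.node (.leaf 149889024) (.leaf 0)))))) (.node (.node (.node (.node (.node (.leaf 7405568) (.leaf 141700050)) (.node (.leaf 98230272) (.leaf 0))) (.node (.node (.leaf 56311808) (.leaf 0)) (.node (.leaf 132849664) (.leaf 0)))) (.node (.node (.node (.leaf 32784384) (.leaf 164477232)) (.node (.leaf 116613120)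 (.leaf 0))) (.node (.node (.leaf 78241792) (.leaf 0)) (.node (.leaf 145735680) (.leaf 0))))) (.node (.node (.node (.node (.leaf 20406272) (.leaf 94284175)) (.node (.leaf 107757568) (.leaf 0))) (.node (.node (.leaf 67715072) (.leaf 0)) (.node (.leaf 130037155) (.leaf 0)))) (.node (.node (.node (.leaf 2531519) (.leaf 151604832)) (.node (.leaf 124993536) (.leaf 0))) (.node (.node (.leaf 88457216) (.leaf 0)) (.node (.leaf 152707072) (.leaf 0))))))) (.node (.node (.node (.node (.node (.node (.leaf 4128768) (.leaf 153513617)) (.node (.leaf 95887360) (.leaf 0))) (.node (.node (.leaf 42566197) (.leaf 0)) (.node (.leaf 116803950) (.leaf 0)))) (.node (.node (.node (.leaf 29671424) (.leaf 157193437)) (.node (.leaf 114417664) (.leaf 0))) (.node (.node (.leaf 75595776) (.leaf 0)) (.node (.leaf 99934563) (.leaf 0))))) (.node (.node (.node (.node (.leaf 17129472) (.leaf 161095680)) (.node (.leaf 105316352) (.leaf 0))) (.node (.node (.leaf 64864256) (.leaf 0)) (.node (.leaf 138215424) (.leaf 0)))) (.node (.node (.node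 (.leaf 41836544) (.leaf 114342873)) (.node (.leaf 101353304) (.leaf 0))) (.node (.node (.leaf 85893120) (.leaf 0)) (.node (.leaf 91828914) (.leaf 0)))))) (.node (.node (.node (.node (.node (.leaf 10665984) (.leaf 107327116)) (.node (.leaf 100646912) (.leaf 0))) (.node (.node (.leaf 21106264) (.leaf 0)) (.node (.leaf 134676480) (.leaf 0)))) (.node (.node (.node (.leaf 35856384) (.leaf 18014208)) (.node (.leaf 118767616) (.leaf 0))) (.node (.node (.leaf 80822272) (.leaf 0)) (.node (.leaf 148299776) (.leaf 0))))) (.node (.node (.node (.node (.leaf 23453696) (.leaf 162220489)) (.node (.leaf 110043136) (.leaf 0))) (.node (.node (.leaf 70320128) (.leaf 0)) (.node (.leaf 141893632) (.leaf 0)))) (.node (.node (.node (.leaf 47775744) (.leaf 166560698)) (.node (.leaf 127148032) (.leaf 0))) (.node (.node (.leaf 90939392) (.leaf 0)) (.node (.leaf 154099712) (.leaf 0)))))))) (.node (.node (.node (.node (.node (.node (.node (.leaf 2473984) (.leaf 108923466)) (.node (.leaf 72895297) (.leaf 0))) (.node (.node (.leaf 52174848)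 (.leaf 0)) (.node (.leaf 93592099) (.leaf 0)))) (.node (.node (.node (.leaf 28123136) (.leaf 154887839)) (.node (.leaf 59856070) (.leaf 0))) (.node (.node (.leaf 74260480) (.leaf 0)) (.node (.leaf 134456598) (.leaf 0))))) (.node (.node (.node (.node (.leaf 15491072) (.leaf 160563200)) (.node (.leaf 74962624) (.leaf 0))) (.node (.node (.leaf 63553536) (.leaf 0)) (.node (.leaf 81196600) (.leaf 0)))) (.node (.node (.node (.leaf 40337408) (.leaf 144668456)) (.node (.leaf 50107618) (.leaf 0))) (.node (.node (.leaf 84754432) (.leaf 0)) (.node (.leaf 132961551) (.leaf 0)))))) (.node (.node (.node (.node (.node (.leaf 8480966) (.leaf 158318592)) (.node (.leaf 99450880) (.leaf 0))) (.node (.node (.leaf 57761792) (.leaf 0)) (.node (.leaf 133742592) (.leaf 0)))) (.node (.node (.node (.leaf 1402577) (.leaf 165969920)) (.node (.leaf 117710848) (.leaf 0))) (.node (.node (.leaf 11823166) (.leaf 0)) (.node (.leaf 147546112) (.leaf 0))))) (.node (.node (.node (.node (.leaf 21913600) (.leaf 100155955)) (.node (.leaf 105356206)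 (.leaf 0))) (.node (.node (.leaf 69042176) (.leaf 0)) (.node (.leaf 108058636) (.leaf 0)))) (.node (.node (.node (.leaf 46342144) (.leaf 86270335)) (.node (.leaf 126124032) (.leaf 0))) (.node (.node (.leaf 89751552) (.leaf 0)) (.node (.leaf 53273215) (.leaf 0))))))) (.node (.node (.node (.node (.node (.node (.leaf 5758976) (.leaf 81260814)) (.node (.leaf 97075200) (.leaf 0))) (.node (.node (.leaf 5768499) (.leaf 0)) (.node (.leaf 55567434) (.leaf 0)))) (.node (.node (.node (.leaf 31236096) (.leaf 156788901)) (.node (.leaf 73111191) (.leaf 0))) (.node (.node (.leaf 65742400) (.leaf 0)) (.node (.leaf 28399701) (.leaf 0))))) (.node (.node (.node (.node (.leaf 18776064) (.leaf 161538048)) (.node (.leaf 106577920) (.leaf 0))) (.node (.node (.leaf 66306048) (.leaf 0)) (.node (.leaf 139141120) (.leaf 0)))) (.node (.node (.node (.leaf 43302912) (.leaf 156858847)) (.node (.leaf 93933366) (.leaf 0))) (.node (.node (.leaf 87154688) (.leaf 0)) (.node (.leaf 45553295) (.leaf 0)))))) (.node (.node (.node (.node (.node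 (.leaf 12279808) (.leaf 78390312)) (.node (.leaf 101859328) (.leaf 0))) (.node (.node (.leaf 60751872) (.leaf 0)) (.node (.leaf 135602176) (.leaf 0)))) (.node (.node (.node (.leaf 37412864) (.leaf 166723584)) (.node (.leaf 76010802) (.leaf 0))) (.node (.node (.leaf 82149376) (.leaf 0)) (.node (.leaf 149143552) (.leaf 0))))) (.node (.node (.node (.node (.leaf 25059328) (.leaf 115504039)) (.node (.leaf 111149056) (.leaf 0))) (.node (.node (.leaf 71630848) (.leaf 0)) (.node (.leaf 142712832) (.leaf 0)))) (.node (.node (.node (.leaf 49291264) (.leaf 111208618)) (.node (.leaf 128098304) (.leaf 0))) (.node (.node (.leaf 92160000) (.leaf 0)) (.node (.leaf 51112081) (.leaf 0))))))))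

def e0T62 : NT := .node (.node (.node (.node (.node (.node (.node (.node (.leaf 811008) (.leaf 94998900)) (.node (.leaf 93487104) (.leaf 0))) (.node (.node (.leaf 50692096) (.leaf 0)) (.node (.leaf 129024000) (.leaf 0)))) (.node (.node (.node (.leaf 26591232) (.leaf 146574661)) (.node (.leaf 48591891) (.leaf 0))) (.node (.node (.leaf 72957952) (.leaf 0)) (.node (.leaf 37652592) (.leaf 0))))) (.node (.node (.node (.node (.leaf 13885440) (.leaf 159389609)) (.node (.leaf 102981632) (.leaf 0))) (.node (.node (.leaf 62169088) (.leaf 0)) (.node (.leaf 43049224) (.leaf 0)))) (.node (.node (.node (.leaf 38871040) (.leaf 158099273)) (.node (.leaf 120864768) (.leaf 0))) (.node (.node (.leaf 83492864) (.leaf 0)) (.node (.leaf 141299776) (.leaf 0)))))) (.node (.node (.node (.node (.node (.leaf 7421952) (.leaf 73048314)) (.node (.leaf 98238464) (.leaf 0))) (.node (.node (.leaf 56328192) (.leaf 0)) (.node (.leaf 132857856) (.leaf 0)))) (.node (.node (.node (.leaf 32800768) (.leaf 165593088)) (.node (.leaf 86177901)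 (.leaf 0))) (.node (.node (.leaf 78249984) (.leaf 0)) (.node (.leaf 146792448) (.leaf 0))))) (.node (.node (.node (.node (.leaf 20422656) (.leaf 162095104)) (.node (.leaf 107765760) (.leaf 0))) (.node (.node (.leaf 67731456) (.leaf 0)) (.node (.leaf 140148736) (.leaf 0)))) (.node (.node (.node (.leaf 44834816) (.leaf 123965937)) (.node (.leaf 104498345) (.leaf 0))) (.node (.node (.leaf 88473600) (.leaf 0)) (.node (.leaf 146629953) (.leaf 0))))))) (.node (.node (.node (.node (.node (.node (.leaf 4136960) (.leaf 126978135)) (.node (.leaf 9310910) (.leaf 0))) (.node (.node (.leaf 53583872) (.leaf 0)) (.node (.leaf 23864570) (.leaf 0)))) (.node (.node (.node (.leaf 29679616) (.leaf 164872192)) (.node (.leaf 114425856) (.leaf 0))) (.node (.node (.leaf 75612160) (.leaf 0)) (.node (.leaf 145096704) (.leaf 0))))) (.node (.node (.node (.node (.leaf 17145856) (.leaf 155777105)) (.node (.leaf 105324544) (.leaf 0))) (.node (.node (.leaf 64872448) (.leaf 0)) (.node (.leaf 138231808) (.leaf 0)))) (.node (.node (.node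 (.leaf 41844736) (.leaf 152571915)) (.node (.leaf 58012978) (.leaf 0))) (.node (.node (.leaf 85909504) (.leaf 0)) (.node (.leaf 138250380) (.leaf 0)))))) (.node (.node (.node (.node (.node (.leaf 10674176) (.leaf 157227705)) (.node (.leaf 82678264) (.leaf 0))) (.node (.node (.leaf 59285504) (.leaf 0)) (.node (.leaf 134692864) (.leaf 0)))) (.node (.node (.node (.leaf 35864576) (.leaf 150234134)) (.node (.leaf 118775808) (.leaf 0))) (.node (.node (.leaf 80830464) (.leaf 0)) (.node (.leaf 140427325) (.leaf 0))))) (.node (.node (.node (.node (.leaf 23470080) (.leaf 162604893)) (.node (.leaf 110059520) (.leaf 0))) (.node (.node (.leaf 16756899) (.leaf 0)) (.node (.leaf 141901824) (.leaf 0)))) (.node (.node (.node (.leaf 47792128) (.leaf 166271042)) (.node (.leaf 44567352) (.leaf 0))) (.node (.node (.leaf 90947584) (.leaf 0)) (.node (.leaf 154107904) (.leaf 0)))))))) (.node (.node (.node (.node (.node (.node (.node (.leaf 2482176) (.leaf 49595080)) (.node (.leaf 94674944) (.leaf 0))) (.node (.node (.leaf 52183040)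 (.leaf 0)) (.node (.leaf 130056192) (.leaf 0)))) (.node (.node (.node (.leaf 24731648) (.leaf 164347904)) (.node (.leaf 113319936) (.leaf 0))) (.node (.node (.leaf 74268672) (.leaf 0)) (.node (.leaf 144310272) (.leaf 0))))) (.node (.node (.node (.node (.leaf 15499264) (.leaf 71731963)) (.node (.leaf 4014080) (.leaf 0))) (.node (.node (.leaf 26796825) (.leaf 0)) (.node (.leaf 137347072) (.leaf 0)))) (.node (.node (.node (.leaf 40345600) (.leaf 115020831)) (.node (.leaf 110786277) (.leaf 0))) (.node (.node (.leaf 2891776) (.leaf 0)) (.node (.leaf 150642688) (.leaf 0)))))) (.node (.node (.node (.node (.node (.leaf 9052160) (.leaf 110476253)) (.node (.leaf 96736954) (.leaf 0))) (.node (.node (.leaf 57769984) (.leaf 0)) (.node (.leaf 108569144) (.leaf 0)))) (.node (.node (.node (.leaf 34332672) (.leaf 165986304)) (.node (.leaf 117727232) (.leaf 0))) (.node (.node (.leaf 63341112) (.leaf 0)) (.node (.leaf 8560640) (.leaf 0))))) (.node (.node (.node (.node (.leaf 21921792) (.leaf 162586624)) (.node (.leaf 108912640)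 (.leaf 0))) (.node (.node (.leaf 69058560) (.leaf 0)) (.node (.leaf 24275975) (.leaf 0)))) (.node (.node (.node (.leaf 46350336) (.leaf 114215839)) (.node (.leaf 57095684) (.leaf 0))) (.node (.node (.leaf 89759744) (.leaf 0)) (.node (.leaf 144176639) (.leaf 0))))))) (.node (.node (.node (.node (.node (.node (.leaf 5775360) (.leaf 65758727)) (.node (.leaf 97091584) (.leaf 0))) (.node (.node (.leaf 33663514) (.leaf 0)) (.node (.leaf 132030464) (.leaf 0)))) (.node (.node (.node (.leaf 31252480) (.leaf 87818646)) (.node (.leaf 115564544) (.leaf 0))) (.node (.node (.leaf 76898304) (.leaf 0)) (.node (.leaf 111015604) (.leaf 0))))) (.node (.node (.node (.node (.leaf 18792448) (.leaf 149106450)) (.node (.leaf 106586112) (.leaf 0))) (.node (.node (.leaf 66314240) (.leaf 0)) (.node (.leaf 139157504) (.leaf 0)))) (.node (.node (.node (.leaf 43311104) (.leaf 129304085)) (.node (.leaf 123969536) (.leaf 0))) (.node (.node (.leaf 3014656) (.leaf 0)) (.node (.leaf 152076288) (.leaf 0)))))) (.node (.node (.node (.node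 (.node (.leaf 12288000) (.leaf 159490048)) (.node (.leaf 101875712) (.leaf 0))) (.node (.node (.leaf 60760064) (.leaf 0)) (.node (.leaf 135610368) (.leaf 0)))) (.node (.node (.node (.leaf 37429248) (.leaf 126223001)) (.node (.leaf 119742464) (.leaf 0))) (.node (.node (.leaf 82165760) (.leaf 0)) (.node (.leaf 104143994) (.leaf 0))))) (.node (.node (.node (.node (.leaf 25075712) (.leaf 55830379)) (.node (.leaf 111157248) (.leaf 0))) (.node (.node (.leaf 22095327) (.leaf 0)) (.node (.leaf 142729216) (.leaf 0)))) (.node (.node (.node (.leaf 49299456) (.leaf 99202910)) (.node (.leaf 105902219) (.leaf 0))) (.node (.node (.leaf 45569992) (.leaf 0)) (.node (.leaf 154755072) (.leaf 0))))))))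

def e0T63 : NT := .node (.node (.node (.node (.node (.node (.node (.node (.leaf 827392) (.leaf 97200587)) (.node (.leaf 93495296) (.leaf 0))) (.node (.node (.leaf 50700288) (.leaf 0)) (.node (.leaf 129032192) (.leaf 0)))) (.node (.node (.node (.leaf 26599424) (.leaf 149906847)) (.node (.leaf 73364840) (.leaf 0))) (.node (.node (.leaf 62306244) (.leaf 0)) (.node (.leaf 17287349) (.leaf 0))))) (.node (.node (.node (.node (.leaf 3853105) (.leaf 159956992)) (.node (.leaf 102989824) (.leaf 0))) (.node (.node (.leaf 62185472) (.leaf 0)) (.node (.leaf 136478720) (.leaf 0)))) (.node (.node (.node (.leaf 38879232) (.leaf 151429445)) (.node (.leaf 120872960) (.leaf 0))) (.node (.node (.leaf 83501056) (.leaf 0)) (.node (.leaf 45507567) (.leaf 0)))))) (.node (.node (.node (.node (.node (.leaf 7438336) (.leaf 84584053)) (.node (.leaf 98246656) (.leaf 0))) (.node (.node (.leaf 56336384) (.leaf 0)) (.node (.leaf 110164832) (.leaf 0)))) (.node (.node (.node (.leaf 32808960) (.leaf 52557992)) (.node (.leaf 116629504)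 (.leaf 0))) (.node (.node (.leaf 78258176) (.leaf 0)) (.node (.leaf 136176044) (.leaf 0))))) (.node (.node (.node (.node (.leaf 20430848) (.leaf 79526815)) (.node (.leaf 107782144) (.leaf 0))) (.node (.node (.leaf 60943162) (.leaf 0)) (.node (.leaf 140165120) (.leaf 0)))) (.node (.node (.node (.leaf 44851200) (.leaf 142323117)) (.node (.leaf 64482201) (.leaf 0))) (.node (.node (.leaf 88489984) (.leaf 0)) (.node (.leaf 77488813) (.leaf 0))))))) (.node (.node (.node (.node (.node (.node (.leaf 4153344) (.leaf 76964024)) (.node (.leaf 95903744) (.leaf 0))) (.node (.node (.leaf 38695964) (.leaf 0)) (.node (.leaf 93700250) (.leaf 0)))) (.node (.node (.node (.leaf 29696000) (.leaf 164880384)) (.node (.leaf 6704115) (.leaf 0))) (.node (.node (.leaf 75620352) (.leaf 0)) (.node (.leaf 99724139) (.leaf 0))))) (.node (.node (.node (.node (.leaf 17162240) (.leaf 31501173)) (.node (.leaf 105340928) (.leaf 0))) (.node (.node (.leaf 64888832) (.leaf 0)) (.node (.leaf 138240000) (.leaf 0)))) (.node (.node (.node (.leaf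 41861120) (.leaf 152668423)) (.node (.leaf 122978304) (.leaf 0))) (.node (.node (.leaf 33597836) (.leaf 0)) (.node (.leaf 122415960) (.leaf 0)))))) (.node (.node (.node (.node (.node (.leaf 10690560) (.leaf 154794896)) (.node (.leaf 100663296) (.leaf 0))) (.node (.node (.leaf 59293696) (.leaf 0)) (.node (.leaf 134701056) (.leaf 0)))) (.node (.node (.node (.leaf 35872768) (.leaf 163691028)) (.node (.leaf 62382152) (.leaf 0))) (.node (.node (.leaf 50800897) (.leaf 0)) (.node (.leaf 134962255) (.leaf 0))))) (.node (.node (.node (.node (.leaf 23478272) (.leaf 118433030)) (.node (.leaf 110067712) (.leaf 0))) (.node (.node (.leaf 70336512) (.leaf 0)) (.node (.leaf 18800640) (.leaf 0)))) (.node (.node (.node (.leaf 47800320) (.leaf 166890692)) (.node (.leaf 123934458) (.leaf 0))) (.node (.node (.leaf 90955776) (.leaf 0)) (.node (.leaf 154116096) (.leaf 0)))))))) (.node (.node (.node (.node (.node (.node (.node (.leaf 2498560) (.leaf 134760183)) (.node (.leaf 94691328) (.leaf 0))) (.node (.node (.leaf 52199424)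 (.leaf 0)) (.node (.leaf 12603951) (.leaf 0)))) (.node (.node (.node (.leaf 28139520) (.leaf 132123927)) (.node (.leaf 113336320) (.leaf 0))) (.node (.node (.leaf 18760417) (.leaf 0)) (.node (.leaf 144318464) (.leaf 0))))) (.node (.node (.node (.node (.leaf 15515648) (.leaf 23507436)) (.node (.leaf 104062976) (.leaf 0))) (.node (.node (.leaf 63569920) (.leaf 0)) (.node (.leaf 113870117) (.leaf 0)))) (.node (.node (.node (.leaf 40361984) (.leaf 141538475)) (.node (.leaf 121962496) (.leaf 0))) (.node (.node (.leaf 84770816) (.leaf 0)) (.node (.leaf 64261307) (.leaf 0)))))) (.node (.node (.node (.node (.node (.leaf 9068544) (.leaf 41615987)) (.node (.leaf 99467264) (.leaf 0))) (.node (.node (.leaf 57786368) (.leaf 0)) (.node (.leaf 133758976) (.leaf 0)))) (.node (.node (.node (.leaf 34349056) (.leaf 122808983)) (.node (.leaf 117743616) (.leaf 0))) (.node (.node (.leaf 79560704) (.leaf 0)) (.node (.leaf 147554304) (.leaf 0))))) (.node (.node (.node (.node (.leaf 21938176) (.leaf 162594816)) (.node (.leaf 108929024)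 (.leaf 0))) (.node (.node (.leaf 69066752) (.leaf 0)) (.node (.leaf 55160227) (.leaf 0)))) (.node (.node (.node (.leaf 46366720) (.leaf 95424962)) (.node (.leaf 124940136) (.leaf 0))) (.node (.node (.leaf 89767936) (.leaf 0)) (.node (.leaf 153354240) (.leaf 0))))))) (.node (.node (.node (.node (.node (.node (.leaf 5791744) (.leaf 157253632)) (.node (.leaf 97099776) (.leaf 0))) (.node (.node (.leaf 54951936) (.leaf 0)) (.node (.leaf 132046848) (.leaf 0)))) (.node (.node (.node (.leaf 31268864) (.leaf 119327930)) (.node (.leaf 115580928) (.leaf 0))) (.node (.node (.leaf 76906496) (.leaf 0)) (.node (.leaf 116213431) (.leaf 0))))) (.node (.node (.node (.node (.leaf 18808832) (.leaf 161546240)) (.node (.leaf 106594304) (.leaf 0))) (.node (.node (.leaf 66330624) (.leaf 0)) (.node (.leaf 139165696) (.leaf 0)))) (.node (.node (.node (.leaf 43327488) (.leaf 167591936)) (.node (.leaf 8769785) (.leaf 0))) (.node (.node (.leaf 87171072) (.leaf 0)) (.node (.leaf 124084990) (.leaf 0)))))) (.node (.node (.node (.node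 (.node (.leaf 12296192) (.leaf 45926044)) (.node (.leaf 3874816) (.leaf 0))) (.node (.node (.leaf 60776448) (.leaf 0)) (.node (.leaf 135626752) (.leaf 0)))) (.node (.node (.node (.leaf 37437440) (.leaf 159433787)) (.node (.leaf 119750656) (.leaf 0))) (.node (.node (.leaf 82182144) (.leaf 0)) (.node (.leaf 149151744) (.leaf 0))))) (.node (.node (.node (.node (.leaf 25083904) (.leaf 112710980)) (.node (.leaf 94737287) (.leaf 0))) (.node (.node (.leaf 71620527) (.leaf 0)) (.node (.leaf 134601218) (.leaf 0)))) (.node (.node (.node (.leaf 49315840) (.leaf 143828838)) (.node (.leaf 128114688) (.leaf 0))) (.node (.node (.leaf 92168192) (.leaf 0)) (.node (.leaf 110492229) (.leaf 0))))))))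

def e0T64 : NT := .node (.node (.node (.node (.node (.node (.node (.node (.leaf 835584) (.leaf 75900531)) (.node (.leaf 93503488) (.leaf 0))) (.node (.node (.leaf 50716672) (.leaf 0)) (.node (.leaf 129040384) (.leaf 0)))) (.node (.node (.node (.leaf 26615808) (.leaf 125563321)) (.node (.leaf 112238592) (.leaf 0))) (.node (.node (.leaf 72974336) (.leaf 0)) (.node (.leaf 143482880) (.leaf 0))))) (.node (.node (.node (.node (.leaf 13901824) (.leaf 159973376)) (.node (.leaf 47227937) (.leaf 0))) (.node (.node (.leaf 62193664) (.leaf 0)) (.node (.leaf 134077505) (.leaf 0)))) (.node (.node (.node (.leaf 4985010) (.leaf 129191617)) (.node (.leaf 120881152) (.leaf 0))) (.node (.node (.leaf 83509248) (.leaf 0)) (.node (.leaf 106543039) (.leaf 0)))))) (.node (.node (.node (.node (.node (.leaf 7446528) (.leaf 157154158)) (.node (.leaf 74120033) (.leaf 0))) (.node (.node (.leaf 56352768) (.leaf 0)) (.node (.leaf 132866048) (.leaf 0)))) (.node (.node (.node (.leaf 32825344) (.leaf 132679631)) (.node (.leaf 18786654)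 (.leaf 0))) (.node (.node (.leaf 78274560) (.leaf 0)) (.node (.leaf 145618094) (.leaf 0))))) (.node (.node (.node (.node (.leaf 20439040) (.leaf 13295616)) (.node (.leaf 107790336) (.leaf 0))) (.node (.node (.leaf 67739648) (.leaf 0)) (.node (.leaf 140173312) (.leaf 0)))) (.node (.node (.node (.leaf 1261568) (.leaf 46262540)) (.node (.leaf 125009920) (.leaf 0))) (.node (.node (.leaf 88506368) (.leaf 0)) (.node (.leaf 152715264) (.leaf 0))))))) (.node (.node (.node (.node (.node (.node (.leaf 4169728) (.leaf 53214325)) (.node (.leaf 95920128) (.leaf 0))) (.node (.node (.leaf 53600256) (.leaf 0)) (.node (.leaf 130973696) (.leaf 0)))) (.node (.node (.node (.leaf 29704192) (.leaf 19199411)) (.node (.leaf 114450432) (.leaf 0))) (.node (.node (.leaf 75636736) (.leaf 0)) (.node (.leaf 145104896) (.leaf 0))))) (.node (.node (.node (.node (.leaf 17170432) (.leaf 135582359)) (.node (.leaf 105357312) (.leaf 0))) (.node (.node (.leaf 64905216) (.leaf 0)) (.node (.leaf 138256384) (.leaf 0)))) (.node (.node (.node (.leaf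 41869312) (.leaf 104358792)) (.node (.leaf 122986496) (.leaf 0))) (.node (.node (.leaf 85925888) (.leaf 0)) (.node (.leaf 151347200) (.leaf 0)))))) (.node (.node (.node (.node (.node (.leaf 10706944) (.leaf 93235504)) (.node (.leaf 78212155) (.leaf 0))) (.node (.node (.leaf 59310080) (.leaf 0)) (.node (.leaf 134717440) (.leaf 0)))) (.node (.node (.node (.leaf 35889152) (.leaf 134784978)) (.node (.leaf 118792192) (.leaf 0))) (.node (.node (.leaf 80846848) (.leaf 0)) (.node (.leaf 148307968) (.leaf 0))))) (.node (.node (.node (.node (.leaf 23494656) (.leaf 163037184)) (.node (.leaf 110075904) (.leaf 0))) (.node (.node (.leaf 70352896) (.leaf 0)) (.node (.leaf 22885926) (.leaf 0)))) (.node (.node (.node (.leaf 47816704) (.leaf 123888810)) (.node (.leaf 127164416) (.leaf 0))) (.node (.node (.leaf 32989790) (.leaf 0)) (.node (.leaf 154124288) (.leaf 0)))))))) (.node (.node (.node (.node (.node (.node (.node (.leaf 2506752) (.leaf 82157568)) (.node (.leaf 94707712) (.leaf 0))) (.node (.node (.leaf 52215808)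 (.leaf 0)) (.node (.leaf 6152192) (.leaf 0)))) (.node (.node (.node (.leaf 28155904) (.leaf 164356096)) (.node (.leaf 113344512) (.leaf 0))) (.node (.node (.leaf 74285056) (.leaf 0)) (.node (.leaf 56232773) (.leaf 0))))) (.node (.node (.node (.node (.leaf 15523840) (.leaf 13203161)) (.node (.leaf 104071168) (.leaf 0))) (.node (.node (.leaf 63578112) (.leaf 0)) (.node (.leaf 117361468) (.leaf 0)))) (.node (.node (.node (.leaf 40370176) (.leaf 163125897)) (.node (.leaf 121970688) (.leaf 0))) (.node (.node (.leaf 84779008) (.leaf 0)) (.node (.leaf 150650880) (.leaf 0)))))) (.node (.node (.node (.node (.node (.leaf 9084928) (.leaf 50459417)) (.node (.leaf 91263439) (.leaf 0))) (.node (.node (.leaf 57802752) (.leaf 0)) (.node (.leaf 133775360) (.leaf 0)))) (.node (.node (.node (.leaf 34357248) (.leaf 26149762)) (.node (.leaf 11506037) (.leaf 0))) (.node (.node (.leaf 79577088) (.leaf 0)) (.node (.leaf 65246742) (.leaf 0))))) (.node (.node (.node (.node (.leaf 21954560) (.leaf 157128087)) (.node (.leaf 108937216)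 (.leaf 0))) (.node (.node (.leaf 69074944) (.leaf 0)) (.node (.leaf 24845301) (.leaf 0)))) (.node (.node (.node (.leaf 46374912) (.leaf 128520387)) (.node (.leaf 126132224) (.leaf 0))) (.node (.node (.leaf 89776128) (.leaf 0)) (.node (.leaf 19670383) (.leaf 0))))))) (.node (.node (.node (.node (.node (.node (.leaf 5799936) (.leaf 79693364)) (.node (.leaf 97107968) (.leaf 0))) (.node (.node (.leaf 54960128) (.leaf 0)) (.node (.leaf 132055040) (.leaf 0)))) (.node (.node (.node (.leaf 31285248) (.leaf 28421592)) (.node (.leaf 115589120) (.leaf 0))) (.node (.node (.leaf 76914688) (.leaf 0)) (.node (.leaf 145932288) (.leaf 0))))) (.node (.node (.node (.node (.leaf 18817024) (.leaf 32012309)) (.node (.leaf 106602496) (.leaf 0))) (.node (.node (.leaf 66338816) (.leaf 0)) (.node (.leaf 139173888) (.leaf 0)))) (.node (.node (.node (.leaf 43335680) (.leaf 27709784)) (.node (.leaf 121438949) (.leaf 0))) (.node (.node (.leaf 87179264) (.leaf 0)) (.node (.leaf 152084480) (.leaf 0)))))) (.node (.node (.node (.node (.node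 (.leaf 12304384) (.leaf 154974927)) (.node (.leaf 32345655) (.leaf 0))) (.node (.node (.leaf 60792832) (.leaf 0)) (.node (.leaf 135643136) (.leaf 0)))) (.node (.node (.node (.leaf 37453824) (.leaf 166739968)) (.node (.leaf 30579393) (.leaf 0))) (.node (.node (.leaf 82190336) (.leaf 0)) (.node (.leaf 128653076) (.leaf 0))))) (.node (.node (.node (.node (.leaf 25100288) (.leaf 40903429)) (.node (.leaf 108745673) (.leaf 0))) (.node (.node (.leaf 71639040) (.leaf 0)) (.node (.leaf 142737408) (.leaf 0)))) (.node (.node (.node (.leaf 49324032) (.leaf 168067072)) (.node (.leaf 128122880) (.leaf 0))) (.node (.node (.leaf 92176384) (.leaf 0)) (.node (.leaf 154763264) (.leaf 0))))))))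

def e0T65 : NT := .node (.node (.node (.node (.node (.node (.node (.node (.leaf 851968) (.leaf 155410432)) (.node (.leaf 93519872) (.leaf 0))) (.node (.node (.leaf 50733056) (.leaf 0)) (.node (.leaf 129048576) (.leaf 0)))) (.node (.node (.node (.leaf 26624000) (.leaf 53181448)) (.node (.leaf 112254976) (.leaf 0))) (.node (.node (.leaf 72990720) (.leaf 0)) (.node (.leaf 143491072) (.leaf 0))))) (.node (.node (.node (.node (.leaf 13918208) (.leaf 159981568)) (.node (.leaf 103006208) (.leaf 0))) (.node (.node (.leaf 62210048) (.leaf 0)) (.node (.leaf 136495104) (.leaf 0)))) (.node (.node (.node (.leaf 38887424) (.leaf 41877614)) (.node (.leaf 120889344) (.leaf 0))) (.node (.node (.leaf 17873200) (.leaf 0)) (.node (.leaf 138618252) (.leaf 0)))))) (.node (.node (.node (.node (.node (.leaf 7462912) (.leaf 120213297)) (.node (.leaf 98263040) (.leaf 0))) (.node (.node (.leaf 56360960) (.leaf 0)) (.node (.leaf 132882432) (.leaf 0)))) (.node (.node (.node (.leaf 32833536) (.leaf 40643229)) (.node (.leaf 116645888)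 (.leaf 0))) (.node (.node (.leaf 78290944) (.leaf 0)) (.node (.leaf 64295616) (.leaf 0))))) (.node (.node (.node (.node (.leaf 20455424) (.leaf 105707503)) (.node (.leaf 107798528) (.leaf 0))) (.node (.node (.leaf 67756032) (.leaf 0)) (.node (.leaf 140181504) (.leaf 0)))) (.node (.node (.node (.leaf 44867584) (.leaf 167414103)) (.node (.leaf 125026304) (.leaf 0))) (.node (.node (.leaf 88514560) (.leaf 0)) (.node (.leaf 122110401) (.leaf 0))))))) (.node (.node (.node (.node (.node (.node (.leaf 4177920) (.leaf 28507023)) (.node (.leaf 3489792) (.leaf 0))) (.node (.node (.leaf 31109708) (.leaf 0)) (.node (.leaf 130981888) (.leaf 0)))) (.node (.node (.node (.leaf 29720576) (.leaf 164888576)) (.node (.leaf 114458624) (.leaf 0))) (.node (.node (.leaf 75653120) (.leaf 0)) (.node (.leaf 145113088) (.leaf 0))))) (.node (.node (.node (.node (.leaf 17186816) (.leaf 68019594)) (.node (.leaf 58390490) (.leaf 0))) (.node (.node (.leaf 64913408) (.leaf 0)) (.node (.leaf 138264576) (.leaf 0)))) (.node (.node (.node (.leaf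 37630152) (.leaf 147317525)) (.node (.leaf 122994688) (.leaf 0))) (.node (.node (.leaf 85934080) (.leaf 0)) (.node (.leaf 52269907) (.leaf 0)))))) (.node (.node (.node (.node (.node (.leaf 10715136) (.leaf 91215031)) (.node (.leaf 100687872) (.leaf 0))) (.node (.node (.leaf 59326464) (.leaf 0)) (.node (.leaf 127853663) (.leaf 0)))) (.node (.node (.node (.leaf 35897344) (.leaf 144672311)) (.node (.leaf 118800384) (.leaf 0))) (.node (.node (.leaf 11084061) (.leaf 0)) (.node (.leaf 44583335) (.leaf 0))))) (.node (.node (.node (.node (.leaf 23511040) (.leaf 107259906)) (.node (.leaf 4423680) (.leaf 0))) (.node (.node (.leaf 9558301) (.leaf 0)) (.node (.leaf 141934592) (.leaf 0)))) (.node (.node (.node (.leaf 47833088) (.leaf 32863013)) (.node (.leaf 104435301) (.leaf 0))) (.node (.node (.leaf 90972160) (.leaf 0)) (.node (.leaf 147199816) (.leaf 0)))))))) (.node (.node (.node (.node (.node (.node (.node (.leaf 2523136) (.leaf 128718281)) (.node (.leaf 94715904) (.leaf 0))) (.node (.node (.leaf 52224000) (.leaf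 0)) (.node (.leaf 10864815) (.leaf 0)))) (.node (.node (.node (.leaf 28164096) (.leaf 95234845)) (.node (.leaf 113360896) (.leaf 0))) (.node (.node (.leaf 74301440) (.leaf 0)) (.node (.leaf 144326656) (.leaf 0))))) (.node (.node (.node (.node (.leaf 15540224) (.leaf 124834837)) (.node (.leaf 104087552) (.leaf 0))) (.node (.node (.leaf 63594496) (.leaf 0)) (.node (.leaf 35032401) (.leaf 0)))) (.node (.node (.node (.leaf 40378368) (.leaf 46721041)) (.node (.leaf 121978880) (.leaf 0))) (.node (.node (.leaf 52119416) (.leaf 0)) (.node (.leaf 146126526) (.leaf 0)))))) (.node (.node (.node (.node (.node (.leaf 9093120) (.leaf 38711366)) (.node (.leaf 78819815) (.leaf 0))) (.node (.node (.leaf 26755224) (.leaf 0)) (.node (.leaf 133783552) (.leaf 0)))) (.node (.node (.node (.leaf 34373632) (.leaf 49006368)) (.node (.leaf 35344918) (.leaf 0))) (.node (.node (.leaf 11126199) (.leaf 0)) (.node (.leaf 137132161) (.leaf 0))))) (.node (.node (.node (.node (.leaf 17588224) (.leaf 111177182)) (.node (.leaf 108945408)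 (.leaf 0))) (.node (.node (.leaf 69091328) (.leaf 0)) (.node (.leaf 86907804) (.leaf 0)))) (.node (.node (.node (.leaf 46391296) (.leaf 167903232)) (.node (.leaf 126148608) (.leaf 0))) (.node (.node (.leaf 89792512) (.leaf 0)) (.node (.leaf 117463837) (.leaf 0))))))) (.node (.node (.node (.node (.node (.node (.leaf 5816320) (.leaf 70230027)) (.node (.leaf 97124352) (.leaf 0))) (.node (.node (.leaf 54968320) (.leaf 0)) (.node (.leaf 132063232) (.leaf 0)))) (.node (.node (.node (.leaf 31293440) (.leaf 20696062)) (.node (.leaf 54717761) (.leaf 0))) (.node (.node (.leaf 76931072) (.leaf 0)) (.node (.leaf 145940480) (.leaf 0))))) (.node (.node (.node (.node (.leaf 18833408) (.leaf 126018666)) (.node (.leaf 28114944) (.leaf 0))) (.node (.node (.leaf 66355200) (.leaf 0)) (.node (.leaf 80506872) (.leaf 0)))) (.node (.node (.node (.leaf 43352064) (.leaf 144695474)) (.node (.leaf 123977728) (.leaf 0))) (.node (.node (.leaf 87195648) (.leaf 0)) (.node (.leaf 140531089) (.leaf 0)))))) (.node (.node (.node (.node (.node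 (.leaf 12320768) (.leaf 159498240)) (.node (.leaf 59024326) (.leaf 0))) (.node (.node (.leaf 60801024) (.leaf 0)) (.node (.leaf 69927147) (.leaf 0)))) (.node (.node (.node (.leaf 37470208) (.leaf 166756352)) (.node (.leaf 119767040) (.leaf 0))) (.node (.node (.leaf 50178135) (.leaf 0)) (.node (.leaf 30386465) (.leaf 0))))) (.node (.node (.node (.node (.leaf 25108480) (.leaf 133031198)) (.node (.leaf 107906498) (.leaf 0))) (.node (.node (.leaf 42424678) (.leaf 0)) (.node (.leaf 142753792) (.leaf 0)))) (.node (.node (.node (.leaf 49340416) (.leaf 129238840)) (.node (.leaf 81902495) (.leaf 0))) (.node (.node (.leaf 90163192) (.leaf 0)) (.node (.leaf 154542080) (.leaf 0))))))))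

def e0T66 : NT := .node (.node (.node (.node (.node (.node (.node (.node (.leaf 860160) (.leaf 127161971)) (.node (.leaf 93536256) (.leaf 0))) (.node (.node (.leaf 1466368) (.leaf 0)) (.node (.leaf 32682272) (.leaf 0)))) (.node (.node (.node (.leaf 26632192) (.leaf 163913728)) (.node (.leaf 112271360) (.leaf 0))) (.node (.node (.leaf 22750405) (.leaf 0)) (.node (.leaf 107735499) (.leaf 0))))) (.node (.node (.node (.node (.leaf 13926400) (.leaf 155379670)) (.node (.leaf 103014400) (.leaf 0))) (.node (.node (.leaf 57111846) (.leaf 0)) (.node (.leaf 136503296) (.leaf 0)))) (.node (.node (.node (.leaf 28243939) (.leaf 40060764)) (.node (.leaf 74932556) (.leaf 0))) (.node (.node (.leaf 83525632) (.leaf 0)) (.node (.leaf 149897216) (.leaf 0)))))) (.node (.node (.node (.node (.node (.leaf 7479296) (.leaf 78936705)) (.node (.leaf 98271232) (.leaf 0))) (.node (.node (.leaf 56377344) (.leaf 0)) (.node (.leaf 132890624) (.leaf 0)))) (.node (.node (.node (.leaf 32849920) (.leaf 165609472)) (.node (.leaf 116654080)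 (.leaf 0))) (.node (.node (.leaf 78299136) (.leaf 0)) (.node (.leaf 126620323) (.leaf 0))))) (.node (.node (.node (.node (.leaf 20463616) (.leaf 156087487)) (.node (.leaf 107806720) (.leaf 0))) (.node (.node (.leaf 67772416) (.leaf 0)) (.node (.leaf 140189696) (.leaf 0)))) (.node (.node (.node (.leaf 44883968) (.leaf 84703825)) (.node (.leaf 111480238) (.leaf 0))) (.node (.node (.leaf 58970455) (.leaf 0)) (.node (.leaf 77945376) (.leaf 0))))))) (.node (.node (.node (.node (.node (.node (.leaf 3663327) (.leaf 156704768)) (.node (.leaf 95936512) (.leaf 0))) (.node (.node (.leaf 53616640) (.leaf 0)) (.node (.leaf 130998272) (.leaf 0)))) (.node (.node (.node (.leaf 29728768) (.leaf 102134338)) (.node (.leaf 114475008) (.leaf 0))) (.node (.node (.leaf 75661312) (.leaf 0)) (.node (.leaf 145121280) (.leaf 0))))) (.node (.node (.node (.node (.leaf 17195008) (.leaf 161112064)) (.node (.leaf 105373696) (.leaf 0))) (.node (.node (.leaf 64929792) (.leaf 0)) (.node (.leaf 109813939) (.leaf 0)))) (.node (.node (.node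 (.leaf 41885696) (.leaf 128406784)) (.node (.leaf 89859985) (.leaf 0))) (.node (.node (.leaf 85950464) (.leaf 0)) (.node (.leaf 151363584) (.leaf 0)))))) (.node (.node (.node (.node (.node (.leaf 10731520) (.leaf 139585172)) (.node (.leaf 100696064) (.leaf 0))) (.node (.node (.leaf 59342848) (.leaf 0)) (.node (.leaf 134725632) (.leaf 0)))) (.node (.node (.node (.leaf 35913728) (.leaf 166354944)) (.node (.leaf 118808576) (.leaf 0))) (.node (.node (.leaf 80863232) (.leaf 0)) (.node (.leaf 148316160) (.leaf 0))))) (.node (.node (.node (.node (.leaf 23519232) (.leaf 14278932)) (.node (.leaf 87871180) (.leaf 0))) (.node (.node (.leaf 70369280) (.leaf 0)) (.node (.leaf 141942784) (.leaf 0)))) (.node (.node (.node (.leaf 47849472) (.leaf 125065978)) (.node (.leaf 92789810) (.leaf 0))) (.node (.node (.leaf 90980352) (.leaf 0)) (.node (.leaf 154140672) (.leaf 0)))))))) (.node (.node (.node (.node (.node (.node (.node (.leaf 2539520) (.leaf 135890017)) (.node (.leaf 56506523) (.leaf 0))) (.node (.node (.leaf 40393301)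 (.leaf 0)) (.node (.leaf 51989286) (.leaf 0)))) (.node (.node (.node (.leaf 28180480) (.leaf 142617705)) (.node (.leaf 4644864) (.leaf 0))) (.node (.node (.leaf 74317824) (.leaf 0)) (.node (.leaf 144334848) (.leaf 0))))) (.node (.node (.node (.node (.leaf 15556608) (.leaf 139134248)) (.node (.leaf 104103936) (.leaf 0))) (.node (.node (.leaf 1933312) (.leaf 0)) (.node (.leaf 137355264) (.leaf 0)))) (.node (.node (.node (.leaf 40394752) (.leaf 149412738)) (.node (.leaf 29574434) (.leaf 0))) (.node (.node (.leaf 84795392) (.leaf 0)) (.node (.leaf 150659072) (.leaf 0)))))) (.node (.node (.node (.node (.node (.leaf 9109504) (.leaf 122803046)) (.node (.leaf 99483648) (.leaf 0))) (.node (.node (.leaf 57819136) (.leaf 0)) (.node (.leaf 133799936) (.leaf 0)))) (.node (.node (.node (.leaf 34381824) (.leaf 165994496)) (.node (.leaf 117768192) (.leaf 0))) (.node (.node (.leaf 62162338) (.leaf 0)) (.node (.leaf 16195644) (.leaf 0))))) (.node (.node (.node (.node (.leaf 21970944) (.leaf 16543529)) (.node (.leaf 108961792)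 (.leaf 0))) (.node (.node (.leaf 69107712) (.leaf 0)) (.node (.leaf 141033472) (.leaf 0)))) (.node (.node (.node (.leaf 4321458) (.leaf 167911424)) (.node (.leaf 126164992) (.leaf 0))) (.node (.node (.leaf 89800704) (.leaf 0)) (.node (.leaf 153378816) (.leaf 0))))))) (.node (.node (.node (.node (.node (.node (.leaf 5824512) (.leaf 109699303)) (.node (.leaf 97132544) (.leaf 0))) (.node (.node (.leaf 54984704) (.leaf 0)) (.node (.leaf 132071424) (.leaf 0)))) (.node (.node (.node (.leaf 31309824) (.leaf 136391654)) (.node (.leaf 115605504) (.leaf 0))) (.node (.node (.leaf 76939264) (.leaf 0)) (.node (.leaf 112630532) (.leaf 0))))) (.node (.node (.node (.node (.leaf 18849792) (.leaf 161554432)) (.node (.leaf 106618880) (.leaf 0))) (.node (.node (.leaf 66363392) (.leaf 0)) (.node (.leaf 139182080) (.leaf 0)))) (.node (.node (.node (.leaf 43368448) (.leaf 130535929)) (.node (.leaf 123994112) (.leaf 0))) (.node (.node (.leaf 87212032) (.leaf 0)) (.node (.leaf 152100864) (.leaf 0)))))) (.node (.node (.node (.node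 (.node (.leaf 12337152) (.leaf 159489015)) (.node (.leaf 101900288) (.leaf 0))) (.node (.node (.leaf 60817408) (.leaf 0)) (.node (.leaf 64026820) (.leaf 0)))) (.node (.node (.node (.leaf 37478400) (.leaf 157001642)) (.node (.leaf 119775232) (.leaf 0))) (.node (.node (.leaf 82206720) (.leaf 0)) (.node (.leaf 12385427) (.leaf 0))))) (.node (.node (.node (.node (.leaf 12464391) (.leaf 163414016)) (.node (.leaf 111181824) (.leaf 0))) (.node (.node (.leaf 71655424) (.leaf 0)) (.node (.leaf 90851087) (.leaf 0)))) (.node (.node (.node (.leaf 49348608) (.leaf 165781566)) (.node (.leaf 110301379) (.leaf 0))) (.node (.node (.leaf 92192768) (.leaf 0)) (.node (.leaf 37785575) (.leaf 0))))))))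

def e0T67 : NT := .node (.node (.node (.node (.node (.node (.node (.node (.leaf 876544) (.leaf 74917519)) (.node (.leaf 93544448) (.leaf 0))) (.node (.node (.leaf 50749440) (.leaf 0)) (.node (.leaf 129064960) (.leaf 0)))) (.node (.node (.node (.leaf 26648576) (.leaf 51020528)) (.node (.leaf 107897935) (.leaf 0))) (.node (.node (.leaf 73007104) (.leaf 0)) (.node (.leaf 135371183) (.leaf 0))))) (.node (.node (.node (.node (.leaf 13942784) (.leaf 160006144)) (.node (.leaf 103030784) (.leaf 0))) (.node (.node (.leaf 2728531) (.leaf 0)) (.node (.leaf 73737435) (.leaf 0)))) (.node (.node (.node (.leaf 38912000) (.leaf 148826130)) (.node (.leaf 95647959) (.leaf 0))) (.node (.node (.leaf 83542016) (.leaf 0)) (.node (.leaf 148968010) (.leaf 0)))))) (.node (.node (.node (.node (.node (.leaf 7487488) (.leaf 147960055)) (.node (.leaf 98287616) (.leaf 0))) (.node (.node (.leaf 56385536) (.leaf 0)) (.node (.leaf 115693016) (.leaf 0)))) (.node (.node (.node (.leaf 32866304) (.leaf 76893964)) (.node (.leaf 116670464)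 (.leaf 0))) (.node (.node (.leaf 45793754) (.leaf 0)) (.node (.leaf 146800640) (.leaf 0))))) (.node (.node (.node (.node (.leaf 20480000) (.leaf 71964413)) (.node (.leaf 20821688) (.leaf 0))) (.node (.node (.leaf 67780608) (.leaf 0)) (.node (.leaf 140197888) (.leaf 0)))) (.node (.node (.node (.leaf 44900352) (.leaf 54822664)) (.node (.leaf 125042688) (.leaf 0))) (.node (.node (.leaf 71885861) (.leaf 0)) (.node (.leaf 152731648) (.leaf 0))))))) (.node (.node (.node (.node (.node (.node (.leaf 4194304) (.leaf 156712960)) (.node (.leaf 95952896) (.leaf 0))) (.node (.node (.leaf 53633024) (.leaf 0)) (.node (.leaf 6266880) (.leaf 0)))) (.node (.node (.node (.leaf 29745152) (.leaf 145959622)) (.node (.leaf 114483200) (.leaf 0))) (.node (.node (.leaf 28707472) (.leaf 0)) (.node (.leaf 117085965) (.leaf 0))))) (.node (.node (.node (.node (.leaf 17211392) (.leaf 139424272)) (.node (.leaf 105381888) (.leaf 0))) (.node (.node (.leaf 64937984) (.leaf 0)) (.node (.leaf 115273656) (.leaf 0)))) (.node (.node (.node (.leaf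 41893888) (.leaf 141919928)) (.node (.leaf 123011072) (.leaf 0))) (.node (.node (.leaf 56964222) (.leaf 0)) (.node (.leaf 151371776) (.leaf 0)))))) (.node (.node (.node (.node (.node (.leaf 10739712) (.leaf 75534738)) (.node (.leaf 100704256) (.leaf 0))) (.node (.node (.leaf 59351040) (.leaf 0)) (.node (.leaf 74624557) (.leaf 0)))) (.node (.node (.node (.leaf 35930112) (.leaf 124201594)) (.node (.leaf 46809462) (.leaf 0))) (.node (.node (.leaf 80871424) (.leaf 0)) (.node (.leaf 148332544) (.leaf 0))))) (.node (.node (.node (.node (.leaf 23535616) (.leaf 163045376)) (.node (.leaf 110100480) (.leaf 0))) (.node (.node (.leaf 39098206) (.leaf 0)) (.node (.leaf 135031423) (.leaf 0)))) (.node (.node (.node (.leaf 47865856) (.leaf 139551912)) (.node (.leaf 127188992) (.leaf 0))) (.node (.node (.leaf 90996736) (.leaf 0)) (.node (.leaf 100658739) (.leaf 0)))))))) (.node (.node (.node (.node (.node (.node (.node (.leaf 2547712) (.leaf 150370687)) (.node (.leaf 94740480) (.leaf 0))) (.node (.node (.leaf 52240384)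 (.leaf 0)) (.node (.leaf 105916971) (.leaf 0)))) (.node (.node (.node (.leaf 28188672) (.leaf 75694602)) (.node (.leaf 81405922) (.leaf 0))) (.node (.node (.leaf 74326016) (.leaf 0)) (.node (.leaf 69547033) (.leaf 0))))) (.node (.node (.node (.node (.leaf 15564800) (.leaf 147819253)) (.node (.leaf 104112128) (.leaf 0))) (.node (.node (.leaf 63610880) (.leaf 0)) (.node (.leaf 137371648) (.leaf 0)))) (.node (.node (.node (.leaf 40402944) (.leaf 143448502)) (.node (.leaf 121995264) (.leaf 0))) (.node (.node (.leaf 84811776) (.leaf 0)) (.node (.leaf 150667264) (.leaf 0)))))) (.node (.node (.node (.node (.node (.leaf 9117696) (.leaf 115844987)) (.node (.leaf 99491840) (.leaf 0))) (.node (.node (.leaf 57827328) (.leaf 0)) (.node (.leaf 133808128) (.leaf 0)))) (.node (.node (.node (.leaf 34398208) (.leaf 160821512)) (.node (.leaf 117784576) (.leaf 0))) (.node (.node (.leaf 79601664) (.leaf 0)) (.node (.leaf 71217121) (.leaf 0))))) (.node (.node (.node (.node (.leaf 21979136) (.leaf 98395601)) (.node (.leaf 71310466)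 (.leaf 0))) (.node (.node (.leaf 69115904) (.leaf 0)) (.node (.leaf 104032464) (.leaf 0)))) (.node (.node (.node (.leaf 46407680) (.leaf 100062776)) (.node (.leaf 45734022) (.leaf 0))) (.node (.node (.leaf 89808896) (.leaf 0)) (.node (.leaf 153387008) (.leaf 0))))))) (.node (.node (.node (.node (.node (.node (.leaf 5840896) (.leaf 157261824)) (.node (.leaf 97148928) (.leaf 0))) (.node (.node (.leaf 55001088) (.leaf 0)) (.node (.leaf 132087808) (.leaf 0)))) (.node (.node (.node (.leaf 31326208) (.leaf 107064784)) (.node (.leaf 105021579) (.leaf 0))) (.node (.node (.leaf 76955648) (.leaf 0)) (.node (.leaf 145948672) (.leaf 0))))) (.node (.node (.node (.node (.leaf 18857984) (.leaf 161562624)) (.node (.leaf 106627072) (.leaf 0))) (.node (.node (.leaf 66379776) (.leaf 0)) (.node (.leaf 50259688) (.leaf 0)))) (.node (.node (.node (.leaf 23355675) (.leaf 92659790)) (.node (.leaf 124002304) (.leaf 0))) (.node (.node (.leaf 21254209) (.leaf 0)) (.node (.leaf 152109056) (.leaf 0)))))) (.node (.node (.node (.node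 (.node (.leaf 12345344) (.leaf 143467708)) (.node (.leaf 101765658) (.leaf 0))) (.node (.node (.leaf 60833792) (.leaf 0)) (.node (.leaf 85241918) (.leaf 0)))) (.node (.node (.node (.leaf 37494784) (.leaf 18325504)) (.node (.leaf 85833700) (.leaf 0))) (.node (.node (.leaf 82214912) (.leaf 0)) (.node (.leaf 112424086) (.leaf 0))))) (.node (.node (.node (.node (.leaf 1655101) (.leaf 163422208)) (.node (.leaf 111190016) (.leaf 0))) (.node (.node (.leaf 71663616) (.leaf 0)) (.node (.leaf 142761984) (.leaf 0)))) (.node (.node (.node (.leaf 49364992) (.leaf 160534333)) (.node (.leaf 125006454) (.leaf 0))) (.node (.node (.leaf 92209152) (.leaf 0)) (.node (.leaf 31786632) (.leaf 0))))))))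

def e0T68 : NT := .node (.node (.node (.node (.node (.node (.node (.node (.leaf 892928) (.leaf 155426816)) (.node (.leaf 93560832) (.leaf 0))) (.node (.node (.leaf 50757632) (.leaf 0)) (.node (.leaf 42027054) (.leaf 0)))) (.node (.node (.node (.leaf 26656768) (.leaf 112912292)) (.node (.leaf 112279552) (.leaf 0))) (.node (.node (.leaf 39600527) (.leaf 0)) (.node (.leaf 143507456) (.leaf 0))))) (.node (.node (.node (.node (.leaf 13959168) (.leaf 160014336)) (.node (.leaf 30909781) (.leaf 0))) (.node (.node (.leaf 62226432) (.leaf 0)) (.node (.leaf 136511488) (.leaf 0)))) (.node (.node (.node (.leaf 38920192) (.leaf 19751948)) (.node (.leaf 98887534) (.leaf 0))) (.node (.node (.leaf 83550208) (.leaf 0)) (.node (.leaf 114550645) (.leaf 0)))))) (.node (.node (.node (.node (.node (.leaf 7503872) (.leaf 151889483)) (.node (.leaf 98304000) (.leaf 0))) (.node (.node (.leaf 56401920) (.leaf 0)) (.node (.leaf 38454094) (.leaf 0)))) (.node (.node (.node (.leaf 32874496) (.leaf 156648099)) (.node (.leaf 116678656)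 (.leaf 0))) (.node (.node (.leaf 74344336) (.leaf 0)) (.node (.leaf 146808832) (.leaf 0))))) (.node (.node (.node (.node (.leaf 20496384) (.leaf 141028376)) (.node (.leaf 72212687) (.leaf 0))) (.node (.node (.leaf 67796992) (.leaf 0)) (.node (.leaf 46389244) (.leaf 0)))) (.node (.node (.node (.leaf 44908544) (.leaf 166195813)) (.node (.leaf 125050880) (.leaf 0))) (.node (.node (.leaf 88539136) (.leaf 0)) (.node (.leaf 131056260) (.leaf 0))))))) (.node (.node (.node (.node (.node (.node (.leaf 4210688) (.leaf 156729344)) (.node (.leaf 95961088) (.leaf 0))) (.node (.node (.leaf 53649408) (.leaf 0)) (.node (.leaf 131014656) (.leaf 0)))) (.node (.node (.node (.leaf 29753344) (.leaf 162338643)) (.node (.leaf 114499584) (.leaf 0))) (.node (.node (.leaf 2465792) (.leaf 0)) (.node (.leaf 115208714) (.leaf 0))))) (.node (.node (.node (.node (.leaf 17227776) (.leaf 90683982)) (.node (.leaf 105390080) (.leaf 0))) (.node (.node (.leaf 64954368) (.leaf 0)) (.node (.leaf 117162904) (.leaf 0)))) (.node (.node (.node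 (.leaf 41910272) (.leaf 165107950)) (.node (.leaf 73333095) (.leaf 0))) (.node (.node (.leaf 85966848) (.leaf 0)) (.node (.leaf 104082077) (.leaf 0)))))) (.node (.node (.node (.node (.node (.leaf 10756096) (.leaf 158941184)) (.node (.leaf 100720640) (.leaf 0))) (.node (.node (.leaf 10415786) (.leaf 0)) (.node (.leaf 52611704) (.leaf 0)))) (.node (.node (.node (.leaf 35938304) (.leaf 108286589)) (.node (.leaf 118833152) (.leaf 0))) (.node (.node (.leaf 80879616) (.leaf 0)) (.node (.leaf 148340736) (.leaf 0))))) (.node (.node (.node (.node (.leaf 23543808) (.leaf 163053568)) (.node (.leaf 84891050) (.leaf 0))) (.node (.node (.leaf 70385664) (.leaf 0)) (.node (.leaf 114443663) (.leaf 0)))) (.node (.node (.node (.leaf 47874048) (.leaf 91142747)) (.node (.leaf 127197184) (.leaf 0))) (.node (.node (.leaf 91013120) (.leaf 0)) (.node (.leaf 130889039) (.leaf 0)))))))) (.node (.node (.node (.node (.node (.node (.node (.leaf 2564096) (.leaf 156123136)) (.node (.leaf 94748672) (.leaf 0))) (.node (.node (.leaf 52256768)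 (.leaf 0)) (.node (.leaf 69854783) (.leaf 0)))) (.node (.node (.node (.leaf 28196864) (.leaf 164372480)) (.node (.leaf 113385472) (.leaf 0))) (.node (.node (.leaf 33649298) (.leaf 0)) (.node (.leaf 144351232) (.leaf 0))))) (.node (.node (.node (.node (.leaf 15581184) (.leaf 93171757)) (.node (.leaf 54765114) (.leaf 0))) (.node (.node (.leaf 63619072) (.leaf 0)) (.node (.leaf 131132673) (.leaf 0)))) (.node (.node (.node (.leaf 40419328) (.leaf 150952832)) (.node (.leaf 122011648) (.leaf 0))) (.node (.node (.leaf 84819968) (.leaf 0)) (.node (.leaf 130950520) (.leaf 0)))))) (.node (.node (.node (.node (.node (.leaf 9134080) (.leaf 153204125)) (.node (.leaf 99500032) (.leaf 0))) (.node (.node (.leaf 57843712) (.leaf 0)) (.node (.leaf 133816320) (.leaf 0)))) (.node (.node (.node (.leaf 34414592) (.leaf 157300202)) (.node (.leaf 117792768) (.leaf 0))) (.node (.node (.leaf 79618048) (.leaf 0)) (.node (.leaf 117927752) (.leaf 0))))) (.node (.node (.node (.node (.leaf 21995520) (.leaf 162619392)) (.node (.leaf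 108978176) (.leaf 0))) (.node (.node (.leaf 69124096) (.leaf 0)) (.node (.leaf 141049856) (.leaf 0)))) (.node (.node (.node (.leaf 46424064) (.leaf 141412568)) (.node (.leaf 126173184) (.leaf 0))) (.node (.node (.leaf 62205631) (.leaf 0)) (.node (.leaf 153403392) (.leaf 0))))))) (.node (.node (.node (.node (.node (.node (.leaf 5857280) (.leaf 157270016)) (.node (.leaf 17853402) (.leaf 0))) (.node (.node (.leaf 55017472) (.leaf 0)) (.node (.leaf 22610082) (.leaf 0)))) (.node (.node (.node (.leaf 31334400) (.leaf 106076054)) (.node (.leaf 115630080) (.leaf 0))) (.node (.node (.leaf 76972032) (.leaf 0)) (.node (.leaf 134574627) (.leaf 0))))) (.node (.node (.node (.node (.leaf 18874368) (.leaf 73830059)) (.node (.leaf 4186112) (.leaf 0))) (.node (.node (.leaf 66387968) (.leaf 0)) (.node (.leaf 89052664) (.leaf 0)))) (.node (.node (.node (.leaf 43384832) (.leaf 103937339)) (.node (.leaf 123101184) (.leaf 0))) (.node (.node (.leaf 87228416) (.leaf 0)) (.node (.leaf 137214417) (.leaf 0)))))) (.node (.node (.node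 (.node (.node (.leaf 12361728) (.leaf 116609021)) (.node (.leaf 101916672) (.leaf 0))) (.node (.node (.leaf 60841984) (.leaf 0)) (.node (.leaf 116336146) (.leaf 0)))) (.node (.node (.node (.leaf 37502976) (.leaf 88803172)) (.node (.leaf 119799808) (.leaf 0))) (.node (.node (.leaf 82231296) (.leaf 0)) (.node (.leaf 31370359) (.leaf 0))))) (.node (.node (.node (.node (.leaf 25133056) (.leaf 41802538)) (.node (.leaf 55883831) (.leaf 0))) (.node (.node (.leaf 71671808) (.leaf 0)) (.node (.leaf 142770176) (.leaf 0)))) (.node (.node (.node (.leaf 45109272) (.leaf 164272334)) (.node (.leaf 80489623) (.leaf 0))) (.node (.node (.leaf 90551557) (.leaf 0)) (.node (.leaf 113150550) (.leaf 0))))))))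

def e0T69 : NT := .node (.node (.node (.node (.node (.node (.node (.node (.leaf 901120) (.leaf 155435008)) (.node (.leaf 73447068) (.leaf 0))) (.node (.node (.leaf 50774016) (.leaf 0)) (.node (.leaf 129081344) (.leaf 0)))) (.node (.node (.node (.leaf 26664960) (.leaf 163921920)) (.node (.leaf 112287744) (.leaf 0))) (.node (.node (.leaf 73015296) (.leaf 0)) (.node (.leaf 143515648) (.leaf 0))))) (.node (.node (.node (.node (.leaf 13967360) (.leaf 90392279)) (.node (.leaf 101741159) (.leaf 0))) (.node (.node (.leaf 62234624) (.leaf 0)) (.node (.leaf 98284232) (.leaf 0)))) (.node (.node (.node (.leaf 38936576) (.leaf 141960328)) (.node (.leaf 120913920) (.leaf 0))) (.node (.node (.leaf 83558400) (.leaf 0)) (.node (.leaf 109745788) (.leaf 0)))))) (.node (.node (.node (.node (.node (.leaf 7512064) (.leaf 157843456)) (.node (.leaf 98312192) (.leaf 0))) (.node (.node (.leaf 56410112) (.leaf 0)) (.node (.leaf 132915200) (.leaf 0)))) (.node (.node (.node (.leaf 32890880) (.leaf 163485264)) (.node (.leaf 116686848)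 (.leaf 0))) (.node (.node (.leaf 67936594) (.leaf 0)) (.node (.leaf 146817024) (.leaf 0))))) (.node (.node (.node (.node (.leaf 20504576) (.leaf 124216337)) (.node (.leaf 107823104) (.leaf 0))) (.node (.node (.leaf 67813376) (.leaf 0)) (.node (.leaf 140214272) (.leaf 0)))) (.node (.node (.node (.leaf 28077931) (.leaf 66372874)) (.node (.leaf 125067264) (.leaf 0))) (.node (.node (.leaf 88555520) (.leaf 0)) (.node (.leaf 152739840) (.leaf 0))))))) (.node (.node (.node (.node (.node (.node (.leaf 4227072) (.leaf 78008885)) (.node (.leaf 95977472) (.leaf 0))) (.node (.node (.leaf 4120576) (.leaf 0)) (.node (.leaf 131031040) (.leaf 0)))) (.node (.node (.node (.leaf 29769728) (.leaf 164122004)) (.node (.leaf 54850434) (.leaf 0))) (.node (.node (.leaf 75685888) (.leaf 0)) (.node (.leaf 130582450) (.leaf 0))))) (.node (.node (.node (.node (.leaf 17235968) (.leaf 154281441)) (.node (.leaf 33835546) (.leaf 0))) (.node (.node (.leaf 64970752) (.leaf 0)) (.node (.leaf 41854821) (.leaf 0)))) (.node (.node (.node (.leaf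 41926656) (.leaf 166907329)) (.node (.leaf 43153365) (.leaf 0))) (.node (.node (.leaf 85983232) (.leaf 0)) (.node (.leaf 151379968) (.leaf 0)))))) (.node (.node (.node (.node (.node (.leaf 10772480) (.leaf 147782620)) (.node (.leaf 100728832) (.leaf 0))) (.node (.node (.leaf 59375616) (.leaf 0)) (.node (.leaf 125039332) (.leaf 0)))) (.node (.node (.node (.leaf 35954688) (.leaf 158893645)) (.node (.leaf 118841344) (.leaf 0))) (.node (.node (.leaf 80896000) (.leaf 0)) (.node (.leaf 148348928) (.leaf 0))))) (.node (.node (.node (.node (.leaf 23560192) (.leaf 148072518)) (.node (.leaf 110116864) (.leaf 0))) (.node (.node (.leaf 70393856) (.leaf 0)) (.node (.leaf 141967360) (.leaf 0)))) (.node (.node (.node (.leaf 47890432) (.leaf 162989465)) (.node (.leaf 127205376) (.leaf 0))) (.node (.node (.leaf 91021312) (.leaf 0)) (.node (.leaf 143712956) (.leaf 0)))))))) (.node (.node (.node (.node (.node (.node (.node (.leaf 2580480) (.leaf 11018240)) (.node (.leaf 20747971) (.leaf 0))) (.node (.node (.leaf 52273152)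 (.leaf 0)) (.node (.leaf 127993836) (.leaf 0)))) (.node (.node (.node (.leaf 28213248) (.leaf 147303685)) (.node (.leaf 113393664) (.leaf 0))) (.node (.node (.leaf 54513745) (.leaf 0)) (.node (.leaf 144359424) (.leaf 0))))) (.node (.node (.node (.node (.leaf 15597568) (.leaf 149437081)) (.node (.leaf 104128512) (.leaf 0))) (.node (.node (.leaf 63635456) (.leaf 0)) (.node (.leaf 58428753) (.leaf 0)))) (.node (.node (.node (.leaf 40435712) (.leaf 21994379)) (.node (.leaf 122019840) (.leaf 0))) (.node (.node (.leaf 31912996) (.leaf 0)) (.node (.leaf 130716065) (.leaf 0)))))) (.node (.node (.node (.node (.node (.leaf 9150464) (.leaf 158326784)) (.node (.leaf 99508224) (.leaf 0))) (.node (.node (.leaf 57860096) (.leaf 0)) (.node (.leaf 133824512) (.leaf 0)))) (.node (.node (.node (.leaf 34422784) (.leaf 18304724)) (.node (.leaf 86833715) (.leaf 0))) (.node (.node (.leaf 79634432) (.leaf 0)) (.node (.leaf 57081005) (.leaf 0))))) (.node (.node (.node (.node (.leaf 22011904) (.leaf 162627584)) (.node (.leaf 108986368)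 (.leaf 0))) (.node (.node (.leaf 46511290) (.leaf 0)) (.node (.leaf 139737389) (.leaf 0)))) (.node (.node (.node (.leaf 46432256) (.leaf 63898534)) (.node (.leaf 126181376) (.leaf 0))) (.node (.node (.leaf 89817088) (.leaf 0)) (.node (.leaf 90344286) (.leaf 0))))))) (.node (.node (.node (.node (.node (.node (.leaf 5865472) (.leaf 52335142)) (.node (.leaf 97165312) (.leaf 0))) (.node (.node (.leaf 55025664) (.leaf 0)) (.node (.leaf 123806154) (.leaf 0)))) (.node (.node (.node (.leaf 31350784) (.leaf 147896258)) (.node (.leaf 115646464) (.leaf 0))) (.node (.node (.leaf 76980224) (.leaf 0)) (.node (.leaf 81209934) (.leaf 0))))) (.node (.node (.node (.node (.leaf 18882560) (.leaf 124695185)) (.node (.leaf 12406035) (.leaf 0))) (.node (.node (.leaf 66396160) (.leaf 0)) (.node (.leaf 70684124) (.leaf 0)))) (.node (.node (.node (.leaf 43401216) (.leaf 153575433)) (.node (.leaf 106887098) (.leaf 0))) (.node (.node (.leaf 87236608) (.leaf 0)) (.node (.leaf 46945985) (.leaf 0)))))) (.node (.node (.node (.node (.node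 (.leaf 12369920) (.leaf 31264028)) (.node (.leaf 101924864) (.leaf 0))) (.node (.node (.leaf 60858368) (.leaf 0)) (.node (.leaf 135675904) (.leaf 0)))) (.node (.node (.node (.leaf 37519360) (.leaf 149595913)) (.node (.leaf 119808000) (.leaf 0))) (.node (.node (.leaf 82239488) (.leaf 0)) (.node (.leaf 39163282) (.leaf 0))))) (.node (.node (.node (.node (.leaf 25141248) (.leaf 70915912)) (.node (.leaf 111198208) (.leaf 0))) (.node (.node (.leaf 60448768) (.leaf 0)) (.node (.leaf 142778368) (.leaf 0)))) (.node (.node (.node (.leaf 43036421) (.leaf 31150011)) (.node (.leaf 128139264) (.leaf 0))) (.node (.node (.leaf 92225536) (.leaf 0)) (.node (.leaf 113856957) (.leaf 0))))))))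

def e0T70 : NT := .node (.node (.node (.node (.node (.node (.node (.node (.leaf 917504) (.leaf 155443200)) (.node (.leaf 93577216) (.leaf 0))) (.node (.node (.leaf 50790400) (.leaf 0)) (.node (.leaf 95898068) (.leaf 0)))) (.node (.node (.node (.leaf 26681344) (.leaf 15260692)) (.node (.leaf 112304128) (.leaf 0))) (.node (.node (.leaf 73031680) (.leaf 0)) (.node (.leaf 102234494) (.leaf 0))))) (.node (.node (.node (.node (.leaf 13983744) (.leaf 143998009)) (.node (.leaf 86959698) (.leaf 0))) (.node (.node (.leaf 62242816) (.leaf 0)) (.node (.leaf 34068578) (.leaf 0)))) (.node (.node (.node (.leaf 38944768) (.leaf 155745419)) (.node (.leaf 120922112) (.leaf 0))) (.node (.node (.leaf 83574784) (.leaf 0)) (.node (.leaf 9101312) (.leaf 0)))))) (.node (.node (.node (.node (.node (.leaf 7528448) (.leaf 130631281)) (.node (.leaf 67373422) (.leaf 0))) (.node (.node (.leaf 10819153) (.leaf 0)) (.node (.leaf 132923392) (.leaf 0)))) (.node (.node (.node (.leaf 32899072) (.leaf 165617664)) (.node (.leaf 116695040)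 (.leaf 0))) (.node (.node (.leaf 78331904) (.leaf 0)) (.node (.leaf 146825216) (.leaf 0))))) (.node (.node (.node (.node (.leaf 20520960) (.leaf 131394377)) (.node (.leaf 107839488) (.leaf 0))) (.node (.node (.leaf 64924054) (.leaf 0)) (.node (.leaf 140222464) (.leaf 0)))) (.node (.node (.node (.leaf 44924928) (.leaf 119441645)) (.node (.leaf 19523913) (.leaf 0))) (.node (.node (.leaf 88571904) (.leaf 0)) (.node (.leaf 140366216) (.leaf 0))))))) (.node (.node (.node (.node (.node (.node (.leaf 4235264) (.leaf 153945275)) (.node (.leaf 95985664) (.leaf 0))) (.node (.node (.leaf 53665792) (.leaf 0)) (.node (.leaf 131047424) (.leaf 0)))) (.node (.node (.node (.leaf 29777920) (.leaf 153851745)) (.node (.leaf 114507776) (.leaf 0))) (.node (.node (.leaf 75702272) (.leaf 0)) (.node (.leaf 19646019) (.leaf 0))))) (.node (.node (.node (.node (.leaf 17252352) (.leaf 152285375)) (.node (.leaf 105406464) (.leaf 0))) (.node (.node (.leaf 64978944) (.leaf 0)) (.node (.leaf 138280960) (.leaf 0)))) (.node (.node (.node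 (.leaf 41934848) (.leaf 166826534)) (.node (.leaf 123035648) (.leaf 0))) (.node (.node (.leaf 85999616) (.leaf 0)) (.node (.leaf 54198969) (.leaf 0)))))) (.node (.node (.node (.node (.node (.leaf 10780672) (.leaf 91539099)) (.node (.leaf 100737024) (.leaf 0))) (.node (.node (.leaf 59383808) (.leaf 0)) (.node (.leaf 134750208) (.leaf 0)))) (.node (.node (.node (.leaf 35971072) (.leaf 166363136)) (.node (.leaf 101426116) (.leaf 0))) (.node (.node (.leaf 19909463) (.leaf 0)) (.node (.leaf 148357120) (.leaf 0))))) (.node (.node (.node (.node (.leaf 23576576) (.leaf 62067051)) (.node (.leaf 110133248) (.leaf 0))) (.node (.node (.leaf 70402048) (.leaf 0)) (.node (.leaf 141983744) (.leaf 0)))) (.node (.node (.node (.leaf 32217304) (.leaf 121631797)) (.node (.leaf 120523520) (.leaf 0))) (.node (.node (.leaf 76994644) (.leaf 0)) (.node (.leaf 154165248) (.leaf 0)))))))) (.node (.node (.node (.node (.node (.node (.node (.leaf 2588672) (.leaf 111023637)) (.node (.leaf 94756864) (.leaf 0))) (.node (.node (.leaf 52281344)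 (.leaf 0)) (.node (.leaf 63282319) (.leaf 0)))) (.node (.node (.node (.leaf 28229632) (.leaf 164388864)) (.node (.leaf 113401856) (.leaf 0))) (.node (.node (.leaf 55410688) (.leaf 0)) (.node (.leaf 86020641) (.leaf 0))))) (.node (.node (.node (.node (.leaf 15613952) (.leaf 105657823)) (.node (.leaf 104144896) (.leaf 0))) (.node (.node (.leaf 12543684) (.leaf 0)) (.node (.leaf 137388032) (.leaf 0)))) (.node (.node (.node (.leaf 40452096) (.leaf 54894665)) (.node (.leaf 122036224) (.leaf 0))) (.node (.node (.leaf 84844544) (.leaf 0)) (.node (.leaf 64168288) (.leaf 0)))))) (.node (.node (.node (.node (.node (.leaf 9158656) (.leaf 158334976)) (.node (.leaf 99524608) (.leaf 0))) (.node (.node (.leaf 57868288) (.leaf 0)) (.node (.leaf 133840896) (.leaf 0)))) (.node (.node (.node (.leaf 34430976) (.leaf 162500445)) (.node (.leaf 117800960) (.leaf 0))) (.node (.node (.leaf 79642624) (.leaf 0)) (.node (.leaf 147570688) (.leaf 0))))) (.node (.node (.node (.node (.leaf 2231678) (.leaf 117270362)) (.node (.leaf 108994560)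 (.leaf 0))) (.node (.node (.leaf 37963671) (.leaf 0)) (.node (.leaf 7520256) (.leaf 0)))) (.node (.node (.node (.leaf 46448640) (.leaf 106671289)) (.node (.leaf 93575329) (.leaf 0))) (.node (.node (.leaf 89833472) (.leaf 0)) (.node (.leaf 153411584) (.leaf 0))))))) (.node (.node (.node (.node (.node (.node (.leaf 5881856) (.leaf 28833251)) (.node (.leaf 23446578) (.leaf 0))) (.node (.node (.leaf 55042048) (.leaf 0)) (.node (.leaf 132104192) (.leaf 0)))) (.node (.node (.node (.leaf 31358976) (.leaf 61948959)) (.node (.leaf 115654656) (.leaf 0))) (.node (.node (.leaf 76996608) (.leaf 0)) (.node (.leaf 145965056) (.leaf 0))))) (.node (.node (.node (.node (.leaf 18898944) (.leaf 161570816)) (.node (.leaf 106651648) (.leaf 0))) (.node (.node (.leaf 66404352) (.leaf 0)) (.node (.leaf 139206656) (.leaf 0)))) (.node (.node (.node (.leaf 43417600) (.leaf 132531544)) (.node (.leaf 124018688) (.leaf 0))) (.node (.node (.leaf 87252992) (.leaf 0)) (.node (.leaf 134464511) (.leaf 0)))))) (.node (.node (.node (.node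 (.node (.leaf 12386304) (.leaf 125430793)) (.node (.leaf 101941248) (.leaf 0))) (.node (.node (.leaf 60866560) (.leaf 0)) (.node (.leaf 107595712) (.leaf 0)))) (.node (.node (.node (.leaf 28488847) (.leaf 105721251)) (.node (.leaf 119824384) (.leaf 0))) (.node (.node (.leaf 82255872) (.leaf 0)) (.node (.leaf 97890321) (.leaf 0))))) (.node (.node (.node (.node (.leaf 25149440) (.leaf 86795876)) (.node (.leaf 86444254) (.leaf 0))) (.node (.node (.leaf 71680000) (.leaf 0)) (.node (.leaf 86349092) (.leaf 0)))) (.node (.node (.node (.leaf 49381376) (.leaf 168055929)) (.node (.leaf 128147456) (.leaf 0))) (.node (.node (.leaf 92241920) (.leaf 0)) (.node (.leaf 154779648) (.leaf 0))))))))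

def e0T71 : NT := .node (.node (.node (.node (.node (.node (.node (.node (.leaf 933888) (.leaf 155459584)) (.node (.leaf 93593600) (.leaf 0))) (.node (.node (.leaf 50806784) (.leaf 0)) (.node (.leaf 93986939) (.leaf 0)))) (.node (.node (.node (.leaf 26689536) (.leaf 112321354)) (.node (.leaf 112312320) (.leaf 0))) (.node (.node (.leaf 73039872) (.leaf 0)) (.node (.leaf 101518992) (.leaf 0))))) (.node (.node (.node (.node (.leaf 14000128) (.leaf 160022528)) (.node (.leaf 103055360) (.leaf 0))) (.node (.node (.leaf 39564168) (.leaf 0)) (.node (.leaf 136527872) (.leaf 0)))) (.node (.node (.node (.leaf 38952960) (.leaf 142672379)) (.node (.leaf 120930304) (.leaf 0))) (.node (.node (.leaf 83591168) (.leaf 0)) (.node (.leaf 147630679) (.leaf 0)))))) (.node (.node (.node (.node (.node (.leaf 7544832) (.leaf 157859840)) (.node (.leaf 89040486) (.leaf 0))) (.node (.node (.leaf 56418304) (.leaf 0)) (.node (.leaf 55763855) (.leaf 0)))) (.node (.node (.node (.leaf 32915456) (.leaf 160187651)) (.node (.leaf 116703232)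 (.leaf 0))) (.node (.node (.leaf 78340096) (.leaf 0)) (.node (.leaf 146072918) (.leaf 0))))) (.node (.node (.node (.node (.leaf 20529152) (.leaf 97960140)) (.node (.leaf 107847680) (.leaf 0))) (.node (.node (.leaf 67829760) (.leaf 0)) (.node (.leaf 140230656) (.leaf 0)))) (.node (.node (.node (.leaf 44933120) (.leaf 161233451)) (.node (.leaf 115802367) (.leaf 0))) (.node (.node (.leaf 88580096) (.leaf 0)) (.node (.leaf 41691097) (.leaf 0))))))) (.node (.node (.node (.node (.node (.node (.leaf 4251648) (.leaf 140708135)) (.node (.leaf 76036003) (.leaf 0))) (.node (.node (.leaf 53682176) (.leaf 0)) (.node (.leaf 91479078) (.leaf 0)))) (.node (.node (.node (.leaf 29794304) (.leaf 143544496)) (.node (.leaf 114515968) (.leaf 0))) (.node (.node (.leaf 32151219) (.leaf 0)) (.node (.leaf 105160898) (.leaf 0))))) (.node (.node (.node (.node (.leaf 17268736) (.leaf 161120256)) (.node (.leaf 105414656) (.leaf 0))) (.node (.node (.leaf 64987136) (.leaf 0)) (.node (.leaf 138289152) (.leaf 0)))) (.node (.node (.node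 (.leaf 41951232) (.leaf 116508269)) (.node (.leaf 123052032) (.leaf 0))) (.node (.node (.leaf 86007808) (.leaf 0)) (.node (.leaf 147684106) (.leaf 0)))))) (.node (.node (.node (.node (.node (.leaf 10797056) (.leaf 53526709)) (.node (.leaf 100753408) (.leaf 0))) (.node (.node (.leaf 14218009) (.leaf 0)) (.node (.leaf 118338775) (.leaf 0)))) (.node (.node (.node (.leaf 35979264) (.leaf 163837708)) (.node (.leaf 118857728) (.leaf 0))) (.node (.node (.leaf 80912384) (.leaf 0)) (.node (.leaf 148365312) (.leaf 0))))) (.node (.node (.node (.node (.leaf 23584768) (.leaf 162385436)) (.node (.leaf 110141440) (.leaf 0))) (.node (.node (.leaf 70410240) (.leaf 0)) (.node (.leaf 141991936) (.leaf 0)))) (.node (.node (.node (.leaf 47906816) (.leaf 165484676)) (.node (.leaf 127221760) (.leaf 0))) (.node (.node (.leaf 91037696) (.leaf 0)) (.node (.leaf 28730354) (.leaf 0)))))))) (.node (.node (.node (.node (.node (.node (.node (.leaf 2605056) (.leaf 130417377)) (.node (.leaf 94765056) (.leaf 0))) (.node (.node (.leaf 52289536)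 (.leaf 0)) (.node (.leaf 130088960) (.leaf 0)))) (.node (.node (.node (.leaf 737280) (.leaf 164397056)) (.node (.leaf 9440598) (.leaf 0))) (.node (.node (.leaf 44106494) (.leaf 0)) (.node (.leaf 95560791) (.leaf 0))))) (.node (.node (.node (.node (.leaf 15622144) (.leaf 62371761)) (.node (.leaf 104153088) (.leaf 0))) (.node (.node (.leaf 63651840) (.leaf 0)) (.node (.leaf 137396224) (.leaf 0)))) (.node (.node (.node (.leaf 40468480) (.leaf 104772030)) (.node (.leaf 122044416) (.leaf 0))) (.node (.node (.leaf 84852736) (.leaf 0)) (.node (.leaf 38613202) (.leaf 0)))))) (.node (.node (.node (.node (.node (.leaf 9175040) (.leaf 116206733)) (.node (.leaf 76951745) (.leaf 0))) (.node (.node (.leaf 57884672) (.leaf 0)) (.node (.leaf 133849088) (.leaf 0)))) (.node (.node (.node (.leaf 34439168) (.leaf 139974789)) (.node (.leaf 50207463) (.leaf 0))) (.node (.node (.leaf 79650816) (.leaf 0)) (.node (.leaf 14173901) (.leaf 0))))) (.node (.node (.node (.node (.leaf 22028288) (.leaf 133394889)) (.node (.leaf 109002752)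 (.leaf 0))) (.node (.node (.leaf 2273873) (.leaf 0)) (.node (.leaf 141066240) (.leaf 0)))) (.node (.node (.node (.leaf 46456832) (.leaf 133958664)) (.node (.leaf 126189568) (.leaf 0))) (.node (.node (.leaf 89841664) (.leaf 0)) (.node (.leaf 153419776) (.leaf 0))))))) (.node (.node (.node (.node (.node (.node (.leaf 5898240) (.leaf 157286400)) (.node (.leaf 97173504) (.leaf 0))) (.node (.node (.leaf 55050240) (.leaf 0)) (.node (.leaf 132112384) (.leaf 0)))) (.node (.node (.node (.leaf 31375360) (.leaf 165257216)) (.node (.leaf 115671040) (.leaf 0))) (.node (.node (.leaf 77012992) (.leaf 0)) (.node (.leaf 145973248) (.leaf 0))))) (.node (.node (.node (.node (.leaf 18915328) (.leaf 81661033)) (.node (.leaf 106659840) (.leaf 0))) (.node (.node (.leaf 26388796) (.leaf 0)) (.node (.leaf 139223040) (.leaf 0)))) (.node (.node (.node (.leaf 43433984) (.leaf 163522624)) (.node (.leaf 124026880) (.leaf 0))) (.node (.node (.leaf 82920699) (.leaf 0)) (.node (.leaf 152117248) (.leaf 0)))))) (.node (.node (.node (.node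 (.node (.leaf 12394496) (.leaf 159514624)) (.node (.leaf 101949440) (.leaf 0))) (.node (.node (.leaf 60882944) (.leaf 0)) (.node (.leaf 135692288) (.leaf 0)))) (.node (.node (.node (.leaf 37535744) (.leaf 165590657)) (.node (.leaf 119840768) (.leaf 0))) (.node (.node (.leaf 20489109) (.leaf 0)) (.node (.leaf 8921088) (.leaf 0))))) (.node (.node (.node (.node (.leaf 25165824) (.leaf 22188092)) (.node (.leaf 110243302) (.leaf 0))) (.node (.node (.leaf 71688192) (.leaf 0)) (.node (.leaf 142786560) (.leaf 0)))) (.node (.node (.node (.leaf 49389568) (.leaf 91870944)) (.node (.leaf 128155648) (.leaf 0))) (.node (.node (.leaf 44866703) (.leaf 0)) (.node (.leaf 19074447) (.leaf 0))))))))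

def e0T72 : NT := .node (.node (.node (.node (.node (.node (.node (.node (.leaf 942080) (.leaf 155467776)) (.node (.leaf 78065249) (.leaf 0))) (.node (.node (.leaf 2032444) (.leaf 0)) (.node (.leaf 81073523) (.leaf 0)))) (.node (.node (.node (.leaf 26705920) (.leaf 92574712)) (.node (.leaf 56088074) (.leaf 0))) (.node (.node (.leaf 73056256) (.leaf 0)) (.node (.leaf 143176012) (.leaf 0))))) (.node (.node (.node (.node (.leaf 14008320) (.leaf 46911400)) (.node (.leaf 103063552) (.leaf 0))) (.node (.node (.leaf 62259200) (.leaf 0)) (.node (.leaf 136536064) (.leaf 0)))) (.node (.node (.node (.leaf 38961152) (.leaf 163849304)) (.node (.leaf 120938496) (.leaf 0))) (.node (.node (.leaf 83599360) (.leaf 0)) (.node (.leaf 50037933) (.leaf 0)))))) (.node (.node (.node (.node (.node (.leaf 7553024) (.leaf 157868032)) (.node (.leaf 98336768) (.leaf 0))) (.node (.node (.leaf 56426496) (.leaf 0)) (.node (.leaf 132939776) (.leaf 0)))) (.node (.node (.node (.leaf 32923648) (.leaf 120559060)) (.node (.leaf 116711424)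 (.leaf 0))) (.node (.node (.leaf 78356480) (.leaf 0)) (.node (.leaf 139771912) (.leaf 0))))) (.node (.node (.node (.node (.leaf 20545536) (.leaf 156695395)) (.node (.leaf 107864064) (.leaf 0))) (.node (.node (.leaf 67837952) (.leaf 0)) (.node (.leaf 140238848) (.leaf 0)))) (.node (.node (.node (.leaf 44941312) (.leaf 165726869)) (.node (.leaf 125091840) (.leaf 0))) (.node (.node (.leaf 3080192) (.leaf 0)) (.node (.leaf 34533399) (.leaf 0))))))) (.node (.node (.node (.node (.node (.node (.leaf 4268032) (.leaf 47744729)) (.node (.leaf 95993856) (.leaf 0))) (.node (.node (.leaf 30400666) (.leaf 0)) (.node (.leaf 110549119) (.leaf 0)))) (.node (.node (.node (.leaf 29810688) (.leaf 62111794)) (.node (.leaf 114524160) (.leaf 0))) (.node (.node (.leaf 75710464) (.leaf 0)) (.node (.leaf 143584654) (.leaf 0))))) (.node (.node (.node (.node (.leaf 17276928) (.leaf 131715981)) (.node (.leaf 105431040) (.leaf 0))) (.node (.node (.leaf 64995328) (.leaf 0)) (.node (.leaf 132796830) (.leaf 0)))) (.node (.node (.node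 (.leaf 41959424) (.leaf 167419904)) (.node (.leaf 123068416) (.leaf 0))) (.node (.node (.leaf 70748665) (.leaf 0)) (.node (.leaf 151396352) (.leaf 0)))))) (.node (.node (.node (.node (.node (.leaf 10805248) (.leaf 30103990)) (.node (.leaf 100761600) (.leaf 0))) (.node (.node (.leaf 59400192) (.leaf 0)) (.node (.leaf 106612296) (.leaf 0)))) (.node (.node (.node (.leaf 35995648) (.leaf 106369775)) (.node (.leaf 118865920) (.leaf 0))) (.node (.node (.leaf 80920576) (.leaf 0)) (.node (.leaf 148373504) (.leaf 0))))) (.node (.node (.node (.node (.leaf 23601152) (.leaf 163061760)) (.node (.leaf 107860446) (.leaf 0))) (.node (.node (.leaf 70418432) (.leaf 0)) (.node (.leaf 142000128) (.leaf 0)))) (.node (.node (.node (.leaf 46273409) (.leaf 131330297)) (.node (.leaf 113332433) (.leaf 0))) (.node (.node (.leaf 91054080) (.leaf 0)) (.node (.leaf 154173440) (.leaf 0)))))))) (.node (.node (.node (.node (.node (.node (.node (.leaf 2613248) (.leaf 136399583)) (.node (.leaf 47043431) (.leaf 0))) (.node (.node (.leaf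 52305920) (.leaf 0)) (.node (.leaf 130105344) (.leaf 0)))) (.node (.node (.node (.leaf 28246016) (.leaf 151446411)) (.node (.leaf 113426432) (.leaf 0))) (.node (.node (.leaf 74358784) (.leaf 0)) (.node (.leaf 126470867) (.leaf 0))))) (.node (.node (.node (.node (.leaf 15638528) (.leaf 139432093)) (.node (.leaf 104161280) (.leaf 0))) (.node (.node (.leaf 63668224) (.leaf 0)) (.node (.leaf 137404416) (.leaf 0)))) (.node (.node (.node (.leaf 40476672) (.leaf 163783224)) (.node (.leaf 118045497) (.leaf 0))) (.node (.node (.leaf 84869120) (.leaf 0)) (.node (.leaf 150683648) (.leaf 0)))))) (.node (.node (.node (.node (.node (.leaf 9191424) (.leaf 49685805)) (.node (.leaf 99532800) (.leaf 0))) (.node (.node (.leaf 57901056) (.leaf 0)) (.node (.leaf 119898720) (.leaf 0)))) (.node (.node (.node (.leaf 34447360) (.leaf 166010880)) (.node (.leaf 59183365) (.leaf 0))) (.node (.node (.leaf 79667200) (.leaf 0)) (.node (.leaf 147587072) (.leaf 0))))) (.node (.node (.node (.node (.leaf 1802417) (.leaf 21286144)) (.node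 (.leaf 109019136) (.leaf 0))) (.node (.node (.leaf 25982744) (.leaf 0)) (.node (.leaf 133772548) (.leaf 0)))) (.node (.node (.node (.leaf 46473216) (.leaf 163936623)) (.node (.leaf 126197760) (.leaf 0))) (.node (.node (.leaf 71833896) (.leaf 0)) (.node (.leaf 144136879) (.leaf 0))))))) (.node (.node (.node (.node (.node (.node (.leaf 5906432) (.leaf 157302784)) (.node (.leaf 97181696) (.leaf 0))) (.node (.node (.leaf 55066624) (.leaf 0)) (.node (.leaf 93842831) (.leaf 0)))) (.node (.node (.node (.leaf 31391744) (.leaf 165273600)) (.node (.leaf 115679232) (.leaf 0))) (.node (.node (.leaf 77021184) (.leaf 0)) (.node (.leaf 145989632) (.leaf 0))))) (.node (.node (.node (.node (.leaf 18923520) (.leaf 161595392)) (.node (.leaf 106676224) (.leaf 0))) (.node (.node (.leaf 66420736) (.leaf 0)) (.node (.leaf 139239424) (.leaf 0)))) (.node (.node (.node (.leaf 4736550) (.leaf 66581620)) (.node (.leaf 124043264) (.leaf 0))) (.node (.node (.leaf 87269376) (.leaf 0)) (.node (.leaf 107998011) (.leaf 0)))))) (.node (.node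 (.node (.node (.node (.leaf 12410880) (.leaf 120685002)) (.node (.leaf 101957632) (.leaf 0))) (.node (.node (.leaf 60891136) (.leaf 0)) (.node (.leaf 113441776) (.leaf 0)))) (.node (.node (.node (.leaf 15445973) (.leaf 166772736)) (.node (.leaf 119848960) (.leaf 0))) (.node (.node (.leaf 82272256) (.leaf 0)) (.node (.leaf 107753150) (.leaf 0))))) (.node (.node (.node (.node (.leaf 25174016) (.leaf 29371012)) (.node (.leaf 8606736) (.leaf 0))) (.node (.node (.leaf 71704576) (.leaf 0)) (.node (.leaf 142802944) (.leaf 0)))) (.node (.node (.node (.leaf 49405952) (.leaf 160429720)) (.node (.leaf 128172032) (.leaf 0))) (.node (.node (.leaf 11072282) (.leaf 0)) (.node (.leaf 52843759) (.leaf 0))))))))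

def e0T73 : NT := .node (.node (.node (.node (.node (.node (.node (.node (.leaf 958464) (.leaf 155475968)) (.node (.leaf 93609984) (.leaf 0))) (.node (.node (.leaf 50814976) (.leaf 0)) (.node (.leaf 129122304) (.leaf 0)))) (.node (.node (.node (.leaf 26722304) (.leaf 146208069)) (.node (.leaf 98841915) (.leaf 0))) (.node (.node (.leaf 73064448) (.leaf 0)) (.node (.leaf 47490137) (.leaf 0))))) (.node (.node (.node (.node (.leaf 14016512) (.leaf 160030720)) (.node (.leaf 103079936) (.leaf 0))) (.node (.node (.leaf 62275584) (.leaf 0)) (.node (.leaf 136544256) (.leaf 0)))) (.node (.node (.node (.leaf 38969344) (.leaf 157347865)) (.node (.leaf 26839951) (.leaf 0))) (.node (.node (.leaf 78669985) (.leaf 0)) (.node (.leaf 149913600) (.leaf 0)))))) (.node (.node (.node (.node (.node (.leaf 7569408) (.leaf 147418414)) (.node (.leaf 98344960) (.leaf 0))) (.node (.node (.leaf 56434688) (.leaf 0)) (.node (.leaf 132947968) (.leaf 0)))) (.node (.node (.node (.leaf 32940032) (.leaf 165634048)) (.node (.leaf 110324133)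 (.leaf 0))) (.node (.node (.leaf 78364672) (.leaf 0)) (.node (.leaf 146841600) (.leaf 0))))) (.node (.node (.node (.node (.leaf 7886991) (.leaf 148886974)) (.node (.leaf 107872256) (.leaf 0))) (.node (.node (.leaf 67854336) (.leaf 0)) (.node (.leaf 140255232) (.leaf 0)))) (.node (.node (.node (.leaf 44957696) (.leaf 149177293)) (.node (.leaf 125100032) (.leaf 0))) (.node (.node (.leaf 88604672) (.leaf 0)) (.node (.leaf 152748032) (.leaf 0))))))) (.node (.node (.node (.node (.node (.node (.leaf 98304) (.leaf 156737536)) (.node (.leaf 96002048) (.leaf 0))) (.node (.node (.leaf 34601003) (.leaf 0)) (.node (.leaf 131080192) (.leaf 0)))) (.node (.node (.node (.leaf 29818880) (.leaf 58827863)) (.node (.leaf 94339505) (.leaf 0))) (.node (.node (.leaf 75726848) (.leaf 0)) (.node (.leaf 108340511) (.leaf 0))))) (.node (.node (.node (.node (.leaf 17293312) (.leaf 118539513)) (.node (.leaf 105447424) (.leaf 0))) (.node (.node (.leaf 65011712) (.leaf 0)) (.node (.leaf 138305536) (.leaf 0)))) (.node (.node (.node (.leaf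 41967616) (.leaf 162524162)) (.node (.leaf 123076608) (.leaf 0))) (.node (.node (.leaf 86024192) (.leaf 0)) (.node (.leaf 34196034) (.leaf 0)))))) (.node (.node (.node (.node (.node (.leaf 10821632) (.leaf 158965760)) (.node (.leaf 100777984) (.leaf 0))) (.node (.node (.leaf 59408384) (.leaf 0)) (.node (.leaf 118527446) (.leaf 0)))) (.node (.node (.node (.leaf 36012032) (.leaf 166379520)) (.node (.leaf 118874112) (.leaf 0))) (.node (.node (.leaf 80936960) (.leaf 0)) (.node (.leaf 28652321) (.leaf 0))))) (.node (.node (.node (.node (.leaf 23609344) (.leaf 141362927)) (.node (.leaf 110166016) (.leaf 0))) (.node (.node (.leaf 50533632) (.leaf 0)) (.node (.leaf 142008320) (.leaf 0)))) (.node (.node (.node (.leaf 47931392) (.leaf 166041566)) (.node (.leaf 29845679) (.leaf 0))) (.node (.node (.leaf 91062272) (.leaf 0)) (.node (.leaf 69038109) (.leaf 0)))))))) (.node (.node (.node (.node (.node (.node (.node (.leaf 2629632) (.leaf 156139520)) (.node (.leaf 94781440) (.leaf 0))) (.node (.node (.leaf 52314112)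 (.leaf 0)) (.node (.leaf 88486445) (.leaf 0)))) (.node (.node (.node (.leaf 28254208) (.leaf 164413440)) (.node (.leaf 113442816) (.leaf 0))) (.node (.node (.leaf 29423090) (.leaf 0)) (.node (.leaf 144367616) (.leaf 0))))) (.node (.node (.node (.node (.leaf 15654912) (.leaf 160604160)) (.node (.leaf 21172309) (.leaf 0))) (.node (.node (.leaf 63676416) (.leaf 0)) (.node (.leaf 137412608) (.leaf 0)))) (.node (.node (.node (.leaf 40493056) (.leaf 164718852)) (.node (.leaf 24208070) (.leaf 0))) (.node (.node (.leaf 11377821) (.leaf 0)) (.node (.leaf 150691840) (.leaf 0)))))) (.node (.node (.node (.node (.node (.leaf 221184) (.leaf 105509505)) (.node (.leaf 99549184) (.leaf 0))) (.node (.node (.leaf 57909248) (.leaf 0)) (.node (.leaf 40103870) (.leaf 0)))) (.node (.node (.node (.leaf 34455552) (.leaf 160509786)) (.node (.leaf 25797454) (.leaf 0))) (.node (.node (.leaf 79675392) (.leaf 0)) (.node (.leaf 147595264) (.leaf 0))))) (.node (.node (.node (.node (.leaf 22044672) (.leaf 140604373)) (.node (.leaf 78887120)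 (.leaf 0))) (.node (.node (.leaf 69156864) (.leaf 0)) (.node (.leaf 141074432) (.leaf 0)))) (.node (.node (.node (.leaf 46489600) (.leaf 34842484)) (.node (.leaf 126205952) (.leaf 0))) (.node (.node (.leaf 89866240) (.leaf 0)) (.node (.leaf 114104495) (.leaf 0))))))) (.node (.node (.node (.node (.node (.node (.leaf 5922816) (.leaf 135025877)) (.node (.leaf 97189888) (.leaf 0))) (.node (.node (.leaf 55074816) (.leaf 0)) (.node (.leaf 90436339) (.leaf 0)))) (.node (.node (.node (.leaf 31399936) (.leaf 122032882)) (.node (.leaf 115695616) (.leaf 0))) (.node (.node (.leaf 77029376) (.leaf 0)) (.node (.leaf 86541429) (.leaf 0))))) (.node (.node (.node (.node (.leaf 18939904) (.leaf 13017088)) (.node (.leaf 106684416) (.leaf 0))) (.node (.node (.leaf 66437120) (.leaf 0)) (.node (.leaf 67236520) (.leaf 0)))) (.node (.node (.node (.leaf 43450368) (.leaf 113642444)) (.node (.leaf 124051456) (.leaf 0))) (.node (.node (.leaf 87277568) (.leaf 0)) (.node (.leaf 140737262) (.leaf 0)))))) (.node (.node (.node (.node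 (.node (.leaf 12419072) (.leaf 159309824)) (.node (.leaf 97019212) (.leaf 0))) (.node (.node (.leaf 18935263) (.leaf 0)) (.node (.leaf 135700480) (.leaf 0)))) (.node (.node (.node (.leaf 37552128) (.leaf 95750843)) (.node (.leaf 119865344) (.leaf 0))) (.node (.node (.leaf 82288640) (.leaf 0)) (.node (.leaf 149184512) (.leaf 0))))) (.node (.node (.node (.node (.leaf 25190400) (.leaf 155046524)) (.node (.leaf 72124929) (.leaf 0))) (.node (.node (.leaf 71720960) (.leaf 0)) (.node (.leaf 142811136) (.leaf 0)))) (.node (.node (.node (.leaf 49422336) (.leaf 44625132)) (.node (.leaf 128180224) (.leaf 0))) (.node (.node (.leaf 92258304) (.leaf 0)) (.node (.leaf 154796032) (.leaf 0))))))))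

def e0T74 : NT := .node (.node (.node (.node (.node (.node (.node (.node (.leaf 966656) (.leaf 26224854)) (.node (.leaf 85069596) (.leaf 0))) (.node (.node (.leaf 50823168) (.leaf 0)) (.node (.leaf 124340826) (.leaf 0)))) (.node (.node (.node (.leaf 696320) (.leaf 117414346)) (.node (.leaf 37380637) (.leaf 0))) (.node (.node (.leaf 73072640) (.leaf 0)) (.node (.leaf 143532032) (.leaf 0))))) (.node (.node (.node (.node (.leaf 14024704) (.leaf 149860387)) (.node (.leaf 37695300) (.leaf 0))) (.node (.node (.leaf 62283776) (.leaf 0)) (.node (.leaf 136560640) (.leaf 0)))) (.node (.node (.node (.leaf 38985728) (.leaf 157857166)) (.node (.leaf 120954880) (.leaf 0))) (.node (.node (.leaf 83615744) (.leaf 0)) (.node (.leaf 149921792) (.leaf 0)))))) (.node (.node (.node (.node (.node (.leaf 7585792) (.leaf 157884416)) (.node (.leaf 59835681) (.leaf 0))) (.node (.node (.leaf 56451072) (.leaf 0)) (.node (.leaf 6471680) (.leaf 0)))) (.node (.node (.node (.leaf 32948224) (.leaf 163575416)) (.node (.leaf 116719616)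 (.leaf 0))) (.node (.node (.leaf 78381056) (.leaf 0)) (.node (.leaf 39623203) (.leaf 0))))) (.node (.node (.node (.node (.leaf 20561920) (.leaf 162119680)) (.node (.leaf 107888640) (.leaf 0))) (.node (.node (.leaf 67862528) (.leaf 0)) (.node (.leaf 110089160) (.leaf 0)))) (.node (.node (.node (.leaf 44974080) (.leaf 84789292)) (.node (.leaf 90077457) (.leaf 0))) (.node (.node (.leaf 83851119) (.leaf 0)) (.node (.leaf 93480134) (.leaf 0))))))) (.node (.node (.node (.node (.node (.node (.leaf 4284416) (.leaf 143970847)) (.node (.leaf 65266027) (.leaf 0))) (.node (.node (.leaf 4913428) (.leaf 0)) (.node (.leaf 131088384) (.leaf 0)))) (.node (.node (.node (.leaf 29835264) (.leaf 119579264)) (.node (.leaf 114540544) (.leaf 0))) (.node (.node (.leaf 75735040) (.leaf 0)) (.node (.leaf 138951001) (.leaf 0))))) (.node (.node (.node (.node (.leaf 17301504) (.leaf 139844611)) (.node (.leaf 105463808) (.leaf 0))) (.node (.node (.leaf 65028096) (.leaf 0)) (.node (.leaf 7151616) (.leaf 0)))) (.node (.node (.node (.leaf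 41975808) (.leaf 128494270)) (.node (.leaf 123092992) (.leaf 0))) (.node (.node (.leaf 53517412) (.leaf 0)) (.node (.leaf 151404544) (.leaf 0)))))) (.node (.node (.node (.node (.node (.leaf 10829824) (.leaf 146162114)) (.node (.leaf 100786176) (.leaf 0))) (.node (.node (.leaf 59416576) (.leaf 0)) (.node (.leaf 134766592) (.leaf 0)))) (.node (.node (.node (.leaf 36020224) (.leaf 129322603)) (.node (.leaf 118882304) (.leaf 0))) (.node (.node (.leaf 80953344) (.leaf 0)) (.node (.leaf 148398080) (.leaf 0))))) (.node (.node (.node (.node (.leaf 23625728) (.leaf 130815964)) (.node (.leaf 110174208) (.leaf 0))) (.node (.node (.leaf 30627364) (.leaf 0)) (.node (.leaf 142016512) (.leaf 0)))) (.node (.node (.node (.leaf 47947776) (.leaf 161464590)) (.node (.leaf 105087445) (.leaf 0))) (.node (.node (.leaf 91078656) (.leaf 0)) (.node (.leaf 154189824) (.leaf 0)))))))) (.node (.node (.node (.node (.node (.node (.node (.leaf 2646016) (.leaf 98214673)) (.node (.leaf 94789632) (.leaf 0))) (.node (.node (.leaf 43973369)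 (.leaf 0)) (.node (.leaf 130113536) (.leaf 0)))) (.node (.node (.node (.leaf 28270592) (.leaf 163399337)) (.node (.leaf 113451008) (.leaf 0))) (.node (.node (.leaf 48457524) (.leaf 0)) (.node (.leaf 144375808) (.leaf 0))))) (.node (.node (.node (.node (.leaf 15663104) (.leaf 160612352)) (.node (.leaf 104169472) (.leaf 0))) (.node (.node (.leaf 63692800) (.leaf 0)) (.node (.leaf 137420800) (.leaf 0)))) (.node (.node (.node (.leaf 40501248) (.leaf 112167172)) (.node (.leaf 122052608) (.leaf 0))) (.node (.node (.leaf 81543399) (.leaf 0)) (.node (.leaf 150700032) (.leaf 0)))))) (.node (.node (.node (.node (.node (.leaf 9207808) (.leaf 158343168)) (.node (.leaf 99557376) (.leaf 0))) (.node (.node (.leaf 27642477) (.leaf 0)) (.node (.leaf 119254670) (.leaf 0)))) (.node (.node (.node (.leaf 10563392) (.leaf 166019072)) (.node (.leaf 117833728) (.leaf 0))) (.node (.node (.leaf 2662400) (.leaf 0)) (.node (.leaf 73462447) (.leaf 0))))) (.node (.node (.node (.node (.leaf 22061056) (.leaf 162635776)) (.node (.leaf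 109035520) (.leaf 0))) (.node (.node (.leaf 69165056) (.leaf 0)) (.node (.leaf 141082624) (.leaf 0)))) (.node (.node (.node (.leaf 46497792) (.leaf 160053378)) (.node (.leaf 68920185) (.leaf 0))) (.node (.node (.leaf 89874432) (.leaf 0)) (.node (.leaf 153436160) (.leaf 0))))))) (.node (.node (.node (.node (.node (.node (.leaf 5931008) (.leaf 38180591)) (.node (.leaf 97206272) (.leaf 0))) (.node (.node (.leaf 55083008) (.leaf 0)) (.node (.leaf 58790615) (.leaf 0)))) (.node (.node (.node (.leaf 31416320) (.leaf 141759437)) (.node (.leaf 115703808) (.leaf 0))) (.node (.node (.leaf 25563120) (.leaf 0)) (.node (.leaf 107685786) (.leaf 0))))) (.node (.node (.node (.node (.leaf 18956288) (.leaf 157166745)) (.node (.leaf 106700800) (.leaf 0))) (.node (.node (.leaf 66445312) (.leaf 0)) (.node (.leaf 14903963) (.leaf 0)))) (.node (.node (.node (.leaf 43458560) (.leaf 136656436)) (.node (.leaf 90692069) (.leaf 0))) (.node (.node (.leaf 87293952) (.leaf 0)) (.node (.leaf 19393530) (.leaf 0)))))) (.node (.node (.node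 (.node (.node (.leaf 12435456) (.leaf 54486971)) (.node (.leaf 101974016) (.leaf 0))) (.node (.node (.leaf 4109400) (.leaf 0)) (.node (.leaf 63764504) (.leaf 0)))) (.node (.node (.node (.leaf 37560320) (.leaf 47925299)) (.node (.leaf 116294267) (.leaf 0))) (.node (.node (.leaf 82296832) (.leaf 0)) (.node (.leaf 127234474) (.leaf 0))))) (.node (.node (.node (.node (.leaf 19031867) (.leaf 163446784)) (.node (.leaf 111214592) (.leaf 0))) (.node (.node (.leaf 10522922) (.leaf 0)) (.node (.leaf 142819328) (.leaf 0)))) (.node (.node (.node (.leaf 49430528) (.leaf 167882112)) (.node (.leaf 128188416) (.leaf 0))) (.node (.node (.leaf 92266496) (.leaf 0)) (.node (.leaf 154804224) (.leaf 0))))))))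

def e0T75 : NT := .node (.node (.node (.node (.node (.node (.node (.node (.leaf 974848) (.leaf 149558870)) (.node (.leaf 93626368) (.leaf 0))) (.node (.node (.leaf 50831360) (.leaf 0)) (.node (.leaf 129130496) (.leaf 0)))) (.node (.node (.node (.leaf 26738688) (.leaf 163938304)) (.node (.leaf 69083329) (.leaf 0))) (.node (.node (.leaf 73083572) (.leaf 0)) (.node (.leaf 143548416) (.leaf 0))))) (.node (.node (.node (.node (.leaf 14041088) (.leaf 146445882)) (.node (.leaf 97425723) (.leaf 0))) (.node (.node (.leaf 62291968) (.leaf 0)) (.node (.leaf 136568832) (.leaf 0)))) (.node (.node (.node (.leaf 17998229) (.leaf 167018496)) (.node (.leaf 41185363) (.leaf 0))) (.node (.node (.leaf 5341222) (.leaf 0)) (.node (.leaf 149938176) (.leaf 0)))))) (.node (.node (.node (.node (.node (.leaf 180224) (.leaf 130356299)) (.node (.leaf 98353152) (.leaf 0))) (.node (.node (.leaf 56467456) (.leaf 0)) (.node (.leaf 132964352) (.leaf 0)))) (.node (.node (.node (.leaf 32964608) (.leaf 116180594)) (.node (.leaf 116736000)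 (.leaf 0))) (.node (.node (.leaf 2908160) (.leaf 0)) (.node (.leaf 146849792) (.leaf 0))))) (.node (.node (.node (.node (.leaf 20578304) (.leaf 162136064)) (.node (.leaf 78030862) (.leaf 0))) (.node (.node (.leaf 67878912) (.leaf 0)) (.node (.leaf 140271616) (.leaf 0)))) (.node (.node (.node (.leaf 19801046) (.leaf 66658653)) (.node (.leaf 125124608) (.leaf 0))) (.node (.node (.leaf 88612864) (.leaf 0)) (.node (.leaf 152764416) (.leaf 0))))))) (.node (.node (.node (.node (.node (.node (.leaf 4292608) (.leaf 30141417)) (.node (.leaf 96018432) (.leaf 0))) (.node (.node (.leaf 53706752) (.leaf 0)) (.node (.leaf 131104768) (.leaf 0)))) (.node (.node (.node (.leaf 29851648) (.leaf 154420002)) (.node (.leaf 114556928) (.leaf 0))) (.node (.node (.leaf 75751424) (.leaf 0)) (.node (.leaf 117004881) (.leaf 0))))) (.node (.node (.node (.node (.leaf 17317888) (.leaf 161128448)) (.node (.leaf 24421884) (.leaf 0))) (.node (.node (.leaf 65036288) (.leaf 0)) (.node (.leaf 64652689) (.leaf 0)))) (.node (.node (.node (.leaf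 41984000) (.leaf 164144189)) (.node (.leaf 80525083) (.leaf 0))) (.node (.node (.leaf 86048768) (.leaf 0)) (.node (.leaf 151412736) (.leaf 0)))))) (.node (.node (.node (.node (.node (.leaf 10838016) (.leaf 98914742)) (.node (.leaf 51560616) (.leaf 0))) (.node (.node (.leaf 59424768) (.leaf 0)) (.node (.leaf 134774784) (.leaf 0)))) (.node (.node (.node (.leaf 36036608) (.leaf 148812797)) (.node (.leaf 118890496) (.leaf 0))) (.node (.node (.leaf 80961536) (.leaf 0)) (.node (.leaf 148406272) (.leaf 0))))) (.node (.node (.node (.node (.leaf 23633920) (.leaf 55609631)) (.node (.leaf 110190592) (.leaf 0))) (.node (.node (.leaf 54082069) (.leaf 0)) (.node (.leaf 120170332) (.leaf 0)))) (.node (.node (.node (.leaf 47964160) (.leaf 148418971)) (.node (.leaf 33625638) (.leaf 0))) (.node (.node (.leaf 91086848) (.leaf 0)) (.node (.leaf 10846374) (.leaf 0)))))))) (.node (.node (.node (.node (.node (.node (.node (.leaf 2654208) (.leaf 156147712)) (.node (.leaf 94797824) (.leaf 0))) (.node (.node (.leaf 39861321) (.leaf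 0)) (.node (.leaf 72066962) (.leaf 0)))) (.node (.node (.node (.leaf 28286976) (.leaf 164421632)) (.node (.leaf 39776591) (.leaf 0))) (.node (.node (.leaf 74383360) (.leaf 0)) (.node (.leaf 144384000) (.leaf 0))))) (.node (.node (.node (.node (.leaf 15679488) (.leaf 160628736)) (.node (.leaf 90659865) (.leaf 0))) (.node (.node (.leaf 63700992) (.leaf 0)) (.node (.leaf 23893842) (.leaf 0)))) (.node (.node (.node (.leaf 40517632) (.leaf 114378886)) (.node (.leaf 104018038) (.leaf 0))) (.node (.node (.leaf 84893696) (.leaf 0)) (.node (.leaf 62699323) (.leaf 0)))))) (.node (.node (.node (.node (.node (.leaf 9216000) (.leaf 30497532)) (.node (.leaf 99573760) (.leaf 0))) (.node (.node (.leaf 57933824) (.leaf 0)) (.node (.leaf 85869079) (.leaf 0)))) (.node (.node (.node (.leaf 34480128) (.leaf 127599071)) (.node (.leaf 117841920) (.leaf 0))) (.node (.node (.leaf 79699968) (.leaf 0)) (.node (.leaf 147611648) (.leaf 0))))) (.node (.node (.node (.node (.leaf 22069248) (.leaf 162643968)) (.node (.leaf 109043712)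 (.leaf 0))) (.node (.node (.leaf 69173248) (.leaf 0)) (.node (.leaf 141090816) (.leaf 0)))) (.node (.node (.node (.leaf 46514176) (.leaf 167388547)) (.node (.leaf 83686577) (.leaf 0))) (.node (.node (.leaf 89882624) (.leaf 0)) (.node (.leaf 153444352) (.leaf 0))))))) (.node (.node (.node (.node (.node (.node (.leaf 5947392) (.leaf 157319168)) (.node (.leaf 97214464) (.leaf 0))) (.node (.node (.leaf 55091200) (.leaf 0)) (.node (.leaf 98502867) (.leaf 0)))) (.node (.node (.node (.leaf 31432704) (.leaf 150827439)) (.node (.leaf 115712000) (.leaf 0))) (.node (.node (.leaf 77037568) (.leaf 0)) (.node (.leaf 8290304) (.leaf 0))))) (.node (.node (.node (.node (.leaf 475136) (.leaf 161619968)) (.node (.leaf 106708992) (.leaf 0))) (.node (.node (.leaf 66461696) (.leaf 0)) (.node (.leaf 135197724) (.leaf 0)))) (.node (.node (.node (.leaf 43466752) (.leaf 167600128)) (.node (.leaf 94092036) (.leaf 0))) (.node (.node (.leaf 87302144) (.leaf 0)) (.node (.leaf 152133632) (.leaf 0)))))) (.node (.node (.node (.node (.node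 (.leaf 12443648) (.leaf 153029812)) (.node (.leaf 101982208) (.leaf 0))) (.node (.node (.leaf 60923904) (.leaf 0)) (.node (.leaf 135716864) (.leaf 0)))) (.node (.node (.node (.leaf 37576704) (.leaf 103607204)) (.node (.leaf 119873536) (.leaf 0))) (.node (.node (.leaf 82313216) (.leaf 0)) (.node (.leaf 149192704) (.leaf 0))))) (.node (.node (.node (.node (.leaf 25206784) (.leaf 14368768)) (.node (.leaf 111222784) (.leaf 0))) (.node (.node (.leaf 71737344) (.leaf 0)) (.node (.leaf 136614316) (.leaf 0)))) (.node (.node (.node (.leaf 49446912) (.leaf 80142908)) (.node (.leaf 128204800) (.leaf 0))) (.node (.node (.leaf 92282880) (.leaf 0)) (.node (.leaf 154820608) (.leaf 0))))))))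

def e0T76 : NT := .node (.node (.node (.node (.node (.node (.node (.node (.leaf 991232) (.leaf 155492352)) (.node (.leaf 93634560) (.leaf 0))) (.node (.node (.leaf 50847744) (.leaf 0)) (.node (.leaf 129138688) (.leaf 0)))) (.node (.node (.node (.leaf 26746880) (.leaf 161450642)) (.node (.leaf 112328704) (.leaf 0))) (.node (.node (.leaf 9536894) (.leaf 0)) (.node (.leaf 7897088) (.leaf 0))))) (.node (.node (.node (.node (.leaf 14049280) (.leaf 159188045)) (.node (.leaf 41399525) (.leaf 0))) (.node (.node (.leaf 62308352) (.leaf 0)) (.node (.leaf 136488782) (.leaf 0)))) (.node (.node (.node (.leaf 39002112) (.leaf 82350597)) (.node (.leaf 120971264) (.leaf 0))) (.node (.node (.leaf 83623936) (.leaf 0)) (.node (.leaf 87246883) (.leaf 0)))))) (.node (.node (.node (.node (.node (.leaf 7602176) (.leaf 138075076)) (.node (.leaf 98361344) (.leaf 0))) (.node (.node (.leaf 35256234) (.leaf 0)) (.node (.leaf 132972544) (.leaf 0)))) (.node (.node (.node (.leaf 32980992) (.leaf 96654759)) (.node (.leaf 116744192)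 (.leaf 0))) (.node (.node (.leaf 78397440) (.leaf 0)) (.node (.leaf 146857984) (.leaf 0))))) (.node (.node (.node (.node (.leaf 20586496) (.leaf 162144256)) (.node (.leaf 29494072) (.leaf 0))) (.node (.node (.leaf 67895296) (.leaf 0)) (.node (.leaf 140279808) (.leaf 0)))) (.node (.node (.node (.leaf 44990464) (.leaf 48189374)) (.node (.leaf 125132800) (.leaf 0))) (.node (.node (.leaf 88621056) (.leaf 0)) (.node (.leaf 93827585) (.leaf 0))))))) (.node (.node (.node (.node (.node (.node (.leaf 4308992) (.leaf 78312272)) (.node (.leaf 6661744) (.leaf 0))) (.node (.node (.leaf 53723136) (.leaf 0)) (.node (.leaf 131121152) (.leaf 0)))) (.node (.node (.node (.leaf 25485312) (.leaf 111494438)) (.node (.leaf 114573312) (.leaf 0))) (.node (.node (.leaf 75759616) (.leaf 0)) (.node (.leaf 145129472) (.leaf 0))))) (.node (.node (.node (.node (.leaf 17334272) (.leaf 133928817)) (.node (.leaf 105480192) (.leaf 0))) (.node (.node (.leaf 51739453) (.leaf 0)) (.node (.leaf 138313728) (.leaf 0)))) (.node (.node (.node (.leaf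 42000384) (.leaf 74613375)) (.node (.leaf 123109376) (.leaf 0))) (.node (.node (.leaf 86056960) (.leaf 0)) (.node (.leaf 149317580) (.leaf 0)))))) (.node (.node (.node (.node (.node (.leaf 10854400) (.leaf 42406943)) (.node (.leaf 100794368) (.leaf 0))) (.node (.node (.leaf 59432960) (.leaf 0)) (.node (.leaf 134791168) (.leaf 0)))) (.node (.node (.node (.leaf 36052992) (.leaf 136951609)) (.node (.leaf 116623666) (.leaf 0))) (.node (.node (.leaf 64801231) (.leaf 0)) (.node (.leaf 135445397) (.leaf 0))))) (.node (.node (.node (.node (.leaf 23650304) (.leaf 151256056)) (.node (.leaf 110198784) (.leaf 0))) (.node (.node (.leaf 70443008) (.leaf 0)) (.node (.leaf 142032896) (.leaf 0)))) (.node (.node (.node (.leaf 18059317) (.leaf 79828301)) (.node (.leaf 127246336) (.leaf 0))) (.node (.node (.leaf 10920597) (.leaf 0)) (.node (.leaf 130991293) (.leaf 0)))))))) (.node (.node (.node (.node (.node (.node (.node (.leaf 2670592) (.leaf 88391797)) (.node (.leaf 94806016) (.leaf 0))) (.node (.node (.leaf 52322304)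 (.leaf 0)) (.node (.leaf 22167552) (.leaf 0)))) (.node (.node (.node (.leaf 28295168) (.leaf 94278255)) (.node (.leaf 113467392) (.leaf 0))) (.node (.node (.leaf 74399744) (.leaf 0)) (.node (.leaf 144392192) (.leaf 0))))) (.node (.node (.node (.node (.leaf 15695872) (.leaf 70109818)) (.node (.leaf 104185856) (.leaf 0))) (.node (.node (.leaf 63717376) (.leaf 0)) (.node (.leaf 137428992) (.leaf 0)))) (.node (.node (.node (.leaf 40534016) (.leaf 108689255)) (.node (.leaf 46360434) (.leaf 0))) (.node (.node (.leaf 84901888) (.leaf 0)) (.node (.leaf 119428191) (.leaf 0)))))) (.node (.node (.node (.node (.node (.leaf 9232384) (.leaf 156747117)) (.node (.leaf 3727360) (.leaf 0))) (.node (.node (.leaf 57950208) (.leaf 0)) (.node (.leaf 79336843) (.leaf 0)))) (.node (.node (.node (.leaf 34488320) (.leaf 157334526)) (.node (.leaf 117850112) (.leaf 0))) (.node (.node (.leaf 79708160) (.leaf 0)) (.node (.leaf 96087859) (.leaf 0))))) (.node (.node (.node (.node (.leaf 22085632) (.leaf 145369689)) (.node (.leaf 105691324)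 (.leaf 0))) (.node (.node (.leaf 69189632) (.leaf 0)) (.node (.leaf 140095187) (.leaf 0)))) (.node (.node (.node (.leaf 46522368) (.leaf 114353803)) (.node (.leaf 20661430) (.leaf 0))) (.node (.node (.leaf 51080731) (.leaf 0)) (.node (.leaf 138962773) (.leaf 0))))))) (.node (.node (.node (.node (.node (.node (.leaf 5963776) (.leaf 157335552)) (.node (.leaf 29912538) (.leaf 0))) (.node (.node (.leaf 13043887) (.leaf 0)) (.node (.leaf 132128768) (.leaf 0)))) (.node (.node (.node (.leaf 31440896) (.leaf 165281792)) (.node (.leaf 92062080) (.leaf 0))) (.node (.node (.leaf 77053952) (.leaf 0)) (.node (.leaf 146014208) (.leaf 0))))) (.node (.node (.node (.node (.leaf 18972672) (.leaf 161636352)) (.node (.leaf 106717184) (.leaf 0))) (.node (.node (.leaf 66469888) (.leaf 0)) (.node (.leaf 132630947) (.leaf 0)))) (.node (.node (.node (.leaf 2429962) (.leaf 130691586)) (.node (.leaf 88289519) (.leaf 0))) (.node (.node (.leaf 25246030) (.leaf 0)) (.node (.leaf 76070912) (.leaf 0)))))) (.node (.node (.node (.node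 (.node (.leaf 12451840) (.leaf 159531008)) (.node (.leaf 101998592) (.leaf 0))) (.node (.node (.leaf 60932096) (.leaf 0)) (.node (.leaf 90465231) (.leaf 0)))) (.node (.node (.node (.leaf 1024000) (.leaf 164856004)) (.node (.leaf 119881728) (.leaf 0))) (.node (.node (.leaf 48511270) (.leaf 0)) (.node (.leaf 149200896) (.leaf 0))))) (.node (.node (.node (.node (.leaf 25223168) (.leaf 17072886)) (.node (.leaf 62850800) (.leaf 0))) (.node (.node (.leaf 71753728) (.leaf 0)) (.node (.leaf 112203891) (.leaf 0)))) (.node (.node (.node (.leaf 49463296) (.leaf 155002957)) (.node (.leaf 27119436) (.leaf 0))) (.node (.node (.leaf 92291072) (.leaf 0)) (.node (.leaf 137519578) (.leaf 0))))))))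

def e0T77 : NT := .node (.node (.node (.node (.node (.node (.node (.node (.leaf 1007616) (.leaf 112489430)) (.node (.leaf 93650944) (.leaf 0))) (.node (.node (.leaf 50855936) (.leaf 0)) (.node (.leaf 129146880) (.leaf 0)))) (.node (.node (.node (.leaf 26763264) (.leaf 57047251)) (.node (.leaf 112345088) (.leaf 0))) (.node (.node (.leaf 73097216) (.leaf 0)) (.node (.leaf 143564800) (.leaf 0))))) (.node (.node (.node (.node (.leaf 14065664) (.leaf 123253332)) (.node (.leaf 47904861) (.leaf 0))) (.node (.node (.leaf 62316544) (.leaf 0)) (.node (.leaf 136585216) (.leaf 0)))) (.node (.node (.node (.leaf 39018496) (.leaf 80179851)) (.node (.leaf 54252869) (.leaf 0))) (.node (.node (.leaf 6903308) (.leaf 0)) (.node (.leaf 147355121) (.leaf 0)))))) (.node (.node (.node (.node (.node (.leaf 7610368) (.leaf 100477629)) (.node (.leaf 98369536) (.leaf 0))) (.node (.node (.leaf 42208958) (.leaf 0)) (.node (.leaf 132988928) (.leaf 0)))) (.node (.node (.node (.leaf 32997376) (.leaf 137990367)) (.node (.leaf 116760576)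 (.leaf 0))) (.node (.node (.leaf 78405632) (.leaf 0)) (.node (.leaf 146874368) (.leaf 0))))) (.node (.node (.node (.node (.leaf 20602880) (.leaf 117023042)) (.node (.leaf 107913216) (.leaf 0))) (.node (.node (.leaf 51593472) (.leaf 0)) (.node (.leaf 140288000) (.leaf 0)))) (.node (.node (.node (.leaf 44998656) (.leaf 151335388)) (.node (.leaf 120586763) (.leaf 0))) (.node (.node (.leaf 88637440) (.leaf 0)) (.node (.leaf 126358607) (.leaf 0))))))) (.node (.node (.node (.node (.node (.node (.leaf 4325376) (.leaf 107050345)) (.node (.leaf 96043008) (.leaf 0))) (.node (.node (.leaf 53731328) (.leaf 0)) (.node (.leaf 131137536) (.leaf 0)))) (.node (.node (.node (.leaf 29868032) (.leaf 164929536)) (.node (.leaf 91243309) (.leaf 0))) (.node (.node (.leaf 27298409) (.leaf 0)) (.node (.leaf 93408072) (.leaf 0))))) (.node (.node (.node (.node (.leaf 17342464) (.leaf 93721696)) (.node (.leaf 105496576) (.leaf 0))) (.node (.node (.leaf 65052672) (.leaf 0)) (.node (.leaf 138321920) (.leaf 0)))) (.node (.node (.node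 (.leaf 42008576) (.leaf 149218904)) (.node (.leaf 47399267) (.leaf 0))) (.node (.node (.leaf 86065152) (.leaf 0)) (.node (.leaf 140715932) (.leaf 0)))))) (.node (.node (.node (.node (.node (.leaf 10870784) (.leaf 158982144)) (.node (.leaf 100810752) (.leaf 0))) (.node (.node (.leaf 59441152) (.leaf 0)) (.node (.leaf 122768489) (.leaf 0)))) (.node (.node (.node (.leaf 36061184) (.leaf 166387712)) (.node (.leaf 118906880) (.leaf 0))) (.node (.node (.leaf 4780447) (.leaf 0)) (.node (.leaf 148422656) (.leaf 0))))) (.node (.node (.node (.node (.leaf 23658496) (.leaf 30886629)) (.node (.leaf 110206976) (.leaf 0))) (.node (.node (.leaf 70459392) (.leaf 0)) (.node (.leaf 142041088) (.leaf 0)))) (.node (.node (.node (.leaf 2815168) (.leaf 158144193)) (.node (.leaf 127262720) (.leaf 0))) (.node (.node (.leaf 91095040) (.leaf 0)) (.node (.leaf 154198016) (.leaf 0)))))))) (.node (.node (.node (.node (.node (.node (.node (.leaf 2678784) (.leaf 156155904)) (.node (.leaf 94814208) (.leaf 0))) (.node (.node (.leaf 52338688)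 (.leaf 0)) (.node (.leaf 130129920) (.leaf 0)))) (.node (.node (.node (.leaf 28311552) (.leaf 125576318)) (.node (.leaf 113475584) (.leaf 0))) (.node (.node (.leaf 74416128) (.leaf 0)) (.node (.leaf 19306182) (.leaf 0))))) (.node (.node (.node (.node (.leaf 15712256) (.leaf 142955668)) (.node (.leaf 104202240) (.leaf 0))) (.node (.node (.leaf 23822888) (.leaf 0)) (.node (.leaf 130051468) (.leaf 0)))) (.node (.node (.node (.leaf 13180928) (.leaf 45687204)) (.node (.leaf 122060800) (.leaf 0))) (.node (.node (.leaf 33010796) (.leaf 0)) (.node (.leaf 150724608) (.leaf 0)))))) (.node (.node (.node (.node (.node (.leaf 9248768) (.leaf 71120402)) (.node (.leaf 99590144) (.leaf 0))) (.node (.node (.leaf 57966592) (.leaf 0)) (.node (.leaf 109957638) (.leaf 0)))) (.node (.node (.node (.leaf 34496512) (.leaf 79077704)) (.node (.leaf 117866496) (.leaf 0))) (.node (.node (.leaf 79724544) (.leaf 0)) (.node (.leaf 115771377) (.leaf 0))))) (.node (.node (.node (.node (.leaf 22102016) (.leaf 162660352)) (.node (.leaf 109060096)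 (.leaf 0))) (.node (.node (.leaf 2162688) (.leaf 0)) (.node (.leaf 141107200) (.leaf 0)))) (.node (.node (.node (.leaf 46538752) (.leaf 79886033)) (.node (.leaf 48240312) (.leaf 0))) (.node (.node (.leaf 36909122) (.leaf 0)) (.node (.leaf 88602313) (.leaf 0))))))) (.node (.node (.node (.node (.node (.node (.leaf 5971968) (.leaf 153802761)) (.node (.leaf 9043968) (.leaf 0))) (.node (.node (.leaf 55107584) (.leaf 0)) (.node (.leaf 38258618) (.leaf 0)))) (.node (.node (.node (.leaf 31457280) (.leaf 151268211)) (.node (.leaf 115720192) (.leaf 0))) (.node (.node (.leaf 77070336) (.leaf 0)) (.node (.leaf 146030592) (.leaf 0))))) (.node (.node (.node (.node (.leaf 18980864) (.leaf 147338777)) (.node (.leaf 106733568) (.leaf 0))) (.node (.node (.leaf 66486272) (.leaf 0)) (.node (.leaf 86881596) (.leaf 0)))) (.node (.node (.node (.leaf 43483136) (.leaf 160761695)) (.node (.leaf 124076032) (.leaf 0))) (.node (.node (.leaf 4452110) (.leaf 0)) (.node (.leaf 90813701) (.leaf 0)))))) (.node (.node (.node (.node (.node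 (.leaf 12468224) (.leaf 150258646)) (.node (.leaf 6529024) (.leaf 0))) (.node (.node (.leaf 60948480) (.leaf 0)) (.node (.leaf 102370784) (.leaf 0)))) (.node (.node (.node (.leaf 37593088) (.leaf 159110546)) (.node (.leaf 8972284) (.leaf 0))) (.node (.node (.leaf 82321408) (.leaf 0)) (.node (.leaf 68192646) (.leaf 0))))) (.node (.node (.node (.node (.leaf 25231360) (.leaf 163471360)) (.node (.leaf 111239168) (.leaf 0))) (.node (.node (.leaf 71761920) (.leaf 0)) (.node (.leaf 142835712) (.leaf 0)))) (.node (.node (.node (.leaf 33085863) (.leaf 66006565)) (.node (.leaf 128212992) (.leaf 0))) (.node (.node (.leaf 92307456) (.leaf 0)) (.node (.leaf 76276082) (.leaf 0))))))))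

def e0T78 : NT := .node (.node (.node (.node (.node (.node (.node (.node (.leaf 1015808) (.leaf 155500544)) (.node (.leaf 93659136) (.leaf 0))) (.node (.node (.leaf 50872320) (.leaf 0)) (.node (.leaf 76196811) (.leaf 0)))) (.node (.node (.node (.leaf 26771456) (.leaf 151222198)) (.node (.leaf 112353280) (.leaf 0))) (.node (.node (.leaf 52657195) (.leaf 0)) (.node (.leaf 101760128) (.leaf 0))))) (.node (.node (.node (.node (.leaf 14082048) (.leaf 87090176)) (.node (.leaf 8524262) (.leaf 0))) (.node (.node (.leaf 62324736) (.leaf 0)) (.node (.leaf 49334635) (.leaf 0)))) (.node (.node (.node (.leaf 39026688) (.leaf 44406065)) (.node (.leaf 120987648) (.leaf 0))) (.node (.node (.leaf 83648512) (.leaf 0)) (.node (.leaf 149954560) (.leaf 0)))))) (.node (.node (.node (.node (.node (.leaf 7626752) (.leaf 157900800)) (.node (.leaf 98377728) (.leaf 0))) (.node (.node (.leaf 56492032) (.leaf 0)) (.node (.leaf 132997120) (.leaf 0)))) (.node (.node (.node (.leaf 31937599) (.leaf 154838351)) (.node (.leaf 116776960)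 (.leaf 0))) (.node (.node (.leaf 3571712) (.leaf 0)) (.node (.leaf 95357247) (.leaf 0))))) (.node (.node (.node (.node (.leaf 20619264) (.leaf 114256613)) (.node (.leaf 107921408) (.leaf 0))) (.node (.node (.leaf 67911680) (.leaf 0)) (.node (.leaf 140296192) (.leaf 0)))) (.node (.node (.node (.leaf 45015040) (.leaf 161592278)) (.node (.leaf 125157376) (.leaf 0))) (.node (.node (.leaf 88645632) (.leaf 0)) (.node (.leaf 148764280) (.leaf 0))))))) (.node (.node (.node (.node (.node (.node (.leaf 4333568) (.leaf 14653611)) (.node (.leaf 96051200) (.leaf 0))) (.node (.node (.leaf 15066833) (.leaf 0)) (.node (.leaf 77305709) (.leaf 0)))) (.node (.node (.node (.leaf 29884416) (.leaf 164937728)) (.node (.leaf 111052185) (.leaf 0))) (.node (.node (.leaf 75776000) (.leaf 0)) (.node (.leaf 145137664) (.leaf 0))))) (.node (.node (.node (.node (.leaf 17358848) (.leaf 50130937)) (.node (.leaf 105512960) (.leaf 0))) (.node (.node (.leaf 65069056) (.leaf 0)) (.node (.leaf 33489051) (.leaf 0)))) (.node (.node (.node (.leaf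 17204475) (.leaf 119860133)) (.node (.leaf 123125760) (.leaf 0))) (.node (.node (.leaf 86073344) (.leaf 0)) (.node (.leaf 136236951) (.leaf 0)))))) (.node (.node (.node (.node (.node (.leaf 10878976) (.leaf 158990336)) (.node (.leaf 79612491) (.leaf 0))) (.node (.node (.leaf 59457536) (.leaf 0)) (.node (.leaf 70658522) (.leaf 0)))) (.node (.node (.node (.leaf 36077568) (.leaf 29921507)) (.node (.leaf 118915072) (.leaf 0))) (.node (.node (.leaf 80986112) (.leaf 0)) (.node (.leaf 148430848) (.leaf 0))))) (.node (.node (.node (.node (.leaf 23674880) (.leaf 154032071)) (.node (.leaf 110215168) (.leaf 0))) (.node (.node (.leaf 70467584) (.leaf 0)) (.node (.leaf 58814358) (.leaf 0)))) (.node (.node (.node (.leaf 47988736) (.leaf 104688258)) (.node (.leaf 92998368) (.leaf 0))) (.node (.node (.leaf 3227648) (.leaf 0)) (.node (.leaf 154214400) (.leaf 0)))))))) (.node (.node (.node (.node (.node (.node (.node (.leaf 2695168) (.leaf 26352472)) (.node (.leaf 75458378) (.leaf 0))) (.node (.node (.leaf 48376840) (.leaf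 0)) (.node (.leaf 83518281) (.leaf 0)))) (.node (.node (.node (.leaf 28327936) (.leaf 163246117)) (.node (.leaf 113483776) (.leaf 0))) (.node (.node (.leaf 74424320) (.leaf 0)) (.node (.leaf 47996928) (.leaf 0))))) (.node (.node (.node (.node (.leaf 7688718) (.leaf 160636928)) (.node (.leaf 104210432) (.leaf 0))) (.node (.node (.leaf 40831081) (.leaf 0)) (.node (.leaf 97089466) (.leaf 0)))) (.node (.node (.node (.leaf 1514533) (.leaf 167239680)) (.node (.leaf 122077184) (.leaf 0))) (.node (.node (.leaf 80343815) (.leaf 0)) (.node (.leaf 150732800) (.leaf 0)))))) (.node (.node (.node (.node (.node (.leaf 9256960) (.leaf 141024085)) (.node (.leaf 99598336) (.leaf 0))) (.node (.node (.leaf 57974784) (.leaf 0)) (.node (.leaf 133873664) (.leaf 0)))) (.node (.node (.node (.leaf 34504704) (.leaf 126334576)) (.node (.leaf 117874688) (.leaf 0))) (.node (.node (.leaf 40080191) (.leaf 0)) (.node (.leaf 140637776) (.leaf 0))))) (.node (.node (.node (.node (.leaf 2297068) (.leaf 154775538)) (.node (.leaf 109068288)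 (.leaf 0))) (.node (.node (.leaf 48308862) (.leaf 0)) (.node (.leaf 74593992) (.leaf 0)))) (.node (.node (.node (.leaf 46555136) (.leaf 157281448)) (.node (.leaf 5877608) (.leaf 0))) (.node (.node (.leaf 89899008) (.leaf 0)) (.node (.leaf 153468928) (.leaf 0))))))) (.node (.node (.node (.node (.node (.node (.leaf 5988352) (.leaf 139527336)) (.node (.leaf 97222656) (.leaf 0))) (.node (.node (.leaf 55123968) (.leaf 0)) (.node (.leaf 132145152) (.leaf 0)))) (.node (.node (.node (.leaf 31465472) (.leaf 117541648)) (.node (.leaf 97904807) (.leaf 0))) (.node (.node (.leaf 77078528) (.leaf 0)) (.node (.leaf 146038784) (.leaf 0))))) (.node (.node (.node (.node (.leaf 18997248) (.leaf 158183284)) (.node (.leaf 106741760) (.leaf 0))) (.node (.node (.leaf 66502656) (.leaf 0)) (.node (.leaf 139264000) (.leaf 0)))) (.node (.node (.node (.leaf 43491328) (.leaf 146146636)) (.node (.leaf 100862602) (.leaf 0))) (.node (.node (.leaf 87318528) (.leaf 0)) (.node (.leaf 115640191) (.leaf 0)))))) (.node (.node (.node (.node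 (.node (.leaf 12484608) (.leaf 72872502)) (.node (.leaf 44251120) (.leaf 0))) (.node (.node (.leaf 60964864) (.leaf 0)) (.node (.leaf 135733248) (.leaf 0)))) (.node (.node (.node (.leaf 37601280) (.leaf 165410153)) (.node (.leaf 115169845) (.leaf 0))) (.node (.node (.leaf 82329600) (.leaf 0)) (.node (.leaf 140951552) (.leaf 0))))) (.node (.node (.node (.node (.leaf 25247744) (.leaf 138569437)) (.node (.leaf 111247360) (.leaf 0))) (.node (.node (.leaf 71770112) (.leaf 0)) (.node (.leaf 142843904) (.leaf 0)))) (.node (.node (.node (.leaf 49479680) (.leaf 99583129)) (.node (.leaf 39682806) (.leaf 0))) (.node (.node (.leaf 92323840) (.leaf 0)) (.node (.leaf 48116122) (.leaf 0))))))))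

def e0T79 : NT := .node (.node (.node (.node (.node (.node (.node (.node (.leaf 1032192) (.leaf 155516928)) (.node (.leaf 93667328) (.leaf 0))) (.node (.node (.leaf 50880512) (.leaf 0)) (.node (.leaf 129163264) (.leaf 0)))) (.node (.node (.node (.leaf 26779648) (.leaf 79167541)) (.node (.leaf 112361472) (.leaf 0))) (.node (.node (.leaf 73113600) (.leaf 0)) (.node (.leaf 143572992) (.leaf 0))))) (.node (.node (.node (.node (.leaf 352256) (.leaf 14896250)) (.node (.leaf 103096320) (.leaf 0))) (.node (.node (.leaf 16259435) (.leaf 0)) (.node (.leaf 119597248) (.leaf 0)))) (.node (.node (.node (.leaf 39043072) (.leaf 132043258)) (.node (.leaf 74812517) (.leaf 0))) (.node (.node (.leaf 83656704) (.leaf 0)) (.node (.leaf 53465121) (.leaf 0)))))) (.node (.node (.node (.node (.node (.leaf 7643136) (.leaf 144285758)) (.node (.leaf 98385920) (.leaf 0))) (.node (.node (.leaf 42020384) (.leaf 0)) (.node (.leaf 117632516) (.leaf 0)))) (.node (.node (.node (.leaf 33013760) (.leaf 165642240)) (.node (.leaf 116785152)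 (.leaf 0))) (.node (.node (.leaf 78422016) (.leaf 0)) (.node (.leaf 146890752) (.leaf 0))))) (.node (.node (.node (.node (.leaf 20627456) (.leaf 127787340)) (.node (.leaf 107929600) (.leaf 0))) (.node (.node (.leaf 67928064) (.leaf 0)) (.node (.leaf 92695948) (.leaf 0)))) (.node (.node (.node (.leaf 45031424) (.leaf 167142742)) (.node (.leaf 125173760) (.leaf 0))) (.node (.node (.leaf 88653824) (.leaf 0)) (.node (.leaf 128903897) (.leaf 0))))))) (.node (.node (.node (.node (.node (.node (.leaf 4349952) (.leaf 151343207)) (.node (.leaf 96059392) (.leaf 0))) (.node (.node (.leaf 53739520) (.leaf 0)) (.node (.leaf 131145728) (.leaf 0)))) (.node (.node (.node (.leaf 29892608) (.leaf 51172055)) (.node (.leaf 64857481) (.leaf 0))) (.node (.node (.leaf 75792384) (.leaf 0)) (.node (.leaf 129331644) (.leaf 0))))) (.node (.node (.node (.node (.leaf 17367040) (.leaf 143947400)) (.node (.leaf 11843782) (.leaf 0))) (.node (.node (.leaf 65077248) (.leaf 0)) (.node (.leaf 138338304) (.leaf 0)))) (.node (.node (.node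 (.leaf 42033152) (.leaf 162133682)) (.node (.leaf 123133952) (.leaf 0))) (.node (.node (.leaf 86081536) (.leaf 0)) (.node (.leaf 54946480) (.leaf 0)))))) (.node (.node (.node (.node (.node (.leaf 10887168) (.leaf 99710228)) (.node (.leaf 13572874) (.leaf 0))) (.node (.node (.leaf 59465728) (.leaf 0)) (.node (.leaf 8455365) (.leaf 0)))) (.node (.node (.node (.leaf 4541437) (.leaf 80464745)) (.node (.leaf 118923264) (.leaf 0))) (.node (.node (.leaf 80994304) (.leaf 0)) (.node (.leaf 145345244) (.leaf 0))))) (.node (.node (.node (.node (.leaf 23683072) (.leaf 109896405)) (.node (.leaf 110223360) (.leaf 0))) (.node (.node (.leaf 58562387) (.leaf 0)) (.node (.leaf 122662101) (.leaf 0)))) (.node (.node (.node (.leaf 48005120) (.leaf 92037274)) (.node (.leaf 127270912) (.leaf 0))) (.node (.node (.leaf 91119616) (.leaf 0)) (.node (.leaf 100885031) (.leaf 0)))))))) (.node (.node (.node (.node (.node (.node (.node (.leaf 2711552) (.leaf 140248393)) (.node (.leaf 94822400) (.leaf 0))) (.node (.node (.leaf 52363264)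 (.leaf 0)) (.node (.leaf 65127523) (.leaf 0)))) (.node (.node (.node (.leaf 28344320) (.leaf 91513096)) (.node (.leaf 113491968) (.leaf 0))) (.node (.node (.leaf 74440704) (.leaf 0)) (.node (.leaf 102323028) (.leaf 0))))) (.node (.node (.node (.node (.leaf 15728640) (.leaf 160645120)) (.node (.leaf 4382720) (.leaf 0))) (.node (.node (.leaf 63733760) (.leaf 0)) (.node (.leaf 123756883) (.leaf 0)))) (.node (.node (.node (.leaf 40550400) (.leaf 42153905)) (.node (.leaf 122085376) (.leaf 0))) (.node (.node (.leaf 47351218) (.leaf 0)) (.node (.leaf 83634390) (.leaf 0)))))) (.node (.node (.node (.node (.node (.leaf 9273344) (.leaf 158359552)) (.node (.leaf 99606528) (.leaf 0))) (.node (.node (.leaf 57991168) (.leaf 0)) (.node (.leaf 133881856) (.leaf 0)))) (.node (.node (.node (.leaf 34521088) (.leaf 141433354)) (.node (.leaf 117882880) (.leaf 0))) (.node (.node (.leaf 79740928) (.leaf 0)) (.node (.leaf 147636224) (.leaf 0))))) (.node (.node (.node (.node (.leaf 22118400) (.leaf 148440244)) (.node (.leaf 80973304)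 (.leaf 0))) (.node (.node (.leaf 69206016) (.leaf 0)) (.node (.leaf 141131776) (.leaf 0)))) (.node (.node (.node (.leaf 46563328) (.leaf 148384030)) (.node (.leaf 126246912) (.leaf 0))) (.node (.node (.leaf 89907200) (.leaf 0)) (.node (.leaf 153477120) (.leaf 0))))))) (.node (.node (.node (.node (.node (.node (.leaf 4249434) (.leaf 129270042)) (.node (.leaf 60479682) (.leaf 0))) (.node (.node (.leaf 23797760) (.leaf 0)) (.node (.leaf 67135757) (.leaf 0)))) (.node (.node (.node (.leaf 31481856) (.leaf 165306368)) (.node (.leaf 47105138) (.leaf 0))) (.node (.node (.leaf 77086720) (.leaf 0)) (.node (.leaf 64313503) (.leaf 0))))) (.node (.node (.node (.node (.leaf 19013632) (.leaf 161644544)) (.node (.leaf 106749952) (.leaf 0))) (.node (.node (.leaf 66510848) (.leaf 0)) (.node (.leaf 121717777) (.leaf 0)))) (.node (.node (.node (.leaf 43507712) (.leaf 110004550)) (.node (.leaf 81514248) (.leaf 0))) (.node (.node (.leaf 87334912) (.leaf 0)) (.node (.leaf 152150016) (.leaf 0)))))) (.node (.node (.node (.node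 (.node (.leaf 12492800) (.leaf 109984539)) (.node (.leaf 24189098) (.leaf 0))) (.node (.node (.leaf 60973056) (.leaf 0)) (.node (.leaf 135741440) (.leaf 0)))) (.node (.node (.node (.leaf 37617664) (.leaf 156276569)) (.node (.leaf 119889920) (.leaf 0))) (.node (.node (.leaf 82337792) (.leaf 0)) (.node (.leaf 127108901) (.leaf 0))))) (.node (.node (.node (.node (.leaf 25264128) (.leaf 127283192)) (.node (.leaf 111255552) (.leaf 0))) (.node (.node (.leaf 71786496) (.leaf 0)) (.node (.leaf 107940590) (.leaf 0)))) (.node (.node (.node (.leaf 49487872) (.leaf 115670070)) (.node (.leaf 94070485) (.leaf 0))) (.node (.node (.leaf 92332032) (.leaf 0)) (.node (.leaf 86921155) (.leaf 0))))))))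

def e0T80 : NT := .node (.node (.node (.node (.node (.node (.node (.node (.leaf 1040384) (.leaf 43582908)) (.node (.leaf 40887194) (.leaf 0))) (.node (.node (.leaf 50896896) (.leaf 0)) (.node (.leaf 31430882) (.leaf 0)))) (.node (.node (.node (.leaf 1155579) (.leaf 163946496)) (.node (.leaf 52701706) (.leaf 0))) (.node (.node (.leaf 73129984) (.leaf 0)) (.node (.leaf 123222338) (.leaf 0))))) (.node (.node (.node (.node (.leaf 14098432) (.leaf 68493779)) (.node (.leaf 103104512) (.leaf 0))) (.node (.node (.leaf 62349312) (.leaf 0)) (.node (.leaf 136593408) (.leaf 0)))) (.node (.node (.node (.leaf 39059456) (.leaf 22113787)) (.node (.leaf 120995840) (.leaf 0))) (.node (.node (.leaf 83664896) (.leaf 0)) (.node (.leaf 89378614) (.leaf 0)))))) (.node (.node (.node (.node (.node (.leaf 7651328) (.leaf 96858799)) (.node (.leaf 98402304) (.leaf 0))) (.node (.node (.leaf 56508416) (.leaf 0)) (.node (.leaf 22593540) (.leaf 0)))) (.node (.node (.node (.leaf 26968241) (.leaf 163129911)) (.node (.leaf 116793344) (.leaf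 0))) (.node (.node (.leaf 78430208) (.leaf 0)) (.node (.leaf 145023120) (.leaf 0))))) (.node (.node (.node (.node (.leaf 20643840) (.leaf 27266601)) (.node (.leaf 24017723) (.leaf 0))) (.node (.node (.leaf 37166088) (.leaf 0)) (.node (.leaf 140312576) (.leaf 0)))) (.node (.node (.node (.leaf 45039616) (.leaf 163108440)) (.node (.leaf 125181952) (.leaf 0))) (.node (.node (.leaf 88662016) (.leaf 0)) (.node (.leaf 152780800) (.leaf 0))))))) (.node (.node (.node (.node (.node (.node (.leaf 4358144) (.leaf 56060499)) (.node (.leaf 96067584) (.leaf 0))) (.node (.node (.leaf 53755904) (.leaf 0)) (.node (.leaf 131153920) (.leaf 0)))) (.node (.node (.node (.leaf 29900800) (.leaf 64966286)) (.node (.leaf 91350879) (.leaf 0))) (.node (.node (.leaf 75800576) (.leaf 0)) (.node (.leaf 72203292) (.leaf 0))))) (.node (.node (.node (.node (.leaf 17383424) (.leaf 63148232)) (.node (.leaf 105529344) (.leaf 0))) (.node (.node (.leaf 19214514) (.leaf 0)) (.node (.leaf 135671496) (.leaf 0)))) (.node (.node (.node (.leaf 36143104)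 (.leaf 44447186)) (.node (.leaf 72797839) (.leaf 0))) (.node (.node (.leaf 27634218) (.leaf 0)) (.node (.leaf 151437312) (.leaf 0)))))) (.node (.node (.node (.node (.node (.leaf 10895360) (.leaf 28364326)) (.node (.leaf 100835328) (.leaf 0))) (.node (.node (.leaf 59482112) (.leaf 0)) (.node (.leaf 134815744) (.leaf 0)))) (.node (.node (.node (.leaf 36093952) (.leaf 139365750)) (.node (.leaf 118939648) (.leaf 0))) (.node (.node (.leaf 81010688) (.leaf 0)) (.node (.leaf 148447232) (.leaf 0))))) (.node (.node (.node (.node (.leaf 23699456) (.leaf 16440281)) (.node (.leaf 26641886) (.leaf 0))) (.node (.node (.leaf 70483968) (.leaf 0)) (.node (.leaf 70019058) (.leaf 0)))) (.node (.node (.node (.leaf 45367296) (.leaf 83481265)) (.node (.leaf 119990674) (.leaf 0))) (.node (.node (.leaf 91127808) (.leaf 0)) (.node (.leaf 154222592) (.leaf 0)))))))) (.node (.node (.node (.node (.node (.node (.node (.leaf 2719744) (.leaf 124184354)) (.node (.leaf 52474615) (.leaf 0))) (.node (.node (.leaf 35084951) (.leaf 0)) (.node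 (.leaf 130146304) (.leaf 0)))) (.node (.node (.node (.leaf 28352512) (.leaf 148901421)) (.node (.leaf 113500160) (.leaf 0))) (.node (.node (.leaf 74448896) (.leaf 0)) (.node (.leaf 105614390) (.leaf 0))))) (.node (.node (.node (.node (.leaf 15736832) (.leaf 107469941)) (.node (.leaf 104218624) (.leaf 0))) (.node (.node (.leaf 63750144) (.leaf 0)) (.node (.leaf 79151184) (.leaf 0)))) (.node (.node (.node (.leaf 40566784) (.leaf 167247872)) (.node (.leaf 24930627) (.leaf 0))) (.node (.node (.leaf 84918272) (.leaf 0)) (.node (.leaf 150740992) (.leaf 0)))))) (.node (.node (.node (.node (.node (.leaf 9281536) (.leaf 100236338)) (.node (.leaf 99614720) (.leaf 0))) (.node (.node (.leaf 57999360) (.leaf 0)) (.node (.leaf 29260008) (.leaf 0)))) (.node (.node (.node (.leaf 34537472) (.leaf 155054415)) (.node (.leaf 117899264) (.leaf 0))) (.node (.node (.leaf 79757312) (.leaf 0)) (.node (.leaf 147644416) (.leaf 0))))) (.node (.node (.node (.node (.leaf 22126592) (.leaf 162668544)) (.node (.leaf 109084672) (.leaf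 0))) (.node (.node (.leaf 69222400) (.leaf 0)) (.node (.leaf 125456334) (.leaf 0)))) (.node (.node (.node (.leaf 46579712) (.leaf 111853753)) (.node (.leaf 31950883) (.leaf 0))) (.node (.node (.leaf 89915392) (.leaf 0)) (.node (.leaf 143530849) (.leaf 0))))))) (.node (.node (.node (.node (.node (.node (.leaf 139264) (.leaf 157351936)) (.node (.leaf 97230848) (.leaf 0))) (.node (.node (.leaf 55140352) (.leaf 0)) (.node (.leaf 132161536) (.leaf 0)))) (.node (.node (.node (.leaf 31490048) (.leaf 138693421)) (.node (.leaf 25257056) (.leaf 0))) (.node (.node (.leaf 77103104) (.leaf 0)) (.node (.leaf 146046976) (.leaf 0))))) (.node (.node (.node (.node (.leaf 19021824) (.leaf 161652736)) (.node (.leaf 106758144) (.leaf 0))) (.node (.node (.leaf 66527232) (.leaf 0)) (.node (.leaf 139280384) (.leaf 0)))) (.node (.node (.node (.leaf 43515904) (.leaf 167608320)) (.node (.leaf 124108800) (.leaf 0))) (.node (.node (.leaf 87343104) (.leaf 0)) (.node (.leaf 152158208) (.leaf 0)))))) (.node (.node (.node (.node (.node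 (.leaf 12509184) (.leaf 12009472)) (.node (.leaf 35825518) (.leaf 0))) (.node (.node (.leaf 32135382) (.leaf 0)) (.node (.leaf 135757824) (.leaf 0)))) (.node (.node (.node (.leaf 37634048) (.leaf 75629752)) (.node (.leaf 31968783) (.leaf 0))) (.node (.node (.leaf 82354176) (.leaf 0)) (.node (.leaf 96506049) (.leaf 0))))) (.node (.node (.node (.node (.leaf 25272320) (.leaf 80891389)) (.node (.leaf 18196641) (.leaf 0))) (.node (.node (.leaf 71794688) (.leaf 0)) (.node (.leaf 142868480) (.leaf 0)))) (.node (.node (.node (.leaf 28670841) (.leaf 136899773)) (.node (.leaf 113703217) (.leaf 0))) (.node (.node (.leaf 92348416) (.leaf 0)) (.node (.leaf 106644753) (.leaf 0))))))))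

def e0T81 : NT := .node (.node (.node (.node (.node (.node (.node (.node (.leaf 1056768) (.leaf 155525120)) (.node (.leaf 93675520) (.leaf 0))) (.node (.node (.leaf 50913280) (.leaf 0)) (.node (.leaf 129179648) (.leaf 0)))) (.node (.node (.node (.leaf 26787840) (.leaf 144257926)) (.node (.leaf 112377856) (.leaf 0))) (.node (.node (.leaf 73146368) (.leaf 0)) (.node (.leaf 143589376) (.leaf 0))))) (.node (.node (.node (.node (.leaf 14106624) (.leaf 37771295)) (.node (.leaf 103112704) (.leaf 0))) (.node (.node (.leaf 62357504) (.leaf 0)) (.node (.leaf 136601600) (.leaf 0)))) (.node (.node (.node (.leaf 39075840) (.leaf 166081700)) (.node (.leaf 121012224) (.leaf 0))) (.node (.node (.leaf 38193329) (.leaf 0)) (.node (.leaf 141046377) (.leaf 0)))))) (.node (.node (.node (.node (.node (.leaf 7667712) (.leaf 147900300)) (.node (.leaf 36003840) (.leaf 0))) (.node (.node (.leaf 56524800) (.leaf 0)) (.node (.leaf 62620904) (.leaf 0)))) (.node (.node (.node (.leaf 33030144) (.leaf 60305585)) (.node (.leaf 29083314)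 (.leaf 0))) (.node (.node (.leaf 78446592) (.leaf 0)) (.node (.leaf 113054939) (.leaf 0))))) (.node (.node (.node (.node (.leaf 20652032) (.leaf 43264058)) (.node (.leaf 98097224) (.leaf 0))) (.node (.node (.leaf 67944448) (.leaf 0)) (.node (.leaf 72989183) (.leaf 0)))) (.node (.node (.node (.leaf 45056000) (.leaf 41068588)) (.node (.leaf 5644288) (.leaf 0))) (.node (.node (.leaf 88670208) (.leaf 0)) (.node (.leaf 152788992) (.leaf 0))))))) (.node (.node (.node (.node (.node (.node (.leaf 4374528) (.leaf 88319106)) (.node (.leaf 67846684) (.leaf 0))) (.node (.node (.leaf 53764096) (.leaf 0)) (.node (.leaf 131170304) (.leaf 0)))) (.node (.node (.node (.leaf 22485330) (.leaf 123005958)) (.node (.leaf 114597888) (.leaf 0))) (.node (.node (.leaf 75816960) (.leaf 0)) (.node (.leaf 113466178) (.leaf 0))))) (.node (.node (.node (.node (.leaf 17399808) (.leaf 21278337)) (.node (.leaf 105537536) (.leaf 0))) (.node (.node (.leaf 65093632) (.leaf 0)) (.node (.leaf 138354688) (.leaf 0)))) (.node (.node (.node (.leaf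 42041344) (.leaf 167324735)) (.node (.leaf 16600060) (.leaf 0))) (.node (.node (.leaf 61432046) (.leaf 0)) (.node (.leaf 149509863) (.leaf 0)))))) (.node (.node (.node (.node (.node (.leaf 10911744) (.leaf 158998528)) (.node (.leaf 100843520) (.leaf 0))) (.node (.node (.leaf 59498496) (.leaf 0)) (.node (.leaf 47629339) (.leaf 0)))) (.node (.node (.node (.leaf 36110336) (.leaf 93384758)) (.node (.leaf 118947840) (.leaf 0))) (.node (.node (.leaf 81018880) (.leaf 0)) (.node (.leaf 148455424) (.leaf 0))))) (.node (.node (.node (.node (.leaf 23715840) (.leaf 34972167)) (.node (.leaf 5470697) (.leaf 0))) (.node (.node (.leaf 70492160) (.leaf 0)) (.node (.leaf 66791068) (.leaf 0)))) (.node (.node (.node (.leaf 48021504) (.leaf 149073208)) (.node (.leaf 35046723) (.leaf 0))) (.node (.node (.leaf 32104613) (.leaf 0)) (.node (.leaf 99695366) (.leaf 0)))))))) (.node (.node (.node (.node (.node (.node (.node (.leaf 2736128) (.leaf 138000609)) (.node (.leaf 94830592) (.leaf 0))) (.node (.node (.leaf 52379648) (.leaf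 0)) (.node (.leaf 130154496) (.leaf 0)))) (.node (.node (.node (.leaf 28368896) (.leaf 164438016)) (.node (.leaf 113508352) (.leaf 0))) (.node (.node (.leaf 74457088) (.leaf 0)) (.node (.leaf 144416768) (.leaf 0))))) (.node (.node (.node (.node (.leaf 15753216) (.leaf 160661504)) (.node (.leaf 104235008) (.leaf 0))) (.node (.node (.leaf 63766528) (.leaf 0)) (.node (.leaf 137453568) (.leaf 0)))) (.node (.node (.node (.leaf 18950469) (.leaf 66861440)) (.node (.leaf 54668353) (.leaf 0))) (.node (.node (.leaf 84934656) (.leaf 0)) (.node (.leaf 71991535) (.leaf 0)))))) (.node (.node (.node (.node (.node (.leaf 9297920) (.leaf 132435836)) (.node (.leaf 99622912) (.leaf 0))) (.node (.node (.leaf 58015744) (.leaf 0)) (.node (.leaf 133890048) (.leaf 0)))) (.node (.node (.node (.leaf 34545664) (.leaf 166043648)) (.node (.leaf 117907456) (.leaf 0))) (.node (.node (.leaf 79765504) (.leaf 0)) (.node (.leaf 143904591) (.leaf 0))))) (.node (.node (.node (.node (.leaf 22142976) (.leaf 160839509)) (.node (.leaf 109092864)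 (.leaf 0))) (.node (.node (.leaf 63821084) (.leaf 0)) (.node (.leaf 121040934) (.leaf 0)))) (.node (.node (.node (.leaf 46587904) (.leaf 93149133)) (.node (.leaf 114621334) (.leaf 0))) (.node (.node (.leaf 89923584) (.leaf 0)) (.node (.leaf 153501696) (.leaf 0))))))) (.node (.node (.node (.node (.node (.node (.leaf 6012928) (.leaf 67630756)) (.node (.leaf 97239040) (.leaf 0))) (.node (.node (.leaf 55148544) (.leaf 0)) (.node (.leaf 132177920) (.leaf 0)))) (.node (.node (.node (.leaf 31506432) (.leaf 82698965)) (.node (.leaf 66960409) (.leaf 0))) (.node (.node (.leaf 77111296) (.leaf 0)) (.node (.leaf 146055168) (.leaf 0))))) (.node (.node (.node (.node (.leaf 19038208) (.leaf 155108160)) (.node (.leaf 106766336) (.leaf 0))) (.node (.node (.leaf 66543616) (.leaf 0)) (.node (.leaf 139296768) (.leaf 0)))) (.node (.node (.node (.leaf 43532288) (.leaf 167616512)) (.node (.leaf 124125184) (.leaf 0))) (.node (.node (.leaf 87351296) (.leaf 0)) (.node (.leaf 152166400) (.leaf 0)))))) (.node (.node (.node (.node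 (.node (.leaf 12525568) (.leaf 88115000)) (.node (.leaf 102014976) (.leaf 0))) (.node (.node (.leaf 60989440) (.leaf 0)) (.node (.leaf 135766016) (.leaf 0)))) (.node (.node (.node (.leaf 37642240) (.leaf 132985730)) (.node (.leaf 119914496) (.leaf 0))) (.node (.node (.leaf 82370560) (.leaf 0)) (.node (.leaf 25662494) (.leaf 0))))) (.node (.node (.node (.node (.leaf 25280512) (.leaf 54133770)) (.node (.leaf 111271936) (.leaf 0))) (.node (.node (.leaf 71811072) (.leaf 0)) (.node (.leaf 127801369) (.leaf 0)))) (.node (.node (.node (.leaf 49504256) (.leaf 134737910)) (.node (.leaf 128245760) (.leaf 0))) (.node (.node (.leaf 92356608) (.leaf 0)) (.node (.leaf 94457988) (.leaf 0))))))))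

def e0T82 : NT := .node (.node (.node (.node (.node (.node (.node (.node (.leaf 1073152) (.leaf 155533312)) (.node (.leaf 93691904) (.leaf 0))) (.node (.node (.leaf 50921472) (.leaf 0)) (.node (.leaf 64420316) (.leaf 0)))) (.node (.node (.node (.leaf 26804224) (.leaf 75773411)) (.node (.leaf 112386048) (.leaf 0))) (.node (.node (.leaf 73154560) (.leaf 0)) (.node (.leaf 115051047) (.leaf 0))))) (.node (.node (.node (.node (.leaf 14123008) (.leaf 160055296)) (.node (.leaf 3956736) (.leaf 0))) (.node (.node (.leaf 62373888) (.leaf 0)) (.node (.leaf 78965180) (.leaf 0)))) (.node (.node (.node (.leaf 39084032) (.leaf 167026688)) (.node (.leaf 13049856) (.leaf 0))) (.node (.node (.leaf 83689472) (.leaf 0)) (.node (.leaf 149962752) (.leaf 0)))))) (.node (.node (.node (.node (.node (.leaf 7675904) (.leaf 151295666)) (.node (.leaf 98410496) (.leaf 0))) (.node (.node (.leaf 56532992) (.leaf 0)) (.node (.leaf 39362976) (.leaf 0)))) (.node (.node (.node (.leaf 33046528) (.leaf 159923346)) (.node (.leaf 40560154)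 (.leaf 0))) (.node (.node (.leaf 43398740) (.leaf 0)) (.node (.leaf 16376589) (.leaf 0))))) (.node (.node (.node (.node (.leaf 1109621) (.leaf 47613264)) (.node (.leaf 107954176) (.leaf 0))) (.node (.node (.leaf 67960832) (.leaf 0)) (.node (.leaf 17955798) (.leaf 0)))) (.node (.node (.node (.leaf 45072384) (.leaf 166401677)) (.node (.leaf 125198336) (.leaf 0))) (.node (.node (.leaf 88686592) (.leaf 0)) (.node (.leaf 152797184) (.leaf 0))))))) (.node (.node (.node (.node (.node (.node (.leaf 4390912) (.leaf 156762112)) (.node (.leaf 77161569) (.leaf 0))) (.node (.node (.leaf 15484154) (.leaf 0)) (.node (.leaf 131178496) (.leaf 0)))) (.node (.node (.node (.leaf 29925376) (.leaf 22814882)) (.node (.leaf 114606080) (.leaf 0))) (.node (.node (.leaf 75833344) (.leaf 0)) (.node (.leaf 145154048) (.leaf 0))))) (.node (.node (.node (.node (.leaf 17408000) (.leaf 114203444)) (.node (.leaf 105553920) (.leaf 0))) (.node (.node (.leaf 65110016) (.leaf 0)) (.node (.leaf 138362880) (.leaf 0)))) (.node (.node (.node (.leaf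 42049536) (.leaf 57603413)) (.node (.leaf 123158528) (.leaf 0))) (.node (.node (.leaf 86097920) (.leaf 0)) (.node (.leaf 105444511) (.leaf 0)))))) (.node (.node (.node (.node (.node (.leaf 10928128) (.leaf 54363628)) (.node (.leaf 77846299) (.leaf 0))) (.node (.node (.leaf 59506688) (.leaf 0)) (.node (.leaf 134823936) (.leaf 0)))) (.node (.node (.node (.leaf 36118528) (.leaf 120490697)) (.node (.leaf 118964224) (.leaf 0))) (.node (.node (.leaf 81035264) (.leaf 0)) (.node (.leaf 148463616) (.leaf 0))))) (.node (.node (.node (.node (.leaf 23724032) (.leaf 111512767)) (.node (.leaf 70529033) (.leaf 0))) (.node (.node (.leaf 9872488) (.leaf 0)) (.node (.leaf 142065664) (.leaf 0)))) (.node (.node (.node (.leaf 48037888) (.leaf 166617603)) (.node (.leaf 41509612) (.leaf 0))) (.node (.node (.leaf 74797499) (.leaf 0)) (.node (.leaf 66702472) (.leaf 0)))))))) (.node (.node (.node (.node (.node (.node (.node (.leaf 2752512) (.leaf 111792757)) (.node (.leaf 94846976) (.leaf 0))) (.node (.node (.leaf 52387840) (.leaf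 0)) (.node (.leaf 122917312) (.leaf 0)))) (.node (.node (.node (.leaf 28385280) (.leaf 161149178)) (.node (.leaf 18111364) (.leaf 0))) (.node (.node (.leaf 74473472) (.leaf 0)) (.node (.leaf 144424960) (.leaf 0))))) (.node (.node (.node (.node (.leaf 15769600) (.leaf 15165927)) (.node (.leaf 104243200) (.leaf 0))) (.node (.node (.leaf 7349894) (.leaf 0)) (.node (.leaf 137461760) (.leaf 0)))) (.node (.node (.node (.leaf 40574976) (.leaf 167256064)) (.node (.leaf 63132833) (.leaf 0))) (.node (.node (.leaf 51765248) (.leaf 0)) (.node (.leaf 150749184) (.leaf 0)))))) (.node (.node (.node (.node (.node (.leaf 9314304) (.leaf 158367744)) (.node (.leaf 99631104) (.leaf 0))) (.node (.node (.leaf 1736704) (.leaf 0)) (.node (.leaf 133898240) (.leaf 0)))) (.node (.node (.node (.leaf 34562048) (.leaf 17137664)) (.node (.leaf 117915648) (.leaf 0))) (.node (.node (.leaf 79781888) (.leaf 0)) (.node (.leaf 116018155) (.leaf 0))))) (.node (.node (.node (.node (.leaf 11866241) (.leaf 14329091)) (.node (.leaf 109101056)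 (.leaf 0))) (.node (.node (.leaf 69238784) (.leaf 0)) (.node (.leaf 141148160) (.leaf 0)))) (.node (.node (.node (.leaf 46604288) (.leaf 107356382)) (.node (.leaf 126271488) (.leaf 0))) (.node (.node (.leaf 89931776) (.leaf 0)) (.node (.leaf 150959833) (.leaf 0))))))) (.node (.node (.node (.node (.node (.node (.leaf 6021120) (.leaf 11149312)) (.node (.leaf 40528545) (.leaf 0))) (.node (.node (.leaf 55164928) (.leaf 0)) (.node (.leaf 55555593) (.leaf 0)))) (.node (.node (.node (.leaf 31522816) (.leaf 165314560)) (.node (.leaf 115744768) (.leaf 0))) (.node (.node (.leaf 77127680) (.leaf 0)) (.node (.leaf 146063360) (.leaf 0))))) (.node (.node (.node (.node (.leaf 19046400) (.leaf 43600463)) (.node (.leaf 106782720) (.leaf 0))) (.node (.node (.leaf 2056192) (.leaf 0)) (.node (.leaf 117559846) (.leaf 0)))) (.node (.node (.node (.leaf 43548672) (.leaf 167482691)) (.node (.leaf 124133376) (.leaf 0))) (.node (.node (.leaf 87359488) (.leaf 0)) (.node (.leaf 117192324) (.leaf 0)))))) (.node (.node (.node (.node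 (.node (.leaf 12533760) (.leaf 152584881)) (.node (.leaf 102023168) (.leaf 0))) (.node (.node (.leaf 36821728) (.leaf 0)) (.node (.leaf 135774208) (.leaf 0)))) (.node (.node (.node (.leaf 37658624) (.leaf 157994192)) (.node (.leaf 5169152) (.leaf 0))) (.node (.node (.leaf 82378752) (.leaf 0)) (.node (.leaf 118115286) (.leaf 0))))) (.node (.node (.node (.node (.leaf 25288704) (.leaf 126655245)) (.node (.leaf 111288320) (.leaf 0))) (.node (.node (.leaf 71819264) (.leaf 0)) (.node (.leaf 142884864) (.leaf 0)))) (.node (.node (.node (.leaf 49512448) (.leaf 107127525)) (.node (.leaf 128253952) (.leaf 0))) (.node (.node (.leaf 84444714) (.leaf 0)) (.node (.leaf 154828800) (.leaf 0))))))))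

def e0T83 : NT := .node (.node (.node (.node (.node (.node (.node (.node (.leaf 1081344) (.leaf 155549696)) (.node (.leaf 93708288) (.leaf 0))) (.node (.node (.leaf 50937856) (.leaf 0)) (.node (.leaf 129196032) (.leaf 0)))) (.node (.node (.node (.leaf 26820608) (.leaf 48789383)) (.node (.leaf 112394240) (.leaf 0))) (.node (.node (.leaf 73162752) (.leaf 0)) (.node (.leaf 143597568) (.leaf 0))))) (.node (.node (.node (.node (.leaf 3681516) (.leaf 50275845)) (.node (.leaf 32442188) (.leaf 0))) (.node (.node (.leaf 62390272) (.leaf 0)) (.node (.leaf 79444868) (.leaf 0)))) (.node (.node (.node (.leaf 39100416) (.leaf 167034880)) (.node (.leaf 121028608) (.leaf 0))) (.node (.node (.leaf 21317234) (.leaf 0)) (.node (.leaf 149979136) (.leaf 0)))))) (.node (.node (.node (.node (.node (.leaf 7692288) (.leaf 156103239)) (.node (.leaf 98418688) (.leaf 0))) (.node (.node (.leaf 56549376) (.leaf 0)) (.node (.leaf 133005312) (.leaf 0)))) (.node (.node (.node (.leaf 33054720) (.leaf 52068602)) (.node (.leaf 116809728)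 (.leaf 0))) (.node (.node (.leaf 78462976) (.leaf 0)) (.node (.leaf 146915328) (.leaf 0))))) (.node (.node (.node (.node (.leaf 20668416) (.leaf 125822374)) (.node (.leaf 107962368) (.leaf 0))) (.node (.node (.leaf 67969024) (.leaf 0)) (.node (.leaf 140328960) (.leaf 0)))) (.node (.node (.node (.leaf 45080576) (.leaf 167804928)) (.node (.leaf 125206528) (.leaf 0))) (.node (.node (.leaf 35668242) (.leaf 0)) (.node (.leaf 152813568) (.leaf 0))))))) (.node (.node (.node (.node (.node (.node (.leaf 4399104) (.leaf 156770304)) (.node (.leaf 96075776) (.leaf 0))) (.node (.node (.leaf 53788672) (.leaf 0)) (.node (.leaf 31451503) (.leaf 0)))) (.node (.node (.node (.leaf 29933568) (.leaf 31065336)) (.node (.leaf 38217706) (.leaf 0))) (.node (.node (.leaf 75849728) (.leaf 0)) (.node (.leaf 145162240) (.leaf 0))))) (.node (.node (.node (.node (.leaf 17424384) (.leaf 103411027)) (.node (.leaf 105562112) (.leaf 0))) (.node (.node (.leaf 65118208) (.leaf 0)) (.node (.leaf 138371072) (.leaf 0)))) (.node (.node (.node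 (.leaf 42065920) (.leaf 162078950)) (.node (.leaf 123166720) (.leaf 0))) (.node (.node (.leaf 86106112) (.leaf 0)) (.node (.leaf 151470080) (.leaf 0)))))) (.node (.node (.node (.node (.node (.leaf 10936320) (.leaf 134500834)) (.node (.leaf 100868096) (.leaf 0))) (.node (.node (.leaf 59523072) (.leaf 0)) (.node (.leaf 134832128) (.leaf 0)))) (.node (.node (.node (.leaf 36134912) (.leaf 166404096)) (.node (.leaf 33964384) (.leaf 0))) (.node (.node (.leaf 81043456) (.leaf 0)) (.node (.leaf 148471808) (.leaf 0))))) (.node (.node (.node (.node (.leaf 23740416) (.leaf 160203745)) (.node (.leaf 110247936) (.leaf 0))) (.node (.node (.leaf 70508544) (.leaf 0)) (.node (.leaf 92480706) (.leaf 0)))) (.node (.node (.node (.leaf 48046080) (.leaf 167993344)) (.node (.leaf 127303680) (.leaf 0))) (.node (.node (.leaf 91152384) (.leaf 0)) (.node (.leaf 44897079) (.leaf 0)))))))) (.node (.node (.node (.node (.node (.node (.node (.leaf 2760704) (.leaf 60724459)) (.node (.leaf 3424256) (.leaf 0))) (.node (.node (.leaf 27848170)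 (.leaf 0)) (.node (.leaf 128778240) (.leaf 0)))) (.node (.node (.node (.leaf 10704032) (.leaf 92964306)) (.node (.leaf 113524736) (.leaf 0))) (.node (.node (.leaf 74489856) (.leaf 0)) (.node (.leaf 144433152) (.leaf 0))))) (.node (.node (.node (.node (.leaf 15777792) (.leaf 160669696)) (.node (.leaf 104259584) (.leaf 0))) (.node (.node (.leaf 38777751) (.leaf 0)) (.node (.leaf 137469952) (.leaf 0)))) (.node (.node (.node (.leaf 40591360) (.leaf 107516487)) (.node (.leaf 77099667) (.leaf 0))) (.node (.node (.leaf 84951040) (.leaf 0)) (.node (.leaf 150765568) (.leaf 0)))))) (.node (.node (.node (.node (.node (.leaf 9322496) (.leaf 138470469)) (.node (.leaf 99639296) (.leaf 0))) (.node (.node (.leaf 58040320) (.leaf 0)) (.node (.leaf 47814543) (.leaf 0)))) (.node (.node (.node (.leaf 34578432) (.leaf 159020060)) (.node (.leaf 117932032) (.leaf 0))) (.node (.node (.leaf 79798272) (.leaf 0)) (.node (.leaf 62341442) (.leaf 0))))) (.node (.node (.node (.node (.leaf 22159360) (.leaf 48875222)) (.node (.leaf 109117440)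 (.leaf 0))) (.node (.node (.leaf 69246976) (.leaf 0)) (.node (.leaf 141156352) (.leaf 0)))) (.node (.node (.node (.leaf 24101373) (.leaf 73387787)) (.node (.leaf 87958279) (.leaf 0))) (.node (.node (.leaf 89939968) (.leaf 0)) (.node (.leaf 129560137) (.leaf 0))))))) (.node (.node (.node (.node (.node (.node (.leaf 6037504) (.leaf 80634458)) (.node (.leaf 97255424) (.leaf 0))) (.node (.node (.leaf 55181312) (.leaf 0)) (.node (.leaf 103222726) (.leaf 0)))) (.node (.node (.node (.leaf 31531008) (.leaf 165322752)) (.node (.leaf 115752960) (.leaf 0))) (.node (.node (.leaf 77135872) (.leaf 0)) (.node (.leaf 146079744) (.leaf 0))))) (.node (.node (.node (.node (.leaf 19062784) (.leaf 141390957)) (.node (.leaf 106790912) (.leaf 0))) (.node (.node (.leaf 47559863) (.leaf 0)) (.node (.leaf 96640165) (.leaf 0)))) (.node (.node (.node (.leaf 43556864) (.leaf 107818292)) (.node (.leaf 124141568) (.leaf 0))) (.node (.node (.leaf 87367680) (.leaf 0)) (.node (.leaf 152174592) (.leaf 0)))))) (.node (.node (.node (.node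 (.node (.leaf 12550144) (.leaf 159539200)) (.node (.leaf 102031360) (.leaf 0))) (.node (.node (.leaf 61014016) (.leaf 0)) (.node (.leaf 92559277) (.leaf 0)))) (.node (.node (.node (.leaf 37666816) (.leaf 148230253)) (.node (.leaf 80699547) (.leaf 0))) (.node (.node (.leaf 82395136) (.leaf 0)) (.node (.leaf 149241856) (.leaf 0))))) (.node (.node (.node (.node (.leaf 25305088) (.leaf 157878650)) (.node (.leaf 29665950) (.leaf 0))) (.node (.node (.leaf 71835648) (.leaf 0)) (.node (.leaf 141598720) (.leaf 0)))) (.node (.node (.node (.leaf 49528832) (.leaf 166295030)) (.node (.leaf 128262144) (.leaf 0))) (.node (.node (.leaf 8814714) (.leaf 0)) (.node (.leaf 104827671) (.leaf 0))))))))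

def e0T84 : NT := .node (.node (.node (.node (.node (.node (.node (.node (.leaf 1097728) (.leaf 119301098)) (.node (.leaf 8668450) (.leaf 0))) (.node (.node (.leaf 50946048) (.leaf 0)) (.node (.leaf 129212416) (.leaf 0)))) (.node (.node (.node (.leaf 26828800) (.leaf 36028896)) (.node (.leaf 7286187) (.leaf 0))) (.node (.node (.leaf 73179136) (.leaf 0)) (.node (.leaf 139614376) (.leaf 0))))) (.node (.node (.node (.node (.leaf 14139392) (.leaf 153618981)) (.node (.leaf 58640182) (.leaf 0))) (.node (.node (.leaf 62398464) (.leaf 0)) (.node (.leaf 86489478) (.leaf 0)))) (.node (.node (.node (.leaf 39108608) (.leaf 111232765)) (.node (.leaf 121044992) (.leaf 0))) (.node (.node (.leaf 83705856) (.leaf 0)) (.node (.leaf 70090967) (.leaf 0)))))) (.node (.node (.node (.node (.node (.leaf 7708672) (.leaf 142603078)) (.node (.leaf 98435072) (.leaf 0))) (.node (.node (.leaf 56557568) (.leaf 0)) (.node (.leaf 113867790) (.leaf 0)))) (.node (.node (.node (.leaf 33071104) (.leaf 165658624)) (.node (.leaf 116817920)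 (.leaf 0))) (.node (.node (.leaf 78479360) (.leaf 0)) (.node (.leaf 146931712) (.leaf 0))))) (.node (.node (.node (.node (.leaf 20684800) (.leaf 162185216)) (.node (.leaf 107978752) (.leaf 0))) (.node (.node (.leaf 67985408) (.leaf 0)) (.node (.leaf 78541000) (.leaf 0)))) (.node (.node (.node (.leaf 45096960) (.leaf 167548724)) (.node (.leaf 125222912) (.leaf 0))) (.node (.node (.leaf 88702976) (.leaf 0)) (.node (.leaf 14422277) (.leaf 0))))))) (.node (.node (.node (.node (.node (.node (.leaf 4415488) (.leaf 156778496)) (.node (.leaf 96092160) (.leaf 0))) (.node (.node (.leaf 53796864) (.leaf 0)) (.node (.leaf 131194880) (.leaf 0)))) (.node (.node (.node (.leaf 29949952) (.leaf 148796436)) (.node (.leaf 114630656) (.leaf 0))) (.node (.node (.leaf 31191553) (.leaf 0)) (.node (.leaf 145178624) (.leaf 0))))) (.node (.node (.node (.node (.leaf 17440768) (.leaf 26418019)) (.node (.leaf 105578496) (.leaf 0))) (.node (.node (.leaf 65134592) (.leaf 0)) (.node (.leaf 85726340) (.leaf 0)))) (.node (.node (.node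 (.leaf 42074112) (.leaf 164369902)) (.node (.leaf 123174912) (.leaf 0))) (.node (.node (.leaf 86122496) (.leaf 0)) (.node (.leaf 75400737) (.leaf 0)))))) (.node (.node (.node (.node (.node (.leaf 10952704) (.leaf 156347835)) (.node (.leaf 100876288) (.leaf 0))) (.node (.node (.leaf 59531264) (.leaf 0)) (.node (.leaf 134848512) (.leaf 0)))) (.node (.node (.node (.leaf 36151296) (.leaf 157961951)) (.node (.leaf 69394652) (.leaf 0))) (.node (.node (.leaf 81059840) (.leaf 0)) (.node (.leaf 12032792) (.leaf 0))))) (.node (.node (.node (.node (.leaf 23748608) (.leaf 163069952)) (.node (.leaf 110264320) (.leaf 0))) (.node (.node (.leaf 70516736) (.leaf 0)) (.node (.leaf 142073856) (.leaf 0)))) (.node (.node (.node (.leaf 48062464) (.leaf 125110977)) (.node (.leaf 52896434) (.leaf 0))) (.node (.node (.leaf 91160576) (.leaf 0)) (.node (.leaf 81913385) (.leaf 0)))))))) (.node (.node (.node (.node (.node (.node (.node (.leaf 2777088) (.leaf 156164096)) (.node (.leaf 94855168) (.leaf 0))) (.node (.node (.leaf 52412416)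 (.leaf 0)) (.node (.leaf 83207146) (.leaf 0)))) (.node (.node (.node (.leaf 22680547) (.leaf 164454400)) (.node (.leaf 113541120) (.leaf 0))) (.node (.node (.leaf 74498048) (.leaf 0)) (.node (.leaf 144449536) (.leaf 0))))) (.node (.node (.node (.node (.leaf 15794176) (.leaf 53185838)) (.node (.leaf 104275968) (.leaf 0))) (.node (.node (.leaf 63782912) (.leaf 0)) (.node (.leaf 137478144) (.leaf 0)))) (.node (.node (.node (.leaf 40607744) (.leaf 61459118)) (.node (.leaf 68535693) (.leaf 0))) (.node (.node (.leaf 84959232) (.leaf 0)) (.node (.leaf 73796098) (.leaf 0)))))) (.node (.node (.node (.node (.node (.leaf 9338880) (.leaf 132344790)) (.node (.leaf 99655680) (.leaf 0))) (.node (.node (.leaf 58056704) (.leaf 0)) (.node (.leaf 133628363) (.leaf 0)))) (.node (.node (.node (.leaf 34586624) (.leaf 125682314)) (.node (.leaf 117940224) (.leaf 0))) (.node (.node (.leaf 79814656) (.leaf 0)) (.node (.leaf 147652608) (.leaf 0))))) (.node (.node (.node (.node (.leaf 22175744) (.leaf 53561778)) (.node (.leaf 109125632)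 (.leaf 0))) (.node (.node (.leaf 69263360) (.leaf 0)) (.node (.leaf 139221518) (.leaf 0)))) (.node (.node (.node (.leaf 46620672) (.leaf 151299746)) (.node (.leaf 126279680) (.leaf 0))) (.node (.node (.leaf 17902215) (.leaf 0)) (.node (.leaf 35619857) (.leaf 0))))))) (.node (.node (.node (.node (.node (.node (.leaf 6053888) (.leaf 157360128)) (.node (.leaf 97271808) (.leaf 0))) (.node (.node (.leaf 55189504) (.leaf 0)) (.node (.leaf 117599602) (.leaf 0)))) (.node (.node (.node (.leaf 31547392) (.leaf 165339136)) (.node (.leaf 90992244) (.leaf 0))) (.node (.node (.leaf 77152256) (.leaf 0)) (.node (.leaf 59258806) (.leaf 0))))) (.node (.node (.node (.node (.leaf 19079168) (.leaf 137171566)) (.node (.leaf 73304093) (.leaf 0))) (.node (.node (.leaf 58164289) (.leaf 0)) (.node (.leaf 139321344) (.leaf 0)))) (.node (.node (.node (.leaf 43573248) (.leaf 166257649)) (.node (.leaf 124149760) (.leaf 0))) (.node (.node (.leaf 87384064) (.leaf 0)) (.node (.leaf 152190976) (.leaf 0)))))) (.node (.node (.node (.node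 (.node (.leaf 11441416) (.leaf 159555584)) (.node (.leaf 79184541) (.leaf 0))) (.node (.node (.leaf 61022208) (.leaf 0)) (.node (.leaf 134369950) (.leaf 0)))) (.node (.node (.node (.leaf 37683200) (.leaf 82518149)) (.node (.leaf 45265252) (.leaf 0))) (.node (.node (.leaf 82411520) (.leaf 0)) (.node (.leaf 131487330) (.leaf 0))))) (.node (.node (.node (.node (.leaf 25313280) (.leaf 40196514)) (.node (.leaf 111304704) (.leaf 0))) (.node (.node (.leaf 71843840) (.leaf 0)) (.node (.leaf 142893056) (.leaf 0)))) (.node (.node (.node (.leaf 47773528) (.leaf 166218095)) (.node (.leaf 128270336) (.leaf 0))) (.node (.node (.leaf 92364800) (.leaf 0)) (.node (.leaf 98990953) (.leaf 0))))))))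

def e0T85 : NT := .node (.node (.node (.node (.node (.node (.node (.node (.leaf 1114112) (.leaf 155566080)) (.node (.leaf 93724672) (.leaf 0))) (.node (.node (.leaf 50962432) (.leaf 0)) (.node (.leaf 129220608) (.leaf 0)))) (.node (.node (.node (.leaf 26845184) (.leaf 157830201)) (.node (.leaf 112402432) (.leaf 0))) (.node (.node (.leaf 73187328) (.leaf 0)) (.node (.leaf 143622144) (.leaf 0))))) (.node (.node (.node (.node (.leaf 14147584) (.leaf 160063488)) (.node (.leaf 70349118) (.leaf 0))) (.node (.node (.leaf 62414848) (.leaf 0)) (.node (.leaf 40584346) (.leaf 0)))) (.node (.node (.node (.leaf 39124992) (.leaf 147503670)) (.node (.leaf 121053184) (.leaf 0))) (.node (.node (.leaf 83714048) (.leaf 0)) (.node (.leaf 40430944) (.leaf 0)))))) (.node (.node (.node (.node (.node (.leaf 7716864) (.leaf 23462716)) (.node (.leaf 98443264) (.leaf 0))) (.node (.node (.leaf 56573952) (.leaf 0)) (.node (.leaf 133021696) (.leaf 0)))) (.node (.node (.node (.leaf 33087488) (.leaf 129017590)) (.node (.leaf 38434723)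 (.leaf 0))) (.node (.node (.leaf 78495744) (.leaf 0)) (.node (.leaf 146939904) (.leaf 0))))) (.node (.node (.node (.node (.leaf 20701184) (.leaf 162193408)) (.node (.leaf 107986944) (.leaf 0))) (.node (.node (.leaf 67993600) (.leaf 0)) (.node (.leaf 134344168) (.leaf 0)))) (.node (.node (.node (.leaf 45113344) (.leaf 23388160)) (.node (.leaf 125231104) (.leaf 0))) (.node (.node (.leaf 88711168) (.leaf 0)) (.node (.leaf 152821760) (.leaf 0))))))) (.node (.node (.node (.node (.node (.node (.leaf 4431872) (.leaf 21871569)) (.node (.leaf 96100352) (.leaf 0))) (.node (.node (.leaf 53813248) (.leaf 0)) (.node (.leaf 39260352) (.leaf 0)))) (.node (.node (.node (.leaf 29958144) (.leaf 58740727)) (.node (.leaf 114647040) (.leaf 0))) (.node (.node (.leaf 75866112) (.leaf 0)) (.node (.leaf 92256961) (.leaf 0))))) (.node (.node (.node (.node (.leaf 17448960) (.leaf 130589820)) (.node (.leaf 105586688) (.leaf 0))) (.node (.node (.leaf 65142784) (.leaf 0)) (.node (.leaf 138379264) (.leaf 0)))) (.node (.node (.node (.leaf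 42082304) (.leaf 164173248)) (.node (.leaf 123191296) (.leaf 0))) (.node (.node (.leaf 86138880) (.leaf 0)) (.node (.leaf 92643355) (.leaf 0)))))) (.node (.node (.node (.node (.node (.leaf 10969088) (.leaf 99565874)) (.node (.leaf 100892672) (.leaf 0))) (.node (.node (.leaf 59547648) (.leaf 0)) (.node (.leaf 134856704) (.leaf 0)))) (.node (.node (.node (.leaf 36159488) (.leaf 65824671)) (.node (.leaf 118980608) (.leaf 0))) (.node (.node (.leaf 81076224) (.leaf 0)) (.node (.leaf 108148665) (.leaf 0))))) (.node (.node (.node (.node (.leaf 23764992) (.leaf 161812994)) (.node (.leaf 110272512) (.leaf 0))) (.node (.node (.leaf 70533120) (.leaf 0)) (.node (.leaf 53805066) (.leaf 0)))) (.node (.node (.node (.leaf 48070656) (.leaf 99298217)) (.node (.leaf 127311872) (.leaf 0))) (.node (.node (.leaf 91168768) (.leaf 0)) (.node (.leaf 154230784) (.leaf 0)))))))) (.node (.node (.node (.node (.node (.node (.node (.leaf 2785280) (.leaf 154732254)) (.node (.leaf 94863360) (.leaf 0))) (.node (.node (.leaf 52420608) (.leaf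 0)) (.node (.leaf 130170880) (.leaf 0)))) (.node (.node (.node (.leaf 27469580) (.leaf 164462592)) (.node (.leaf 113549312) (.leaf 0))) (.node (.node (.leaf 74506240) (.leaf 0)) (.node (.leaf 99363618) (.leaf 0))))) (.node (.node (.node (.node (.leaf 2964494) (.leaf 160686080)) (.node (.leaf 104284160) (.leaf 0))) (.node (.node (.leaf 60370510) (.leaf 0)) (.node (.leaf 137494528) (.leaf 0)))) (.node (.node (.node (.leaf 40615936) (.leaf 133085899)) (.node (.leaf 59361050) (.leaf 0))) (.node (.node (.leaf 84975616) (.leaf 0)) (.node (.leaf 89850584) (.leaf 0)))))) (.node (.node (.node (.node (.node (.leaf 9355264) (.leaf 158375936)) (.node (.leaf 99672064) (.leaf 0))) (.node (.node (.leaf 58064896) (.leaf 0)) (.node (.leaf 124284212) (.leaf 0)))) (.node (.node (.node (.leaf 34603008) (.leaf 163441769)) (.node (.leaf 114839792) (.leaf 0))) (.node (.node (.leaf 79831040) (.leaf 0)) (.node (.leaf 147668992) (.leaf 0))))) (.node (.node (.node (.node (.leaf 22192128) (.leaf 162684928)) (.node (.leaf 109142016)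 (.leaf 0))) (.node (.node (.leaf 69279744) (.leaf 0)) (.node (.leaf 123351949) (.leaf 0)))) (.node (.node (.node (.leaf 3273490) (.leaf 167085214)) (.node (.leaf 126287872) (.leaf 0))) (.node (.node (.leaf 89956352) (.leaf 0)) (.node (.leaf 78990122) (.leaf 0))))))) (.node (.node (.node (.node (.node (.node (.leaf 6062080) (.leaf 157368320)) (.node (.leaf 97280000) (.leaf 0))) (.node (.node (.leaf 55205888) (.leaf 0)) (.node (.leaf 6373376) (.leaf 0)))) (.node (.node (.node (.leaf 31555584) (.leaf 165355520)) (.node (.leaf 115761152) (.leaf 0))) (.node (.node (.leaf 77168640) (.leaf 0)) (.node (.leaf 146087936) (.leaf 0))))) (.node (.node (.node (.node (.leaf 19087360) (.leaf 143045921)) (.node (.leaf 106807296) (.leaf 0))) (.node (.node (.leaf 66568192) (.leaf 0)) (.node (.leaf 139329536) (.leaf 0)))) (.node (.node (.node (.leaf 43589632) (.leaf 124683056)) (.node (.leaf 124166144) (.leaf 0))) (.node (.node (.leaf 10543104) (.leaf 0)) (.node (.leaf 61643764) (.leaf 0)))))) (.node (.node (.node (.node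 (.node (.leaf 311296) (.leaf 69106121)) (.node (.leaf 102047744) (.leaf 0))) (.node (.node (.leaf 15049816) (.leaf 0)) (.node (.leaf 135790592) (.leaf 0)))) (.node (.node (.node (.leaf 37699584) (.leaf 118994465)) (.node (.leaf 104273763) (.leaf 0))) (.node (.node (.leaf 82419712) (.leaf 0)) (.node (.leaf 149250048) (.leaf 0))))) (.node (.node (.node (.node (.leaf 25329664) (.leaf 163487744)) (.node (.leaf 111321088) (.leaf 0))) (.node (.node (.leaf 71852032) (.leaf 0)) (.node (.leaf 94200163) (.leaf 0)))) (.node (.node (.node (.leaf 49537024) (.leaf 123415377)) (.node (.leaf 128286720) (.leaf 0))) (.node (.node (.leaf 92381184) (.leaf 0)) (.node (.leaf 154845184) (.leaf 0))))))))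

def e0T86 : NT := .node (.node (.node (.node (.node (.node (.node (.node (.leaf 1122304) (.leaf 155574272)) (.node (.leaf 93732864) (.leaf 0))) (.node (.node (.leaf 50978816) (.leaf 0)) (.node (.leaf 129228800) (.leaf 0)))) (.node (.node (.node (.leaf 26861568) (.leaf 162163661)) (.node (.leaf 112410624) (.leaf 0))) (.node (.node (.leaf 73203712) (.leaf 0)) (.node (.leaf 138795330) (.leaf 0))))) (.node (.node (.node (.node (.leaf 14163968) (.leaf 125614967)) (.node (.leaf 103129088) (.leaf 0))) (.node (.node (.leaf 62431232) (.leaf 0)) (.node (.leaf 136626176) (.leaf 0)))) (.node (.node (.node (.leaf 39141376) (.leaf 167051264)) (.node (.leaf 121069568) (.leaf 0))) (.node (.node (.leaf 14918396) (.leaf 0)) (.node (.leaf 149995520) (.leaf 0)))))) (.node (.node (.node (.node (.node (.leaf 7733248) (.leaf 132938221)) (.node (.leaf 27926705) (.leaf 0))) (.node (.node (.leaf 56590336) (.leaf 0)) (.node (.leaf 98568730) (.leaf 0)))) (.node (.node (.node (.leaf 33095680) (.leaf 83435851)) (.node (.leaf 116826112)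 (.leaf 0))) (.node (.node (.leaf 2596864) (.leaf 0)) (.node (.leaf 146948096) (.leaf 0))))) (.node (.node (.node (.node (.leaf 20709376) (.leaf 109929990)) (.node (.leaf 108003328) (.leaf 0))) (.node (.node (.leaf 68009984) (.leaf 0)) (.node (.leaf 55036356) (.leaf 0)))) (.node (.node (.node (.leaf 45121536) (.leaf 77238248)) (.node (.leaf 125239296) (.leaf 0))) (.node (.node (.leaf 76793002) (.leaf 0)) (.node (.leaf 152829952) (.leaf 0))))))) (.node (.node (.node (.node (.node (.node (.leaf 4440064) (.leaf 82433444)) (.node (.leaf 96108544) (.leaf 0))) (.node (.node (.leaf 53829632) (.leaf 0)) (.node (.leaf 131211264) (.leaf 0)))) (.node (.node (.node (.leaf 28381613) (.leaf 164970496)) (.node (.leaf 114655232) (.leaf 0))) (.node (.node (.leaf 75874304) (.leaf 0)) (.node (.leaf 145195008) (.leaf 0))))) (.node (.node (.node (.node (.leaf 17465344) (.leaf 92280268)) (.node (.leaf 105603072) (.leaf 0))) (.node (.node (.leaf 65159168) (.leaf 0)) (.node (.leaf 138387456) (.leaf 0)))) (.node (.node (.node (.leaf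 42098688) (.leaf 145572672)) (.node (.leaf 123207680) (.leaf 0))) (.node (.node (.leaf 86147072) (.leaf 0)) (.node (.leaf 151486464) (.leaf 0)))))) (.node (.node (.node (.node (.node (.leaf 270336) (.leaf 78903110)) (.node (.leaf 100909056) (.leaf 0))) (.node (.node (.leaf 59555840) (.leaf 0)) (.node (.leaf 134864896) (.leaf 0)))) (.node (.node (.node (.leaf 36175872) (.leaf 140914140)) (.node (.leaf 118996992) (.leaf 0))) (.node (.node (.leaf 81084416) (.leaf 0)) (.node (.leaf 148496384) (.leaf 0))))) (.node (.node (.node (.node (.leaf 23773184) (.leaf 163078144)) (.node (.leaf 110288896) (.leaf 0))) (.node (.node (.leaf 59241389) (.leaf 0)) (.node (.leaf 139620585) (.leaf 0)))) (.node (.node (.node (.leaf 48087040) (.leaf 96332498)) (.node (.leaf 127328256) (.leaf 0))) (.node (.node (.leaf 91176960) (.leaf 0)) (.node (.leaf 23695762) (.leaf 0)))))))) (.node (.node (.node (.node (.node (.node (.node (.leaf 2801664) (.leaf 144122840)) (.node (.leaf 94871552) (.leaf 0))) (.node (.node (.leaf 52436992) (.leaf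 0)) (.node (.leaf 12766254) (.leaf 0)))) (.node (.node (.node (.leaf 28409856) (.leaf 105576737)) (.node (.leaf 113565696) (.leaf 0))) (.node (.node (.leaf 74522624) (.leaf 0)) (.node (.leaf 144465920) (.leaf 0))))) (.node (.node (.node (.node (.leaf 15810560) (.leaf 12566528)) (.node (.leaf 33555417) (.leaf 0))) (.node (.node (.leaf 63799296) (.leaf 0)) (.node (.leaf 137510912) (.leaf 0)))) (.node (.node (.node (.leaf 40632320) (.leaf 158581008)) (.node (.leaf 116226848) (.leaf 0))) (.node (.node (.leaf 84983808) (.leaf 0)) (.node (.leaf 125903255) (.leaf 0)))))) (.node (.node (.node (.node (.node (.leaf 9363456) (.leaf 125801346)) (.node (.leaf 99680256) (.leaf 0))) (.node (.node (.leaf 58081280) (.leaf 0)) (.node (.leaf 18401589) (.leaf 0)))) (.node (.node (.node (.leaf 34611200) (.leaf 160592090)) (.node (.leaf 117948416) (.leaf 0))) (.node (.node (.leaf 79839232) (.leaf 0)) (.node (.leaf 10377007) (.leaf 0))))) (.node (.node (.node (.node (.leaf 22200320) (.leaf 60744670)) (.node (.leaf 81776865)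 (.leaf 0))) (.node (.node (.leaf 69287936) (.leaf 0)) (.node (.leaf 95385305) (.leaf 0)))) (.node (.node (.node (.leaf 46637056) (.leaf 133364077)) (.node (.leaf 79951446) (.leaf 0))) (.node (.node (.leaf 89972736) (.leaf 0)) (.node (.leaf 153526272) (.leaf 0))))))) (.node (.node (.node (.node (.node (.node (.leaf 6078464) (.leaf 142026094)) (.node (.leaf 97296384) (.leaf 0))) (.node (.node (.leaf 55214080) (.leaf 0)) (.node (.leaf 132186112) (.leaf 0)))) (.node (.node (.node (.leaf 1223676) (.leaf 139293921)) (.node (.leaf 115777536) (.leaf 0))) (.node (.node (.leaf 47946808) (.leaf 0)) (.node (.leaf 146096128) (.leaf 0))))) (.node (.node (.node (.node (.leaf 19103744) (.leaf 133838202)) (.node (.leaf 106823680) (.leaf 0))) (.node (.node (.leaf 11909246) (.leaf 0)) (.node (.leaf 139337728) (.leaf 0)))) (.node (.node (.node (.leaf 43606016) (.leaf 21946368)) (.node (.leaf 124174336) (.leaf 0))) (.node (.node (.leaf 87408640) (.leaf 0)) (.node (.leaf 59398650) (.leaf 0)))))) (.node (.node (.node (.node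 (.node (.leaf 12574720) (.leaf 68503174)) (.node (.leaf 23301265) (.leaf 0))) (.node (.node (.leaf 61030400) (.leaf 0)) (.node (.leaf 135806976) (.leaf 0)))) (.node (.node (.node (.leaf 37707776) (.leaf 88883809)) (.node (.leaf 60855119) (.leaf 0))) (.node (.node (.leaf 2793472) (.leaf 0)) (.node (.leaf 106915279) (.leaf 0))))) (.node (.node (.node (.node (.leaf 25346048) (.leaf 14393344)) (.node (.leaf 111329280) (.leaf 0))) (.node (.node (.leaf 71868416) (.leaf 0)) (.node (.leaf 121156580) (.leaf 0)))) (.node (.node (.node (.leaf 49545216) (.leaf 110931781)) (.node (.leaf 128294912) (.leaf 0))) (.node (.node (.leaf 92389376) (.leaf 0)) (.node (.leaf 73880637) (.leaf 0))))))))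

def e0T87 : NT := .node (.node (.node (.node (.node (.node (.node (.node (.leaf 1138688) (.leaf 155238400)) (.node (.leaf 93749248) (.leaf 0))) (.node (.node (.leaf 50987008) (.leaf 0)) (.node (.leaf 50959003) (.leaf 0)))) (.node (.node (.node (.leaf 26869760) (.leaf 157639274)) (.node (.leaf 112427008) (.leaf 0))) (.node (.node (.leaf 55302760) (.leaf 0)) (.node (.leaf 143630336) (.leaf 0))))) (.node (.node (.node (.node (.leaf 14180352) (.leaf 20901356)) (.node (.leaf 103145472) (.leaf 0))) (.node (.node (.leaf 24531842) (.leaf 0)) (.node (.leaf 136634368) (.leaf 0)))) (.node (.node (.node (.leaf 39149568) (.leaf 165448042)) (.node (.leaf 121077760) (.leaf 0))) (.node (.node (.leaf 83730432) (.leaf 0)) (.node (.leaf 69450535) (.leaf 0)))))) (.node (.node (.node (.node (.node (.leaf 7749632) (.leaf 147139067)) (.node (.leaf 98459648) (.leaf 0))) (.node (.node (.leaf 18538496) (.leaf 0)) (.node (.leaf 133038080) (.leaf 0)))) (.node (.node (.node (.leaf 33112064) (.leaf 165666816)) (.node (.leaf 116834304)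 (.leaf 0))) (.node (.node (.leaf 78512128) (.leaf 0)) (.node (.leaf 59947203) (.leaf 0))))) (.node (.node (.node (.node (.leaf 20725760) (.leaf 158507474)) (.node (.leaf 75008968) (.leaf 0))) (.node (.node (.leaf 68026368) (.leaf 0)) (.node (.leaf 11630977) (.leaf 0)))) (.node (.node (.node (.leaf 45137920) (.leaf 161178776)) (.node (.leaf 125255680) (.leaf 0))) (.node (.node (.leaf 88735744) (.leaf 0)) (.node (.leaf 134451949) (.leaf 0))))))) (.node (.node (.node (.node (.node (.node (.leaf 4456448) (.leaf 10944512)) (.node (.leaf 96124928) (.leaf 0))) (.node (.node (.leaf 53837824) (.leaf 0)) (.node (.leaf 123066115) (.leaf 0)))) (.node (.node (.node (.leaf 29974528) (.leaf 114590589)) (.node (.leaf 114663424) (.leaf 0))) (.node (.node (.leaf 75890688) (.leaf 0)) (.node (.leaf 140889823) (.leaf 0))))) (.node (.node (.node (.node (.leaf 17473536) (.leaf 133730730)) (.node (.leaf 105619456) (.leaf 0))) (.node (.node (.leaf 65175552) (.leaf 0)) (.node (.leaf 138395648) (.leaf 0)))) (.node (.node (.node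 (.leaf 42106880) (.leaf 148487301)) (.node (.leaf 123224064) (.leaf 0))) (.node (.node (.leaf 86163456) (.leaf 0)) (.node (.leaf 151494656) (.leaf 0)))))) (.node (.node (.node (.node (.node (.leaf 10985472) (.leaf 74481894)) (.node (.leaf 100925440) (.leaf 0))) (.node (.node (.leaf 57524916) (.leaf 0)) (.node (.leaf 95451793) (.leaf 0)))) (.node (.node (.node (.leaf 36192256) (.leaf 161819049)) (.node (.leaf 119013376) (.leaf 0))) (.node (.node (.leaf 57163778) (.leaf 0)) (.node (.leaf 106930673) (.leaf 0))))) (.node (.node (.node (.node (.leaf 23789568) (.leaf 163094528)) (.node (.leaf 100641875) (.leaf 0))) (.node (.node (.leaf 70557696) (.leaf 0)) (.node (.leaf 142082048) (.leaf 0)))) (.node (.node (.node (.leaf 41421675) (.leaf 149619912)) (.node (.leaf 127344640) (.leaf 0))) (.node (.node (.leaf 91185152) (.leaf 0)) (.node (.leaf 51851332) (.leaf 0)))))))) (.node (.node (.node (.node (.node (.node (.node (.leaf 2818048) (.leaf 45950084)) (.node (.leaf 90376706) (.leaf 0))) (.node (.node (.leaf 52445184)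 (.leaf 0)) (.node (.leaf 6176768) (.leaf 0)))) (.node (.node (.node (.leaf 28426240) (.leaf 164478976)) (.node (.leaf 113573888) (.leaf 0))) (.node (.node (.leaf 74530816) (.leaf 0)) (.node (.leaf 48918432) (.leaf 0))))) (.node (.node (.node (.node (.leaf 15826944) (.leaf 44609146)) (.node (.leaf 104300544) (.leaf 0))) (.node (.node (.leaf 63807488) (.leaf 0)) (.node (.leaf 129208583) (.leaf 0)))) (.node (.node (.node (.leaf 40648704) (.leaf 165491402)) (.node (.leaf 120809101) (.leaf 0))) (.node (.node (.leaf 84992000) (.leaf 0)) (.node (.leaf 139371379) (.leaf 0)))))) (.node (.node (.node (.node (.node (.leaf 9379840) (.leaf 158384128)) (.node (.leaf 99696640) (.leaf 0))) (.node (.node (.leaf 58089472) (.leaf 0)) (.node (.leaf 125307631) (.leaf 0)))) (.node (.node (.node (.leaf 13361537) (.leaf 145319044)) (.node (.leaf 117964800) (.leaf 0))) (.node (.node (.leaf 41110709) (.leaf 0)) (.node (.leaf 109760803) (.leaf 0))))) (.node (.node (.node (.node (.leaf 22216704) (.leaf 161663365)) (.node (.leaf 109158400)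 (.leaf 0))) (.node (.node (.leaf 61301213) (.leaf 0)) (.node (.leaf 141180928) (.leaf 0)))) (.node (.node (.node (.leaf 46653440) (.leaf 24870912)) (.node (.leaf 28053568) (.leaf 0))) (.node (.node (.leaf 89980928) (.leaf 0)) (.node (.leaf 153534464) (.leaf 0))))))) (.node (.node (.node (.node (.node (.node (.leaf 6086656) (.leaf 157376512)) (.node (.leaf 97312768) (.leaf 0))) (.node (.node (.leaf 55230464) (.leaf 0)) (.node (.leaf 43109005) (.leaf 0)))) (.node (.node (.node (.leaf 31580160) (.leaf 165363712)) (.node (.leaf 115785728) (.leaf 0))) (.node (.node (.leaf 77176832) (.leaf 0)) (.node (.leaf 62651055) (.leaf 0))))) (.node (.node (.node (.node (.leaf 19111936) (.leaf 161685504)) (.node (.leaf 106840064) (.leaf 0))) (.node (.node (.leaf 66584576) (.leaf 0)) (.node (.leaf 126241337) (.leaf 0)))) (.node (.node (.node (.leaf 18285628) (.leaf 109151848)) (.node (.leaf 124190720) (.leaf 0))) (.node (.node (.leaf 87416832) (.leaf 0)) (.node (.leaf 42974360) (.leaf 0)))))) (.node (.node (.node (.node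 (.node (.leaf 12582912) (.leaf 50599405)) (.node (.leaf 102055936) (.leaf 0))) (.node (.node (.leaf 61046784) (.leaf 0)) (.node (.leaf 129888269) (.leaf 0)))) (.node (.node (.node (.leaf 37724160) (.leaf 31134057)) (.node (.leaf 8140919) (.leaf 0))) (.node (.node (.leaf 82436096) (.leaf 0)) (.node (.leaf 149258240) (.leaf 0))))) (.node (.node (.node (.node (.leaf 25354240) (.leaf 163495936)) (.node (.leaf 111345664) (.leaf 0))) (.node (.node (.leaf 71876608) (.leaf 0)) (.node (.leaf 142917632) (.leaf 0)))) (.node (.node (.node (.leaf 49561600) (.leaf 71036209)) (.node (.leaf 128303104) (.leaf 0))) (.node (.node (.leaf 92405760) (.leaf 0)) (.node (.leaf 141914876) (.leaf 0))))))))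

def e0T88 : NT := .node (.node (.node (.node (.node (.node (.node (.node (.leaf 1146880) (.leaf 54977669)) (.node (.leaf 93757440) (.leaf 0))) (.node (.node (.leaf 50995200) (.leaf 0)) (.node (.leaf 30466187) (.leaf 0)))) (.node (.node (.node (.leaf 26886144) (.leaf 163954688)) (.node (.leaf 112435200) (.leaf 0))) (.node (.node (.leaf 69145205) (.leaf 0)) (.node (.leaf 19489162) (.leaf 0))))) (.node (.node (.node (.node (.leaf 14188544) (.leaf 160079872)) (.node (.leaf 103161856) (.leaf 0))) (.node (.node (.leaf 62447616) (.leaf 0)) (.node (.leaf 136642560) (.leaf 0)))) (.node (.node (.node (.leaf 4492239) (.leaf 70774496)) (.node (.leaf 121094144) (.leaf 0))) (.node (.node (.leaf 2850816) (.leaf 0)) (.node (.leaf 16337852) (.leaf 0)))))) (.node (.node (.node (.node (.node (.leaf 7757824) (.leaf 157925376)) (.node (.leaf 98467840) (.leaf 0))) (.node (.node (.leaf 20244648) (.leaf 0)) (.node (.leaf 131011990) (.leaf 0)))) (.node (.node (.node (.leaf 33120256) (.leaf 104125107)) (.node (.leaf 116850688)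 (.leaf 0))) (.node (.node (.leaf 78520320) (.leaf 0)) (.node (.leaf 144840942) (.leaf 0))))) (.node (.node (.node (.node (.leaf 20733952) (.leaf 82589335)) (.node (.leaf 108019712) (.leaf 0))) (.node (.node (.leaf 68034560) (.leaf 0)) (.node (.leaf 71862335) (.leaf 0)))) (.node (.node (.node (.leaf 45154304) (.leaf 164243138)) (.node (.leaf 125272064) (.leaf 0))) (.node (.node (.leaf 88743936) (.leaf 0)) (.node (.leaf 85120617) (.leaf 0))))))) (.node (.node (.node (.node (.node (.node (.leaf 4464640) (.leaf 156803072)) (.node (.leaf 96141312) (.leaf 0))) (.node (.node (.leaf 5254899) (.leaf 0)) (.node (.leaf 131227648) (.leaf 0)))) (.node (.node (.node (.leaf 29990912) (.leaf 145404285)) (.node (.leaf 114671616) (.leaf 0))) (.node (.node (.leaf 75907072) (.leaf 0)) (.node (.leaf 145203200) (.leaf 0))))) (.node (.node (.node (.node (.leaf 17489920) (.leaf 146583379)) (.node (.leaf 105627648) (.leaf 0))) (.node (.node (.leaf 65183744) (.leaf 0)) (.node (.leaf 138412032) (.leaf 0)))) (.node (.node (.node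 (.leaf 42115072) (.leaf 167428096)) (.node (.leaf 123232256) (.leaf 0))) (.node (.node (.leaf 44804393) (.leaf 0)) (.node (.leaf 151502848) (.leaf 0)))))) (.node (.node (.node (.node (.node (.leaf 10993664) (.leaf 122447595)) (.node (.leaf 7258112) (.leaf 0))) (.node (.node (.leaf 1785856) (.leaf 0)) (.node (.leaf 134873088) (.leaf 0)))) (.node (.node (.node (.leaf 36200448) (.leaf 129934895)) (.node (.leaf 88938413) (.leaf 0))) (.node (.node (.leaf 81108992) (.leaf 0)) (.node (.leaf 76589996) (.leaf 0))))) (.node (.node (.node (.node (.leaf 23805952) (.leaf 103912448)) (.node (.leaf 69187326) (.leaf 0))) (.node (.node (.leaf 70565888) (.leaf 0)) (.node (.leaf 122694660) (.leaf 0)))) (.node (.node (.node (.leaf 48103424) (.leaf 83793095)) (.node (.leaf 127352832) (.leaf 0))) (.node (.node (.leaf 91201536) (.leaf 0)) (.node (.leaf 154247168) (.leaf 0)))))))) (.node (.node (.node (.node (.node (.node (.node (.leaf 2826240) (.leaf 100028038)) (.node (.leaf 94887936) (.leaf 0))) (.node (.node (.leaf 52461568)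 (.leaf 0)) (.node (.leaf 130195456) (.leaf 0)))) (.node (.node (.node (.leaf 28434432) (.leaf 81007515)) (.node (.leaf 113582080) (.leaf 0))) (.node (.node (.leaf 74539008) (.leaf 0)) (.node (.leaf 135622306) (.leaf 0))))) (.node (.node (.node (.node (.leaf 15835136) (.leaf 160702464)) (.node (.leaf 104316928) (.leaf 0))) (.node (.node (.leaf 63823872) (.leaf 0)) (.node (.leaf 137527296) (.leaf 0)))) (.node (.node (.node (.leaf 40656896) (.leaf 165650848)) (.node (.leaf 122134528) (.leaf 0))) (.node (.node (.leaf 85000192) (.leaf 0)) (.node (.leaf 150790144) (.leaf 0)))))) (.node (.node (.node (.node (.node (.leaf 9388032) (.leaf 116942145)) (.node (.leaf 99713024) (.leaf 0))) (.node (.node (.leaf 58105856) (.leaf 0)) (.node (.leaf 133931008) (.leaf 0)))) (.node (.node (.node (.leaf 34627584) (.leaf 155547043)) (.node (.leaf 24066833) (.leaf 0))) (.node (.node (.leaf 79855616) (.leaf 0)) (.node (.leaf 124495549) (.leaf 0))))) (.node (.node (.node (.node (.leaf 22233088) (.leaf 13705216)) (.node (.leaf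 109174784) (.leaf 0))) (.node (.node (.leaf 43829287) (.leaf 0)) (.node (.leaf 141189120) (.leaf 0)))) (.node (.node (.node (.leaf 46661632) (.leaf 135989585)) (.node (.leaf 112445876) (.leaf 0))) (.node (.node (.leaf 3162112) (.leaf 0)) (.node (.leaf 153550848) (.leaf 0))))))) (.node (.node (.node (.node (.node (.node (.leaf 6103040) (.leaf 113680891)) (.node (.leaf 95491948) (.leaf 0))) (.node (.node (.leaf 55246848) (.leaf 0)) (.node (.leaf 108472473) (.leaf 0)))) (.node (.node (.node (.leaf 31588352) (.leaf 133478737)) (.node (.leaf 23155722) (.leaf 0))) (.node (.node (.leaf 77185024) (.leaf 0)) (.node (.leaf 60032173) (.leaf 0))))) (.node (.node (.node (.node (.leaf 19128320) (.leaf 58194050)) (.node (.leaf 106856448) (.leaf 0))) (.node (.node (.leaf 66600960) (.leaf 0)) (.node (.leaf 134903171) (.leaf 0)))) (.node (.node (.node (.leaf 43622400) (.leaf 139507333)) (.node (.leaf 66045791) (.leaf 0))) (.node (.node (.leaf 87433216) (.leaf 0)) (.node (.leaf 127323643) (.leaf 0)))))) (.node (.node (.node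 (.node (.node (.leaf 12591104) (.leaf 131186770)) (.node (.leaf 68578012) (.leaf 0))) (.node (.node (.leaf 61063168) (.leaf 0)) (.node (.leaf 135815168) (.leaf 0)))) (.node (.node (.node (.leaf 34660658) (.leaf 166797312)) (.node (.leaf 119922688) (.leaf 0))) (.node (.node (.leaf 82444288) (.leaf 0)) (.node (.leaf 76145588) (.leaf 0))))) (.node (.node (.node (.node (.leaf 25370624) (.leaf 162300021)) (.node (.leaf 111362048) (.leaf 0))) (.node (.node (.leaf 56848030) (.leaf 0)) (.node (.leaf 142925824) (.leaf 0)))) (.node (.node (.node (.leaf 49577984) (.leaf 167658451)) (.node (.leaf 128319488) (.leaf 0))) (.node (.node (.leaf 92422144) (.leaf 0)) (.node (.leaf 118287635) (.leaf 0))))))))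

def e0T89 : NT := .node (.node (.node (.node (.node (.node (.node (.node (.leaf 1163264) (.leaf 155582464)) (.node (.leaf 93773824) (.leaf 0))) (.node (.node (.leaf 51011584) (.leaf 0)) (.node (.leaf 129245184) (.leaf 0)))) (.node (.node (.node (.leaf 26894336) (.leaf 61701252)) (.node (.leaf 68407433) (.leaf 0))) (.node (.node (.leaf 73228288) (.leaf 0)) (.node (.leaf 143638528) (.leaf 0))))) (.node (.node (.node (.node (.leaf 14204928) (.leaf 160088064)) (.node (.leaf 103170048) (.leaf 0))) (.node (.node (.leaf 62455808) (.leaf 0)) (.node (.leaf 136658944) (.leaf 0)))) (.node (.node (.node (.leaf 39165952) (.leaf 146306938)) (.node (.leaf 121102336) (.leaf 0))) (.node (.node (.leaf 83755008) (.leaf 0)) (.node (.leaf 78892980) (.leaf 0)))))) (.node (.node (.node (.node (.node (.leaf 7774208) (.leaf 141580282)) (.node (.leaf 98484224) (.leaf 0))) (.node (.node (.leaf 40630447) (.leaf 0)) (.node (.leaf 133046272) (.leaf 0)))) (.node (.node (.node (.leaf 33136640) (.leaf 153401368)) (.node (.leaf 116858880)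 (.leaf 0))) (.node (.node (.leaf 78528512) (.leaf 0)) (.node (.leaf 146964480) (.leaf 0))))) (.node (.node (.node (.node (.leaf 20750336) (.leaf 134914855)) (.node (.leaf 108036096) (.leaf 0))) (.node (.node (.leaf 2113536) (.leaf 0)) (.node (.leaf 51222088) (.leaf 0)))) (.node (.node (.node (.leaf 45162496) (.leaf 31081462)) (.node (.leaf 125280256) (.leaf 0))) (.node (.node (.leaf 88752128) (.leaf 0)) (.node (.leaf 142658684) (.leaf 0))))))) (.node (.node (.node (.node (.node (.node (.leaf 4481024) (.leaf 147949006)) (.node (.leaf 96149504) (.leaf 0))) (.node (.node (.leaf 53862400) (.leaf 0)) (.node (.leaf 131244032) (.leaf 0)))) (.node (.node (.node (.leaf 29999104) (.leaf 164978688)) (.node (.leaf 114679808) (.leaf 0))) (.node (.node (.leaf 75915264) (.leaf 0)) (.node (.leaf 136905319) (.leaf 0))))) (.node (.node (.node (.node (.leaf 17506304) (.leaf 155997136)) (.node (.leaf 105635840) (.leaf 0))) (.node (.node (.leaf 65200128) (.leaf 0)) (.node (.leaf 127898503) (.leaf 0)))) (.node (.node (.node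 (.leaf 42131456) (.leaf 164081417)) (.node (.leaf 123240448) (.leaf 0))) (.node (.node (.leaf 82948566) (.leaf 0)) (.node (.leaf 24398800) (.leaf 0)))))) (.node (.node (.node (.node (.node (.leaf 11010048) (.leaf 159023104)) (.node (.leaf 100941824) (.leaf 0))) (.node (.node (.leaf 59580416) (.leaf 0)) (.node (.leaf 85811775) (.leaf 0)))) (.node (.node (.node (.leaf 36216832) (.leaf 166420480)) (.node (.leaf 63606698) (.leaf 0))) (.node (.node (.leaf 81117184) (.leaf 0)) (.node (.leaf 148512768) (.leaf 0))))) (.node (.node (.node (.node (.leaf 23814144) (.leaf 21671783)) (.node (.leaf 110305280) (.leaf 0))) (.node (.node (.leaf 70582272) (.leaf 0)) (.node (.leaf 142090240) (.leaf 0)))) (.node (.node (.node (.leaf 48119808) (.leaf 149538162)) (.node (.leaf 121411035) (.leaf 0))) (.node (.node (.leaf 91217920) (.leaf 0)) (.node (.leaf 154263552) (.leaf 0)))))))) (.node (.node (.node (.node (.node (.node (.node (.leaf 2842624) (.leaf 137138552)) (.node (.leaf 94904320) (.leaf 0))) (.node (.node (.leaf 52477952)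 (.leaf 0)) (.node (.leaf 130203648) (.leaf 0)))) (.node (.node (.node (.leaf 28450816) (.leaf 114164613)) (.node (.leaf 113590272) (.leaf 0))) (.node (.node (.leaf 74555392) (.leaf 0)) (.node (.leaf 53825373) (.leaf 0))))) (.node (.node (.node (.node (.leaf 15851520) (.leaf 76560914)) (.node (.leaf 104325120) (.leaf 0))) (.node (.node (.leaf 63840256) (.leaf 0)) (.node (.leaf 137535488) (.leaf 0)))) (.node (.node (.node (.leaf 40673280) (.leaf 81885028)) (.node (.leaf 122150912) (.leaf 0))) (.node (.node (.leaf 85016576) (.leaf 0)) (.node (.leaf 150798336) (.leaf 0)))))) (.node (.node (.node (.node (.node (.leaf 9404416) (.leaf 158400512)) (.node (.leaf 96866068) (.leaf 0))) (.node (.node (.leaf 58114048) (.leaf 0)) (.node (.leaf 95912805) (.leaf 0)))) (.node (.node (.node (.leaf 34643968) (.leaf 153302012)) (.node (.leaf 117972992) (.leaf 0))) (.node (.node (.leaf 79872000) (.leaf 0)) (.node (.leaf 47313112) (.leaf 0))))) (.node (.node (.node (.node (.leaf 22241280) (.leaf 162709504)) (.node (.leaf 109191168)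 (.leaf 0))) (.node (.node (.leaf 69312512) (.leaf 0)) (.node (.leaf 38470932) (.leaf 0)))) (.node (.node (.node (.leaf 46669824) (.leaf 94450716)) (.node (.leaf 30511381) (.leaf 0))) (.node (.node (.leaf 90005504) (.leaf 0)) (.node (.leaf 153559040) (.leaf 0))))))) (.node (.node (.node (.node (.node (.node (.leaf 6119424) (.leaf 157392896)) (.node (.leaf 97329152) (.leaf 0))) (.node (.node (.leaf 55255040) (.leaf 0)) (.node (.leaf 132194304) (.leaf 0)))) (.node (.node (.node (.leaf 25833013) (.leaf 165371904)) (.node (.leaf 35297268) (.leaf 0))) (.node (.node (.leaf 77193216) (.leaf 0)) (.node (.leaf 104252059) (.leaf 0))))) (.node (.node (.node (.node (.leaf 19136512) (.leaf 148246034)) (.node (.leaf 106864640) (.leaf 0))) (.node (.node (.leaf 66609152) (.leaf 0)) (.node (.leaf 98962475) (.leaf 0)))) (.node (.node (.node (.leaf 43638784) (.leaf 82250406)) (.node (.leaf 124207104) (.leaf 0))) (.node (.node (.leaf 87449600) (.leaf 0)) (.node (.leaf 52491398) (.leaf 0)))))) (.node (.node (.node (.node (.node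 (.leaf 12607488) (.leaf 159563776)) (.node (.leaf 102072320) (.leaf 0))) (.node (.node (.leaf 61071360) (.leaf 0)) (.node (.leaf 15215791) (.leaf 0)))) (.node (.node (.node (.leaf 37740544) (.leaf 108619615)) (.node (.leaf 57801724) (.leaf 0))) (.node (.node (.leaf 82460672) (.leaf 0)) (.node (.leaf 9240576) (.leaf 0))))) (.node (.node (.node (.node (.leaf 25378816) (.leaf 53240222)) (.node (.leaf 73223971) (.leaf 0))) (.node (.node (.leaf 71901184) (.leaf 0)) (.node (.leaf 142934016) (.leaf 0)))) (.node (.node (.node (.leaf 49586176) (.leaf 141593587)) (.node (.leaf 128327680) (.leaf 0))) (.node (.node (.leaf 54381473) (.leaf 0)) (.node (.leaf 16624651) (.leaf 0))))))))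

def e0T90 : NT := .node (.node (.node (.node (.node (.node (.node (.node (.leaf 1179648) (.leaf 155590656)) (.node (.leaf 65851930) (.leaf 0))) (.node (.node (.leaf 51027968) (.leaf 0)) (.node (.leaf 14944991) (.leaf 0)))) (.node (.node (.node (.leaf 26910720) (.leaf 160312669)) (.node (.leaf 112451584) (.leaf 0))) (.node (.node (.leaf 73236480) (.leaf 0)) (.node (.leaf 143654912) (.leaf 0))))) (.node (.node (.node (.node (.leaf 14221312) (.leaf 147490342)) (.node (.leaf 63385456) (.leaf 0))) (.node (.node (.leaf 62464000) (.leaf 0)) (.node (.leaf 136667136) (.leaf 0)))) (.node (.node (.node (.leaf 39182336) (.leaf 79720750)) (.node (.leaf 121118720) (.leaf 0))) (.node (.node (.leaf 83763200) (.leaf 0)) (.node (.leaf 150011904) (.leaf 0)))))) (.node (.node (.node (.node (.node (.leaf 7782400) (.leaf 71355076)) (.node (.leaf 98492416) (.leaf 0))) (.node (.node (.leaf 45975433) (.leaf 0)) (.node (.leaf 133062656) (.leaf 0)))) (.node (.node (.node (.leaf 33153024) (.leaf 127651346)) (.node (.leaf 116875264)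 (.leaf 0))) (.node (.node (.leaf 78544896) (.leaf 0)) (.node (.leaf 78636345) (.leaf 0))))) (.node (.node (.node (.node (.leaf 20758528) (.leaf 152356305)) (.node (.leaf 108044288) (.leaf 0))) (.node (.node (.leaf 68059136) (.leaf 0)) (.node (.leaf 126119380) (.leaf 0)))) (.node (.node (.node (.leaf 45178880) (.leaf 142328325)) (.node (.leaf 23082597) (.leaf 0))) (.node (.node (.leaf 19565888) (.leaf 0)) (.node (.leaf 100077660) (.leaf 0))))))) (.node (.node (.node (.node (.node (.node (.leaf 4497408) (.leaf 142234004)) (.node (.leaf 96157696) (.leaf 0))) (.node (.node (.leaf 53870592) (.leaf 0)) (.node (.leaf 131252224) (.leaf 0)))) (.node (.node (.node (.leaf 30015488) (.leaf 101794996)) (.node (.leaf 114696192) (.leaf 0))) (.node (.node (.leaf 75931648) (.leaf 0)) (.node (.leaf 49667124) (.leaf 0))))) (.node (.node (.node (.node (.leaf 17522688) (.leaf 161161216)) (.node (.leaf 105644032) (.leaf 0))) (.node (.node (.leaf 52397513) (.leaf 0)) (.node (.leaf 138428416) (.leaf 0)))) (.node (.node (.node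 (.leaf 42139648) (.leaf 98745340)) (.node (.leaf 123256832) (.leaf 0))) (.node (.node (.leaf 86188032) (.leaf 0)) (.node (.leaf 99476500) (.leaf 0)))))) (.node (.node (.node (.node (.node (.leaf 11026432) (.leaf 153709824)) (.node (.leaf 83224885) (.leaf 0))) (.node (.node (.leaf 59588608) (.leaf 0)) (.node (.leaf 134889472) (.leaf 0)))) (.node (.node (.node (.leaf 36225024) (.leaf 148138250)) (.node (.leaf 63410557) (.leaf 0))) (.node (.node (.leaf 61359397) (.leaf 0)) (.node (.leaf 141329183) (.leaf 0))))) (.node (.node (.node (.node (.leaf 23830528) (.leaf 134014485)) (.node (.leaf 110313472) (.leaf 0))) (.node (.node (.leaf 70590464) (.leaf 0)) (.node (.leaf 137054313) (.leaf 0)))) (.node (.node (.node (.leaf 48128000) (.leaf 168001536)) (.node (.leaf 127361024) (.leaf 0))) (.node (.node (.leaf 62410522) (.leaf 0)) (.node (.leaf 94685694) (.leaf 0)))))))) (.node (.node (.node (.node (.node (.node (.node (.leaf 2859008) (.leaf 156172288)) (.node (.leaf 68724038) (.leaf 0))) (.node (.node (.leaf 52494336)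 (.leaf 0)) (.node (.leaf 127259126) (.leaf 0)))) (.node (.node (.node (.leaf 28467200) (.leaf 164495360)) (.node (.leaf 58371819) (.leaf 0))) (.node (.node (.leaf 74571776) (.leaf 0)) (.node (.leaf 136831284) (.leaf 0))))) (.node (.node (.node (.node (.leaf 15859712) (.leaf 116305928)) (.node (.leaf 104341504) (.leaf 0))) (.node (.node (.leaf 63848448) (.leaf 0)) (.node (.leaf 137543680) (.leaf 0)))) (.node (.node (.node (.leaf 40689664) (.leaf 27015116)) (.node (.leaf 122159104) (.leaf 0))) (.node (.node (.leaf 85024768) (.leaf 0)) (.node (.leaf 131740944) (.leaf 0)))))) (.node (.node (.node (.node (.node (.leaf 9420800) (.leaf 158408704)) (.node (.leaf 99729408) (.leaf 0))) (.node (.node (.leaf 58130432) (.leaf 0)) (.node (.leaf 133939200) (.leaf 0)))) (.node (.node (.node (.leaf 34652160) (.leaf 137154219)) (.node (.leaf 117981184) (.leaf 0))) (.node (.node (.leaf 63488808) (.leaf 0)) (.node (.leaf 77267662) (.leaf 0))))) (.node (.node (.node (.node (.leaf 22257664) (.leaf 33692665)) (.node (.leaf 109199360)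 (.leaf 0))) (.node (.node (.leaf 69320704) (.leaf 0)) (.node (.leaf 141197312) (.leaf 0)))) (.node (.node (.node (.leaf 46686208) (.leaf 129529703)) (.node (.leaf 126296064) (.leaf 0))) (.node (.node (.leaf 90013696) (.leaf 0)) (.node (.leaf 121668049) (.leaf 0))))))) (.node (.node (.node (.node (.node (.node (.leaf 6127616) (.leaf 36654202)) (.node (.leaf 28459795) (.leaf 0))) (.node (.node (.leaf 55271424) (.leaf 0)) (.node (.leaf 132202496) (.leaf 0)))) (.node (.node (.node (.leaf 31612928) (.leaf 73216045)) (.node (.leaf 115810304) (.leaf 0))) (.node (.node (.leaf 77201408) (.leaf 0)) (.node (.leaf 93027334) (.leaf 0))))) (.node (.node (.node (.node (.leaf 19152896) (.leaf 159169161)) (.node (.leaf 106872832) (.leaf 0))) (.node (.node (.leaf 66625536) (.leaf 0)) (.node (.leaf 139354112) (.leaf 0)))) (.node (.node (.node (.leaf 43646976) (.leaf 136130890)) (.node (.leaf 23050525) (.leaf 0))) (.node (.node (.leaf 87457792) (.leaf 0)) (.node (.leaf 146242655) (.leaf 0)))))) (.node (.node (.node (.node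 (.node (.leaf 12615680) (.leaf 107652944)) (.node (.leaf 49401451) (.leaf 0))) (.node (.node (.leaf 61079552) (.leaf 0)) (.node (.leaf 69583987) (.leaf 0)))) (.node (.node (.node (.leaf 21805722) (.leaf 165628569)) (.node (.leaf 119939072) (.leaf 0))) (.node (.node (.leaf 82468864) (.leaf 0)) (.node (.leaf 23107221) (.leaf 0))))) (.node (.node (.node (.node (.leaf 16300756) (.leaf 159779805)) (.node (.leaf 111378432) (.leaf 0))) (.node (.node (.leaf 34367805) (.leaf 0)) (.node (.leaf 142942208) (.leaf 0)))) (.node (.node (.node (.leaf 49602560) (.leaf 92417163)) (.node (.leaf 82715594) (.leaf 0))) (.node (.node (.leaf 92430336) (.leaf 0)) (.node (.leaf 154861568) (.leaf 0))))))))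

def e0T91 : NT := .node (.node (.node (.node (.node (.node (.node (.node (.leaf 1187840) (.leaf 155598848)) (.node (.leaf 80930502) (.leaf 0))) (.node (.node (.leaf 51036160) (.leaf 0)) (.node (.leaf 129261568) (.leaf 0)))) (.node (.node (.node (.leaf 26918912) (.leaf 77963699)) (.node (.leaf 112459776) (.leaf 0))) (.node (.node (.leaf 73252864) (.leaf 0)) (.node (.leaf 143663104) (.leaf 0))))) (.node (.node (.node (.node (.leaf 14229504) (.leaf 84930628)) (.node (.leaf 103178240) (.leaf 0))) (.node (.node (.leaf 62480384) (.leaf 0)) (.node (.leaf 64832744) (.leaf 0)))) (.node (.node (.node (.leaf 39190528) (.leaf 117665934)) (.node (.leaf 121135104) (.leaf 0))) (.node (.node (.leaf 83771392) (.leaf 0)) (.node (.leaf 150020096) (.leaf 0)))))) (.node (.node (.node (.node (.node (.leaf 7798784) (.leaf 150483372)) (.node (.leaf 98508800) (.leaf 0))) (.node (.node (.leaf 56623104) (.leaf 0)) (.node (.leaf 133070848) (.leaf 0)))) (.node (.node (.node (.leaf 33161216) (.leaf 157542101)) (.node (.leaf 27974079)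 (.leaf 0))) (.node (.node (.leaf 78553088) (.leaf 0)) (.node (.leaf 8429568) (.leaf 0))))) (.node (.node (.node (.node (.leaf 20766720) (.leaf 162209792)) (.node (.leaf 93746347) (.leaf 0))) (.node (.node (.leaf 68067328) (.leaf 0)) (.node (.leaf 140369920) (.leaf 0)))) (.node (.node (.node (.leaf 31868087) (.leaf 27767451)) (.node (.leaf 52675986) (.leaf 0))) (.node (.node (.leaf 88768512) (.leaf 0)) (.node (.leaf 147114470) (.leaf 0))))))) (.node (.node (.node (.node (.node (.node (.leaf 4505600) (.leaf 76925338)) (.node (.leaf 96165888) (.leaf 0))) (.node (.node (.leaf 53886976) (.leaf 0)) (.node (.leaf 24589827) (.leaf 0)))) (.node (.node (.node (.leaf 30023680) (.leaf 164986880)) (.node (.leaf 19238438) (.leaf 0))) (.node (.node (.leaf 75948032) (.leaf 0)) (.node (.leaf 144407421) (.leaf 0))))) (.node (.node (.node (.node (.leaf 17539072) (.leaf 142727917)) (.node (.leaf 87901660) (.leaf 0))) (.node (.node (.leaf 65224704) (.leaf 0)) (.node (.leaf 30972984) (.leaf 0)))) (.node (.node (.node (.leaf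 42156032) (.leaf 113713154)) (.node (.leaf 74686649) (.leaf 0))) (.node (.node (.leaf 86196224) (.leaf 0)) (.node (.leaf 143059639) (.leaf 0)))))) (.node (.node (.node (.node (.node (.leaf 11034624) (.leaf 159031296)) (.node (.leaf 100966400) (.leaf 0))) (.node (.node (.leaf 59596800) (.leaf 0)) (.node (.leaf 111831803) (.leaf 0)))) (.node (.node (.node (.leaf 36241408) (.leaf 82899821)) (.node (.leaf 46974724) (.leaf 0))) (.node (.node (.leaf 81141760) (.leaf 0)) (.node (.leaf 148529152) (.leaf 0))))) (.node (.node (.node (.node (.leaf 23838720) (.leaf 89955380)) (.node (.leaf 110329856) (.leaf 0))) (.node (.node (.leaf 63660142) (.leaf 0)) (.node (.leaf 142106624) (.leaf 0)))) (.node (.node (.node (.leaf 48144384) (.leaf 106489383)) (.node (.leaf 113998728) (.leaf 0))) (.node (.node (.leaf 91226112) (.leaf 0)) (.node (.leaf 101362672) (.leaf 0)))))))) (.node (.node (.node (.node (.node (.node (.node (.leaf 65536) (.leaf 156180480)) (.node (.leaf 94920704) (.leaf 0))) (.node (.node (.leaf 52502528) (.leaf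 0)) (.node (.leaf 28528746) (.leaf 0)))) (.node (.node (.node (.leaf 28475392) (.leaf 164511744)) (.node (.leaf 113598464) (.leaf 0))) (.node (.node (.leaf 74579968) (.leaf 0)) (.node (.leaf 144482304) (.leaf 0))))) (.node (.node (.node (.node (.leaf 7329440) (.leaf 160710656)) (.node (.leaf 104349696) (.leaf 0))) (.node (.node (.leaf 63864832) (.leaf 0)) (.node (.leaf 130085268) (.leaf 0)))) (.node (.node (.node (.leaf 40697856) (.leaf 41479316)) (.node (.leaf 69334353) (.leaf 0))) (.node (.node (.leaf 85032960) (.leaf 0)) (.node (.leaf 147868082) (.leaf 0)))))) (.node (.node (.node (.node (.node (.leaf 9428992) (.leaf 158425088)) (.node (.leaf 82671685) (.leaf 0))) (.node (.node (.leaf 58146816) (.leaf 0)) (.node (.leaf 133947392) (.leaf 0)))) (.node (.node (.node (.leaf 34668544) (.leaf 158810935)) (.node (.leaf 117997568) (.leaf 0))) (.node (.node (.leaf 79896576) (.leaf 0)) (.node (.leaf 67080810) (.leaf 0))))) (.node (.node (.node (.node (.leaf 22265856) (.leaf 63368274)) (.node (.leaf 109207552)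 (.leaf 0))) (.node (.node (.leaf 43993835) (.leaf 0)) (.node (.leaf 141213696) (.leaf 0)))) (.node (.node (.node (.leaf 46694400) (.leaf 102082214)) (.node (.leaf 126304256) (.leaf 0))) (.node (.node (.leaf 90030080) (.leaf 0)) (.node (.leaf 59906268) (.leaf 0))))))) (.node (.node (.node (.node (.node (.node (.leaf 6144000) (.leaf 157401088)) (.node (.leaf 97345536) (.leaf 0))) (.node (.node (.leaf 55287808) (.leaf 0)) (.node (.leaf 132218880) (.leaf 0)))) (.node (.node (.node (.leaf 31621120) (.leaf 154991660)) (.node (.leaf 115818496) (.leaf 0))) (.node (.node (.leaf 77217792) (.leaf 0)) (.node (.leaf 146104320) (.leaf 0))))) (.node (.node (.node (.node (.leaf 19161088) (.leaf 161693696)) (.node (.leaf 33369296) (.leaf 0))) (.node (.node (.leaf 66641920) (.leaf 0)) (.node (.leaf 20185892) (.leaf 0)))) (.node (.node (.node (.leaf 43663360) (.leaf 149772796)) (.node (.leaf 124231680) (.leaf 0))) (.node (.node (.leaf 87474176) (.leaf 0)) (.node (.leaf 152215552) (.leaf 0)))))) (.node (.node (.node (.node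 (.node (.leaf 12632064) (.leaf 155746535)) (.node (.leaf 102088704) (.leaf 0))) (.node (.node (.leaf 61095936) (.leaf 0)) (.node (.leaf 80592896) (.leaf 0)))) (.node (.node (.node (.leaf 37756928) (.leaf 139149734)) (.node (.leaf 119955456) (.leaf 0))) (.node (.node (.leaf 82485248) (.leaf 0)) (.node (.leaf 21965492) (.leaf 0))))) (.node (.node (.node (.node (.leaf 25403392) (.leaf 134193659)) (.node (.leaf 7370677) (.leaf 0))) (.node (.node (.leaf 71917568) (.leaf 0)) (.node (.leaf 142958592) (.leaf 0)))) (.node (.node (.node (.leaf 49610752) (.leaf 165962713)) (.node (.leaf 128344064) (.leaf 0))) (.node (.node (.leaf 92438528) (.leaf 0)) (.node (.leaf 36595016) (.leaf 0))))))))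

def e0T92 : NT := .node (.node (.node (.node (.node (.node (.node (.node (.leaf 1204224) (.leaf 85992146)) (.node (.leaf 93798400) (.leaf 0))) (.node (.node (.leaf 51052544) (.leaf 0)) (.node (.leaf 69906797) (.leaf 0)))) (.node (.node (.node (.leaf 26935296) (.leaf 154683192)) (.node (.leaf 112467968) (.leaf 0))) (.node (.node (.leaf 65507042) (.leaf 0)) (.node (.leaf 143671296) (.leaf 0))))) (.node (.node (.node (.node (.leaf 14245888) (.leaf 160096256)) (.node (.leaf 103186432) (.leaf 0))) (.node (.node (.leaf 62488576) (.leaf 0)) (.node (.leaf 131491513) (.leaf 0)))) (.node (.node (.node (.leaf 39206912) (.leaf 97681942)) (.node (.leaf 71403984) (.leaf 0))) (.node (.node (.leaf 83779584) (.leaf 0)) (.node (.leaf 52012881) (.leaf 0)))))) (.node (.node (.node (.node (.node (.leaf 7815168) (.leaf 17908904)) (.node (.leaf 98516992) (.leaf 0))) (.node (.node (.leaf 56639488) (.leaf 0)) (.node (.leaf 133087232) (.leaf 0)))) (.node (.node (.node (.leaf 33177600) (.leaf 88990895)) (.node (.leaf 116891648)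 (.leaf 0))) (.node (.node (.leaf 78561280) (.leaf 0)) (.node (.leaf 144690590) (.leaf 0))))) (.node (.node (.node (.node (.leaf 20783104) (.leaf 13656064)) (.node (.leaf 108068864) (.leaf 0))) (.node (.node (.leaf 68075520) (.leaf 0)) (.node (.leaf 140378112) (.leaf 0)))) (.node (.node (.node (.leaf 45195264) (.leaf 165219543)) (.node (.leaf 125288448) (.leaf 0))) (.node (.node (.leaf 88776704) (.leaf 0)) (.node (.leaf 149464607) (.leaf 0))))))) (.node (.node (.node (.node (.node (.node (.leaf 4521984) (.leaf 156811264)) (.node (.leaf 96182272) (.leaf 0))) (.node (.node (.leaf 53895168) (.leaf 0)) (.node (.leaf 131260416) (.leaf 0)))) (.node (.node (.node (.leaf 30040064) (.leaf 164995072)) (.node (.leaf 114712576) (.leaf 0))) (.node (.node (.leaf 75956224) (.leaf 0)) (.node (.leaf 136799297) (.leaf 0))))) (.node (.node (.node (.node (.leaf 17547264) (.leaf 79502058)) (.node (.leaf 105660416) (.leaf 0))) (.node (.node (.leaf 65232896) (.leaf 0)) (.node (.leaf 122488846) (.leaf 0)))) (.node (.node (.node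 (.leaf 42172416) (.leaf 52371782)) (.node (.leaf 5439488) (.leaf 0))) (.node (.node (.leaf 86212608) (.leaf 0)) (.node (.leaf 85363764) (.leaf 0)))))) (.node (.node (.node (.node (.node (.leaf 11051008) (.leaf 159039488)) (.node (.leaf 78605385) (.leaf 0))) (.node (.node (.leaf 59613184) (.leaf 0)) (.node (.leaf 134905856) (.leaf 0)))) (.node (.node (.node (.leaf 36257792) (.leaf 85421629)) (.node (.leaf 119037952) (.leaf 0))) (.node (.node (.leaf 81149952) (.leaf 0)) (.node (.leaf 148545536) (.leaf 0))))) (.node (.node (.node (.node (.leaf 23855104) (.leaf 163110912)) (.node (.leaf 110346240) (.leaf 0))) (.node (.node (.leaf 59971143) (.leaf 0)) (.node (.leaf 73297890) (.leaf 0)))) (.node (.node (.node (.leaf 48160768) (.leaf 120773379)) (.node (.leaf 127369216) (.leaf 0))) (.node (.node (.leaf 91234304) (.leaf 0)) (.node (.leaf 105109376) (.leaf 0)))))))) (.node (.node (.node (.node (.node (.node (.node (.leaf 2875392) (.leaf 156188672)) (.node (.leaf 94928896) (.leaf 0))) (.node (.node (.leaf 52510720)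 (.leaf 0)) (.node (.leaf 130220032) (.leaf 0)))) (.node (.node (.node (.leaf 10195260) (.leaf 164519936)) (.node (.leaf 113606656) (.leaf 0))) (.node (.node (.leaf 74596352) (.leaf 0)) (.node (.leaf 144490496) (.leaf 0))))) (.node (.node (.node (.node (.leaf 15884288) (.leaf 156828734)) (.node (.leaf 104366080) (.leaf 0))) (.node (.node (.leaf 63881216) (.leaf 0)) (.node (.leaf 137551872) (.leaf 0)))) (.node (.node (.node (.leaf 40714240) (.leaf 146598339)) (.node (.leaf 122167296) (.leaf 0))) (.node (.node (.leaf 85041152) (.leaf 0)) (.node (.leaf 115936904) (.leaf 0)))))) (.node (.node (.node (.node (.node (.leaf 9445376) (.leaf 158433280)) (.node (.leaf 64575022) (.leaf 0))) (.node (.node (.leaf 58155008) (.leaf 0)) (.node (.leaf 133963776) (.leaf 0)))) (.node (.node (.node (.leaf 34684928) (.leaf 146246531)) (.node (.leaf 72772777) (.leaf 0))) (.node (.node (.leaf 79904768) (.leaf 0)) (.node (.leaf 147701760) (.leaf 0))))) (.node (.node (.node (.node (.leaf 22282240) (.leaf 148250752)) (.node (.leaf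 59889369) (.leaf 0))) (.node (.node (.leaf 69337088) (.leaf 0)) (.node (.leaf 137787209) (.leaf 0)))) (.node (.node (.node (.leaf 29331148) (.leaf 156699841)) (.node (.leaf 32248986) (.leaf 0))) (.node (.node (.leaf 90046464) (.leaf 0)) (.node (.leaf 63922864) (.leaf 0))))))) (.node (.node (.node (.node (.node (.node (.leaf 6160384) (.leaf 157417472)) (.node (.leaf 97361920) (.leaf 0))) (.node (.node (.leaf 16969064) (.leaf 0)) (.node (.leaf 26179588) (.leaf 0)))) (.node (.node (.node (.leaf 31637504) (.leaf 165380096)) (.node (.leaf 4925110) (.leaf 0))) (.node (.node (.leaf 77225984) (.leaf 0)) (.node (.leaf 146112512) (.leaf 0))))) (.node (.node (.node (.node (.leaf 6938624) (.leaf 161701888)) (.node (.leaf 106889216) (.leaf 0))) (.node (.node (.leaf 66650112) (.leaf 0)) (.node (.leaf 139378688) (.leaf 0)))) (.node (.node (.node (.leaf 43679744) (.leaf 150128297)) (.node (.leaf 124239872) (.leaf 0))) (.node (.node (.leaf 87482368) (.leaf 0)) (.node (.leaf 105962365) (.leaf 0)))))) (.node (.node (.node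 (.node (.node (.leaf 12640256) (.leaf 100524543)) (.node (.leaf 66759493) (.leaf 0))) (.node (.node (.leaf 61104128) (.leaf 0)) (.node (.leaf 135831552) (.leaf 0)))) (.node (.node (.node (.leaf 37773312) (.leaf 127102718)) (.node (.leaf 119963648) (.leaf 0))) (.node (.node (.leaf 82501632) (.leaf 0)) (.node (.leaf 149282816) (.leaf 0))))) (.node (.node (.node (.node (.leaf 25411584) (.leaf 163512320)) (.node (.leaf 111394816) (.leaf 0))) (.node (.node (.leaf 71933952) (.leaf 0)) (.node (.leaf 125360602) (.leaf 0)))) (.node (.node (.node (.leaf 49627136) (.leaf 100772735)) (.node (.leaf 64949934) (.leaf 0))) (.node (.node (.leaf 70551228) (.leaf 0)) (.node (.leaf 153523991) (.leaf 0))))))))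

def e0T93 : NT := .node (.node (.node (.node (.node (.node (.node (.node (.leaf 1212416) (.leaf 148049081)) (.node (.leaf 93814784) (.leaf 0))) (.node (.node (.leaf 51068928) (.leaf 0)) (.node (.leaf 129286144) (.leaf 0)))) (.node (.node (.node (.leaf 26943488) (.leaf 57151227)) (.node (.leaf 112476160) (.leaf 0))) (.node (.node (.leaf 73269248) (.leaf 0)) (.node (.leaf 139259544) (.leaf 0))))) (.node (.node (.node (.node (.leaf 14254080) (.leaf 109332316)) (.node (.leaf 103194624) (.leaf 0))) (.node (.node (.leaf 62504960) (.leaf 0)) (.node (.leaf 136683520) (.leaf 0)))) (.node (.node (.node (.leaf 39223296) (.leaf 156316401)) (.node (.leaf 121143296) (.leaf 0))) (.node (.node (.leaf 83291452) (.leaf 0)) (.node (.leaf 147688477) (.leaf 0)))))) (.node (.node (.node (.node (.node (.leaf 7823360) (.leaf 136783426)) (.node (.leaf 98533376) (.leaf 0))) (.node (.node (.leaf 56647680) (.leaf 0)) (.node (.leaf 133095424) (.leaf 0)))) (.node (.node (.node (.leaf 33193984) (.leaf 20542790)) (.node (.leaf 116899840)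 (.leaf 0))) (.node (.node (.leaf 46648605) (.leaf 0)) (.node (.leaf 146980864) (.leaf 0))))) (.node (.node (.node (.node (.leaf 20791296) (.leaf 119385359)) (.node (.leaf 108077056) (.leaf 0))) (.node (.node (.leaf 68083712) (.leaf 0)) (.node (.leaf 140386304) (.leaf 0)))) (.node (.node (.node (.leaf 45203456) (.leaf 128282227)) (.node (.leaf 125296640) (.leaf 0))) (.node (.node (.leaf 88793088) (.leaf 0)) (.node (.leaf 67977940) (.leaf 0))))))) (.node (.node (.node (.node (.node (.node (.leaf 4530176) (.leaf 156819456)) (.node (.leaf 96198656) (.leaf 0))) (.node (.node (.leaf 53911552) (.leaf 0)) (.node (.leaf 65808804) (.leaf 0)))) (.node (.node (.node (.leaf 30048256) (.leaf 130395626)) (.node (.leaf 114720768) (.leaf 0))) (.node (.node (.leaf 75964416) (.leaf 0)) (.node (.leaf 135495924) (.leaf 0))))) (.node (.node (.node (.node (.leaf 17563648) (.leaf 153345157)) (.node (.leaf 105668608) (.leaf 0))) (.node (.node (.leaf 65249280) (.leaf 0)) (.node (.leaf 26046207) (.leaf 0)))) (.node (.node (.node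 (.leaf 42180608) (.leaf 50871021)) (.node (.leaf 123281408) (.leaf 0))) (.node (.node (.leaf 86220800) (.leaf 0)) (.node (.leaf 21762640) (.leaf 0)))))) (.node (.node (.node (.node (.node (.leaf 11059200) (.leaf 132257574)) (.node (.leaf 100974592) (.leaf 0))) (.node (.node (.leaf 59621376) (.leaf 0)) (.node (.leaf 84910324) (.leaf 0)))) (.node (.node (.node (.leaf 36265984) (.leaf 65578272)) (.node (.leaf 119054336) (.leaf 0))) (.node (.node (.leaf 81166336) (.leaf 0)) (.node (.leaf 148553728) (.leaf 0))))) (.node (.node (.node (.node (.leaf 23871488) (.leaf 115730787)) (.node (.leaf 110362624) (.leaf 0))) (.node (.node (.leaf 70606848) (.leaf 0)) (.node (.leaf 115182197) (.leaf 0)))) (.node (.node (.node (.leaf 45146112) (.leaf 85536852)) (.node (.leaf 127377408) (.leaf 0))) (.node (.node (.leaf 60918648) (.leaf 0)) (.node (.leaf 154288128) (.leaf 0)))))))) (.node (.node (.node (.node (.node (.node (.node (.leaf 2883584) (.leaf 147187588)) (.node (.leaf 94945280) (.leaf 0))) (.node (.node (.leaf 52527104)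 (.leaf 0)) (.node (.leaf 124511250) (.leaf 0)))) (.node (.node (.node (.leaf 28491776) (.leaf 139573810)) (.node (.leaf 113614848) (.leaf 0))) (.node (.node (.leaf 74604544) (.leaf 0)) (.node (.leaf 17685468) (.leaf 0))))) (.node (.node (.node (.node (.leaf 15892480) (.leaf 91074079)) (.node (.leaf 67730426) (.leaf 0))) (.node (.node (.leaf 63889408) (.leaf 0)) (.node (.leaf 17391616) (.leaf 0)))) (.node (.node (.node (.leaf 40722432) (.leaf 124720652)) (.node (.leaf 122175488) (.leaf 0))) (.node (.node (.leaf 29102630) (.leaf 0)) (.node (.leaf 150814720) (.leaf 0)))))) (.node (.node (.node (.node (.node (.leaf 9453568) (.leaf 115560689)) (.node (.leaf 98323961) (.leaf 0))) (.node (.node (.leaf 58171392) (.leaf 0)) (.node (.leaf 133971968) (.leaf 0)))) (.node (.node (.node (.leaf 34693120) (.leaf 166031481)) (.node (.leaf 118022144) (.leaf 0))) (.node (.node (.leaf 79921152) (.leaf 0)) (.node (.leaf 60773295) (.leaf 0))))) (.node (.node (.node (.node (.leaf 22298624) (.leaf 162717696)) (.node (.leaf 109215744)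 (.leaf 0))) (.node (.node (.leaf 64692224) (.leaf 0)) (.node (.leaf 141221888) (.leaf 0)))) (.node (.node (.node (.leaf 46710784) (.leaf 152202849)) (.node (.leaf 117387052) (.leaf 0))) (.node (.node (.leaf 90054656) (.leaf 0)) (.node (.leaf 153567232) (.leaf 0))))))) (.node (.node (.node (.node (.node (.node (.leaf 6168576) (.leaf 148174757)) (.node (.leaf 97370112) (.leaf 0))) (.node (.node (.leaf 55304192) (.leaf 0)) (.node (.leaf 68043336) (.leaf 0)))) (.node (.node (.node (.leaf 31645696) (.leaf 78507893)) (.node (.leaf 115834880) (.leaf 0))) (.node (.node (.leaf 77242368) (.leaf 0)) (.node (.leaf 146128896) (.leaf 0))))) (.node (.node (.node (.node (.leaf 19185664) (.leaf 102199596)) (.node (.leaf 106897408) (.leaf 0))) (.node (.node (.leaf 63781486) (.leaf 0)) (.node (.leaf 139386880) (.leaf 0)))) (.node (.node (.node (.leaf 43687936) (.leaf 142440612)) (.node (.leaf 124248064) (.leaf 0))) (.node (.node (.leaf 87490560) (.leaf 0)) (.node (.leaf 152223744) (.leaf 0)))))) (.node (.node (.node (.node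 (.node (.leaf 12656640) (.leaf 90839825)) (.node (.leaf 102105088) (.leaf 0))) (.node (.node (.leaf 12051383) (.leaf 0)) (.node (.leaf 135839744) (.leaf 0)))) (.node (.node (.node (.leaf 30186261) (.leaf 141167267)) (.node (.leaf 119971840) (.leaf 0))) (.node (.node (.leaf 82509824) (.leaf 0)) (.node (.leaf 149299200) (.leaf 0))))) (.node (.node (.node (.node (.leaf 25427968) (.leaf 137910777)) (.node (.leaf 111411200) (.leaf 0))) (.node (.node (.leaf 37489702) (.leaf 0)) (.node (.leaf 142966784) (.leaf 0)))) (.node (.node (.node (.leaf 49643520) (.leaf 53885329)) (.node (.leaf 27457239) (.leaf 0))) (.node (.node (.leaf 16982016) (.leaf 0)) (.node (.leaf 133107152) (.leaf 0))))))))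

def e0T94 : NT := .node (.node (.node (.node (.node (.node (.node (.node (.leaf 1228800) (.leaf 128234922)) (.node (.leaf 73605376) (.leaf 0))) (.node (.node (.leaf 51085312) (.leaf 0)) (.node (.leaf 93605184) (.leaf 0)))) (.node (.node (.node (.leaf 26959872) (.leaf 50932020)) (.node (.leaf 41046125) (.leaf 0))) (.node (.node (.leaf 73285632) (.leaf 0)) (.node (.leaf 143687680) (.leaf 0))))) (.node (.node (.node (.node (.leaf 14270464) (.leaf 28103577)) (.node (.leaf 103211008) (.leaf 0))) (.node (.node (.leaf 62513152) (.leaf 0)) (.node (.leaf 85151853) (.leaf 0)))) (.node (.node (.node (.leaf 39231488) (.leaf 132385671)) (.node (.leaf 121159680) (.leaf 0))) (.node (.node (.leaf 83795968) (.leaf 0)) (.node (.leaf 98172928) (.leaf 0)))))) (.node (.node (.node (.node (.node (.leaf 7831552) (.leaf 85860352)) (.node (.leaf 98541568) (.leaf 0))) (.node (.node (.leaf 56655872) (.leaf 0)) (.node (.leaf 133111808) (.leaf 0)))) (.node (.node (.node (.leaf 33210368) (.leaf 165683200)) (.node (.leaf 113291833)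 (.leaf 0))) (.node (.node (.leaf 13992549) (.leaf 0)) (.node (.leaf 88410541) (.leaf 0))))) (.node (.node (.node (.node (.leaf 20807680) (.leaf 113977725)) (.node (.leaf 108093440) (.leaf 0))) (.node (.node (.leaf 68091904) (.leaf 0)) (.node (.leaf 7413760) (.leaf 0)))) (.node (.node (.node (.leaf 45219840) (.leaf 161977870)) (.node (.leaf 17309793) (.leaf 0))) (.node (.node (.leaf 13731482) (.leaf 0)) (.node (.leaf 117859338) (.leaf 0))))))) (.node (.node (.node (.node (.node (.node (.leaf 4546560) (.leaf 135729325)) (.node (.leaf 96206848) (.leaf 0))) (.node (.node (.leaf 38275011) (.leaf 0)) (.node (.leaf 131276800) (.leaf 0)))) (.node (.node (.node (.leaf 30064640) (.leaf 147220609)) (.node (.leaf 109663633) (.leaf 0))) (.node (.node (.leaf 75972608) (.leaf 0)) (.node (.leaf 9781632) (.leaf 0))))) (.node (.node (.node (.node (.leaf 17580032) (.leaf 161185792)) (.node (.leaf 105676800) (.leaf 0))) (.node (.node (.leaf 65257472) (.leaf 0)) (.node (.leaf 138444800) (.leaf 0)))) (.node (.node (.node (.leaf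 42196992) (.leaf 142148469)) (.node (.leaf 50481742) (.leaf 0))) (.node (.node (.leaf 86228992) (.leaf 0)) (.node (.leaf 126713900) (.leaf 0)))))) (.node (.node (.node (.node (.node (.leaf 11075584) (.leaf 118473429)) (.node (.leaf 63068771) (.leaf 0))) (.node (.node (.leaf 11668781) (.leaf 0)) (.node (.leaf 134922240) (.leaf 0)))) (.node (.node (.node (.leaf 36282368) (.leaf 112757906)) (.node (.leaf 119070720) (.leaf 0))) (.node (.node (.leaf 55268899) (.leaf 0)) (.node (.leaf 53963132) (.leaf 0))))) (.node (.node (.node (.node (.leaf 23879680) (.leaf 74300304)) (.node (.leaf 101266537) (.leaf 0))) (.node (.node (.leaf 70623232) (.leaf 0)) (.node (.leaf 142123008) (.leaf 0)))) (.node (.node (.node (.leaf 48177152) (.leaf 113076046)) (.node (.leaf 85468825) (.leaf 0))) (.node (.node (.leaf 91250688) (.leaf 0)) (.node (.leaf 88570648) (.leaf 0)))))))) (.node (.node (.node (.node (.node (.node (.node (.leaf 2899968) (.leaf 30602089)) (.node (.leaf 94953472) (.leaf 0))) (.node (.node (.leaf 49856512) (.leaf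 0)) (.node (.leaf 113520192) (.leaf 0)))) (.node (.node (.node (.leaf 28508160) (.leaf 74979974)) (.node (.leaf 113623040) (.leaf 0))) (.node (.node (.leaf 68449728) (.leaf 0)) (.node (.leaf 124857222) (.leaf 0))))) (.node (.node (.node (.node (.leaf 15908864) (.leaf 160727040)) (.node (.leaf 104382464) (.leaf 0))) (.node (.node (.leaf 63905792) (.leaf 0)) (.node (.leaf 137560064) (.leaf 0)))) (.node (.node (.node (.leaf 7177268) (.leaf 117992418)) (.node (.leaf 120897536) (.leaf 0))) (.node (.node (.leaf 71233420) (.leaf 0)) (.node (.leaf 57857451) (.leaf 0)))))) (.node (.node (.node (.node (.node (.leaf 9461760) (.leaf 96402235)) (.node (.leaf 99753984) (.leaf 0))) (.node (.node (.leaf 58179584) (.leaf 0)) (.node (.leaf 133980160) (.leaf 0)))) (.node (.node (.node (.leaf 34701312) (.leaf 137508544)) (.node (.leaf 118030336) (.leaf 0))) (.node (.node (.leaf 34572924) (.leaf 0)) (.node (.leaf 41378613) (.leaf 0))))) (.node (.node (.node (.node (.leaf 22306816) (.leaf 124103629)) (.node (.leaf 58311466)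 (.leaf 0))) (.node (.node (.leaf 69353472) (.leaf 0)) (.node (.leaf 138349435) (.leaf 0)))) (.node (.node (.node (.leaf 46727168) (.leaf 166487986)) (.node (.leaf 126320640) (.leaf 0))) (.node (.node (.leaf 90062848) (.leaf 0)) (.node (.leaf 145639902) (.leaf 0))))))) (.node (.node (.node (.node (.node (.node (.leaf 6184960) (.leaf 157433856)) (.node (.leaf 97378304) (.leaf 0))) (.node (.node (.leaf 55312384) (.leaf 0)) (.node (.leaf 40416438) (.leaf 0)))) (.node (.node (.node (.leaf 31662080) (.leaf 137080001)) (.node (.leaf 25522813) (.leaf 0))) (.node (.node (.leaf 77250560) (.leaf 0)) (.node (.leaf 78413936) (.leaf 0))))) (.node (.node (.node (.node (.leaf 19202048) (.leaf 154538154)) (.node (.leaf 106905600) (.leaf 0))) (.node (.node (.leaf 66666496) (.leaf 0)) (.node (.leaf 92400533) (.leaf 0)))) (.node (.node (.node (.leaf 43704320) (.leaf 167624704)) (.node (.leaf 124264448) (.leaf 0))) (.node (.node (.leaf 87506944) (.leaf 0)) (.node (.leaf 91150511) (.leaf 0)))))) (.node (.node (.node (.node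 (.node (.leaf 12673024) (.leaf 126432716)) (.node (.leaf 102113280) (.leaf 0))) (.node (.node (.leaf 61120512) (.leaf 0)) (.node (.leaf 7032472) (.leaf 0)))) (.node (.node (.node (.leaf 37789696) (.leaf 152521681)) (.node (.leaf 117895224) (.leaf 0))) (.node (.node (.leaf 82526208) (.leaf 0)) (.node (.leaf 149307392) (.leaf 0))))) (.node (.node (.node (.node (.leaf 25436160) (.leaf 159550788)) (.node (.leaf 46532897) (.leaf 0))) (.node (.node (.leaf 71950336) (.leaf 0)) (.node (.leaf 142974976) (.leaf 0)))) (.node (.node (.node (.leaf 49651712) (.leaf 153665561)) (.node (.leaf 128352256) (.leaf 0))) (.node (.node (.leaf 33789149) (.leaf 0)) (.node (.leaf 154877952) (.leaf 0))))))))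

def e0T95 : NT := .node (.node (.node (.node (.node (.node (.node (.node (.leaf 1245184) (.leaf 43278915)) (.node (.leaf 93831168) (.leaf 0))) (.node (.node (.leaf 25644474) (.leaf 0)) (.node (.leaf 125466705) (.leaf 0)))) (.node (.node (.node (.leaf 26976256) (.leaf 157538530)) (.node (.leaf 112492544) (.leaf 0))) (.node (.node (.leaf 61556637) (.leaf 0)) (.node (.leaf 143695872) (.leaf 0))))) (.node (.node (.node (.node (.leaf 14286848) (.leaf 86731427)) (.node (.leaf 88351233) (.leaf 0))) (.node (.node (.leaf 60505035) (.leaf 0)) (.node (.leaf 136691712) (.leaf 0)))) (.node (.node (.node (.leaf 39247872) (.leaf 141842415)) (.node (.leaf 121167872) (.leaf 0))) (.node (.node (.leaf 83804160) (.leaf 0)) (.node (.leaf 150044672) (.leaf 0)))))) (.node (.node (.node (.node (.node (.leaf 7847936) (.leaf 132654488)) (.node (.leaf 98549760) (.leaf 0))) (.node (.node (.leaf 39277664) (.leaf 0)) (.node (.leaf 133120000) (.leaf 0)))) (.node (.node (.node (.leaf 33218560) (.leaf 139858075)) (.node (.leaf 43675030)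 (.leaf 0))) (.node (.node (.leaf 56632556) (.leaf 0)) (.node (.leaf 130967214) (.leaf 0))))) (.node (.node (.node (.node (.leaf 20824064) (.leaf 162155688)) (.node (.leaf 108101632) (.leaf 0))) (.node (.node (.leaf 21523752) (.leaf 0)) (.node (.leaf 140402688) (.leaf 0)))) (.node (.node (.node (.leaf 45236224) (.leaf 59721828)) (.node (.leaf 91620532) (.leaf 0))) (.node (.node (.leaf 88809472) (.leaf 0)) (.node (.leaf 72411197) (.leaf 0))))))) (.node (.node (.node (.node (.node (.node (.leaf 4554752) (.leaf 42694129)) (.node (.leaf 96223232) (.leaf 0))) (.node (.node (.leaf 53927936) (.leaf 0)) (.node (.leaf 131293184) (.leaf 0)))) (.node (.node (.node (.leaf 30072832) (.leaf 132707314)) (.node (.leaf 114737152) (.leaf 0))) (.node (.node (.leaf 75980800) (.leaf 0)) (.node (.leaf 140556941) (.leaf 0))))) (.node (.node (.node (.node (.leaf 17596416) (.leaf 79571367)) (.node (.leaf 105693184) (.leaf 0))) (.node (.node (.leaf 65273856) (.leaf 0)) (.node (.leaf 138452992) (.leaf 0)))) (.node (.node (.node (.leaf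 42213376) (.leaf 165267342)) (.node (.leaf 114622511) (.leaf 0))) (.node (.node (.leaf 86237184) (.leaf 0)) (.node (.leaf 151527424) (.leaf 0)))))) (.node (.node (.node (.node (.node (.leaf 11091968) (.leaf 122131375)) (.node (.leaf 21649756) (.leaf 0))) (.node (.node (.leaf 59645952) (.leaf 0)) (.node (.leaf 134930432) (.leaf 0)))) (.node (.node (.node (.leaf 36298752) (.leaf 166445056)) (.node (.leaf 102306096) (.leaf 0))) (.node (.node (.leaf 81182720) (.leaf 0)) (.node (.leaf 148561920) (.leaf 0))))) (.node (.node (.node (.node (.leaf 23896064) (.leaf 141930458)) (.node (.leaf 110387200) (.leaf 0))) (.node (.node (.leaf 70631424) (.leaf 0)) (.node (.leaf 119937674) (.leaf 0)))) (.node (.node (.node (.leaf 48193536) (.leaf 140782921)) (.node (.leaf 21481169) (.leaf 0))) (.node (.node (.leaf 24629443) (.leaf 0)) (.node (.leaf 87046109) (.leaf 0)))))))) (.node (.node (.node (.node (.node (.node (.node (.leaf 2916352) (.leaf 140455265)) (.node (.leaf 94969856) (.leaf 0))) (.node (.node (.leaf 52543488)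 (.leaf 0)) (.node (.leaf 54323914) (.leaf 0)))) (.node (.node (.node (.leaf 28516352) (.leaf 138816486)) (.node (.leaf 102543990) (.leaf 0))) (.node (.node (.leaf 8907817) (.leaf 0)) (.node (.leaf 134663206) (.leaf 0))))) (.node (.node (.node (.node (.leaf 15925248) (.leaf 64207204)) (.node (.leaf 15149279) (.leaf 0))) (.node (.node (.leaf 63913984) (.leaf 0)) (.node (.leaf 15747109) (.leaf 0)))) (.node (.node (.node (.leaf 40747008) (.leaf 141291484)) (.node (.leaf 51719802) (.leaf 0))) (.node (.node (.leaf 85049344) (.leaf 0)) (.node (.leaf 9289728) (.leaf 0)))))) (.node (.node (.node (.node (.node (.leaf 9478144) (.leaf 129091112)) (.node (.leaf 97484800) (.leaf 0))) (.node (.node (.leaf 58195968) (.leaf 0)) (.node (.leaf 133988352) (.leaf 0)))) (.node (.node (.node (.leaf 34717696) (.leaf 166068224)) (.node (.leaf 118046720) (.leaf 0))) (.node (.node (.leaf 68311756) (.leaf 0)) (.node (.leaf 20304833) (.leaf 0))))) (.node (.node (.node (.node (.leaf 22323200) (.leaf 162725888)) (.node (.leaf 109232128)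 (.leaf 0))) (.node (.node (.leaf 69361664) (.leaf 0)) (.node (.leaf 87751806) (.leaf 0)))) (.node (.node (.node (.leaf 46743552) (.leaf 108907797)) (.node (.leaf 126337024) (.leaf 0))) (.node (.node (.leaf 84833335) (.leaf 0)) (.node (.leaf 151524112) (.leaf 0))))))) (.node (.node (.node (.node (.node (.node (.leaf 6193152) (.leaf 11173888)) (.node (.leaf 84095115) (.leaf 0))) (.node (.node (.leaf 55328768) (.leaf 0)) (.node (.leaf 132227072) (.leaf 0)))) (.node (.node (.node (.leaf 31670272) (.leaf 16171008)) (.node (.leaf 9010039) (.leaf 0))) (.node (.node (.leaf 77258752) (.leaf 0)) (.node (.leaf 61156938) (.leaf 0))))) (.node (.node (.node (.node (.leaf 19218432) (.leaf 158652604)) (.node (.leaf 97567141) (.leaf 0))) (.node (.node (.leaf 66682880) (.leaf 0)) (.node (.leaf 109055758) (.leaf 0)))) (.node (.node (.node (.leaf 43712512) (.leaf 157410436)) (.node (.leaf 124272640) (.leaf 0))) (.node (.node (.leaf 87515136) (.leaf 0)) (.node (.leaf 148095983) (.leaf 0)))))) (.node (.node (.node (.node (.node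 (.leaf 3132412) (.leaf 127341990)) (.node (.leaf 102121472) (.leaf 0))) (.node (.node (.leaf 48899267) (.leaf 0)) (.node (.leaf 14854226) (.leaf 0)))) (.node (.node (.node (.leaf 37797888) (.leaf 166378391)) (.node (.leaf 119980032) (.leaf 0))) (.node (.node (.leaf 77734795) (.leaf 0)) (.node (.leaf 149323776) (.leaf 0))))) (.node (.node (.node (.node (.leaf 25452544) (.leaf 158392777)) (.node (.leaf 111427584) (.leaf 0))) (.node (.node (.leaf 3065233) (.leaf 0)) (.node (.leaf 126557068) (.leaf 0)))) (.node (.node (.node (.leaf 49668096) (.leaf 155396875)) (.node (.leaf 128360448) (.leaf 0))) (.node (.node (.leaf 92454912) (.leaf 0)) (.node (.leaf 137573977) (.leaf 0))))))))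

def e0T96 : NT := .node (.node (.node (.node (.node (.node (.node (.node (.leaf 1253376) (.leaf 155615232)) (.node (.leaf 68810922) (.leaf 0))) (.node (.node (.leaf 51093504) (.leaf 0)) (.node (.leaf 123566165) (.leaf 0)))) (.node (.node (.node (.leaf 26984448) (.leaf 52745268)) (.node (.leaf 112508928) (.leaf 0))) (.node (.node (.leaf 2359296) (.leaf 0)) (.node (.leaf 143704064) (.leaf 0))))) (.node (.node (.node (.node (.leaf 14295040) (.leaf 147850213)) (.node (.leaf 103227392) (.leaf 0))) (.node (.node (.leaf 62529536) (.leaf 0)) (.node (.leaf 136699904) (.leaf 0)))) (.node (.node (.node (.leaf 39264256) (.leaf 157803744)) (.node (.leaf 121176064) (.leaf 0))) (.node (.node (.leaf 83820544) (.leaf 0)) (.node (.leaf 150052864) (.leaf 0)))))) (.node (.node (.node (.node (.node (.leaf 7864320) (.leaf 151751761)) (.node (.leaf 98557952) (.leaf 0))) (.node (.node (.leaf 56672256) (.leaf 0)) (.node (.leaf 9900583) (.leaf 0)))) (.node (.node (.node (.leaf 33234944) (.leaf 69003766)) (.node (.leaf 116916224)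 (.leaf 0))) (.node (.node (.leaf 11524524) (.leaf 0)) (.node (.leaf 19552283) (.leaf 0))))) (.node (.node (.node (.node (.leaf 20832256) (.leaf 129295669)) (.node (.leaf 108109824) (.leaf 0))) (.node (.node (.leaf 68108288) (.leaf 0)) (.node (.leaf 11232589) (.leaf 0)))) (.node (.node (.node (.leaf 45244416) (.leaf 72537902)) (.node (.leaf 125321216) (.leaf 0))) (.node (.node (.leaf 88825856) (.leaf 0)) (.node (.leaf 152854528) (.leaf 0))))))) (.node (.node (.node (.node (.node (.node (.leaf 4571136) (.leaf 10960896)) (.node (.leaf 61587725) (.leaf 0))) (.node (.node (.leaf 53944320) (.leaf 0)) (.node (.leaf 131301376) (.leaf 0)))) (.node (.node (.node (.leaf 30089216) (.leaf 49842226)) (.node (.leaf 64749677) (.leaf 0))) (.node (.node (.leaf 55727270) (.leaf 0)) (.node (.leaf 15907886) (.leaf 0))))) (.node (.node (.node (.node (.leaf 17604608) (.leaf 103302459)) (.node (.leaf 15274007) (.leaf 0))) (.node (.node (.leaf 65282048) (.leaf 0)) (.node (.leaf 59794846) (.leaf 0)))) (.node (.node (.node (.leaf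 42229760) (.leaf 26577429)) (.node (.leaf 76355250) (.leaf 0))) (.node (.node (.leaf 65524699) (.leaf 0)) (.node (.leaf 67336146) (.leaf 0)))))) (.node (.node (.node (.node (.node (.leaf 11100160) (.leaf 159055872)) (.node (.leaf 100990976) (.leaf 0))) (.node (.node (.leaf 15344963) (.leaf 0)) (.node (.leaf 44035991) (.leaf 0)))) (.node (.node (.node (.leaf 983040) (.leaf 166453248)) (.node (.leaf 119087104) (.leaf 0))) (.node (.node (.leaf 33438476) (.leaf 0)) (.node (.leaf 148570112) (.leaf 0))))) (.node (.node (.node (.node (.leaf 23912448) (.leaf 99983844)) (.node (.leaf 110395392) (.leaf 0))) (.node (.node (.leaf 70647808) (.leaf 0)) (.node (.leaf 7659520) (.leaf 0)))) (.node (.node (.node (.leaf 48201728) (.leaf 152233527)) (.node (.leaf 127401984) (.leaf 0))) (.node (.node (.leaf 37120017) (.leaf 0)) (.node (.leaf 86708273) (.leaf 0)))))))) (.node (.node (.node (.node (.node (.node (.node (.leaf 2924544) (.leaf 156205056)) (.node (.leaf 94978048) (.leaf 0))) (.node (.node (.leaf 52559872) (.leaf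 0)) (.node (.leaf 32238043) (.leaf 0)))) (.node (.node (.node (.leaf 28532736) (.leaf 164528128)) (.node (.leaf 113647616) (.leaf 0))) (.node (.node (.leaf 74637312) (.leaf 0)) (.node (.leaf 144498688) (.leaf 0))))) (.node (.node (.node (.node (.leaf 15933440) (.leaf 16562066)) (.node (.leaf 85980987) (.leaf 0))) (.node (.node (.leaf 63930368) (.leaf 0)) (.node (.leaf 137576448) (.leaf 0)))) (.node (.node (.node (.leaf 40755200) (.leaf 155083819)) (.node (.leaf 122200064) (.leaf 0))) (.node (.node (.leaf 85057536) (.leaf 0)) (.node (.leaf 150839296) (.leaf 0)))))) (.node (.node (.node (.node (.node (.leaf 9494528) (.leaf 91585568)) (.node (.leaf 99770368) (.leaf 0))) (.node (.node (.leaf 58204160) (.leaf 0)) (.node (.leaf 134004736) (.leaf 0)))) (.node (.node (.node (.leaf 34725888) (.leaf 166004572)) (.node (.leaf 117106332) (.leaf 0))) (.node (.node (.leaf 47002541) (.leaf 0)) (.node (.leaf 114539377) (.leaf 0))))) (.node (.node (.node (.node (.leaf 22339584) (.leaf 97123423)) (.node (.leaf 109248512)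 (.leaf 0))) (.node (.node (.leaf 20019068) (.leaf 0)) (.node (.leaf 28942773) (.leaf 0)))) (.node (.node (.node (.leaf 46751744) (.leaf 163908719)) (.node (.leaf 126345216) (.leaf 0))) (.node (.node (.leaf 90079232) (.leaf 0)) (.node (.leaf 70641337) (.leaf 0))))))) (.node (.node (.node (.node (.node (.node (.leaf 6209536) (.leaf 107169815)) (.node (.leaf 47517118) (.leaf 0))) (.node (.node (.leaf 55345152) (.leaf 0)) (.node (.leaf 132235264) (.leaf 0)))) (.node (.node (.node (.leaf 31686656) (.leaf 161612378)) (.node (.leaf 115851264) (.leaf 0))) (.node (.node (.leaf 77275136) (.leaf 0)) (.node (.leaf 118704787) (.leaf 0))))) (.node (.node (.node (.node (.leaf 19226624) (.leaf 161306717)) (.node (.leaf 106921984) (.leaf 0))) (.node (.node (.leaf 66691072) (.leaf 0)) (.node (.leaf 139395072) (.leaf 0)))) (.node (.node (.node (.leaf 43728896) (.leaf 60881518)) (.node (.leaf 5545984) (.leaf 0))) (.node (.node (.leaf 87523328) (.leaf 0)) (.node (.leaf 9641984) (.leaf 0)))))) (.node (.node (.node (.node (.node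 (.leaf 12689408) (.leaf 159571968)) (.node (.leaf 102137856) (.leaf 0))) (.node (.node (.leaf 61136896) (.leaf 0)) (.node (.leaf 133413559) (.leaf 0)))) (.node (.node (.node (.leaf 20919558) (.leaf 166813696)) (.node (.leaf 75486890) (.leaf 0))) (.node (.node (.leaf 28814483) (.leaf 0)) (.node (.leaf 149331968) (.leaf 0))))) (.node (.node (.node (.node (.leaf 25460736) (.leaf 34180878)) (.node (.leaf 45644536) (.leaf 0))) (.node (.node (.leaf 53641216) (.leaf 0)) (.node (.leaf 142983168) (.leaf 0)))) (.node (.node (.node (.leaf 49676288) (.leaf 111298216)) (.node (.leaf 128368640) (.leaf 0))) (.node (.node (.leaf 92471296) (.leaf 0)) (.node (.leaf 121313931) (.leaf 0))))))))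

def e0T97 : NT := .node (.node (.node (.node (.node (.node (.node (.node (.leaf 1269760) (.leaf 151989805)) (.node (.leaf 93847552) (.leaf 0))) (.node (.node (.leaf 51101696) (.leaf 0)) (.node (.leaf 78611110) (.leaf 0)))) (.node (.node (.node (.leaf 27000832) (.leaf 141797723)) (.node (.leaf 11476992) (.leaf 0))) (.node (.node (.leaf 73310208) (.leaf 0)) (.node (.leaf 96139252) (.leaf 0))))) (.node (.node (.node (.node (.leaf 14311424) (.leaf 12328960)) (.node (.leaf 53663235) (.leaf 0))) (.node (.node (.leaf 62545920) (.leaf 0)) (.node (.leaf 136716288) (.leaf 0)))) (.node (.node (.node (.leaf 39280640) (.leaf 19259392)) (.node (.leaf 104598320) (.leaf 0))) (.node (.node (.leaf 52093744) (.leaf 0)) (.node (.leaf 150061056) (.leaf 0)))))) (.node (.node (.node (.node (.node (.leaf 7872512) (.leaf 49311210)) (.node (.leaf 98574336) (.leaf 0))) (.node (.node (.leaf 29597923) (.leaf 0)) (.node (.leaf 66042885) (.leaf 0)))) (.node (.node (.node (.leaf 25448565) (.leaf 109605034)) (.node (.leaf 116924416)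 (.leaf 0))) (.node (.node (.leaf 78577664) (.leaf 0)) (.node (.leaf 146997248) (.leaf 0))))) (.node (.node (.node (.node (.leaf 20848640) (.leaf 130103837)) (.node (.leaf 61040332) (.leaf 0))) (.node (.node (.leaf 68116480) (.leaf 0)) (.node (.leaf 140419072) (.leaf 0)))) (.node (.node (.node (.leaf 45252608) (.leaf 160392552)) (.node (.leaf 125329408) (.leaf 0))) (.node (.node (.leaf 84407161) (.leaf 0)) (.node (.leaf 152862720) (.leaf 0))))))) (.node (.node (.node (.node (.node (.node (.leaf 4587520) (.leaf 17058305)) (.node (.leaf 96231424) (.leaf 0))) (.node (.node (.leaf 53952512) (.leaf 0)) (.node (.leaf 131309568) (.leaf 0)))) (.node (.node (.node (.leaf 30105600) (.leaf 161069471)) (.node (.leaf 114761728) (.leaf 0))) (.node (.node (.leaf 75988992) (.leaf 0)) (.node (.leaf 143008646) (.leaf 0))))) (.node (.node (.node (.node (.leaf 17620992) (.leaf 122966386)) (.node (.leaf 36559896) (.leaf 0))) (.node (.node (.leaf 65290240) (.leaf 0)) (.node (.leaf 90892115) (.leaf 0)))) (.node (.node (.node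 (.leaf 42237952) (.leaf 167460864)) (.node (.leaf 123297792) (.leaf 0))) (.node (.node (.leaf 26700366) (.leaf 0)) (.node (.leaf 92207966) (.leaf 0)))))) (.node (.node (.node (.node (.node (.leaf 11116544) (.leaf 93053696)) (.node (.leaf 101007360) (.leaf 0))) (.node (.node (.leaf 59662336) (.leaf 0)) (.node (.leaf 33110551) (.leaf 0)))) (.node (.node (.node (.leaf 36315136) (.leaf 162090094)) (.node (.leaf 5414912) (.leaf 0))) (.node (.node (.leaf 81199104) (.leaf 0)) (.node (.leaf 144863359) (.leaf 0))))) (.node (.node (.node (.node (.leaf 23920640) (.leaf 163143680)) (.node (.leaf 110403584) (.leaf 0))) (.node (.node (.leaf 70664192) (.leaf 0)) (.node (.leaf 97264927) (.leaf 0)))) (.node (.node (.node (.leaf 48209920) (.leaf 91675320)) (.node (.leaf 127418368) (.leaf 0))) (.node (.node (.leaf 91275264) (.leaf 0)) (.node (.leaf 79367458) (.leaf 0)))))))) (.node (.node (.node (.node (.node (.node (.node (.leaf 2940928) (.leaf 10764288)) (.node (.leaf 94986240) (.leaf 0))) (.node (.node (.leaf 52568064)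 (.leaf 0)) (.node (.leaf 51153299) (.leaf 0)))) (.node (.node (.node (.leaf 28549120) (.leaf 64635085)) (.node (.leaf 113655808) (.leaf 0))) (.node (.node (.leaf 8788746) (.leaf 0)) (.node (.leaf 144515072) (.leaf 0))))) (.node (.node (.node (.node (.leaf 15949824) (.leaf 160743424)) (.node (.leaf 51580467) (.leaf 0))) (.node (.node (.leaf 5405726) (.leaf 0)) (.node (.leaf 93434041) (.leaf 0)))) (.node (.node (.node (.leaf 40771584) (.leaf 160680579)) (.node (.leaf 122208256) (.leaf 0))) (.node (.node (.leaf 85073920) (.leaf 0)) (.node (.leaf 150847488) (.leaf 0)))))) (.node (.node (.node (.node (.node (.leaf 9502720) (.leaf 158457856)) (.node (.leaf 99778560) (.leaf 0))) (.node (.node (.leaf 58220544) (.leaf 0)) (.node (.leaf 44156545) (.leaf 0)))) (.node (.node (.node (.leaf 34742272) (.leaf 166084608)) (.node (.leaf 118063104) (.leaf 0))) (.node (.node (.leaf 79929344) (.leaf 0)) (.node (.leaf 146418108) (.leaf 0))))) (.node (.node (.node (.node (.leaf 22347776) (.leaf 118821815)) (.node (.leaf 109256704)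 (.leaf 0))) (.node (.node (.leaf 69378048) (.leaf 0)) (.node (.leaf 141238272) (.leaf 0)))) (.node (.node (.node (.leaf 46768128) (.leaf 165233305)) (.node (.leaf 57197917) (.leaf 0))) (.node (.node (.leaf 90087424) (.leaf 0)) (.node (.leaf 9977856) (.leaf 0))))))) (.node (.node (.node (.node (.node (.node (.leaf 6225920) (.leaf 123025597)) (.node (.leaf 97386496) (.leaf 0))) (.node (.node (.leaf 55353344) (.leaf 0)) (.node (.leaf 132243456) (.leaf 0)))) (.node (.node (.node (.leaf 31703040) (.leaf 29786637)) (.node (.leaf 77544160) (.leaf 0))) (.node (.node (.leaf 46298263) (.leaf 0)) (.node (.leaf 47089093) (.leaf 0))))) (.node (.node (.node (.node (.leaf 19243008) (.leaf 153494154)) (.node (.leaf 57032890) (.leaf 0))) (.node (.node (.leaf 66707456) (.leaf 0)) (.node (.leaf 139411456) (.leaf 0)))) (.node (.node (.node (.leaf 43737088) (.leaf 162754249)) (.node (.leaf 119030568) (.leaf 0))) (.node (.node (.leaf 84475904) (.leaf 0)) (.node (.leaf 117646488) (.leaf 0)))))) (.node (.node (.node (.node (.node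 (.leaf 12705792) (.leaf 61186048)) (.node (.leaf 30661322) (.leaf 0))) (.node (.node (.leaf 61145088) (.leaf 0)) (.node (.leaf 103844091) (.leaf 0)))) (.node (.node (.node (.leaf 22003712) (.leaf 163977356)) (.node (.leaf 119996416) (.leaf 0))) (.node (.node (.leaf 82534400) (.leaf 0)) (.node (.leaf 32762375) (.leaf 0))))) (.node (.node (.node (.node (.leaf 25477120) (.leaf 25682890)) (.node (.leaf 111452160) (.leaf 0))) (.node (.node (.leaf 71966720) (.leaf 0)) (.node (.leaf 142991360) (.leaf 0)))) (.node (.node (.node (.leaf 49692672) (.leaf 168083456)) (.node (.leaf 128376832) (.leaf 0))) (.node (.node (.leaf 92487680) (.leaf 0)) (.node (.leaf 154894336) (.leaf 0))))))))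

def e0T98 : NT := .node (.node (.node (.node (.node (.node (.node (.node (.leaf 1286144) (.leaf 155631616)) (.node (.leaf 3358720) (.leaf 0))) (.node (.node (.leaf 51118080) (.leaf 0)) (.node (.leaf 19102168) (.leaf 0)))) (.node (.node (.node (.leaf 9127391) (.leaf 148116082)) (.node (.leaf 112525312) (.leaf 0))) (.node (.node (.leaf 73318400) (.leaf 0)) (.node (.leaf 71592842) (.leaf 0))))) (.node (.node (.node (.node (.leaf 14319616) (.leaf 160129024)) (.node (.leaf 103243776) (.leaf 0))) (.node (.node (.leaf 62554112) (.leaf 0)) (.node (.leaf 136724480) (.leaf 0)))) (.node (.node (.node (.leaf 39288832) (.leaf 167067648)) (.node (.leaf 121184256) (.leaf 0))) (.node (.node (.leaf 83836928) (.leaf 0)) (.node (.leaf 15880343) (.leaf 0)))))) (.node (.node (.node (.node (.node (.leaf 7888896) (.leaf 127559717)) (.node (.leaf 98582528) (.leaf 0))) (.node (.node (.leaf 56688640) (.leaf 0)) (.node (.leaf 133144576) (.leaf 0)))) (.node (.node (.node (.leaf 33251328) (.leaf 165699584)) (.node (.leaf 116275637)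 (.leaf 0))) (.node (.node (.leaf 78585856) (.leaf 0)) (.node (.leaf 147013632) (.leaf 0))))) (.node (.node (.node (.node (.leaf 20865024) (.leaf 162242560)) (.node (.leaf 21556929) (.leaf 0))) (.node (.node (.leaf 68132864) (.leaf 0)) (.node (.leaf 27669177) (.leaf 0)))) (.node (.node (.node (.leaf 22294337) (.leaf 163296007)) (.node (.leaf 46832401) (.leaf 0))) (.node (.node (.leaf 88842240) (.leaf 0)) (.node (.leaf 152879104) (.leaf 0))))))) (.node (.node (.node (.node (.node (.node (.leaf 4595712) (.leaf 130556634)) (.node (.leaf 96239616) (.leaf 0))) (.node (.node (.leaf 53968896) (.leaf 0)) (.node (.leaf 131317760) (.leaf 0)))) (.node (.node (.node (.leaf 22386929) (.leaf 99022291)) (.node (.leaf 114769920) (.leaf 0))) (.node (.node (.leaf 38598973) (.leaf 0)) (.node (.leaf 111358181) (.leaf 0))))) (.node (.node (.node (.node (.leaf 17637376) (.leaf 143781221)) (.node (.leaf 105709568) (.leaf 0))) (.node (.node (.leaf 65306624) (.leaf 0)) (.node (.leaf 92300250) (.leaf 0)))) (.node (.node (.node (.leaf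 42254336) (.leaf 162465015)) (.node (.leaf 89176452) (.leaf 0))) (.node (.node (.leaf 79867184) (.leaf 0)) (.node (.leaf 111371372) (.leaf 0)))))) (.node (.node (.node (.node (.node (.leaf 11132928) (.leaf 150094703)) (.node (.leaf 101015552) (.leaf 0))) (.node (.node (.leaf 59670528) (.leaf 0)) (.node (.leaf 134938624) (.leaf 0)))) (.node (.node (.node (.leaf 33773442) (.leaf 163639629)) (.node (.leaf 119103488) (.leaf 0))) (.node (.node (.leaf 76420766) (.leaf 0)) (.node (.leaf 148578304) (.leaf 0))))) (.node (.node (.node (.node (.leaf 23937024) (.leaf 148588493)) (.node (.leaf 107880448) (.leaf 0))) (.node (.node (.leaf 70672384) (.leaf 0)) (.node (.leaf 28759958) (.leaf 0)))) (.node (.node (.node (.leaf 48226304) (.leaf 149161110)) (.node (.leaf 69138206) (.leaf 0))) (.node (.node (.leaf 91283456) (.leaf 0)) (.node (.leaf 154296320) (.leaf 0)))))))) (.node (.node (.node (.node (.node (.node (.node (.leaf 2949120) (.leaf 156221440)) (.node (.leaf 95002624) (.leaf 0))) (.node (.node (.leaf 52576256)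 (.leaf 0)) (.node (.leaf 130244608) (.leaf 0)))) (.node (.node (.node (.leaf 28565504) (.leaf 152190095)) (.node (.leaf 83589907) (.leaf 0))) (.node (.node (.leaf 74653696) (.leaf 0)) (.node (.leaf 144531456) (.leaf 0))))) (.node (.node (.node (.node (.leaf 15958016) (.leaf 158292087)) (.node (.leaf 104415232) (.leaf 0))) (.node (.node (.leaf 43012706) (.leaf 0)) (.node (.leaf 137584640) (.leaf 0)))) (.node (.node (.node (.leaf 1441792) (.leaf 159860011)) (.node (.leaf 122216448) (.leaf 0))) (.node (.node (.leaf 85090304) (.leaf 0)) (.node (.leaf 150855680) (.leaf 0)))))) (.node (.node (.node (.node (.node (.leaf 9519104) (.leaf 117763688)) (.node (.leaf 99794944) (.leaf 0))) (.node (.node (.leaf 58236928) (.leaf 0)) (.node (.leaf 134021120) (.leaf 0)))) (.node (.node (.node (.leaf 34750464) (.leaf 70851352)) (.node (.leaf 118079488) (.leaf 0))) (.node (.node (.leaf 79937536) (.leaf 0)) (.node (.leaf 147734528) (.leaf 0))))) (.node (.node (.node (.node (.leaf 22364160) (.leaf 127743550)) (.node (.leaf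 108319090) (.leaf 0))) (.node (.node (.leaf 65658880) (.leaf 0)) (.node (.leaf 141254656) (.leaf 0)))) (.node (.node (.node (.leaf 46776320) (.leaf 85553939)) (.node (.leaf 126361600) (.leaf 0))) (.node (.node (.leaf 67546863) (.leaf 0)) (.node (.leaf 59086956) (.leaf 0))))))) (.node (.node (.node (.node (.node (.node (.leaf 6234112) (.leaf 124358156)) (.node (.leaf 97394688) (.leaf 0))) (.node (.node (.leaf 55369728) (.leaf 0)) (.node (.leaf 40489072) (.leaf 0)))) (.node (.node (.node (.leaf 31711232) (.leaf 87568919)) (.node (.leaf 6424373) (.leaf 0))) (.node (.node (.leaf 77291520) (.leaf 0)) (.node (.leaf 123833293) (.leaf 0))))) (.node (.node (.node (.node (.leaf 19251200) (.leaf 161718272)) (.node (.leaf 106938368) (.leaf 0))) (.node (.node (.leaf 66715648) (.leaf 0)) (.node (.leaf 103952748) (.leaf 0)))) (.node (.node (.node (.leaf 43753472) (.leaf 75786776)) (.node (.leaf 124297216) (.leaf 0))) (.node (.node (.leaf 80115840) (.leaf 0)) (.node (.leaf 136039173) (.leaf 0)))))) (.node (.node (.node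 (.node (.node (.leaf 12713984) (.leaf 83953574)) (.node (.leaf 102154240) (.leaf 0))) (.node (.node (.leaf 13512757) (.leaf 0)) (.node (.leaf 92098554) (.leaf 0)))) (.node (.node (.node (.leaf 30455399) (.leaf 154499626)) (.node (.leaf 120004608) (.leaf 0))) (.node (.node (.leaf 82542592) (.leaf 0)) (.node (.leaf 149340160) (.leaf 0))))) (.node (.node (.node (.node (.leaf 25493504) (.leaf 116994667)) (.node (.leaf 111460352) (.leaf 0))) (.node (.node (.leaf 71974912) (.leaf 0)) (.node (.leaf 142999552) (.leaf 0)))) (.node (.node (.node (.leaf 49700864) (.leaf 164924292)) (.node (.leaf 128393216) (.leaf 0))) (.node (.node (.leaf 92495872) (.leaf 0)) (.node (.leaf 154902528) (.leaf 0))))))))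

def e0T99 : NT := .node (.node (.node (.node (.node (.node (.node (.node (.leaf 1294336) (.leaf 155639808)) (.node (.leaf 93863936) (.leaf 0))) (.node (.node (.leaf 51134464) (.leaf 0)) (.node (.leaf 129335296) (.leaf 0)))) (.node (.node (.node (.leaf 27017216) (.leaf 159736457)) (.node (.leaf 112533504) (.leaf 0))) (.node (.node (.leaf 69881041) (.leaf 0)) (.node (.leaf 143720448) (.leaf 0))))) (.node (.node (.node (.node (.leaf 14336000) (.leaf 132288472)) (.node (.leaf 103260160) (.leaf 0))) (.node (.node (.leaf 62562304) (.leaf 0)) (.node (.leaf 136732672) (.leaf 0)))) (.node (.node (.node (.leaf 39305216) (.leaf 165515775)) (.node (.leaf 93324901) (.leaf 0))) (.node (.node (.leaf 77434337) (.leaf 0)) (.node (.leaf 150069248) (.leaf 0)))))) (.node (.node (.node (.node (.node (.leaf 5008983) (.leaf 157949952)) (.node (.leaf 98598912) (.leaf 0))) (.node (.node (.leaf 56705024) (.leaf 0)) (.node (.leaf 64740194) (.leaf 0)))) (.node (.node (.node (.leaf 33259520) (.leaf 165707776)) (.node (.leaf 106202964)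 (.leaf 0))) (.node (.node (.leaf 27512692) (.leaf 0)) (.node (.leaf 108600173) (.leaf 0))))) (.node (.node (.node (.node (.leaf 2139981) (.leaf 162250752)) (.node (.leaf 89498805) (.leaf 0))) (.node (.node (.leaf 68141056) (.leaf 0)) (.node (.leaf 140435456) (.leaf 0)))) (.node (.node (.node (.leaf 45268992) (.leaf 167813120)) (.node (.leaf 125345792) (.leaf 0))) (.node (.node (.leaf 20288588) (.leaf 0)) (.node (.leaf 109476300) (.leaf 0))))))) (.node (.node (.node (.node (.node (.node (.leaf 4612096) (.leaf 110912214)) (.node (.leaf 96247808) (.leaf 0))) (.node (.node (.leaf 53985280) (.leaf 0)) (.node (.leaf 103524922) (.leaf 0)))) (.node (.node (.node (.leaf 30121984) (.leaf 159622677)) (.node (.leaf 32696835) (.leaf 0))) (.node (.node (.leaf 76013568) (.leaf 0)) (.node (.leaf 145235968) (.leaf 0))))) (.node (.node (.node (.node (.leaf 17645568) (.leaf 161202176)) (.node (.leaf 105725952) (.leaf 0))) (.node (.node (.leaf 65314816) (.leaf 0)) (.node (.leaf 88034255) (.leaf 0)))) (.node (.node (.node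 (.leaf 42262528) (.leaf 161408817)) (.node (.leaf 123314176) (.leaf 0))) (.node (.node (.leaf 86261760) (.leaf 0)) (.node (.leaf 113536358) (.leaf 0)))))) (.node (.node (.node (.node (.node (.leaf 11141120) (.leaf 159064064)) (.node (.leaf 101031936) (.leaf 0))) (.node (.node (.leaf 59686912) (.leaf 0)) (.node (.leaf 96622168) (.leaf 0)))) (.node (.node (.node (.leaf 36323328) (.leaf 165180049)) (.node (.leaf 119119872) (.leaf 0))) (.node (.node (.leaf 81223680) (.leaf 0)) (.node (.leaf 148594688) (.leaf 0))))) (.node (.node (.node (.node (.leaf 23945216) (.leaf 163151872)) (.node (.leaf 62995012) (.leaf 0))) (.node (.node (.leaf 70688768) (.leaf 0)) (.node (.leaf 142155776) (.leaf 0)))) (.node (.node (.node (.leaf 22318972) (.leaf 150106489)) (.node (.leaf 39449701) (.leaf 0))) (.node (.node (.leaf 91291648) (.leaf 0)) (.node (.leaf 154304512) (.leaf 0)))))))) (.node (.node (.node (.node (.node (.node (.node (.leaf 2965504) (.leaf 74467210)) (.node (.leaf 95019008) (.leaf 0))) (.node (.node (.leaf 52584448)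 (.leaf 0)) (.node (.leaf 130252800) (.leaf 0)))) (.node (.node (.node (.leaf 28573696) (.leaf 164544512)) (.node (.leaf 55389002) (.leaf 0))) (.node (.node (.leaf 74670080) (.leaf 0)) (.node (.leaf 144539648) (.leaf 0))))) (.node (.node (.node (.node (.leaf 15974400) (.leaf 122369532)) (.node (.leaf 104423424) (.leaf 0))) (.node (.node (.leaf 63946752) (.leaf 0)) (.node (.leaf 137592832) (.leaf 0)))) (.node (.node (.node (.leaf 40779776) (.leaf 106190879)) (.node (.leaf 122224640) (.leaf 0))) (.node (.node (.leaf 72516663) (.leaf 0)) (.node (.leaf 117781802) (.leaf 0)))))) (.node (.node (.node (.node (.node (.leaf 9527296) (.leaf 158474240)) (.node (.leaf 99811328) (.leaf 0))) (.node (.node (.leaf 58245120) (.leaf 0)) (.node (.leaf 134029312) (.leaf 0)))) (.node (.node (.node (.leaf 34766848) (.leaf 122105450)) (.node (.leaf 118087680) (.leaf 0))) (.node (.node (.leaf 3794669) (.leaf 0)) (.node (.leaf 142535430) (.leaf 0))))) (.node (.node (.node (.node (.leaf 22372352) (.leaf 43412991)) (.node (.leaf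 109264896) (.leaf 0))) (.node (.node (.leaf 45472519) (.leaf 0)) (.node (.leaf 40335360) (.leaf 0)))) (.node (.node (.node (.leaf 46792704) (.leaf 145913481)) (.node (.leaf 126369792) (.leaf 0))) (.node (.node (.leaf 90095616) (.leaf 0)) (.node (.leaf 153583616) (.leaf 0))))))) (.node (.node (.node (.node (.node (.node (.leaf 6250496) (.leaf 132588536)) (.node (.leaf 96925097) (.leaf 0))) (.node (.node (.leaf 55377920) (.leaf 0)) (.node (.leaf 132268032) (.leaf 0)))) (.node (.node (.node (.leaf 31719424) (.leaf 143616677)) (.node (.leaf 115859456) (.leaf 0))) (.node (.node (.leaf 77307904) (.leaf 0)) (.node (.leaf 146137088) (.leaf 0))))) (.node (.node (.node (.node (.leaf 19267584) (.leaf 161726464)) (.node (.leaf 106954752) (.leaf 0))) (.node (.node (.leaf 66732032) (.leaf 0)) (.node (.leaf 139436032) (.leaf 0)))) (.node (.node (.node (.leaf 43769856) (.leaf 138736053)) (.node (.leaf 42547512) (.leaf 0))) (.node (.node (.leaf 87539712) (.leaf 0)) (.node (.leaf 77051423) (.leaf 0)))))) (.node (.node (.node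 (.node (.node (.leaf 12730368) (.leaf 159580160)) (.node (.leaf 43616943) (.leaf 0))) (.node (.node (.leaf 61161472) (.leaf 0)) (.node (.leaf 120448132) (.leaf 0)))) (.node (.node (.node (.leaf 37830656) (.leaf 110262589)) (.node (.leaf 120012800) (.leaf 0))) (.node (.node (.leaf 82550784) (.leaf 0)) (.node (.leaf 107414447) (.leaf 0))))) (.node (.node (.node (.node (.leaf 25501696) (.leaf 146725945)) (.node (.leaf 111468544) (.leaf 0))) (.node (.node (.leaf 71983104) (.leaf 0)) (.node (.leaf 73778690) (.leaf 0)))) (.node (.node (.node (.leaf 49709056) (.leaf 129716659)) (.node (.leaf 77461975) (.leaf 0))) (.node (.node (.leaf 92512256) (.leaf 0)) (.node (.leaf 154910720) (.leaf 0))))))))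

def e0T100 : NT := .node (.node (.node (.node (.node (.node (.node (.node (.leaf 1310720) (.leaf 125172436)) (.node (.leaf 93872128) (.leaf 0))) (.node (.node (.leaf 51142656) (.leaf 0)) (.node (.leaf 9624552) (.leaf 0)))) (.node (.node (.node (.leaf 27025408) (.leaf 159322641)) (.node (.leaf 112541696) (.leaf 0))) (.node (.node (.leaf 73342976) (.leaf 0)) (.node (.leaf 143728640) (.leaf 0))))) (.node (.node (.node (.node (.leaf 14344192) (.leaf 137067236)) (.node (.leaf 103268352) (.leaf 0))) (.node (.node (.leaf 62578688) (.leaf 0)) (.node (.leaf 136749056) (.leaf 0)))) (.node (.node (.node (.leaf 39313408) (.leaf 95815881)) (.node (.leaf 121200640) (.leaf 0))) (.node (.node (.leaf 83861504) (.leaf 0)) (.node (.leaf 150077440) (.leaf 0)))))) (.node (.node (.node (.node (.node (.leaf 7905280) (.leaf 109855780)) (.node (.leaf 98607104) (.leaf 0))) (.node (.node (.leaf 56713216) (.leaf 0)) (.node (.leaf 133169152) (.leaf 0)))) (.node (.node (.node (.leaf 33275904) (.leaf 165715968)) (.node (.leaf 116948992)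 (.leaf 0))) (.node (.node (.leaf 78594048) (.leaf 0)) (.node (.leaf 68169195) (.leaf 0))))) (.node (.node (.node (.node (.leaf 20881408) (.leaf 147012373)) (.node (.leaf 41642532) (.leaf 0))) (.node (.node (.leaf 53676835) (.leaf 0)) (.node (.leaf 89516093) (.leaf 0)))) (.node (.node (.node (.leaf 45285376) (.leaf 164675647)) (.node (.leaf 67061460) (.leaf 0))) (.node (.node (.leaf 88858624) (.leaf 0)) (.node (.leaf 105493512) (.leaf 0))))))) (.node (.node (.node (.node (.node (.node (.leaf 4620288) (.leaf 151678605)) (.node (.leaf 96256000) (.leaf 0))) (.node (.node (.leaf 6309178) (.leaf 0)) (.node (.leaf 101991535) (.leaf 0)))) (.node (.node (.node (.leaf 30130176) (.leaf 118216851)) (.node (.leaf 114778112) (.leaf 0))) (.node (.node (.leaf 76021760) (.leaf 0)) (.node (.leaf 8208384) (.leaf 0))))) (.node (.node (.node (.node (.leaf 17661952) (.leaf 82267325)) (.node (.leaf 105742336) (.leaf 0))) (.node (.node (.leaf 30364492) (.leaf 0)) (.node (.leaf 126804655) (.leaf 0)))) (.node (.node (.node (.leaf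 42270720) (.leaf 52250546)) (.node (.leaf 45873969) (.leaf 0))) (.node (.node (.leaf 86278144) (.leaf 0)) (.node (.leaf 73392880) (.leaf 0)))))) (.node (.node (.node (.node (.node (.leaf 11157504) (.leaf 53115600)) (.node (.leaf 101040128) (.leaf 0))) (.node (.node (.leaf 59703296) (.leaf 0)) (.node (.leaf 134963200) (.leaf 0)))) (.node (.node (.node (.leaf 36339712) (.leaf 161533682)) (.node (.leaf 31166191) (.leaf 0))) (.node (.node (.leaf 81231872) (.leaf 0)) (.node (.leaf 113010777) (.leaf 0))))) (.node (.node (.node (.node (.leaf 23961600) (.leaf 74162552)) (.node (.leaf 110419968) (.leaf 0))) (.node (.node (.leaf 12204493) (.leaf 0)) (.node (.leaf 96325479) (.leaf 0)))) (.node (.node (.node (.leaf 48242688) (.leaf 168009728)) (.node (.leaf 30427612) (.leaf 0))) (.node (.node (.leaf 51235444) (.leaf 0)) (.node (.leaf 121869320) (.leaf 0)))))))) (.node (.node (.node (.node (.node (.node (.node (.leaf 2981888) (.leaf 128387049)) (.node (.leaf 11990232) (.leaf 0))) (.node (.node (.leaf 52600832) (.leaf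 0)) (.node (.leaf 130269184) (.leaf 0)))) (.node (.node (.node (.leaf 28590080) (.leaf 164552704)) (.node (.leaf 101659658) (.leaf 0))) (.node (.node (.leaf 74678272) (.leaf 0)) (.node (.leaf 144547840) (.leaf 0))))) (.node (.node (.node (.node (.leaf 15990784) (.leaf 156121191)) (.node (.leaf 104439808) (.leaf 0))) (.node (.node (.leaf 63954944) (.leaf 0)) (.node (.leaf 137601024) (.leaf 0)))) (.node (.node (.node (.leaf 40796160) (.leaf 167264256)) (.node (.leaf 122241024) (.leaf 0))) (.node (.node (.leaf 10393805) (.leaf 0)) (.node (.leaf 119049038) (.leaf 0)))))) (.node (.node (.node (.node (.node (.leaf 9543680) (.leaf 158482432)) (.node (.leaf 82179389) (.leaf 0))) (.node (.node (.leaf 58253312) (.leaf 0)) (.node (.leaf 122720307) (.leaf 0)))) (.node (.node (.node (.leaf 34783232) (.leaf 161499834)) (.node (.leaf 58712711) (.leaf 0))) (.node (.node (.leaf 50766985) (.leaf 0)) (.node (.leaf 147742720) (.leaf 0))))) (.node (.node (.node (.node (.leaf 22388736) (.leaf 160334235)) (.node (.leaf 85625518)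 (.leaf 0))) (.node (.node (.leaf 69386240) (.leaf 0)) (.node (.leaf 141271040) (.leaf 0)))) (.node (.node (.node (.leaf 46800896) (.leaf 167919616)) (.node (.leaf 59518363) (.leaf 0))) (.node (.node (.leaf 90103808) (.leaf 0)) (.node (.leaf 153600000) (.leaf 0))))))) (.node (.node (.node (.node (.node (.node (.leaf 6258688) (.leaf 85668536)) (.node (.leaf 97402880) (.leaf 0))) (.node (.node (.leaf 1630208) (.leaf 0)) (.node (.leaf 128342903) (.leaf 0)))) (.node (.node (.node (.leaf 31735808) (.leaf 37878580)) (.node (.leaf 115867648) (.leaf 0))) (.node (.node (.leaf 77316096) (.leaf 0)) (.node (.leaf 93623481) (.leaf 0))))) (.node (.node (.node (.node (.leaf 19283968) (.leaf 123863800)) (.node (.leaf 106971136) (.leaf 0))) (.node (.node (.leaf 66740224) (.leaf 0)) (.node (.leaf 101553635) (.leaf 0)))) (.node (.node (.node (.leaf 43786240) (.leaf 167641088)) (.node (.leaf 124321792) (.leaf 0))) (.node (.node (.leaf 87556096) (.leaf 0)) (.node (.leaf 152248320) (.leaf 0)))))) (.node (.node (.node (.node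 (.node (.leaf 12738560) (.leaf 116462520)) (.node (.leaf 42509103) (.leaf 0))) (.node (.node (.leaf 61177856) (.leaf 0)) (.node (.leaf 93553132) (.leaf 0)))) (.node (.node (.node (.leaf 37838848) (.leaf 75720859)) (.node (.leaf 120020992) (.leaf 0))) (.node (.node (.leaf 82558976) (.leaf 0)) (.node (.leaf 149356544) (.leaf 0))))) (.node (.node (.node (.node (.leaf 25509888) (.leaf 163454976)) (.node (.leaf 111484928) (.leaf 0))) (.node (.node (.leaf 23574015) (.leaf 0)) (.node (.leaf 13389318) (.leaf 0)))) (.node (.node (.node (.leaf 49717248) (.leaf 168048292)) (.node (.leaf 128417792) (.leaf 0))) (.node (.node (.leaf 71160927) (.leaf 0)) (.node (.leaf 154918912) (.leaf 0))))))))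

def e0T101 : NT := .node (.node (.node (.node (.node (.node (.node (.node (.leaf 1318912) (.leaf 155648000)) (.node (.leaf 42061852) (.leaf 0))) (.node (.node (.leaf 51159040) (.leaf 0)) (.node (.leaf 129351680) (.leaf 0)))) (.node (.node (.node (.leaf 27041792) (.leaf 163987456)) (.node (.leaf 112549888) (.leaf 0))) (.node (.node (.leaf 73351168) (.leaf 0)) (.node (.leaf 139077676) (.leaf 0))))) (.node (.node (.node (.node (.leaf 14360576) (.leaf 160145408)) (.node (.leaf 103276544) (.leaf 0))) (.node (.node (.leaf 62586880) (.leaf 0)) (.node (.leaf 127387901) (.leaf 0)))) (.node (.node (.node (.leaf 39329792) (.leaf 164665538)) (.node (.leaf 121208832) (.leaf 0))) (.node (.node (.leaf 83869696) (.leaf 0)) (.node (.leaf 150085632) (.leaf 0)))))) (.node (.node (.node (.node (.node (.leaf 7921664) (.leaf 136292106)) (.node (.leaf 98615296) (.leaf 0))) (.node (.node (.leaf 56729600) (.leaf 0)) (.node (.leaf 103999657) (.leaf 0)))) (.node (.node (.node (.leaf 33292288) (.leaf 165732352)) (.node (.leaf 38124384)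 (.leaf 0))) (.node (.node (.leaf 67561221) (.leaf 0)) (.node (.leaf 147030016) (.leaf 0))))) (.node (.node (.node (.node (.leaf 20889600) (.leaf 128133732)) (.node (.leaf 94645502) (.leaf 0))) (.node (.node (.leaf 68157440) (.leaf 0)) (.node (.leaf 140443648) (.leaf 0)))) (.node (.node (.node (.leaf 45293568) (.leaf 88594424)) (.node (.leaf 125362176) (.leaf 0))) (.node (.node (.leaf 50445471) (.leaf 0)) (.node (.leaf 152895488) (.leaf 0))))))) (.node (.node (.node (.node (.node (.node (.leaf 4636672) (.leaf 156844032)) (.node (.leaf 96264192) (.leaf 0))) (.node (.node (.leaf 54001664) (.leaf 0)) (.node (.leaf 131342336) (.leaf 0)))) (.node (.node (.node (.leaf 30146560) (.leaf 150505490)) (.node (.leaf 114786304) (.leaf 0))) (.node (.node (.leaf 50973787) (.leaf 0)) (.node (.leaf 136677035) (.leaf 0))))) (.node (.node (.node (.node (.leaf 17670144) (.leaf 152775648)) (.node (.leaf 27730752) (.leaf 0))) (.node (.node (.leaf 65331200) (.leaf 0)) (.node (.leaf 118938160) (.leaf 0)))) (.node (.node (.node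 (.leaf 42287104) (.leaf 76531233)) (.node (.leaf 123330560) (.leaf 0))) (.node (.node (.leaf 86286336) (.leaf 0)) (.node (.leaf 151543808) (.leaf 0)))))) (.node (.node (.node (.node (.node (.leaf 11165696) (.leaf 53696034)) (.node (.leaf 101048320) (.leaf 0))) (.node (.node (.leaf 59711488) (.leaf 0)) (.node (.leaf 91762015) (.leaf 0)))) (.node (.node (.node (.leaf 36347904) (.leaf 166469632)) (.node (.leaf 119128064) (.leaf 0))) (.node (.node (.leaf 81248256) (.leaf 0)) (.node (.leaf 138155475) (.leaf 0))))) (.node (.node (.node (.node (.leaf 23977984) (.leaf 93279281)) (.node (.leaf 45215509) (.leaf 0))) (.node (.node (.leaf 63403325) (.leaf 0)) (.node (.leaf 132266489) (.leaf 0)))) (.node (.node (.node (.leaf 48259072) (.leaf 124461736)) (.node (.leaf 65979846) (.leaf 0))) (.node (.node (.leaf 78271854) (.leaf 0)) (.node (.leaf 125117265) (.leaf 0)))))))) (.node (.node (.node (.node (.node (.node (.node (.leaf 2990080) (.leaf 156237824)) (.node (.leaf 95035392) (.leaf 0))) (.node (.node (.leaf 1531904)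 (.leaf 0)) (.node (.leaf 124093707) (.leaf 0)))) (.node (.node (.node (.leaf 28606464) (.leaf 164569088)) (.node (.leaf 113672192) (.leaf 0))) (.node (.node (.leaf 74694656) (.leaf 0)) (.node (.leaf 24303069) (.leaf 0))))) (.node (.node (.node (.node (.leaf 15998976) (.leaf 25473671)) (.node (.leaf 104448000) (.leaf 0))) (.node (.node (.leaf 63971328) (.leaf 0)) (.node (.leaf 137617408) (.leaf 0)))) (.node (.node (.node (.leaf 23248896) (.leaf 162698537)) (.node (.leaf 122257408) (.leaf 0))) (.node (.node (.leaf 85106688) (.leaf 0)) (.node (.leaf 150880256) (.leaf 0)))))) (.node (.node (.node (.node (.node (.leaf 9560064) (.leaf 158490624)) (.node (.leaf 99827712) (.leaf 0))) (.node (.node (.leaf 58261504) (.leaf 0)) (.node (.leaf 134037504) (.leaf 0)))) (.node (.node (.node (.leaf 34791424) (.leaf 166092800)) (.node (.leaf 87725698) (.leaf 0))) (.node (.node (.leaf 79953920) (.leaf 0)) (.node (.leaf 97527035) (.leaf 0))))) (.node (.node (.node (.node (.leaf 22405120) (.leaf 67822079)) (.node (.leaf 4366336)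 (.leaf 0))) (.node (.node (.leaf 44487169) (.leaf 0)) (.node (.leaf 119482533) (.leaf 0)))) (.node (.node (.node (.leaf 46817280) (.leaf 158933751)) (.node (.leaf 126386176) (.leaf 0))) (.node (.node (.leaf 90112000) (.leaf 0)) (.node (.leaf 148022311) (.leaf 0))))))) (.node (.node (.node (.node (.node (.node (.leaf 6275072) (.leaf 157450240)) (.node (.leaf 97411072) (.leaf 0))) (.node (.node (.leaf 55394304) (.leaf 0)) (.node (.leaf 132292608) (.leaf 0)))) (.node (.node (.node (.leaf 31744000) (.leaf 165396480)) (.node (.leaf 115884032) (.leaf 0))) (.node (.node (.leaf 77332480) (.leaf 0)) (.node (.leaf 10324502) (.leaf 0))))) (.node (.node (.node (.node (.leaf 19292160) (.leaf 40849253)) (.node (.leaf 4202496) (.leaf 0))) (.node (.node (.leaf 66748416) (.leaf 0)) (.node (.leaf 139444224) (.leaf 0)))) (.node (.node (.node (.leaf 43794432) (.leaf 163394803)) (.node (.leaf 124329984) (.leaf 0))) (.node (.node (.leaf 87572480) (.leaf 0)) (.node (.leaf 57345517) (.leaf 0)))))) (.node (.node (.node (.node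 (.node (.leaf 12754944) (.leaf 159588352)) (.node (.leaf 51205087) (.leaf 0))) (.node (.node (.leaf 61194240) (.leaf 0)) (.node (.leaf 92450585) (.leaf 0)))) (.node (.node (.node (.leaf 37855232) (.leaf 160781987)) (.node (.leaf 120029184) (.leaf 0))) (.node (.node (.leaf 82575360) (.leaf 0)) (.node (.leaf 69277465) (.leaf 0))))) (.node (.node (.node (.node (.leaf 25526272) (.leaf 56459724)) (.node (.leaf 111501312) (.leaf 0))) (.node (.node (.leaf 20719756) (.leaf 0)) (.node (.leaf 7790592) (.leaf 0)))) (.node (.node (.node (.leaf 49733632) (.leaf 32563200)) (.node (.leaf 128434176) (.leaf 0))) (.node (.node (.leaf 3293184) (.leaf 0)) (.node (.leaf 154927104) (.leaf 0))))))))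

def e0T102 : NT := .node (.node (.node (.node (.node (.node (.node (.node (.leaf 1335296) (.leaf 145683570)) (.node (.leaf 93888512) (.leaf 0))) (.node (.node (.leaf 51175424) (.leaf 0)) (.node (.leaf 129359872) (.leaf 0)))) (.node (.node (.node (.leaf 27058176) (.leaf 46481699)) (.node (.leaf 112558080) (.leaf 0))) (.node (.node (.leaf 73367552) (.leaf 0)) (.node (.leaf 79210942) (.leaf 0))))) (.node (.node (.node (.node (.leaf 14376960) (.leaf 160153600)) (.node (.leaf 103292928) (.leaf 0))) (.node (.node (.leaf 62603264) (.leaf 0)) (.node (.leaf 136773632) (.leaf 0)))) (.node (.node (.node (.leaf 39346176) (.leaf 167075840)) (.node (.leaf 121217024) (.leaf 0))) (.node (.node (.leaf 83877888) (.leaf 0)) (.node (.leaf 80675557) (.leaf 0)))))) (.node (.node (.node (.node (.node (.leaf 7938048) (.leaf 157966336)) (.node (.leaf 98631680) (.leaf 0))) (.node (.node (.leaf 56737792) (.leaf 0)) (.node (.leaf 84285136) (.leaf 0)))) (.node (.node (.node (.leaf 33300480) (.leaf 165740544)) (.node (.leaf 116973568)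 (.leaf 0))) (.node (.node (.leaf 78618624) (.leaf 0)) (.node (.leaf 75551361) (.leaf 0))))) (.node (.node (.node (.node (.leaf 20905984) (.leaf 39431576)) (.node (.leaf 108134400) (.leaf 0))) (.node (.node (.leaf 68173824) (.leaf 0)) (.node (.leaf 38136014) (.leaf 0)))) (.node (.node (.node (.leaf 45309952) (.leaf 134437755)) (.node (.leaf 125378560) (.leaf 0))) (.node (.node (.leaf 88875008) (.leaf 0)) (.node (.leaf 130674350) (.leaf 0))))))) (.node (.node (.node (.node (.node (.node (.leaf 4653056) (.leaf 156860416)) (.node (.leaf 18475670) (.leaf 0))) (.node (.node (.leaf 54018048) (.leaf 0)) (.node (.leaf 131358720) (.leaf 0)))) (.node (.node (.node (.leaf 30162944) (.leaf 44268133)) (.node (.leaf 114802688) (.leaf 0))) (.node (.node (.leaf 76038144) (.leaf 0)) (.node (.leaf 145244160) (.leaf 0))))) (.node (.node (.node (.node (.leaf 17686528) (.leaf 161218560)) (.node (.leaf 34782277) (.leaf 0))) (.node (.node (.leaf 65347584) (.leaf 0)) (.node (.leaf 138493952) (.leaf 0)))) (.node (.node (.node (.leaf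 42303488) (.leaf 71275102)) (.node (.leaf 123338752) (.leaf 0))) (.node (.node (.leaf 86294528) (.leaf 0)) (.node (.leaf 151552000) (.leaf 0)))))) (.node (.node (.node (.node (.node (.leaf 11182080) (.leaf 57667699)) (.node (.leaf 101056512) (.leaf 0))) (.node (.node (.leaf 59727872) (.leaf 0)) (.node (.leaf 132552650) (.leaf 0)))) (.node (.node (.node (.leaf 36364288) (.leaf 166477824)) (.node (.leaf 119136256) (.leaf 0))) (.node (.node (.leaf 2744320) (.leaf 0)) (.node (.leaf 118454565) (.leaf 0))))) (.node (.node (.node (.node (.leaf 23986176) (.leaf 87919893)) (.node (.leaf 110436352) (.leaf 0))) (.node (.node (.leaf 70713344) (.leaf 0)) (.node (.leaf 142172160) (.leaf 0)))) (.node (.node (.node (.leaf 48267264) (.leaf 165501198)) (.node (.leaf 127442944) (.leaf 0))) (.node (.node (.leaf 40035719) (.leaf 0)) (.node (.leaf 154312704) (.leaf 0)))))))) (.node (.node (.node (.node (.node (.node (.node (.leaf 3006464) (.leaf 147440790)) (.node (.leaf 95043584) (.leaf 0))) (.node (.node (.leaf 52617216)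 (.leaf 0)) (.node (.leaf 130277376) (.leaf 0)))) (.node (.node (.node (.leaf 28614656) (.leaf 105429178)) (.node (.leaf 55748620) (.leaf 0))) (.node (.node (.leaf 74702848) (.leaf 0)) (.node (.leaf 144564224) (.leaf 0))))) (.node (.node (.node (.node (.leaf 16015360) (.leaf 76746589)) (.node (.leaf 104456192) (.leaf 0))) (.node (.node (.leaf 63987712) (.leaf 0)) (.node (.leaf 137625600) (.leaf 0)))) (.node (.node (.node (.leaf 40812544) (.leaf 68334818)) (.node (.leaf 122265600) (.leaf 0))) (.node (.node (.leaf 85123072) (.leaf 0)) (.node (.leaf 49950166) (.leaf 0)))))) (.node (.node (.node (.node (.node (.leaf 9568256) (.leaf 158498816)) (.node (.leaf 99835904) (.leaf 0))) (.node (.node (.leaf 58277888) (.leaf 0)) (.node (.leaf 123391990) (.leaf 0)))) (.node (.node (.node (.leaf 34807808) (.leaf 166100992)) (.node (.leaf 118104064) (.leaf 0))) (.node (.node (.leaf 79970304) (.leaf 0)) (.node (.leaf 139006315) (.leaf 0))))) (.node (.node (.node (.node (.leaf 22413312) (.leaf 50745315)) (.node (.leaf 109289472)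 (.leaf 0))) (.node (.node (.leaf 69402624) (.leaf 0)) (.node (.leaf 54930146) (.leaf 0)))) (.node (.node (.node (.leaf 46833664) (.leaf 134394675)) (.node (.leaf 126402560) (.leaf 0))) (.node (.node (.leaf 90128384) (.leaf 0)) (.node (.leaf 127575136) (.leaf 0))))))) (.node (.node (.node (.node (.node (.node (.leaf 6291456) (.leaf 157466624)) (.node (.leaf 40687853) (.leaf 0))) (.node (.node (.leaf 55402496) (.leaf 0)) (.node (.leaf 26361878) (.leaf 0)))) (.node (.node (.node (.leaf 31760384) (.leaf 82286080)) (.node (.leaf 115900416) (.leaf 0))) (.node (.node (.leaf 77340672) (.leaf 0)) (.node (.leaf 146153472) (.leaf 0))))) (.node (.node (.node (.node (.leaf 19308544) (.leaf 44298391)) (.node (.leaf 106979328) (.leaf 0))) (.node (.node (.leaf 66764800) (.leaf 0)) (.node (.leaf 139452416) (.leaf 0)))) (.node (.node (.node (.leaf 43810816) (.leaf 106384901)) (.node (.leaf 124346368) (.leaf 0))) (.node (.node (.leaf 3039232) (.leaf 0)) (.node (.leaf 152256512) (.leaf 0)))))) (.node (.node (.node (.node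 (.node (.leaf 12771328) (.leaf 153161577)) (.node (.leaf 102187008) (.leaf 0))) (.node (.node (.leaf 4816896) (.leaf 0)) (.node (.leaf 56990326) (.leaf 0)))) (.node (.node (.node (.leaf 37863424) (.leaf 121091398)) (.node (.leaf 120045568) (.leaf 0))) (.node (.node (.leaf 39133184) (.leaf 0)) (.node (.leaf 107201080) (.leaf 0))))) (.node (.node (.node (.node (.leaf 25534464) (.leaf 163528704)) (.node (.leaf 23932174) (.leaf 0))) (.node (.node (.leaf 72007680) (.leaf 0)) (.node (.leaf 114584893) (.leaf 0)))) (.node (.node (.node (.leaf 24143964) (.leaf 32620544)) (.node (.leaf 127516672) (.leaf 0))) (.node (.node (.leaf 92536832) (.leaf 0)) (.node (.leaf 149373349) (.leaf 0))))))))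

def e0T103 : NT := .node (.node (.node (.node (.node (.node (.node (.node (.leaf 1351680) (.leaf 150136555)) (.node (.leaf 93896704) (.leaf 0))) (.node (.node (.leaf 51183616) (.leaf 0)) (.node (.leaf 94840310) (.leaf 0)))) (.node (.node (.node (.leaf 27066368) (.leaf 163995648)) (.node (.leaf 112574464) (.leaf 0))) (.node (.node (.leaf 73375744) (.leaf 0)) (.node (.leaf 143736832) (.leaf 0))))) (.node (.node (.node (.node (.leaf 14385152) (.leaf 156549120)) (.node (.leaf 103309312) (.leaf 0))) (.node (.node (.leaf 62611456) (.leaf 0)) (.node (.leaf 136790016) (.leaf 0)))) (.node (.node (.node (.leaf 39354368) (.leaf 163963978)) (.node (.leaf 121225216) (.leaf 0))) (.node (.node (.leaf 83886080) (.leaf 0)) (.node (.leaf 129155647) (.leaf 0)))))) (.node (.node (.node (.node (.node (.leaf 7946240) (.leaf 157974528)) (.node (.leaf 98639872) (.leaf 0))) (.node (.node (.leaf 56754176) (.leaf 0)) (.node (.leaf 94007186) (.leaf 0)))) (.node (.node (.node (.leaf 33316864) (.leaf 24715491)) (.node (.leaf 116981760)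 (.leaf 0))) (.node (.node (.leaf 78626816) (.leaf 0)) (.node (.leaf 87808593) (.leaf 0))))) (.node (.node (.node (.node (.leaf 20922368) (.leaf 57697665)) (.node (.leaf 108150784) (.leaf 0))) (.node (.node (.leaf 68182016) (.leaf 0)) (.node (.leaf 140460032) (.leaf 0)))) (.node (.node (.node (.leaf 45318144) (.leaf 155825151)) (.node (.leaf 125386752) (.leaf 0))) (.node (.node (.leaf 87397103) (.leaf 0)) (.node (.leaf 9838592) (.leaf 0))))))) (.node (.node (.node (.node (.node (.node (.leaf 4661248) (.leaf 111069341)) (.node (.leaf 96272384) (.leaf 0))) (.node (.node (.leaf 54026240) (.leaf 0)) (.node (.leaf 58234739) (.leaf 0)))) (.node (.node (.node (.leaf 30171136) (.leaf 138935316)) (.node (.leaf 114810880) (.leaf 0))) (.node (.node (.leaf 76054528) (.leaf 0)) (.node (.leaf 145252352) (.leaf 0))))) (.node (.node (.node (.node (.leaf 17702912) (.leaf 142907886)) (.node (.leaf 105766912) (.leaf 0))) (.node (.node (.leaf 57124722) (.leaf 0)) (.node (.leaf 50078097) (.leaf 0)))) (.node (.node (.node (.leaf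 1171456) (.leaf 166332414)) (.node (.leaf 123355136) (.leaf 0))) (.node (.node (.leaf 17521332) (.leaf 0)) (.node (.leaf 151568384) (.leaf 0)))))) (.node (.node (.node (.node (.node (.leaf 11198464) (.leaf 59988883)) (.node (.leaf 93811201) (.leaf 0))) (.node (.node (.leaf 59736064) (.leaf 0)) (.node (.leaf 93070757) (.leaf 0)))) (.node (.node (.node (.leaf 36372480) (.leaf 126214226)) (.node (.leaf 65425500) (.leaf 0))) (.node (.node (.leaf 81264640) (.leaf 0)) (.node (.leaf 148602880) (.leaf 0))))) (.node (.node (.node (.node (.leaf 24002560) (.leaf 120672584)) (.node (.leaf 110444544) (.leaf 0))) (.node (.node (.leaf 8406327) (.leaf 0)) (.node (.leaf 30771521) (.leaf 0)))) (.node (.node (.node (.leaf 48275456) (.leaf 164700172)) (.node (.leaf 51483705) (.leaf 0))) (.node (.node (.leaf 91308032) (.leaf 0)) (.node (.leaf 114473158) (.leaf 0)))))))) (.node (.node (.node (.node (.node (.node (.node (.leaf 3022848) (.leaf 74372498)) (.node (.leaf 95059968) (.leaf 0))) (.node (.node (.leaf 52625408) (.leaf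 0)) (.node (.leaf 130293760) (.leaf 0)))) (.node (.node (.node (.leaf 28631040) (.leaf 84551462)) (.node (.leaf 113688576) (.leaf 0))) (.node (.node (.leaf 64501688) (.leaf 0)) (.node (.leaf 130930722) (.leaf 0))))) (.node (.node (.node (.node (.leaf 16031744) (.leaf 160768000)) (.node (.leaf 104464384) (.leaf 0))) (.node (.node (.leaf 63995904) (.leaf 0)) (.node (.leaf 114565818) (.leaf 0)))) (.node (.node (.node (.leaf 40820736) (.leaf 43426906)) (.node (.leaf 122273792) (.leaf 0))) (.node (.node (.leaf 85131264) (.leaf 0)) (.node (.leaf 26457926) (.leaf 0)))))) (.node (.node (.node (.node (.node (.leaf 9584640) (.leaf 137306161)) (.node (.leaf 99852288) (.leaf 0))) (.node (.node (.leaf 58294272) (.leaf 0)) (.node (.leaf 111559781) (.leaf 0)))) (.node (.node (.node (.leaf 34816000) (.leaf 166109184)) (.node (.leaf 109033121) (.leaf 0))) (.node (.node (.leaf 79986688) (.leaf 0)) (.node (.leaf 147759104) (.leaf 0))))) (.node (.node (.node (.node (.leaf 5583723) (.leaf 159749944)) (.node (.leaf 89534582)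 (.leaf 0))) (.node (.node (.leaf 37676116) (.leaf 0)) (.node (.leaf 132430745) (.leaf 0)))) (.node (.node (.node (.leaf 46841856) (.leaf 70218400)) (.node (.leaf 75116856) (.leaf 0))) (.node (.node (.leaf 90136576) (.leaf 0)) (.node (.leaf 42491050) (.leaf 0))))))) (.node (.node (.node (.node (.node (.node (.leaf 6299648) (.leaf 11190272)) (.node (.leaf 97435648) (.leaf 0))) (.node (.node (.leaf 55418880) (.leaf 0)) (.node (.leaf 39303123) (.leaf 0)))) (.node (.node (.node (.leaf 31776768) (.leaf 131876168)) (.node (.leaf 4841472) (.leaf 0))) (.node (.node (.leaf 77357056) (.leaf 0)) (.node (.leaf 146169856) (.leaf 0))))) (.node (.node (.node (.node (.leaf 13910622) (.leaf 161742848)) (.node (.leaf 106987520) (.leaf 0))) (.node (.node (.leaf 66772992) (.leaf 0)) (.node (.leaf 15537752) (.leaf 0)))) (.node (.node (.node (.leaf 43819008) (.leaf 102944457)) (.node (.leaf 122732544) (.leaf 0))) (.node (.node (.leaf 87580672) (.leaf 0)) (.node (.leaf 37847720) (.leaf 0)))))) (.node (.node (.node (.node (.node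 (.leaf 12779520) (.leaf 159604736)) (.node (.leaf 102203392) (.leaf 0))) (.node (.node (.leaf 61210624) (.leaf 0)) (.node (.leaf 135897088) (.leaf 0)))) (.node (.node (.node (.leaf 37879808) (.leaf 166830080)) (.node (.leaf 65326666) (.leaf 0))) (.node (.node (.leaf 82591744) (.leaf 0)) (.node (.leaf 110671144) (.leaf 0))))) (.node (.node (.node (.node (.leaf 25550848) (.leaf 71172740)) (.node (.leaf 9083666) (.leaf 0))) (.node (.node (.leaf 72015872) (.leaf 0)) (.node (.leaf 141122156) (.leaf 0)))) (.node (.node (.node (.leaf 49741824) (.leaf 163594903)) (.node (.leaf 108646749) (.leaf 0))) (.node (.node (.leaf 92545024) (.leaf 0)) (.node (.leaf 154943488) (.leaf 0))))))))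

def e0T104 : NT := .node (.node (.node (.node (.node (.node (.node (.node (.leaf 1359872) (.leaf 155656192)) (.node (.leaf 38546696) (.leaf 0))) (.node (.node (.leaf 51191808) (.leaf 0)) (.node (.leaf 129384448) (.leaf 0)))) (.node (.node (.node (.leaf 27082752) (.leaf 41832147)) (.node (.leaf 112582656) (.leaf 0))) (.node (.node (.leaf 20614974) (.leaf 0)) (.node (.leaf 143745024) (.leaf 0))))) (.node (.node (.node (.node (.leaf 14401536) (.leaf 160161792)) (.node (.leaf 103317504) (.leaf 0))) (.node (.node (.leaf 47459299) (.leaf 0)) (.node (.leaf 69220881) (.leaf 0)))) (.node (.node (.node (.leaf 39069266) (.leaf 78349519)) (.node (.leaf 121233408) (.leaf 0))) (.node (.node (.leaf 83894272) (.leaf 0)) (.node (.leaf 9142272) (.leaf 0)))))) (.node (.node (.node (.node (.node (.leaf 7962624) (.leaf 157982720)) (.node (.leaf 98656256) (.leaf 0))) (.node (.node (.leaf 54624442) (.leaf 0)) (.node (.leaf 131169198) (.leaf 0)))) (.node (.node (.node (.leaf 33325056) (.leaf 64376713)) (.node (.leaf 69949033)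 (.leaf 0))) (.node (.node (.leaf 78643200) (.leaf 0)) (.node (.leaf 147054592) (.leaf 0))))) (.node (.node (.node (.node (.leaf 20930560) (.leaf 156755947)) (.node (.leaf 108158976) (.leaf 0))) (.node (.node (.leaf 68198400) (.leaf 0)) (.node (.leaf 140468224) (.leaf 0)))) (.node (.node (.node (.leaf 1277952) (.leaf 109015879)) (.node (.leaf 125403136) (.leaf 0))) (.node (.node (.leaf 88891392) (.leaf 0)) (.node (.leaf 152903680) (.leaf 0))))))) (.node (.node (.node (.node (.node (.node (.leaf 4677632) (.leaf 56684061)) (.node (.leaf 96280576) (.leaf 0))) (.node (.node (.leaf 54042624) (.leaf 0)) (.node (.leaf 131366912) (.leaf 0)))) (.node (.node (.node (.leaf 30187520) (.leaf 139097055)) (.node (.leaf 114819072) (.leaf 0))) (.node (.node (.leaf 76062720) (.leaf 0)) (.node (.leaf 63081681) (.leaf 0))))) (.node (.node (.node (.node (.leaf 17711104) (.leaf 14358517)) (.node (.leaf 105775104) (.leaf 0))) (.node (.node (.leaf 65363968) (.leaf 0)) (.node (.leaf 138502144) (.leaf 0)))) (.node (.node (.node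 (.leaf 42319872) (.leaf 149865428)) (.node (.leaf 62737195) (.leaf 0))) (.node (.node (.leaf 86310912) (.leaf 0)) (.node (.leaf 13321718) (.leaf 0)))))) (.node (.node (.node (.node (.node (.leaf 11206656) (.leaf 159088640)) (.node (.leaf 101072896) (.leaf 0))) (.node (.node (.leaf 59752448) (.leaf 0)) (.node (.leaf 68002394) (.leaf 0)))) (.node (.node (.node (.leaf 36388864) (.leaf 166494208)) (.node (.leaf 54272768) (.leaf 0))) (.node (.node (.leaf 81272832) (.leaf 0)) (.node (.leaf 111641233) (.leaf 0))))) (.node (.node (.node (.node (.leaf 24018944) (.leaf 155610115)) (.node (.leaf 45090554) (.leaf 0))) (.node (.node (.leaf 70729728) (.leaf 0)) (.node (.leaf 142188544) (.leaf 0)))) (.node (.node (.node (.leaf 48283648) (.leaf 90216808)) (.node (.leaf 87329769) (.leaf 0))) (.node (.node (.leaf 52213418) (.leaf 0)) (.node (.leaf 154320896) (.leaf 0)))))))) (.node (.node (.node (.node (.node (.node (.node (.leaf 3031040) (.leaf 134478698)) (.node (.leaf 95068160) (.leaf 0))) (.node (.node (.leaf 52641792)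 (.leaf 0)) (.node (.leaf 99766486) (.leaf 0)))) (.node (.node (.node (.leaf 28639232) (.leaf 164585472)) (.node (.leaf 113704960) (.leaf 0))) (.node (.node (.leaf 74727424) (.leaf 0)) (.node (.leaf 36506441) (.leaf 0))))) (.node (.node (.node (.node (.leaf 16039936) (.leaf 160072932)) (.node (.leaf 67461703) (.leaf 0))) (.node (.node (.leaf 64004096) (.leaf 0)) (.node (.leaf 137641984) (.leaf 0)))) (.node (.node (.node (.leaf 40837120) (.leaf 20119552)) (.node (.leaf 122290176) (.leaf 0))) (.node (.node (.leaf 85139456) (.leaf 0)) (.node (.leaf 150896640) (.leaf 0)))))) (.node (.node (.node (.node (.node (.leaf 9601024) (.leaf 158515200)) (.node (.leaf 99860480) (.leaf 0))) (.node (.node (.leaf 58302464) (.leaf 0)) (.node (.leaf 134062080) (.leaf 0)))) (.node (.node (.node (.leaf 34832384) (.leaf 38242505)) (.node (.leaf 118120448) (.leaf 0))) (.node (.node (.leaf 79994880) (.leaf 0)) (.node (.leaf 147767296) (.leaf 0))))) (.node (.node (.node (.node (.leaf 22429696) (.leaf 162109187)) (.node (.leaf 6969628)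 (.leaf 0))) (.node (.node (.leaf 69419008) (.leaf 0)) (.node (.leaf 141279232) (.leaf 0)))) (.node (.node (.node (.leaf 46858240) (.leaf 64329012)) (.node (.leaf 126418944) (.leaf 0))) (.node (.node (.leaf 90152960) (.leaf 0)) (.node (.leaf 135713655) (.leaf 0))))))) (.node (.node (.node (.node (.node (.node (.leaf 6316032) (.leaf 157474816)) (.node (.leaf 71455584) (.leaf 0))) (.node (.node (.leaf 55427072) (.leaf 0)) (.node (.leaf 132308992) (.leaf 0)))) (.node (.node (.node (.leaf 31793152) (.leaf 163867690)) (.node (.leaf 115908608) (.leaf 0))) (.node (.node (.leaf 77365248) (.leaf 0)) (.node (.leaf 146178048) (.leaf 0))))) (.node (.node (.node (.node (.leaf 19324928) (.leaf 161751040)) (.node (.leaf 96375379) (.leaf 0))) (.node (.node (.leaf 16507210) (.leaf 0)) (.node (.leaf 139460608) (.leaf 0)))) (.node (.node (.node (.leaf 43835392) (.leaf 167121263)) (.node (.leaf 78491608) (.leaf 0))) (.node (.node (.leaf 87588864) (.leaf 0)) (.node (.leaf 132905426) (.leaf 0)))))) (.node (.node (.node (.node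 (.node (.leaf 12795904) (.leaf 154875145)) (.node (.leaf 65688482) (.leaf 0))) (.node (.node (.leaf 61227008) (.leaf 0)) (.node (.leaf 135905280) (.leaf 0)))) (.node (.node (.node (.leaf 37896192) (.leaf 19183482)) (.node (.leaf 120061952) (.leaf 0))) (.node (.node (.leaf 82599936) (.leaf 0)) (.node (.leaf 97337555) (.leaf 0))))) (.node (.node (.node (.node (.leaf 25567232) (.leaf 163536896)) (.node (.leaf 111517696) (.leaf 0))) (.node (.node (.leaf 72024064) (.leaf 0)) (.node (.leaf 138513235) (.leaf 0)))) (.node (.node (.node (.leaf 49750016) (.leaf 65020002)) (.node (.leaf 5980160) (.leaf 0))) (.node (.node (.leaf 92561408) (.leaf 0)) (.node (.leaf 154951680) (.leaf 0))))))))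

def e0T105 : NT := .node (.node (.node (.node (.node (.node (.node (.node (.leaf 1376256) (.leaf 98815375)) (.node (.leaf 25587497) (.leaf 0))) (.node (.node (.leaf 47205256) (.leaf 0)) (.node (.leaf 129392640) (.leaf 0)))) (.node (.node (.node (.leaf 27090944) (.leaf 67507056)) (.node (.leaf 112590848) (.leaf 0))) (.node (.node (.leaf 73400320) (.leaf 0)) (.node (.leaf 129101704) (.leaf 0))))) (.node (.node (.node (.node (.leaf 14409728) (.leaf 116241980)) (.node (.leaf 103325696) (.leaf 0))) (.node (.node (.leaf 62627840) (.leaf 0)) (.node (.leaf 113886541) (.leaf 0)))) (.node (.node (.node (.leaf 39370752) (.leaf 165291695)) (.node (.leaf 80907602) (.leaf 0))) (.node (.node (.leaf 83902464) (.leaf 0)) (.node (.leaf 150110208) (.leaf 0)))))) (.node (.node (.node (.node (.node (.leaf 7970816) (.leaf 128808205)) (.node (.leaf 35182394) (.leaf 0))) (.node (.node (.leaf 56770560) (.leaf 0)) (.node (.leaf 133193728) (.leaf 0)))) (.node (.node (.node (.leaf 33341440) (.leaf 162558313)) (.node (.leaf 108717066)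 (.leaf 0))) (.node (.node (.leaf 78659584) (.leaf 0)) (.node (.leaf 61771601) (.leaf 0))))) (.node (.node (.node (.node (.leaf 20946944) (.leaf 162258944)) (.node (.leaf 108175360) (.leaf 0))) (.node (.node (.leaf 68214784) (.leaf 0)) (.node (.leaf 140476416) (.leaf 0)))) (.node (.node (.node (.leaf 45334528) (.leaf 162543344)) (.node (.leaf 17750624) (.leaf 0))) (.node (.node (.leaf 88899584) (.leaf 0)) (.node (.leaf 127177941) (.leaf 0))))))) (.node (.node (.node (.node (.node (.node (.leaf 4694016) (.leaf 156868608)) (.node (.leaf 96288768) (.leaf 0))) (.node (.node (.leaf 54050816) (.leaf 0)) (.node (.leaf 131383296) (.leaf 0)))) (.node (.node (.node (.leaf 30195712) (.leaf 161585661)) (.node (.leaf 114827264) (.leaf 0))) (.node (.node (.leaf 76079104) (.leaf 0)) (.node (.leaf 145268736) (.leaf 0))))) (.node (.node (.node (.node (.leaf 17727488) (.leaf 158173016)) (.node (.leaf 105783296) (.leaf 0))) (.node (.node (.leaf 65372160) (.leaf 0)) (.node (.leaf 107143720) (.leaf 0)))) (.node (.node (.node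 (.leaf 42328064) (.leaf 122466937)) (.node (.leaf 86254784) (.leaf 0))) (.node (.node (.leaf 86319104) (.leaf 0)) (.node (.leaf 17937599) (.leaf 0)))))) (.node (.node (.node (.node (.node (.leaf 11214848) (.leaf 126659873)) (.node (.leaf 101089280) (.leaf 0))) (.node (.node (.leaf 59760640) (.leaf 0)) (.node (.leaf 134987776) (.leaf 0)))) (.node (.node (.node (.leaf 36405248) (.leaf 17891328)) (.node (.leaf 5103616) (.leaf 0))) (.node (.node (.leaf 81289216) (.leaf 0)) (.node (.leaf 148611072) (.leaf 0))))) (.node (.node (.node (.node (.leaf 24027136) (.leaf 117476381)) (.node (.leaf 110452736) (.leaf 0))) (.node (.node (.leaf 70737920) (.leaf 0)) (.node (.leaf 128976801) (.leaf 0)))) (.node (.node (.node (.leaf 28775593) (.leaf 168017920)) (.node (.leaf 127459328) (.leaf 0))) (.node (.node (.leaf 91316224) (.leaf 0)) (.node (.leaf 154337280) (.leaf 0)))))))) (.node (.node (.node (.node (.node (.node (.node (.leaf 3047424) (.leaf 156246016)) (.node (.leaf 95076352) (.leaf 0))) (.node (.node (.leaf 52658176)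 (.leaf 0)) (.node (.leaf 12079588) (.leaf 0)))) (.node (.node (.node (.leaf 28655616) (.leaf 139196379)) (.node (.leaf 71552586) (.leaf 0))) (.node (.node (.leaf 74735616) (.leaf 0)) (.node (.leaf 144572416) (.leaf 0))))) (.node (.node (.node (.node (.leaf 16056320) (.leaf 91107912)) (.node (.leaf 104480768) (.leaf 0))) (.node (.node (.leaf 64012288) (.leaf 0)) (.node (.leaf 137650176) (.leaf 0)))) (.node (.node (.node (.leaf 40853504) (.leaf 102012881)) (.node (.leaf 122238364) (.leaf 0))) (.node (.node (.leaf 7430144) (.leaf 0)) (.node (.leaf 146286591) (.leaf 0)))))) (.node (.node (.node (.node (.node (.leaf 9609216) (.leaf 135875372)) (.node (.leaf 99868672) (.leaf 0))) (.node (.node (.leaf 58318848) (.leaf 0)) (.node (.leaf 81685841) (.leaf 0)))) (.node (.node (.node (.leaf 34848768) (.leaf 143030245)) (.node (.leaf 118128640) (.leaf 0))) (.node (.node (.leaf 80011264) (.leaf 0)) (.node (.leaf 66484364) (.leaf 0))))) (.node (.node (.node (.node (.leaf 22446080) (.leaf 100299181)) (.node (.leaf 109305856)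 (.leaf 0))) (.node (.node (.leaf 69435392) (.leaf 0)) (.node (.leaf 23910307) (.leaf 0)))) (.node (.node (.node (.leaf 46866432) (.leaf 35809560)) (.node (.leaf 56617873) (.leaf 0))) (.node (.node (.leaf 90169344) (.leaf 0)) (.node (.leaf 92530654) (.leaf 0))))))) (.node (.node (.node (.node (.node (.node (.leaf 6324224) (.leaf 25734955)) (.node (.leaf 97443840) (.leaf 0))) (.node (.node (.leaf 55443456) (.leaf 0)) (.node (.leaf 71430170) (.leaf 0)))) (.node (.node (.node (.leaf 31801344) (.leaf 165421056)) (.node (.leaf 115924992) (.leaf 0))) (.node (.node (.leaf 77381632) (.leaf 0)) (.node (.leaf 140129833) (.leaf 0))))) (.node (.node (.node (.node (.leaf 19341312) (.leaf 35792851)) (.node (.leaf 107003904) (.leaf 0))) (.node (.node (.leaf 66797568) (.leaf 0)) (.node (.leaf 139468800) (.leaf 0)))) (.node (.node (.node (.leaf 33188948) (.leaf 46019076)) (.node (.leaf 123199488) (.leaf 0))) (.node (.node (.leaf 87605248) (.leaf 0)) (.node (.leaf 152272896) (.leaf 0)))))) (.node (.node (.node (.node (.node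 (.leaf 12804096) (.leaf 159612928)) (.node (.leaf 102211584) (.leaf 0))) (.node (.node (.leaf 61235200) (.leaf 0)) (.node (.leaf 135913472) (.leaf 0)))) (.node (.node (.node (.leaf 37912576) (.leaf 108799452)) (.node (.leaf 33514800) (.leaf 0))) (.node (.node (.leaf 82616320) (.leaf 0)) (.node (.leaf 149364736) (.leaf 0))))) (.node (.node (.node (.node (.leaf 25575424) (.leaf 163545088)) (.node (.leaf 58215527) (.leaf 0))) (.node (.node (.leaf 72040448) (.leaf 0)) (.node (.leaf 143015936) (.leaf 0)))) (.node (.node (.node (.leaf 49766400) (.leaf 167065752)) (.node (.leaf 128458752) (.leaf 0))) (.node (.node (.leaf 22543253) (.leaf 0)) (.node (.leaf 154959872) (.leaf 0))))))))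

def e0T106 : NT := .node (.node (.node (.node (.node (.node (.node (.node (.leaf 1392640) (.leaf 124787638)) (.node (.leaf 93921280) (.leaf 0))) (.node (.node (.leaf 51208192) (.leaf 0)) (.node (.leaf 129409024) (.leaf 0)))) (.node (.node (.node (.leaf 27107328) (.leaf 160624805)) (.node (.leaf 87153269) (.leaf 0))) (.node (.node (.leaf 73408512) (.leaf 0)) (.node (.leaf 137612913) (.leaf 0))))) (.node (.node (.node (.node (.leaf 14426112) (.leaf 160169984)) (.node (.leaf 103333888) (.leaf 0))) (.node (.node (.leaf 62636032) (.leaf 0)) (.node (.leaf 136806400) (.leaf 0)))) (.node (.node (.node (.leaf 39378944) (.leaf 165925527)) (.node (.leaf 58038225) (.leaf 0))) (.node (.node (.leaf 83918848) (.leaf 0)) (.node (.leaf 94041563) (.leaf 0)))))) (.node (.node (.node (.node (.node (.leaf 7987200) (.leaf 130903958)) (.node (.leaf 98664448) (.leaf 0))) (.node (.node (.leaf 2007040) (.leaf 0)) (.node (.leaf 44209331) (.leaf 0)))) (.node (.node (.node (.leaf 24000507) (.leaf 116411860)) (.node (.leaf 117006336)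 (.leaf 0))) (.node (.node (.leaf 2973696) (.leaf 0)) (.node (.leaf 72378036) (.leaf 0))))) (.node (.node (.node (.node (.leaf 20963328) (.leaf 162267136)) (.node (.leaf 108183552) (.leaf 0))) (.node (.node (.leaf 68222976) (.leaf 0)) (.node (.leaf 140492800) (.leaf 0)))) (.node (.node (.node (.leaf 45342720) (.leaf 121005803)) (.node (.leaf 125419520) (.leaf 0))) (.node (.node (.leaf 88907776) (.leaf 0)) (.node (.leaf 100922081) (.leaf 0))))))) (.node (.node (.node (.node (.node (.node (.leaf 4702208) (.leaf 17559791)) (.node (.leaf 5375821) (.leaf 0))) (.node (.node (.leaf 54067200) (.leaf 0)) (.node (.leaf 131399680) (.leaf 0)))) (.node (.node (.node (.leaf 30212096) (.leaf 146489969)) (.node (.leaf 114843648) (.leaf 0))) (.node (.node (.leaf 13341158) (.leaf 0)) (.node (.leaf 145276928) (.leaf 0))))) (.node (.node (.node (.node (.leaf 17735680) (.leaf 140343494)) (.node (.leaf 105791488) (.leaf 0))) (.node (.node (.leaf 65388544) (.leaf 0)) (.node (.leaf 138518528) (.leaf 0)))) (.node (.node (.node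 (.leaf 42344448) (.leaf 66817693)) (.node (.leaf 123371520) (.leaf 0))) (.node (.node (.leaf 86335488) (.leaf 0)) (.node (.leaf 31323128) (.leaf 0)))))) (.node (.node (.node (.node (.node (.leaf 11223040) (.leaf 159096832)) (.node (.leaf 101105664) (.leaf 0))) (.node (.node (.leaf 59768832) (.leaf 0)) (.node (.leaf 134995968) (.leaf 0)))) (.node (.node (.node (.leaf 36413440) (.leaf 69237083)) (.node (.leaf 119160832) (.leaf 0))) (.node (.node (.leaf 13452980) (.leaf 0)) (.node (.leaf 148627456) (.leaf 0))))) (.node (.node (.node (.node (.leaf 24043520) (.leaf 91049665)) (.node (.leaf 31010455) (.leaf 0))) (.node (.node (.leaf 70754304) (.leaf 0)) (.node (.leaf 142204928) (.leaf 0)))) (.node (.node (.node (.leaf 48300032) (.leaf 151564783)) (.node (.leaf 63835545) (.leaf 0))) (.node (.node (.leaf 91332608) (.leaf 0)) (.node (.leaf 154345472) (.leaf 0)))))))) (.node (.node (.node (.node (.node (.node (.node (.leaf 3055616) (.leaf 156254208)) (.node (.leaf 95084544) (.leaf 0))) (.node (.node (.leaf 52666368)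 (.leaf 0)) (.node (.leaf 104475238) (.leaf 0)))) (.node (.node (.node (.leaf 28672000) (.leaf 123296615)) (.node (.leaf 4669440) (.leaf 0))) (.node (.node (.leaf 74752000) (.leaf 0)) (.node (.leaf 18381276) (.leaf 0))))) (.node (.node (.node (.node (.leaf 16072704) (.leaf 160784384)) (.node (.leaf 104488960) (.leaf 0))) (.node (.node (.leaf 64028672) (.leaf 0)) (.node (.leaf 137658368) (.leaf 0)))) (.node (.node (.node (.leaf 40861696) (.leaf 167288832)) (.node (.leaf 89967608) (.leaf 0))) (.node (.node (.leaf 85155840) (.leaf 0)) (.node (.leaf 129650277) (.leaf 0)))))) (.node (.node (.node (.node (.node (.leaf 9625600) (.leaf 158523392)) (.node (.leaf 99876864) (.leaf 0))) (.node (.node (.leaf 58327040) (.leaf 0)) (.node (.leaf 134086656) (.leaf 0)))) (.node (.node (.node (.leaf 34856960) (.leaf 54648940)) (.node (.leaf 89541754) (.leaf 0))) (.node (.node (.leaf 80027648) (.leaf 0)) (.node (.leaf 133289462) (.leaf 0))))) (.node (.node (.node (.node (.leaf 22462464) (.leaf 150935269)) (.node (.leaf 109314048)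 (.leaf 0))) (.node (.node (.leaf 69451776) (.leaf 0)) (.node (.leaf 141303808) (.leaf 0)))) (.node (.node (.node (.leaf 24670490) (.leaf 122125186)) (.node (.leaf 126435328) (.leaf 0))) (.node (.node (.leaf 90185728) (.leaf 0)) (.node (.leaf 38086078) (.leaf 0))))))) (.node (.node (.node (.node (.node (.node (.leaf 6340608) (.leaf 157483008)) (.node (.leaf 97452032) (.leaf 0))) (.node (.node (.leaf 54088435) (.leaf 0)) (.node (.leaf 130791693) (.leaf 0)))) (.node (.node (.node (.leaf 31817728) (.leaf 131641227)) (.node (.leaf 92342873) (.leaf 0))) (.node (.node (.leaf 77389824) (.leaf 0)) (.node (.leaf 146194432) (.leaf 0))))) (.node (.node (.node (.node (.leaf 19357696) (.leaf 160229643)) (.node (.leaf 39488813) (.leaf 0))) (.node (.node (.leaf 66805760) (.leaf 0)) (.node (.leaf 49460908) (.leaf 0)))) (.node (.node (.node (.leaf 43851776) (.leaf 167154495)) (.node (.leaf 124362752) (.leaf 0))) (.node (.node (.leaf 80299770) (.leaf 0)) (.node (.leaf 64622862) (.leaf 0)))))) (.node (.node (.node (.node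 (.node (.leaf 12820480) (.leaf 140774112)) (.node (.leaf 102219776) (.leaf 0))) (.node (.node (.leaf 61251584) (.leaf 0)) (.node (.leaf 135929856) (.leaf 0)))) (.node (.node (.node (.leaf 37928960) (.leaf 56288939)) (.node (.leaf 36211393) (.leaf 0))) (.node (.node (.leaf 82624512) (.leaf 0)) (.node (.leaf 149381120) (.leaf 0))))) (.node (.node (.node (.node (.leaf 25591808) (.leaf 163553280)) (.node (.leaf 111534080) (.leaf 0))) (.node (.node (.leaf 72056832) (.leaf 0)) (.node (.leaf 91371297) (.leaf 0)))) (.node (.node (.node (.leaf 49774592) (.leaf 113416086)) (.node (.leaf 128466944) (.leaf 0))) (.node (.node (.leaf 92577792) (.leaf 0)) (.node (.leaf 154976256) (.leaf 0))))))))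

def e0T107 : NT := .node (.node (.node (.node (.node (.node (.node (.node (.leaf 24576) (.leaf 83325123)) (.node (.leaf 91448610) (.leaf 0))) (.node (.node (.leaf 51224576) (.leaf 0)) (.node (.leaf 129417216) (.leaf 0)))) (.node (.node (.node (.leaf 27123712) (.leaf 37230133)) (.node (.leaf 112607232) (.leaf 0))) (.node (.node (.leaf 15576156) (.leaf 0)) (.node (.leaf 125724782) (.leaf 0))))) (.node (.node (.node (.node (.leaf 14442496) (.leaf 160178176)) (.node (.leaf 103342080) (.leaf 0))) (.node (.node (.leaf 48391539) (.leaf 0)) (.node (.leaf 62940597) (.leaf 0)))) (.node (.node (.node (.leaf 39395328) (.leaf 105812665)) (.node (.leaf 121241600) (.leaf 0))) (.node (.node (.leaf 83935232) (.leaf 0)) (.node (.leaf 103690098) (.leaf 0)))))) (.node (.node (.node (.node (.node (.leaf 7995392) (.leaf 105837226)) (.node (.leaf 98672640) (.leaf 0))) (.node (.node (.leaf 56786944) (.leaf 0)) (.node (.leaf 78377964) (.leaf 0)))) (.node (.node (.node (.leaf 33357824) (.leaf 18895970)) (.node (.leaf 117014528)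 (.leaf 0))) (.node (.node (.leaf 78675968) (.leaf 0)) (.node (.leaf 16892997) (.leaf 0))))) (.node (.node (.node (.node (.leaf 532480) (.leaf 116965889)) (.node (.leaf 108191744) (.leaf 0))) (.node (.node (.leaf 66520403) (.leaf 0)) (.node (.leaf 21226208) (.leaf 0)))) (.node (.node (.node (.leaf 45359104) (.leaf 162655753)) (.node (.leaf 5668864) (.leaf 0))) (.node (.node (.leaf 88915968) (.leaf 0)) (.node (.leaf 135958885) (.leaf 0))))))) (.node (.node (.node (.node (.node (.node (.leaf 4718592) (.leaf 156876800)) (.node (.leaf 96296960) (.leaf 0))) (.node (.node (.leaf 27394391) (.leaf 0)) (.node (.leaf 131407872) (.leaf 0)))) (.node (.node (.node (.leaf 30228480) (.leaf 124819431)) (.node (.leaf 114851840) (.leaf 0))) (.node (.node (.leaf 76087296) (.leaf 0)) (.node (.leaf 145293312) (.leaf 0))))) (.node (.node (.node (.node (.leaf 17752064) (.leaf 152141906)) (.node (.leaf 63968863) (.leaf 0))) (.node (.node (.leaf 65404928) (.leaf 0)) (.node (.leaf 138526720) (.leaf 0)))) (.node (.node (.node (.leaf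 42352640) (.leaf 60909813)) (.node (.leaf 89683056) (.leaf 0))) (.node (.node (.leaf 86351872) (.leaf 0)) (.node (.leaf 151584768) (.leaf 0)))))) (.node (.node (.node (.node (.node (.leaf 11239424) (.leaf 159113216)) (.node (.leaf 101122048) (.leaf 0))) (.node (.node (.leaf 59785216) (.leaf 0)) (.node (.leaf 135012352) (.leaf 0)))) (.node (.node (.node (.leaf 36429824) (.leaf 164293150)) (.node (.leaf 83139067) (.leaf 0))) (.node (.node (.leaf 81313792) (.leaf 0)) (.node (.leaf 148635648) (.leaf 0))))) (.node (.node (.node (.node (.leaf 24051712) (.leaf 163160064)) (.node (.leaf 6070621) (.leaf 0))) (.node (.node (.leaf 70762496) (.leaf 0)) (.node (.leaf 15113312) (.leaf 0)))) (.node (.node (.node (.leaf 48316416) (.leaf 111045705)) (.node (.leaf 127475712) (.leaf 0))) (.node (.node (.leaf 91340800) (.leaf 0)) (.node (.leaf 154361856) (.leaf 0)))))))) (.node (.node (.node (.node (.node (.node (.node (.leaf 3072000) (.leaf 156262400)) (.node (.leaf 74312859) (.leaf 0))) (.node (.node (.leaf 52682752) (.leaf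 0)) (.node (.leaf 130310144) (.leaf 0)))) (.node (.node (.node (.leaf 28680192) (.leaf 115009956)) (.node (.leaf 113721344) (.leaf 0))) (.node (.node (.leaf 74760192) (.leaf 0)) (.node (.leaf 144580608) (.leaf 0))))) (.node (.node (.node (.node (.leaf 16080896) (.leaf 160792576)) (.node (.leaf 104505344) (.leaf 0))) (.node (.node (.leaf 64036864) (.leaf 0)) (.node (.leaf 135869334) (.leaf 0)))) (.node (.node (.node (.leaf 40878080) (.leaf 164812929)) (.node (.leaf 122298368) (.leaf 0))) (.node (.node (.leaf 85164032) (.leaf 0)) (.node (.leaf 57963475) (.leaf 0)))))) (.node (.node (.node (.node (.node (.leaf 9633792) (.leaf 158531584)) (.node (.leaf 73278502) (.leaf 0))) (.node (.node (.leaf 51451497) (.leaf 0)) (.node (.leaf 72616932) (.leaf 0)))) (.node (.node (.node (.leaf 34873344) (.leaf 164949957)) (.node (.leaf 42922191) (.leaf 0))) (.node (.node (.leaf 80035840) (.leaf 0)) (.node (.leaf 13227557) (.leaf 0))))) (.node (.node (.node (.node (.leaf 22470656) (.leaf 105806109)) (.node (.leaf 109298227)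 (.leaf 0))) (.node (.node (.leaf 69459968) (.leaf 0)) (.node (.leaf 81128158) (.leaf 0)))) (.node (.node (.node (.leaf 46882816) (.leaf 162811339)) (.node (.leaf 126451712) (.leaf 0))) (.node (.node (.leaf 90193920) (.leaf 0)) (.node (.leaf 153640960) (.leaf 0))))))) (.node (.node (.node (.node (.node (.node (.leaf 6348800) (.leaf 157499392)) (.node (.leaf 97460224) (.leaf 0))) (.node (.node (.leaf 14770176) (.leaf 0)) (.node (.leaf 132325376) (.leaf 0)))) (.node (.node (.node (.leaf 31834112) (.leaf 46134686)) (.node (.leaf 115941376) (.leaf 0))) (.node (.node (.leaf 77398016) (.leaf 0)) (.node (.leaf 146210816) (.leaf 0))))) (.node (.node (.node (.node (.leaf 19365888) (.leaf 161767424)) (.node (.leaf 107012096) (.leaf 0))) (.node (.node (.leaf 66822144) (.leaf 0)) (.node (.leaf 139485184) (.leaf 0)))) (.node (.node (.node (.leaf 43868160) (.leaf 167665664)) (.node (.leaf 76613075) (.leaf 0))) (.node (.node (.leaf 87621632) (.leaf 0)) (.node (.leaf 134128822) (.leaf 0)))))) (.node (.node (.node (.node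 (.node (.leaf 12828672) (.leaf 157427036)) (.node (.leaf 102236160) (.leaf 0))) (.node (.node (.leaf 49574554) (.leaf 0)) (.node (.leaf 106174685) (.leaf 0)))) (.node (.node (.node (.leaf 16283994) (.leaf 145092568)) (.node (.leaf 120086528) (.leaf 0))) (.node (.node (.leaf 82632704) (.leaf 0)) (.node (.leaf 149389312) (.leaf 0))))) (.node (.node (.node (.node (.leaf 25600000) (.leaf 144460907)) (.node (.leaf 111550464) (.leaf 0))) (.node (.node (.leaf 72073216) (.leaf 0)) (.node (.leaf 83858138) (.leaf 0)))) (.node (.node (.node (.leaf 49790976) (.leaf 33349632)) (.node (.leaf 128483328) (.leaf 0))) (.node (.node (.leaf 92594176) (.leaf 0)) (.node (.leaf 44543641) (.leaf 0))))))))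

def e0T108 : NT := .node (.node (.node (.node (.node (.node (.node (.node (.leaf 1409024) (.leaf 100115505)) (.node (.leaf 93937664) (.leaf 0))) (.node (.node (.leaf 51240960) (.leaf 0)) (.node (.leaf 129433600) (.leaf 0)))) (.node (.node (.node (.leaf 27131904) (.leaf 82851579)) (.node (.leaf 112615424) (.leaf 0))) (.node (.node (.leaf 73424896) (.leaf 0)) (.node (.leaf 143761408) (.leaf 0))))) (.node (.node (.node (.node (.leaf 14450688) (.leaf 67955958)) (.node (.leaf 103350272) (.leaf 0))) (.node (.node (.leaf 62660608) (.leaf 0)) (.node (.leaf 136814592) (.leaf 0)))) (.node (.node (.node (.leaf 39403520) (.leaf 108229152)) (.node (.leaf 121249792) (.leaf 0))) (.node (.node (.leaf 83943424) (.leaf 0)) (.node (.leaf 143477623) (.leaf 0)))))) (.node (.node (.node (.node (.node (.leaf 8011776) (.leaf 139627917)) (.node (.leaf 16717064) (.leaf 0))) (.node (.node (.leaf 56803328) (.leaf 0)) (.node (.leaf 133201920) (.leaf 0)))) (.node (.node (.node (.leaf 33374208) (.leaf 62426850)) (.node (.leaf 17808249)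 (.leaf 0))) (.node (.node (.leaf 78692352) (.leaf 0)) (.node (.leaf 147070976) (.leaf 0))))) (.node (.node (.node (.node (.leaf 20979712) (.leaf 162275328)) (.node (.leaf 108208128) (.leaf 0))) (.node (.node (.leaf 68247552) (.leaf 0)) (.node (.leaf 140509184) (.leaf 0)))) (.node (.node (.node (.leaf 45375488) (.leaf 161760895)) (.node (.leaf 125435904) (.leaf 0))) (.node (.node (.leaf 88924160) (.leaf 0)) (.node (.leaf 152920064) (.leaf 0))))))) (.node (.node (.node (.node (.node (.node (.leaf 4726784) (.leaf 129533956)) (.node (.leaf 96313344) (.leaf 0))) (.node (.node (.leaf 54091776) (.leaf 0)) (.node (.leaf 115224079) (.leaf 0)))) (.node (.node (.node (.leaf 30236672) (.leaf 152648334)) (.node (.leaf 114868224) (.leaf 0))) (.node (.node (.leaf 76103680) (.leaf 0)) (.node (.leaf 145309696) (.leaf 0))))) (.node (.node (.node (.node (.leaf 17768448) (.leaf 41357116)) (.node (.leaf 34759708) (.leaf 0))) (.node (.node (.leaf 65413120) (.leaf 0)) (.node (.leaf 130305085) (.leaf 0)))) (.node (.node (.node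 (.leaf 42360832) (.leaf 167485440)) (.node (.leaf 87706903) (.leaf 0))) (.node (.node (.leaf 49049048) (.leaf 0)) (.node (.leaf 139741941) (.leaf 0)))))) (.node (.node (.node (.node (.node (.leaf 11247616) (.leaf 20343557)) (.node (.leaf 29763364) (.leaf 0))) (.node (.node (.leaf 59801600) (.leaf 0)) (.node (.leaf 23491025) (.leaf 0)))) (.node (.node (.node (.leaf 36446208) (.leaf 118665306)) (.node (.leaf 119169024) (.leaf 0))) (.node (.node (.leaf 81321984) (.leaf 0)) (.node (.leaf 123681255) (.leaf 0))))) (.node (.node (.node (.node (.leaf 24068096) (.leaf 114796843)) (.node (.leaf 110477312) (.leaf 0))) (.node (.node (.leaf 70778880) (.leaf 0)) (.node (.leaf 142213120) (.leaf 0)))) (.node (.node (.node (.leaf 48332800) (.leaf 144098028)) (.node (.leaf 22154538) (.leaf 0))) (.node (.node (.leaf 91357184) (.leaf 0)) (.node (.leaf 16159296) (.leaf 0)))))))) (.node (.node (.node (.node (.node (.node (.node (.leaf 3088384) (.leaf 32913988)) (.node (.leaf 93796937) (.leaf 0))) (.node (.node (.leaf 52690944)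 (.leaf 0)) (.node (.leaf 126446416) (.leaf 0)))) (.node (.node (.node (.leaf 28696576) (.leaf 54804907)) (.node (.leaf 72005398) (.leaf 0))) (.node (.node (.leaf 74776576) (.leaf 0)) (.node (.leaf 144588800) (.leaf 0))))) (.node (.node (.node (.node (.leaf 16097280) (.leaf 59682945)) (.node (.leaf 96692866) (.leaf 0))) (.node (.node (.leaf 64053248) (.leaf 0)) (.node (.leaf 137674752) (.leaf 0)))) (.node (.node (.node (.leaf 40894464) (.leaf 162178240)) (.node (.leaf 122306560) (.leaf 0))) (.node (.node (.leaf 60135335) (.leaf 0)) (.node (.leaf 150913024) (.leaf 0)))))) (.node (.node (.node (.node (.node (.leaf 9650176) (.leaf 126158864)) (.node (.leaf 99893248) (.leaf 0))) (.node (.node (.leaf 58343424) (.leaf 0)) (.node (.leaf 131936028) (.leaf 0)))) (.node (.node (.node (.leaf 34881536) (.leaf 165937772)) (.node (.leaf 83105323) (.leaf 0))) (.node (.node (.leaf 80052224) (.leaf 0)) (.node (.leaf 147783680) (.leaf 0))))) (.node (.node (.node (.node (.leaf 22487040) (.leaf 122679815)) (.node (.leaf 109322240)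 (.leaf 0))) (.node (.node (.leaf 69476352) (.leaf 0)) (.node (.leaf 36238134) (.leaf 0)))) (.node (.node (.node (.leaf 46899200) (.leaf 167403862)) (.node (.leaf 126459904) (.leaf 0))) (.node (.node (.leaf 90202112) (.leaf 0)) (.node (.leaf 86512207) (.leaf 0))))))) (.node (.node (.node (.node (.node (.node (.leaf 6365184) (.leaf 157515776)) (.node (.leaf 97468416) (.leaf 0))) (.node (.node (.leaf 55468032) (.leaf 0)) (.node (.leaf 132333568) (.leaf 0)))) (.node (.node (.node (.leaf 843776) (.leaf 165429248)) (.node (.leaf 115957760) (.leaf 0))) (.node (.node (.leaf 77414400) (.leaf 0)) (.node (.leaf 146227200) (.leaf 0))))) (.node (.node (.node (.node (.leaf 19382272) (.leaf 158358482)) (.node (.leaf 107020288) (.leaf 0))) (.node (.node (.leaf 66838528) (.leaf 0)) (.node (.leaf 139493376) (.leaf 0)))) (.node (.node (.node (.leaf 43876352) (.leaf 140346332)) (.node (.leaf 112572123) (.leaf 0))) (.node (.node (.leaf 87638016) (.leaf 0)) (.node (.leaf 121960369) (.leaf 0)))))) (.node (.node (.node (.node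 (.node (.leaf 12845056) (.leaf 159629312)) (.node (.leaf 102252544) (.leaf 0))) (.node (.node (.leaf 16010174) (.leaf 0)) (.node (.leaf 109112853) (.leaf 0)))) (.node (.node (.node (.leaf 37945344) (.leaf 150779493)) (.node (.leaf 45050817) (.leaf 0))) (.node (.node (.leaf 82649088) (.leaf 0)) (.node (.leaf 149397504) (.leaf 0))))) (.node (.node (.node (.node (.leaf 25616384) (.leaf 163561472)) (.node (.leaf 16586934) (.leaf 0))) (.node (.node (.leaf 72089600) (.leaf 0)) (.node (.leaf 109368025) (.leaf 0)))) (.node (.node (.node (.leaf 44057304) (.leaf 85272037)) (.node (.leaf 128499712) (.leaf 0))) (.node (.node (.leaf 92610560) (.leaf 0)) (.node (.leaf 149723683) (.leaf 0))))))))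

def e0T109 : NT := .node (.node (.node (.node (.node (.node (.node (.node (.leaf 1417216) (.leaf 152212220)) (.node (.leaf 74199258) (.leaf 0))) (.node (.node (.leaf 51257344) (.leaf 0)) (.node (.leaf 77379915) (.leaf 0)))) (.node (.node (.node (.leaf 27148288) (.leaf 74019366)) (.node (.leaf 112631808) (.leaf 0))) (.node (.node (.leaf 73433088) (.leaf 0)) (.node (.leaf 143182304) (.leaf 0))))) (.node (.node (.node (.node (.leaf 14467072) (.leaf 156977266)) (.node (.leaf 103366656) (.leaf 0))) (.node (.node (.leaf 62676992) (.leaf 0)) (.node (.leaf 136822784) (.leaf 0)))) (.node (.node (.node (.leaf 39411712) (.leaf 83397873)) (.node (.leaf 121257984) (.leaf 0))) (.node (.node (.leaf 18844127) (.leaf 0)) (.node (.leaf 126233836) (.leaf 0)))))) (.node (.node (.node (.node (.node (.leaf 8019968) (.leaf 49089918)) (.node (.leaf 34737246) (.leaf 0))) (.node (.node (.leaf 56811520) (.leaf 0)) (.node (.leaf 133218304) (.leaf 0)))) (.node (.node (.node (.leaf 33390592) (.leaf 165773312)) (.node (.leaf 117030912)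 (.leaf 0))) (.node (.node (.leaf 78700544) (.leaf 0)) (.node (.leaf 147079168) (.leaf 0))))) (.node (.node (.node (.node (.leaf 20987904) (.leaf 114896274)) (.node (.leaf 108216320) (.leaf 0))) (.node (.node (.leaf 68255744) (.leaf 0)) (.node (.leaf 140517376) (.leaf 0)))) (.node (.node (.node (.leaf 45383680) (.leaf 111889014)) (.node (.leaf 125444096) (.leaf 0))) (.node (.node (.leaf 18911865) (.leaf 0)) (.node (.leaf 105338123) (.leaf 0))))))) (.node (.node (.node (.node (.node (.node (.leaf 4743168) (.leaf 107719241)) (.node (.leaf 74001339) (.leaf 0))) (.node (.node (.leaf 54099968) (.leaf 0)) (.node (.leaf 131416064) (.leaf 0)))) (.node (.node (.node (.leaf 30253056) (.leaf 159698147)) (.node (.leaf 24159227) (.leaf 0))) (.node (.node (.leaf 76111872) (.leaf 0)) (.node (.leaf 145326080) (.leaf 0))))) (.node (.node (.node (.node (.leaf 17776640) (.leaf 161234944)) (.node (.leaf 105816064) (.leaf 0))) (.node (.node (.leaf 65429504) (.leaf 0)) (.node (.leaf 126316641) (.leaf 0)))) (.node (.node (.node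 (.leaf 42369024) (.leaf 164386018)) (.node (.leaf 40986881) (.leaf 0))) (.node (.node (.leaf 63517572) (.leaf 0)) (.node (.leaf 49445502) (.leaf 0)))))) (.node (.node (.node (.node (.node (.leaf 11255808) (.leaf 159121408)) (.node (.leaf 101138432) (.leaf 0))) (.node (.node (.leaf 59809792) (.leaf 0)) (.node (.leaf 115482848) (.leaf 0)))) (.node (.node (.node (.leaf 36454400) (.leaf 164307757)) (.node (.leaf 119177216) (.leaf 0))) (.node (.node (.leaf 81330176) (.leaf 0)) (.node (.leaf 96011485) (.leaf 0))))) (.node (.node (.node (.node (.leaf 24084480) (.leaf 147068833)) (.node (.leaf 32301373) (.leaf 0))) (.node (.node (.leaf 55817414) (.leaf 0)) (.node (.leaf 98083329) (.leaf 0)))) (.node (.node (.node (.leaf 48340992) (.leaf 146745098)) (.node (.leaf 127492096) (.leaf 0))) (.node (.node (.leaf 26033314) (.leaf 0)) (.node (.leaf 151644834) (.leaf 0)))))))) (.node (.node (.node (.node (.node (.node (.node (.leaf 3096576) (.leaf 10788864)) (.node (.leaf 95100928) (.leaf 0))) (.node (.node (.leaf 52707328)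 (.leaf 0)) (.node (.leaf 130326528) (.leaf 0)))) (.node (.node (.node (.leaf 28712960) (.leaf 141102606)) (.node (.leaf 91326044) (.leaf 0))) (.node (.node (.leaf 74784768) (.leaf 0)) (.node (.leaf 33204239) (.leaf 0))))) (.node (.node (.node (.node (.leaf 16105472) (.leaf 87769411)) (.node (.leaf 104521728) (.leaf 0))) (.node (.node (.leaf 64061440) (.leaf 0)) (.node (.leaf 83723074) (.leaf 0)))) (.node (.node (.node (.leaf 1130496) (.leaf 166916945)) (.node (.leaf 122314752) (.leaf 0))) (.node (.node (.leaf 85180416) (.leaf 0)) (.node (.leaf 110610224) (.leaf 0)))))) (.node (.node (.node (.node (.node (.leaf 9658368) (.leaf 122526763)) (.node (.leaf 99901440) (.leaf 0))) (.node (.node (.leaf 58351616) (.leaf 0)) (.node (.leaf 134111232) (.leaf 0)))) (.node (.node (.node (.leaf 34889728) (.leaf 119662864)) (.node (.leaf 118136832) (.leaf 0))) (.node (.node (.leaf 38904232) (.leaf 0)) (.node (.leaf 147800064) (.leaf 0))))) (.node (.node (.node (.node (.leaf 13826088) (.leaf 152888643)) (.node (.leaf 109338624)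 (.leaf 0))) (.node (.node (.leaf 69492736) (.leaf 0)) (.node (.leaf 138558355) (.leaf 0)))) (.node (.node (.node (.leaf 18170566) (.leaf 96766320)) (.node (.leaf 87405755) (.leaf 0))) (.node (.node (.leaf 90218496) (.leaf 0)) (.node (.leaf 153657344) (.leaf 0))))))) (.node (.node (.node (.node (.node (.node (.leaf 6381568) (.leaf 157523968)) (.node (.leaf 56842701) (.leaf 0))) (.node (.node (.leaf 55476224) (.leaf 0)) (.node (.leaf 88551013) (.leaf 0)))) (.node (.node (.node (.leaf 31850496) (.leaf 165437440)) (.node (.leaf 31754703) (.leaf 0))) (.node (.node (.leaf 77422592) (.leaf 0)) (.node (.leaf 142478873) (.leaf 0))))) (.node (.node (.node (.node (.leaf 19398656) (.leaf 150908439)) (.node (.leaf 21846412) (.leaf 0))) (.node (.node (.leaf 66846720) (.leaf 0)) (.node (.leaf 139509760) (.leaf 0)))) (.node (.node (.node (.leaf 43892736) (.leaf 106556983)) (.node (.leaf 124379136) (.leaf 0))) (.node (.node (.leaf 33174054) (.leaf 0)) (.node (.leaf 97657199) (.leaf 0)))))) (.node (.node (.node (.node (.node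 (.leaf 12861440) (.leaf 61675967)) (.node (.leaf 102260736) (.leaf 0))) (.node (.node (.leaf 61267968) (.leaf 0)) (.node (.leaf 86790411) (.leaf 0)))) (.node (.node (.node (.leaf 37953536) (.leaf 140063096)) (.node (.leaf 120102912) (.leaf 0))) (.node (.node (.leaf 82657280) (.leaf 0)) (.node (.leaf 10647323) (.leaf 0))))) (.node (.node (.node (.node (.leaf 19428788) (.leaf 157649148)) (.node (.leaf 105857779) (.leaf 0))) (.node (.node (.leaf 72105984) (.leaf 0)) (.node (.leaf 140079632) (.leaf 0)))) (.node (.node (.node (.leaf 49807360) (.leaf 118760197)) (.node (.leaf 128507904) (.leaf 0))) (.node (.node (.leaf 69305656) (.leaf 0)) (.node (.leaf 154992640) (.leaf 0))))))))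

def e0T110 : NT := .node (.node (.node (.node (.node (.node (.node (.node (.leaf 1433600) (.leaf 50226209)) (.node (.leaf 93954048) (.leaf 0))) (.node (.node (.leaf 51273728) (.leaf 0)) (.node (.leaf 72702759) (.leaf 0)))) (.node (.node (.node (.leaf 27164672) (.leaf 164020224)) (.node (.leaf 112648192) (.leaf 0))) (.node (.node (.leaf 73449472) (.leaf 0)) (.node (.leaf 143769600) (.leaf 0))))) (.node (.node (.node (.node (.leaf 14483456) (.leaf 157059151)) (.node (.leaf 103374848) (.leaf 0))) (.node (.node (.leaf 62685184) (.leaf 0)) (.node (.leaf 136839168) (.leaf 0)))) (.node (.node (.node (.leaf 39419904) (.leaf 167092224)) (.node (.leaf 102756591) (.leaf 0))) (.node (.node (.leaf 83959808) (.leaf 0)) (.node (.leaf 36636995) (.leaf 0)))))) (.node (.node (.node (.node (.node (.leaf 8036352) (.leaf 112184913)) (.node (.leaf 98689024) (.leaf 0))) (.node (.node (.leaf 56827904) (.leaf 0)) (.node (.leaf 133226496) (.leaf 0)))) (.node (.node (.node (.leaf 33398784) (.leaf 90416603)) (.node (.leaf 117039104)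 (.leaf 0))) (.node (.node (.leaf 57137562) (.leaf 0)) (.node (.leaf 147087360) (.leaf 0))))) (.node (.node (.node (.node (.leaf 21004288) (.leaf 153237254)) (.node (.leaf 108232704) (.leaf 0))) (.node (.node (.leaf 68272128) (.leaf 0)) (.node (.leaf 15982592) (.leaf 0)))) (.node (.node (.node (.leaf 45391872) (.leaf 78174497)) (.node (.leaf 43480007) (.leaf 0))) (.node (.node (.leaf 88940544) (.leaf 0)) (.node (.leaf 152936448) (.leaf 0))))))) (.node (.node (.node (.node (.node (.node (.leaf 4759552) (.leaf 156893184)) (.node (.leaf 68559184) (.leaf 0))) (.node (.node (.leaf 54116352) (.leaf 0)) (.node (.leaf 131424256) (.leaf 0)))) (.node (.node (.node (.leaf 30269440) (.leaf 132011822)) (.node (.leaf 114884608) (.leaf 0))) (.node (.node (.leaf 76120064) (.leaf 0)) (.node (.leaf 57467210) (.leaf 0))))) (.node (.node (.node (.node (.leaf 17793024) (.leaf 53295065)) (.node (.leaf 105824256) (.leaf 0))) (.node (.node (.leaf 12120969) (.leaf 0)) (.node (.leaf 138534912) (.leaf 0)))) (.node (.node (.node (.leaf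 42377216) (.leaf 166639856)) (.node (.leaf 123379712) (.leaf 0))) (.node (.node (.leaf 86368256) (.leaf 0)) (.node (.leaf 151609344) (.leaf 0)))))) (.node (.node (.node (.node (.node (.leaf 11272192) (.leaf 159137792)) (.node (.leaf 101146624) (.leaf 0))) (.node (.node (.leaf 59817984) (.leaf 0)) (.node (.leaf 135036928) (.leaf 0)))) (.node (.node (.node (.leaf 36470784) (.leaf 166510592)) (.node (.leaf 119185408) (.leaf 0))) (.node (.node (.leaf 81346560) (.leaf 0)) (.node (.leaf 148643840) (.leaf 0))))) (.node (.node (.node (.node (.leaf 24092672) (.leaf 136069452)) (.node (.leaf 91919299) (.leaf 0))) (.node (.node (.leaf 70795264) (.leaf 0)) (.node (.leaf 142221312) (.leaf 0)))) (.node (.node (.node (.leaf 48357376) (.leaf 109823204)) (.node (.leaf 60191773) (.leaf 0))) (.node (.node (.leaf 91373568) (.leaf 0)) (.node (.leaf 154370048) (.leaf 0)))))))) (.node (.node (.node (.node (.node (.node (.node (.leaf 3112960) (.leaf 156278784)) (.node (.leaf 95109120) (.leaf 0))) (.node (.node (.leaf 52723712)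 (.leaf 0)) (.node (.leaf 130342912) (.leaf 0)))) (.node (.node (.node (.leaf 28721152) (.leaf 152462057)) (.node (.leaf 113729536) (.leaf 0))) (.node (.node (.leaf 74801152) (.leaf 0)) (.node (.leaf 144596992) (.leaf 0))))) (.node (.node (.node (.node (.leaf 16121856) (.leaf 105063034)) (.node (.leaf 7842018) (.leaf 0))) (.node (.node (.leaf 1949696) (.leaf 0)) (.node (.leaf 137682944) (.leaf 0)))) (.node (.node (.node (.leaf 40910848) (.leaf 167297024)) (.node (.leaf 30221602) (.leaf 0))) (.node (.node (.leaf 85188608) (.leaf 0)) (.node (.leaf 146608880) (.leaf 0)))))) (.node (.node (.node (.node (.node (.leaf 9666560) (.leaf 158539776)) (.node (.leaf 57738965) (.leaf 0))) (.node (.node (.leaf 16533408) (.leaf 0)) (.node (.leaf 134119424) (.leaf 0)))) (.node (.node (.node (.leaf 34897920) (.leaf 106435091)) (.node (.leaf 118145024) (.leaf 0))) (.node (.node (.leaf 71945781) (.leaf 0)) (.node (.leaf 147808256) (.leaf 0))))) (.node (.node (.node (.node (.leaf 22503424) (.leaf 92878107)) (.node (.leaf 109346816)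 (.leaf 0))) (.node (.node (.leaf 11546677) (.leaf 0)) (.node (.leaf 141320192) (.leaf 0)))) (.node (.node (.node (.leaf 46915584) (.leaf 44194245)) (.node (.leaf 126476288) (.leaf 0))) (.node (.node (.leaf 90226688) (.leaf 0)) (.node (.leaf 72160964) (.leaf 0))))))) (.node (.node (.node (.node (.node (.node (.leaf 6389760) (.leaf 35776771)) (.node (.leaf 97492992) (.leaf 0))) (.node (.node (.leaf 55492608) (.leaf 0)) (.node (.leaf 90289317) (.leaf 0)))) (.node (.node (.node (.leaf 31858688) (.leaf 164900461)) (.node (.leaf 115965952) (.leaf 0))) (.node (.node (.leaf 77438976) (.leaf 0)) (.node (.leaf 61061177) (.leaf 0))))) (.node (.node (.node (.node (.leaf 491520) (.leaf 160287200)) (.node (.leaf 107028480) (.leaf 0))) (.node (.node (.leaf 66863104) (.leaf 0)) (.node (.leaf 139517952) (.leaf 0)))) (.node (.node (.node (.leaf 43909120) (.leaf 167673856)) (.node (.leaf 124387328) (.leaf 0))) (.node (.node (.leaf 87662592) (.leaf 0)) (.node (.leaf 152289280) (.leaf 0)))))) (.node (.node (.node (.node (.node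 (.leaf 12869632) (.leaf 121067650)) (.node (.leaf 102277120) (.leaf 0))) (.node (.node (.leaf 61276160) (.leaf 0)) (.node (.leaf 83931070) (.leaf 0)))) (.node (.node (.node (.leaf 36621317) (.leaf 24691913)) (.node (.leaf 120111104) (.leaf 0))) (.node (.node (.leaf 62498473) (.leaf 0)) (.node (.leaf 125549048) (.leaf 0))))) (.node (.node (.node (.node (.leaf 25632768) (.leaf 163577856)) (.node (.leaf 37512883) (.leaf 0))) (.node (.node (.leaf 72114176) (.leaf 0)) (.node (.leaf 87189414) (.leaf 0)))) (.node (.node (.node (.leaf 40464878) (.leaf 134321747)) (.node (.leaf 128524288) (.leaf 0))) (.node (.node (.leaf 92618752) (.leaf 0)) (.node (.leaf 147662959) (.leaf 0))))))))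

def e0T111 : NT := .node (.node (.node (.node (.node (.node (.node (.node (.leaf 1449984) (.leaf 146868312)) (.node (.leaf 93970432) (.leaf 0))) (.node (.node (.leaf 35266684) (.leaf 0)) (.node (.leaf 129449984) (.leaf 0)))) (.node (.node (.node (.leaf 27172864) (.leaf 74356711)) (.node (.leaf 112656384) (.leaf 0))) (.node (.node (.leaf 45661257) (.leaf 0)) (.node (.leaf 143785984) (.leaf 0))))) (.node (.node (.node (.node (.leaf 14491648) (.leaf 160194560)) (.node (.leaf 98038426) (.leaf 0))) (.node (.node (.leaf 62701568) (.leaf 0)) (.node (.leaf 136847360) (.leaf 0)))) (.node (.node (.node (.leaf 39436288) (.leaf 67905344)) (.node (.leaf 121274368) (.leaf 0))) (.node (.node (.leaf 53447856) (.leaf 0)) (.node (.leaf 85103005) (.leaf 0)))))) (.node (.node (.node (.node (.node (.leaf 8052736) (.leaf 118825604)) (.node (.leaf 98705408) (.leaf 0))) (.node (.node (.leaf 1695744) (.leaf 0)) (.node (.leaf 133234688) (.leaf 0)))) (.node (.node (.node (.leaf 33415168) (.leaf 165789696)) (.node (.leaf 117047296)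 (.leaf 0))) (.node (.node (.leaf 78725120) (.leaf 0)) (.node (.leaf 80580513) (.leaf 0))))) (.node (.node (.node (.node (.leaf 21020672) (.leaf 123882238)) (.node (.leaf 108240896) (.leaf 0))) (.node (.node (.leaf 68280320) (.leaf 0)) (.node (.leaf 47271687) (.leaf 0)))) (.node (.node (.node (.leaf 45400064) (.leaf 94507460)) (.node (.leaf 125468672) (.leaf 0))) (.node (.node (.leaf 4805641) (.leaf 0)) (.node (.leaf 11269567) (.leaf 0))))))) (.node (.node (.node (.node (.node (.node (.leaf 4767744) (.leaf 81531160)) (.node (.leaf 19579050) (.leaf 0))) (.node (.node (.leaf 54124544) (.leaf 0)) (.node (.leaf 119081697) (.leaf 0)))) (.node (.node (.node (.leaf 30277632) (.leaf 164211980)) (.node (.leaf 54794448) (.leaf 0))) (.node (.node (.leaf 76136448) (.leaf 0)) (.node (.leaf 145350656) (.leaf 0))))) (.node (.node (.node (.node (.leaf 17809408) (.leaf 13121983)) (.node (.leaf 105840640) (.leaf 0))) (.node (.node (.leaf 65445888) (.leaf 0)) (.node (.leaf 138543104) (.leaf 0)))) (.node (.node (.node (.leaf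 42385408) (.leaf 39518669)) (.node (.leaf 108389892) (.leaf 0))) (.node (.node (.leaf 86384640) (.leaf 0)) (.node (.leaf 57840713) (.leaf 0)))))) (.node (.node (.node (.node (.node (.leaf 11280384) (.leaf 159145984)) (.node (.leaf 101163008) (.leaf 0))) (.node (.node (.leaf 59826176) (.leaf 0)) (.node (.leaf 43446956) (.leaf 0)))) (.node (.node (.node (.leaf 36478976) (.leaf 135174131)) (.node (.leaf 119201792) (.leaf 0))) (.node (.node (.leaf 7004160) (.leaf 0)) (.node (.leaf 63688191) (.leaf 0))))) (.node (.node (.node (.node (.leaf 24109056) (.leaf 39000738)) (.node (.leaf 101587899) (.leaf 0))) (.node (.node (.leaf 70811648) (.leaf 0)) (.node (.leaf 13795554) (.leaf 0)))) (.node (.node (.node (.leaf 48365568) (.leaf 68531025)) (.node (.leaf 14713147) (.leaf 0))) (.node (.node (.leaf 91389952) (.leaf 0)) (.node (.leaf 135785733) (.leaf 0)))))))) (.node (.node (.node (.node (.node (.node (.node (.leaf 3121152) (.leaf 154356728)) (.node (.leaf 95125504) (.leaf 0))) (.node (.node (.leaf 46041467) (.leaf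 0)) (.node (.leaf 130359296) (.leaf 0)))) (.node (.node (.node (.leaf 28737536) (.leaf 55064252)) (.node (.leaf 113745920) (.leaf 0))) (.node (.node (.leaf 74817536) (.leaf 0)) (.node (.leaf 19841024) (.leaf 0))))) (.node (.node (.node (.node (.leaf 16138240) (.leaf 114303129)) (.node (.leaf 104529920) (.leaf 0))) (.node (.node (.leaf 64069632) (.leaf 0)) (.node (.leaf 137691136) (.leaf 0)))) (.node (.node (.node (.leaf 40919040) (.leaf 139309773)) (.node (.leaf 114144877) (.leaf 0))) (.node (.node (.leaf 85196800) (.leaf 0)) (.node (.leaf 101702791) (.leaf 0)))))) (.node (.node (.node (.node (.node (.leaf 9682944) (.leaf 158547968)) (.node (.leaf 99909632) (.leaf 0))) (.node (.node (.leaf 58376192) (.leaf 0)) (.node (.leaf 134135808) (.leaf 0)))) (.node (.node (.node (.leaf 34906112) (.leaf 147751244)) (.node (.leaf 68747730) (.leaf 0))) (.node (.node (.leaf 80060416) (.leaf 0)) (.node (.leaf 12274684) (.leaf 0))))) (.node (.node (.node (.node (.leaf 22519808) (.leaf 27430582)) (.node (.leaf 109355008)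 (.leaf 0))) (.node (.node (.leaf 69500928) (.leaf 0)) (.node (.leaf 141336576) (.leaf 0)))) (.node (.node (.node (.leaf 46931968) (.leaf 161059571)) (.node (.leaf 126492672) (.leaf 0))) (.node (.node (.leaf 90243072) (.leaf 0)) (.node (.leaf 72789642) (.leaf 0))))))) (.node (.node (.node (.node (.node (.node (.leaf 6406144) (.leaf 137639728)) (.node (.leaf 97501184) (.leaf 0))) (.node (.node (.leaf 55508992) (.leaf 0)) (.node (.leaf 63015156) (.leaf 0)))) (.node (.node (.node (.leaf 31875072) (.leaf 96546752)) (.node (.leaf 92007519) (.leaf 0))) (.node (.node (.leaf 77447168) (.leaf 0)) (.node (.leaf 22718137) (.leaf 0))))) (.node (.node (.node (.node (.leaf 19415040) (.leaf 110030418)) (.node (.leaf 107036672) (.leaf 0))) (.node (.node (.leaf 66871296) (.leaf 0)) (.node (.leaf 139534336) (.leaf 0)))) (.node (.node (.node (.leaf 43917312) (.leaf 167682048)) (.node (.leaf 102152294) (.leaf 0))) (.node (.node (.leaf 87670784) (.leaf 0)) (.node (.leaf 13433628) (.leaf 0)))))) (.node (.node (.node (.node (.node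 (.leaf 10236267) (.leaf 155938727)) (.node (.leaf 102285312) (.leaf 0))) (.node (.node (.leaf 14980465) (.leaf 0)) (.node (.leaf 135946240) (.leaf 0)))) (.node (.node (.node (.leaf 8342560) (.leaf 130410024)) (.node (.leaf 120119296) (.leaf 0))) (.node (.node (.leaf 82681856) (.leaf 0)) (.node (.leaf 11401494) (.leaf 0))))) (.node (.node (.node (.node (.leaf 25649152) (.leaf 163586048)) (.node (.leaf 111575040) (.leaf 0))) (.node (.node (.leaf 72130560) (.leaf 0)) (.node (.leaf 56906622) (.leaf 0)))) (.node (.node (.node (.leaf 26313357) (.leaf 168091648)) (.node (.leaf 128540672) (.leaf 0))) (.node (.node (.leaf 92626944) (.leaf 0)) (.node (.leaf 44529329) (.leaf 0))))))))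

def e0T112 : NT := .node (.node (.node (.node (.node (.node (.node (.node (.leaf 1458176) (.leaf 155688960)) (.node (.leaf 93978624) (.leaf 0))) (.node (.node (.leaf 51281920) (.leaf 0)) (.node (.leaf 129458176) (.leaf 0)))) (.node (.node (.node (.leaf 27189248) (.leaf 34164043)) (.node (.leaf 86330480) (.leaf 0))) (.node (.node (.leaf 73465856) (.leaf 0)) (.node (.leaf 77713575) (.leaf 0))))) (.node (.node (.node (.node (.leaf 14508032) (.leaf 151622560)) (.node (.leaf 82572842) (.leaf 0))) (.node (.node (.leaf 62717952) (.leaf 0)) (.node (.leaf 131465525) (.leaf 0)))) (.node (.node (.node (.leaf 39452672) (.leaf 19333120)) (.node (.leaf 121282560) (.leaf 0))) (.node (.node (.leaf 83968000) (.leaf 0)) (.node (.leaf 135010160) (.leaf 0)))))) (.node (.node (.node (.node (.node (.leaf 8060928) (.leaf 113358225)) (.node (.leaf 94362456) (.leaf 0))) (.node (.node (.leaf 19689237) (.leaf 0)) (.node (.leaf 133251072) (.leaf 0)))) (.node (.node (.node (.leaf 33423360) (.leaf 165797888)) (.node (.leaf 64767611)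 (.leaf 0))) (.node (.node (.leaf 52518912) (.leaf 0)) (.node (.leaf 147103744) (.leaf 0))))) (.node (.node (.node (.node (.leaf 21028864) (.leaf 152873798)) (.node (.leaf 83176370) (.leaf 0))) (.node (.node (.leaf 68296704) (.leaf 0)) (.node (.leaf 139273563) (.leaf 0)))) (.node (.node (.node (.leaf 45416448) (.leaf 166154018)) (.node (.leaf 89599794) (.leaf 0))) (.node (.node (.leaf 81103022) (.leaf 0)) (.node (.leaf 150009234) (.leaf 0))))))) (.node (.node (.node (.node (.node (.node (.leaf 4784128) (.leaf 35737583)) (.node (.leaf 96337920) (.leaf 0))) (.node (.node (.leaf 54140928) (.leaf 0)) (.node (.leaf 131432448) (.leaf 0)))) (.node (.node (.node (.leaf 30294016) (.leaf 106231610)) (.node (.leaf 114909184) (.leaf 0))) (.node (.node (.leaf 76152832) (.leaf 0)) (.node (.leaf 145358848) (.leaf 0))))) (.node (.node (.node (.node (.leaf 17817600) (.leaf 51530918)) (.node (.leaf 105848832) (.leaf 0))) (.node (.node (.leaf 65454080) (.leaf 0)) (.node (.leaf 80770799) (.leaf 0)))) (.node (.node (.node (.leaf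 42393600) (.leaf 58756686)) (.node (.leaf 123396096) (.leaf 0))) (.node (.node (.leaf 86401024) (.leaf 0)) (.node (.leaf 133244677) (.leaf 0)))))) (.node (.node (.node (.node (.node (.leaf 11296768) (.leaf 159154176)) (.node (.leaf 101171200) (.leaf 0))) (.node (.node (.leaf 50063929) (.leaf 0)) (.node (.leaf 135053312) (.leaf 0)))) (.node (.node (.node (.leaf 36495360) (.leaf 154013232)) (.node (.leaf 119209984) (.leaf 0))) (.node (.node (.leaf 81362944) (.leaf 0)) (.node (.leaf 148660224) (.leaf 0))))) (.node (.node (.node (.node (.leaf 24117248) (.leaf 163176448)) (.node (.leaf 110501888) (.leaf 0))) (.node (.node (.leaf 70819840) (.leaf 0)) (.node (.leaf 142237696) (.leaf 0)))) (.node (.node (.node (.leaf 48381952) (.leaf 146549033)) (.node (.leaf 127500288) (.leaf 0))) (.node (.node (.leaf 91406336) (.leaf 0)) (.node (.leaf 35848386) (.leaf 0)))))))) (.node (.node (.node (.node (.node (.node (.node (.leaf 519919) (.leaf 144055262)) (.node (.leaf 11347182) (.leaf 0))) (.node (.node (.leaf 52731904)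 (.leaf 0)) (.node (.leaf 107157639) (.leaf 0)))) (.node (.node (.node (.leaf 28745728) (.leaf 164508208)) (.node (.leaf 113754112) (.leaf 0))) (.node (.node (.leaf 74825728) (.leaf 0)) (.node (.leaf 133754765) (.leaf 0))))) (.node (.node (.node (.node (.leaf 16146432) (.leaf 86208971)) (.node (.leaf 8946598) (.leaf 0))) (.node (.node (.leaf 64077824) (.leaf 0)) (.node (.leaf 137699328) (.leaf 0)))) (.node (.node (.node (.leaf 40935424) (.leaf 107778039)) (.node (.leaf 52064581) (.leaf 0))) (.node (.node (.leaf 5790701) (.leaf 0)) (.node (.leaf 61877769) (.leaf 0)))))) (.node (.node (.node (.node (.node (.leaf 9691136) (.leaf 158564352)) (.node (.leaf 72259772) (.leaf 0))) (.node (.node (.leaf 9335881) (.leaf 0)) (.node (.leaf 58104621) (.leaf 0)))) (.node (.node (.node (.leaf 34922496) (.leaf 148065843)) (.node (.leaf 55285954) (.leaf 0))) (.node (.node (.leaf 80068608) (.leaf 0)) (.node (.leaf 147824640) (.leaf 0))))) (.node (.node (.node (.node (.leaf 22528000) (.leaf 96416369)) (.node (.leaf 109371392)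 (.leaf 0))) (.node (.node (.leaf 69509120) (.leaf 0)) (.node (.leaf 141344768) (.leaf 0)))) (.node (.node (.node (.leaf 3834640) (.leaf 159222759)) (.node (.leaf 36335649) (.leaf 0))) (.node (.node (.leaf 90259456) (.leaf 0)) (.node (.leaf 129376721) (.leaf 0))))))) (.node (.node (.node (.node (.node (.node (.leaf 6414336) (.leaf 153547166)) (.node (.leaf 97509376) (.leaf 0))) (.node (.node (.leaf 55517184) (.leaf 0)) (.node (.leaf 132358144) (.leaf 0)))) (.node (.node (.node (.leaf 31891456) (.leaf 130829312)) (.node (.leaf 15677457) (.leaf 0))) (.node (.node (.leaf 77463552) (.leaf 0)) (.node (.leaf 146251776) (.leaf 0))))) (.node (.node (.node (.node (.leaf 19431424) (.leaf 161775616)) (.node (.leaf 46186689) (.leaf 0))) (.node (.node (.leaf 66887680) (.leaf 0)) (.node (.leaf 110428616) (.leaf 0)))) (.node (.node (.node (.leaf 43933696) (.leaf 161254590)) (.node (.leaf 124395520) (.leaf 0))) (.node (.node (.leaf 87678976) (.leaf 0)) (.node (.leaf 152297472) (.leaf 0)))))) (.node (.node (.node (.node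 (.node (.leaf 12894208) (.leaf 159637504)) (.node (.leaf 102293504) (.leaf 0))) (.node (.node (.leaf 61292544) (.leaf 0)) (.node (.leaf 50708748) (.leaf 0)))) (.node (.node (.node (.leaf 37978112) (.leaf 166854656)) (.node (.leaf 9812037) (.leaf 0))) (.node (.node (.leaf 82690048) (.leaf 0)) (.node (.leaf 120842530) (.leaf 0))))) (.node (.node (.node (.node (.leaf 25665536) (.leaf 163602432)) (.node (.leaf 111583232) (.leaf 0))) (.node (.node (.leaf 72138752) (.leaf 0)) (.node (.leaf 44342421) (.leaf 0)))) (.node (.node (.node (.leaf 49831936) (.leaf 153180993)) (.node (.leaf 128548864) (.leaf 0))) (.node (.node (.leaf 90818967) (.leaf 0)) (.node (.leaf 153825859) (.leaf 0))))))))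

def e0T113 : NT := .node (.node (.node (.node (.node (.node (.node (.node (.leaf 1474560) (.leaf 66676845)) (.node (.leaf 93995008) (.leaf 0))) (.node (.node (.leaf 51290112) (.leaf 0)) (.node (.leaf 129466368) (.leaf 0)))) (.node (.node (.node (.leaf 27197440) (.leaf 55502641)) (.node (.leaf 103466497) (.leaf 0))) (.node (.node (.leaf 73474048) (.leaf 0)) (.node (.leaf 143794176) (.leaf 0))))) (.node (.node (.node (.node (.leaf 14516224) (.leaf 160210944)) (.node (.leaf 76690092) (.leaf 0))) (.node (.node (.leaf 62726144) (.leaf 0)) (.node (.leaf 84971745) (.leaf 0)))) (.node (.node (.node (.leaf 39460864) (.leaf 22939438)) (.node (.leaf 121298944) (.leaf 0))) (.node (.node (.leaf 35717748) (.leaf 0)) (.node (.leaf 150151168) (.leaf 0)))))) (.node (.node (.node (.node (.node (.leaf 8077312) (.leaf 158007296)) (.node (.leaf 98713600) (.leaf 0))) (.node (.node (.leaf 49237697) (.leaf 0)) (.node (.leaf 96459530) (.leaf 0)))) (.node (.node (.node (.leaf 33439744) (.leaf 135156269)) (.node (.leaf 117055488)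 (.leaf 0))) (.node (.node (.leaf 78741504) (.leaf 0)) (.node (.leaf 89126370) (.leaf 0))))) (.node (.node (.node (.node (.leaf 21045248) (.leaf 162291712)) (.node (.leaf 108257280) (.leaf 0))) (.node (.node (.leaf 68313088) (.leaf 0)) (.node (.leaf 47848469) (.leaf 0)))) (.node (.node (.node (.leaf 45424640) (.leaf 166874660)) (.node (.leaf 63549093) (.leaf 0))) (.node (.node (.leaf 88948736) (.leaf 0)) (.node (.leaf 152952832) (.leaf 0))))))) (.node (.node (.node (.node (.node (.node (.leaf 4792320) (.leaf 156909568)) (.node (.leaf 96346112) (.leaf 0))) (.node (.node (.leaf 54157312) (.leaf 0)) (.node (.leaf 127004106) (.leaf 0)))) (.node (.node (.node (.leaf 30310400) (.leaf 123437177)) (.node (.leaf 114917376) (.leaf 0))) (.node (.node (.leaf 15653071) (.leaf 0)) (.node (.leaf 145375232) (.leaf 0))))) (.node (.node (.node (.node (.leaf 17833984) (.leaf 121113050)) (.node (.leaf 53081776) (.leaf 0))) (.node (.node (.leaf 65470464) (.leaf 0)) (.node (.leaf 138559488) (.leaf 0)))) (.node (.node (.node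 (.leaf 42409984) (.leaf 103582455)) (.node (.leaf 104569632) (.leaf 0))) (.node (.node (.leaf 86409216) (.leaf 0)) (.node (.leaf 151633920) (.leaf 0)))))) (.node (.node (.node (.node (.node (.leaf 11313152) (.leaf 116868457)) (.node (.leaf 101179392) (.leaf 0))) (.node (.node (.leaf 59842560) (.leaf 0)) (.node (.leaf 135069696) (.leaf 0)))) (.node (.node (.node (.leaf 36511744) (.leaf 106695135)) (.node (.leaf 73692807) (.leaf 0))) (.node (.node (.leaf 81379328) (.leaf 0)) (.node (.leaf 148668416) (.leaf 0))))) (.node (.node (.node (.node (.leaf 24125440) (.leaf 163184640)) (.node (.leaf 98059135) (.leaf 0))) (.node (.node (.leaf 13880856) (.leaf 0)) (.node (.leaf 142245888) (.leaf 0)))) (.node (.node (.node (.leaf 48398336) (.leaf 168026112)) (.node (.leaf 58483351) (.leaf 0))) (.node (.node (.leaf 91422720) (.leaf 0)) (.node (.leaf 142612019) (.leaf 0)))))))) (.node (.node (.node (.node (.node (.node (.node (.leaf 3137536) (.leaf 156286976)) (.node (.leaf 95141888) (.leaf 0))) (.node (.node (.leaf 52748288)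 (.leaf 0)) (.node (.leaf 130375680) (.leaf 0)))) (.node (.node (.node (.leaf 28762112) (.leaf 65086532)) (.node (.leaf 113770496) (.leaf 0))) (.node (.node (.leaf 66086885) (.leaf 0)) (.node (.leaf 144613376) (.leaf 0))))) (.node (.node (.node (.node (.leaf 16162816) (.leaf 42942965)) (.node (.leaf 104546304) (.leaf 0))) (.node (.node (.leaf 64094208) (.leaf 0)) (.node (.leaf 129815222) (.leaf 0)))) (.node (.node (.node (.leaf 40943616) (.leaf 65157438)) (.node (.leaf 122339328) (.leaf 0))) (.node (.node (.leaf 80946426) (.leaf 0)) (.node (.leaf 146400781) (.leaf 0)))))) (.node (.node (.node (.node (.node (.leaf 9707520) (.leaf 92124210)) (.node (.leaf 91693328) (.leaf 0))) (.node (.node (.leaf 58392576) (.leaf 0)) (.node (.leaf 134144000) (.leaf 0)))) (.node (.node (.node (.leaf 34930688) (.leaf 163309961)) (.node (.leaf 14303367) (.leaf 0))) (.node (.node (.leaf 80084992) (.leaf 0)) (.node (.leaf 39245836) (.leaf 0))))) (.node (.node (.node (.node (.leaf 22544384) (.leaf 49930348)) (.node (.leaf 31277973)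 (.leaf 0))) (.node (.node (.leaf 69525504) (.leaf 0)) (.node (.leaf 141352960) (.leaf 0)))) (.node (.node (.node (.leaf 46948352) (.leaf 165255702)) (.node (.leaf 126500864) (.leaf 0))) (.node (.node (.leaf 19378354) (.leaf 0)) (.node (.leaf 153690112) (.leaf 0))))))) (.node (.node (.node (.node (.node (.node (.leaf 6430720) (.leaf 120829461)) (.node (.leaf 97517568) (.leaf 0))) (.node (.node (.leaf 46930125) (.leaf 0)) (.node (.leaf 132366336) (.leaf 0)))) (.node (.node (.node (.leaf 31899648) (.leaf 165453824)) (.node (.leaf 115990528) (.leaf 0))) (.node (.node (.leaf 60321415) (.leaf 0)) (.node (.leaf 39838265) (.leaf 0))))) (.node (.node (.node (.node (.leaf 19447808) (.leaf 161783808)) (.node (.leaf 107053056) (.leaf 0))) (.node (.node (.leaf 66904064) (.leaf 0)) (.node (.leaf 139542528) (.leaf 0)))) (.node (.node (.node (.leaf 43950080) (.leaf 162026856)) (.node (.leaf 124411904) (.leaf 0))) (.node (.node (.leaf 87695360) (.leaf 0)) (.node (.leaf 98767129) (.leaf 0)))))) (.node (.node (.node (.node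 (.node (.leaf 12910592) (.leaf 159645696)) (.node (.leaf 92926291) (.leaf 0))) (.node (.node (.leaf 48747038) (.leaf 0)) (.node (.leaf 135962624) (.leaf 0)))) (.node (.node (.node (.leaf 37986304) (.leaf 166862848)) (.node (.leaf 57232687) (.leaf 0))) (.node (.node (.leaf 82706432) (.leaf 0)) (.node (.leaf 149413888) (.leaf 0))))) (.node (.node (.node (.node (.leaf 25673728) (.leaf 74083643)) (.node (.leaf 65778934) (.leaf 0))) (.node (.node (.leaf 72146944) (.leaf 0)) (.node (.leaf 75427408) (.leaf 0)))) (.node (.node (.node (.leaf 49848320) (.leaf 98222501)) (.node (.leaf 100628189) (.leaf 0))) (.node (.node (.leaf 37548409) (.leaf 0)) (.node (.leaf 73248343) (.leaf 0))))))))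

def e0T114 : NT := .node (.node (.node (.node (.node (.node (.node (.node (.leaf 1482752) (.leaf 155697152)) (.node (.leaf 94011392) (.leaf 0))) (.node (.node (.leaf 51306496) (.leaf 0)) (.node (.leaf 129474560) (.leaf 0)))) (.node (.node (.node (.leaf 27213824) (.leaf 164036608)) (.node (.leaf 112664576) (.leaf 0))) (.node (.node (.leaf 73490432) (.leaf 0)) (.node (.leaf 22041028) (.leaf 0))))) (.node (.node (.node (.node (.leaf 14532608) (.leaf 160219136)) (.node (.leaf 103383040) (.leaf 0))) (.node (.node (.leaf 62742528) (.leaf 0)) (.node (.leaf 136863744) (.leaf 0)))) (.node (.node (.node (.leaf 39181270) (.leaf 108842015)) (.node (.leaf 121315328) (.leaf 0))) (.node (.node (.leaf 45990904) (.leaf 0)) (.node (.leaf 150159360) (.leaf 0)))))) (.node (.node (.node (.node (.node (.leaf 8093696) (.leaf 153994701)) (.node (.leaf 98721792) (.leaf 0))) (.node (.node (.leaf 56852480) (.leaf 0)) (.node (.leaf 75004391) (.leaf 0)))) (.node (.node (.node (.leaf 33447936) (.leaf 104053263)) (.node (.leaf 117071872)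 (.leaf 0))) (.node (.node (.leaf 78749696) (.leaf 0)) (.node (.leaf 138906613) (.leaf 0))))) (.node (.node (.node (.node (.leaf 21053440) (.leaf 109673372)) (.node (.leaf 108273664) (.leaf 0))) (.node (.node (.leaf 68321280) (.leaf 0)) (.node (.leaf 42861243) (.leaf 0)))) (.node (.node (.node (.leaf 45432832) (.leaf 167837696)) (.node (.leaf 42464347) (.leaf 0))) (.node (.node (.leaf 88965120) (.leaf 0)) (.node (.leaf 152961024) (.leaf 0))))))) (.node (.node (.node (.node (.node (.node (.leaf 4808704) (.leaf 156917760)) (.node (.leaf 96362496) (.leaf 0))) (.node (.node (.leaf 54165504) (.leaf 0)) (.node (.leaf 131440640) (.leaf 0)))) (.node (.node (.node (.leaf 30318592) (.leaf 137048644)) (.node (.leaf 114925568) (.leaf 0))) (.node (.node (.leaf 76169216) (.leaf 0)) (.node (.leaf 145383424) (.leaf 0))))) (.node (.node (.node (.node (.leaf 17842176) (.leaf 158680270)) (.node (.leaf 105865216) (.leaf 0))) (.node (.node (.leaf 65478656) (.leaf 0)) (.node (.leaf 59495938) (.leaf 0)))) (.node (.node (.node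 (.leaf 42426368) (.leaf 139254838)) (.node (.leaf 27958231) (.leaf 0))) (.node (.node (.leaf 86425600) (.leaf 0)) (.node (.leaf 151650304) (.leaf 0)))))) (.node (.node (.node (.node (.node (.leaf 11321344) (.leaf 159170560)) (.node (.leaf 101195776) (.leaf 0))) (.node (.node (.leaf 59858944) (.leaf 0)) (.node (.leaf 135077888) (.leaf 0)))) (.node (.node (.node (.leaf 36519936) (.leaf 166518784)) (.node (.leaf 61735477) (.leaf 0))) (.node (.node (.leaf 81387520) (.leaf 0)) (.node (.leaf 148676608) (.leaf 0))))) (.node (.node (.node (.node (.leaf 24133632) (.leaf 30209591)) (.node (.leaf 77882360) (.leaf 0))) (.node (.node (.leaf 24476568) (.leaf 0)) (.node (.leaf 128699227) (.leaf 0)))) (.node (.node (.node (.leaf 48406528) (.leaf 86851697)) (.node (.leaf 127524864) (.leaf 0))) (.node (.node (.leaf 29689634) (.leaf 0)) (.node (.leaf 100676049) (.leaf 0)))))))) (.node (.node (.node (.node (.node (.node (.node (.leaf 3153920) (.leaf 156295168)) (.node (.leaf 95150080) (.leaf 0))) (.node (.node (.leaf 52756480)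 (.leaf 0)) (.node (.leaf 130383872) (.leaf 0)))) (.node (.node (.node (.leaf 28778496) (.leaf 139933229)) (.node (.leaf 113778688) (.leaf 0))) (.node (.node (.leaf 74833920) (.leaf 0)) (.node (.leaf 144621568) (.leaf 0))))) (.node (.node (.node (.node (.leaf 16179200) (.leaf 53717252)) (.node (.leaf 104554496) (.leaf 0))) (.node (.node (.leaf 64110592) (.leaf 0)) (.node (.leaf 137715712) (.leaf 0)))) (.node (.node (.node (.leaf 40951808) (.leaf 108272271)) (.node (.leaf 122347520) (.leaf 0))) (.node (.node (.leaf 85204992) (.leaf 0)) (.node (.leaf 150937600) (.leaf 0)))))) (.node (.node (.node (.node (.node (.leaf 9723904) (.leaf 149453841)) (.node (.leaf 99926016) (.leaf 0))) (.node (.node (.leaf 58408960) (.leaf 0)) (.node (.leaf 134152192) (.leaf 0)))) (.node (.node (.node (.leaf 34938880) (.leaf 43947564)) (.node (.leaf 93909902) (.leaf 0))) (.node (.node (.leaf 80093184) (.leaf 0)) (.node (.leaf 36868714) (.leaf 0))))) (.node (.node (.node (.node (.leaf 22560768) (.leaf 91389024)) (.node (.leaf 86974973)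 (.leaf 0))) (.node (.node (.leaf 69533696) (.leaf 0)) (.node (.leaf 74437806) (.leaf 0)))) (.node (.node (.node (.leaf 5622925) (.leaf 167927808)) (.node (.leaf 126509056) (.leaf 0))) (.node (.node (.leaf 90275840) (.leaf 0)) (.node (.leaf 131023434) (.leaf 0))))))) (.node (.node (.node (.node (.node (.node (.leaf 6447104) (.leaf 109609652)) (.node (.leaf 97533952) (.leaf 0))) (.node (.node (.leaf 15868558) (.leaf 0)) (.node (.leaf 99144388) (.leaf 0)))) (.node (.node (.node (.leaf 31916032) (.leaf 69152724)) (.node (.leaf 115998720) (.leaf 0))) (.node (.node (.leaf 17421939) (.leaf 0)) (.node (.leaf 146268160) (.leaf 0))))) (.node (.node (.node (.node (.leaf 19456000) (.leaf 75272177)) (.node (.leaf 55640064) (.leaf 0))) (.node (.node (.leaf 66912256) (.leaf 0)) (.node (.leaf 8033716) (.leaf 0)))) (.node (.node (.node (.leaf 43958272) (.leaf 107643027)) (.node (.leaf 110340548) (.leaf 0))) (.node (.node (.leaf 13472781) (.leaf 0)) (.node (.leaf 152305664) (.leaf 0)))))) (.node (.node (.node (.node (.node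 (.leaf 12918784) (.leaf 159662080)) (.node (.leaf 102309888) (.leaf 0))) (.node (.node (.leaf 61308928) (.leaf 0)) (.node (.leaf 135979008) (.leaf 0)))) (.node (.node (.node (.leaf 29804129) (.leaf 18595840)) (.node (.leaf 120127488) (.leaf 0))) (.node (.node (.leaf 82722816) (.leaf 0)) (.node (.leaf 147700150) (.leaf 0))))) (.node (.node (.node (.node (.leaf 25690112) (.leaf 163610624)) (.node (.leaf 48095571) (.leaf 0))) (.node (.node (.leaf 72163328) (.leaf 0)) (.node (.leaf 95164523) (.leaf 0)))) (.node (.node (.node (.leaf 49132836) (.leaf 164596129)) (.node (.leaf 128565248) (.leaf 0))) (.node (.node (.leaf 92651520) (.leaf 0)) (.node (.leaf 52964976) (.leaf 0))))))))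

def e0T115 : NT := .node (.node (.node (.node (.node (.node (.node (.node (.leaf 1499136) (.leaf 155705344)) (.node (.leaf 94019584) (.leaf 0))) (.node (.node (.leaf 51322880) (.leaf 0)) (.node (.leaf 71105431) (.leaf 0)))) (.node (.node (.node (.leaf 27230208) (.leaf 150335806)) (.node (.leaf 84709259) (.leaf 0))) (.node (.node (.leaf 73498624) (.leaf 0)) (.node (.leaf 143810560) (.leaf 0))))) (.node (.node (.node (.node (.leaf 14548992) (.leaf 48351602)) (.node (.leaf 35504471) (.leaf 0))) (.node (.node (.leaf 62750720) (.leaf 0)) (.node (.leaf 65634965) (.leaf 0)))) (.node (.node (.node (.leaf 39469056) (.leaf 167100416)) (.node (.leaf 30057222) (.leaf 0))) (.node (.node (.leaf 83984384) (.leaf 0)) (.node (.leaf 150175744) (.leaf 0)))))) (.node (.node (.node (.node (.node (.leaf 8101888) (.leaf 141400983)) (.node (.leaf 98729984) (.leaf 0))) (.node (.node (.leaf 56868864) (.leaf 0)) (.node (.leaf 133267456) (.leaf 0)))) (.node (.node (.node (.leaf 33464320) (.leaf 158258519)) (.node (.leaf 55228377)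 (.leaf 0))) (.node (.node (.leaf 78757888) (.leaf 0)) (.node (.leaf 147120128) (.leaf 0))))) (.node (.node (.node (.node (.leaf 21069824) (.leaf 157582889)) (.node (.leaf 101087977) (.leaf 0))) (.node (.node (.leaf 68337664) (.leaf 0)) (.node (.leaf 140541952) (.leaf 0)))) (.node (.node (.node (.leaf 45449216) (.leaf 96429660)) (.node (.leaf 125493248) (.leaf 0))) (.node (.node (.leaf 88981504) (.leaf 0)) (.node (.leaf 152969216) (.leaf 0))))))) (.node (.node (.node (.node (.node (.node (.leaf 4825088) (.leaf 36698629)) (.node (.leaf 96378880) (.leaf 0))) (.node (.node (.leaf 54181888) (.leaf 0)) (.node (.leaf 131448832) (.leaf 0)))) (.node (.node (.node (.leaf 30334976) (.leaf 147101027)) (.node (.leaf 69522514) (.leaf 0))) (.node (.node (.leaf 52355072) (.leaf 0)) (.node (.leaf 145391616) (.leaf 0))))) (.node (.node (.node (.node (.leaf 17858560) (.leaf 161243136)) (.node (.leaf 105873408) (.leaf 0))) (.node (.node (.leaf 65495040) (.leaf 0)) (.node (.leaf 118849843) (.leaf 0)))) (.node (.node (.node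 (.leaf 42442752) (.leaf 88212719)) (.node (.leaf 123420672) (.leaf 0))) (.node (.node (.leaf 86433792) (.leaf 0)) (.node (.leaf 151658496) (.leaf 0)))))) (.node (.node (.node (.node (.node (.leaf 11337728) (.leaf 36776851)) (.node (.leaf 101203968) (.leaf 0))) (.node (.node (.leaf 59875328) (.leaf 0)) (.node (.leaf 135094272) (.leaf 0)))) (.node (.node (.node (.leaf 28147894) (.leaf 164581683)) (.node (.leaf 5480448) (.leaf 0))) (.node (.node (.leaf 37428205) (.leaf 0)) (.node (.leaf 148684800) (.leaf 0))))) (.node (.node (.node (.node (.leaf 24150016) (.leaf 163201024)) (.node (.leaf 110526464) (.leaf 0))) (.node (.node (.leaf 70836224) (.leaf 0)) (.node (.leaf 142262272) (.leaf 0)))) (.node (.node (.node (.leaf 48422912) (.leaf 167455785)) (.node (.leaf 127533056) (.leaf 0))) (.node (.node (.leaf 91439104) (.leaf 0)) (.node (.leaf 121769665) (.leaf 0)))))))) (.node (.node (.node (.node (.node (.node (.node (.leaf 3170304) (.leaf 156303360)) (.node (.leaf 95166464) (.leaf 0))) (.node (.node (.leaf 52772864)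 (.leaf 0)) (.node (.leaf 130400256) (.leaf 0)))) (.node (.node (.node (.leaf 28786688) (.leaf 164601856)) (.node (.leaf 113786880) (.leaf 0))) (.node (.node (.leaf 74850304) (.leaf 0)) (.node (.leaf 144629760) (.leaf 0))))) (.node (.node (.node (.node (.leaf 16187392) (.leaf 117244977)) (.node (.leaf 104570880) (.leaf 0))) (.node (.node (.leaf 64118784) (.leaf 0)) (.node (.leaf 137723904) (.leaf 0)))) (.node (.node (.node (.leaf 40968192) (.leaf 136745496)) (.node (.leaf 122355712) (.leaf 0))) (.node (.node (.leaf 85213184) (.leaf 0)) (.node (.leaf 131808427) (.leaf 0)))))) (.node (.node (.node (.node (.node (.leaf 9732096) (.leaf 103142161)) (.node (.leaf 99942400) (.leaf 0))) (.node (.node (.leaf 58417152) (.leaf 0)) (.node (.leaf 134160384) (.leaf 0)))) (.node (.node (.node (.leaf 34947072) (.leaf 106731589)) (.node (.leaf 103044066) (.leaf 0))) (.node (.node (.leaf 80101376) (.leaf 0)) (.node (.leaf 147832832) (.leaf 0))))) (.node (.node (.node (.node (.leaf 22568960) (.leaf 95122337)) (.node (.leaf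 109387776) (.leaf 0))) (.node (.node (.leaf 69550080) (.leaf 0)) (.node (.leaf 91199797) (.leaf 0)))) (.node (.node (.node (.leaf 46964736) (.leaf 95973776)) (.node (.leaf 126517248) (.leaf 0))) (.node (.node (.leaf 70163010) (.leaf 0)) (.node (.leaf 153698304) (.leaf 0))))))) (.node (.node (.node (.node (.node (.node (.leaf 6455296) (.leaf 143340780)) (.node (.leaf 97542144) (.leaf 0))) (.node (.node (.leaf 55541760) (.leaf 0)) (.node (.leaf 38310066) (.leaf 0)))) (.node (.node (.node (.leaf 31924224) (.leaf 161806682)) (.node (.leaf 61330654) (.leaf 0))) (.node (.node (.leaf 77479936) (.leaf 0)) (.node (.leaf 140573140) (.leaf 0))))) (.node (.node (.node (.node (.leaf 19472384) (.leaf 81620028)) (.node (.leaf 107069440) (.leaf 0))) (.node (.node (.leaf 66928640) (.leaf 0)) (.node (.leaf 139558912) (.leaf 0)))) (.node (.node (.node (.leaf 43974656) (.leaf 118956644)) (.node (.leaf 124420096) (.leaf 0))) (.node (.node (.leaf 18420296) (.leaf 0)) (.node (.leaf 152313856) (.leaf 0)))))) (.node (.node (.node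 (.node (.node (.leaf 12935168) (.leaf 125319438)) (.node (.leaf 7701655) (.leaf 0))) (.node (.node (.leaf 61317120) (.leaf 0)) (.node (.leaf 135995392) (.leaf 0)))) (.node (.node (.node (.leaf 38002688) (.leaf 164488642)) (.node (.leaf 120143872) (.leaf 0))) (.node (.node (.leaf 82739200) (.leaf 0)) (.node (.leaf 149422080) (.leaf 0))))) (.node (.node (.node (.node (.leaf 25698304) (.leaf 136115147)) (.node (.leaf 5303826) (.leaf 0))) (.node (.node (.leaf 72179712) (.leaf 0)) (.node (.leaf 143065088) (.leaf 0)))) (.node (.node (.node (.leaf 49864704) (.leaf 63746388)) (.node (.leaf 128573440) (.leaf 0))) (.node (.node (.leaf 92667904) (.leaf 0)) (.node (.leaf 155017216) (.leaf 0))))))))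

def e0T116 : NT := .node (.node (.node (.node (.node (.node (.node (.node (.leaf 1515520) (.leaf 28959046)) (.node (.leaf 94027776) (.leaf 0))) (.node (.node (.leaf 3901591) (.leaf 0)) (.node (.leaf 129499136) (.leaf 0)))) (.node (.node (.node (.leaf 27238400) (.leaf 164052992)) (.node (.leaf 53996635) (.leaf 0))) (.node (.node (.leaf 73506816) (.leaf 0)) (.node (.leaf 115975669) (.leaf 0))))) (.node (.node (.node (.node (.leaf 14557184) (.leaf 160235520)) (.node (.leaf 103399424) (.leaf 0))) (.node (.node (.leaf 62758912) (.leaf 0)) (.node (.leaf 136880128) (.leaf 0)))) (.node (.node (.node (.leaf 39477248) (.leaf 167108608)) (.node (.leaf 101618828) (.leaf 0))) (.node (.node (.leaf 83992576) (.leaf 0)) (.node (.leaf 149994115) (.leaf 0)))))) (.node (.node (.node (.node (.node (.leaf 8118272) (.leaf 75997349)) (.node (.leaf 98746368) (.leaf 0))) (.node (.node (.leaf 56877056) (.leaf 0)) (.node (.leaf 125414115) (.leaf 0)))) (.node (.node (.node (.leaf 33480704) (.leaf 17263383)) (.node (.leaf 43546983)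 (.leaf 0))) (.node (.node (.leaf 78766080) (.leaf 0)) (.node (.leaf 110826085) (.leaf 0))))) (.node (.node (.node (.node (.leaf 21086208) (.leaf 145011348)) (.node (.leaf 4300800) (.leaf 0))) (.node (.node (.leaf 68354048) (.leaf 0)) (.node (.leaf 140558336) (.leaf 0)))) (.node (.node (.node (.leaf 45457408) (.leaf 112976478)) (.node (.leaf 125501440) (.leaf 0))) (.node (.node (.leaf 3211534) (.leaf 0)) (.node (.leaf 152977408) (.leaf 0))))))) (.node (.node (.node (.node (.node (.node (.leaf 4833280) (.leaf 136914310)) (.node (.leaf 22215438) (.leaf 0))) (.node (.node (.leaf 54190080) (.leaf 0)) (.node (.leaf 131457024) (.leaf 0)))) (.node (.node (.node (.leaf 30351360) (.leaf 74413682)) (.node (.leaf 80025524) (.leaf 0))) (.node (.node (.leaf 44734289) (.leaf 0)) (.node (.leaf 44467936) (.leaf 0))))) (.node (.node (.node (.node (.leaf 17874944) (.leaf 152031435)) (.node (.leaf 105881600) (.leaf 0))) (.node (.node (.leaf 37451499) (.leaf 0)) (.node (.leaf 110708631) (.leaf 0)))) (.node (.node (.node (.leaf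 42450944) (.leaf 164821458)) (.node (.leaf 123428864) (.leaf 0))) (.node (.node (.leaf 44324453) (.leaf 0)) (.node (.leaf 151666688) (.leaf 0)))))) (.node (.node (.node (.node (.node (.leaf 11354112) (.leaf 159178752)) (.node (.leaf 70335259) (.leaf 0))) (.node (.node (.leaf 46851193) (.leaf 0)) (.node (.leaf 39752233) (.leaf 0)))) (.node (.node (.node (.leaf 36528128) (.leaf 141487227)) (.node (.leaf 119218176) (.leaf 0))) (.node (.node (.leaf 81395712) (.leaf 0)) (.node (.leaf 148692992) (.leaf 0))))) (.node (.node (.node (.node (.leaf 24166400) (.leaf 135943044)) (.node (.leaf 110534656) (.leaf 0))) (.node (.node (.leaf 70852608) (.leaf 0)) (.node (.leaf 142270464) (.leaf 0)))) (.node (.node (.node (.leaf 48439296) (.leaf 160978939)) (.node (.leaf 127549440) (.leaf 0))) (.node (.node (.leaf 91455488) (.leaf 0)) (.node (.leaf 114411923) (.leaf 0)))))))) (.node (.node (.node (.node (.node (.node (.node (.leaf 3178496) (.leaf 46790821)) (.node (.leaf 72816005) (.leaf 0))) (.node (.node (.leaf 52789248)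 (.leaf 0)) (.node (.leaf 15969144) (.leaf 0)))) (.node (.node (.node (.leaf 28803072) (.leaf 164610048)) (.node (.leaf 113803264) (.leaf 0))) (.node (.node (.leaf 74866688) (.leaf 0)) (.node (.leaf 130166799) (.leaf 0))))) (.node (.node (.node (.node (.leaf 16203776) (.leaf 160825344)) (.node (.leaf 4038656) (.leaf 0))) (.node (.node (.leaf 64135168) (.leaf 0)) (.node (.leaf 137732096) (.leaf 0)))) (.node (.node (.node (.leaf 40976384) (.leaf 165570862)) (.node (.leaf 122372096) (.leaf 0))) (.node (.node (.leaf 39506031) (.leaf 0)) (.node (.leaf 23714045) (.leaf 0)))))) (.node (.node (.node (.node (.node (.leaf 9748480) (.leaf 157176868)) (.node (.leaf 16115658) (.leaf 0))) (.node (.node (.leaf 58433536) (.leaf 0)) (.node (.leaf 134168576) (.leaf 0)))) (.node (.node (.node (.leaf 34963456) (.leaf 166141952)) (.node (.leaf 118169600) (.leaf 0))) (.node (.node (.leaf 67694509) (.leaf 0)) (.node (.leaf 147841024) (.leaf 0))))) (.node (.node (.node (.node (.leaf 22585344) (.leaf 13778944)) (.node (.leaf 109395968)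 (.leaf 0))) (.node (.node (.leaf 69566464) (.leaf 0)) (.node (.leaf 141377536) (.leaf 0)))) (.node (.node (.node (.leaf 46981120) (.leaf 57503672)) (.node (.leaf 126525440) (.leaf 0))) (.node (.node (.leaf 90292224) (.leaf 0)) (.node (.leaf 153714688) (.leaf 0))))))) (.node (.node (.node (.node (.node (.node (.leaf 6463488) (.leaf 102962939)) (.node (.leaf 97558528) (.leaf 0))) (.node (.node (.leaf 46090154) (.leaf 0)) (.node (.leaf 87688359) (.leaf 0)))) (.node (.node (.node (.leaf 30989388) (.leaf 88857058)) (.node (.leaf 116006912) (.leaf 0))) (.node (.node (.leaf 77496320) (.leaf 0)) (.node (.leaf 8323072) (.leaf 0))))) (.node (.node (.node (.node (.leaf 19480576) (.leaf 121935356)) (.node (.leaf 107077632) (.leaf 0))) (.node (.node (.leaf 66936832) (.leaf 0)) (.node (.leaf 127864596) (.leaf 0)))) (.node (.node (.node (.leaf 43982848) (.leaf 98112640)) (.node (.leaf 124428288) (.leaf 0))) (.node (.node (.leaf 56395977) (.leaf 0)) (.node (.leaf 152322048) (.leaf 0)))))) (.node (.node (.node (.node (.node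 (.leaf 12951552) (.leaf 155667488)) (.node (.leaf 84537127) (.leaf 0))) (.node (.node (.leaf 61333504) (.leaf 0)) (.node (.leaf 114969204) (.leaf 0)))) (.node (.node (.node (.leaf 38019072) (.leaf 131684824)) (.node (.leaf 120160256) (.leaf 0))) (.node (.node (.leaf 82747392) (.leaf 0)) (.node (.leaf 128430101) (.leaf 0))))) (.node (.node (.node (.node (.leaf 25706496) (.leaf 163618816)) (.node (.leaf 111599616) (.leaf 0))) (.node (.node (.leaf 72187904) (.leaf 0)) (.node (.leaf 13854691) (.leaf 0)))) (.node (.node (.node (.leaf 49872896) (.leaf 167766871)) (.node (.leaf 100338785) (.leaf 0))) (.node (.node (.leaf 92684288) (.leaf 0)) (.node (.leaf 155025408) (.leaf 0))))))))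

def e0T117 : NT := .node (.node (.node (.node (.node (.node (.node (.node (.leaf 1523712) (.leaf 144975432)) (.node (.leaf 94044160) (.leaf 0))) (.node (.node (.leaf 19408143) (.leaf 0)) (.node (.leaf 129507328) (.leaf 0)))) (.node (.node (.node (.leaf 27254784) (.leaf 119820976)) (.node (.leaf 112680960) (.leaf 0))) (.node (.node (.leaf 73523200) (.leaf 0)) (.node (.leaf 35697152) (.leaf 0))))) (.node (.node (.node (.node (.leaf 14573568) (.leaf 12664832)) (.node (.leaf 6045696) (.leaf 0))) (.node (.node (.leaf 62767104) (.leaf 0)) (.node (.leaf 136888320) (.leaf 0)))) (.node (.node (.node (.leaf 24080562) (.leaf 165507371)) (.node (.leaf 121339904) (.leaf 0))) (.node (.node (.leaf 84008960) (.leaf 0)) (.node (.leaf 17830259) (.leaf 0)))))) (.node (.node (.node (.node (.node (.leaf 8126464) (.leaf 67262014)) (.node (.leaf 98754560) (.leaf 0))) (.node (.node (.leaf 56885248) (.leaf 0)) (.node (.leaf 133275648) (.leaf 0)))) (.node (.node (.node (.leaf 33497088) (.leaf 63709954)) (.node (.leaf 62797218)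 (.leaf 0))) (.node (.node (.leaf 11292456) (.leaf 0)) (.node (.leaf 62837146) (.leaf 0))))) (.node (.node (.node (.node (.leaf 8367855) (.leaf 162308096)) (.node (.leaf 108290048) (.leaf 0))) (.node (.node (.leaf 68362240) (.leaf 0)) (.node (.leaf 44717248) (.leaf 0)))) (.node (.node (.node (.leaf 45473792) (.leaf 58124113)) (.node (.leaf 125509632) (.leaf 0))) (.node (.node (.leaf 88997888) (.leaf 0)) (.node (.leaf 152985600) (.leaf 0))))))) (.node (.node (.node (.node (.node (.node (.leaf 4849664) (.leaf 113313686)) (.node (.leaf 96387072) (.leaf 0))) (.node (.node (.leaf 29861964) (.leaf 0)) (.node (.leaf 33065372) (.leaf 0)))) (.node (.node (.node (.leaf 802816) (.leaf 165011456)) (.node (.leaf 108976159) (.leaf 0))) (.node (.node (.leaf 76201984) (.leaf 0)) (.node (.leaf 51602043) (.leaf 0))))) (.node (.node (.node (.node (.leaf 17883136) (.leaf 147175813)) (.node (.leaf 105889792) (.leaf 0))) (.node (.node (.leaf 65511424) (.leaf 0)) (.node (.leaf 22960671) (.leaf 0)))) (.node (.node (.node (.leaf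 42467328) (.leaf 124577605)) (.node (.leaf 123445248) (.leaf 0))) (.node (.node (.leaf 49990726) (.leaf 0)) (.node (.leaf 111608570) (.leaf 0)))))) (.node (.node (.node (.node (.node (.leaf 11362304) (.leaf 70579559)) (.node (.leaf 54753647) (.leaf 0))) (.node (.node (.leaf 59891712) (.leaf 0)) (.node (.leaf 116885983) (.leaf 0)))) (.node (.node (.node (.leaf 36544512) (.leaf 115741232)) (.node (.leaf 106016995) (.leaf 0))) (.node (.node (.leaf 56189702) (.leaf 0)) (.node (.leaf 96578168) (.leaf 0))))) (.node (.node (.node (.node (.leaf 24174592) (.leaf 163217408)) (.node (.leaf 110551040) (.leaf 0))) (.node (.node (.leaf 70868992) (.leaf 0)) (.node (.leaf 118636969) (.leaf 0)))) (.node (.node (.node (.leaf 48447488) (.leaf 165126318)) (.node (.leaf 33896146) (.leaf 0))) (.node (.node (.leaf 91463680) (.leaf 0)) (.node (.leaf 130433852) (.leaf 0)))))))) (.node (.node (.node (.node (.node (.node (.node (.leaf 3194880) (.leaf 156319744)) (.node (.leaf 95174656) (.leaf 0))) (.node (.node (.leaf 52797440)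 (.leaf 0)) (.node (.leaf 103511675) (.leaf 0)))) (.node (.node (.node (.leaf 28819456) (.leaf 164626432)) (.node (.leaf 113811456) (.leaf 0))) (.node (.node (.leaf 32556301) (.leaf 0)) (.node (.leaf 65223249) (.leaf 0))))) (.node (.node (.node (.node (.leaf 16211968) (.leaf 58838978)) (.node (.leaf 85612933) (.leaf 0))) (.node (.node (.leaf 64143360) (.leaf 0)) (.node (.leaf 135923995) (.leaf 0)))) (.node (.node (.node (.leaf 40992768) (.leaf 91031522)) (.node (.leaf 69486014) (.leaf 0))) (.node (.node (.leaf 56825369) (.leaf 0)) (.node (.leaf 150787699) (.leaf 0)))))) (.node (.node (.node (.node (.node (.leaf 9764864) (.leaf 158588928)) (.node (.leaf 89622969) (.leaf 0))) (.node (.node (.leaf 24772714) (.leaf 0)) (.node (.leaf 123660506) (.leaf 0)))) (.node (.node (.node (.leaf 34979840) (.leaf 147022866)) (.node (.leaf 118185984) (.leaf 0))) (.node (.node (.leaf 80117760) (.leaf 0)) (.node (.leaf 118272424) (.leaf 0))))) (.node (.node (.node (.node (.leaf 22601728) (.leaf 154136267)) (.node (.leaf 109404160)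 (.leaf 0))) (.node (.node (.leaf 2179072) (.leaf 0)) (.node (.leaf 107493851) (.leaf 0)))) (.node (.node (.node (.leaf 46989312) (.leaf 36073974)) (.node (.leaf 126533632) (.leaf 0))) (.node (.node (.leaf 90308608) (.leaf 0)) (.node (.leaf 112896166) (.leaf 0))))))) (.node (.node (.node (.node (.node (.node (.leaf 6479872) (.leaf 140263931)) (.node (.leaf 97574912) (.leaf 0))) (.node (.node (.leaf 55558144) (.leaf 0)) (.node (.leaf 132374528) (.leaf 0)))) (.node (.node (.node (.leaf 31940608) (.leaf 165462016)) (.node (.leaf 73262333) (.leaf 0))) (.node (.node (.leaf 77504512) (.leaf 0)) (.node (.leaf 113985278) (.leaf 0))))) (.node (.node (.node (.node (.leaf 19496960) (.leaf 62033269)) (.node (.leaf 107085824) (.leaf 0))) (.node (.node (.leaf 66945024) (.leaf 0)) (.node (.leaf 139575296) (.leaf 0)))) (.node (.node (.node (.leaf 43999232) (.leaf 123275464)) (.node (.leaf 124436480) (.leaf 0))) (.node (.node (.leaf 64718905) (.leaf 0)) (.node (.leaf 152330240) (.leaf 0)))))) (.node (.node (.node (.node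 (.node (.leaf 12959744) (.leaf 122534669)) (.node (.leaf 102326272) (.leaf 0))) (.node (.node (.leaf 16225678) (.leaf 0)) (.node (.leaf 136003584) (.leaf 0)))) (.node (.node (.node (.leaf 38027264) (.leaf 89186390)) (.node (.leaf 73721749) (.leaf 0))) (.node (.node (.leaf 82763776) (.leaf 0)) (.node (.leaf 93685771) (.leaf 0))))) (.node (.node (.node (.node (.leaf 25722880) (.leaf 71926718)) (.node (.leaf 108206159) (.leaf 0))) (.node (.node (.leaf 72204288) (.leaf 0)) (.node (.leaf 119409634) (.leaf 0)))) (.node (.node (.node (.leaf 42837646) (.leaf 39891774)) (.node (.leaf 128581632) (.leaf 0))) (.node (.node (.leaf 23850227) (.leaf 0)) (.node (.leaf 60551220) (.leaf 0))))))))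

def e0T118 : NT := .node (.node (.node (.node (.node (.node (.node (.node (.leaf 1540096) (.leaf 148396774)) (.node (.leaf 63205882) (.leaf 0))) (.node (.node (.leaf 51347456) (.leaf 0)) (.node (.leaf 129515520) (.leaf 0)))) (.node (.node (.node (.leaf 27271168) (.leaf 164069376)) (.node (.leaf 112697344) (.leaf 0))) (.node (.node (.leaf 73539584) (.leaf 0)) (.node (.leaf 143835136) (.leaf 0))))) (.node (.node (.node (.node (.leaf 14581760) (.leaf 147235024)) (.node (.leaf 103415808) (.leaf 0))) (.node (.node (.leaf 62783488) (.leaf 0)) (.node (.leaf 127287731) (.leaf 0)))) (.node (.node (.node (.leaf 39493632) (.leaf 31480109)) (.node (.leaf 121348096) (.leaf 0))) (.node (.node (.leaf 84017152) (.leaf 0)) (.node (.leaf 150192128) (.leaf 0)))))) (.node (.node (.node (.node (.node (.leaf 8142848) (.leaf 158015488)) (.node (.leaf 98770944) (.leaf 0))) (.node (.node (.leaf 56893440) (.leaf 0)) (.node (.leaf 133292032) (.leaf 0)))) (.node (.node (.node (.leaf 33505280) (.leaf 16769024)) (.node (.leaf 117088256)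 (.leaf 0))) (.node (.node (.leaf 78782464) (.leaf 0)) (.node (.leaf 147144704) (.leaf 0))))) (.node (.node (.node (.node (.leaf 21094400) (.leaf 114877756)) (.node (.leaf 29047455) (.leaf 0))) (.node (.node (.leaf 7624489) (.leaf 0)) (.node (.leaf 140574720) (.leaf 0)))) (.node (.node (.node (.leaf 45490176) (.leaf 51546035)) (.node (.leaf 125517824) (.leaf 0))) (.node (.node (.leaf 89006080) (.leaf 0)) (.node (.leaf 106258660) (.leaf 0))))))) (.node (.node (.node (.node (.node (.node (.leaf 4866048) (.leaf 140004429)) (.node (.leaf 96403456) (.leaf 0))) (.node (.node (.leaf 54214656) (.leaf 0)) (.node (.leaf 131473408) (.leaf 0)))) (.node (.node (.node (.leaf 30367744) (.leaf 160573768)) (.node (.leaf 28543945) (.leaf 0))) (.node (.node (.leaf 76210176) (.leaf 0)) (.node (.leaf 18698440) (.leaf 0))))) (.node (.node (.node (.node (.leaf 14993446) (.leaf 102453311)) (.node (.leaf 105906176) (.leaf 0))) (.node (.node (.leaf 65527808) (.leaf 0)) (.node (.leaf 138584064) (.leaf 0)))) (.node (.node (.node (.leaf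 42475520) (.leaf 167179105)) (.node (.leaf 123453440) (.leaf 0))) (.node (.node (.leaf 86450176) (.leaf 0)) (.node (.leaf 38506284) (.leaf 0)))))) (.node (.node (.node (.node (.node (.leaf 11378688) (.leaf 118178569)) (.node (.leaf 68770795) (.leaf 0))) (.node (.node (.leaf 14835712) (.leaf 0)) (.node (.leaf 121600979) (.leaf 0)))) (.node (.node (.node (.leaf 36560896) (.leaf 150306899)) (.node (.leaf 15013043) (.leaf 0))) (.node (.node (.leaf 81412096) (.leaf 0)) (.node (.leaf 148701184) (.leaf 0))))) (.node (.node (.node (.node (.leaf 24190976) (.leaf 163225600)) (.node (.leaf 110559232) (.leaf 0))) (.node (.node (.leaf 5604682) (.leaf 0)) (.node (.leaf 129959296) (.leaf 0)))) (.node (.node (.node (.leaf 48463872) (.leaf 136446468)) (.node (.leaf 41597263) (.leaf 0))) (.node (.node (.leaf 84520536) (.leaf 0)) (.node (.leaf 154394624) (.leaf 0)))))))) (.node (.node (.node (.node (.node (.node (.node (.leaf 3203072) (.leaf 156327936)) (.node (.leaf 95191040) (.leaf 0))) (.node (.node (.leaf 52813824) (.leaf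 0)) (.node (.leaf 25387606) (.leaf 0)))) (.node (.node (.node (.leaf 753664) (.leaf 97360521)) (.node (.leaf 10153373) (.leaf 0))) (.node (.node (.leaf 63727379) (.leaf 0)) (.node (.leaf 144637952) (.leaf 0))))) (.node (.node (.node (.node (.leaf 16228352) (.leaf 132140675)) (.node (.leaf 104587264) (.leaf 0))) (.node (.node (.leaf 64159744) (.leaf 0)) (.node (.leaf 92375739) (.leaf 0)))) (.node (.node (.node (.leaf 41009152) (.leaf 70481676)) (.node (.leaf 95201437) (.leaf 0))) (.node (.node (.leaf 85229568) (.leaf 0)) (.node (.leaf 150962176) (.leaf 0)))))) (.node (.node (.node (.node (.node (.leaf 9773056) (.leaf 158597120)) (.node (.leaf 92906242) (.leaf 0))) (.node (.node (.leaf 58449920) (.leaf 0)) (.node (.leaf 134176768) (.leaf 0)))) (.node (.node (.node (.leaf 34988032) (.leaf 58685916)) (.node (.leaf 118202368) (.leaf 0))) (.node (.node (.leaf 80125952) (.leaf 0)) (.node (.leaf 142366628) (.leaf 0))))) (.node (.node (.node (.node (.leaf 581632) (.leaf 61478311)) (.node (.leaf 13560522) (.leaf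 0))) (.node (.node (.leaf 15819550) (.leaf 0)) (.node (.leaf 141402112) (.leaf 0)))) (.node (.node (.node (.leaf 1327104) (.leaf 135635070)) (.node (.leaf 126541824) (.leaf 0))) (.node (.node (.leaf 90316800) (.leaf 0)) (.node (.leaf 153731072) (.leaf 0))))))) (.node (.node (.node (.node (.node (.node (.leaf 155648) (.leaf 157573120)) (.node (.leaf 97583104) (.leaf 0))) (.node (.node (.leaf 55574528) (.leaf 0)) (.node (.leaf 25930323) (.leaf 0)))) (.node (.node (.node (.leaf 31956992) (.leaf 99162752)) (.node (.leaf 116023296) (.leaf 0))) (.node (.node (.leaf 77512704) (.leaf 0)) (.node (.leaf 146292736) (.leaf 0))))) (.node (.node (.node (.node (.leaf 19505152) (.leaf 142170767)) (.node (.leaf 107094016) (.leaf 0))) (.node (.node (.leaf 66961408) (.leaf 0)) (.node (.leaf 7299072) (.leaf 0)))) (.node (.node (.node (.leaf 44015616) (.leaf 91628998)) (.node (.leaf 124452864) (.leaf 0))) (.node (.node (.leaf 87728128) (.leaf 0)) (.node (.leaf 152338432) (.leaf 0)))))) (.node (.node (.node (.node (.node (.leaf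 12976128) (.leaf 141858374)) (.node (.leaf 102334464) (.leaf 0))) (.node (.node (.leaf 19825897) (.leaf 0)) (.node (.leaf 136019968) (.leaf 0)))) (.node (.node (.node (.leaf 7113024) (.leaf 160445047)) (.node (.leaf 120176640) (.leaf 0))) (.node (.node (.leaf 82780160) (.leaf 0)) (.node (.leaf 149438464) (.leaf 0))))) (.node (.node (.node (.node (.leaf 1894146) (.leaf 37733120)) (.node (.leaf 111616000) (.leaf 0))) (.node (.node (.leaf 72220672) (.leaf 0)) (.node (.leaf 26588773) (.leaf 0)))) (.node (.node (.node (.leaf 49889280) (.leaf 167740613)) (.node (.leaf 128589824) (.leaf 0))) (.node (.node (.leaf 92708864) (.leaf 0)) (.node (.leaf 149352004) (.leaf 0))))))))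

def e0T119 : NT := .node (.node (.node (.node (.node (.node (.node (.node (.leaf 1556480) (.leaf 155721728)) (.node (.leaf 94060544) (.leaf 0))) (.node (.node (.leaf 51363840) (.leaf 0)) (.node (.leaf 54113279) (.leaf 0)))) (.node (.node (.node (.leaf 712704) (.leaf 115324397)) (.node (.leaf 112713728) (.leaf 0))) (.node (.node (.leaf 65210543) (.leaf 0)) (.node (.leaf 143843328) (.leaf 0))))) (.node (.node (.node (.node (.leaf 14598144) (.leaf 160251904)) (.node (.leaf 103424000) (.leaf 0))) (.node (.node (.leaf 62799872) (.leaf 0)) (.node (.leaf 136271660) (.leaf 0)))) (.node (.node (.node (.leaf 39510016) (.leaf 78871181)) (.node (.leaf 121364480) (.leaf 0))) (.node (.node (.leaf 84033536) (.leaf 0)) (.node (.leaf 137184827) (.leaf 0)))))) (.node (.node (.node (.node (.node (.leaf 8159232) (.leaf 158023680)) (.node (.leaf 10263349) (.leaf 0))) (.node (.node (.leaf 56909824) (.leaf 0)) (.node (.leaf 133308416) (.leaf 0)))) (.node (.node (.node (.leaf 33521664) (.leaf 164565837)) (.node (.leaf 117096448)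 (.leaf 0))) (.node (.node (.leaf 78798848) (.leaf 0)) (.node (.leaf 130544034) (.leaf 0))))) (.node (.node (.node (.node (.leaf 21110784) (.leaf 162316288)) (.node (.leaf 47646895) (.leaf 0))) (.node (.node (.leaf 68370432) (.leaf 0)) (.node (.leaf 136872860) (.leaf 0)))) (.node (.node (.node (.leaf 45498368) (.leaf 139315879)) (.node (.leaf 28225962) (.leaf 0))) (.node (.node (.leaf 87791549) (.leaf 0)) (.node (.leaf 88010985) (.leaf 0))))))) (.node (.node (.node (.node (.node (.node (.leaf 4874240) (.leaf 15361572)) (.node (.leaf 92588760) (.leaf 0))) (.node (.node (.leaf 20033714) (.leaf 0)) (.node (.leaf 77785046) (.leaf 0)))) (.node (.node (.node (.leaf 30375936) (.leaf 141173050)) (.node (.leaf 111264421) (.leaf 0))) (.node (.node (.leaf 76226560) (.leaf 0)) (.node (.leaf 145408000) (.leaf 0))))) (.node (.node (.node (.node (.leaf 8176788) (.leaf 81095494)) (.node (.leaf 72436650) (.leaf 0))) (.node (.node (.leaf 65536000) (.leaf 0)) (.node (.leaf 138592256) (.leaf 0)))) (.node (.node (.node (.leaf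 42491904) (.leaf 152266653)) (.node (.leaf 123461632) (.leaf 0))) (.node (.node (.leaf 69350166) (.leaf 0)) (.node (.leaf 151683072) (.leaf 0)))))) (.node (.node (.node (.node (.node (.leaf 11386880) (.leaf 146993861)) (.node (.leaf 84861026) (.leaf 0))) (.node (.node (.leaf 59908096) (.leaf 0)) (.node (.leaf 135110656) (.leaf 0)))) (.node (.node (.node (.leaf 36569088) (.leaf 90501624)) (.node (.leaf 66535631) (.leaf 0))) (.node (.node (.leaf 81420288) (.leaf 0)) (.node (.leaf 148709376) (.leaf 0))))) (.node (.node (.node (.node (.leaf 24199168) (.leaf 163233792)) (.node (.leaf 65065461) (.leaf 0))) (.node (.node (.leaf 70885376) (.leaf 0)) (.node (.leaf 124633307) (.leaf 0)))) (.node (.node (.node (.leaf 48480256) (.leaf 112298349)) (.node (.leaf 127565824) (.leaf 0))) (.node (.node (.leaf 91480064) (.leaf 0)) (.node (.leaf 124119887) (.leaf 0)))))))) (.node (.node (.node (.node (.node (.node (.node (.leaf 3219456) (.leaf 156336128)) (.node (.leaf 95207424) (.leaf 0))) (.node (.node (.leaf 52830208)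 (.leaf 0)) (.node (.leaf 20376324) (.leaf 0)))) (.node (.node (.node (.leaf 28835840) (.leaf 164634624)) (.node (.leaf 113819648) (.leaf 0))) (.node (.node (.leaf 74874880) (.leaf 0)) (.node (.leaf 49822603) (.leaf 0))))) (.node (.node (.node (.node (.leaf 16244736) (.leaf 29192025)) (.node (.leaf 104603648) (.leaf 0))) (.node (.node (.leaf 9706227) (.leaf 0)) (.node (.leaf 137748480) (.leaf 0)))) (.node (.node (.node (.leaf 41017344) (.leaf 87713024)) (.node (.leaf 122380288) (.leaf 0))) (.node (.node (.leaf 85245952) (.leaf 0)) (.node (.leaf 150834698) (.leaf 0)))))) (.node (.node (.node (.node (.node (.leaf 9789440) (.leaf 95010933)) (.node (.leaf 8549115) (.leaf 0))) (.node (.node (.leaf 55926888) (.leaf 0)) (.node (.leaf 32321446) (.leaf 0)))) (.node (.node (.node (.leaf 34996224) (.leaf 142914479)) (.node (.leaf 118218752) (.leaf 0))) (.node (.node (.leaf 80134144) (.leaf 0)) (.node (.leaf 147857408) (.leaf 0))))) (.node (.node (.node (.node (.leaf 22618112) (.leaf 162783232)) (.node (.leaf 109412352)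 (.leaf 0))) (.node (.node (.leaf 69574656) (.leaf 0)) (.node (.leaf 39390859) (.leaf 0)))) (.node (.node (.node (.leaf 47005696) (.leaf 29149894)) (.node (.leaf 103494719) (.leaf 0))) (.node (.node (.leaf 90333184) (.leaf 0)) (.node (.leaf 20324861) (.leaf 0))))))) (.node (.node (.node (.node (.node (.node (.leaf 6496256) (.leaf 89143279)) (.node (.leaf 97599488) (.leaf 0))) (.node (.node (.leaf 55590912) (.leaf 0)) (.node (.leaf 95669301) (.leaf 0)))) (.node (.node (.node (.leaf 31973376) (.leaf 136555106)) (.node (.leaf 46680823) (.leaf 0))) (.node (.node (.leaf 56698714) (.leaf 0)) (.node (.leaf 112252754) (.leaf 0))))) (.node (.node (.node (.node (.leaf 19513344) (.leaf 94913346)) (.node (.leaf 107102208) (.leaf 0))) (.node (.node (.leaf 66969600) (.leaf 0)) (.node (.leaf 139599872) (.leaf 0)))) (.node (.node (.node (.leaf 24793844) (.leaf 104295239)) (.node (.leaf 105461525) (.leaf 0))) (.node (.node (.leaf 87736320) (.leaf 0)) (.node (.leaf 63186193) (.leaf 0)))))) (.node (.node (.node (.node (.node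 (.leaf 12984320) (.leaf 28279720)) (.node (.leaf 102350848) (.leaf 0))) (.node (.node (.leaf 61349888) (.leaf 0)) (.node (.leaf 135348224) (.leaf 0)))) (.node (.node (.node (.leaf 38051840) (.leaf 160697104)) (.node (.leaf 120193024) (.leaf 0))) (.node (.node (.leaf 82788352) (.leaf 0)) (.node (.leaf 131221207) (.leaf 0))))) (.node (.node (.node (.node (.leaf 25739264) (.leaf 53860064)) (.node (.leaf 26813701) (.leaf 0))) (.node (.node (.leaf 72237056) (.leaf 0)) (.node (.leaf 69599967) (.leaf 0)))) (.node (.node (.node (.leaf 49897472) (.leaf 167353443)) (.node (.leaf 62137454) (.leaf 0))) (.node (.node (.leaf 92717056) (.leaf 0)) (.node (.leaf 155033600) (.leaf 0))))))))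

def e0T120 : NT := .node (.node (.node (.node (.node (.node (.node (.node (.leaf 1572864) (.leaf 77409169)) (.node (.leaf 94076928) (.leaf 0))) (.node (.node (.leaf 51372032) (.leaf 0)) (.node (.leaf 96305346) (.leaf 0)))) (.node (.node (.node (.leaf 26854046) (.leaf 38333135)) (.node (.leaf 51920896) (.leaf 0))) (.node (.node (.leaf 73555968) (.leaf 0)) (.node (.leaf 75747120) (.leaf 0))))) (.node (.node (.node (.node (.leaf 14614528) (.leaf 160260096)) (.node (.leaf 103440384) (.leaf 0))) (.node (.node (.leaf 62808064) (.leaf 0)) (.node (.leaf 128886930) (.leaf 0)))) (.node (.node (.node (.leaf 39526400) (.leaf 19349504)) (.node (.leaf 121372672) (.leaf 0))) (.node (.node (.leaf 14796646) (.leaf 0)) (.node (.leaf 150200320) (.leaf 0)))))) (.node (.node (.node (.node (.node (.leaf 8167424) (.leaf 100282159)) (.node (.leaf 98787328) (.leaf 0))) (.node (.node (.leaf 56926208) (.leaf 0)) (.node (.leaf 133316608) (.leaf 0)))) (.node (.node (.node (.leaf 33529856) (.leaf 129630520)) (.node (.leaf 117112832)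 (.leaf 0))) (.node (.node (.leaf 78807040) (.leaf 0)) (.node (.leaf 117206012) (.leaf 0))))) (.node (.node (.node (.node (.leaf 21118976) (.leaf 162324480)) (.node (.leaf 108322816) (.leaf 0))) (.node (.node (.leaf 68386816) (.leaf 0)) (.node (.leaf 140582912) (.leaf 0)))) (.node (.node (.node (.leaf 45514752) (.leaf 91405234)) (.node (.leaf 97919520) (.leaf 0))) (.node (.node (.leaf 89022464) (.leaf 0)) (.node (.leaf 152993792) (.leaf 0))))))) (.node (.node (.node (.node (.node (.node (.leaf 4890624) (.leaf 156934144)) (.node (.leaf 96419840) (.leaf 0))) (.node (.node (.leaf 54231040) (.leaf 0)) (.node (.leaf 110606114) (.leaf 0)))) (.node (.node (.node (.leaf 30392320) (.leaf 98297139)) (.node (.leaf 69372260) (.leaf 0))) (.node (.node (.leaf 76242944) (.leaf 0)) (.node (.leaf 145424384) (.leaf 0))))) (.node (.node (.node (.node (.leaf 450560) (.leaf 67790285)) (.node (.leaf 105922560) (.leaf 0))) (.node (.node (.leaf 65552384) (.leaf 0)) (.node (.leaf 138608640) (.leaf 0)))) (.node (.node (.node (.leaf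 42500096) (.leaf 167501824)) (.node (.leaf 123469824) (.leaf 0))) (.node (.node (.leaf 37106562) (.leaf 0)) (.node (.leaf 112882395) (.leaf 0)))))) (.node (.node (.node (.node (.node (.leaf 11403264) (.leaf 69797238)) (.node (.leaf 101212160) (.leaf 0))) (.node (.node (.leaf 59924480) (.leaf 0)) (.node (.leaf 123529237) (.leaf 0)))) (.node (.node (.node (.leaf 36585472) (.leaf 30558979)) (.node (.leaf 119242752) (.leaf 0))) (.node (.node (.leaf 81428480) (.leaf 0)) (.node (.leaf 148717568) (.leaf 0))))) (.node (.node (.node (.node (.leaf 24215552) (.leaf 162768792)) (.node (.leaf 101028284) (.leaf 0))) (.node (.node (.leaf 70893568) (.leaf 0)) (.node (.leaf 77147538) (.leaf 0)))) (.node (.node (.node (.leaf 6591528) (.leaf 151019685)) (.node (.leaf 14606336) (.leaf 0))) (.node (.node (.leaf 91496448) (.leaf 0)) (.node (.leaf 154411008) (.leaf 0)))))))) (.node (.node (.node (.node (.node (.node (.node (.leaf 3235840) (.leaf 85571757)) (.node (.leaf 3745996) (.leaf 0))) (.node (.node (.leaf 52846592) (.leaf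 0)) (.node (.leaf 130424832) (.leaf 0)))) (.node (.node (.node (.leaf 28844032) (.leaf 164651008)) (.node (.leaf 113836032) (.leaf 0))) (.node (.node (.leaf 74883072) (.leaf 0)) (.node (.leaf 144654336) (.leaf 0))))) (.node (.node (.node (.node (.leaf 409600) (.leaf 160841728)) (.node (.leaf 104611840) (.leaf 0))) (.node (.node (.leaf 64176128) (.leaf 0)) (.node (.leaf 137756672) (.leaf 0)))) (.node (.node (.node (.leaf 41033728) (.leaf 167305216)) (.node (.leaf 53424189) (.leaf 0))) (.node (.node (.leaf 85254144) (.leaf 0)) (.node (.leaf 138576997) (.leaf 0)))))) (.node (.node (.node (.node (.node (.leaf 9797632) (.leaf 158578793)) (.node (.leaf 99966976) (.leaf 0))) (.node (.node (.leaf 58466304) (.leaf 0)) (.node (.leaf 131103638) (.leaf 0)))) (.node (.node (.node (.leaf 35012608) (.leaf 43244028)) (.node (.leaf 118226944) (.leaf 0))) (.node (.node (.leaf 80150528) (.leaf 0)) (.node (.leaf 57371991) (.leaf 0))))) (.node (.node (.node (.node (.leaf 22626304) (.leaf 159249614)) (.node (.leaf 109428736)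 (.leaf 0))) (.node (.node (.leaf 24909487) (.leaf 0)) (.node (.leaf 141418496) (.leaf 0)))) (.node (.node (.node (.leaf 47013888) (.leaf 98074857)) (.node (.leaf 69640511) (.leaf 0))) (.node (.node (.leaf 90349568) (.leaf 0)) (.node (.leaf 133499691) (.leaf 0))))))) (.node (.node (.node (.node (.node (.node (.leaf 6504448) (.leaf 134748018)) (.node (.leaf 58401399) (.leaf 0))) (.node (.node (.leaf 55599104) (.leaf 0)) (.node (.leaf 132390912) (.leaf 0)))) (.node (.node (.node (.leaf 31981568) (.leaf 85453538)) (.node (.leaf 116031488) (.leaf 0))) (.node (.node (.leaf 15308612) (.leaf 0)) (.node (.leaf 146309120) (.leaf 0))))) (.node (.node (.node (.node (.leaf 19529728) (.leaf 55118050)) (.node (.leaf 107110400) (.leaf 0))) (.node (.node (.leaf 66985984) (.leaf 0)) (.node (.leaf 99924468) (.leaf 0)))) (.node (.node (.node (.leaf 23667716) (.leaf 167690240)) (.node (.leaf 124469248) (.leaf 0))) (.node (.node (.leaf 87752704) (.leaf 0)) (.node (.leaf 94962102) (.leaf 0)))))) (.node (.node (.node (.node (.node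 (.leaf 13000704) (.leaf 124711451)) (.node (.leaf 102359040) (.leaf 0))) (.node (.node (.leaf 61366272) (.leaf 0)) (.node (.leaf 136028160) (.leaf 0)))) (.node (.node (.node (.leaf 38060032) (.leaf 166879232)) (.node (.leaf 120201216) (.leaf 0))) (.node (.node (.leaf 82804736) (.leaf 0)) (.node (.leaf 135485290) (.leaf 0))))) (.node (.node (.node (.node (.leaf 5813684) (.leaf 109544852)) (.node (.leaf 111632384) (.leaf 0))) (.node (.node (.leaf 72245248) (.leaf 0)) (.node (.leaf 140538795) (.leaf 0)))) (.node (.node (.node (.leaf 49913856) (.leaf 125595150)) (.node (.leaf 82095763) (.leaf 0))) (.node (.node (.leaf 92725248) (.leaf 0)) (.node (.leaf 102389200) (.leaf 0))))))))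

def e0T121 : NT := .node (.node (.node (.node (.node (.node (.node (.node (.leaf 1581056) (.leaf 155729920)) (.node (.leaf 94093312) (.leaf 0))) (.node (.node (.leaf 51388416) (.leaf 0)) (.node (.leaf 76235757) (.leaf 0)))) (.node (.node (.node (.leaf 27287552) (.leaf 164085760)) (.node (.leaf 112721920) (.leaf 0))) (.node (.node (.leaf 73564160) (.leaf 0)) (.node (.leaf 143859712) (.leaf 0))))) (.node (.node (.node (.node (.leaf 14622720) (.leaf 160268288)) (.node (.leaf 103456768) (.leaf 0))) (.node (.node (.leaf 1908736) (.leaf 0)) (.node (.leaf 127818596) (.leaf 0)))) (.node (.node (.node (.leaf 39534592) (.leaf 165537958)) (.node (.leaf 5275648) (.leaf 0))) (.node (.node (.leaf 84049920) (.leaf 0)) (.node (.leaf 64370578) (.leaf 0)))))) (.node (.node (.node (.node (.node (.leaf 8183808) (.leaf 158040064)) (.node (.leaf 97706831) (.leaf 0))) (.node (.node (.leaf 56934400) (.leaf 0)) (.node (.leaf 133324800) (.leaf 0)))) (.node (.node (.node (.leaf 33546240) (.leaf 164049186)) (.node (.leaf 117129216)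 (.leaf 0))) (.node (.node (.leaf 78823424) (.leaf 0)) (.node (.leaf 129676012) (.leaf 0))))) (.node (.node (.node (.node (.leaf 21127168) (.leaf 81175809)) (.node (.leaf 108331008) (.leaf 0))) (.node (.node (.leaf 68395008) (.leaf 0)) (.node (.leaf 140591104) (.leaf 0)))) (.node (.node (.node (.leaf 45522944) (.leaf 111316372)) (.node (.leaf 125534208) (.leaf 0))) (.node (.node (.leaf 89030656) (.leaf 0)) (.node (.leaf 87505699) (.leaf 0))))))) (.node (.node (.node (.node (.node (.node (.leaf 4898816) (.leaf 90182465)) (.node (.leaf 96436224) (.leaf 0))) (.node (.node (.leaf 54239232) (.leaf 0)) (.node (.leaf 131353106) (.leaf 0)))) (.node (.node (.node (.leaf 30408704) (.leaf 41217652)) (.node (.leaf 114933760) (.leaf 0))) (.node (.node (.leaf 76259328) (.leaf 0)) (.node (.leaf 145432576) (.leaf 0))))) (.node (.node (.node (.node (.leaf 17915904) (.leaf 161259520)) (.node (.leaf 105930752) (.leaf 0))) (.node (.node (.leaf 65560576) (.leaf 0)) (.node (.leaf 26673152) (.leaf 0)))) (.node (.node (.node (.leaf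 42516480) (.leaf 81030749)) (.node (.leaf 102799419) (.leaf 0))) (.node (.node (.leaf 59108304) (.leaf 0)) (.node (.leaf 151691264) (.leaf 0)))))) (.node (.node (.node (.node (.node (.leaf 11419648) (.leaf 128047884)) (.node (.leaf 101228544) (.leaf 0))) (.node (.node (.leaf 59932672) (.leaf 0)) (.node (.leaf 135127040) (.leaf 0)))) (.node (.node (.node (.leaf 36601856) (.leaf 131557201)) (.node (.leaf 118013952) (.leaf 0))) (.node (.node (.leaf 81444864) (.leaf 0)) (.node (.leaf 46173176) (.leaf 0))))) (.node (.node (.node (.node (.leaf 24231936) (.leaf 163250176)) (.node (.leaf 110575616) (.leaf 0))) (.node (.node (.leaf 2252800) (.leaf 0)) (.node (.leaf 52597982) (.leaf 0)))) (.node (.node (.node (.leaf 29315211) (.leaf 126568763)) (.node (.leaf 127582208) (.leaf 0))) (.node (.node (.leaf 91504640) (.leaf 0)) (.node (.leaf 150030361) (.leaf 0)))))))) (.node (.node (.node (.node (.node (.node (.node (.leaf 3244032) (.leaf 45010258)) (.node (.leaf 95215616) (.leaf 0))) (.node (.node (.leaf 52862976) (.leaf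 0)) (.node (.leaf 117063700) (.leaf 0)))) (.node (.node (.node (.leaf 28860416) (.leaf 86115712)) (.node (.leaf 113844224) (.leaf 0))) (.node (.node (.leaf 74899456) (.leaf 0)) (.node (.leaf 66496174) (.leaf 0))))) (.node (.node (.node (.node (.leaf 16261120) (.leaf 160849920)) (.node (.leaf 104620032) (.leaf 0))) (.node (.node (.leaf 64192512) (.leaf 0)) (.node (.leaf 137773056) (.leaf 0)))) (.node (.node (.node (.leaf 41050112) (.leaf 158951728)) (.node (.leaf 122404864) (.leaf 0))) (.node (.node (.leaf 31846364) (.leaf 0)) (.node (.leaf 150970368) (.leaf 0)))))) (.node (.node (.node (.node (.node (.leaf 9814016) (.leaf 158605312)) (.node (.leaf 99975168) (.leaf 0))) (.node (.node (.leaf 38292080) (.leaf 0)) (.node (.leaf 6610944) (.leaf 0)))) (.node (.node (.node (.leaf 35020800) (.leaf 31632362)) (.node (.leaf 118235136) (.leaf 0))) (.node (.node (.leaf 80158720) (.leaf 0)) (.node (.leaf 50295658) (.leaf 0))))) (.node (.node (.node (.node (.leaf 22642688) (.leaf 162791424)) (.node (.leaf 86044353)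 (.leaf 0))) (.node (.node (.leaf 69591040) (.leaf 0)) (.node (.leaf 92608105) (.leaf 0)))) (.node (.node (.node (.leaf 47030272) (.leaf 36171985)) (.node (.leaf 85698224) (.leaf 0))) (.node (.node (.leaf 90357760) (.leaf 0)) (.node (.leaf 153739264) (.leaf 0))))))) (.node (.node (.node (.node (.node (.node (.leaf 6520832) (.leaf 112813949)) (.node (.leaf 97607680) (.leaf 0))) (.node (.node (.leaf 6247817) (.leaf 0)) (.node (.leaf 120747408) (.leaf 0)))) (.node (.node (.node (.leaf 31989760) (.leaf 66896065)) (.node (.leaf 116047872) (.leaf 0))) (.node (.node (.leaf 61392112) (.leaf 0)) (.node (.leaf 146325504) (.leaf 0))))) (.node (.node (.node (.node (.leaf 19537920) (.leaf 45884882)) (.node (.leaf 107118592) (.leaf 0))) (.node (.node (.leaf 66994176) (.leaf 0)) (.node (.leaf 135687807) (.leaf 0)))) (.node (.node (.node (.leaf 44040192) (.leaf 163019169)) (.node (.leaf 124477440) (.leaf 0))) (.node (.node (.leaf 87760896) (.leaf 0)) (.node (.leaf 152346624) (.leaf 0)))))) (.node (.node (.node (.node (.node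 (.leaf 13008896) (.leaf 159670272)) (.node (.leaf 102375424) (.leaf 0))) (.node (.node (.leaf 61374464) (.leaf 0)) (.node (.leaf 135279635) (.leaf 0)))) (.node (.node (.node (.leaf 38076416) (.leaf 163092076)) (.node (.leaf 118787899) (.leaf 0))) (.node (.node (.leaf 82812928) (.leaf 0)) (.node (.leaf 26429957) (.leaf 0))))) (.node (.node (.node (.node (.leaf 671744) (.leaf 53394252)) (.node (.leaf 73091923) (.leaf 0))) (.node (.node (.leaf 72261632) (.leaf 0)) (.node (.leaf 85314038) (.leaf 0)))) (.node (.node (.node (.leaf 49922048) (.leaf 101287792)) (.node (.leaf 128598016) (.leaf 0))) (.node (.node (.leaf 43901559) (.leaf 0)) (.node (.leaf 86949024) (.leaf 0))))))))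

def e0T122 : NT := .node (.node (.node (.node (.node (.node (.node (.node (.leaf 1597440) (.leaf 136708362)) (.node (.leaf 4692911) (.leaf 0))) (.node (.node (.leaf 51404800) (.leaf 0)) (.node (.leaf 22079681) (.leaf 0)))) (.node (.node (.node (.leaf 27303936) (.leaf 162903458)) (.node (.leaf 112730112) (.leaf 0))) (.node (.node (.leaf 73580544) (.leaf 0)) (.node (.leaf 92759142) (.leaf 0))))) (.node (.node (.node (.node (.leaf 14639104) (.leaf 36361559)) (.node (.leaf 103473152) (.leaf 0))) (.node (.node (.leaf 62816256) (.leaf 0)) (.node (.leaf 136921088) (.leaf 0)))) (.node (.node (.node (.leaf 39550976) (.leaf 167124992)) (.node (.leaf 121389056) (.leaf 0))) (.node (.node (.leaf 84066304) (.leaf 0)) (.node (.leaf 150216704) (.leaf 0)))))) (.node (.node (.node (.node (.node (.leaf 8200192) (.leaf 126788132)) (.node (.leaf 98795520) (.leaf 0))) (.node (.node (.leaf 56950784) (.leaf 0)) (.node (.leaf 133332992) (.leaf 0)))) (.node (.node (.node (.leaf 27369472) (.leaf 164864419)) (.node (.leaf 35132499)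 (.leaf 0))) (.node (.node (.leaf 78839808) (.leaf 0)) (.node (.leaf 124257315) (.leaf 0))))) (.node (.node (.node (.node (.leaf 21135360) (.leaf 95591264)) (.node (.leaf 108347392) (.leaf 0))) (.node (.node (.leaf 68411392) (.leaf 0)) (.node (.leaf 136202126) (.leaf 0)))) (.node (.node (.node (.leaf 45531136) (.leaf 27552616)) (.node (.leaf 125550592) (.leaf 0))) (.node (.node (.leaf 85800332) (.leaf 0)) (.node (.leaf 141124639) (.leaf 0))))))) (.node (.node (.node (.node (.node (.node (.leaf 4915200) (.leaf 156950528)) (.node (.leaf 96444416) (.leaf 0))) (.node (.node (.leaf 54255616) (.leaf 0)) (.node (.leaf 31305143) (.leaf 0)))) (.node (.node (.node (.leaf 30416896) (.leaf 165027840)) (.node (.leaf 80790099) (.leaf 0))) (.node (.node (.leaf 76267520) (.leaf 0)) (.node (.leaf 73958829) (.leaf 0))))) (.node (.node (.node (.node (.leaf 17924096) (.leaf 161267712)) (.node (.leaf 105947136) (.leaf 0))) (.node (.node (.leaf 65568768) (.leaf 0)) (.node (.leaf 138625024) (.leaf 0)))) (.node (.node (.node (.leaf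 42532864) (.leaf 145700787)) (.node (.leaf 123478016) (.leaf 0))) (.node (.node (.leaf 86458368) (.leaf 0)) (.node (.leaf 53348143) (.leaf 0)))))) (.node (.node (.node (.node (.node (.leaf 11427840) (.leaf 20054957)) (.node (.leaf 101236736) (.leaf 0))) (.node (.node (.leaf 59949056) (.leaf 0)) (.node (.leaf 26958948) (.leaf 0)))) (.node (.node (.node (.leaf 36610048) (.leaf 166535168)) (.node (.leaf 119267328) (.leaf 0))) (.node (.node (.leaf 81453056) (.leaf 0)) (.node (.leaf 145984759) (.leaf 0))))) (.node (.node (.node (.node (.leaf 24240128) (.leaf 61620716)) (.node (.leaf 79254305) (.leaf 0))) (.node (.node (.leaf 47141364) (.leaf 0)) (.node (.leaf 142286848) (.leaf 0)))) (.node (.node (.node (.leaf 48496640) (.leaf 102477230)) (.node (.leaf 117719839) (.leaf 0))) (.node (.node (.leaf 90038272) (.leaf 0)) (.node (.leaf 142301336) (.leaf 0)))))))) (.node (.node (.node (.node (.node (.node (.node (.leaf 3260416) (.leaf 156360704)) (.node (.leaf 95223808) (.leaf 0))) (.node (.node (.leaf 52871168) (.leaf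 0)) (.node (.leaf 15948183) (.leaf 0)))) (.node (.node (.node (.leaf 28868608) (.leaf 154393693)) (.node (.leaf 54442457) (.leaf 0))) (.node (.node (.leaf 74907648) (.leaf 0)) (.node (.leaf 90026057) (.leaf 0))))) (.node (.node (.node (.node (.leaf 16269312) (.leaf 140010982)) (.node (.leaf 104628224) (.leaf 0))) (.node (.node (.leaf 64208896) (.leaf 0)) (.node (.leaf 40960924) (.leaf 0)))) (.node (.node (.node (.leaf 41058304) (.leaf 158976009)) (.node (.leaf 98628383) (.leaf 0))) (.node (.node (.leaf 43780179) (.leaf 0)) (.node (.leaf 150978560) (.leaf 0)))))) (.node (.node (.node (.node (.node (.leaf 9822208) (.leaf 158613504)) (.node (.leaf 99991552) (.leaf 0))) (.node (.node (.leaf 58490880) (.leaf 0)) (.node (.leaf 101835157) (.leaf 0)))) (.node (.node (.node (.leaf 35037184) (.leaf 130291986)) (.node (.leaf 39546665) (.leaf 0))) (.node (.node (.leaf 80166912) (.leaf 0)) (.node (.leaf 147294937) (.leaf 0))))) (.node (.node (.node (.node (.leaf 22659072) (.leaf 159355561)) (.node (.leaf 109436928)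 (.leaf 0))) (.node (.node (.leaf 69607424) (.leaf 0)) (.node (.leaf 68791377) (.leaf 0)))) (.node (.node (.node (.leaf 47046656) (.leaf 167936000)) (.node (.leaf 126558208) (.leaf 0))) (.node (.node (.leaf 90365952) (.leaf 0)) (.node (.leaf 16878739) (.leaf 0))))))) (.node (.node (.node (.node (.node (.node (.leaf 2626843) (.leaf 140751555)) (.node (.leaf 26484988) (.leaf 0))) (.node (.node (.leaf 55615488) (.leaf 0)) (.node (.leaf 132407296) (.leaf 0)))) (.node (.node (.node (.leaf 31997952) (.leaf 157498280)) (.node (.leaf 116056064) (.leaf 0))) (.node (.node (.leaf 77545472) (.leaf 0)) (.node (.leaf 146333696) (.leaf 0))))) (.node (.node (.node (.node (.leaf 19554304) (.leaf 158800842)) (.node (.leaf 4218880) (.leaf 0))) (.node (.node (.leaf 67002368) (.leaf 0)) (.node (.leaf 138277436) (.leaf 0)))) (.node (.node (.node (.leaf 27916093) (.leaf 102879958)) (.node (.leaf 124485632) (.leaf 0))) (.node (.node (.leaf 87777280) (.leaf 0)) (.node (.leaf 152363008) (.leaf 0)))))) (.node (.node (.node (.node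 (.node (.leaf 13025280) (.leaf 109692007)) (.node (.leaf 79739474) (.leaf 0))) (.node (.node (.leaf 61382656) (.leaf 0)) (.node (.leaf 136044544) (.leaf 0)))) (.node (.node (.node (.leaf 38092800) (.leaf 164317333)) (.node (.leaf 45135568) (.leaf 0))) (.node (.node (.leaf 82821120) (.leaf 0)) (.node (.leaf 8986624) (.leaf 0))))) (.node (.node (.node (.node (.leaf 25763840) (.leaf 141264271)) (.node (.leaf 53016488) (.leaf 0))) (.node (.node (.leaf 71291969) (.leaf 0)) (.node (.leaf 122875778) (.leaf 0)))) (.node (.node (.node (.leaf 49938432) (.leaf 168081712)) (.node (.leaf 114398109) (.leaf 0))) (.node (.node (.leaf 92741632) (.leaf 0)) (.node (.leaf 155058176) (.leaf 0))))))))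

def e0T123 : NT := .node (.node (.node (.node (.node (.node (.node (.node (.leaf 1605632) (.leaf 125532335)) (.node (.leaf 94101504) (.leaf 0))) (.node (.node (.leaf 44055337) (.leaf 0)) (.node (.leaf 129540096) (.leaf 0)))) (.node (.node (.node (.leaf 27312128) (.leaf 114234835)) (.node (.leaf 76498985) (.leaf 0))) (.node (.node (.leaf 73588736) (.leaf 0)) (.node (.leaf 120911133) (.leaf 0))))) (.node (.node (.node (.node (.leaf 14655488) (.leaf 160276480)) (.node (.leaf 87207014) (.leaf 0))) (.node (.node (.leaf 62824448) (.leaf 0)) (.node (.leaf 110282946) (.leaf 0)))) (.node (.node (.node (.leaf 39567360) (.leaf 167133184)) (.node (.leaf 121397248) (.leaf 0))) (.node (.node (.leaf 84074496) (.leaf 0)) (.node (.leaf 150224896) (.leaf 0)))))) (.node (.node (.node (.node (.node (.leaf 196608) (.leaf 150580227)) (.node (.leaf 10305807) (.leaf 0))) (.node (.node (.leaf 56967168) (.leaf 0)) (.node (.leaf 30117251) (.leaf 0)))) (.node (.node (.node (.leaf 33562624) (.leaf 165830656)) (.node (.leaf 109078063)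 (.leaf 0))) (.node (.node (.leaf 78848000) (.leaf 0)) (.node (.leaf 65443607) (.leaf 0))))) (.node (.node (.node (.node (.leaf 21151744) (.leaf 140506831)) (.node (.leaf 88249203) (.leaf 0))) (.node (.node (.leaf 68419584) (.leaf 0)) (.node (.leaf 140607488) (.leaf 0)))) (.node (.node (.node (.leaf 45539328) (.leaf 144908660)) (.node (.leaf 125566976) (.leaf 0))) (.node (.node (.leaf 89055232) (.leaf 0)) (.node (.leaf 94434808) (.leaf 0))))))) (.node (.node (.node (.node (.node (.node (.leaf 4931584) (.leaf 99060623)) (.node (.leaf 56145083) (.leaf 0))) (.node (.node (.leaf 54263808) (.leaf 0)) (.node (.leaf 41924412) (.leaf 0)))) (.node (.node (.node (.leaf 30433280) (.leaf 150611567)) (.node (.leaf 114950144) (.leaf 0))) (.node (.node (.leaf 76283904) (.leaf 0)) (.node (.leaf 145440768) (.leaf 0))))) (.node (.node (.node (.node (.leaf 17940480) (.leaf 161284096)) (.node (.leaf 105963520) (.leaf 0))) (.node (.node (.leaf 65585152) (.leaf 0)) (.node (.leaf 138633216) (.leaf 0)))) (.node (.node (.node (.leaf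 15848322) (.leaf 119636910)) (.node (.leaf 123494400) (.leaf 0))) (.node (.node (.leaf 86474752) (.leaf 0)) (.node (.leaf 151699456) (.leaf 0)))))) (.node (.node (.node (.node (.node (.leaf 11444224) (.leaf 75684829)) (.node (.leaf 101244928) (.leaf 0))) (.node (.node (.leaf 59957248) (.leaf 0)) (.node (.leaf 26271798) (.leaf 0)))) (.node (.node (.node (.leaf 36626432) (.leaf 109288544)) (.node (.leaf 119275520) (.leaf 0))) (.node (.node (.leaf 81461248) (.leaf 0)) (.node (.leaf 148725760) (.leaf 0))))) (.node (.node (.node (.node (.leaf 24256512) (.leaf 163258368)) (.node (.leaf 92707243) (.leaf 0))) (.node (.node (.leaf 70918144) (.leaf 0)) (.node (.leaf 130799319) (.leaf 0)))) (.node (.node (.node (.leaf 48513024) (.leaf 156137905)) (.node (.leaf 127590400) (.leaf 0))) (.node (.node (.leaf 42337389) (.leaf 0)) (.node (.leaf 40545259) (.leaf 0)))))))) (.node (.node (.node (.node (.node (.node (.node (.leaf 3276800) (.leaf 156368896)) (.node (.leaf 59919401) (.leaf 0))) (.node (.node (.leaf 52887552)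 (.leaf 0)) (.node (.leaf 80333134) (.leaf 0)))) (.node (.node (.node (.leaf 28876800) (.leaf 119785693)) (.node (.leaf 84393097) (.leaf 0))) (.node (.node (.leaf 74924032) (.leaf 0)) (.node (.leaf 144678912) (.leaf 0))))) (.node (.node (.node (.node (.leaf 16285696) (.leaf 70284390)) (.node (.leaf 87799942) (.leaf 0))) (.node (.node (.leaf 46417720) (.leaf 0)) (.node (.leaf 137789440) (.leaf 0)))) (.node (.node (.node (.leaf 41074688) (.leaf 167313408)) (.node (.leaf 115952460) (.leaf 0))) (.node (.node (.leaf 85262336) (.leaf 0)) (.node (.leaf 150986752) (.leaf 0)))))) (.node (.node (.node (.node (.node (.leaf 9830400) (.leaf 41302481)) (.node (.leaf 100007936) (.leaf 0))) (.node (.node (.leaf 58507264) (.leaf 0)) (.node (.leaf 69760036) (.leaf 0)))) (.node (.node (.node (.leaf 35053568) (.leaf 116477266)) (.node (.leaf 118251520) (.leaf 0))) (.node (.node (.leaf 80183296) (.leaf 0)) (.node (.leaf 147873792) (.leaf 0))))) (.node (.node (.node (.node (.leaf 22667264) (.leaf 37065887)) (.node (.leaf 50783766)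 (.leaf 0))) (.node (.node (.leaf 69615616) (.leaf 0)) (.node (.leaf 141434880) (.leaf 0)))) (.node (.node (.node (.leaf 47054848) (.leaf 161924314)) (.node (.leaf 126574592) (.leaf 0))) (.node (.node (.leaf 64234932) (.leaf 0)) (.node (.leaf 46404513) (.leaf 0))))))) (.node (.node (.node (.node (.node (.node (.leaf 6537216) (.leaf 157589504)) (.node (.leaf 33311082) (.leaf 0))) (.node (.node (.leaf 55631872) (.leaf 0)) (.node (.leaf 58907126) (.leaf 0)))) (.node (.node (.node (.leaf 17352650) (.leaf 21572423)) (.node (.leaf 116064256) (.leaf 0))) (.node (.node (.leaf 77553664) (.leaf 0)) (.node (.leaf 100983107) (.leaf 0))))) (.node (.node (.node (.node (.leaf 19570688) (.leaf 161824768)) (.node (.leaf 107134976) (.leaf 0))) (.node (.node (.leaf 67010560) (.leaf 0)) (.node (.leaf 139632640) (.leaf 0)))) (.node (.node (.node (.leaf 5146799) (.leaf 161526842)) (.node (.leaf 83982045) (.leaf 0))) (.node (.node (.leaf 33272037) (.leaf 0)) (.node (.leaf 127298313) (.leaf 0)))))) (.node (.node (.node (.node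 (.node (.leaf 13033472) (.leaf 159686656)) (.node (.leaf 102391808) (.leaf 0))) (.node (.node (.leaf 49107715) (.leaf 0)) (.node (.leaf 136052736) (.leaf 0)))) (.node (.node (.node (.leaf 38100992) (.leaf 158768113)) (.node (.leaf 120217600) (.leaf 0))) (.node (.node (.leaf 48722278) (.leaf 0)) (.node (.leaf 149454848) (.leaf 0))))) (.node (.node (.node (.node (.leaf 25772032) (.leaf 162043067)) (.node (.leaf 111648768) (.leaf 0))) (.node (.node (.leaf 21360757) (.leaf 0)) (.node (.leaf 27976872) (.leaf 0)))) (.node (.node (.node (.leaf 49954816) (.leaf 167824775)) (.node (.leaf 128622592) (.leaf 0))) (.node (.node (.leaf 92749824) (.leaf 0)) (.node (.leaf 82074413) (.leaf 0))))))))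

def e0T124 : NT := .node (.node (.node (.node (.node (.node (.node (.node (.leaf 1622016) (.leaf 70503263)) (.node (.leaf 37293078) (.leaf 0))) (.node (.node (.leaf 51412992) (.leaf 0)) (.node (.leaf 118307349) (.leaf 0)))) (.node (.node (.node (.leaf 27320320) (.leaf 164093952)) (.node (.leaf 112738304) (.leaf 0))) (.node (.node (.leaf 73596928) (.leaf 0)) (.node (.leaf 142184421) (.leaf 0))))) (.node (.node (.node (.node (.leaf 14663680) (.leaf 127872554)) (.node (.leaf 103481344) (.leaf 0))) (.node (.node (.leaf 62840832) (.leaf 0)) (.node (.leaf 136937472) (.leaf 0)))) (.node (.node (.node (.leaf 1089536) (.leaf 110777002)) (.node (.leaf 121413632) (.leaf 0))) (.node (.node (.leaf 76845414) (.leaf 0)) (.node (.leaf 132450641) (.leaf 0)))))) (.node (.node (.node (.node (.node (.leaf 8216576) (.leaf 158048256)) (.node (.leaf 98820096) (.leaf 0))) (.node (.node (.leaf 56975360) (.leaf 0)) (.node (.leaf 133341184) (.leaf 0)))) (.node (.node (.node (.leaf 33579008) (.leaf 154181687)) (.node (.leaf 117153792)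 (.leaf 0))) (.node (.node (.leaf 78856192) (.leaf 0)) (.node (.leaf 132217062) (.leaf 0))))) (.node (.node (.node (.node (.leaf 21159936) (.leaf 162340864)) (.node (.leaf 108363776) (.leaf 0))) (.node (.node (.leaf 68435968) (.leaf 0)) (.node (.leaf 7454720) (.leaf 0)))) (.node (.node (.node (.leaf 45555712) (.leaf 139726610)) (.node (.leaf 69715483) (.leaf 0))) (.node (.node (.leaf 89063424) (.leaf 0)) (.node (.leaf 41765423) (.leaf 0))))))) (.node (.node (.node (.node (.node (.node (.leaf 4939776) (.leaf 27157673)) (.node (.leaf 96460800) (.leaf 0))) (.node (.node (.leaf 54280192) (.leaf 0)) (.node (.leaf 131497984) (.leaf 0)))) (.node (.node (.node (.leaf 30441472) (.leaf 165036032)) (.node (.leaf 114958336) (.leaf 0))) (.node (.node (.leaf 76300288) (.leaf 0)) (.node (.leaf 145457152) (.leaf 0))))) (.node (.node (.node (.node (.leaf 17956864) (.leaf 153217610)) (.node (.leaf 39322579) (.leaf 0))) (.node (.node (.leaf 65593344) (.leaf 0)) (.node (.leaf 138641408) (.leaf 0)))) (.node (.node (.node (.leaf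 42549248) (.leaf 82388328)) (.node (.leaf 123502592) (.leaf 0))) (.node (.node (.leaf 86491136) (.leaf 0)) (.node (.leaf 134000199) (.leaf 0)))))) (.node (.node (.node (.node (.node (.leaf 11452416) (.leaf 54009876)) (.node (.leaf 52785356) (.leaf 0))) (.node (.node (.leaf 59973632) (.leaf 0)) (.node (.leaf 135135232) (.leaf 0)))) (.node (.node (.node (.leaf 5942080) (.leaf 141209578)) (.node (.leaf 119283712) (.leaf 0))) (.node (.node (.leaf 81469440) (.leaf 0)) (.node (.leaf 148742144) (.leaf 0))))) (.node (.node (.node (.node (.leaf 24264704) (.leaf 93452055)) (.node (.leaf 107291251) (.leaf 0))) (.node (.node (.leaf 70934528) (.leaf 0)) (.node (.leaf 68385607) (.leaf 0)))) (.node (.node (.node (.leaf 1384448) (.leaf 162801079)) (.node (.leaf 127606784) (.leaf 0))) (.node (.node (.leaf 91529216) (.leaf 0)) (.node (.leaf 69562787) (.leaf 0)))))))) (.node (.node (.node (.node (.node (.node (.node (.leaf 3284992) (.leaf 144218401)) (.node (.leaf 95248384) (.leaf 0))) (.node (.node (.leaf 52903936) (.leaf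 0)) (.node (.leaf 108013949) (.leaf 0)))) (.node (.node (.node (.leaf 28884992) (.leaf 72358817)) (.node (.leaf 44227650) (.leaf 0))) (.node (.node (.leaf 70697563) (.leaf 0)) (.node (.leaf 29983596) (.leaf 0))))) (.node (.node (.node (.node (.leaf 16302080) (.leaf 152705961)) (.node (.leaf 104652800) (.leaf 0))) (.node (.node (.leaf 64217088) (.leaf 0)) (.node (.leaf 133389154) (.leaf 0)))) (.node (.node (.node (.leaf 41082880) (.leaf 48849640)) (.node (.leaf 122421248) (.leaf 0))) (.node (.node (.leaf 34088776) (.leaf 0)) (.node (.leaf 150994944) (.leaf 0)))))) (.node (.node (.node (.node (.node (.leaf 9846784) (.leaf 45189726)) (.node (.leaf 100016128) (.leaf 0))) (.node (.node (.leaf 58523648) (.leaf 0)) (.node (.leaf 49145836) (.leaf 0)))) (.node (.node (.node (.leaf 950272) (.leaf 112140288)) (.node (.leaf 108360360) (.leaf 0))) (.node (.node (.leaf 80191488) (.leaf 0)) (.node (.leaf 147881984) (.leaf 0))))) (.node (.node (.node (.node (.leaf 22683648) (.leaf 145232209)) (.node (.leaf 109453312)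 (.leaf 0))) (.node (.node (.leaf 69632000) (.leaf 0)) (.node (.leaf 141443072) (.leaf 0)))) (.node (.node (.node (.leaf 47071232) (.leaf 158451924)) (.node (.leaf 126582784) (.leaf 0))) (.node (.node (.leaf 90382336) (.leaf 0)) (.node (.leaf 146026604) (.leaf 0))))))) (.node (.node (.node (.node (.node (.node (.leaf 6553600) (.leaf 157597696)) (.node (.leaf 97615872) (.leaf 0))) (.node (.node (.leaf 55648256) (.leaf 0)) (.node (.leaf 112693847) (.leaf 0)))) (.node (.node (.node (.leaf 32014336) (.leaf 146930124)) (.node (.leaf 116072448) (.leaf 0))) (.node (.node (.leaf 77561856) (.leaf 0)) (.node (.leaf 146341888) (.leaf 0))))) (.node (.node (.node (.node (.leaf 18989368) (.leaf 161832960)) (.node (.leaf 88233092) (.leaf 0))) (.node (.node (.leaf 67018752) (.leaf 0)) (.node (.leaf 78572085) (.leaf 0)))) (.node (.node (.node (.leaf 44064768) (.leaf 76431737)) (.node (.leaf 124502016) (.leaf 0))) (.node (.node (.leaf 81307061) (.leaf 0)) (.node (.leaf 49415866) (.leaf 0)))))) (.node (.node (.node (.node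 (.node (.leaf 1967394) (.leaf 158919218)) (.node (.leaf 45067310) (.leaf 0))) (.node (.node (.leaf 61399040) (.leaf 0)) (.node (.leaf 136060928) (.leaf 0)))) (.node (.node (.node (.leaf 38109184) (.leaf 93647580)) (.node (.leaf 120225792) (.leaf 0))) (.node (.node (.leaf 82837504) (.leaf 0)) (.node (.leaf 67400758) (.leaf 0))))) (.node (.node (.node (.node (.leaf 25788416) (.leaf 153320504)) (.node (.leaf 44953433) (.leaf 0))) (.node (.node (.leaf 72278016) (.leaf 0)) (.node (.leaf 76876938) (.leaf 0)))) (.node (.node (.node (.leaf 49963008) (.leaf 150633465)) (.node (.leaf 39217046) (.leaf 0))) (.node (.node (.leaf 92766208) (.leaf 0)) (.node (.leaf 44366898) (.leaf 0))))))))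

def e0T125 : NT := .node (.node (.node (.node (.node (.node (.node (.node (.leaf 1638400) (.leaf 144442885)) (.node (.leaf 94109696) (.leaf 0))) (.node (.node (.leaf 51421184) (.leaf 0)) (.node (.leaf 112645587) (.leaf 0)))) (.node (.node (.node (.leaf 27336704) (.leaf 74665740)) (.node (.leaf 58503670) (.leaf 0))) (.node (.node (.leaf 73613312) (.leaf 0)) (.node (.leaf 143867904) (.leaf 0))))) (.node (.node (.node (.node (.leaf 14680064) (.leaf 138997078)) (.node (.leaf 29278467) (.leaf 0))) (.node (.node (.leaf 62857216) (.leaf 0)) (.node (.leaf 136953856) (.leaf 0)))) (.node (.node (.node (.leaf 39583744) (.leaf 89893856)) (.node (.leaf 121421824) (.leaf 0))) (.node (.node (.leaf 54664064) (.leaf 0)) (.node (.leaf 86157690) (.leaf 0)))))) (.node (.node (.node (.node (.node (.leaf 8224768) (.leaf 88308335)) (.node (.leaf 98828288) (.leaf 0))) (.node (.node (.leaf 56991744) (.leaf 0)) (.node (.leaf 84027998) (.leaf 0)))) (.node (.node (.node (.leaf 33587200) (.leaf 146900475)) (.node (.leaf 90449507)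 (.leaf 0))) (.node (.node (.leaf 78872576) (.leaf 0)) (.node (.leaf 147177472) (.leaf 0))))) (.node (.node (.node (.node (.leaf 21176320) (.leaf 144085256)) (.node (.leaf 108380160) (.leaf 0))) (.node (.node (.leaf 68452352) (.leaf 0)) (.node (.leaf 140623872) (.leaf 0)))) (.node (.node (.node (.leaf 45572096) (.leaf 167854080)) (.node (.leaf 56009512) (.leaf 0))) (.node (.node (.leaf 89079808) (.leaf 0)) (.node (.leaf 153018368) (.leaf 0))))))) (.node (.node (.node (.node (.node (.node (.leaf 3401903) (.leaf 156966912)) (.node (.leaf 18726018) (.leaf 0))) (.node (.node (.leaf 54296576) (.leaf 0)) (.node (.leaf 47407259) (.leaf 0)))) (.node (.node (.node (.leaf 30457856) (.leaf 158837854)) (.node (.leaf 114974720) (.leaf 0))) (.node (.node (.leaf 2490368) (.leaf 0)) (.node (.leaf 145465344) (.leaf 0))))) (.node (.node (.node (.node (.leaf 17965056) (.leaf 12902400)) (.node (.leaf 95789549) (.leaf 0))) (.node (.node (.leaf 55674677) (.leaf 0)) (.node (.leaf 138649600) (.leaf 0)))) (.node (.node (.node (.leaf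 42557440) (.leaf 158225839)) (.node (.leaf 123510784) (.leaf 0))) (.node (.node (.leaf 86499328) (.leaf 0)) (.node (.leaf 71577882) (.leaf 0)))))) (.node (.node (.node (.node (.node (.leaf 11468800) (.leaf 56609089)) (.node (.leaf 101253120) (.leaf 0))) (.node (.node (.leaf 59990016) (.leaf 0)) (.node (.leaf 135143424) (.leaf 0)))) (.node (.node (.node (.leaf 36642816) (.leaf 51679924)) (.node (.leaf 119291904) (.leaf 0))) (.node (.node (.leaf 81477632) (.leaf 0)) (.node (.leaf 148750336) (.leaf 0))))) (.node (.node (.node (.node (.leaf 24281088) (.leaf 161003063)) (.node (.leaf 110592000) (.leaf 0))) (.node (.node (.leaf 70950912) (.leaf 0)) (.node (.leaf 65721552) (.leaf 0)))) (.node (.node (.node (.leaf 48529408) (.leaf 105278721)) (.node (.leaf 120155483) (.leaf 0))) (.node (.node (.leaf 91545600) (.leaf 0)) (.node (.leaf 154435584) (.leaf 0)))))))) (.node (.node (.node (.node (.node (.node (.node (.leaf 3301376) (.leaf 156377088)) (.node (.leaf 40248973) (.leaf 0))) (.node (.node (.leaf 5528330) (.leaf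 0)) (.node (.leaf 104539514) (.leaf 0)))) (.node (.node (.node (.leaf 28893184) (.leaf 78657269)) (.node (.leaf 113876992) (.leaf 0))) (.node (.node (.leaf 74940416) (.leaf 0)) (.node (.leaf 143093290) (.leaf 0))))) (.node (.node (.node (.node (.leaf 16318464) (.leaf 111168161)) (.node (.leaf 104669184) (.leaf 0))) (.node (.node (.leaf 64225280) (.leaf 0)) (.node (.leaf 137805824) (.leaf 0)))) (.node (.node (.node (.leaf 41099264) (.leaf 133133674)) (.node (.leaf 122429440) (.leaf 0))) (.node (.node (.leaf 85278720) (.leaf 0)) (.node (.leaf 151003136) (.leaf 0)))))) (.node (.node (.node (.node (.node (.leaf 9854976) (.leaf 158621696)) (.node (.leaf 100032512) (.leaf 0))) (.node (.node (.leaf 58531840) (.leaf 0)) (.node (.leaf 134201344) (.leaf 0)))) (.node (.node (.node (.leaf 29968873) (.leaf 90148924)) (.node (.leaf 118259712) (.leaf 0))) (.node (.node (.leaf 80199680) (.leaf 0)) (.node (.leaf 110494157) (.leaf 0))))) (.node (.node (.node (.node (.leaf 22691840) (.leaf 129833294)) (.node (.leaf 109461504)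 (.leaf 0))) (.node (.node (.leaf 69648384) (.leaf 0)) (.node (.leaf 141451264) (.leaf 0)))) (.node (.node (.node (.leaf 47079424) (.leaf 143329169)) (.node (.leaf 126599168) (.leaf 0))) (.node (.node (.leaf 68890823) (.leaf 0)) (.node (.leaf 39119588) (.leaf 0))))))) (.node (.node (.node (.node (.node (.node (.leaf 6561792) (.leaf 108064217)) (.node (.leaf 97624064) (.leaf 0))) (.node (.node (.leaf 22139631) (.leaf 0)) (.node (.leaf 132415488) (.leaf 0)))) (.node (.node (.node (.leaf 32022528) (.leaf 57583717)) (.node (.leaf 113213985) (.leaf 0))) (.node (.node (.leaf 77578240) (.leaf 0)) (.node (.leaf 146350080) (.leaf 0))))) (.node (.node (.node (.node (.leaf 19587072) (.leaf 102731213)) (.node (.leaf 12880044) (.leaf 0))) (.node (.node (.leaf 67026944) (.leaf 0)) (.node (.leaf 111770693) (.leaf 0)))) (.node (.node (.node (.leaf 9416745) (.leaf 22421504)) (.node (.leaf 124518400) (.leaf 0))) (.node (.node (.leaf 68907216) (.leaf 0)) (.node (.leaf 36292305) (.leaf 0)))))) (.node (.node (.node (.node (.node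 (.leaf 13058048) (.leaf 158200484)) (.node (.leaf 102408192) (.leaf 0))) (.node (.node (.leaf 61415424) (.leaf 0)) (.node (.leaf 95241111) (.leaf 0)))) (.node (.node (.node (.leaf 38125568) (.leaf 163464320)) (.node (.leaf 120233984) (.leaf 0))) (.node (.node (.leaf 62598429) (.leaf 0)) (.node (.leaf 9173572) (.leaf 0))))) (.node (.node (.node (.node (.leaf 14094873) (.leaf 159459315)) (.node (.leaf 111656960) (.leaf 0))) (.node (.node (.leaf 72294400) (.leaf 0)) (.node (.leaf 119521369) (.leaf 0)))) (.node (.node (.node (.leaf 49979392) (.leaf 118324043)) (.node (.leaf 128630784) (.leaf 0))) (.node (.node (.leaf 92774400) (.leaf 0)) (.node (.leaf 124678346) (.leaf 0))))))))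

def e0T126 : NT := .node (.node (.node (.node (.node (.node (.node (.node (.leaf 1646592) (.leaf 45625260)) (.node (.leaf 59336999) (.leaf 0))) (.node (.node (.leaf 51437568) (.leaf 0)) (.node (.leaf 31826738) (.leaf 0)))) (.node (.node (.node (.leaf 27344896) (.leaf 162585168)) (.node (.leaf 112746496) (.leaf 0))) (.node (.node (.leaf 73621504) (.leaf 0)) (.node (.leaf 143876096) (.leaf 0))))) (.node (.node (.node (.node (.leaf 14688256) (.leaf 28173501)) (.node (.leaf 63860838) (.leaf 0))) (.node (.node (.leaf 62865408) (.leaf 0)) (.node (.leaf 136962048) (.leaf 0)))) (.node (.node (.node (.leaf 39591936) (.leaf 158561669)) (.node (.leaf 121430016) (.leaf 0))) (.node (.node (.leaf 2867200) (.leaf 0)) (.node (.leaf 150241280) (.leaf 0)))))) (.node (.node (.node (.node (.node (.leaf 8241152) (.leaf 138405372)) (.node (.leaf 98844672) (.leaf 0))) (.node (.node (.leaf 56999936) (.leaf 0)) (.node (.leaf 133349376) (.leaf 0)))) (.node (.node (.node (.leaf 33603584) (.leaf 82771968)) (.node (.leaf 117170176)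 (.leaf 0))) (.node (.node (.leaf 4960790) (.leaf 0)) (.node (.leaf 72397463) (.leaf 0))))) (.node (.node (.node (.node (.leaf 21192704) (.leaf 119117835)) (.node (.leaf 108396544) (.leaf 0))) (.node (.node (.leaf 68460544) (.leaf 0)) (.node (.leaf 140640256) (.leaf 0)))) (.node (.node (.node (.leaf 45580288) (.leaf 160909297)) (.node (.leaf 125583360) (.leaf 0))) (.node (.node (.leaf 89088000) (.leaf 0)) (.node (.leaf 153034752) (.leaf 0))))))) (.node (.node (.node (.node (.node (.node (.leaf 4964352) (.leaf 156983296)) (.node (.leaf 35109149) (.leaf 0))) (.node (.node (.leaf 1589248) (.leaf 0)) (.node (.leaf 129491238) (.leaf 0)))) (.node (.node (.node (.leaf 30474240) (.leaf 124890786)) (.node (.leaf 16652393) (.leaf 0))) (.node (.node (.leaf 14202556) (.leaf 0)) (.node (.leaf 24992160) (.leaf 0))))) (.node (.node (.node (.node (.leaf 17981440) (.leaf 61115566)) (.node (.leaf 53029794) (.leaf 0))) (.node (.node (.leaf 65609728) (.leaf 0)) (.node (.leaf 138657792) (.leaf 0)))) (.node (.node (.node (.leaf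 25754791) (.leaf 93251260)) (.node (.leaf 63464741) (.leaf 0))) (.node (.node (.leaf 86515712) (.leaf 0)) (.node (.leaf 143306039) (.leaf 0)))))) (.node (.node (.node (.node (.node (.leaf 11485184) (.leaf 127725960)) (.node (.leaf 101269504) (.leaf 0))) (.node (.node (.leaf 59998208) (.leaf 0)) (.node (.leaf 135159808) (.leaf 0)))) (.node (.node (.node (.leaf 36659200) (.leaf 17973248)) (.node (.leaf 119308288) (.leaf 0))) (.node (.node (.leaf 24248370) (.leaf 0)) (.node (.leaf 49762561) (.leaf 0))))) (.node (.node (.node (.node (.leaf 24289280) (.leaf 143248594)) (.node (.leaf 108756992) (.leaf 0))) (.node (.node (.leaf 8051859) (.leaf 0)) (.node (.leaf 38900484) (.leaf 0)))) (.node (.node (.node (.leaf 48537600) (.leaf 157740830)) (.node (.leaf 74340135) (.leaf 0))) (.node (.node (.leaf 91553792) (.leaf 0)) (.node (.leaf 154443776) (.leaf 0)))))))) (.node (.node (.node (.node (.node (.node (.node (.leaf 3309568) (.leaf 156385280)) (.node (.leaf 95256576) (.leaf 0))) (.node (.node (.leaf 52920320) (.leaf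 0)) (.node (.leaf 128062566) (.leaf 0)))) (.node (.node (.node (.leaf 28909568) (.leaf 164683776)) (.node (.leaf 55242952) (.leaf 0))) (.node (.node (.leaf 74948608) (.leaf 0)) (.node (.leaf 144703488) (.leaf 0))))) (.node (.node (.node (.node (.leaf 16326656) (.leaf 142304575)) (.node (.leaf 104677376) (.leaf 0))) (.node (.node (.leaf 64241664) (.leaf 0)) (.node (.leaf 137822208) (.leaf 0)))) (.node (.node (.node (.leaf 41115648) (.leaf 40739128)) (.node (.leaf 122437632) (.leaf 0))) (.node (.node (.leaf 64725311) (.leaf 0)) (.node (.leaf 151011328) (.leaf 0)))))) (.node (.node (.node (.node (.node (.leaf 9863168) (.leaf 158629888)) (.node (.leaf 100040704) (.leaf 0))) (.node (.node (.leaf 58548224) (.leaf 0)) (.node (.leaf 120304909) (.leaf 0)))) (.node (.node (.node (.leaf 35069952) (.leaf 112092865)) (.node (.leaf 73717547) (.leaf 0))) (.node (.node (.leaf 80207872) (.leaf 0)) (.node (.leaf 99740639) (.leaf 0))))) (.node (.node (.node (.node (.leaf 22708224) (.leaf 130187306)) (.node (.leaf 109477888)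 (.leaf 0))) (.node (.node (.leaf 69664768) (.leaf 0)) (.node (.leaf 141459456) (.leaf 0)))) (.node (.node (.node (.leaf 47095808) (.leaf 167587521)) (.node (.leaf 126607360) (.leaf 0))) (.node (.node (.leaf 90398720) (.leaf 0)) (.node (.leaf 153763840) (.leaf 0))))))) (.node (.node (.node (.node (.node (.node (.leaf 6578176) (.leaf 39039334)) (.node (.leaf 97632256) (.leaf 0))) (.node (.node (.leaf 55664640) (.leaf 0)) (.node (.leaf 99649121) (.leaf 0)))) (.node (.node (.node (.leaf 32038912) (.leaf 56047813)) (.node (.leaf 116088832) (.leaf 0))) (.node (.node (.leaf 77594624) (.leaf 0)) (.node (.leaf 146366464) (.leaf 0))))) (.node (.node (.node (.node (.leaf 19595264) (.leaf 96942456)) (.node (.leaf 107159552) (.leaf 0))) (.node (.node (.leaf 67043328) (.leaf 0)) (.node (.leaf 139640832) (.leaf 0)))) (.node (.node (.node (.leaf 44081152) (.leaf 138602656)) (.node (.leaf 116937462) (.leaf 0))) (.node (.node (.leaf 87810048) (.leaf 0)) (.node (.leaf 152379392) (.leaf 0)))))) (.node (.node (.node (.node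 (.node (.leaf 13066240) (.leaf 156067447)) (.node (.leaf 102416384) (.leaf 0))) (.node (.node (.leaf 61423616) (.leaf 0)) (.node (.leaf 136077312) (.leaf 0)))) (.node (.node (.node (.leaf 38141952) (.leaf 62219331)) (.node (.leaf 67269933) (.leaf 0))) (.node (.node (.leaf 81054337) (.leaf 0)) (.node (.leaf 142855457) (.leaf 0))))) (.node (.node (.node (.node (.leaf 25804800) (.leaf 78711607)) (.node (.leaf 111665152) (.leaf 0))) (.node (.node (.leaf 72302592) (.leaf 0)) (.node (.leaf 91726164) (.leaf 0)))) (.node (.node (.node (.leaf 49995776) (.leaf 150319135)) (.node (.leaf 128638976) (.leaf 0))) (.node (.node (.leaf 92790784) (.leaf 0)) (.node (.leaf 70969324) (.leaf 0))))))))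

def e0T127 : NT := .node (.node (.node (.node (.node (.node (.node (.node (.leaf 1662976) (.leaf 98066682)) (.node (.leaf 94134272) (.leaf 0))) (.node (.node (.leaf 26218421) (.leaf 0)) (.node (.leaf 129564672) (.leaf 0)))) (.node (.node (.node (.leaf 27361280) (.leaf 164102144)) (.node (.leaf 112762880) (.leaf 0))) (.node (.node (.leaf 73637888) (.leaf 0)) (.node (.leaf 143884288) (.leaf 0))))) (.node (.node (.node (.node (.leaf 14704640) (.leaf 142116137)) (.node (.leaf 49911338) (.leaf 0))) (.node (.node (.leaf 62881792) (.leaf 0)) (.node (.leaf 33024164) (.leaf 0)))) (.node (.node (.node (.leaf 39608320) (.leaf 114707911)) (.node (.leaf 121446400) (.leaf 0))) (.node (.node (.leaf 84099072) (.leaf 0)) (.node (.leaf 150249472) (.leaf 0)))))) (.node (.node (.node (.node (.node (.leaf 8249344) (.leaf 138422504)) (.node (.leaf 98852864) (.leaf 0))) (.node (.node (.leaf 57016320) (.leaf 0)) (.node (.leaf 133365760) (.leaf 0)))) (.node (.node (.node (.leaf 33611776) (.leaf 145265399)) (.node (.leaf 105944004)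 (.leaf 0))) (.node (.node (.leaf 60904584) (.leaf 0)) (.node (.leaf 35394737) (.leaf 0))))) (.node (.node (.node (.node (.leaf 21200896) (.leaf 13492224)) (.node (.leaf 108412928) (.leaf 0))) (.node (.node (.leaf 68468736) (.leaf 0)) (.node (.leaf 140656640) (.leaf 0)))) (.node (.node (.node (.leaf 42128491) (.leaf 167862272)) (.node (.leaf 125599744) (.leaf 0))) (.node (.node (.leaf 89096192) (.leaf 0)) (.node (.leaf 86531181) (.leaf 0))))))) (.node (.node (.node (.node (.node (.node (.leaf 4972544) (.leaf 156991488)) (.node (.leaf 96477184) (.leaf 0))) (.node (.node (.leaf 54312960) (.leaf 0)) (.node (.leaf 131514368) (.leaf 0)))) (.node (.node (.node (.leaf 30482432) (.leaf 85583665)) (.node (.leaf 88867798) (.leaf 0))) (.node (.node (.leaf 76308480) (.leaf 0)) (.node (.leaf 145481728) (.leaf 0))))) (.node (.node (.node (.node (.leaf 17989632) (.leaf 131632710)) (.node (.leaf 105971712) (.leaf 0))) (.node (.node (.leaf 65626112) (.leaf 0)) (.node (.leaf 138665984) (.leaf 0)))) (.node (.node (.node (.leaf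 42582016) (.leaf 128198021)) (.node (.leaf 123535360) (.leaf 0))) (.node (.node (.leaf 86532096) (.leaf 0)) (.node (.leaf 64103926) (.leaf 0)))))) (.node (.node (.node (.node (.node (.leaf 11493376) (.leaf 43636207)) (.node (.leaf 101277696) (.leaf 0))) (.node (.node (.leaf 60014592) (.leaf 0)) (.node (.leaf 63591321) (.leaf 0)))) (.node (.node (.node (.leaf 36667392) (.leaf 58618176)) (.node (.leaf 119316480) (.leaf 0))) (.node (.node (.leaf 81494016) (.leaf 0)) (.node (.leaf 148766720) (.leaf 0))))) (.node (.node (.node (.node (.leaf 24305664) (.leaf 70828069)) (.node (.leaf 110616576) (.leaf 0))) (.node (.node (.leaf 70959104) (.leaf 0)) (.node (.leaf 142311424) (.leaf 0)))) (.node (.node (.node (.leaf 48553984) (.leaf 100388939)) (.node (.leaf 127623168) (.leaf 0))) (.node (.node (.leaf 51798114) (.leaf 0)) (.node (.leaf 35927032) (.leaf 0)))))))) (.node (.node (.node (.node (.node (.node (.node (.leaf 3325952) (.leaf 108131367)) (.node (.leaf 95272960) (.leaf 0))) (.node (.node (.leaf 52928512) (.leaf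 0)) (.node (.leaf 130441216) (.leaf 0)))) (.node (.node (.node (.leaf 28925952) (.leaf 164691968)) (.node (.leaf 113893376) (.leaf 0))) (.node (.node (.leaf 74964992) (.leaf 0)) (.node (.leaf 136581626) (.leaf 0))))) (.node (.node (.node (.node (.leaf 16343040) (.leaf 47434370)) (.node (.leaf 81372985) (.leaf 0))) (.node (.node (.leaf 64249856) (.leaf 0)) (.node (.leaf 137830400) (.leaf 0)))) (.node (.node (.node (.leaf 41123840) (.leaf 166504489)) (.node (.leaf 5357568) (.leaf 0))) (.node (.node (.leaf 85295104) (.leaf 0)) (.node (.leaf 150042904) (.leaf 0)))))) (.node (.node (.node (.node (.node (.leaf 9879552) (.leaf 158638080)) (.node (.leaf 100048896) (.leaf 0))) (.node (.node (.leaf 58564608) (.leaf 0)) (.node (.leaf 134209536) (.leaf 0)))) (.node (.node (.node (.leaf 17790773) (.leaf 57943556)) (.node (.leaf 118276096) (.leaf 0))) (.node (.node (.leaf 80216064) (.leaf 0)) (.node (.leaf 42578586) (.leaf 0))))) (.node (.node (.node (.node (.leaf 4580595) (.leaf 158193540)) (.node (.leaf 109486080)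 (.leaf 0))) (.node (.node (.leaf 26002449) (.leaf 0)) (.node (.leaf 125885404) (.leaf 0)))) (.node (.node (.node (.leaf 47112192) (.leaf 103095188)) (.node (.leaf 126623744) (.leaf 0))) (.node (.node (.leaf 79588439) (.leaf 0)) (.node (.leaf 153772032) (.leaf 0))))))) (.node (.node (.node (.node (.node (.node (.leaf 6594560) (.leaf 18736899)) (.node (.leaf 83310382) (.leaf 0))) (.node (.node (.leaf 4147063) (.leaf 0)) (.node (.leaf 130517667) (.leaf 0)))) (.node (.node (.node (.leaf 32047104) (.leaf 60999001)) (.node (.leaf 116097024) (.leaf 0))) (.node (.node (.leaf 77602816) (.leaf 0)) (.node (.leaf 40512000) (.leaf 0))))) (.node (.node (.node (.node (.leaf 19603456) (.leaf 161849344)) (.node (.leaf 107175936) (.leaf 0))) (.node (.node (.leaf 67051520) (.leaf 0)) (.node (.leaf 139649024) (.leaf 0)))) (.node (.node (.node (.leaf 31028800) (.leaf 159084556)) (.node (.leaf 124534784) (.leaf 0))) (.node (.node (.leaf 85377024) (.leaf 0)) (.node (.leaf 138300067) (.leaf 0)))))) (.node (.node (.node (.node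 (.node (.leaf 13082624) (.leaf 17723056)) (.node (.leaf 102424576) (.leaf 0))) (.node (.node (.leaf 10134864) (.leaf 0)) (.node (.leaf 70880295) (.leaf 0)))) (.node (.node (.node (.leaf 38158336) (.leaf 159952477)) (.node (.leaf 5193728) (.leaf 0))) (.node (.node (.leaf 82862080) (.leaf 0)) (.node (.leaf 149471232) (.leaf 0))))) (.node (.node (.node (.node (.leaf 25812992) (.leaf 124724216)) (.node (.leaf 111681536) (.leaf 0))) (.node (.node (.leaf 72310784) (.leaf 0)) (.node (.leaf 7806976) (.leaf 0)))) (.node (.node (.node (.leaf 50003968) (.leaf 166685311)) (.node (.leaf 128655360) (.leaf 0))) (.node (.node (.leaf 92807168) (.leaf 0)) (.node (.leaf 92189965) (.leaf 0))))))))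

def e0T : NT := .node (.node (.node (.node (.node (.node (.node (e0T0) (e0T64)) (.node (e0T32) (e0T96))) (.node (.node (e0T16) (e0T80)) (.node (e0T48) (e0T112)))) (.node (.node (.node (e0T8) (e0T72)) (.node (e0T40) (e0T104))) (.node (.node (e0T24) (e0T88)) (.node (e0T56) (e0T120))))) (.node (.node (.node (.node (e0T4) (e0T68)) (.node (e0T36) (e0T100))) (.node (.node (e0T20) (e0T84)) (.node (e0T52) (e0T116)))) (.node (.node (.node (e0T12) (e0T76)) (.node (e0T44) (e0T108))) (.node (.node (e0T28) (e0T92)) (.node (e0T60) (e0T124)))))) (.node (.node (.node (.node (.node (e0T2) (e0T66)) (.node (e0T34) (e0T98))) (.node (.node (e0T18) (e0T82)) (.node (e0T50) (e0T114)))) (.node (.node (.node (e0T10) (e0T74)) (.node (e0T42) (e0T106))) (.node (.node (e0T26) (e0T90)) (.node (e0T58) (e0T122))))) (.node (.node (.node (.node (e0T6) (e0T70)) (.node (e0T38) (e0T102))) (.node (.node (e0T22) (e0T86)) (.node (e0T54) (e0T118)))) (.node (.node (.node (e0T14) (e0T78)) (.node (e0T46) (e0T110))) (.node (.node (e0T30) (e0T94))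 (.node (e0T62) (e0T126))))))) (.node (.node (.node (.node (.node (.node (e0T1) (e0T65)) (.node (e0T33) (e0T97))) (.node (.node (e0T17) (e0T81)) (.node (e0T49) (e0T113)))) (.node (.node (.node (e0T9) (e0T73)) (.node (e0T41) (e0T105))) (.node (.node (e0T25) (e0T89)) (.node (e0T57) (e0T121))))) (.node (.node (.node (.node (e0T5) (e0T69)) (.node (e0T37) (e0T101))) (.node (.node (e0T21) (e0T85)) (.node (e0T53) (e0T117)))) (.node (.node (.node (e0T13) (e0T77)) (.node (e0T45) (e0T109))) (.node (.node (e0T29) (e0T93)) (.node (e0T61) (e0T125)))))) (.node (.node (.node (.node (.node (e0T3) (e0T67)) (.node (e0T35) (e0T99))) (.node (.node (e0T19) (e0T83)) (.node (e0T51) (e0T115)))) (.node (.node (.node (e0T11) (e0T75)) (.node (e0T43) (e0T107))) (.node (.node (e0T27) (e0T91)) (.node (e0T59) (e0T123))))) (.node (.node (.node (.node (e0T7) (e0T71)) (.node (e0T39) (e0T103))) (.node (.node (e0T23) (e0T87)) (.node (e0T55) (e0T119)))) (.node (.node (.node (e0T15) (e0T79)) (.node (e0T47) (e0T111))) (.node (.node (e0T31) (e0T95))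 (.node (e0T63) (e0T127)))))))

def e1T0 : NT := .node (.node (.node (.node (.node (.node (.node (.node (.leaf 4274) (.leaf 155082752)) (.node (.leaf 92823552) (.leaf 0))) (.node (.node (.leaf 21970944) (.leaf 166481272)) (.node (.leaf 84632785) (.leaf 0)))) (.node (.node (.node (.leaf 25829376) (.leaf 136140538)) (.node (.leaf 111697920) (.leaf 0))) (.node (.node (.leaf 33792000) (.leaf 0)) (.node (.leaf 89399296) (.leaf 0))))) (.node (.node (.node (.node (.leaf 5324800) (.leaf 116736000)) (.node (.leaf 102449152) (.leaf 0))) (.node (.node (.leaf 27836416) (.leaf 0)) (.node (.leaf 81362944) (.leaf 0)))) (.node (.node (.node (.leaf 38174720) (.leaf 141934592)) (.node (.leaf 66666496) (.leaf 0))) (.node (.node (.leaf 82878464) (.leaf 0)) (.node (.leaf 148594813) (.leaf 0)))))) (.node (.node (.node (.node (.node (.leaf 6610944) (.leaf 128085376)) (.node (.leaf 49537024) (.leaf 0))) (.node (.node (.leaf 24846336) (.leaf 0)) (.node (.leaf 132431872) (.leaf 0)))) (.node (.node (.node (.leaf 13459456) (.leaf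 134406144)) (.node (.leaf 63119360) (.leaf 0))) (.node (.node (.leaf 77619200) (.leaf 0)) (.node (.leaf 129725288) (.leaf 0))))) (.node (.node (.node (.node (.leaf 19628032) (.leaf 144044846)) (.node (.leaf 56180736) (.leaf 0))) (.node (.node (.leaf 61904126) (.leaf 0)) (.node (.leaf 139657216) (.leaf 0)))) (.node (.node (.node (.leaf 44105728) (.leaf 167706624)) (.node (.leaf 70238208) (.leaf 0))) (.node (.node (.leaf 42999808) (.leaf 0)) (.node (.leaf 152387584) (.leaf 0))))))) (.node (.node (.node (.node (.node (.node (.leaf 1310720) (.leaf 154482908)) (.node (.leaf 95289344) (.leaf 0))) (.node (.node (.leaf 23429120) (.leaf 0)) (.node (.leaf 130457600) (.leaf 0)))) (.node (.node (.node (.leaf 28942336) (.leaf 164700160)) (.node (.leaf 68371360) (.leaf 0))) (.node (.node (.leaf 35299328) (.leaf 0)) (.node (.leaf 91480064) (.leaf 0))))) (.node (.node (.node (.node (.leaf 6668288) (.leaf 122729132)) (.node (.leaf 104701952) (.leaf 0))) (.node (.node (.leaf 64258048) (.leaf 0)) (.node (.leaf 122817667)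 (.leaf 0)))) (.node (.node (.node (.leaf 17735680) (.leaf 167321600)) (.node (.leaf 122462208) (.leaf 0))) (.node (.node (.leaf 85311488) (.leaf 0)) (.node (.leaf 130276485) (.leaf 0)))))) (.node (.node (.node (.node (.node (.leaf 9895936) (.leaf 158646272)) (.node (.leaf 100057088) (.leaf 0))) (.node (.node (.leaf 58580992) (.leaf 0)) (.node (.leaf 134225920) (.leaf 0)))) (.node (.node (.node (.leaf 35102720) (.leaf 166166528)) (.node (.leaf 64823296) (.leaf 0))) (.node (.node (.leaf 57864428) (.leaf 0)) (.node (.leaf 106312348) (.leaf 0))))) (.node (.node (.node (.node (.leaf 22732800) (.leaf 124993536)) (.node (.leaf 58955960) (.leaf 0))) (.node (.node (.leaf 32260096) (.leaf 0)) (.node (.leaf 129040686) (.leaf 0)))) (.node (.node (.node (.leaf 47120384) (.leaf 155918336)) (.node (.leaf 72089600) (.leaf 0))) (.node (.node (.leaf 90415104) (.leaf 0)) (.node (.leaf 104415232) (.leaf 0)))))))) (.node (.node (.node (.node (.node (.node (.node (.leaf 655360) (.leaf 143081937)) (.node (.leaf 94150656) (.leaf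 0))) (.node (.node (.leaf 51462144) (.leaf 0)) (.node (.leaf 74825728) (.leaf 0)))) (.node (.node (.node (.leaf 11403264) (.leaf 164118528)) (.node (.leaf 67383525) (.leaf 0))) (.node (.node (.leaf 34537472) (.leaf 0)) (.node (.leaf 143900672) (.leaf 0))))) (.node (.node (.node (.node (.leaf 5988352) (.leaf 160292864)) (.node (.leaf 103505920) (.leaf 0))) (.node (.node (.leaf 62898176) (.leaf 0)) (.node (.leaf 122456371) (.leaf 0)))) (.node (.node (.node (.leaf 17039360) (.leaf 163285890)) (.node (.leaf 67485696) (.leaf 0))) (.node (.node (.leaf 74507851) (.leaf 0)) (.node (.leaf 98795520) (.leaf 0)))))) (.node (.node (.node (.node (.node (.leaf 8265728) (.leaf 120731039)) (.node (.leaf 50356224) (.leaf 0))) (.node (.node (.leaf 57032704) (.leaf 0)) (.node (.leaf 103084193) (.leaf 0)))) (.node (.node (.node (.leaf 14204928) (.leaf 164684425)) (.node (.leaf 117186560) (.leaf 0))) (.node (.node (.leaf 78888960) (.leaf 0)) (.node (.leaf 147193856) (.leaf 0))))) (.node (.node (.node (.node (.leaf 21225472)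 (.leaf 123650048)) (.node (.leaf 57065472) (.leaf 0))) (.node (.node (.leaf 31522816) (.leaf 0)) (.node (.leaf 116706754) (.leaf 0)))) (.node (.node (.node (.leaf 45604864) (.leaf 163146149)) (.node (.leaf 97650385) (.leaf 0))) (.node (.node (.leaf 43810816) (.leaf 0)) (.node (.leaf 103350272) (.leaf 0))))))) (.node (.node (.node (.node (.node (.node (.leaf 1974272) (.leaf 110641152)) (.node (.leaf 49795233) (.leaf 0))) (.node (.node (.leaf 54321152) (.leaf 0)) (.node (.leaf 128383790) (.leaf 0)))) (.node (.node (.node (.leaf 30507008) (.leaf 163045807)) (.node (.leaf 114982912) (.leaf 0))) (.node (.node (.leaf 76316672) (.leaf 0)) (.node (.leaf 92545024) (.leaf 0))))) (.node (.node (.node (.node (.leaf 18014208) (.leaf 120881152)) (.node (.leaf 105988096) (.leaf 0))) (.node (.node (.leaf 30040064) (.leaf 0)) (.node (.leaf 84353024) (.leaf 0)))) (.node (.node (.node (.leaf 42598400) (.leaf 160367411)) (.node (.leaf 69320704) (.leaf 0))) (.node (.node (.leaf 42929097) (.leaf 0)) (.node (.leaf 101105664)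 (.leaf 0)))))) (.node (.node (.node (.node (.node (.leaf 11517952) (.leaf 159195136)) (.node (.leaf 101302272) (.leaf 0))) (.node (.node (.leaf 60030976) (.leaf 0)) (.node (.leaf 115942777) (.leaf 0)))) (.node (.node (.node (.leaf 36691968) (.leaf 160567546)) (.node (.leaf 116033274) (.leaf 0))) (.node (.node (.leaf 81510400) (.leaf 0)) (.node (.leaf 96722944) (.leaf 0))))) (.node (.node (.node (.node (.leaf 24322048) (.leaf 126451712)) (.node (.leaf 110624768) (.leaf 0))) (.node (.node (.leaf 32997376) (.leaf 0)) (.node (.leaf 88383488) (.leaf 0)))) (.node (.node (.node (.leaf 21258240) (.leaf 167595462)) (.node (.leaf 127647744) (.leaf 0))) (.node (.node (.leaf 45400064) (.leaf 0)) (.node (.leaf 142529855) (.leaf 0))))))))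

def e1T1 : NT := .node (.node (.node (.node (.node (.node (.node (.node (.leaf 24576) (.leaf 106954752)) (.node (.leaf 92839936) (.leaf 0))) (.node (.node (.leaf 50036736) (.leaf 164036608)) (.node (.leaf 73916416) (.leaf 0)))) (.node (.node (.node (.leaf 25845760) (.leaf 152307642)) (.node (.leaf 111714304) (.leaf 0))) (.node (.node (.leaf 50432127) (.leaf 0)) (.node (.leaf 143089664) (.leaf 0))))) (.node (.node (.node (.node (.leaf 13115392) (.leaf 116760576)) (.node (.leaf 69078696) (.leaf 0))) (.node (.node (.leaf 61456384) (.leaf 0)) (.node (.leaf 86551957) (.leaf 0)))) (.node (.node (.node (.leaf 38191104) (.leaf 159398387)) (.node (.leaf 103505021) (.leaf 0))) (.node (.node (.leaf 82894848) (.leaf 0)) (.node (.leaf 97722368) (.leaf 0)))))) (.node (.node (.node (.node (.node (.leaf 2646016) (.leaf 111869952)) (.node (.leaf 97656832) (.leaf 0))) (.node (.node (.leaf 55697408) (.leaf 0)) (.node (.leaf 132440064) (.leaf 0)))) (.node (.node (.node (.leaf 32071680) (.leaf 159476825)) (.node (.leaf 116121600)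 (.leaf 0))) (.node (.node (.leaf 36855808) (.leaf 0)) (.node (.leaf 110080538) (.leaf 0))))) (.node (.node (.node (.node (.leaf 19644416) (.leaf 138173124)) (.node (.leaf 107200512) (.leaf 0))) (.node (.node (.leaf 30777344) (.leaf 0)) (.node (.leaf 85368832) (.leaf 0)))) (.node (.node (.node (.leaf 19161088) (.leaf 165779011)) (.node (.leaf 83948481) (.leaf 0))) (.node (.node (.leaf 87842816) (.leaf 0)) (.node (.leaf 102187008) (.leaf 0))))))) (.node (.node (.node (.node (.node (.node (.leaf 3358720) (.leaf 109395968)) (.node (.leaf 47833088) (.leaf 0))) (.node (.node (.leaf 52961280) (.leaf 0)) (.node (.leaf 121679334) (.leaf 0)))) (.node (.node (.node (.leaf 28958720) (.leaf 131194880)) (.node (.leaf 61382656) (.leaf 0))) (.node (.node (.leaf 74997760) (.leaf 0)) (.node (.leaf 144711680) (.leaf 0))))) (.node (.node (.node (.node (.leaf 16375808) (.leaf 119545856)) (.node (.leaf 84485814) (.leaf 0))) (.node (.node (.leaf 29302784) (.leaf 0)) (.node (.leaf 137854976) (.leaf 0)))) (.node (.node (.node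 (.leaf 41148416) (.leaf 161494067)) (.node (.leaf 68386816) (.leaf 0))) (.node (.node (.leaf 41435136) (.leaf 0)) (.node (.leaf 99926016) (.leaf 0)))))) (.node (.node (.node (.node (.node (.leaf 9912320) (.leaf 158654464)) (.node (.leaf 100073472) (.leaf 0))) (.node (.node (.leaf 26378240) (.leaf 0)) (.node (.leaf 79454208) (.leaf 0)))) (.node (.node (.node (.leaf 14909440) (.leaf 137945088)) (.node (.leaf 118300672) (.leaf 0))) (.node (.node (.leaf 38494208) (.leaf 0)) (.node (.leaf 147914752) (.leaf 0))))) (.node (.node (.node (.node (.leaf 22749184) (.leaf 126128837)) (.node (.leaf 57901056) (.leaf 0))) (.node (.node (.leaf 69689344) (.leaf 0)) (.node (.leaf 90477769) (.leaf 0)))) (.node (.node (.node (.leaf 47136768) (.leaf 167218334)) (.node (.leaf 108160178) (.leaf 0))) (.node (.node (.leaf 44638208) (.leaf 0)) (.node (.leaf 130479597) (.leaf 0)))))))) (.node (.node (.node (.node (.node (.node (.node (.leaf 1695744) (.leaf 108093440)) (.node (.leaf 46964736) (.leaf 0))) (.node (.node (.leaf 51478528)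 (.leaf 0)) (.node (.leaf 80601452) (.leaf 0)))) (.node (.node (.node (.leaf 27394048) (.leaf 162029766)) (.node (.leaf 60440576) (.leaf 0))) (.node (.node (.leaf 73662464) (.leaf 0)) (.node (.leaf 143908864) (.leaf 0))))) (.node (.node (.node (.node (.leaf 14737408) (.leaf 160309248)) (.node (.leaf 53682176) (.leaf 0))) (.node (.node (.leaf 62914560) (.leaf 0)) (.node (.leaf 82337792) (.leaf 0)))) (.node (.node (.node (.leaf 17047552) (.leaf 143843328)) (.node (.leaf 121470976) (.leaf 0))) (.node (.node (.leaf 40714240) (.leaf 0)) (.node (.leaf 143166399) (.leaf 0)))))) (.node (.node (.node (.node (.node (.leaf 3309568) (.leaf 121001629)) (.node (.leaf 98869248) (.leaf 0))) (.node (.node (.leaf 34334617) (.leaf 0)) (.node (.leaf 78561280) (.leaf 0)))) (.node (.node (.node (.leaf 33644544) (.leaf 155583309)) (.node (.leaf 63987712) (.leaf 0))) (.node (.node (.leaf 37666816) (.leaf 0)) (.node (.leaf 94584832) (.leaf 0))))) (.node (.node (.node (.node (.leaf 8732672) (.leaf 159560958)) (.node (.leaf 108437504)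 (.leaf 0))) (.node (.node (.leaf 68303021) (.leaf 0)) (.node (.leaf 86401024) (.leaf 0)))) (.node (.node (.node (.leaf 45621248) (.leaf 167191020)) (.node (.leaf 71180288) (.leaf 0))) (.node (.node (.leaf 89120768) (.leaf 0)) (.node (.leaf 143452824) (.leaf 0))))))) (.node (.node (.node (.node (.node (.node (.leaf 5005312) (.leaf 156485571)) (.node (.leaf 48693248) (.leaf 0))) (.node (.node (.leaf 24125440) (.leaf 0)) (.node (.leaf 76832768) (.leaf 0)))) (.node (.node (.node (.leaf 12771328) (.leaf 132669440)) (.node (.leaf 62275584) (.leaf 0))) (.node (.node (.leaf 36077568) (.leaf 0)) (.node (.leaf 145514496) (.leaf 0))))) (.node (.node (.node (.node (.leaf 7356416) (.leaf 120889344)) (.node (.leaf 55377920) (.leaf 0))) (.node (.node (.leaf 65658880) (.leaf 0)) (.node (.leaf 138690560) (.leaf 0)))) (.node (.node (.node (.leaf 18456576) (.leaf 148267008)) (.node (.leaf 122502110) (.leaf 0))) (.node (.node (.leaf 42237952) (.leaf 0)) (.node (.leaf 119882386) (.leaf 0)))))) (.node (.node (.node (.node (.node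 (.leaf 4653056) (.leaf 136229664)) (.node (.leaf 98935152) (.leaf 0))) (.node (.node (.leaf 27107328) (.leaf 0)) (.node (.leaf 80396288) (.leaf 0)))) (.node (.node (.node (.leaf 36708352) (.leaf 164501003)) (.node (.leaf 101150877) (.leaf 0))) (.node (.node (.leaf 81526784) (.leaf 0)) (.node (.leaf 148791296) (.leaf 0))))) (.node (.node (.node (.node (.leaf 24338432) (.leaf 163274752)) (.node (.leaf 58687488) (.leaf 0))) (.node (.node (.leaf 70991872) (.leaf 0)) (.node (.leaf 142327808) (.leaf 0)))) (.node (.node (.node (.leaf 48586752) (.leaf 158842880)) (.node (.leaf 105581004) (.leaf 0))) (.node (.node (.leaf 91578368) (.leaf 0)) (.node (.leaf 105693184) (.leaf 0))))))))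

def e1T2 : NT := .node (.node (.node (.node (.node (.node (.node (.node (.leaf 40960) (.leaf 144881960)) (.node (.leaf 92856320) (.leaf 0))) (.node (.node (.leaf 21979136) (.leaf 167988014)) (.node (.leaf 73924608) (.leaf 0)))) (.node (.node (.node (.leaf 10756096) (.leaf 136573943)) (.node (.leaf 102912400) (.leaf 0))) (.node (.node (.leaf 33800192) (.leaf 0)) (.node (.leaf 89415680) (.leaf 0))))) (.node (.node (.node (.node (.leaf 5332992) (.leaf 159719424)) (.node (.leaf 52862976) (.leaf 0))) (.node (.node (.leaf 61472768) (.leaf 0)) (.node (.leaf 99454567) (.leaf 0)))) (.node (.node (.node (.leaf 16318464) (.leaf 166903808)) (.node (.leaf 120274944) (.leaf 0))) (.node (.node (.leaf 39960576) (.leaf 0)) (.node (.leaf 97730560) (.leaf 0)))))) (.node (.node (.node (.node (.node (.leaf 6635520) (.leaf 157614080)) (.node (.leaf 56659021) (.leaf 0))) (.node (.node (.leaf 24862720) (.leaf 0)) (.node (.leaf 132448256) (.leaf 0)))) (.node (.node (.node (.leaf 17408461) (.leaf 165486592)) (.node (.leaf 116137984)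 (.leaf 0))) (.node (.node (.leaf 77643776) (.leaf 0)) (.node (.leaf 93536256) (.leaf 0))))) (.node (.node (.node (.node (.leaf 8060928) (.leaf 150373201)) (.node (.leaf 77368389) (.leaf 0))) (.node (.node (.leaf 67059712) (.leaf 0)) (.node (.leaf 139673600) (.leaf 0)))) (.node (.node (.node (.leaf 28156958) (.leaf 150855680)) (.node (.leaf 124559360) (.leaf 0))) (.node (.node (.leaf 86938511) (.leaf 0)) (.node (.leaf 144153700) (.leaf 0))))))) (.node (.node (.node (.node (.node (.node (.leaf 1318912) (.leaf 156401664)) (.node (.leaf 95313920) (.leaf 0))) (.node (.node (.leaf 23437312) (.leaf 0)) (.node (.leaf 75816960) (.leaf 0)))) (.node (.node (.node (.leaf 12099584) (.leaf 138825949)) (.node (.leaf 112319446) (.leaf 0))) (.node (.node (.leaf 75005952) (.leaf 0)) (.node (.leaf 91504640) (.leaf 0))))) (.node (.node (.node (.node (.leaf 16392192) (.leaf 140496107)) (.node (.leaf 104726528) (.leaf 0))) (.node (.node (.leaf 29319168) (.leaf 0)) (.node (.leaf 83353600) (.leaf 0)))) (.node (.node (.node (.leaf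 17752064) (.leaf 146104320)) (.node (.leaf 122486784) (.leaf 0))) (.node (.node (.leaf 85319680) (.leaf 0)) (.node (.leaf 133615300) (.leaf 0)))))) (.node (.node (.node (.node (.node (.leaf 3989504) (.leaf 114147328)) (.node (.leaf 51208192) (.leaf 0))) (.node (.node (.leaf 54689994) (.leaf 0)) (.node (.leaf 83149672) (.leaf 0)))) (.node (.node (.node (.leaf 35127296) (.leaf 166174720)) (.node (.leaf 118317056) (.leaf 0))) (.node (.node (.leaf 80240640) (.leaf 0)) (.node (.leaf 147931136) (.leaf 0))))) (.node (.node (.node (.node (.leaf 9420800) (.leaf 162848768)) (.node (.leaf 109527040) (.leaf 0))) (.node (.node (.leaf 32276480) (.leaf 0)) (.node (.leaf 87359488) (.leaf 0)))) (.node (.node (.node (.leaf 20561920) (.leaf 155959296)) (.node (.leaf 126648320) (.leaf 0))) (.node (.node (.leaf 82317106) (.leaf 0)) (.node (.leaf 104439808) (.leaf 0)))))))) (.node (.node (.node (.node (.node (.node (.node (.leaf 663552) (.leaf 130108196)) (.node (.leaf 94175232) (.leaf 0))) (.node (.node (.leaf 22724608) (.leaf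 0)) (.node (.leaf 85741016) (.leaf 0)))) (.node (.node (.node (.leaf 27410432) (.leaf 129466368)) (.node (.leaf 89362616) (.leaf 0))) (.node (.node (.leaf 34545664) (.leaf 0)) (.node (.leaf 143643630) (.leaf 0))))) (.node (.node (.node (.node (.leaf 14753792) (.leaf 160317440)) (.node (.leaf 103522304) (.leaf 0))) (.node (.node (.leaf 28590080) (.leaf 0)) (.node (.leaf 88675622) (.leaf 0)))) (.node (.node (.node (.leaf 39641088) (.leaf 167149568)) (.node (.leaf 67493888) (.leaf 0))) (.node (.node (.leaf 84140032) (.leaf 0)) (.node (.leaf 150282240) (.leaf 0)))))) (.node (.node (.node (.node (.node (.leaf 8290304) (.leaf 113057792)) (.node (.leaf 98885632) (.leaf 0))) (.node (.node (.leaf 57040896) (.leaf 0)) (.node (.leaf 133382144) (.leaf 0)))) (.node (.node (.node (.leaf 14221312) (.leaf 156260151)) (.node (.leaf 114773976) (.leaf 0))) (.node (.node (.leaf 78897152) (.leaf 0)) (.node (.leaf 147218432) (.leaf 0))))) (.node (.node (.node (.node (.leaf 21250048) (.leaf 123682816)) (.node (.leaf 95618515)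 (.leaf 0))) (.node (.node (.leaf 31531008) (.leaf 0)) (.node (.leaf 140664832) (.leaf 0)))) (.node (.node (.node (.leaf 19873792) (.leaf 153018368)) (.node (.leaf 100082690) (.leaf 0))) (.node (.node (.leaf 43819008) (.leaf 0)) (.node (.leaf 144548479) (.leaf 0))))))) (.node (.node (.node (.node (.node (.node (.leaf 1982464) (.leaf 110657536)) (.node (.leaf 96501760) (.leaf 0))) (.node (.node (.leaf 54345728) (.leaf 0)) (.node (.leaf 131538944) (.leaf 0)))) (.node (.node (.node (.leaf 30531584) (.leaf 132685824)) (.node (.leaf 115007488) (.leaf 0))) (.node (.node (.leaf 48092600) (.leaf 0)) (.node (.leaf 145522688) (.leaf 0))))) (.node (.node (.node (.node (.leaf 18038784) (.leaf 120922112)) (.node (.leaf 106012672) (.leaf 0))) (.node (.node (.leaf 30048256) (.leaf 0)) (.node (.leaf 138698752) (.leaf 0)))) (.node (.node (.node (.leaf 42622976) (.leaf 148291584)) (.node (.leaf 123559936) (.leaf 0))) (.node (.node (.leaf 86564864) (.leaf 0)) (.node (.leaf 101138432) (.leaf 0)))))) (.node (.node (.node (.node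 (.node (.leaf 11542528) (.leaf 115474432)) (.node (.leaf 52043776) (.leaf 0))) (.node (.node (.leaf 60055552) (.leaf 0)) (.node (.leaf 135192576) (.leaf 0)))) (.node (.node (.node (.leaf 36724736) (.leaf 140066816)) (.node (.leaf 65765376) (.leaf 0))) (.node (.node (.leaf 81543168) (.leaf 0)) (.node (.leaf 135915341) (.leaf 0))))) (.node (.node (.node (.node (.leaf 10092544) (.leaf 158947640)) (.node (.leaf 58695680) (.leaf 0))) (.node (.node (.leaf 71008256) (.leaf 0)) (.node (.leaf 88399872) (.leaf 0)))) (.node (.node (.node (.leaf 21266432) (.leaf 163031047)) (.node (.leaf 73474339) (.leaf 0))) (.node (.node (.leaf 91586560) (.leaf 0)) (.node (.leaf 105709568) (.leaf 0))))))))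

def e1T3 : NT := .node (.node (.node (.node (.node (.node (.node (.node (.leaf 8192) (.leaf 106979328)) (.node (.leaf 46202880) (.leaf 0))) (.node (.node (.leaf 50061312) (.leaf 167800765)) (.node (.leaf 82126549) (.leaf 0)))) (.node (.node (.node (.leaf 25870336) (.leaf 127918080)) (.node (.leaf 59580416) (.leaf 0))) (.node (.node (.leaf 72351744) (.leaf 0)) (.node (.leaf 96314128) (.leaf 0))))) (.node (.node (.node (.node (.leaf 13139968) (.leaf 159735808)) (.node (.leaf 53986293) (.leaf 0))) (.node (.node (.leaf 61489152) (.leaf 0)) (.node (.leaf 81379328) (.leaf 0)))) (.node (.node (.node (.leaf 38215680) (.leaf 141967360)) (.node (.leaf 66682880) (.leaf 0))) (.node (.node (.leaf 82919424) (.leaf 0)) (.node (.leaf 97746944) (.leaf 0)))))) (.node (.node (.node (.node (.node (.leaf 2654208) (.leaf 111894528)) (.node (.leaf 97681408) (.leaf 0))) (.node (.node (.leaf 55721984) (.leaf 0)) (.node (.leaf 77750272) (.leaf 0)))) (.node (.node (.node (.leaf 13475840) (.leaf 151031581)) (.node (.leaf 74323930)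 (.leaf 0))) (.node (.node (.leaf 77443840) (.leaf 0)) (.node (.leaf 104943223) (.leaf 0))))) (.node (.node (.node (.node (.leaf 19668992) (.leaf 132563955)) (.node (.leaf 56197120) (.leaf 0))) (.node (.node (.leaf 67076096) (.leaf 0)) (.node (.leaf 85385216) (.leaf 0)))) (.node (.node (.node (.leaf 44138496) (.leaf 152924702)) (.node (.leaf 124575744) (.leaf 0))) (.node (.node (.leaf 43024384) (.leaf 0)) (.node (.leaf 102211584) (.leaf 0))))))) (.node (.node (.node (.node (.node (.node (.leaf 3383296) (.leaf 156409856)) (.node (.leaf 47849472) (.leaf 0))) (.node (.node (.leaf 52977664) (.leaf 0)) (.node (.leaf 130490368) (.leaf 0)))) (.node (.node (.node (.leaf 28983296) (.leaf 157209418)) (.node (.leaf 113926144) (.leaf 0))) (.node (.node (.leaf 35315712) (.leaf 0)) (.node (.leaf 128208288) (.leaf 0))))) (.node (.node (.node (.node (.leaf 16408576) (.leaf 148438086)) (.node (.leaf 54525952) (.leaf 0))) (.node (.node (.leaf 45034518) (.leaf 0)) (.node (.leaf 83369984) (.leaf 0)))) (.node (.node (.node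 (.leaf 35998375) (.leaf 146112512)) (.node (.leaf 122503168) (.leaf 0))) (.node (.node (.leaf 70153014) (.leaf 0)) (.node (.leaf 127776367) (.leaf 0)))))) (.node (.node (.node (.node (.node (.leaf 9936896) (.leaf 114155520)) (.node (.leaf 100089856) (.leaf 0))) (.node (.node (.leaf 51192281) (.leaf 0)) (.node (.leaf 134242304) (.leaf 0)))) (.node (.node (.node (.leaf 35143680) (.leaf 137969664)) (.node (.leaf 118333440) (.leaf 0))) (.node (.node (.leaf 80248832) (.leaf 0)) (.node (.leaf 95633408) (.leaf 0))))) (.node (.node (.node (.node (.leaf 22773760) (.leaf 162856960)) (.node (.leaf 57909248) (.leaf 0))) (.node (.node (.leaf 34272624) (.leaf 0)) (.node (.leaf 88052914) (.leaf 0)))) (.node (.node (.node (.leaf 39674949) (.leaf 159494225)) (.node (.leaf 72105984) (.leaf 0))) (.node (.node (.leaf 90431488) (.leaf 0)) (.node (.leaf 106449485) (.leaf 0)))))))) (.node (.node (.node (.node (.node (.node (.node (.leaf 1720320) (.leaf 155770880)) (.node (.leaf 94183424) (.leaf 0))) (.node (.node (.leaf 51503104)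 (.leaf 0)) (.node (.leaf 74850304) (.leaf 0)))) (.node (.node (.node (.leaf 11419648) (.leaf 129474560)) (.node (.leaf 85591578) (.leaf 0))) (.node (.node (.leaf 73687040) (.leaf 0)) (.node (.leaf 97954512) (.leaf 0))))) (.node (.node (.node (.node (.leaf 14770176) (.leaf 118202368)) (.node (.leaf 103538688) (.leaf 0))) (.node (.node (.leaf 34857106) (.leaf 0)) (.node (.leaf 82354176) (.leaf 0)))) (.node (.node (.node (.leaf 39657472) (.leaf 143867904)) (.node (.leaf 84220930) (.leaf 0))) (.node (.node (.leaf 40722432) (.leaf 0)) (.node (.leaf 98820096) (.leaf 0)))))) (.node (.node (.node (.node (.node (.leaf 8306688) (.leaf 155128920)) (.node (.leaf 50380800) (.leaf 0))) (.node (.node (.leaf 57057280) (.leaf 0)) (.node (.leaf 133390336) (.leaf 0)))) (.node (.node (.node (.leaf 33660928) (.leaf 150274074)) (.node (.leaf 63995904) (.leaf 0))) (.node (.node (.leaf 54343867) (.leaf 0)) (.node (.leaf 147234816) (.leaf 0))))) (.node (.node (.node (.node (.leaf 8740864) (.leaf 162381824)) (.node (.leaf 57081856)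 (.leaf 0))) (.node (.node (.leaf 68493312) (.leaf 0)) (.node (.leaf 136001695) (.leaf 0)))) (.node (.node (.node (.leaf 45637632) (.leaf 165738968)) (.node (.leaf 125624320) (.leaf 0))) (.node (.node (.leaf 89137152) (.leaf 0)) (.node (.leaf 103366656) (.leaf 0))))))) (.node (.node (.node (.node (.node (.node (.leaf 5029888) (.leaf 137393396)) (.node (.leaf 48701440) (.leaf 0))) (.node (.node (.leaf 24133632) (.leaf 0)) (.node (.leaf 131555328) (.leaf 0)))) (.node (.node (.node (.leaf 12779520) (.leaf 165060608)) (.node (.leaf 62283776) (.leaf 0))) (.node (.node (.leaf 76349440) (.leaf 0)) (.node (.leaf 144631661) (.leaf 0))))) (.node (.node (.node (.node (.leaf 18055168) (.leaf 120938496)) (.node (.leaf 55394304) (.leaf 0))) (.node (.node (.leaf 65683456) (.leaf 0)) (.node (.leaf 84377600) (.leaf 0)))) (.node (.node (.node (.leaf 18464768) (.leaf 148299776)) (.node (.leaf 69337088) (.leaf 0))) (.node (.node (.leaf 42254336) (.leaf 0)) (.node (.leaf 144109795) (.leaf 0)))))) (.node (.node (.node (.node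 (.node (.leaf 4661248) (.leaf 159219712)) (.node (.leaf 101326848) (.leaf 0))) (.node (.node (.leaf 60071936) (.leaf 0)) (.node (.leaf 80412672) (.leaf 0)))) (.node (.node (.node (.leaf 15613952) (.leaf 161625042)) (.node (.leaf 119357440) (.leaf 0))) (.node (.node (.leaf 39247872) (.leaf 0)) (.node (.leaf 148807680) (.leaf 0))))) (.node (.node (.node (.node (.leaf 24354816) (.leaf 126500864)) (.node (.leaf 79405653) (.leaf 0))) (.node (.node (.leaf 33013760) (.leaf 0)) (.node (.leaf 125385513) (.leaf 0)))) (.node (.node (.node (.leaf 48611328) (.leaf 158859264)) (.node (.leaf 127672320) (.leaf 0))) (.node (.node (.leaf 45424640) (.leaf 0)) (.node (.leaf 137550049) (.leaf 0))))))))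

def e1T4 : NT := .node (.node (.node (.node (.node (.node (.node (.node (.leaf 65536) (.leaf 147559516)) (.node (.leaf 92872704) (.leaf 0))) (.node (.node (.leaf 50077696) (.leaf 165547504)) (.node (.leaf 128688128) (.leaf 0)))) (.node (.node (.node (.leaf 25886720) (.leaf 155220229)) (.node (.leaf 111747072) (.leaf 0))) (.node (.node (.leaf 63573180) (.leaf 0)) (.node (.leaf 89423872) (.leaf 0))))) (.node (.node (.node (.node (.leaf 13156352) (.leaf 116785152)) (.node (.leaf 52871168) (.leaf 0))) (.node (.node (.leaf 43304467) (.leaf 0)) (.node (.leaf 100929956) (.leaf 0)))) (.node (.node (.node (.leaf 16326656) (.leaf 159963816)) (.node (.leaf 120299520) (.leaf 0))) (.node (.node (.leaf 39968768) (.leaf 0)) (.node (.leaf 149495808) (.leaf 0)))))) (.node (.node (.node (.node (.node (.leaf 6660096) (.leaf 136686508)) (.node (.leaf 49561600) (.leaf 0))) (.node (.node (.leaf 24879104) (.leaf 0)) (.node (.leaf 126212409) (.leaf 0)))) (.node (.node (.node (.leaf 32104448) (.leaf 134479872)) (.node (.leaf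 63160320) (.leaf 0))) (.node (.node (.leaf 77668352) (.leaf 0)) (.node (.leaf 93560832) (.leaf 0))))) (.node (.node (.node (.node (.leaf 19685376) (.leaf 122208256)) (.node (.leaf 107225088) (.leaf 0))) (.node (.node (.leaf 30793728) (.leaf 0)) (.node (.leaf 139698176) (.leaf 0)))) (.node (.node (.node (.leaf 44154880) (.leaf 151319475)) (.node (.leaf 70270976) (.leaf 0))) (.node (.node (.leaf 87867392) (.leaf 0)) (.node (.leaf 124846703) (.leaf 0))))))) (.node (.node (.node (.node (.node (.node (.leaf 3399680) (.leaf 109412352)) (.node (.leaf 76941789) (.leaf 0))) (.node (.node (.leaf 42889322) (.leaf 0)) (.node (.leaf 75833344) (.leaf 0)))) (.node (.node (.node (.leaf 12107776) (.leaf 131244032)) (.node (.leaf 61399040) (.leaf 0))) (.node (.node (.leaf 68256934) (.leaf 0)) (.node (.leaf 135681234) (.leaf 0))))) (.node (.node (.node (.node (.leaf 6692864) (.leaf 160890880)) (.node (.leaf 104742912) (.leaf 0))) (.node (.node (.leaf 29335552) (.leaf 0)) (.node (.leaf 119336882) (.leaf 0)))) (.node (.node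 (.node (.leaf 17768448) (.leaf 167329792)) (.node (.leaf 68419584) (.leaf 0))) (.node (.node (.leaf 41451520) (.leaf 0)) (.node (.leaf 151052288) (.leaf 0)))))) (.node (.node (.node (.node (.node (.leaf 9953280) (.leaf 140625341)) (.node (.leaf 89225995) (.leaf 0))) (.node (.node (.leaf 58613760) (.leaf 0)) (.node (.leaf 111740840) (.leaf 0)))) (.node (.node (.node (.leaf 14925824) (.leaf 159857642)) (.node (.leaf 64847872) (.leaf 0))) (.node (.node (.leaf 71322701) (.leaf 0)) (.node (.leaf 102339482) (.leaf 0))))) (.node (.node (.node (.node (.leaf 9428992) (.leaf 125042688)) (.node (.leaf 109543424) (.leaf 0))) (.node (.node (.leaf 69713920) (.leaf 0)) (.node (.leaf 141484032) (.leaf 0)))) (.node (.node (.node (.leaf 47161344) (.leaf 159633264)) (.node (.leaf 126656512) (.leaf 0))) (.node (.node (.leaf 44654592) (.leaf 0)) (.node (.leaf 104456192) (.leaf 0)))))))) (.node (.node (.node (.node (.node (.node (.node (.leaf 1736704) (.leaf 135264683)) (.node (.leaf 46981120) (.leaf 0))) (.node (.node (.leaf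 22740992) (.leaf 0)) (.node (.leaf 129605632) (.leaf 0)))) (.node (.node (.node (.leaf 27426816) (.leaf 154915445)) (.node (.leaf 60456960) (.leaf 0))) (.node (.node (.leaf 68114814) (.leaf 0)) (.node (.leaf 90398720) (.leaf 0))))) (.node (.node (.node (.node (.leaf 6012928) (.leaf 160333824)) (.node (.leaf 103555072) (.leaf 0))) (.node (.node (.leaf 62939136) (.leaf 0)) (.node (.leaf 136986624) (.leaf 0)))) (.node (.node (.node (.leaf 17063936) (.leaf 160933497)) (.node (.leaf 121495552) (.leaf 0))) (.node (.node (.leaf 84156416) (.leaf 0)) (.node (.leaf 98828288) (.leaf 0)))))) (.node (.node (.node (.node (.node (.leaf 3325952) (.leaf 128182230)) (.node (.leaf 98910208) (.leaf 0))) (.node (.node (.leaf 57073664) (.leaf 0)) (.node (.leaf 78585856) (.leaf 0)))) (.node (.node (.node (.leaf 14229504) (.leaf 136151040)) (.node (.leaf 117202944) (.leaf 0))) (.node (.node (.leaf 37683200) (.leaf 0)) (.node (.leaf 94609408) (.leaf 0))))) (.node (.node (.node (.node (.leaf 21274624) (.leaf 162390016)) (.node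 (.leaf 108470272) (.leaf 0))) (.node (.node (.leaf 68501504) (.leaf 0)) (.node (.leaf 124363445) (.leaf 0)))) (.node (.node (.node (.leaf 45654016) (.leaf 153034752)) (.node (.leaf 71196672) (.leaf 0))) (.node (.node (.leaf 89153536) (.leaf 0)) (.node (.leaf 146273844) (.leaf 0))))))) (.node (.node (.node (.node (.node (.node (.leaf 5046272) (.leaf 156999680)) (.node (.leaf 96509952) (.leaf 0))) (.node (.node (.leaf 54362112) (.leaf 0)) (.node (.leaf 76857344) (.leaf 0)))) (.node (.node (.node (.leaf 30556160) (.leaf 165068800)) (.node (.leaf 62291968) (.leaf 0))) (.node (.node (.leaf 36093952) (.leaf 0)) (.node (.leaf 92577792) (.leaf 0))))) (.node (.node (.node (.node (.leaf 7372800) (.leaf 161300480)) (.node (.leaf 106037248) (.leaf 0))) (.node (.node (.leaf 65699840) (.leaf 0)) (.node (.leaf 84393984) (.leaf 0)))) (.node (.node (.node (.leaf 42647552) (.leaf 160879225)) (.node (.leaf 123584512) (.leaf 0))) (.node (.node (.leaf 46140945) (.leaf 0)) (.node (.leaf 151748608) (.leaf 0)))))) (.node (.node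 (.node (.node (.node (.leaf 11567104) (.leaf 115507200)) (.node (.leaf 52051968) (.leaf 0))) (.node (.node (.leaf 27123712) (.leaf 0)) (.node (.leaf 128188993) (.leaf 0)))) (.node (.node (.node (.leaf 36749312) (.leaf 143771081)) (.node (.leaf 65781760) (.leaf 0))) (.node (.node (.leaf 55078071) (.leaf 0)) (.node (.leaf 96747520) (.leaf 0))))) (.node (.node (.node (.node (.leaf 10100736) (.leaf 163291136)) (.node (.leaf 110665728) (.leaf 0))) (.node (.node (.leaf 71032832) (.leaf 0)) (.node (.leaf 142360576) (.leaf 0)))) (.node (.node (.node (.leaf 48627712) (.leaf 163956362)) (.node (.leaf 73031680) (.leaf 0))) (.node (.node (.leaf 91602944) (.leaf 0)) (.node (.leaf 138064342) (.leaf 0))))))))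

def e1T5 : NT := .node (.node (.node (.node (.node (.node (.node (.node (.leaf 16384) (.leaf 117846112)) (.node (.leaf 92889088) (.leaf 0))) (.node (.node (.leaf 21995520) (.leaf 167967641)) (.node (.leaf 122774309) (.leaf 0)))) (.node (.node (.node (.leaf 10772480) (.leaf 163684352)) (.node (.leaf 59588608) (.leaf 0))) (.node (.node (.leaf 33816576) (.leaf 0)) (.node (.leaf 104682922) (.leaf 0))))) (.node (.node (.node (.node (.leaf 5349376) (.leaf 153888922)) (.node (.leaf 102473728) (.leaf 0))) (.node (.node (.leaf 61513728) (.leaf 0)) (.node (.leaf 136110080) (.leaf 0)))) (.node (.node (.node (.leaf 20080812) (.leaf 166912000)) (.node (.leaf 66691072) (.leaf 0))) (.node (.node (.leaf 82944000) (.leaf 0)) (.node (.leaf 149504000) (.leaf 0)))))) (.node (.node (.node (.node (.node (.leaf 6676480) (.leaf 144227296)) (.node (.leaf 97705984) (.leaf 0))) (.node (.node (.leaf 55746560) (.leaf 0)) (.node (.leaf 77758464) (.leaf 0)))) (.node (.node (.node (.leaf 13484032) (.leaf 165494784)) (.node (.leaf 116154368)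 (.leaf 0))) (.node (.node (.leaf 36888576) (.leaf 0)) (.node (.leaf 102775011) (.leaf 0))))) (.node (.node (.node (.node (.leaf 8077312) (.leaf 123476015)) (.node (.leaf 56205312) (.leaf 0))) (.node (.node (.leaf 67100672) (.leaf 0)) (.node (.leaf 85393408) (.leaf 0)))) (.node (.node (.node (.leaf 19185664) (.leaf 154347705)) (.node (.leaf 70287360) (.leaf 0))) (.node (.node (.leaf 54073965) (.leaf 0)) (.node (.leaf 102236160) (.leaf 0))))))) (.node (.node (.node (.node (.node (.node (.leaf 1335296) (.leaf 156426240)) (.node (.leaf 95330304) (.leaf 0))) (.node (.node (.leaf 23453696) (.leaf 0)) (.node (.leaf 130514944) (.leaf 0)))) (.node (.node (.node (.leaf 25650204) (.leaf 164708352)) (.node (.leaf 104766552) (.leaf 0))) (.node (.node (.leaf 35323904) (.leaf 0)) (.node (.leaf 91529216) (.leaf 0))))) (.node (.node (.node (.node (.leaf 16433152) (.leaf 119586816)) (.node (.leaf 104751104) (.leaf 0))) (.node (.node (.leaf 64290816) (.leaf 0)) (.node (.leaf 124245314) (.leaf 0)))) (.node (.node (.node (.leaf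 41181184) (.leaf 146153472)) (.node (.leaf 122519552) (.leaf 0))) (.node (.node (.leaf 42266435) (.leaf 0)) (.node (.leaf 151060480) (.leaf 0)))))) (.node (.node (.node (.node (.node (.leaf 4005888) (.leaf 114188288)) (.node (.leaf 51224576) (.leaf 0))) (.node (.node (.leaf 26402816) (.leaf 0)) (.node (.leaf 79486976) (.leaf 0)))) (.node (.node (.node (.leaf 14934016) (.leaf 137977856)) (.node (.leaf 94349914) (.leaf 0))) (.node (.node (.leaf 38526976) (.leaf 0)) (.node (.leaf 147947520) (.leaf 0))))) (.node (.node (.node (.node (.leaf 22798336) (.leaf 145247982)) (.node (.leaf 85686927) (.leaf 0))) (.node (.node (.leaf 69730304) (.leaf 0)) (.node (.leaf 139713237) (.leaf 0)))) (.node (.node (.node (.leaf 20578304) (.leaf 164277658)) (.node (.leaf 126672896) (.leaf 0))) (.node (.node (.leaf 90447872) (.leaf 0)) (.node (.leaf 153796608) (.leaf 0)))))))) (.node (.node (.node (.node (.node (.node (.node (.leaf 679936) (.leaf 145140038)) (.node (.leaf 94199808) (.leaf 0))) (.node (.node (.leaf 51527680) (.leaf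 0)) (.node (.leaf 74866688) (.leaf 0)))) (.node (.node (.node (.leaf 11427840) (.leaf 164126720)) (.node (.leaf 112812032) (.leaf 0))) (.node (.node (.leaf 73711616) (.leaf 0)) (.node (.leaf 143917056) (.leaf 0))))) (.node (.node (.node (.node (.leaf 14794752) (.leaf 137409271)) (.node (.leaf 53706752) (.leaf 0))) (.node (.node (.leaf 28606464) (.leaf 0)) (.node (.leaf 137003008) (.leaf 0)))) (.node (.node (.node (.leaf 39682048) (.leaf 165276605)) (.node (.leaf 67510272) (.leaf 0))) (.node (.node (.leaf 64629653) (.leaf 0)) (.node (.leaf 104092181) (.leaf 0)))))) (.node (.node (.node (.node (.node (.leaf 8323072) (.leaf 113082368)) (.node (.leaf 50397184) (.leaf 0))) (.node (.node (.leaf 57090048) (.leaf 0)) (.node (.leaf 133406720) (.leaf 0)))) (.node (.node (.node (.leaf 33685504) (.leaf 164515701)) (.node (.leaf 64004096) (.leaf 0))) (.node (.node (.leaf 78929920) (.leaf 0)) (.node (.leaf 144707458) (.leaf 0))))) (.node (.node (.node (.node (.leaf 21282816) (.leaf 123707392)) (.node (.leaf 107923191)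 (.leaf 0))) (.node (.node (.leaf 31547392) (.leaf 0)) (.node (.leaf 86425600) (.leaf 0)))) (.node (.node (.node (.leaf 19890176) (.leaf 153051136)) (.node (.leaf 125648896) (.leaf 0))) (.node (.node (.leaf 89169920) (.leaf 0)) (.node (.leaf 103374848) (.leaf 0))))))) (.node (.node (.node (.node (.node (.node (.leaf 1998848) (.leaf 143696642)) (.node (.leaf 96526336) (.leaf 0))) (.node (.node (.leaf 54378496) (.leaf 0)) (.node (.leaf 80824150) (.leaf 0)))) (.node (.node (.node (.leaf 30572544) (.leaf 132710400)) (.node (.leaf 115015680) (.leaf 0))) (.node (.node (.leaf 76374016) (.leaf 0)) (.node (.leaf 114518161) (.leaf 0))))) (.node (.node (.node (.node (.leaf 18079744) (.leaf 161308672)) (.node (.leaf 55402496) (.leaf 0))) (.node (.node (.leaf 30064640) (.leaf 0)) (.node (.leaf 138731520) (.leaf 0)))) (.node (.node (.node (.leaf 42663936) (.leaf 148316160)) (.node (.leaf 95494309) (.leaf 0))) (.node (.node (.leaf 42394725) (.leaf 0)) (.node (.leaf 101163008) (.leaf 0)))))) (.node (.node (.node (.node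 (.node (.leaf 11583488) (.leaf 115515392)) (.node (.leaf 101351424) (.leaf 0))) (.node (.node (.leaf 60096512) (.leaf 0)) (.node (.leaf 115046590) (.leaf 0)))) (.node (.node (.node (.leaf 15622144) (.leaf 152261903)) (.node (.leaf 65789952) (.leaf 0))) (.node (.node (.leaf 81575936) (.leaf 0)) (.node (.leaf 148824064) (.leaf 0))))) (.node (.node (.node (.node (.leaf 24379392) (.leaf 126509056)) (.node (.leaf 58720256) (.leaf 0))) (.node (.node (.leaf 71049216) (.leaf 0)) (.node (.leaf 136808208) (.leaf 0)))) (.node (.node (.node (.leaf 48635904) (.leaf 158908416)) (.node (.leaf 127696896) (.leaf 0))) (.node (.node (.leaf 91619328) (.leaf 0)) (.node (.leaf 105742336) (.leaf 0))))))))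

def e1T6 : NT := .node (.node (.node (.node (.node (.node (.node (.node (.leaf 50897) (.leaf 134427211)) (.node (.leaf 46219264) (.leaf 0))) (.node (.node (.leaf 50085888) (.leaf 164438016)) (.node (.leaf 73949184) (.leaf 0)))) (.node (.node (.node (.leaf 25903104) (.leaf 136173589)) (.node (.leaf 111763456) (.leaf 0))) (.node (.node (.leaf 72376320) (.leaf 0)) (.node (.leaf 89432064) (.leaf 0))))) (.node (.node (.node (.node (.leaf 13180928) (.leaf 116809728)) (.node (.leaf 52887552) (.leaf 0))) (.node (.node (.leaf 27877376) (.leaf 0)) (.node (.leaf 110846212) (.leaf 0)))) (.node (.node (.node (.leaf 16343040) (.leaf 141991936)) (.node (.leaf 120307712) (.leaf 0))) (.node (.node (.leaf 82952192) (.leaf 0)) (.node (.leaf 97763328) (.leaf 0)))))) (.node (.node (.node (.node (.node (.leaf 2670592) (.leaf 111927296)) (.node (.leaf 49577984) (.leaf 0))) (.node (.node (.leaf 55762944) (.leaf 0)) (.node (.leaf 77774848) (.leaf 0)))) (.node (.node (.node (.leaf 32129024) (.leaf 134488064)) (.node (.leaf 63168512)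 (.leaf 0))) (.node (.node (.leaf 45437698) (.leaf 0)) (.node (.leaf 137915711) (.leaf 0))))) (.node (.node (.node (.node (.leaf 19709952) (.leaf 161778459)) (.node (.leaf 81316220) (.leaf 0))) (.node (.node (.leaf 30801920) (.leaf 0)) (.node (.leaf 139722752) (.leaf 0)))) (.node (.node (.node (.leaf 27792386) (.leaf 150896640)) (.node (.leaf 75921380) (.leaf 0))) (.node (.node (.leaf 43040768) (.leaf 0)) (.node (.leaf 102260736) (.leaf 0))))))) (.node (.node (.node (.node (.node (.node (.leaf 3424256) (.leaf 119876727)) (.node (.leaf 47865856) (.leaf 0))) (.node (.node (.leaf 53010432) (.leaf 0)) (.node (.leaf 130531328) (.leaf 0)))) (.node (.node (.node (.leaf 29016064) (.leaf 140877978)) (.node (.leaf 61415424) (.leaf 0))) (.node (.node (.leaf 75030528) (.leaf 0)) (.node (.leaf 144744448) (.leaf 0))))) (.node (.node (.node (.node (.leaf 16449536) (.leaf 159594493)) (.node (.leaf 54542336) (.leaf 0))) (.node (.node (.leaf 29343744) (.leaf 0)) (.node (.leaf 133591501) (.leaf 0)))) (.node (.node (.node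 (.leaf 41197568) (.leaf 146169856)) (.node (.leaf 122527744) (.leaf 0))) (.node (.node (.leaf 85336064) (.leaf 0)) (.node (.leaf 99975168) (.leaf 0)))))) (.node (.node (.node (.node (.node (.leaf 9977856) (.leaf 158679040)) (.node (.leaf 100114432) (.leaf 0))) (.node (.node (.leaf 58638336) (.leaf 0)) (.node (.leaf 79621021) (.leaf 0)))) (.node (.node (.node (.leaf 35176448) (.leaf 158164184)) (.node (.leaf 118358016) (.leaf 0))) (.node (.node (.leaf 39942813) (.leaf 0)) (.node (.leaf 147955712) (.leaf 0))))) (.node (.node (.node (.node (.leaf 22814720) (.leaf 125050880)) (.node (.leaf 109559808) (.leaf 0))) (.node (.node (.leaf 67602966) (.leaf 0)) (.node (.leaf 131157019) (.leaf 0)))) (.node (.node (.node (.leaf 33306059) (.leaf 156008448)) (.node (.leaf 126689280) (.leaf 0))) (.node (.node (.leaf 44670976) (.leaf 0)) (.node (.leaf 104464384) (.leaf 0)))))))) (.node (.node (.node (.node (.node (.node (.node (.leaf 1761280) (.leaf 155795456)) (.node (.leaf 46989312) (.leaf 0))) (.node (.node (.leaf 51544064)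 (.leaf 0)) (.node (.leaf 74874880) (.leaf 0)))) (.node (.node (.node (.leaf 27451392) (.leaf 129499136)) (.node (.leaf 112828416) (.leaf 0))) (.node (.node (.leaf 34578432) (.leaf 0)) (.node (.leaf 90423296) (.leaf 0))))) (.node (.node (.node (.node (.leaf 6021120) (.leaf 160358400)) (.node (.leaf 103579648) (.leaf 0))) (.node (.node (.leaf 62963712) (.leaf 0)) (.node (.leaf 82370560) (.leaf 0)))) (.node (.node (.node (.leaf 22908924) (.leaf 159203559)) (.node (.leaf 105534745) (.leaf 0))) (.node (.node (.leaf 59819422) (.leaf 0)) (.node (.leaf 150306816) (.leaf 0)))))) (.node (.node (.node (.node (.node (.leaf 8339456) (.leaf 158097408)) (.node (.leaf 98926592) (.leaf 0))) (.node (.node (.leaf 57106432) (.leaf 0)) (.node (.leaf 78594048) (.leaf 0)))) (.node (.node (.node (.leaf 33701888) (.leaf 138585490)) (.node (.leaf 117227520) (.leaf 0))) (.node (.node (.leaf 37699584) (.leaf 0)) (.node (.leaf 94617600) (.leaf 0))))) (.node (.node (.node (.node (.leaf 8757248) (.leaf 123723776)) (.node (.leaf 57098240)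 (.leaf 0))) (.node (.node (.leaf 31555584) (.leaf 0)) (.node (.leaf 140705792) (.leaf 0)))) (.node (.node (.node (.leaf 45670400) (.leaf 153059328)) (.node (.leaf 71204864) (.leaf 0))) (.node (.node (.leaf 89186304) (.leaf 0)) (.node (.leaf 153067520) (.leaf 0))))))) (.node (.node (.node (.node (.node (.node (.leaf 3199544) (.leaf 150524731)) (.node (.leaf 96542720) (.leaf 0))) (.node (.node (.leaf 24150016) (.leaf 0)) (.node (.leaf 131579904) (.leaf 0)))) (.node (.node (.node (.leaf 12795904) (.leaf 151111570)) (.node (.leaf 102410682) (.leaf 0))) (.node (.node (.leaf 36110336) (.leaf 0)) (.node (.leaf 145555456) (.leaf 0))))) (.node (.node (.node (.node (.leaf 7380992) (.leaf 161316864)) (.node (.leaf 106053632) (.leaf 0))) (.node (.node (.leaf 65716224) (.leaf 0)) (.node (.leaf 84410368) (.leaf 0)))) (.node (.node (.node (.leaf 18481152) (.leaf 148332544)) (.node (.leaf 123600896) (.leaf 0))) (.node (.node (.leaf 42270720) (.leaf 0)) (.node (.leaf 109234527) (.leaf 0)))))) (.node (.node (.node (.node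 (.node (.leaf 4677632) (.leaf 134637469)) (.node (.leaf 101359616) (.leaf 0))) (.node (.node (.leaf 60112896) (.leaf 0)) (.node (.leaf 80429056) (.leaf 0)))) (.node (.node (.node (.leaf 36773888) (.leaf 152564507)) (.node (.leaf 100914334) (.leaf 0))) (.node (.node (.leaf 39264256) (.leaf 0)) (.node (.leaf 96755712) (.leaf 0))))) (.node (.node (.node (.node (.leaf 24395776) (.leaf 153249018)) (.node (.leaf 105872037) (.leaf 0))) (.node (.node (.leaf 33030144) (.leaf 0)) (.node (.leaf 88424448) (.leaf 0)))) (.node (.node (.node (.leaf 21291008) (.leaf 167940623)) (.node (.leaf 73039872) (.leaf 0))) (.node (.node (.leaf 91627520) (.leaf 0)) (.node (.leaf 141281201) (.leaf 0))))))))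

def e1T7 : NT := .node (.node (.node (.node (.node (.node (.node (.node (.leaf 98304) (.leaf 107012096)) (.node (.leaf 92905472) (.leaf 0))) (.node (.node (.leaf 50102272) (.leaf 164478976)) (.node (.leaf 128696320) (.leaf 0)))) (.node (.node (.node (.leaf 10780672) (.leaf 127959040)) (.node (.leaf 96483996) (.leaf 0))) (.node (.node (.leaf 33824768) (.leaf 0)) (.node (.leaf 89440256) (.leaf 0))))) (.node (.node (.node (.node (.leaf 13197312) (.leaf 116826112)) (.node (.leaf 102481920) (.leaf 0))) (.node (.node (.leaf 61538304) (.leaf 0)) (.node (.leaf 81412096) (.leaf 0)))) (.node (.node (.node (.leaf 38240256) (.leaf 162515238)) (.node (.leaf 81352154) (.leaf 0))) (.node (.node (.leaf 81593093) (.leaf 0)) (.node (.leaf 149520384) (.leaf 0)))))) (.node (.node (.node (.node (.node (.leaf 6701056) (.leaf 111935488)) (.node (.leaf 90790832) (.leaf 0))) (.node (.node (.leaf 24895488) (.leaf 0)) (.node (.leaf 132489216) (.leaf 0)))) (.node (.node (.node (.leaf 32145408) (.leaf 141989739)) (.node (.leaf 116178944)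 (.leaf 0))) (.node (.node (.leaf 36896768) (.leaf 0)) (.node (.leaf 93577216) (.leaf 0))))) (.node (.node (.node (.node (.leaf 19726336) (.leaf 158987879)) (.node (.leaf 56221696) (.leaf 0))) (.node (.node (.leaf 40188796) (.leaf 0)) (.node (.leaf 139730944) (.leaf 0)))) (.node (.node (.node (.leaf 19202048) (.leaf 150913024)) (.node (.leaf 70295552) (.leaf 0))) (.node (.node (.leaf 87900160) (.leaf 0)) (.node (.leaf 102285312) (.leaf 0))))))) (.node (.node (.node (.node (.node (.node (.leaf 3440640) (.leaf 143865844)) (.node (.leaf 95354880) (.leaf 0))) (.node (.node (.leaf 53026816) (.leaf 0)) (.node (.leaf 130539520) (.leaf 0)))) (.node (.node (.node (.leaf 12124160) (.leaf 164716544)) (.node (.leaf 61423616) (.leaf 0))) (.node (.node (.leaf 35332096) (.leaf 0)) (.node (.leaf 91545600) (.leaf 0))))) (.node (.node (.node (.node (.leaf 6709248) (.leaf 141035305)) (.node (.leaf 104767488) (.leaf 0))) (.node (.node (.leaf 34156585) (.leaf 0)) (.node (.leaf 83402752) (.leaf 0)))) (.node (.node (.node (.leaf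 41213952) (.leaf 154315671)) (.node (.leaf 68452352) (.leaf 0))) (.node (.node (.leaf 41467904) (.leaf 0)) (.node (.leaf 106529967) (.leaf 0)))))) (.node (.node (.node (.node (.node (.leaf 6353074) (.leaf 114204672)) (.node (.leaf 51240960) (.leaf 0))) (.node (.node (.leaf 58654720) (.leaf 0)) (.node (.leaf 134275072) (.leaf 0)))) (.node (.node (.node (.leaf 35192832) (.leaf 138002432)) (.node (.leaf 64864256) (.leaf 0))) (.node (.node (.leaf 38535168) (.leaf 0)) (.node (.leaf 128510669) (.leaf 0))))) (.node (.node (.node (.node (.leaf 9445376) (.leaf 131004972)) (.node (.leaf 57933824) (.leaf 0))) (.node (.node (.leaf 32309248) (.leaf 0)) (.node (.leaf 102397834) (.leaf 0)))) (.node (.node (.node (.leaf 20586496) (.leaf 164651161)) (.node (.leaf 72130560) (.leaf 0))) (.node (.node (.leaf 90464256) (.leaf 0)) (.node (.leaf 122754059) (.leaf 0)))))))) (.node (.node (.node (.node (.node (.node (.node (.leaf 688128) (.leaf 126524088)) (.node (.leaf 94216192) (.leaf 0))) (.node (.node (.leaf 22757376) (.leaf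 0)) (.node (.leaf 129622016) (.leaf 0)))) (.node (.node (.node (.leaf 27467776) (.leaf 161921968)) (.node (.leaf 112844800) (.leaf 0))) (.node (.node (.leaf 73719808) (.leaf 0)) (.node (.leaf 143933440) (.leaf 0))))) (.node (.node (.node (.node (.leaf 14819328) (.leaf 118235136)) (.node (.leaf 53723136) (.leaf 0))) (.node (.node (.leaf 28614656) (.leaf 0)) (.node (.leaf 82378752) (.leaf 0)))) (.node (.node (.node (.leaf 17080320) (.leaf 143958016)) (.node (.leaf 67518464) (.leaf 0))) (.node (.node (.leaf 72164669) (.leaf 0)) (.node (.leaf 150315008) (.leaf 0)))))) (.node (.node (.node (.node (.node (.leaf 3342336) (.leaf 130576022)) (.node (.leaf 50405376) (.leaf 0))) (.node (.node (.leaf 57122816) (.leaf 0)) (.node (.leaf 100172756) (.leaf 0)))) (.node (.node (.node (.leaf 14245888) (.leaf 155830918)) (.node (.leaf 64012288) (.leaf 0))) (.node (.node (.leaf 65079639) (.leaf 0)) (.node (.leaf 122742605) (.leaf 0))))) (.node (.node (.node (.node (.leaf 18372061) (.leaf 141216330)) (.node (.leaf 108494848)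 (.leaf 0))) (.node (.node (.leaf 68526080) (.leaf 0)) (.node (.leaf 86433792) (.leaf 0)))) (.node (.node (.node (.leaf 19898368) (.leaf 156240407)) (.node (.leaf 125673472) (.leaf 0))) (.node (.node (.leaf 43851776) (.leaf 0)) (.node (.leaf 103383040) (.leaf 0))))))) (.node (.node (.node (.node (.node (.node (.leaf 5079040) (.leaf 130500102)) (.node (.leaf 48726016) (.leaf 0))) (.node (.node (.leaf 54394880) (.leaf 0)) (.node (.leaf 121603789) (.leaf 0)))) (.node (.node (.node (.leaf 30597120) (.leaf 165076992)) (.node (.leaf 62308352) (.leaf 0))) (.node (.node (.leaf 76390400) (.leaf 0)) (.node (.leaf 145571840) (.leaf 0))))) (.node (.node (.node (.node (.leaf 18104320) (.leaf 120971264)) (.node (.leaf 106070016) (.leaf 0))) (.node (.node (.leaf 30072832) (.leaf 0)) (.node (.leaf 124737634) (.leaf 0)))) (.node (.node (.node (.leaf 42688512) (.leaf 162588514)) (.node (.leaf 96853062) (.leaf 0))) (.node (.node (.leaf 86614016) (.leaf 0)) (.node (.leaf 104149473) (.leaf 0)))))) (.node (.node (.node (.node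 (.node (.leaf 11608064) (.leaf 147268257)) (.node (.leaf 59773413) (.leaf 0))) (.node (.node (.leaf 60129280) (.leaf 0)) (.node (.leaf 80437248) (.leaf 0)))) (.node (.node (.node (.leaf 36790272) (.leaf 140181504)) (.node (.leaf 119382016) (.leaf 0))) (.node (.node (.leaf 81600512) (.leaf 0)) (.node (.leaf 107405470) (.leaf 0))))) (.node (.node (.node (.node (.leaf 10117120) (.leaf 126533632)) (.node (.leaf 58728448) (.leaf 0))) (.node (.node (.leaf 71065600) (.leaf 0)) (.node (.leaf 142376960) (.leaf 0)))) (.node (.node (.node (.leaf 21307392) (.leaf 158990336)) (.node (.leaf 94980734) (.leaf 0))) (.node (.node (.leaf 45449216) (.leaf 0)) (.node (.leaf 143724497) (.leaf 0))))))))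

def e1T8 : NT := .node (.node (.node (.node (.node (.node (.node (.node (.leaf 32768) (.leaf 155107328)) (.node (.leaf 92921856) (.leaf 0))) (.node (.node (.leaf 22011904) (.leaf 167865822)) (.node (.leaf 128712704) (.leaf 0)))) (.node (.node (.node (.leaf 25927680) (.leaf 127967232)) (.node (.leaf 59613184) (.leaf 0))) (.node (.node (.leaf 72392704) (.leaf 0)) (.node (.leaf 112620586) (.leaf 0))))) (.node (.node (.node (.node (.leaf 5365760) (.leaf 116834304)) (.node (.leaf 52903936) (.leaf 0))) (.node (.node (.leaf 61554688) (.leaf 0)) (.node (.leaf 136126464) (.leaf 0)))) (.node (.node (.node (.leaf 38256640) (.leaf 165467867)) (.node (.leaf 66707456) (.leaf 0))) (.node (.node (.leaf 39993344) (.leaf 0)) (.node (.leaf 149536768) (.leaf 0)))))) (.node (.node (.node (.node (.node (.leaf 2678784) (.leaf 111968256)) (.node (.leaf 49586176) (.leaf 0))) (.node (.node (.leaf 24911872) (.leaf 0)) (.node (.leaf 95046676) (.leaf 0)))) (.node (.node (.node (.leaf 13500416) (.leaf 150502095)) (.node (.leaf 63176704)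 (.leaf 0))) (.node (.node (.leaf 77709312) (.leaf 0)) (.node (.leaf 146399232) (.leaf 0))))) (.node (.node (.node (.node (.leaf 8093696) (.leaf 122257408)) (.node (.leaf 107257856) (.leaf 0))) (.node (.node (.leaf 67133440) (.leaf 0)) (.node (.leaf 85426176) (.leaf 0)))) (.node (.node (.node (.leaf 44187648) (.leaf 150962176)) (.node (.leaf 124600320) (.leaf 0))) (.node (.node (.leaf 87916544) (.leaf 0)) (.node (.leaf 103683923) (.leaf 0))))))) (.node (.node (.node (.node (.node (.node (.leaf 1351680) (.leaf 126053599)) (.node (.leaf 47874048) (.leaf 0))) (.node (.node (.leaf 23470080) (.leaf 0)) (.node (.leaf 75866112) (.leaf 0)))) (.node (.node (.node (.leaf 29040640) (.leaf 131309568)) (.node (.leaf 85256714) (.leaf 0))) (.node (.node (.leaf 75055104) (.leaf 0)) (.node (.leaf 123956009) (.leaf 0))))) (.node (.node (.node (.node (.leaf 16474112) (.leaf 160907264)) (.node (.leaf 104783872) (.leaf 0))) (.node (.node (.leaf 29360128) (.leaf 0)) (.node (.leaf 118252277) (.leaf 0)))) (.node (.node (.node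 (.leaf 17793024) (.leaf 166512287)) (.node (.leaf 100055229) (.leaf 0))) (.node (.node (.leaf 85360640) (.leaf 0)) (.node (.leaf 99991552) (.leaf 0)))))) (.node (.node (.node (.node (.node (.leaf 4022272) (.leaf 158687232)) (.node (.leaf 100130816) (.leaf 0))) (.node (.node (.leaf 26435584) (.leaf 0)) (.node (.leaf 100768007) (.leaf 0)))) (.node (.node (.node (.leaf 14950400) (.leaf 166191104)) (.node (.leaf 118374400) (.leaf 0))) (.node (.node (.leaf 40222720) (.leaf 0)) (.node (.leaf 95698944) (.leaf 0))))) (.node (.node (.node (.node (.leaf 22839296) (.leaf 125067264)) (.node (.leaf 109584384) (.leaf 0))) (.node (.node (.leaf 69754880) (.leaf 0)) (.node (.leaf 87416832) (.leaf 0)))) (.node (.node (.node (.leaf 47185920) (.leaf 158748947)) (.node (.leaf 126705664) (.leaf 0))) (.node (.node (.leaf 55635035) (.leaf 0)) (.node (.leaf 141665185) (.leaf 0)))))))) (.node (.node (.node (.node (.node (.node (.node (.leaf 1785856) (.leaf 108175360)) (.node (.leaf 91186466) (.leaf 0))) (.node (.node (.leaf 51560448)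 (.leaf 0)) (.node (.leaf 119431926) (.leaf 0)))) (.node (.node (.node (.leaf 11444224) (.leaf 158522453)) (.node (.leaf 85058058) (.leaf 0))) (.node (.node (.leaf 34586624) (.leaf 0)) (.node (.leaf 143941632) (.leaf 0))))) (.node (.node (.node (.node (.leaf 14835712) (.leaf 133228258)) (.node (.leaf 53731328) (.leaf 0))) (.node (.node (.leaf 60765567) (.leaf 0)) (.node (.leaf 82426566) (.leaf 0)))) (.node (.node (.node (.leaf 39714816) (.leaf 149475710)) (.node (.leaf 69360130) (.leaf 0))) (.node (.node (.leaf 40755200) (.leaf 0)) (.node (.leaf 98852864) (.leaf 0)))))) (.node (.node (.node (.node (.node (.leaf 8364032) (.leaf 113098752)) (.node (.leaf 86586670) (.leaf 0))) (.node (.node (.leaf 25665536) (.leaf 0)) (.node (.leaf 133423104) (.leaf 0)))) (.node (.node (.node (.leaf 33726464) (.leaf 139871422)) (.node (.leaf 117243904) (.leaf 0))) (.node (.node (.leaf 37707776) (.leaf 0)) (.node (.leaf 132178154) (.leaf 0))))) (.node (.node (.node (.node (.leaf 21315584) (.leaf 123740160)) (.node (.leaf 66394365)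 (.leaf 0))) (.node (.node (.leaf 68534272) (.leaf 0)) (.node (.leaf 121437161) (.leaf 0)))) (.node (.node (.node (.leaf 45686784) (.leaf 166411022)) (.node (.leaf 125681664) (.leaf 0))) (.node (.node (.leaf 89210880) (.leaf 0)) (.node (.leaf 117566333) (.leaf 0))))))) (.node (.node (.node (.node (.node (.node (.leaf 2015232) (.leaf 126327291)) (.node (.leaf 70323102) (.leaf 0))) (.node (.node (.leaf 54411264) (.leaf 0)) (.node (.leaf 131596288) (.leaf 0)))) (.node (.node (.node (.leaf 12804096) (.leaf 132751360)) (.node (.leaf 115048448) (.leaf 0))) (.node (.node (.leaf 36118528) (.leaf 0)) (.node (.leaf 92610560) (.leaf 0))))) (.node (.node (.node (.node (.leaf 18120704) (.leaf 161333248)) (.node (.leaf 55418880) (.leaf 0))) (.node (.node (.leaf 65740800) (.leaf 0)) (.node (.leaf 84418560) (.leaf 0)))) (.node (.node (.node (.leaf 18489344) (.leaf 167542784)) (.node (.leaf 69378048) (.leaf 0))) (.node (.node (.leaf 42287104) (.leaf 0)) (.node (.leaf 115348983) (.leaf 0)))))) (.node (.node (.node (.node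 (.node (.leaf 11624448) (.leaf 115548160)) (.node (.leaf 52076544) (.leaf 0))) (.node (.node (.leaf 27148288) (.leaf 0)) (.node (.leaf 135233536) (.leaf 0)))) (.node (.node (.node (.leaf 15638528) (.leaf 166559744)) (.node (.leaf 81151682) (.leaf 0))) (.node (.node (.leaf 39280640) (.leaf 0)) (.node (.leaf 130056936) (.leaf 0))))) (.node (.node (.node (.node (.leaf 24420352) (.leaf 163307520)) (.node (.leaf 110706688) (.leaf 0))) (.node (.node (.leaf 71073792) (.leaf 0)) (.node (.leaf 88440832) (.leaf 0)))) (.node (.node (.node (.leaf 37503130) (.leaf 159039488)) (.node (.leaf 127721472) (.leaf 0))) (.node (.node (.leaf 91643904) (.leaf 0)) (.node (.leaf 154468352) (.leaf 0))))))))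

def e1T9 : NT := .node (.node (.node (.node (.node (.node (.node (.node (.leaf 122880) (.leaf 155115520)) (.node (.leaf 92938240) (.leaf 0))) (.node (.node (.leaf 50126848) (.leaf 164528128)) (.node (.leaf 128729088) (.leaf 0)))) (.node (.node (.node (.leaf 16761953) (.leaf 157087909)) (.node (.leaf 111788032) (.leaf 0))) (.node (.node (.leaf 72409088) (.leaf 0)) (.node (.leaf 89456640) (.leaf 0))))) (.node (.node (.node (.node (.leaf 13221888) (.leaf 159744000)) (.node (.leaf 102498304) (.leaf 0))) (.node (.node (.leaf 27893760) (.leaf 0)) (.node (.leaf 125211349) (.leaf 0)))) (.node (.node (.node (.leaf 16359424) (.leaf 142016512)) (.node (.leaf 120332288) (.leaf 0))) (.node (.node (.leaf 82984960) (.leaf 0)) (.node (.leaf 97787904) (.leaf 0)))))) (.node (.node (.node (.node (.node (.leaf 6725632) (.leaf 111976448)) (.node (.leaf 97738752) (.leaf 0))) (.node (.node (.leaf 24920064) (.leaf 0)) (.node (.leaf 77799424) (.leaf 0)))) (.node (.node (.node (.leaf 32169984) (.leaf 134537216)) (.node (.leaf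 116203520) (.leaf 0))) (.node (.node (.leaf 36913152) (.leaf 0)) (.node (.leaf 146415616) (.leaf 0))))) (.node (.node (.node (.node (.leaf 19750912) (.leaf 161890304)) (.node (.leaf 63887409) (.leaf 0))) (.node (.node (.leaf 30818304) (.leaf 0)) (.node (.leaf 139739136) (.leaf 0)))) (.node (.node (.node (.leaf 44204032) (.leaf 163185459)) (.node (.leaf 70303744) (.leaf 0))) (.node (.node (.leaf 43065344) (.leaf 0)) (.node (.leaf 102293504) (.leaf 0))))))) (.node (.node (.node (.node (.node (.node (.leaf 3465216) (.leaf 109453312)) (.node (.leaf 95379456) (.leaf 0))) (.node (.node (.leaf 53051392) (.leaf 0)) (.node (.leaf 107960065) (.leaf 0)))) (.node (.node (.node (.leaf 12132352) (.leaf 164724736)) (.node (.leaf 113975296) (.leaf 0))) (.node (.node (.leaf 75071488) (.leaf 0)) (.node (.leaf 91553792) (.leaf 0))))) (.node (.node (.node (.node (.leaf 6717440) (.leaf 153584452)) (.node (.leaf 54558720) (.leaf 0))) (.node (.node (.leaf 64307200) (.leaf 0)) (.node (.leaf 137904128) (.leaf 0)))) (.node (.node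 (.node (.leaf 41238528) (.leaf 147735142)) (.node (.leaf 68460544) (.leaf 0))) (.node (.node (.leaf 85377024) (.leaf 0)) (.node (.leaf 103884810) (.leaf 0)))))) (.node (.node (.node (.node (.node (.leaf 10010624) (.leaf 157042672)) (.node (.leaf 99631475) (.leaf 0))) (.node (.node (.leaf 58679296) (.leaf 0)) (.node (.leaf 98730560) (.leaf 0)))) (.node (.node (.node (.leaf 35217408) (.leaf 150352421)) (.node (.leaf 64872448) (.leaf 0))) (.node (.node (.leaf 38551552) (.leaf 0)) (.node (.leaf 95707136) (.leaf 0))))) (.node (.node (.node (.node (.leaf 9453568) (.leaf 125616549)) (.node (.leaf 57950208) (.leaf 0))) (.node (.node (.leaf 32325632) (.leaf 0)) (.node (.leaf 141516800) (.leaf 0)))) (.node (.node (.node (.leaf 47202304) (.leaf 156024832)) (.node (.leaf 126713856) (.leaf 0))) (.node (.node (.leaf 44695552) (.leaf 0)) (.node (.leaf 153821184) (.leaf 0)))))))) (.node (.node (.node (.node (.node (.node (.node (.leaf 1802240) (.leaf 132519390)) (.node (.leaf 47005696) (.leaf 0))) (.node (.node (.leaf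 22765568) (.leaf 0)) (.node (.leaf 129630208) (.leaf 0)))) (.node (.node (.node (.leaf 11452416) (.leaf 153536626)) (.node (.leaf 60489728) (.leaf 0))) (.node (.node (.leaf 73736192) (.leaf 0)) (.node (.leaf 90456064) (.leaf 0))))) (.node (.node (.node (.node (.leaf 6037504) (.leaf 146377144)) (.node (.leaf 58469978) (.leaf 0))) (.node (.node (.leaf 62988288) (.leaf 0)) (.node (.leaf 137035776) (.leaf 0)))) (.node (.node (.node (.leaf 17088512) (.leaf 143974400)) (.node (.leaf 69317279) (.leaf 0))) (.node (.node (.leaf 84205568) (.leaf 0)) (.node (.leaf 150331392) (.leaf 0)))))) (.node (.node (.node (.node (.node (.leaf 3350528) (.leaf 151683543)) (.node (.leaf 98959360) (.leaf 0))) (.node (.node (.leaf 57131008) (.leaf 0)) (.node (.leaf 81670297) (.leaf 0)))) (.node (.node (.node (.leaf 14254080) (.leaf 136216576)) (.node (.leaf 109568222) (.leaf 0))) (.node (.node (.leaf 78962688) (.leaf 0)) (.node (.leaf 129925529) (.leaf 0))))) (.node (.node (.node (.node (.leaf 8773632) (.leaf 129434846)) (.node (.leaf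 57114624) (.leaf 0))) (.node (.node (.leaf 60805165) (.leaf 0)) (.node (.leaf 140713984) (.leaf 0)))) (.node (.node (.node (.leaf 45703168) (.leaf 153092096)) (.node (.leaf 71221248) (.leaf 0))) (.node (.node (.leaf 89227264) (.leaf 0)) (.node (.leaf 153083904) (.leaf 0))))))) (.node (.node (.node (.node (.node (.node (.leaf 5103616) (.leaf 110731264)) (.node (.leaf 48734208) (.leaf 0))) (.node (.node (.leaf 24166400) (.leaf 0)) (.node (.leaf 128004142) (.leaf 0)))) (.node (.node (.node (.leaf 30621696) (.leaf 160604373)) (.node (.leaf 62316544) (.leaf 0))) (.node (.node (.leaf 76414976) (.leaf 0)) (.node (.leaf 93474735) (.leaf 0))))) (.node (.node (.node (.node (.leaf 7397376) (.leaf 161341440)) (.node (.leaf 55427072) (.leaf 0))) (.node (.node (.leaf 65757184) (.leaf 0)) (.node (.leaf 138764288) (.leaf 0)))) (.node (.node (.node (.leaf 42704896) (.leaf 148373504)) (.node (.leaf 95462081) (.leaf 0))) (.node (.node (.leaf 86638592) (.leaf 0)) (.node (.leaf 112009583) (.leaf 0)))))) (.node (.node (.node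 (.node (.node (.leaf 4694016) (.leaf 153080128)) (.node (.leaf 101384192) (.leaf 0))) (.node (.node (.leaf 42788193) (.leaf 0)) (.node (.leaf 135249920) (.leaf 0)))) (.node (.node (.node (.leaf 36814848) (.leaf 142715113)) (.node (.leaf 65839104) (.leaf 0))) (.node (.node (.leaf 81616896) (.leaf 0)) (.node (.leaf 96772096) (.leaf 0))))) (.node (.node (.node (.node (.leaf 10125312) (.leaf 140647214)) (.node (.leaf 110714880) (.leaf 0))) (.node (.node (.leaf 33046528) (.leaf 0)) (.node (.leaf 102952882) (.leaf 0)))) (.node (.node (.node (.leaf 21323776) (.leaf 164177385)) (.node (.leaf 73056256) (.leaf 0))) (.node (.node (.leaf 68367518) (.leaf 0)) (.node (.leaf 105766912) (.leaf 0))))))))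

def e1T10 : NT := .node (.node (.node (.node (.node (.node (.node (.node (.leaf 139264) (.leaf 132801140)) (.node (.leaf 46252032) (.leaf 0))) (.node (.node (.leaf 35783395) (.leaf 165032340)) (.node (.leaf 73973760) (.leaf 0)))) (.node (.node (.node (.leaf 10797056) (.leaf 154668235)) (.node (.leaf 100219919) (.leaf 0))) (.node (.node (.leaf 33841152) (.leaf 0)) (.node (.leaf 99246629) (.leaf 0))))) (.node (.node (.node (.node (.leaf 13238272) (.leaf 139359576)) (.node (.leaf 59421800) (.leaf 0))) (.node (.node (.leaf 27901952) (.leaf 0)) (.node (.leaf 81428480) (.leaf 0)))) (.node (.node (.node (.leaf 38273024) (.leaf 142032896)) (.node (.leaf 120348672) (.leaf 0))) (.node (.node (.leaf 66277831) (.leaf 0)) (.node (.leaf 149553152) (.leaf 0)))))) (.node (.node (.node (.node (.node (.leaf 2695168) (.leaf 157275148)) (.node (.leaf 97755136) (.leaf 0))) (.node (.node (.leaf 55795712) (.leaf 0)) (.node (.leaf 121661874) (.leaf 0)))) (.node (.node (.node (.leaf 32186368) (.leaf 165502976)) (.node (.leaf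 116211712) (.leaf 0))) (.node (.node (.leaf 77733888) (.leaf 0)) (.node (.leaf 93609984) (.leaf 0))))) (.node (.node (.node (.node (.leaf 8101888) (.leaf 122265600)) (.node (.leaf 56238080) (.leaf 0))) (.node (.node (.leaf 67158016) (.leaf 0)) (.node (.leaf 85442560) (.leaf 0)))) (.node (.node (.node (.leaf 19218432) (.leaf 160539487)) (.node (.leaf 105781533) (.leaf 0))) (.node (.node (.leaf 87932928) (.leaf 0)) (.node (.leaf 135284125) (.leaf 0))))))) (.node (.node (.node (.node (.node (.node (.leaf 1359872) (.leaf 109461504)) (.node (.leaf 95387648) (.leaf 0))) (.node (.node (.leaf 23478272) (.leaf 0)) (.node (.leaf 75874304) (.leaf 0)))) (.node (.node (.node (.leaf 29065216) (.leaf 131317760)) (.node (.leaf 97990326) (.leaf 0))) (.node (.node (.leaf 41130701) (.leaf 0)) (.node (.leaf 117548458) (.leaf 0))))) (.node (.node (.node (.node (.leaf 16490496) (.leaf 145547916)) (.node (.leaf 104792064) (.leaf 0))) (.node (.node (.leaf 64323584) (.leaf 0)) (.node (.leaf 83451904) (.leaf 0)))) (.node (.node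 (.node (.leaf 41254912) (.leaf 155972406)) (.node (.leaf 68468736) (.leaf 0))) (.node (.node (.leaf 41484288) (.leaf 0)) (.node (.leaf 151085056) (.leaf 0)))))) (.node (.node (.node (.node (.node (.leaf 4030464) (.leaf 144804474)) (.node (.leaf 51257344) (.leaf 0))) (.node (.node (.leaf 26443776) (.leaf 0)) (.node (.leaf 119163511) (.leaf 0)))) (.node (.node (.node (.leaf 14958592) (.leaf 162724290)) (.node (.leaf 118390784) (.leaf 0))) (.node (.node (.leaf 62640483) (.leaf 0)) (.node (.leaf 147980288) (.leaf 0))))) (.node (.node (.node (.node (.leaf 22855680) (.leaf 125091840)) (.node (.leaf 109600768) (.leaf 0))) (.node (.node (.leaf 33451178) (.leaf 0)) (.node (.leaf 141524992) (.leaf 0)))) (.node (.node (.node (.leaf 20602880) (.leaf 156057600)) (.node (.leaf 72146944) (.leaf 0))) (.node (.node (.leaf 90497024) (.leaf 0)) (.node (.leaf 112335025) (.leaf 0)))))))) (.node (.node (.node (.node (.node (.node (.node (.leaf 704512) (.leaf 108183552)) (.node (.leaf 47013888) (.leaf 0))) (.node (.node (.leaf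 51576832) (.leaf 0)) (.node (.leaf 74899456) (.leaf 0)))) (.node (.node (.node (.leaf 11468800) (.leaf 129564672)) (.node (.leaf 74573359) (.leaf 0))) (.node (.node (.leaf 34603008) (.leaf 0)) (.node (.leaf 109987936) (.leaf 0))))) (.node (.node (.node (.node (.leaf 14852096) (.leaf 119655061)) (.node (.leaf 87836399) (.leaf 0))) (.node (.node (.leaf 28631040) (.leaf 0)) (.node (.leaf 82395136) (.leaf 0)))) (.node (.node (.node (.leaf 39731200) (.leaf 167174144)) (.node (.leaf 67534848) (.leaf 0))) (.node (.node (.leaf 40771584) (.leaf 0)) (.node (.leaf 98861056) (.leaf 0)))))) (.node (.node (.node (.node (.node (.leaf 8388608) (.leaf 135514845)) (.node (.leaf 50421760) (.leaf 0))) (.node (.node (.leaf 57147392) (.leaf 0)) (.node (.leaf 78643200) (.leaf 0)))) (.node (.node (.node (.leaf 33742848) (.leaf 145954356)) (.node (.leaf 64028672) (.leaf 0))) (.node (.node (.leaf 37724160) (.leaf 0)) (.node (.leaf 94666752) (.leaf 0))))) (.node (.node (.node (.node (.leaf 21340160) (.leaf 123748352)) (.node (.leaf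 103853482) (.leaf 0))) (.node (.node (.leaf 31580160) (.leaf 0)) (.node (.leaf 86450176) (.leaf 0)))) (.node (.node (.node (.leaf 19914752) (.leaf 153133056)) (.node (.leaf 90019678) (.leaf 0))) (.node (.node (.leaf 43868160) (.leaf 0)) (.node (.leaf 115394205) (.leaf 0))))))) (.node (.node (.node (.node (.node (.node (.leaf 2023424) (.leaf 110747648)) (.node (.leaf 96575488) (.leaf 0))) (.node (.node (.leaf 54435840) (.leaf 0)) (.node (.leaf 119127060) (.leaf 0)))) (.node (.node (.node (.leaf 30638080) (.leaf 165085184)) (.node (.leaf 115073024) (.leaf 0))) (.node (.node (.leaf 36134912) (.leaf 0)) (.node (.leaf 92618752) (.leaf 0))))) (.node (.node (.node (.node (.leaf 18145280) (.leaf 160348347)) (.node (.leaf 106102784) (.leaf 0))) (.node (.node (.leaf 30089216) (.leaf 0)) (.node (.leaf 138772480) (.leaf 0)))) (.node (.node (.node (.leaf 18505728) (.leaf 148398080)) (.node (.leaf 69386240) (.leaf 0))) (.node (.node (.leaf 42303488) (.leaf 0)) (.node (.leaf 101203968) (.leaf 0)))))) (.node (.node (.node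 (.node (.node (.leaf 11640832) (.leaf 143767089)) (.node (.leaf 55154005) (.leaf 0))) (.node (.node (.leaf 60162048) (.leaf 0)) (.node (.leaf 80453632) (.leaf 0)))) (.node (.node (.node (.leaf 36831232) (.leaf 140197888)) (.node (.leaf 93854661) (.leaf 0))) (.node (.node (.leaf 39288832) (.leaf 0)) (.node (.leaf 143953206) (.leaf 0))))) (.node (.node (.node (.node (.leaf 24444928) (.leaf 126582784)) (.node (.leaf 58744832) (.leaf 0))) (.node (.node (.leaf 71098368) (.leaf 0)) (.node (.leaf 88449024) (.leaf 0)))) (.node (.node (.node (.leaf 48685056) (.leaf 159055872)) (.node (.leaf 127737856) (.leaf 0))) (.node (.node (.leaf 91668480) (.leaf 0)) (.node (.leaf 154484736) (.leaf 0))))))))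

def e1T11 : NT := .node (.node (.node (.node (.node (.node (.node (.node (.leaf 155648) (.leaf 145309889)) (.node (.leaf 92962816) (.leaf 0))) (.node (.node (.leaf 22028288) (.leaf 167839114)) (.node (.leaf 128753664) (.leaf 0)))) (.node (.node (.node (.leaf 25960448) (.leaf 128008192)) (.node (.leaf 59645952) (.leaf 0))) (.node (.node (.leaf 72433664) (.leaf 0)) (.node (.leaf 129460196) (.leaf 0))))) (.node (.node (.node (.node (.leaf 5382144) (.leaf 159752192)) (.node (.leaf 52920320) (.leaf 0))) (.node (.node (.leaf 61587456) (.leaf 0)) (.node (.leaf 105345279) (.leaf 0)))) (.node (.node (.node (.leaf 16367616) (.leaf 155200445)) (.node (.leaf 68116480) (.leaf 0))) (.node (.node (.leaf 40009728) (.leaf 0)) (.node (.leaf 149569536) (.leaf 0)))))) (.node (.node (.node (.node (.node (.leaf 6750208) (.leaf 157638656)) (.node (.leaf 97771520) (.leaf 0))) (.node (.node (.leaf 55812096) (.leaf 0)) (.node (.leaf 132505600) (.leaf 0)))) (.node (.node (.node (.leaf 13516800) (.leaf 157264339)) (.node (.leaf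 63193088) (.leaf 0))) (.node (.node (.leaf 64099594) (.leaf 0)) (.node (.leaf 146440192) (.leaf 0))))) (.node (.node (.node (.node (.leaf 19775488) (.leaf 150687302)) (.node (.leaf 107290624) (.leaf 0))) (.node (.node (.leaf 32296969) (.leaf 0)) (.node (.leaf 136469479) (.leaf 0)))) (.node (.node (.node (.leaf 44220416) (.leaf 167271096)) (.node (.leaf 124633088) (.leaf 0))) (.node (.node (.leaf 64267527) (.leaf 0)) (.node (.leaf 112920820) (.leaf 0))))))) (.node (.node (.node (.node (.node (.node (.leaf 2188725) (.leaf 156434432)) (.node (.leaf 47890432) (.leaf 0))) (.node (.node (.leaf 53075968) (.leaf 0)) (.node (.leaf 130555904) (.leaf 0)))) (.node (.node (.node (.leaf 12148736) (.leaf 157774516)) (.node (.leaf 113983488) (.leaf 0))) (.node (.node (.leaf 35356672) (.leaf 0)) (.node (.leaf 144793600) (.leaf 0))))) (.node (.node (.node (.node (.leaf 16506880) (.leaf 119627776)) (.node (.leaf 104808448) (.leaf 0))) (.node (.node (.leaf 64339968) (.leaf 0)) (.node (.leaf 98511240) (.leaf 0)))) (.node (.node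 (.node (.leaf 17809408) (.leaf 167337984)) (.node (.leaf 71299665) (.leaf 0))) (.node (.node (.leaf 41492480) (.leaf 0)) (.node (.leaf 120068538) (.leaf 0)))))) (.node (.node (.node (.node (.node (.leaf 10035200) (.leaf 114245632)) (.node (.leaf 100155392) (.leaf 0))) (.node (.node (.leaf 56676562) (.leaf 0)) (.node (.leaf 79560704) (.leaf 0)))) (.node (.node (.node (.leaf 14966784) (.leaf 166199296)) (.node (.leaf 64888832) (.leaf 0))) (.node (.node (.leaf 80297984) (.leaf 0)) (.node (.leaf 106659889) (.leaf 0))))) (.node (.node (.node (.node (.leaf 9461760) (.leaf 125100032)) (.node (.leaf 57966592) (.leaf 0))) (.node (.node (.leaf 32333824) (.leaf 0)) (.node (.leaf 87433216) (.leaf 0)))) (.node (.node (.node (.leaf 47226880) (.leaf 156073984)) (.node (.leaf 108979123) (.leaf 0))) (.node (.node (.leaf 44703744) (.leaf 0)) (.node (.leaf 104546304) (.leaf 0)))))))) (.node (.node (.node (.node (.node (.node (.node (.leaf 1826816) (.leaf 143487197)) (.node (.leaf 94257152) (.leaf 0))) (.node (.node (.leaf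 51593216) (.leaf 0)) (.node (.leaf 129646592) (.leaf 0)))) (.node (.node (.node (.leaf 27508736) (.leaf 164143104)) (.node (.leaf 112877568) (.leaf 0))) (.node (.node (.leaf 73760768) (.leaf 0)) (.node (.leaf 143966208) (.leaf 0))))) (.node (.node (.node (.node (.leaf 14868480) (.leaf 156464206)) (.node (.leaf 103604224) (.leaf 0))) (.node (.node (.leaf 63012864) (.leaf 0)) (.node (.leaf 137043968) (.leaf 0)))) (.node (.node (.node (.leaf 39747584) (.leaf 167182336)) (.node (.leaf 115672357) (.leaf 0))) (.node (.node (.leaf 84230144) (.leaf 0)) (.node (.leaf 135937082) (.leaf 0)))))) (.node (.node (.node (.node (.node (.leaf 8404992) (.leaf 113131520)) (.node (.leaf 98983936) (.leaf 0))) (.node (.node (.leaf 57163776) (.leaf 0)) (.node (.leaf 133439488) (.leaf 0)))) (.node (.node (.node (.leaf 14270464) (.leaf 162796364)) (.node (.leaf 73438922) (.leaf 0))) (.node (.node (.leaf 78987264) (.leaf 0)) (.node (.leaf 100707634) (.leaf 0))))) (.node (.node (.node (.node (.leaf 21356544) (.leaf 133636747)) (.node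 (.leaf 82232223) (.leaf 0))) (.node (.node (.leaf 68558848) (.leaf 0)) (.node (.leaf 140448988) (.leaf 0)))) (.node (.node (.node (.leaf 45727744) (.leaf 153149440)) (.node (.leaf 125706240) (.leaf 0))) (.node (.node (.leaf 89243648) (.leaf 0)) (.node (.leaf 103415808) (.leaf 0))))))) (.node (.node (.node (.node (.node (.node (.leaf 5128192) (.leaf 126165954)) (.node (.leaf 48750592) (.leaf 0))) (.node (.node (.leaf 24174592) (.leaf 0)) (.node (.leaf 131629056) (.leaf 0)))) (.node (.node (.node (.leaf 12820480) (.leaf 153567443)) (.node (.leaf 115081216) (.leaf 0))) (.node (.node (.leaf 76431360) (.leaf 0)) (.node (.leaf 141709818) (.leaf 0))))) (.node (.node (.node (.node (.leaf 7405568) (.leaf 156372571)) (.node (.leaf 55443456) (.leaf 0))) (.node (.node (.leaf 65773568) (.leaf 0)) (.node (.leaf 138788864) (.leaf 0)))) (.node (.node (.node (.leaf 18522112) (.leaf 156377919)) (.node (.leaf 123625472) (.leaf 0))) (.node (.node (.leaf 42319872) (.leaf 0)) (.node (.leaf 110999909) (.leaf 0)))))) (.node (.node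 (.node (.node (.node (.leaf 4702208) (.leaf 115580928)) (.node (.leaf 101400576) (.leaf 0))) (.node (.node (.leaf 27164672) (.leaf 0)) (.node (.leaf 135274496) (.leaf 0)))) (.node (.node (.node (.leaf 15654912) (.leaf 166584320)) (.node (.leaf 107965090) (.leaf 0))) (.node (.node (.leaf 81633280) (.leaf 0)) (.node (.leaf 96796672) (.leaf 0))))) (.node (.node (.node (.node (.leaf 10141696) (.leaf 126599168)) (.node (.leaf 110739456) (.leaf 0))) (.node (.node (.leaf 33071104) (.leaf 0)) (.node (.leaf 88457216) (.leaf 0)))) (.node (.node (.node (.leaf 21331968) (.leaf 163059800)) (.node (.leaf 73064448) (.leaf 0))) (.node (.node (.leaf 45473792) (.leaf 0)) (.node (.leaf 105783296) (.leaf 0))))))))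

def e1T12 : NT := .node (.node (.node (.node (.node (.node (.node (.node (.leaf 57344) (.leaf 107053056)) (.node (.leaf 92979200) (.leaf 0))) (.node (.node (.leaf 48815260) (.leaf 166209562)) (.node (.leaf 107025918) (.leaf 0)))) (.node (.node (.node (.leaf 10805248) (.leaf 128049152)) (.node (.leaf 82043804) (.leaf 0))) (.node (.node (.leaf 50342015) (.leaf 0)) (.node (.leaf 89481216) (.leaf 0))))) (.node (.node (.node (.node (.leaf 13254656) (.leaf 117983337)) (.node (.leaf 102514688) (.leaf 0))) (.node (.node (.leaf 61603840) (.leaf 0)) (.node (.leaf 81444864) (.leaf 0)))) (.node (.node (.node (.leaf 38289408) (.leaf 142041088)) (.node (.leaf 66748416) (.leaf 0))) (.node (.node (.leaf 83017728) (.leaf 0)) (.node (.leaf 130390670) (.leaf 0)))))) (.node (.node (.node (.node (.node (.leaf 6766592) (.leaf 112001024)) (.node (.leaf 49610752) (.leaf 0))) (.node (.node (.leaf 24936448) (.leaf 0)) (.node (.leaf 77815808) (.leaf 0)))) (.node (.node (.node (.leaf 32210944) (.leaf 154758228)) (.node (.leaf 116219904)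 (.leaf 0))) (.node (.node (.leaf 36929536) (.leaf 0)) (.node (.leaf 124170511) (.leaf 0))))) (.node (.node (.node (.node (.leaf 8118272) (.leaf 122290176)) (.node (.leaf 56246272) (.leaf 0))) (.node (.node (.leaf 30834688) (.leaf 0)) (.node (.leaf 128271368) (.leaf 0)))) (.node (.node (.node (.leaf 19226624) (.leaf 160871224)) (.node (.leaf 124649472) (.leaf 0))) (.node (.node (.leaf 43081728) (.leaf 0)) (.node (.leaf 102326272) (.leaf 0))))))) (.node (.node (.node (.node (.node (.node (.leaf 3489792) (.leaf 109477888)) (.node (.leaf 47906816) (.leaf 0))) (.node (.node (.leaf 23494656) (.leaf 0)) (.node (.leaf 124520028) (.leaf 0)))) (.node (.node (.node (.leaf 29081600) (.leaf 146018450)) (.node (.leaf 113991680) (.leaf 0))) (.node (.node (.leaf 71940640) (.leaf 0)) (.node (.leaf 91570176) (.leaf 0))))) (.node (.node (.node (.node (.leaf 6733824) (.leaf 140595483)) (.node (.leaf 104824832) (.leaf 0))) (.node (.node (.leaf 29384704) (.leaf 0)) (.node (.leaf 137920512) (.leaf 0)))) (.node (.node (.node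 (.leaf 41271296) (.leaf 146325504)) (.node (.leaf 114547555) (.leaf 0))) (.node (.node (.leaf 41500672) (.leaf 0)) (.node (.leaf 124388202) (.leaf 0)))))) (.node (.node (.node (.node (.node (.leaf 6746290) (.leaf 151672466)) (.node (.leaf 100163584) (.leaf 0))) (.node (.node (.leaf 58712064) (.leaf 0)) (.node (.leaf 134316032) (.leaf 0)))) (.node (.node (.node (.leaf 35250176) (.leaf 138076160)) (.node (.leaf 118407168) (.leaf 0))) (.node (.node (.leaf 38567936) (.leaf 0)) (.node (.leaf 95731712) (.leaf 0))))) (.node (.node (.node (.node (.leaf 22880256) (.leaf 156615128)) (.node (.leaf 109608960) (.leaf 0))) (.node (.node (.leaf 69795840) (.leaf 0)) (.node (.leaf 141533184) (.leaf 0)))) (.node (.node (.node (.leaf 47235072) (.leaf 163589310)) (.node (.leaf 98666338) (.leaf 0))) (.node (.node (.leaf 72802463) (.leaf 0)) (.node (.leaf 135474182) (.leaf 0)))))))) (.node (.node (.node (.node (.node (.node (.node (.leaf 1843200) (.leaf 108191744)) (.node (.leaf 52462466) (.leaf 0))) (.node (.node (.leaf 51601408)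 (.leaf 0)) (.node (.leaf 74907648) (.leaf 0)))) (.node (.node (.node (.leaf 27525120) (.leaf 129597440)) (.node (.leaf 112893952) (.leaf 0))) (.node (.node (.leaf 34611200) (.leaf 0)) (.node (.leaf 107730282) (.leaf 0))))) (.node (.node (.node (.node (.leaf 6053888) (.leaf 118308864)) (.node (.leaf 53755904) (.leaf 0))) (.node (.node (.leaf 28639232) (.leaf 0)) (.node (.leaf 137052160) (.leaf 0)))) (.node (.node (.node (.leaf 17104896) (.leaf 144089088)) (.node (.leaf 95864946) (.leaf 0))) (.node (.node (.leaf 40779776) (.leaf 0)) (.node (.leaf 98877440) (.leaf 0)))))) (.node (.node (.node (.node (.node (.leaf 3366912) (.leaf 136825406)) (.node (.leaf 99000320) (.leaf 0))) (.node (.node (.leaf 25698304) (.leaf 0)) (.node (.leaf 133447680) (.leaf 0)))) (.node (.node (.node (.leaf 33767424) (.leaf 159217778)) (.node (.leaf 64036864) (.leaf 0))) (.node (.node (.leaf 37740544) (.leaf 0)) (.node (.leaf 94674944) (.leaf 0))))) (.node (.node (.node (.node (.leaf 8790016) (.leaf 123772928)) (.node (.leaf 57139200)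 (.leaf 0))) (.node (.node (.leaf 68575232) (.leaf 0)) (.node (.leaf 86458368) (.leaf 0)))) (.node (.node (.node (.leaf 19922944) (.leaf 153165824)) (.node (.leaf 125722624) (.leaf 0))) (.node (.node (.leaf 89260032) (.leaf 0)) (.node (.leaf 152540410) (.leaf 0))))))) (.node (.node (.node (.node (.node (.node (.leaf 5144576) (.leaf 154653016)) (.node (.leaf 79637124) (.leaf 0))) (.node (.node (.leaf 54452224) (.leaf 0)) (.node (.leaf 76914688) (.leaf 0)))) (.node (.node (.node (.leaf 30654464) (.leaf 132816896)) (.node (.leaf 104713177) (.leaf 0))) (.node (.node (.leaf 36151296) (.leaf 0)) (.node (.leaf 92626944) (.leaf 0))))) (.node (.node (.node (.node (.leaf 18169856) (.leaf 142338911)) (.node (.leaf 106110976) (.leaf 0))) (.node (.node (.leaf 30105600) (.leaf 0)) (.node (.leaf 84451328) (.leaf 0)))) (.node (.node (.node (.leaf 42737664) (.leaf 157503828)) (.node (.leaf 84150066) (.leaf 0))) (.node (.node (.leaf 71191153) (.leaf 0)) (.node (.leaf 101212160) (.leaf 0)))))) (.node (.node (.node (.node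 (.node (.leaf 11665408) (.leaf 159244288)) (.node (.leaf 52101120) (.leaf 0))) (.node (.node (.leaf 60186624) (.leaf 0)) (.node (.leaf 106289360) (.leaf 0)))) (.node (.node (.node (.leaf 22992982) (.leaf 166592512)) (.node (.leaf 65871872) (.leaf 0))) (.node (.node (.leaf 81641472) (.leaf 0)) (.node (.leaf 138718379) (.leaf 0))))) (.node (.node (.node (.node (.leaf 24469504) (.leaf 160352441)) (.node (.leaf 100837436) (.leaf 0))) (.node (.node (.leaf 71114752) (.leaf 0)) (.node (.leaf 138761666) (.leaf 0)))) (.node (.node (.node (.leaf 25745251) (.leaf 159170560)) (.node (.leaf 79607425) (.leaf 0))) (.node (.node (.leaf 91693056) (.leaf 0)) (.node (.leaf 121189492) (.leaf 0))))))))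

def e1T13 : NT := .node (.node (.node (.node (.node (.node (.node (.node (.leaf 180224) (.leaf 139939460)) (.node (.leaf 46276608) (.leaf 0))) (.node (.node (.leaf 22044672) (.leaf 164831232)) (.node (.leaf 73990144) (.leaf 0)))) (.node (.node (.node (.leaf 25976832) (.leaf 146638695)) (.node (.leaf 111828992) (.leaf 0))) (.node (.node (.leaf 33857536) (.leaf 0)) (.node (.leaf 119624673) (.leaf 0))))) (.node (.node (.node (.node (.leaf 5390336) (.leaf 158414557)) (.node (.leaf 52928512) (.leaf 0))) (.node (.node (.leaf 61620224) (.leaf 0)) (.node (.leaf 87283064) (.leaf 0)))) (.node (.node (.node (.leaf 38305792) (.leaf 165704471)) (.node (.leaf 120381440) (.leaf 0))) (.node (.node (.leaf 40017920) (.leaf 0)) (.node (.leaf 97845248) (.leaf 0)))))) (.node (.node (.node (.node (.node (.leaf 2711552) (.leaf 156771699)) (.node (.leaf 97796096) (.leaf 0))) (.node (.node (.leaf 34146850) (.leaf 0)) (.node (.leaf 104572138) (.leaf 0)))) (.node (.node (.node (.leaf 13524992) (.leaf 154659534)) (.node (.leaf 71258239)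 (.leaf 0))) (.node (.node (.leaf 77766656) (.leaf 0)) (.node (.leaf 93626368) (.leaf 0))))) (.node (.node (.node (.node (.leaf 19800064) (.leaf 122298368)) (.node (.leaf 107307008) (.leaf 0))) (.node (.node (.leaf 30842880) (.leaf 0)) (.node (.leaf 85458944) (.leaf 0)))) (.node (.node (.node (.leaf 44244992) (.leaf 151035904)) (.node (.leaf 70336512) (.leaf 0))) (.node (.node (.leaf 87957504) (.leaf 0)) (.node (.leaf 104492033) (.leaf 0))))))) (.node (.node (.node (.node (.node (.node (.leaf 1376256) (.leaf 132968856)) (.node (.leaf 93403630) (.leaf 0))) (.node (.node (.leaf 52755015) (.leaf 0)) (.node (.leaf 75890688) (.leaf 0)))) (.node (.node (.node (.leaf 29097984) (.leaf 131342336)) (.node (.leaf 61480960) (.leaf 0))) (.node (.node (.leaf 35373056) (.leaf 0)) (.node (.leaf 110319754) (.leaf 0))))) (.node (.node (.node (.node (.leaf 16531456) (.leaf 144815188)) (.node (.leaf 72768522) (.leaf 0))) (.node (.node (.leaf 64364544) (.leaf 0)) (.node (.leaf 100546302) (.leaf 0)))) (.node (.node (.node (.leaf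 17817600) (.leaf 146333696)) (.node (.leaf 68485120) (.leaf 0))) (.node (.node (.leaf 85417984) (.leaf 0)) (.node (.leaf 145591685) (.leaf 0)))))) (.node (.node (.node (.node (.node (.leaf 4046848) (.leaf 114262016)) (.node (.leaf 100179968) (.leaf 0))) (.node (.node (.leaf 26460160) (.leaf 0)) (.node (.leaf 79577088) (.leaf 0)))) (.node (.node (.node (.leaf 35266560) (.leaf 163001714)) (.node (.leaf 64905216) (.leaf 0))) (.node (.node (.leaf 80322560) (.leaf 0)) (.node (.leaf 147988480) (.leaf 0))))) (.node (.node (.node (.node (.leaf 22896640) (.leaf 162897920)) (.node (.leaf 57974784) (.leaf 0))) (.node (.node (.leaf 69812224) (.leaf 0)) (.node (.leaf 141549568) (.leaf 0)))) (.node (.node (.node (.leaf 20619264) (.leaf 156090368)) (.node (.leaf 126754816) (.leaf 0))) (.node (.node (.leaf 83867385) (.leaf 0)) (.node (.leaf 133656536) (.leaf 0)))))))) (.node (.node (.node (.node (.node (.node (.node (.leaf 720896) (.leaf 155820032)) (.node (.leaf 47030272) (.leaf 0))) (.node (.node (.leaf 22790144) (.leaf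 0)) (.node (.leaf 129662976) (.leaf 0)))) (.node (.node (.node (.leaf 11485184) (.leaf 163991919)) (.node (.leaf 112910336) (.leaf 0))) (.node (.node (.leaf 73777152) (.leaf 0)) (.node (.leaf 109222870) (.leaf 0))))) (.node (.node (.node (.node (.leaf 14893056) (.leaf 141641097)) (.node (.leaf 103628800) (.leaf 0))) (.node (.node (.leaf 63037440) (.leaf 0)) (.node (.leaf 137060352) (.leaf 0)))) (.node (.node (.node (.leaf 39772160) (.leaf 163663297)) (.node (.leaf 67551232) (.leaf 0))) (.node (.node (.leaf 41013078) (.leaf 0)) (.node (.leaf 150364160) (.leaf 0)))))) (.node (.node (.node (.node (.node (.leaf 8429568) (.leaf 113139712)) (.node (.leaf 99016704) (.leaf 0))) (.node (.node (.leaf 25706496) (.leaf 0)) (.node (.leaf 78659584) (.leaf 0)))) (.node (.node (.node (.leaf 33783808) (.leaf 136249344)) (.node (.leaf 117268480) (.leaf 0))) (.node (.node (.leaf 73745593) (.leaf 0)) (.node (.leaf 95224463) (.leaf 0))))) (.node (.node (.node (.node (.leaf 21381120) (.leaf 123781120)) (.node (.leaf 108552192)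 (.leaf 0))) (.node (.node (.leaf 39992142) (.leaf 0)) (.node (.leaf 140730368) (.leaf 0)))) (.node (.node (.node (.leaf 45752320) (.leaf 166998185)) (.node (.leaf 125739008) (.leaf 0))) (.node (.node (.leaf 89276416) (.leaf 0)) (.node (.leaf 110597565) (.leaf 0))))))) (.node (.node (.node (.node (.node (.node (.leaf 2039808) (.leaf 130009385)) (.node (.leaf 48766976) (.leaf 0))) (.node (.node (.leaf 38236120) (.leaf 0)) (.node (.leaf 131637248) (.leaf 0)))) (.node (.node (.node (.leaf 12828672) (.leaf 165093376)) (.node (.leaf 115097600) (.leaf 0))) (.node (.node (.leaf 76447744) (.leaf 0)) (.node (.leaf 145612800) (.leaf 0))))) (.node (.node (.node (.node (.leaf 7421952) (.leaf 161133995)) (.node (.leaf 75408121) (.leaf 0))) (.node (.node (.leaf 53315991) (.leaf 0)) (.node (.leaf 125752961) (.leaf 0)))) (.node (.node (.node (.leaf 18530304) (.leaf 157231427)) (.node (.leaf 123641856) (.leaf 0))) (.node (.node (.leaf 42328064) (.leaf 0)) (.node (.leaf 131822415) (.leaf 0)))))) (.node (.node (.node (.node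 (.node (.leaf 11673600) (.leaf 132189846)) (.node (.leaf 101425152) (.leaf 0))) (.node (.node (.leaf 27172864) (.leaf 0)) (.node (.leaf 108631772) (.leaf 0)))) (.node (.node (.node (.leaf 15663104) (.leaf 140222464)) (.node (.leaf 119406592) (.leaf 0))) (.node (.node (.leaf 39305216) (.leaf 0)) (.node (.leaf 96821248) (.leaf 0))))) (.node (.node (.node (.node (.leaf 24485888) (.leaf 147760747)) (.node (.leaf 58761216) (.leaf 0))) (.node (.node (.leaf 71131136) (.leaf 0)) (.node (.leaf 142401536) (.leaf 0)))) (.node (.node (.node (.leaf 48717824) (.leaf 168042496)) (.node (.leaf 73072640) (.leaf 0))) (.node (.node (.leaf 48868912) (.leaf 0)) (.node (.leaf 154492928) (.leaf 0))))))))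

def e1T14 : NT := .node (.node (.node (.node (.node (.node (.node (.node (.leaf 196608) (.leaf 107077632)) (.node (.leaf 92995584) (.leaf 0))) (.node (.node (.leaf 22176931) (.leaf 165044224)) (.node (.leaf 109595483) (.leaf 0)))) (.node (.node (.node (.leaf 10821632) (.leaf 154191762)) (.node (.leaf 59670528) (.leaf 0))) (.node (.node (.leaf 72466432) (.leaf 0)) (.node (.leaf 89489408) (.leaf 0))))) (.node (.node (.node (.node (.leaf 13279232) (.leaf 116891648)) (.node (.leaf 102539264) (.leaf 0))) (.node (.node (.leaf 27934720) (.leaf 0)) (.node (.leaf 81453056) (.leaf 0)))) (.node (.node (.node (.leaf 38322176) (.leaf 151851982)) (.node (.leaf 120397824) (.leaf 0))) (.node (.node (.leaf 40026112) (.leaf 0)) (.node (.leaf 99944450) (.leaf 0)))))) (.node (.node (.node (.node (.node (.leaf 6791168) (.leaf 148500875)) (.node (.leaf 97812480) (.leaf 0))) (.node (.node (.leaf 55828480) (.leaf 0)) (.node (.leaf 132530176) (.leaf 0)))) (.node (.node (.node (.leaf 32235520) (.leaf 160630792)) (.node (.leaf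 63209472) (.leaf 0))) (.node (.node (.leaf 77783040) (.leaf 0)) (.node (.leaf 146456576) (.leaf 0))))) (.node (.node (.node (.node (.leaf 8126464) (.leaf 142276442)) (.node (.leaf 56254464) (.leaf 0))) (.node (.node (.leaf 67190784) (.leaf 0)) (.node (.leaf 139771904) (.leaf 0)))) (.node (.node (.node (.leaf 44261376) (.leaf 162953664)) (.node (.leaf 115316179) (.leaf 0))) (.node (.node (.leaf 75361521) (.leaf 0)) (.node (.leaf 102350848) (.leaf 0))))))) (.node (.node (.node (.node (.node (.node (.leaf 3514368) (.leaf 135818111)) (.node (.leaf 95420416) (.leaf 0))) (.node (.node (.leaf 53108736) (.leaf 0)) (.node (.leaf 75907072) (.leaf 0)))) (.node (.node (.node (.leaf 12165120) (.leaf 155844754)) (.node (.leaf 65632869) (.leaf 0))) (.node (.node (.leaf 75112448) (.leaf 0)) (.node (.leaf 143742953) (.leaf 0))))) (.node (.node (.node (.node (.leaf 16539648) (.leaf 145877682)) (.node (.leaf 54591488) (.leaf 0))) (.node (.node (.leaf 29392896) (.leaf 0)) (.node (.leaf 83492864) (.leaf 0)))) (.node (.node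 (.node (.leaf 41295872) (.leaf 159767073)) (.node (.leaf 122585088) (.leaf 0))) (.node (.node (.leaf 85434368) (.leaf 0)) (.node (.leaf 100040704) (.leaf 0)))))) (.node (.node (.node (.node (.node (.leaf 10067968) (.leaf 140542068)) (.node (.leaf 51281920) (.leaf 0))) (.node (.node (.leaf 58736640) (.leaf 0)) (.node (.leaf 126496443) (.leaf 0)))) (.node (.node (.node (.leaf 14983168) (.leaf 159032770)) (.node (.leaf 87030886) (.leaf 0))) (.node (.node (.leaf 80330752) (.leaf 0)) (.node (.leaf 148004864) (.leaf 0))))) (.node (.node (.node (.node (.leaf 9478144) (.leaf 148641622)) (.node (.leaf 109633536) (.leaf 0))) (.node (.node (.leaf 32350208) (.leaf 0)) (.node (.leaf 87457792) (.leaf 0)))) (.node (.node (.node (.leaf 20627456) (.leaf 156224980)) (.node (.leaf 72179712) (.leaf 0))) (.node (.node (.leaf 44720128) (.leaf 0)) (.node (.leaf 153845760) (.leaf 0)))))))) (.node (.node (.node (.node (.node (.node (.node (.leaf 1867776) (.leaf 120125410)) (.node (.leaf 94273536) (.leaf 0))) (.node (.node (.leaf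 51625984) (.leaf 0)) (.node (.leaf 99118108) (.leaf 0)))) (.node (.node (.node (.leaf 27549696) (.leaf 164167680)) (.node (.leaf 100584804) (.leaf 0))) (.node (.node (.leaf 73793536) (.leaf 0)) (.node (.leaf 90505216) (.leaf 0))))) (.node (.node (.node (.node (.leaf 6062080) (.leaf 158369225)) (.node (.leaf 53764096) (.leaf 0))) (.node (.node (.leaf 28655616) (.leaf 0)) (.node (.leaf 110445548) (.leaf 0)))) (.node (.node (.node (.leaf 17113088) (.leaf 166898798)) (.node (.leaf 121577472) (.leaf 0))) (.node (.node (.leaf 40796160) (.leaf 0)) (.node (.leaf 150380544) (.leaf 0)))))) (.node (.node (.node (.node (.node (.leaf 3375104) (.leaf 115996843)) (.node (.leaf 50446336) (.leaf 0))) (.node (.node (.leaf 57196544) (.leaf 0)) (.node (.leaf 133472256) (.leaf 0)))) (.node (.node (.node (.leaf 14286848) (.leaf 136257536)) (.node (.leaf 64053248) (.leaf 0))) (.node (.node (.leaf 79020032) (.leaf 0)) (.node (.leaf 94691328) (.leaf 0))))) (.node (.node (.node (.node (.leaf 8798208) (.leaf 162422784)) (.node (.leaf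 57155584) (.leaf 0))) (.node (.node (.leaf 68599808) (.leaf 0)) (.node (.leaf 86474752) (.leaf 0)))) (.node (.node (.node (.leaf 45768704) (.leaf 166879885)) (.node (.leaf 92130782) (.leaf 0))) (.node (.node (.leaf 89292800) (.leaf 0)) (.node (.leaf 103440384) (.leaf 0))))))) (.node (.node (.node (.node (.node (.node (.leaf 5169152) (.leaf 155407947)) (.node (.leaf 96616448) (.leaf 0))) (.node (.node (.leaf 24190976) (.leaf 0)) (.node (.leaf 131653632) (.leaf 0)))) (.node (.node (.node (.leaf 30679040) (.leaf 132841472)) (.node (.leaf 62357504) (.leaf 0))) (.node (.node (.leaf 36159488) (.leaf 0)) (.node (.leaf 145629184) (.leaf 0))))) (.node (.node (.node (.node (.leaf 18194432) (.leaf 121028608)) (.node (.leaf 106135552) (.leaf 0))) (.node (.node (.leaf 65806336) (.leaf 0)) (.node (.leaf 86005145) (.leaf 0)))) (.node (.node (.node (.leaf 42762240) (.leaf 158087598)) (.node (.leaf 123658240) (.leaf 0))) (.node (.node (.leaf 86679552) (.leaf 0)) (.node (.leaf 101228544) (.leaf 0)))))) (.node (.node (.node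 (.node (.node (.leaf 4718592) (.leaf 157975738)) (.node (.leaf 52109312) (.leaf 0))) (.node (.node (.leaf 59877300) (.leaf 0)) (.node (.leaf 80478208) (.leaf 0)))) (.node (.node (.node (.leaf 36864000) (.leaf 140230656)) (.node (.leaf 119414784) (.leaf 0))) (.node (.node (.leaf 81657856) (.leaf 0)) (.node (.leaf 123247505) (.leaf 0))))) (.node (.node (.node (.node (.leaf 10158080) (.leaf 128880740)) (.node (.leaf 58769408) (.leaf 0))) (.node (.node (.leaf 33087488) (.leaf 0)) (.node (.leaf 88473600) (.leaf 0)))) (.node (.node (.node (.leaf 21348352) (.leaf 159178752)) (.node (.leaf 110767605) (.leaf 0))) (.node (.node (.leaf 91709440) (.leaf 0)) (.node (.leaf 105816064) (.leaf 0))))))))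

def e1T15 : NT := .node (.node (.node (.node (.node (.node (.node (.node (.leaf 73728) (.leaf 107085824)) (.node (.leaf 46284800) (.leaf 0))) (.node (.node (.leaf 50176000) (.leaf 167240081)) (.node (.leaf 110865432) (.leaf 0)))) (.node (.node (.node (.leaf 26001408) (.leaf 133887301)) (.node (.leaf 75397308) (.leaf 0))) (.node (.node (.leaf 33865728) (.leaf 0)) (.node (.leaf 131141311) (.leaf 0))))) (.node (.node (.node (.node (.leaf 13295616) (.leaf 144919323)) (.node (.leaf 99525330) (.leaf 0))) (.node (.node (.leaf 61636608) (.leaf 0)) (.node (.leaf 132409200) (.leaf 0)))) (.node (.node (.node (.leaf 38330368) (.leaf 142090240)) (.node (.leaf 66764800) (.leaf 0))) (.node (.node (.leaf 58846375) (.leaf 0)) (.node (.leaf 97861632) (.leaf 0)))))) (.node (.node (.node (.node (.node (.leaf 2719744) (.leaf 157646848)) (.node (.leaf 49627136) (.leaf 0))) (.node (.node (.leaf 24952832) (.leaf 0)) (.node (.leaf 77832192) (.leaf 0)))) (.node (.node (.node (.leaf 32243712) (.leaf 134610944)) (.node (.leaf 116236288)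 (.leaf 0))) (.node (.node (.leaf 36945920) (.leaf 0)) (.node (.leaf 103788318) (.leaf 0))))) (.node (.node (.node (.node (.leaf 19824640) (.leaf 122314752)) (.node (.leaf 107323392) (.leaf 0))) (.node (.node (.leaf 30851072) (.leaf 0)) (.node (.leaf 85475328) (.leaf 0)))) (.node (.node (.node (.leaf 19243008) (.leaf 164201923)) (.node (.leaf 124674048) (.leaf 0))) (.node (.node (.leaf 43098112) (.leaf 0)) (.node (.leaf 129223365) (.leaf 0))))))) (.node (.node (.node (.node (.node (.node (.leaf 3530752) (.leaf 121389844)) (.node (.leaf 47931392) (.leaf 0))) (.node (.node (.leaf 23511040) (.leaf 0)) (.node (.leaf 130580480) (.leaf 0)))) (.node (.node (.node (.leaf 20158905) (.leaf 131366912)) (.node (.leaf 113999872) (.leaf 0))) (.node (.node (.leaf 35381248) (.leaf 0)) (.node (.leaf 91594752) (.leaf 0))))) (.node (.node (.node (.node (.leaf 16556032) (.leaf 160923648)) (.node (.leaf 104849408) (.leaf 0))) (.node (.node (.leaf 64372736) (.leaf 0)) (.node (.leaf 137936896) (.leaf 0)))) (.node (.node (.node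 (.leaf 41312256) (.leaf 146341888)) (.node (.leaf 122554548) (.leaf 0))) (.node (.node (.leaf 41517056) (.leaf 0)) (.node (.leaf 151093248) (.leaf 0)))))) (.node (.node (.node (.node (.node (.leaf 10084352) (.leaf 114270208)) (.node (.leaf 100204544) (.leaf 0))) (.node (.node (.leaf 58753024) (.leaf 0)) (.node (.leaf 134332416) (.leaf 0)))) (.node (.node (.node (.leaf 35291136) (.leaf 138108928)) (.node (.leaf 64913408) (.leaf 0))) (.node (.node (.leaf 38584320) (.leaf 0)) (.node (.leaf 148021248) (.leaf 0))))) (.node (.node (.node (.node (.leaf 22921216) (.leaf 161235467)) (.node (.leaf 57991168) (.leaf 0))) (.node (.node (.leaf 62612569) (.leaf 0)) (.node (.leaf 138785775) (.leaf 0)))) (.node (.node (.node (.leaf 47267840) (.leaf 166933648)) (.node (.leaf 126771200) (.leaf 0))) (.node (.node (.leaf 85268560) (.leaf 0)) (.node (.leaf 122628358) (.leaf 0)))))))) (.node (.node (.node (.node (.node (.node (.node (.leaf 729088) (.leaf 108208128)) (.node (.leaf 94281728) (.leaf 0))) (.node (.node (.leaf 51642368)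 (.leaf 0)) (.node (.leaf 74924032) (.leaf 0)))) (.node (.node (.node (.leaf 11493376) (.leaf 137896942)) (.node (.leaf 85000714) (.leaf 0))) (.node (.node (.leaf 34627584) (.leaf 0)) (.node (.leaf 136818149) (.leaf 0))))) (.node (.node (.node (.node (.leaf 14901248) (.leaf 118341632)) (.node (.leaf 99149125) (.leaf 0))) (.node (.node (.leaf 63062016) (.leaf 0)) (.node (.leaf 137076736) (.leaf 0)))) (.node (.node (.node (.leaf 26054616) (.leaf 146507887)) (.node (.leaf 67584000) (.leaf 0))) (.node (.node (.leaf 84262912) (.leaf 0)) (.node (.leaf 98902016) (.leaf 0)))))) (.node (.node (.node (.node (.node (.leaf 8454144) (.leaf 113156096)) (.node (.leaf 70079988) (.leaf 0))) (.node (.node (.leaf 38345595) (.leaf 0)) (.node (.leaf 133480448) (.leaf 0)))) (.node (.node (.node (.leaf 33808384) (.leaf 164616430)) (.node (.leaf 72778179) (.leaf 0))) (.node (.node (.leaf 37756928) (.leaf 0)) (.node (.leaf 94707712) (.leaf 0))))) (.node (.node (.node (.node (.leaf 21405696) (.leaf 154371254)) (.node (.leaf 108568576)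 (.leaf 0))) (.node (.node (.leaf 31612928) (.leaf 0)) (.node (.leaf 109296153) (.leaf 0)))) (.node (.node (.node (.leaf 19939328) (.leaf 157591715)) (.node (.leaf 125763584) (.leaf 0))) (.node (.node (.leaf 43909120) (.leaf 0)) (.node (.leaf 153100288) (.leaf 0))))))) (.node (.node (.node (.node (.node (.node (.leaf 2048000) (.leaf 110788608)) (.node (.leaf 48775168) (.leaf 0))) (.node (.node (.leaf 54484992) (.leaf 0)) (.node (.leaf 76931072) (.leaf 0)))) (.node (.node (.node (.leaf 30695424) (.leaf 165101568)) (.node (.leaf 100377194) (.leaf 0))) (.node (.node (.leaf 76464128) (.leaf 0)) (.node (.leaf 145637376) (.leaf 0))))) (.node (.node (.node (.node (.leaf 18210816) (.leaf 144822445)) (.node (.leaf 106143744) (.leaf 0))) (.node (.node (.leaf 30121984) (.leaf 0)) (.node (.leaf 84500480) (.leaf 0)))) (.node (.node (.node (.leaf 42778624) (.leaf 148463616)) (.node (.leaf 69419008) (.leaf 0))) (.node (.node (.leaf 86687744) (.leaf 0)) (.node (.leaf 101236736) (.leaf 0)))))) (.node (.node (.node (.node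 (.node (.leaf 11698176) (.leaf 132781368)) (.node (.leaf 85022790) (.leaf 0))) (.node (.node (.leaf 60219392) (.leaf 0)) (.node (.leaf 80510976) (.leaf 0)))) (.node (.node (.node (.leaf 36880384) (.leaf 166608896)) (.node (.leaf 65888256) (.leaf 0))) (.node (.node (.leaf 39313408) (.leaf 0)) (.node (.leaf 96829440) (.leaf 0))))) (.node (.node (.node (.node (.leaf 24510464) (.leaf 154563051)) (.node (.leaf 110755840) (.leaf 0))) (.node (.node (.leaf 71155712) (.leaf 0)) (.node (.leaf 118770826) (.leaf 0)))) (.node (.node (.node (.leaf 48742400) (.leaf 159236096)) (.node (.leaf 73097216) (.leaf 0))) (.node (.node (.leaf 45498368) (.leaf 0)) (.node (.leaf 154509312) (.leaf 0))))))))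

def e1T16 : NT := .node (.node (.node (.node (.node (.node (.node (.node (.leaf 221184) (.leaf 107094016)) (.node (.leaf 93020160) (.leaf 0))) (.node (.node (.leaf 22061056) (.leaf 167721225)) (.node (.leaf 128778240) (.leaf 0)))) (.node (.node (.node (.leaf 10829824) (.leaf 140462612)) (.node (.leaf 111853568) (.leaf 0))) (.node (.node (.leaf 72482816) (.leaf 0)) (.node (.leaf 143171584) (.leaf 0))))) (.node (.node (.node (.node (.leaf 5406720) (.leaf 154073923)) (.node (.leaf 52944896) (.leaf 0))) (.node (.node (.leaf 61652992) (.leaf 0)) (.node (.leaf 81461248) (.leaf 0)))) (.node (.node (.node (.leaf 16400384) (.leaf 149584144)) (.node (.leaf 105454444) (.leaf 0))) (.node (.node (.leaf 83050496) (.leaf 0)) (.node (.leaf 149594112) (.leaf 0)))))) (.node (.node (.node (.node (.node (.leaf 6815744) (.leaf 136755863)) (.node (.leaf 97828864) (.leaf 0))) (.node (.node (.leaf 55853056) (.leaf 0)) (.node (.leaf 132546560) (.leaf 0)))) (.node (.node (.node (.leaf 13549568) (.leaf 165511168)) (.node (.leaf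 63225856) (.leaf 0))) (.node (.node (.leaf 36954112) (.leaf 0)) (.node (.leaf 93650944) (.leaf 0))))) (.node (.node (.node (.node (.leaf 19841024) (.leaf 161923072)) (.node (.leaf 56262656) (.leaf 0))) (.node (.node (.leaf 30859264) (.leaf 0)) (.node (.leaf 85483520) (.leaf 0)))) (.node (.node (.node (.leaf 19251200) (.leaf 155947167)) (.node (.leaf 124682240) (.leaf 0))) (.node (.node (.leaf 87990272) (.leaf 0)) (.node (.leaf 130740060) (.leaf 0))))))) (.node (.node (.node (.node (.node (.node (.leaf 1392640) (.leaf 109510656)) (.node (.leaf 95444992) (.leaf 0))) (.node (.node (.leaf 33637042) (.leaf 0)) (.node (.leaf 130588672) (.leaf 0)))) (.node (.node (.node (.leaf 12173312) (.leaf 146384863)) (.node (.leaf 61497344) (.leaf 0))) (.node (.node (.leaf 75137024) (.leaf 0)) (.node (.leaf 116905694) (.leaf 0))))) (.node (.node (.node (.node (.leaf 6758400) (.leaf 119709696)) (.node (.leaf 69792321) (.leaf 0))) (.node (.node (.leaf 64389120) (.leaf 0)) (.node (.leaf 83501056) (.leaf 0)))) (.node (.node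 (.node (.leaf 17833984) (.leaf 146350080)) (.node (.leaf 68509696) (.leaf 0))) (.node (.node (.leaf 85450752) (.leaf 0)) (.node (.leaf 100065280) (.leaf 0)))))) (.node (.node (.node (.node (.node (.leaf 4063232) (.leaf 150025271)) (.node (.leaf 51290112) (.leaf 0))) (.node (.node (.leaf 26476544) (.leaf 0)) (.node (.leaf 134340608) (.leaf 0)))) (.node (.node (.node (.leaf 35307520) (.leaf 166215680)) (.node (.leaf 118431744) (.leaf 0))) (.node (.node (.leaf 80338944) (.leaf 0)) (.node (.leaf 95764480) (.leaf 0))))) (.node (.node (.node (.node (.leaf 22937600) (.leaf 157035834)) (.node (.leaf 98210354) (.leaf 0))) (.node (.node (.leaf 69844992) (.leaf 0)) (.node (.leaf 141574144) (.leaf 0)))) (.node (.node (.node (.leaf 23221427) (.leaf 156123136)) (.node (.leaf 72204288) (.leaf 0))) (.node (.node (.leaf 90546176) (.leaf 0)) (.node (.leaf 104603648) (.leaf 0)))))))) (.node (.node (.node (.node (.node (.node (.node (.leaf 1892352) (.leaf 113676342)) (.node (.leaf 47046656) (.leaf 0))) (.node (.node (.leaf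 22806528) (.leaf 0)) (.node (.leaf 129671168) (.leaf 0)))) (.node (.node (.node (.leaf 27574272) (.leaf 130704374)) (.node (.leaf 60555264) (.leaf 0))) (.node (.node (.leaf 73809920) (.leaf 0)) (.node (.leaf 143990784) (.leaf 0))))) (.node (.node (.node (.node (.leaf 14917632) (.leaf 160391168)) (.node (.leaf 103661568) (.leaf 0))) (.node (.node (.leaf 63078400) (.leaf 0)) (.node (.leaf 82436096) (.leaf 0)))) (.node (.node (.node (.leaf 17121280) (.leaf 158337866)) (.node (.leaf 121593856) (.leaf 0))) (.node (.node (.leaf 40812544) (.leaf 0)) (.node (.leaf 142936908) (.leaf 0)))))) (.node (.node (.node (.node (.node (.leaf 3391488) (.leaf 113164288)) (.node (.leaf 50462720) (.leaf 0))) (.node (.node (.leaf 25722880) (.leaf 0)) (.node (.leaf 78675968) (.leaf 0)))) (.node (.node (.node (.leaf 14295040) (.leaf 145846556)) (.node (.leaf 64061440) (.leaf 0))) (.node (.node (.leaf 79044608) (.leaf 0)) (.node (.leaf 111151375) (.leaf 0))))) (.node (.node (.node (.node (.leaf 21422080) (.leaf 123813888)) (.node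 (.leaf 108584960) (.leaf 0))) (.node (.node (.leaf 34401001) (.leaf 0)) (.node (.leaf 101591173) (.leaf 0)))) (.node (.node (.node (.leaf 45793280) (.leaf 167666728)) (.node (.leaf 97519313) (.leaf 0))) (.node (.node (.leaf 54622149) (.leaf 0)) (.node (.leaf 103456768) (.leaf 0))))))) (.node (.node (.node (.node (.node (.node (.leaf 5193728) (.leaf 157057024)) (.node (.leaf 96632832) (.leaf 0))) (.node (.node (.leaf 24199168) (.leaf 0)) (.node (.leaf 122182287) (.leaf 0)))) (.node (.node (.node (.leaf 12845056) (.leaf 132849664)) (.node (.leaf 62373888) (.leaf 0))) (.node (.node (.leaf 36175872) (.leaf 0)) (.node (.leaf 92651520) (.leaf 0))))) (.node (.node (.node (.node (.leaf 7438336) (.leaf 149382211)) (.node (.leaf 55476224) (.leaf 0))) (.node (.node (.leaf 65822720) (.leaf 0)) (.node (.leaf 132206063) (.leaf 0)))) (.node (.node (.node (.leaf 18546688) (.leaf 155916673)) (.node (.leaf 123674624) (.leaf 0))) (.node (.node (.leaf 42344448) (.leaf 0)) (.node (.leaf 101244928) (.leaf 0)))))) (.node (.node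 (.node (.node (.node (.leaf 4726784) (.leaf 144681281)) (.node (.leaf 99833651) (.leaf 0))) (.node (.node (.leaf 27189248) (.leaf 0)) (.node (.leaf 127887550) (.leaf 0)))) (.node (.node (.node (.leaf 15679488) (.leaf 140255232)) (.node (.leaf 119422976) (.leaf 0))) (.node (.node (.leaf 81682432) (.leaf 0)) (.node (.leaf 148180035) (.leaf 0))))) (.node (.node (.node (.node (.leaf 24526848) (.leaf 163323904)) (.node (.leaf 110772224) (.leaf 0))) (.node (.node (.leaf 33095680) (.leaf 0)) (.node (.leaf 132916270) (.leaf 0)))) (.node (.node (.node (.leaf 48758784) (.leaf 165230324)) (.node (.leaf 73113600) (.leaf 0))) (.node (.node (.leaf 79875985) (.leaf 0)) (.node (.leaf 105824256) (.leaf 0))))))))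

def e1T17 : NT := .node (.node (.node (.node (.node (.node (.node (.node (.leaf 81920) (.leaf 134361164)) (.node (.leaf 72116263) (.leaf 0))) (.node (.node (.leaf 50200576) (.leaf 168026363)) (.node (.leaf 74022912) (.leaf 0)))) (.node (.node (.node (.leaf 26025984) (.leaf 143270539)) (.node (.leaf 59686912) (.leaf 0))) (.node (.node (.leaf 71624633) (.leaf 0)) (.node (.leaf 143179776) (.leaf 0))))) (.node (.node (.node (.node (.leaf 13320192) (.leaf 116916224)) (.node (.leaf 102572032) (.leaf 0))) (.node (.node (.leaf 61669376) (.leaf 0)) (.node (.leaf 126641885) (.leaf 0)))) (.node (.node (.node (.leaf 29816778) (.leaf 142172160)) (.node (.leaf 66772992) (.leaf 0))) (.node (.node (.leaf 40042496) (.leaf 0)) (.node (.leaf 97878016) (.leaf 0)))))) (.node (.node (.node (.node (.node (.leaf 6832128) (.leaf 112058368)) (.node (.leaf 97837056) (.leaf 0))) (.node (.node (.leaf 24961024) (.leaf 0)) (.node (.leaf 132554752) (.leaf 0)))) (.node (.node (.node (.leaf 32268288) (.leaf 134619136)) (.node (.leaf 116252672)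 (.leaf 0))) (.node (.node (.leaf 36970496) (.leaf 0)) (.node (.leaf 146489344) (.leaf 0))))) (.node (.node (.node (.node (.leaf 8142848) (.leaf 146940853)) (.node (.leaf 76852218) (.leaf 0))) (.node (.node (.leaf 67215360) (.leaf 0)) (.node (.leaf 136780866) (.leaf 0)))) (.node (.node (.node (.leaf 44294144) (.leaf 160306118)) (.node (.leaf 124690432) (.leaf 0))) (.node (.node (.leaf 72019087) (.leaf 0)) (.node (.leaf 102375424) (.leaf 0))))))) (.node (.node (.node (.node (.node (.node (.leaf 3555328) (.leaf 156475392)) (.node (.leaf 47947776) (.leaf 0))) (.node (.node (.leaf 23519232) (.leaf 0)) (.node (.leaf 75931648) (.leaf 0)))) (.node (.node (.node (.leaf 29130752) (.leaf 131383296)) (.node (.leaf 114024448) (.leaf 0))) (.node (.node (.leaf 75153408) (.leaf 0)) (.node (.leaf 132056509) (.leaf 0))))) (.node (.node (.node (.node (.leaf 16580608) (.leaf 122995767)) (.node (.leaf 54607872) (.leaf 0))) (.node (.node (.leaf 50542427) (.leaf 0)) (.node (.leaf 110560741) (.leaf 0)))) (.node (.node (.node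 (.leaf 27261530) (.leaf 158361360)) (.node (.leaf 68517888) (.leaf 0))) (.node (.node (.leaf 41525248) (.leaf 0)) (.node (.leaf 142971203) (.leaf 0)))))) (.node (.node (.node (.node (.node (.leaf 10108928) (.leaf 114278400)) (.node (.leaf 100229120) (.leaf 0))) (.node (.node (.leaf 47299484) (.leaf 0)) (.node (.leaf 134348800) (.leaf 0)))) (.node (.node (.node (.leaf 14999552) (.leaf 138117120)) (.node (.leaf 118448128) (.leaf 0))) (.node (.node (.leaf 38600704) (.leaf 0)) (.node (.leaf 147400027) (.leaf 0))))) (.node (.node (.node (.node (.leaf 9494528) (.leaf 149456329)) (.node (.leaf 57999360) (.leaf 0))) (.node (.node (.leaf 32366592) (.leaf 0)) (.node (.leaf 87482368) (.leaf 0)))) (.node (.node (.node (.leaf 20643840) (.leaf 156147712)) (.node (.leaf 126787584) (.leaf 0))) (.node (.node (.leaf 44736512) (.leaf 0)) (.node (.leaf 104611840) (.leaf 0)))))))) (.node (.node (.node (.node (.node (.node (.node (.leaf 1908736) (.leaf 155852800)) (.node (.leaf 47201376) (.leaf 0))) (.node (.node (.leaf 51658752)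 (.leaf 0)) (.node (.leaf 129679360) (.leaf 0)))) (.node (.node (.node (.leaf 27590656) (.leaf 129654784)) (.node (.leaf 112951296) (.leaf 0))) (.node (.node (.leaf 73826304) (.leaf 0)) (.node (.leaf 90521600) (.leaf 0))))) (.node (.node (.node (.node (.leaf 6078464) (.leaf 148556763)) (.node (.leaf 53788672) (.leaf 0))) (.node (.node (.leaf 28672000) (.leaf 0)) (.node (.leaf 82460672) (.leaf 0)))) (.node (.node (.node (.leaf 39813120) (.leaf 144154624)) (.node (.leaf 89692525) (.leaf 0))) (.node (.node (.leaf 84279296) (.leaf 0)) (.node (.leaf 127374326) (.leaf 0)))))) (.node (.node (.node (.node (.node (.leaf 8478720) (.leaf 158138368)) (.node (.leaf 99057664) (.leaf 0))) (.node (.node (.leaf 57229312) (.leaf 0)) (.node (.leaf 119773447) (.leaf 0)))) (.node (.node (.node (.leaf 33832960) (.leaf 162619479)) (.node (.leaf 112801921) (.leaf 0))) (.node (.node (.leaf 79060992) (.leaf 0)) (.node (.leaf 147292160) (.leaf 0))))) (.node (.node (.node (.node (.leaf 17780117) (.leaf 123838464)) (.node (.leaf 108593152)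 (.leaf 0))) (.node (.node (.leaf 31621120) (.leaf 0)) (.node (.leaf 86491136) (.leaf 0)))) (.node (.node (.node (.leaf 45809664) (.leaf 165111396)) (.node (.leaf 71311360) (.leaf 0))) (.node (.node (.leaf 43917312) (.leaf 0)) (.node (.leaf 109341744) (.leaf 0))))))) (.node (.node (.node (.node (.node (.node (.leaf 5210112) (.leaf 110796800)) (.node (.leaf 86954103) (.leaf 0))) (.node (.node (.leaf 54509568) (.leaf 0)) (.node (.leaf 76955648) (.leaf 0)))) (.node (.node (.node (.leaf 30720000) (.leaf 132857856)) (.node (.leaf 115130368) (.leaf 0))) (.node (.node (.leaf 64149702) (.leaf 0)) (.node (.leaf 139462600) (.leaf 0))))) (.node (.node (.node (.node (.leaf 7446528) (.leaf 121044992)) (.node (.leaf 106168320) (.leaf 0))) (.node (.node (.leaf 30130176) (.leaf 0)) (.node (.leaf 84508672) (.leaf 0)))) (.node (.node (.node (.leaf 42803200) (.leaf 165443447)) (.node (.leaf 69435392) (.leaf 0))) (.node (.node (.leaf 86704128) (.leaf 0)) (.node (.leaf 101253120) (.leaf 0)))))) (.node (.node (.node (.node (.node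 (.leaf 11722752) (.leaf 115646464)) (.node (.leaf 52125696) (.leaf 0))) (.node (.node (.leaf 60243968) (.leaf 0)) (.node (.leaf 80527360) (.leaf 0)))) (.node (.node (.node (.leaf 36904960) (.leaf 147842259)) (.node (.leaf 65896448) (.leaf 0))) (.node (.node (.leaf 39329792) (.leaf 0)) (.node (.leaf 102725258) (.leaf 0))))) (.node (.node (.node (.node (.leaf 10174464) (.leaf 145353788)) (.node (.leaf 110780416) (.leaf 0))) (.node (.node (.leaf 71172096) (.leaf 0)) (.node (.leaf 142434304) (.leaf 0)))) (.node (.node (.node (.leaf 39103365) (.leaf 165953819)) (.node (.leaf 114293417) (.leaf 0))) (.node (.node (.leaf 91725824) (.leaf 0)) (.node (.leaf 136636558) (.leaf 0))))))))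

def e1T18 : NT := .node (.node (.node (.node (.node (.node (.node (.node (.leaf 245760) (.leaf 107102208)) (.node (.leaf 46301184) (.leaf 0))) (.node (.node (.leaf 22069248) (.leaf 166978936)) (.node (.leaf 89794066) (.leaf 0)))) (.node (.node (.node (.leaf 26042368) (.leaf 163741696)) (.node (.leaf 111878144) (.leaf 0))) (.node (.node (.leaf 33882112) (.leaf 0)) (.node (.leaf 138594193) (.leaf 0))))) (.node (.node (.node (.node (.leaf 13336576) (.leaf 145362443)) (.node (.leaf 52953088) (.leaf 0))) (.node (.node (.leaf 27959296) (.leaf 0)) (.node (.leaf 136175616) (.leaf 0)))) (.node (.node (.node (.leaf 38363136) (.leaf 165880672)) (.node (.leaf 117018768) (.leaf 0))) (.node (.node (.leaf 83075072) (.leaf 0)) (.node (.leaf 149064503) (.leaf 0)))))) (.node (.node (.node (.node (.node (.leaf 2736128) (.leaf 157671424)) (.node (.leaf 49643520) (.leaf 0))) (.node (.node (.leaf 55877632) (.leaf 0)) (.node (.leaf 77848576) (.leaf 0)))) (.node (.node (.node (.leaf 32284672) (.leaf 137296966)) (.node (.leaf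 63234048) (.leaf 0))) (.node (.node (.leaf 77824000) (.leaf 0)) (.node (.leaf 93659136) (.leaf 0))))) (.node (.node (.node (.node (.leaf 19865600) (.leaf 128574331)) (.node (.leaf 107356160) (.leaf 0))) (.node (.node (.leaf 67231744) (.leaf 0)) (.node (.leaf 139796480) (.leaf 0)))) (.node (.node (.node (.leaf 19267584) (.leaf 167723008)) (.node (.leaf 70369280) (.leaf 0))) (.node (.node (.leaf 43114496) (.leaf 0)) (.node (.leaf 152436736) (.leaf 0))))))) (.node (.node (.node (.node (.node (.node (.leaf 3571712) (.leaf 113341980)) (.node (.leaf 93393882) (.leaf 0))) (.node (.node (.leaf 53125120) (.leaf 0)) (.node (.leaf 83903073) (.leaf 0)))) (.node (.node (.node (.leaf 29147136) (.leaf 131399680)) (.node (.leaf 61505536) (.leaf 0))) (.node (.node (.leaf 75161600) (.leaf 0)) (.node (.leaf 91635712) (.leaf 0))))) (.node (.node (.node (.node (.leaf 16596992) (.leaf 119717888)) (.node (.leaf 76983759) (.leaf 0))) (.node (.node (.leaf 29425664) (.leaf 0)) (.node (.leaf 83509248) (.leaf 0)))) (.node (.node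 (.node (.leaf 17842176) (.leaf 146366464)) (.node (.leaf 108995692) (.leaf 0))) (.node (.node (.leaf 85467136) (.leaf 0)) (.node (.leaf 126362920) (.leaf 0)))))) (.node (.node (.node (.node (.node (.leaf 4071424) (.leaf 132626161)) (.node (.leaf 51306496) (.leaf 0))) (.node (.node (.leaf 58785792) (.leaf 0)) (.node (.leaf 134365184) (.leaf 0)))) (.node (.node (.node (.leaf 31594671) (.leaf 166232064)) (.node (.leaf 64929792) (.leaf 0))) (.node (.node (.leaf 80363520) (.leaf 0)) (.node (.leaf 95780864) (.leaf 0))))) (.node (.node (.node (.node (.leaf 22953984) (.leaf 162914304)) (.node (.leaf 109658112) (.leaf 0))) (.node (.node (.leaf 69853184) (.leaf 0)) (.node (.leaf 102665092) (.leaf 0)))) (.node (.node (.node (.leaf 20652032) (.leaf 156155904)) (.node (.leaf 126803968) (.leaf 0))) (.node (.node (.leaf 70006981) (.leaf 0)) (.node (.leaf 120916707) (.leaf 0)))))))) (.node (.node (.node (.node (.node (.node (.node (.leaf 745472) (.leaf 108240896)) (.node (.leaf 47054848) (.leaf 0))) (.node (.node (.leaf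 51675136) (.leaf 0)) (.node (.leaf 84578886) (.leaf 0)))) (.node (.node (.node (.leaf 11509760) (.leaf 141453781)) (.node (.leaf 60563456) (.leaf 0))) (.node (.node (.leaf 34643968) (.leaf 0)) (.node (.leaf 90529792) (.leaf 0))))) (.node (.node (.node (.node (.leaf 14942208) (.leaf 118366208)) (.node (.leaf 103686144) (.leaf 0))) (.node (.node (.leaf 63102976) (.leaf 0)) (.node (.leaf 135041937) (.leaf 0)))) (.node (.node (.node (.leaf 17129472) (.leaf 144179200)) (.node (.leaf 120662465) (.leaf 0))) (.node (.node (.leaf 40820736) (.leaf 0)) (.node (.leaf 142086354) (.leaf 0)))))) (.node (.node (.node (.node (.node (.leaf 8495104) (.leaf 113172480)) (.node (.leaf 72502108) (.leaf 0))) (.node (.node (.leaf 57245696) (.leaf 0)) (.node (.leaf 78692352) (.leaf 0)))) (.node (.node (.node (.leaf 14311424) (.leaf 165863424)) (.node (.leaf 64069632) (.leaf 0))) (.node (.node (.leaf 37773312) (.leaf 0)) (.node (.leaf 147300352) (.leaf 0))))) (.node (.node (.node (.node (.leaf 8822784) (.leaf 162439168)) (.node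 (.leaf 57180160) (.leaf 0))) (.node (.node (.leaf 68632576) (.leaf 0)) (.node (.leaf 86499328) (.leaf 0)))) (.node (.node (.node (.leaf 19955712) (.leaf 167737787)) (.node (.leaf 125771776) (.leaf 0))) (.node (.node (.leaf 89333760) (.leaf 0)) (.node (.leaf 103473152) (.leaf 0))))))) (.node (.node (.node (.node (.node (.node (.leaf 2064384) (.leaf 142420857)) (.node (.leaf 96649216) (.leaf 0))) (.node (.node (.leaf 54517760) (.leaf 0)) (.node (.leaf 131678208) (.leaf 0)))) (.node (.node (.node (.leaf 12861440) (.leaf 148163433)) (.node (.leaf 115138560) (.leaf 0))) (.node (.node (.leaf 36192256) (.leaf 0)) (.node (.leaf 145653760) (.leaf 0))))) (.node (.node (.node (.node (.leaf 18243584) (.leaf 161366016)) (.node (.leaf 55492608) (.leaf 0))) (.node (.node (.leaf 65847296) (.leaf 0)) (.node (.leaf 138813440) (.leaf 0)))) (.node (.node (.node (.leaf 18554880) (.leaf 148529152)) (.node (.leaf 123691008) (.leaf 0))) (.node (.node (.leaf 42352640) (.leaf 0)) (.node (.leaf 151797760) (.leaf 0)))))) (.node (.node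 (.node (.node (.node (.leaf 11739136) (.leaf 120683545)) (.node (.leaf 101474304) (.leaf 0))) (.node (.node (.leaf 27197440) (.leaf 0)) (.node (.leaf 124056425) (.leaf 0)))) (.node (.node (.node (.leaf 26112178) (.leaf 155754598)) (.node (.leaf 119439360) (.leaf 0))) (.node (.node (.leaf 81698816) (.leaf 0)) (.node (.leaf 136010187) (.leaf 0))))) (.node (.node (.node (.node (.leaf 10182656) (.leaf 126664704)) (.node (.leaf 58793984) (.leaf 0))) (.node (.node (.leaf 65858386) (.leaf 0)) (.node (.leaf 142442496) (.leaf 0)))) (.node (.node (.node (.leaf 21372928) (.leaf 159268864)) (.node (.leaf 73129984) (.leaf 0))) (.node (.node (.leaf 45514752) (.leaf 0)) (.node (.leaf 154525696) (.leaf 0))))))))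

def e1T19 : NT := .node (.node (.node (.node (.node (.node (.node (.node (.leaf 90112) (.leaf 155164672)) (.node (.leaf 46309376) (.leaf 0))) (.node (.node (.leaf 50225152) (.leaf 167002575)) (.node (.leaf 74031104) (.leaf 0)))) (.node (.node (.node (.leaf 26058752) (.leaf 163749888)) (.node (.leaf 59703296) (.leaf 0))) (.node (.node (.leaf 72515584) (.leaf 0)) (.node (.leaf 89522176) (.leaf 0))))) (.node (.node (.node (.node (.leaf 5423104) (.leaf 159776768)) (.node (.leaf 102588416) (.leaf 0))) (.node (.node (.leaf 61693952) (.leaf 0)) (.node (.leaf 85415660) (.leaf 0)))) (.node (.node (.node (.leaf 16416768) (.leaf 164886135)) (.node (.leaf 120446976) (.leaf 0))) (.node (.node (.leaf 40050688) (.leaf 0)) (.node (.leaf 149610496) (.leaf 0)))))) (.node (.node (.node (.node (.node (.leaf 6856704) (.leaf 112074752)) (.node (.leaf 91062450) (.leaf 0))) (.node (.node (.leaf 24969216) (.leaf 0)) (.node (.leaf 132579328) (.leaf 0)))) (.node (.node (.node (.leaf 32301056) (.leaf 134627328)) (.node (.leaf 116269056)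 (.leaf 0))) (.node (.node (.leaf 77840384) (.leaf 0)) (.node (.leaf 93667328) (.leaf 0))))) (.node (.node (.node (.node (.leaf 19881984) (.leaf 122339328)) (.node (.leaf 56279040) (.leaf 0))) (.node (.node (.leaf 30875648) (.leaf 0)) (.node (.leaf 139812864) (.leaf 0)))) (.node (.node (.node (.leaf 44318720) (.leaf 163259807)) (.node (.leaf 124706816) (.leaf 0))) (.node (.node (.leaf 88006656) (.leaf 0)) (.node (.leaf 102416384) (.leaf 0))))))) (.node (.node (.node (.node (.node (.node (.leaf 1409024) (.leaf 129947568)) (.node (.leaf 74836817) (.leaf 0))) (.node (.node (.leaf 23535616) (.leaf 0)) (.node (.leaf 130605056) (.leaf 0)))) (.node (.node (.node (.leaf 12189696) (.leaf 149996794)) (.node (.leaf 114040832) (.leaf 0))) (.node (.node (.leaf 47599140) (.leaf 0)) (.node (.leaf 118085147) (.leaf 0))))) (.node (.node (.node (.node (.leaf 6774784) (.leaf 119734272)) (.node (.leaf 104882176) (.leaf 0))) (.node (.node (.leaf 64413696) (.leaf 0)) (.node (.leaf 121874748) (.leaf 0)))) (.node (.node (.node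 (.leaf 41353216) (.leaf 167346176)) (.node (.leaf 72237108) (.leaf 0))) (.node (.node (.leaf 52756763) (.leaf 0)) (.node (.leaf 138417199) (.leaf 0)))))) (.node (.node (.node (.node (.node (.leaf 10133504) (.leaf 114311168)) (.node (.leaf 65511992) (.leaf 0))) (.node (.node (.leaf 26492928) (.leaf 0)) (.node (.leaf 134381568) (.leaf 0)))) (.node (.node (.node (.leaf 35340288) (.leaf 138182656)) (.node (.leaf 118472704) (.leaf 0))) (.node (.node (.leaf 38617088) (.leaf 0)) (.node (.leaf 95805440) (.leaf 0))))) (.node (.node (.node (.node (.leaf 9502720) (.leaf 125157376)) (.node (.leaf 109666304) (.leaf 0))) (.node (.node (.leaf 32374784) (.leaf 0)) (.node (.leaf 87490560) (.leaf 0)))) (.node (.node (.node (.leaf 47308800) (.leaf 156937504)) (.node (.leaf 83166313) (.leaf 0))) (.node (.node (.leaf 44744704) (.leaf 0)) (.node (.leaf 104620032) (.leaf 0)))))))) (.node (.node (.node (.node (.node (.node (.node (.leaf 1933312) (.leaf 118986616)) (.node (.leaf 78549137) (.leaf 0))) (.node (.node (.leaf 22822912)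 (.leaf 0)) (.node (.leaf 74948608) (.leaf 0)))) (.node (.node (.node (.leaf 27615232) (.leaf 129687552)) (.node (.leaf 112975872) (.leaf 0))) (.node (.node (.leaf 73850880) (.leaf 0)) (.node (.leaf 90537984) (.leaf 0))))) (.node (.node (.node (.node (.leaf 6086656) (.leaf 134932939)) (.node (.leaf 53796864) (.leaf 0))) (.node (.node (.leaf 28680192) (.leaf 0)) (.node (.leaf 82468864) (.leaf 0)))) (.node (.node (.node (.leaf 39837696) (.leaf 144195584)) (.node (.leaf 67608576) (.leaf 0))) (.node (.node (.leaf 84303872) (.leaf 0)) (.node (.leaf 124044759) (.leaf 0)))))) (.node (.node (.node (.node (.node (.leaf 3407872) (.leaf 113180672)) (.node (.leaf 99082240) (.leaf 0))) (.node (.node (.leaf 57262080) (.leaf 0)) (.node (.leaf 133496832) (.leaf 0)))) (.node (.node (.node (.leaf 33673240) (.leaf 165871616)) (.node (.leaf 117317632) (.leaf 0))) (.node (.node (.leaf 79077376) (.leaf 0)) (.node (.leaf 147308544) (.leaf 0))))) (.node (.node (.node (.node (.leaf 21446656) (.leaf 123846656)) (.node (.leaf 108617728)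 (.leaf 0))) (.node (.node (.leaf 57173696) (.leaf 0)) (.node (.leaf 140746752) (.leaf 0)))) (.node (.node (.node (.leaf 34048548) (.leaf 167071691)) (.node (.leaf 88771058) (.leaf 0))) (.node (.node (.leaf 89350144) (.leaf 0)) (.node (.leaf 110972922) (.leaf 0))))))) (.node (.node (.node (.node (.node (.node (.leaf 5234688) (.leaf 110804992)) (.node (.leaf 90777625) (.leaf 0))) (.node (.node (.leaf 54534144) (.leaf 0)) (.node (.leaf 131694592) (.leaf 0)))) (.node (.node (.node (.leaf 25211243) (.leaf 165126144)) (.node (.leaf 62390272) (.leaf 0))) (.node (.node (.leaf 76496896) (.leaf 0)) (.node (.leaf 92667904) (.leaf 0))))) (.node (.node (.node (.node (.leaf 18259968) (.leaf 121069568)) (.node (.leaf 106184704) (.leaf 0))) (.node (.node (.leaf 65863680) (.leaf 0)) (.node (.leaf 138829824) (.leaf 0)))) (.node (.node (.node (.leaf 23382996) (.leaf 148750336)) (.node (.leaf 69451776) (.leaf 0))) (.node (.node (.leaf 84560551) (.leaf 0)) (.node (.leaf 151814144) (.leaf 0)))))) (.node (.node (.node (.node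 (.node (.leaf 4743168) (.leaf 143389575)) (.node (.leaf 101490688) (.leaf 0))) (.node (.node (.leaf 60268544) (.leaf 0)) (.node (.leaf 98576386) (.leaf 0)))) (.node (.node (.node (.leaf 15695872) (.leaf 145200122)) (.node (.leaf 65912832) (.leaf 0))) (.node (.node (.leaf 66735731) (.leaf 0)) (.node (.leaf 96878592) (.leaf 0))))) (.node (.node (.node (.node (.leaf 15887766) (.leaf 126681088)) (.node (.leaf 62329873) (.leaf 0))) (.node (.node (.leaf 33112064) (.leaf 0)) (.node (.leaf 88514560) (.leaf 0)))) (.node (.node (.node (.leaf 48783360) (.leaf 164748082)) (.node (.leaf 127787008) (.leaf 0))) (.node (.node (.leaf 70061931) (.leaf 0)) (.node (.leaf 154533888) (.leaf 0))))))))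

def e1T20 : NT := .node (.node (.node (.node (.node (.node (.node (.node (.leaf 270336) (.leaf 107110400)) (.node (.leaf 93052928) (.leaf 0))) (.node (.node (.leaf 42553973) (.leaf 166779873)) (.node (.leaf 74047488) (.leaf 0)))) (.node (.node (.node (.leaf 10854400) (.leaf 145389189)) (.node (.leaf 111886336) (.leaf 0))) (.node (.node (.leaf 33898496) (.leaf 0)) (.node (.leaf 143187968) (.leaf 0))))) (.node (.node (.node (.node (.leaf 13361152) (.leaf 133813840)) (.node (.leaf 92244324) (.leaf 0))) (.node (.node (.leaf 61710336) (.leaf 0)) (.node (.leaf 118601113) (.leaf 0)))) (.node (.node (.node (.leaf 38387712) (.leaf 142237696)) (.node (.leaf 120463360) (.leaf 0))) (.node (.node (.leaf 83099648) (.leaf 0)) (.node (.leaf 149618688) (.leaf 0)))))) (.node (.node (.node (.node (.node (.leaf 6873088) (.leaf 112082944)) (.node (.leaf 49651712) (.leaf 0))) (.node (.node (.leaf 55902208) (.leaf 0)) (.node (.leaf 77873152) (.leaf 0)))) (.node (.node (.node (.leaf 32317440) (.leaf 147475475)) (.node (.leaf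 63250432) (.leaf 0))) (.node (.node (.leaf 39869602) (.leaf 0)) (.node (.leaf 131526803) (.leaf 0))))) (.node (.node (.node (.node (.leaf 8159232) (.leaf 161947648)) (.node (.leaf 86647839) (.leaf 0))) (.node (.node (.leaf 67256320) (.leaf 0)) (.node (.leaf 85508096) (.leaf 0)))) (.node (.node (.node (.leaf 44335104) (.leaf 151142400)) (.node (.leaf 70385664) (.leaf 0))) (.node (.node (.leaf 43122688) (.leaf 0)) (.node (.leaf 102424576) (.leaf 0))))))) (.node (.node (.node (.node (.node (.node (.leaf 3596288) (.leaf 128706318)) (.node (.leaf 47964160) (.leaf 0))) (.node (.node (.leaf 53149696) (.leaf 0)) (.node (.leaf 75948032) (.leaf 0)))) (.node (.node (.node (.leaf 29171712) (.leaf 131407872)) (.node (.leaf 92564276) (.leaf 0))) (.node (.node (.leaf 35414016) (.leaf 0)) (.node (.leaf 91652096) (.leaf 0))))) (.node (.node (.node (.node (.leaf 16621568) (.leaf 123612509)) (.node (.leaf 104898560) (.leaf 0))) (.node (.node (.leaf 29433856) (.leaf 0)) (.node (.leaf 83525632) (.leaf 0)))) (.node (.node (.node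 (.leaf 17858560) (.leaf 157847334)) (.node (.leaf 74400560) (.leaf 0))) (.node (.node (.leaf 41541632) (.leaf 0)) (.node (.leaf 100106240) (.leaf 0)))))) (.node (.node (.node (.node (.node (.leaf 10149888) (.leaf 118970329)) (.node (.leaf 73564735) (.leaf 0))) (.node (.node (.leaf 58810368) (.leaf 0)) (.node (.leaf 134389760) (.leaf 0)))) (.node (.node (.node (.leaf 15015936) (.leaf 157452650)) (.node (.leaf 64937984) (.leaf 0))) (.node (.node (.leaf 80379904) (.leaf 0)) (.node (.leaf 148045824) (.leaf 0))))) (.node (.node (.node (.node (.leaf 22978560) (.leaf 125979198)) (.node (.leaf 109682688) (.leaf 0))) (.node (.node (.leaf 69861376) (.leaf 0)) (.node (.leaf 141590528) (.leaf 0)))) (.node (.node (.node (.leaf 47325184) (.leaf 156205056)) (.node (.leaf 107034826) (.leaf 0))) (.node (.node (.leaf 90562560) (.leaf 0)) (.node (.leaf 104628224) (.leaf 0)))))))) (.node (.node (.node (.node (.node (.node (.node (.leaf 1949696) (.leaf 148015334)) (.node (.leaf 94314496) (.leaf 0))) (.node (.node (.leaf 51691520)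 (.leaf 0)) (.node (.leaf 129712128) (.leaf 0)))) (.node (.node (.node (.leaf 27631616) (.leaf 129703936)) (.node (.leaf 60579840) (.leaf 0))) (.node (.node (.leaf 34652160) (.leaf 0)) (.node (.leaf 119220985) (.leaf 0))))) (.node (.node (.node (.node (.leaf 8055691) (.leaf 118382592)) (.node (.leaf 71904886) (.leaf 0))) (.node (.node (.leaf 63127552) (.leaf 0)) (.node (.leaf 84165934) (.leaf 0)))) (.node (.node (.node (.leaf 39854080) (.leaf 144244736)) (.node (.leaf 100191912) (.leaf 0))) (.node (.node (.leaf 80501700) (.leaf 0)) (.node (.leaf 98951168) (.leaf 0)))))) (.node (.node (.node (.node (.node (.leaf 8519680) (.leaf 113197056)) (.node (.leaf 50487296) (.leaf 0))) (.node (.node (.leaf 57278464) (.leaf 0)) (.node (.leaf 78700544) (.leaf 0)))) (.node (.node (.node (.leaf 14319616) (.leaf 136331264)) (.node (.leaf 64077824) (.leaf 0))) (.node (.node (.leaf 79093760) (.leaf 0)) (.node (.leaf 147316736) (.leaf 0))))) (.node (.node (.node (.node (.leaf 8830976) (.leaf 135431000)) (.node (.leaf 57188352)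 (.leaf 0))) (.node (.node (.leaf 31637504) (.leaf 0)) (.node (.leaf 127056461) (.leaf 0)))) (.node (.node (.node (.leaf 19963904) (.leaf 156736357)) (.node (.leaf 71327744) (.leaf 0))) (.node (.node (.leaf 43933696) (.leaf 0)) (.node (.leaf 103481344) (.leaf 0))))))) (.node (.node (.node (.node (.node (.node (.leaf 5251072) (.leaf 118740812)) (.node (.leaf 96673792) (.leaf 0))) (.node (.node (.leaf 24231936) (.leaf 0)) (.node (.leaf 76972032) (.leaf 0)))) (.node (.node (.node (.leaf 12869632) (.leaf 154005719)) (.node (.leaf 115163136) (.leaf 0))) (.node (.node (.leaf 36200448) (.leaf 0)) (.node (.leaf 109811322) (.leaf 0))))) (.node (.node (.node (.node (.leaf 7462912) (.leaf 161382400)) (.node (.leaf 106201088) (.leaf 0))) (.node (.node (.leaf 65880064) (.leaf 0)) (.node (.leaf 127117457) (.leaf 0)))) (.node (.node (.node (.leaf 42835968) (.leaf 148545536)) (.node (.leaf 69459968) (.leaf 0))) (.node (.node (.leaf 42360832) (.leaf 0)) (.node (.leaf 151822336) (.leaf 0)))))) (.node (.node (.node (.node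 (.node (.leaf 11755520) (.leaf 136529305)) (.node (.leaf 52142080) (.leaf 0))) (.node (.node (.leaf 60284928) (.leaf 0)) (.node (.leaf 80543744) (.leaf 0)))) (.node (.node (.node (.leaf 36921344) (.leaf 161938550)) (.node (.leaf 119455744) (.leaf 0))) (.node (.node (.leaf 39346176) (.leaf 0)) (.node (.leaf 145414208) (.leaf 0))))) (.node (.node (.node (.node (.leaf 15603899) (.leaf 144437837)) (.node (.leaf 110813184) (.leaf 0))) (.node (.node (.leaf 38510896) (.leaf 0)) (.node (.leaf 120369563) (.leaf 0)))) (.node (.node (.node (.leaf 48799744) (.leaf 159358976)) (.node (.leaf 127795200) (.leaf 0))) (.node (.node (.leaf 45522944) (.leaf 0)) (.node (.leaf 147110155) (.leaf 0))))))))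

def e1T21 : NT := .node (.node (.node (.node (.node (.node (.node (.node (.leaf 286720) (.leaf 107118592)) (.node (.leaf 93069312) (.leaf 0))) (.node (.node (.leaf 22085632) (.leaf 165888000)) (.node (.leaf 82941687) (.leaf 0)))) (.node (.node (.node (.leaf 26083328) (.leaf 128155648)) (.node (.leaf 59711488) (.leaf 0))) (.node (.node (.leaf 72531968) (.leaf 0)) (.node (.leaf 124297321) (.leaf 0))))) (.node (.node (.node (.node (.leaf 5431296) (.leaf 138158701)) (.node (.leaf 52969472) (.leaf 0))) (.node (.node (.leaf 49609501) (.leaf 0)) (.node (.leaf 81502208) (.leaf 0)))) (.node (.node (.node (.leaf 16424960) (.leaf 147861009)) (.node (.leaf 66822144) (.leaf 0))) (.node (.node (.leaf 82788605) (.leaf 0)) (.node (.leaf 98896216) (.leaf 0)))))) (.node (.node (.node (.node (.node (.leaf 2752512) (.leaf 156291269)) (.node (.leaf 97853440) (.leaf 0))) (.node (.node (.leaf 24977408) (.leaf 0)) (.node (.leaf 132587520) (.leaf 0)))) (.node (.node (.node (.leaf 13582336) (.leaf 165193871)) (.node (.leaf 63258624)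 (.leaf 0))) (.node (.node (.leaf 40577184) (.leaf 0)) (.node (.leaf 93675520) (.leaf 0))))) (.node (.node (.node (.node (.leaf 19906560) (.leaf 122372096)) (.node (.leaf 56295424) (.leaf 0))) (.node (.node (.leaf 67264512) (.leaf 0)) (.node (.leaf 85516288) (.leaf 0)))) (.node (.node (.node (.leaf 19283968) (.leaf 151150592)) (.node (.leaf 124715008) (.leaf 0))) (.node (.node (.leaf 88031232) (.leaf 0)) (.node (.leaf 152461312) (.leaf 0))))))) (.node (.node (.node (.node (.node (.node (.leaf 1417216) (.leaf 109576192)) (.node (.leaf 95485952) (.leaf 0))) (.node (.node (.leaf 23543808) (.leaf 0)) (.node (.leaf 130629632) (.leaf 0)))) (.node (.node (.node (.leaf 29188096) (.leaf 160661740)) (.node (.leaf 61521920) (.leaf 0))) (.node (.node (.leaf 75194368) (.leaf 0)) (.node (.leaf 144834560) (.leaf 0))))) (.node (.node (.node (.node (.leaf 6782976) (.leaf 134234763)) (.node (.leaf 54632448) (.leaf 0))) (.node (.node (.leaf 64438272) (.leaf 0)) (.node (.leaf 127423604) (.leaf 0)))) (.node (.node (.node (.leaf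 41377792) (.leaf 167362560)) (.node (.leaf 68550656) (.leaf 0))) (.node (.node (.leaf 85499904) (.leaf 0)) (.node (.leaf 150765646) (.leaf 0)))))) (.node (.node (.node (.node (.node (.leaf 10166272) (.leaf 158760960)) (.node (.leaf 51322880) (.leaf 0))) (.node (.node (.leaf 58826752) (.leaf 0)) (.node (.leaf 79642624) (.leaf 0)))) (.node (.node (.node (.leaf 35364864) (.leaf 138190848)) (.node (.leaf 82581095) (.leaf 0))) (.node (.node (.leaf 38625280) (.leaf 0)) (.node (.leaf 148062208) (.leaf 0))))) (.node (.node (.node (.node (.leaf 9519104) (.leaf 125181952)) (.node (.leaf 109690880) (.leaf 0))) (.node (.node (.leaf 69877760) (.leaf 0)) (.node (.leaf 141598720) (.leaf 0)))) (.node (.node (.node (.leaf 20668416) (.leaf 164087495)) (.node (.leaf 72245248) (.leaf 0))) (.node (.node (.leaf 90570752) (.leaf 0)) (.node (.leaf 122222777) (.leaf 0)))))))) (.node (.node (.node (.node (.node (.node (.node (.leaf 761856) (.leaf 108257280)) (.node (.leaf 47071232) (.leaf 0))) (.node (.node (.leaf 22831104) (.leaf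 0)) (.node (.leaf 74964992) (.leaf 0)))) (.node (.node (.node (.leaf 11526144) (.leaf 152696694)) (.node (.leaf 110579729) (.leaf 0))) (.node (.node (.leaf 73875456) (.leaf 0)) (.node (.leaf 90578944) (.leaf 0))))) (.node (.node (.node (.node (.leaf 14974976) (.leaf 118398976)) (.node (.leaf 53813248) (.leaf 0))) (.node (.node (.leaf 63143936) (.leaf 0)) (.node (.leaf 95418857) (.leaf 0)))) (.node (.node (.node (.leaf 17145856) (.leaf 154219752)) (.node (.leaf 105270458) (.leaf 0))) (.node (.node (.leaf 40837120) (.leaf 0)) (.node (.leaf 114465941) (.leaf 0)))))) (.node (.node (.node (.node (.node (.leaf 3416064) (.leaf 149872722)) (.node (.leaf 91719709) (.leaf 0))) (.node (.node (.leaf 57294848) (.leaf 0)) (.node (.leaf 133513216) (.leaf 0)))) (.node (.node (.node (.leaf 33873920) (.leaf 136339456)) (.node (.leaf 117342208) (.leaf 0))) (.node (.node (.leaf 37789696) (.leaf 0)) (.node (.leaf 94756864) (.leaf 0))))) (.node (.node (.node (.node (.leaf 13806494) (.leaf 123854848)) (.node (.leaf 88360451)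 (.leaf 0))) (.node (.node (.leaf 68657152) (.leaf 0)) (.node (.leaf 86515712) (.leaf 0)))) (.node (.node (.node (.leaf 45850624) (.leaf 159801619)) (.node (.leaf 114489148) (.leaf 0))) (.node (.node (.leaf 89374720) (.leaf 0)) (.node (.leaf 153124864) (.leaf 0))))))) (.node (.node (.node (.node (.node (.node (.leaf 2080768) (.leaf 136732738)) (.node (.leaf 48832512) (.leaf 0))) (.node (.node (.leaf 25696642) (.leaf 0)) (.node (.leaf 76996608) (.leaf 0)))) (.node (.node (.node (.leaf 30752768) (.leaf 161541837)) (.node (.leaf 62398464) (.leaf 0))) (.node (.node (.leaf 63155096) (.leaf 0)) (.node (.leaf 92684288) (.leaf 0))))) (.node (.node (.node (.node (.leaf 18284544) (.leaf 121077760)) (.node (.leaf 55508992) (.leaf 0))) (.node (.node (.leaf 30162944) (.leaf 0)) (.node (.leaf 84541440) (.leaf 0)))) (.node (.node (.node (.leaf 18579456) (.leaf 148570112)) (.node (.leaf 123715584) (.leaf 0))) (.node (.node (.leaf 86728704) (.leaf 0)) (.node (.leaf 151830528) (.leaf 0)))))) (.node (.node (.node (.node (.node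 (.leaf 11771904) (.leaf 150411825)) (.node (.leaf 52150272) (.leaf 0))) (.node (.node (.leaf 27213824) (.leaf 0)) (.node (.leaf 135331840) (.leaf 0)))) (.node (.node (.node (.leaf 36937728) (.leaf 140296192)) (.node (.leaf 65921024) (.leaf 0))) (.node (.node (.leaf 70045502) (.leaf 0)) (.node (.leaf 96903168) (.leaf 0))))) (.node (.node (.node (.node (.leaf 10199040) (.leaf 126697472)) (.node (.leaf 110821376) (.leaf 0))) (.node (.node (.leaf 33120256) (.leaf 0)) (.node (.leaf 142475264) (.leaf 0)))) (.node (.node (.node (.leaf 21389312) (.leaf 160553640)) (.node (.leaf 73146368) (.leaf 0))) (.node (.node (.leaf 91758592) (.leaf 0)) (.node (.leaf 154542080) (.leaf 0))))))))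

def e1T22 : NT := .node (.node (.node (.node (.node (.node (.node (.node (.leaf 106496) (.leaf 155181056)) (.node (.leaf 46325760) (.leaf 0))) (.node (.node (.leaf 50257920) (.leaf 167304225)) (.node (.leaf 128802816) (.leaf 0)))) (.node (.node (.node (.leaf 26099712) (.leaf 159974400)) (.node (.leaf 111910912) (.leaf 0))) (.node (.node (.leaf 72548352) (.leaf 0)) (.node (.leaf 89546752) (.leaf 0))))) (.node (.node (.node (.node (.leaf 13385728) (.leaf 159793152)) (.node (.leaf 52985856) (.leaf 0))) (.node (.node (.leaf 27983872) (.leaf 0)) (.node (.leaf 129025383) (.leaf 0)))) (.node (.node (.node (.leaf 38412288) (.leaf 144599312)) (.node (.leaf 120487936) (.leaf 0))) (.node (.node (.leaf 40067072) (.leaf 0)) (.node (.leaf 149643264) (.leaf 0)))))) (.node (.node (.node (.node (.node (.leaf 6897664) (.leaf 117589612)) (.node (.leaf 49668096) (.leaf 0))) (.node (.node (.leaf 55926784) (.leaf 0)) (.node (.leaf 128955228) (.leaf 0)))) (.node (.node (.node (.leaf 32342016) (.leaf 134651904)) (.node (.leaf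 116293632) (.leaf 0))) (.node (.node (.leaf 60514336) (.leaf 0)) (.node (.leaf 146530304) (.leaf 0))))) (.node (.node (.node (.node (.leaf 8167424) (.leaf 152433802)) (.node (.leaf 66193687) (.leaf 0))) (.node (.node (.leaf 30892032) (.leaf 0)) (.node (.leaf 139837440) (.leaf 0)))) (.node (.node (.node (.leaf 44359680) (.leaf 151191552)) (.node (.leaf 70402048) (.leaf 0))) (.node (.node (.leaf 88039424) (.leaf 0)) (.node (.leaf 147253406) (.leaf 0))))))) (.node (.node (.node (.node (.node (.node (.leaf 3620864) (.leaf 156499968)) (.node (.leaf 95502336) (.leaf 0))) (.node (.node (.leaf 53174272) (.leaf 0)) (.node (.leaf 75964416) (.leaf 0)))) (.node (.node (.node (.leaf 12206080) (.leaf 147803291)) (.node (.leaf 106099980) (.leaf 0))) (.node (.node (.leaf 35430400) (.leaf 0)) (.node (.leaf 144850944) (.leaf 0))))) (.node (.node (.node (.node (.leaf 16646144) (.leaf 160956416)) (.node (.leaf 104906752) (.leaf 0))) (.node (.node (.leaf 29450240) (.leaf 0)) (.node (.leaf 137961472) (.leaf 0)))) (.node (.node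 (.node (.leaf 41394176) (.leaf 146407424)) (.node (.leaf 122650624) (.leaf 0))) (.node (.node (.leaf 41558016) (.leaf 0)) (.node (.leaf 100122624) (.leaf 0)))))) (.node (.node (.node (.node (.node (.leaf 4096000) (.leaf 140692557)) (.node (.leaf 100261888) (.leaf 0))) (.node (.node (.leaf 58834944) (.leaf 0)) (.node (.leaf 107746905) (.leaf 0)))) (.node (.node (.node (.leaf 15024128) (.leaf 164073058)) (.node (.leaf 118480896) (.leaf 0))) (.node (.node (.leaf 80404480) (.leaf 0)) (.node (.leaf 148070400) (.leaf 0))))) (.node (.node (.node (.node (.leaf 23003136) (.leaf 125198336)) (.node (.leaf 109699072) (.leaf 0))) (.node (.node (.leaf 32391168) (.leaf 0)) (.node (.leaf 87506944) (.leaf 0)))) (.node (.node (.node (.leaf 47349760) (.leaf 166717326)) (.node (.leaf 83062881) (.leaf 0))) (.node (.node (.leaf 44761088) (.leaf 0)) (.node (.leaf 104652800) (.leaf 0)))))))) (.node (.node (.node (.node (.node (.node (.node (.leaf 1966080) (.leaf 114095343)) (.node (.leaf 94339072) (.leaf 0))) (.node (.node (.leaf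 51716096) (.leaf 0)) (.node (.leaf 74981376) (.leaf 0)))) (.node (.node (.node (.leaf 27639808) (.leaf 131851487)) (.node (.leaf 60596224) (.leaf 0))) (.node (.node (.leaf 34668544) (.leaf 0)) (.node (.leaf 92024691) (.leaf 0))))) (.node (.node (.node (.node (.leaf 6103040) (.leaf 160423936)) (.node (.leaf 86191370) (.leaf 0))) (.node (.node (.leaf 28712960) (.leaf 0)) (.node (.leaf 82485248) (.leaf 0)))) (.node (.node (.node (.leaf 27943852) (.leaf 157983418)) (.node (.leaf 121626624) (.leaf 0))) (.node (.node (.leaf 81694201) (.leaf 0)) (.node (.leaf 102684221) (.leaf 0)))))) (.node (.node (.node (.node (.node (.leaf 8544256) (.leaf 153473716)) (.node (.leaf 50503680) (.leaf 0))) (.node (.node (.leaf 25763840) (.leaf 0)) (.node (.leaf 81110509) (.leaf 0)))) (.node (.node (.node (.leaf 33890304) (.leaf 143358508)) (.node (.leaf 117358592) (.leaf 0))) (.node (.node (.leaf 79110144) (.leaf 0)) (.node (.leaf 144498688) (.leaf 0))))) (.node (.node (.node (.node (.leaf 21479424) (.leaf 162463744)) (.node (.leaf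 108642304) (.leaf 0))) (.node (.node (.leaf 31645696) (.leaf 0)) (.node (.leaf 139119868) (.leaf 0)))) (.node (.node (.node (.leaf 45867008) (.leaf 153411584)) (.node (.leaf 125796352) (.leaf 0))) (.node (.node (.leaf 53621634) (.leaf 0)) (.node (.leaf 117173305) (.leaf 0))))))) (.node (.node (.node (.node (.node (.node (.leaf 5275648) (.leaf 133194571)) (.node (.leaf 48840704) (.leaf 0))) (.node (.node (.leaf 24240128) (.leaf 0)) (.node (.leaf 131710976) (.leaf 0)))) (.node (.node (.node (.leaf 30769152) (.leaf 149486359)) (.node (.leaf 115179520) (.leaf 0))) (.node (.node (.leaf 36216832) (.leaf 0)) (.node (.leaf 92708864) (.leaf 0))))) (.node (.node (.node (.node (.leaf 18300928) (.leaf 121252675)) (.node (.leaf 106225664) (.leaf 0))) (.node (.node (.leaf 60695084) (.leaf 0)) (.node (.leaf 138846208) (.leaf 0)))) (.node (.node (.node (.leaf 42860544) (.leaf 152327660)) (.node (.leaf 69476352) (.leaf 0))) (.node (.node (.leaf 42369024) (.leaf 0)) (.node (.leaf 101294080) (.leaf 0)))))) (.node (.node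 (.node (.node (.node (.leaf 4759552) (.leaf 149588339)) (.node (.leaf 52158464) (.leaf 0))) (.node (.node (.leaf 60301312) (.leaf 0)) (.node (.leaf 135348224) (.leaf 0)))) (.node (.node (.node (.leaf 15712256) (.leaf 152116175)) (.node (.leaf 89383190) (.leaf 0))) (.node (.node (.leaf 39354368) (.leaf 0)) (.node (.leaf 148881408) (.leaf 0))))) (.node (.node (.node (.node (.leaf 24584192) (.leaf 126730240)) (.node (.leaf 58818560) (.leaf 0))) (.node (.node (.leaf 71213056) (.leaf 0)) (.node (.leaf 94793212) (.leaf 0)))) (.node (.node (.node (.leaf 48824320) (.leaf 159399936)) (.node (.leaf 101174858) (.leaf 0))) (.node (.node (.leaf 45531136) (.leaf 0)) (.node (.leaf 152970784) (.leaf 0))))))))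

def e1T23 : NT := .node (.node (.node (.node (.node (.node (.node (.node (.leaf 311296) (.leaf 155189248)) (.node (.leaf 46342144) (.leaf 0))) (.node (.node (.leaf 22102016) (.leaf 167818004)) (.node (.leaf 74063872) (.leaf 0)))) (.node (.node (.node (.leaf 10870784) (.leaf 128172032)) (.node (.leaf 111919104) (.leaf 0))) (.node (.node (.leaf 72564736) (.leaf 0)) (.node (.leaf 89571328) (.leaf 0))))) (.node (.node (.node (.node (.leaf 13402112) (.leaf 116973568)) (.node (.leaf 56419144) (.leaf 0))) (.node (.node (.leaf 61734912) (.leaf 0)) (.node (.leaf 81518592) (.leaf 0)))) (.node (.node (.node (.leaf 38428672) (.leaf 166014653)) (.node (.leaf 66838528) (.leaf 0))) (.node (.node (.leaf 83132416) (.leaf 0)) (.node (.leaf 97927168) (.leaf 0)))))) (.node (.node (.node (.node (.node (.leaf 2760704) (.leaf 112123904)) (.node (.leaf 49676288) (.leaf 0))) (.node (.node (.leaf 24993792) (.leaf 0)) (.node (.leaf 77889536) (.leaf 0)))) (.node (.node (.node (.leaf 32358400) (.leaf 134668288)) (.node (.leaf 116301824)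 (.leaf 0))) (.node (.node (.leaf 37011456) (.leaf 0)) (.node (.leaf 145207961) (.leaf 0))))) (.node (.node (.node (.node (.leaf 19931136) (.leaf 122404864)) (.node (.leaf 56303616) (.leaf 0))) (.node (.node (.leaf 67289088) (.leaf 0)) (.node (.leaf 85524480) (.leaf 0)))) (.node (.node (.node (.leaf 19292160) (.leaf 166369262)) (.node (.leaf 124723200) (.leaf 0))) (.node (.node (.leaf 43139072) (.leaf 0)) (.node (.leaf 102440960) (.leaf 0))))))) (.node (.node (.node (.node (.node (.node (.leaf 3637248) (.leaf 121349462)) (.node (.leaf 48005120) (.leaf 0))) (.node (.node (.leaf 53182464) (.leaf 0)) (.node (.leaf 116467824) (.leaf 0)))) (.node (.node (.node (.leaf 29212672) (.leaf 131457024)) (.node (.leaf 61530112) (.leaf 0))) (.node (.node (.leaf 75210752) (.leaf 0)) (.node (.leaf 91701248) (.leaf 0))))) (.node (.node (.node (.node (.leaf 16662528) (.leaf 160964608)) (.node (.leaf 54640640) (.leaf 0))) (.node (.node (.leaf 64462848) (.leaf 0)) (.node (.leaf 83542016) (.leaf 0)))) (.node (.node (.node (.leaf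 17874944) (.leaf 146423808)) (.node (.leaf 122658816) (.leaf 0))) (.node (.node (.leaf 41566208) (.leaf 0)) (.node (.leaf 148568603) (.leaf 0)))))) (.node (.node (.node (.node (.node (.leaf 10190848) (.leaf 116751389)) (.node (.leaf 100278272) (.leaf 0))) (.node (.node (.leaf 26517504) (.leaf 0)) (.node (.leaf 79650816) (.leaf 0)))) (.node (.node (.node (.leaf 35389440) (.leaf 161435400)) (.node (.leaf 83773316) (.leaf 0))) (.node (.node (.leaf 80420864) (.leaf 0)) (.node (.leaf 110837784) (.leaf 0))))) (.node (.node (.node (.node (.leaf 9527296) (.leaf 153928579)) (.node (.leaf 109715456) (.leaf 0))) (.node (.node (.leaf 69902336) (.leaf 0)) (.node (.leaf 135906681) (.leaf 0)))) (.node (.node (.node (.leaf 47366144) (.leaf 156385280)) (.node (.leaf 126828544) (.leaf 0))) (.node (.node (.leaf 90595328) (.leaf 0)) (.node (.leaf 128268495) (.leaf 0)))))))) (.node (.node (.node (.node (.node (.node (.node (.leaf 770048) (.leaf 111843738)) (.node (.leaf 47079424) (.leaf 0))) (.node (.node (.leaf 51732480)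 (.leaf 0)) (.node (.leaf 86929160) (.leaf 0)))) (.node (.node (.node (.leaf 11534336) (.leaf 129736704)) (.node (.leaf 113008640) (.leaf 0))) (.node (.node (.leaf 73900032) (.leaf 0)) (.node (.leaf 144023552) (.leaf 0))))) (.node (.node (.node (.node (.leaf 14991360) (.leaf 160440320)) (.node (.leaf 53829632) (.leaf 0))) (.node (.node (.leaf 62772849) (.leaf 0)) (.node (.leaf 137125888) (.leaf 0)))) (.node (.node (.node (.leaf 39886848) (.leaf 144261120)) (.node (.leaf 67633152) (.leaf 0))) (.node (.node (.leaf 84344832) (.leaf 0)) (.node (.leaf 98975744) (.leaf 0)))))) (.node (.node (.node (.node (.node (.leaf 8560640) (.leaf 158171136)) (.node (.leaf 93923949) (.leaf 0))) (.node (.node (.leaf 57319424) (.leaf 0)) (.node (.leaf 86164370) (.leaf 0)))) (.node (.node (.node (.leaf 14336000) (.leaf 136355840)) (.node (.leaf 117366784) (.leaf 0))) (.node (.node (.leaf 37797888) (.leaf 0)) (.node (.leaf 94765056) (.leaf 0))))) (.node (.node (.node (.node (.leaf 8847360) (.leaf 156820816)) (.node (.leaf 57212928)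 (.leaf 0))) (.node (.node (.leaf 68681728) (.leaf 0)) (.node (.leaf 97689729) (.leaf 0)))) (.node (.node (.node (.leaf 19980288) (.leaf 153436160)) (.node (.leaf 71344128) (.leaf 0))) (.node (.node (.leaf 43950080) (.leaf 0)) (.node (.leaf 137684552) (.leaf 0))))))) (.node (.node (.node (.node (.node (.node (.leaf 2088960) (.leaf 157073408)) (.node (.leaf 96690176) (.leaf 0))) (.node (.node (.leaf 54566912) (.leaf 0)) (.node (.leaf 77012992) (.leaf 0)))) (.node (.node (.node (.leaf 30785536) (.leaf 132972544)) (.node (.leaf 62414848) (.leaf 0))) (.node (.node (.leaf 76529664) (.leaf 0)) (.node (.leaf 124507311) (.leaf 0))))) (.node (.node (.node (.node (.leaf 7479296) (.leaf 128834256)) (.node (.leaf 55517184) (.leaf 0))) (.node (.node (.leaf 30171136) (.leaf 0)) (.node (.leaf 113493564) (.leaf 0)))) (.node (.node (.node (.leaf 18587648) (.leaf 157373772)) (.node (.leaf 80287561) (.leaf 0))) (.node (.node (.leaf 86753280) (.leaf 0)) (.node (.leaf 151855104) (.leaf 0)))))) (.node (.node (.node (.node (.node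 (.leaf 11796480) (.leaf 152278867)) (.node (.leaf 101515264) (.leaf 0))) (.node (.node (.leaf 60317696) (.leaf 0)) (.node (.leaf 135364608) (.leaf 0)))) (.node (.node (.node (.leaf 36962304) (.leaf 154700414)) (.node (.leaf 65929216) (.leaf 0))) (.node (.node (.leaf 56626905) (.leaf 0)) (.node (.leaf 112730692) (.leaf 0))))) (.node (.node (.node (.node (.leaf 10207232) (.leaf 126738432)) (.node (.leaf 107242857) (.leaf 0))) (.node (.node (.leaf 33136640) (.leaf 0)) (.node (.leaf 88539136) (.leaf 0)))) (.node (.node (.node (.leaf 21397504) (.leaf 159424512)) (.node (.leaf 73154560) (.leaf 0))) (.node (.node (.leaf 91783168) (.leaf 0)) (.node (.leaf 105889792) (.leaf 0))))))))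

def e1T24 : NT := .node (.node (.node (.node (.node (.node (.node (.node (.leaf 114688) (.leaf 134416640)) (.node (.leaf 93102080) (.leaf 0))) (.node (.node (.leaf 50274304) (.leaf 168091690)) (.node (.leaf 74072064) (.leaf 0)))) (.node (.node (.node (.leaf 26116096) (.leaf 163758080)) (.node (.leaf 59736064) (.leaf 0))) (.node (.node (.leaf 33923072) (.leaf 0)) (.node (.leaf 126545039) (.leaf 0))))) (.node (.node (.node (.node (.leaf 5447680) (.leaf 152459016)) (.node (.leaf 52994048) (.leaf 0))) (.node (.node (.leaf 61751296) (.leaf 0)) (.node (.leaf 117157818) (.leaf 0)))) (.node (.node (.node (.leaf 16441344) (.leaf 165977008)) (.node (.leaf 113750828) (.leaf 0))) (.node (.node (.leaf 40083456) (.leaf 0)) (.node (.leaf 125293035) (.leaf 0)))))) (.node (.node (.node (.node (.node (.leaf 6922240) (.leaf 140946485)) (.node (.leaf 97886208) (.leaf 0))) (.node (.node (.leaf 55951360) (.leaf 0)) (.node (.leaf 108884426) (.leaf 0)))) (.node (.node (.node (.leaf 13598720) (.leaf 134692864)) (.node (.leaf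 116318208) (.leaf 0))) (.node (.node (.leaf 77881344) (.leaf 0)) (.node (.leaf 93708288) (.leaf 0))))) (.node (.node (.node (.node (.leaf 19947520) (.leaf 124399288)) (.node (.leaf 56311808) (.leaf 0))) (.node (.node (.leaf 30900224) (.leaf 0)) (.node (.leaf 139853824) (.leaf 0)))) (.node (.node (.node (.leaf 44384256) (.leaf 151224320)) (.node (.leaf 96667243) (.leaf 0))) (.node (.node (.leaf 88064000) (.leaf 0)) (.node (.leaf 139176867) (.leaf 0))))))) (.node (.node (.node (.node (.node (.node (.leaf 1433600) (.leaf 120956261)) (.node (.leaf 70872752) (.leaf 0))) (.node (.node (.leaf 23560192) (.leaf 0)) (.node (.leaf 75972608) (.leaf 0)))) (.node (.node (.node (.leaf 12214272) (.leaf 141150026)) (.node (.leaf 61546496) (.leaf 0))) (.node (.node (.leaf 75218944) (.leaf 0)) (.node (.leaf 144859136) (.leaf 0))))) (.node (.node (.node (.node (.leaf 6799360) (.leaf 160972800)) (.node (.leaf 89114295) (.leaf 0))) (.node (.node (.leaf 64479232) (.leaf 0)) (.node (.leaf 137986048) (.leaf 0)))) (.node (.node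 (.node (.leaf 41418752) (.leaf 146448384)) (.node (.leaf 68567040) (.leaf 0))) (.node (.node (.leaf 85532672) (.leaf 0)) (.node (.leaf 133000251) (.leaf 0)))))) (.node (.node (.node (.node (.node (.leaf 4112384) (.leaf 114343936)) (.node (.leaf 100286464) (.leaf 0))) (.node (.node (.leaf 58859520) (.leaf 0)) (.node (.leaf 79667200) (.leaf 0)))) (.node (.node (.node (.leaf 35405824) (.leaf 166256640)) (.node (.leaf 64970752) (.leaf 0))) (.node (.node (.leaf 38641664) (.leaf 0)) (.node (.leaf 95887360) (.leaf 0))))) (.node (.node (.node (.node (.leaf 23027712) (.leaf 151352546)) (.node (.leaf 58064896) (.leaf 0))) (.node (.node (.leaf 32399360) (.leaf 0)) (.node (.leaf 87515136) (.leaf 0)))) (.node (.node (.node (.leaf 20684800) (.leaf 156393472)) (.node (.leaf 72261632) (.leaf 0))) (.node (.node (.leaf 44769280) (.leaf 0)) (.node (.leaf 104669184) (.leaf 0)))))))) (.node (.node (.node (.node (.node (.node (.node (.leaf 1990656) (.leaf 155885568)) (.node (.leaf 94355456) (.leaf 0))) (.node (.node (.leaf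 22847488) (.leaf 0)) (.node (.leaf 74989568) (.leaf 0)))) (.node (.node (.node (.leaf 27664384) (.leaf 129753088)) (.node (.leaf 113016832) (.leaf 0))) (.node (.node (.leaf 34684928) (.leaf 0)) (.node (.leaf 133074982) (.leaf 0))))) (.node (.node (.node (.node (.leaf 15007744) (.leaf 118415360)) (.node (.leaf 53837824) (.leaf 0))) (.node (.node (.leaf 28721152) (.leaf 0)) (.node (.leaf 82501632) (.leaf 0)))) (.node (.node (.node (.leaf 17162240) (.leaf 155307577)) (.node (.leaf 106242422) (.leaf 0))) (.node (.node (.leaf 40853504) (.leaf 0)) (.node (.leaf 115777991) (.leaf 0)))))) (.node (.node (.node (.node (.node (.leaf 3432448) (.leaf 113246208)) (.node (.leaf 50511872) (.leaf 0))) (.node (.node (.leaf 25772032) (.leaf 0)) (.node (.leaf 78725120) (.leaf 0)))) (.node (.node (.node (.leaf 33914880) (.leaf 136404992)) (.node (.leaf 117383168) (.leaf 0))) (.node (.node (.leaf 79126528) (.leaf 0)) (.node (.leaf 147333120) (.leaf 0))))) (.node (.node (.node (.node (.leaf 13830227) (.leaf 123895808)) (.node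 (.leaf 108658688) (.leaf 0))) (.node (.node (.leaf 31662080) (.leaf 0)) (.node (.leaf 86532096) (.leaf 0)))) (.node (.node (.node (.leaf 45883392) (.leaf 166109788)) (.node (.leaf 125820928) (.leaf 0))) (.node (.node (.leaf 89407488) (.leaf 0)) (.node (.leaf 103514112) (.leaf 0))))))) (.node (.node (.node (.node (.node (.node (.leaf 5300224) (.leaf 125792152)) (.node (.leaf 48857088) (.leaf 0))) (.node (.node (.leaf 54583296) (.leaf 0)) (.node (.leaf 126073704) (.leaf 0)))) (.node (.node (.node (.leaf 12894208) (.leaf 154339724)) (.node (.leaf 115204096) (.leaf 0))) (.node (.node (.leaf 36225024) (.leaf 0)) (.node (.leaf 92717056) (.leaf 0))))) (.node (.node (.node (.node (.leaf 18325504) (.leaf 156326493)) (.node (.leaf 86384987) (.leaf 0))) (.node (.node (.leaf 60534625) (.leaf 0)) (.node (.leaf 138854400) (.leaf 0)))) (.node (.node (.node (.leaf 42876928) (.leaf 160784827)) (.node (.leaf 80762061) (.leaf 0))) (.node (.node (.leaf 42377216) (.leaf 0)) (.node (.leaf 101318656) (.leaf 0)))))) (.node (.node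 (.node (.node (.node (.leaf 4767744) (.leaf 115695616)) (.node (.leaf 52174848) (.leaf 0))) (.node (.node (.leaf 27230208) (.leaf 0)) (.node (.leaf 80568320) (.leaf 0)))) (.node (.node (.node (.leaf 36978688) (.leaf 165582184)) (.node (.leaf 119480320) (.leaf 0))) (.node (.node (.leaf 81747968) (.leaf 0)) (.node (.leaf 96944128) (.leaf 0))))) (.node (.node (.node (.node (.leaf 24608768) (.leaf 126746624)) (.node (.leaf 95775923) (.leaf 0))) (.node (.node (.leaf 71229440) (.leaf 0)) (.node (.leaf 114224756) (.leaf 0)))) (.node (.node (.node (.leaf 48848896) (.leaf 167162420)) (.node (.leaf 127811584) (.leaf 0))) (.node (.node (.leaf 45539328) (.leaf 0)) (.node (.leaf 128247655) (.leaf 0))))))))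

def e1T25 : NT := .node (.node (.node (.node (.node (.node (.node (.node (.leaf 335872) (.leaf 134268486)) (.node (.leaf 93118464) (.leaf 0))) (.node (.node (.leaf 50290688) (.leaf 167611308)) (.node (.leaf 106486803) (.leaf 0)))) (.node (.node (.node (.leaf 10878976) (.leaf 150294714)) (.node (.leaf 59752448) (.leaf 0))) (.node (.node (.leaf 44181369) (.leaf 0)) (.node (.leaf 89579520) (.leaf 0))))) (.node (.node (.node (.node (.leaf 13426688) (.leaf 159809536)) (.node (.leaf 102637568) (.leaf 0))) (.node (.node (.leaf 28000256) (.leaf 0)) (.node (.leaf 111660006) (.leaf 0)))) (.node (.node (.node (.leaf 38453248) (.leaf 144753527)) (.node (.leaf 66846720) (.leaf 0))) (.node (.node (.leaf 81396615) (.leaf 0)) (.node (.leaf 97935360) (.leaf 0)))))) (.node (.node (.node (.node (.node (.leaf 6938624) (.leaf 112132096)) (.node (.leaf 97902592) (.leaf 0))) (.node (.node (.leaf 55959552) (.leaf 0)) (.node (.leaf 77897728) (.leaf 0)))) (.node (.node (.node (.leaf 32382976) (.leaf 134701056)) (.node (.leaf 63283200)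 (.leaf 0))) (.node (.node (.leaf 37027840) (.leaf 0)) (.node (.leaf 146546688) (.leaf 0))))) (.node (.node (.node (.node (.leaf 8183808) (.leaf 122429440)) (.node (.leaf 107397120) (.leaf 0))) (.node (.node (.leaf 67297280) (.leaf 0)) (.node (.leaf 139862016) (.leaf 0)))) (.node (.node (.node (.leaf 44400640) (.leaf 151232512)) (.node (.leaf 70418432) (.leaf 0))) (.node (.node (.leaf 88080384) (.leaf 0)) (.node (.leaf 102490112) (.leaf 0))))))) (.node (.node (.node (.node (.node (.node (.leaf 3661824) (.leaf 109625344)) (.node (.leaf 48021504) (.leaf 0))) (.node (.node (.leaf 53207040) (.leaf 0)) (.node (.leaf 130662400) (.leaf 0)))) (.node (.node (.node (.leaf 29237248) (.leaf 131473408)) (.node (.leaf 76733056) (.leaf 0))) (.node (.node (.leaf 35446784) (.leaf 0)) (.node (.leaf 116287607) (.leaf 0))))) (.node (.node (.node (.node (.leaf 16687104) (.leaf 119799808)) (.node (.leaf 104931328) (.leaf 0))) (.node (.node (.leaf 29466624) (.leaf 0)) (.node (.leaf 83550208) (.leaf 0)))) (.node (.node (.node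 (.leaf 17883136) (.leaf 159339173)) (.node (.leaf 122675200) (.leaf 0))) (.node (.node (.leaf 85549056) (.leaf 0)) (.node (.leaf 100139008) (.leaf 0)))))) (.node (.node (.node (.node (.node (.leaf 10215424) (.leaf 114368512)) (.node (.leaf 51347456) (.leaf 0))) (.node (.node (.leaf 58875904) (.leaf 0)) (.node (.leaf 134430720) (.leaf 0)))) (.node (.node (.node (.leaf 15040512) (.leaf 138231808)) (.node (.leaf 112887030) (.leaf 0))) (.node (.node (.leaf 55278413) (.leaf 0)) (.node (.leaf 113658205) (.leaf 0))))) (.node (.node (.node (.node (.leaf 23044096) (.leaf 125222912)) (.node (.leaf 109740032) (.leaf 0))) (.node (.node (.leaf 69926912) (.leaf 0)) (.node (.leaf 141623296) (.leaf 0)))) (.node (.node (.node (.leaf 47382528) (.leaf 159537864)) (.node (.leaf 80017037) (.leaf 0))) (.node (.node (.leaf 44777472) (.leaf 0)) (.node (.leaf 146217218) (.leaf 0)))))))) (.node (.node (.node (.node (.node (.node (.node (.leaf 2007040) (.leaf 132220813)) (.node (.leaf 66140639) (.leaf 0))) (.node (.node (.leaf 51748864)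 (.leaf 0)) (.node (.leaf 129509283) (.leaf 0)))) (.node (.node (.node (.leaf 27680768) (.leaf 146069747)) (.node (.leaf 113025024) (.leaf 0))) (.node (.node (.leaf 41682129) (.leaf 0)) (.node (.leaf 119072453) (.leaf 0))))) (.node (.node (.node (.node (.leaf 6119424) (.leaf 136379544)) (.node (.leaf 103743488) (.leaf 0))) (.node (.node (.leaf 63184896) (.leaf 0)) (.node (.leaf 137134080) (.leaf 0)))) (.node (.node (.node (.leaf 26506646) (.leaf 164351483)) (.node (.leaf 67641344) (.leaf 0))) (.node (.node (.leaf 42675918) (.leaf 0)) (.node (.leaf 98992128) (.leaf 0)))))) (.node (.node (.node (.node (.node (.leaf 8585216) (.leaf 117242803)) (.node (.leaf 99139584) (.leaf 0))) (.node (.node (.leaf 57344000) (.leaf 0)) (.node (.leaf 78741504) (.leaf 0)))) (.node (.node (.node (.leaf 14344192) (.leaf 145733532)) (.node (.leaf 64110592) (.leaf 0))) (.node (.node (.leaf 79142912) (.leaf 0)) (.node (.leaf 94797824) (.leaf 0))))) (.node (.node (.node (.node (.leaf 8855552) (.leaf 125175055)) (.node (.leaf 57221120)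 (.leaf 0))) (.node (.node (.leaf 42216322) (.leaf 0)) (.node (.leaf 140771328) (.leaf 0)))) (.node (.node (.node (.leaf 45899776) (.leaf 167878656)) (.node (.leaf 125837312) (.leaf 0))) (.node (.node (.leaf 43958272) (.leaf 0)) (.node (.leaf 123448874) (.leaf 0))))))) (.node (.node (.node (.node (.node (.node (.leaf 5316608) (.leaf 110870528)) (.node (.leaf 96714752) (.leaf 0))) (.node (.node (.leaf 24256512) (.leaf 0)) (.node (.leaf 77021184) (.leaf 0)))) (.node (.node (.node (.leaf 30810112) (.leaf 163623735)) (.node (.leaf 115220480) (.leaf 0))) (.node (.node (.leaf 76554240) (.leaf 0)) (.node (.leaf 145678336) (.leaf 0))))) (.node (.node (.node (.node (.leaf 7487488) (.leaf 121143296)) (.node (.leaf 106258432) (.leaf 0))) (.node (.node (.leaf 49851541) (.leaf 0)) (.node (.leaf 138870784) (.leaf 0)))) (.node (.node (.node (.leaf 42893312) (.leaf 148660224)) (.node (.leaf 69492736) (.leaf 0))) (.node (.node (.leaf 86777856) (.leaf 0)) (.node (.leaf 127769020) (.leaf 0)))))) (.node (.node (.node (.node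 (.node (.leaf 11821056) (.leaf 149202026)) (.node (.leaf 78952223) (.leaf 0))) (.node (.node (.leaf 60342272) (.leaf 0)) (.node (.leaf 135389184) (.leaf 0)))) (.node (.node (.node (.leaf 15728640) (.leaf 163115759)) (.node (.leaf 65945600) (.leaf 0))) (.node (.node (.leaf 39370752) (.leaf 0)) (.node (.leaf 96952320) (.leaf 0))))) (.node (.node (.node (.node (.leaf 24625152) (.leaf 156894961)) (.node (.leaf 110854144) (.leaf 0))) (.node (.node (.leaf 71245824) (.leaf 0)) (.node (.leaf 136960548) (.leaf 0)))) (.node (.node (.node (.leaf 21413888) (.leaf 165805230)) (.node (.leaf 73162752) (.leaf 0))) (.node (.node (.leaf 91807744) (.leaf 0)) (.node (.leaf 119403742) (.leaf 0))))))))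

def e1T26 : NT := .node (.node (.node (.node (.node (.node (.node (.node (.leaf 352256) (.leaf 107159552)) (.node (.leaf 93126656) (.leaf 0))) (.node (.node (.leaf 22118400) (.leaf 167790886)) (.node (.leaf 108852325) (.leaf 0)))) (.node (.node (.node (.leaf 10887168) (.leaf 151500608)) (.node (.leaf 111943680) (.leaf 0))) (.node (.node (.leaf 72589312) (.leaf 0)) (.node (.leaf 112633070) (.leaf 0))))) (.node (.node (.node (.node (.leaf 5455872) (.leaf 139040830)) (.node (.leaf 81035484) (.leaf 0))) (.node (.node (.leaf 61767680) (.leaf 0)) (.node (.leaf 136200192) (.leaf 0)))) (.node (.node (.node (.leaf 38469632) (.leaf 142393344)) (.node (.leaf 120520704) (.leaf 0))) (.node (.node (.leaf 40091648) (.leaf 0)) (.node (.leaf 113775675) (.leaf 0)))))) (.node (.node (.node (.node (.node (.leaf 2777088) (.leaf 132666482)) (.node (.leaf 97918976) (.leaf 0))) (.node (.node (.leaf 25010176) (.leaf 0)) (.node (.leaf 132612096) (.leaf 0)))) (.node (.node (.node (.leaf 13606912) (.leaf 137479585)) (.node (.leaf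 116334592) (.leaf 0))) (.node (.node (.leaf 51000289) (.leaf 0)) (.node (.leaf 93724672) (.leaf 0))))) (.node (.node (.node (.node (.leaf 19972096) (.leaf 161972224)) (.node (.leaf 107413504) (.leaf 0))) (.node (.node (.leaf 60640905) (.leaf 0)) (.node (.leaf 85540864) (.leaf 0)))) (.node (.node (.node (.leaf 19308544) (.leaf 167569851)) (.node (.leaf 124747776) (.leaf 0))) (.node (.node (.leaf 43155456) (.leaf 0)) (.node (.leaf 102506496) (.leaf 0))))))) (.node (.node (.node (.node (.node (.node (.leaf 3678208) (.leaf 141728416)) (.node (.leaf 95543296) (.leaf 0))) (.node (.node (.leaf 53215232) (.leaf 0)) (.node (.leaf 130670592) (.leaf 0)))) (.node (.node (.node (.leaf 29253632) (.leaf 132889773)) (.node (.leaf 114098176) (.leaf 0))) (.node (.node (.leaf 75243520) (.leaf 0)) (.node (.leaf 127911447) (.leaf 0))))) (.node (.node (.node (.node (.leaf 6807552) (.leaf 142736239)) (.node (.leaf 64509343) (.leaf 0))) (.node (.node (.leaf 64495616) (.leaf 0)) (.node (.leaf 137994240) (.leaf 0)))) (.node (.node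 (.node (.leaf 41443328) (.leaf 150223333)) (.node (.leaf 122691584) (.leaf 0))) (.node (.node (.leaf 85565440) (.leaf 0)) (.node (.leaf 137824085) (.leaf 0)))))) (.node (.node (.node (.node (.node (.leaf 10231808) (.leaf 158777344)) (.node (.leaf 100294656) (.leaf 0))) (.node (.node (.leaf 26533888) (.leaf 0)) (.node (.leaf 79675392) (.leaf 0)))) (.node (.node (.node (.leaf 35422208) (.leaf 162634911)) (.node (.leaf 64978944) (.leaf 0))) (.node (.node (.leaf 38658048) (.leaf 0)) (.node (.leaf 118442266) (.leaf 0))))) (.node (.node (.node (.node (.leaf 9543680) (.leaf 162938880)) (.node (.leaf 109748224) (.leaf 0))) (.node (.node (.leaf 69943296) (.leaf 0)) (.node (.leaf 87523328) (.leaf 0)))) (.node (.node (.node (.leaf 47398912) (.leaf 167944192)) (.node (.leaf 72278016) (.leaf 0))) (.node (.node (.leaf 90603520) (.leaf 0)) (.node (.leaf 140316816) (.leaf 0)))))))) (.node (.node (.node (.node (.node (.node (.node (.leaf 786432) (.leaf 108322816)) (.node (.leaf 85988024) (.leaf 0))) (.node (.node (.leaf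 51765248) (.leaf 0)) (.node (.leaf 97257573) (.leaf 0)))) (.node (.node (.node (.leaf 11550720) (.leaf 158383177)) (.node (.leaf 60628992) (.leaf 0))) (.node (.node (.leaf 34693120) (.leaf 0)) (.node (.leaf 90619904) (.leaf 0))))) (.node (.node (.node (.node (.leaf 15032320) (.leaf 160456704)) (.node (.leaf 102142134) (.leaf 0))) (.node (.node (.leaf 63201280) (.leaf 0)) (.node (.leaf 119650273) (.leaf 0)))) (.node (.node (.node (.leaf 17170432) (.leaf 155871280)) (.node (.leaf 121651200) (.leaf 0))) (.node (.node (.leaf 40861696) (.leaf 0)) (.node (.leaf 148857456) (.leaf 0)))))) (.node (.node (.node (.node (.node (.leaf 8601600) (.leaf 113262592)) (.node (.leaf 50520064) (.leaf 0))) (.node (.node (.leaf 25788416) (.leaf 0)) (.node (.leaf 126820809) (.leaf 0)))) (.node (.node (.node (.leaf 33931264) (.leaf 154131335)) (.node (.leaf 95685092) (.leaf 0))) (.node (.node (.leaf 79151104) (.leaf 0)) (.node (.leaf 147349504) (.leaf 0))))) (.node (.node (.node (.node (.leaf 21520384) (.leaf 123904000)) (.node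 (.leaf 108675072) (.leaf 0))) (.node (.node (.leaf 31670272) (.leaf 0)) (.node (.leaf 140779520) (.leaf 0)))) (.node (.node (.node (.leaf 19996672) (.leaf 153526272)) (.node (.leaf 125845504) (.leaf 0))) (.node (.node (.leaf 68758499) (.leaf 0)) (.node (.leaf 103530496) (.leaf 0))))))) (.node (.node (.node (.node (.node (.node (.leaf 2105344) (.leaf 137848931)) (.node (.leaf 96731136) (.leaf 0))) (.node (.node (.leaf 54599680) (.leaf 0)) (.node (.leaf 131735552) (.leaf 0)))) (.node (.node (.node (.leaf 30826496) (.leaf 132988928)) (.node (.leaf 62431232) (.leaf 0))) (.node (.node (.leaf 36241408) (.leaf 0)) (.node (.leaf 145694720) (.leaf 0))))) (.node (.node (.node (.node (.leaf 18350080) (.leaf 161406976)) (.node (.leaf 106274816) (.leaf 0))) (.node (.node (.leaf 30187520) (.leaf 0)) (.node (.leaf 138878976) (.leaf 0)))) (.node (.node (.node (.leaf 18604032) (.leaf 148668416)) (.node (.leaf 123756544) (.leaf 0))) (.node (.node (.leaf 42385408) (.leaf 0)) (.node (.leaf 101335040) (.leaf 0)))))) (.node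 (.node (.node (.node (.node (.leaf 11837440) (.leaf 159309824)) (.node (.leaf 52183040) (.leaf 0))) (.node (.node (.leaf 27238400) (.leaf 0)) (.node (.leaf 112193092) (.leaf 0)))) (.node (.node (.node (.leaf 36995072) (.leaf 166617088)) (.node (.leaf 91681933) (.leaf 0))) (.node (.node (.leaf 81772544) (.leaf 0)) (.node (.leaf 148897792) (.leaf 0))))) (.node (.node (.node (.node (.leaf 10223616) (.leaf 156816949)) (.node (.leaf 58851328) (.leaf 0))) (.node (.node (.leaf 33153024) (.leaf 0)) (.node (.leaf 88571904) (.leaf 0)))) (.node (.node (.node (.leaf 48873472) (.leaf 167291953)) (.node (.leaf 74582499) (.leaf 0))) (.node (.node (.leaf 58803884) (.leaf 0)) (.node (.leaf 105922560) (.leaf 0))))))))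

def e1T27 : NT := .node (.node (.node (.node (.node (.node (.node (.node (.leaf 131072) (.leaf 134679458)) (.node (.leaf 46366720) (.leaf 0))) (.node (.node (.leaf 50315264) (.leaf 168014458)) (.node (.leaf 74088448) (.leaf 0)))) (.node (.node (.node (.leaf 26148864) (.leaf 128253952)) (.node (.leaf 59760640) (.leaf 0))) (.node (.node (.leaf 33939456) (.leaf 0)) (.node (.leaf 89587712) (.leaf 0))))) (.node (.node (.node (.node (.leaf 13451264) (.leaf 117006336)) (.node (.leaf 53018624) (.leaf 0))) (.node (.node (.leaf 28008448) (.leaf 0)) (.node (.leaf 81559552) (.leaf 0)))) (.node (.node (.node (.leaf 16457728) (.leaf 146654919)) (.node (.leaf 120537088) (.leaf 0))) (.node (.node (.leaf 83173376) (.leaf 0)) (.node (.leaf 136386147) (.leaf 0)))))) (.node (.node (.node (.node (.node (.leaf 6963200) (.leaf 157704192)) (.node (.leaf 49700864) (.leaf 0))) (.node (.node (.leaf 25018368) (.leaf 0)) (.node (.leaf 132628480) (.leaf 0)))) (.node (.node (.node (.leaf 32407552) (.leaf 165535744)) (.node (.leaf 63299584)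 (.leaf 0))) (.node (.node (.leaf 37044224) (.leaf 0)) (.node (.leaf 146554880) (.leaf 0))))) (.node (.node (.node (.node (.leaf 19988480) (.leaf 122437632)) (.node (.leaf 56328192) (.leaf 0))) (.node (.node (.leaf 30916608) (.leaf 0)) (.node (.leaf 139886592) (.leaf 0)))) (.node (.node (.node (.leaf 44425216) (.leaf 154865122)) (.node (.leaf 70443008) (.leaf 0))) (.node (.node (.leaf 84468585) (.leaf 0)) (.node (.leaf 147286610) (.leaf 0))))))) (.node (.node (.node (.node (.node (.node (.leaf 1449984) (.leaf 135606291)) (.node (.leaf 48037888) (.leaf 0))) (.node (.node (.leaf 34060583) (.leaf 0)) (.node (.leaf 109411247) (.leaf 0)))) (.node (.node (.node (.leaf 12230656) (.leaf 131497984)) (.node (.leaf 61562880) (.leaf 0))) (.node (.node (.leaf 35454976) (.leaf 0)) (.node (.leaf 91750400) (.leaf 0))))) (.node (.node (.node (.node (.leaf 16711680) (.leaf 142357979)) (.node (.leaf 104955904) (.leaf 0))) (.node (.node (.leaf 29474816) (.leaf 0)) (.node (.leaf 83558400) (.leaf 0)))) (.node (.node (.node (.leaf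 41459712) (.leaf 155144272)) (.node (.leaf 110394238) (.leaf 0))) (.node (.node (.leaf 41598976) (.leaf 0)) (.node (.leaf 100898957) (.leaf 0)))))) (.node (.node (.node (.node (.node (.leaf 4128768) (.leaf 114401280)) (.node (.leaf 100311040) (.leaf 0))) (.node (.node (.leaf 58900480) (.leaf 0)) (.node (.leaf 113040262) (.leaf 0)))) (.node (.node (.node (.leaf 35438592) (.leaf 138240000)) (.node (.leaf 118521856) (.leaf 0))) (.node (.node (.leaf 38674432) (.leaf 0)) (.node (.leaf 119610111) (.leaf 0))))) (.node (.node (.node (.node (.leaf 9560064) (.leaf 141243621)) (.node (.leaf 58081280) (.leaf 0))) (.node (.node (.leaf 32415744) (.leaf 0)) (.node (.leaf 135564873) (.leaf 0)))) (.node (.node (.node (.leaf 20701184) (.leaf 159888592)) (.node (.leaf 126861312) (.leaf 0))) (.node (.node (.leaf 45310495) (.leaf 0)) (.node (.leaf 104693760) (.leaf 0)))))))) (.node (.node (.node (.node (.node (.node (.node (.leaf 2031616) (.leaf 133468010)) (.node (.leaf 47112192) (.leaf 0))) (.node (.node (.leaf 22863872)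 (.leaf 0)) (.node (.leaf 75014144) (.leaf 0)))) (.node (.node (.node (.leaf 27705344) (.leaf 129818624)) (.node (.leaf 113049600) (.leaf 0))) (.node (.node (.leaf 34701312) (.leaf 0)) (.node (.leaf 144048128) (.leaf 0))))) (.node (.node (.node (.node (.leaf 15048704) (.leaf 144004385)) (.node (.leaf 100459906) (.leaf 0))) (.node (.node (.leaf 63217664) (.leaf 0)) (.node (.leaf 82526208) (.leaf 0)))) (.node (.node (.node (.leaf 39911424) (.leaf 144310272)) (.node (.leaf 83392438) (.leaf 0))) (.node (.node (.leaf 84385792) (.leaf 0)) (.node (.leaf 99008512) (.leaf 0)))))) (.node (.node (.node (.node (.node (.leaf 3448832) (.leaf 158179328)) (.node (.leaf 70224643) (.leaf 0))) (.node (.node (.leaf 57368576) (.leaf 0)) (.node (.leaf 133554176) (.leaf 0)))) (.node (.node (.node (.leaf 33947648) (.leaf 143745304)) (.node (.leaf 64118784) (.leaf 0))) (.node (.node (.leaf 37830656) (.leaf 0)) (.node (.leaf 94814208) (.leaf 0))))) (.node (.node (.node (.node (.leaf 8871936) (.leaf 123912192)) (.node (.leaf 108683264)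 (.leaf 0))) (.node (.node (.leaf 31686656) (.leaf 0)) (.node (.leaf 120632165) (.leaf 0)))) (.node (.node (.node (.leaf 45924352) (.leaf 164466749)) (.node (.leaf 71376896) (.leaf 0))) (.node (.node (.leaf 43974656) (.leaf 0)) (.node (.leaf 107559829) (.leaf 0))))))) (.node (.node (.node (.node (.node (.node (.leaf 5341184) (.leaf 128565832)) (.node (.leaf 48881664) (.leaf 0))) (.node (.node (.leaf 24281088) (.leaf 0)) (.node (.leaf 77029376) (.leaf 0)))) (.node (.node (.node (.leaf 12910592) (.leaf 140285027)) (.node (.leaf 84816628) (.leaf 0))) (.node (.node (.leaf 36257792) (.leaf 0)) (.node (.leaf 92741632) (.leaf 0))))) (.node (.node (.node (.node (.leaf 7503872) (.leaf 161423360)) (.node (.leaf 55541760) (.leaf 0))) (.node (.node (.leaf 65234680) (.leaf 0)) (.node (.leaf 84590592) (.leaf 0)))) (.node (.node (.node (.leaf 42917888) (.leaf 148692992)) (.node (.leaf 69500928) (.leaf 0))) (.node (.node (.leaf 86786048) (.leaf 0)) (.node (.leaf 129200380) (.leaf 0)))))) (.node (.node (.node (.node (.node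 (.leaf 4784128) (.leaf 115720192)) (.node (.leaf 101548032) (.leaf 0))) (.node (.node (.leaf 60366848) (.leaf 0)) (.node (.leaf 80584704) (.leaf 0)))) (.node (.node (.node (.leaf 15736832) (.leaf 140369920)) (.node (.leaf 65953792) (.leaf 0))) (.node (.node (.leaf 39378944) (.leaf 0)) (.node (.leaf 96976896) (.leaf 0))))) (.node (.node (.node (.node (.leaf 24649728) (.leaf 126763008)) (.node (.leaf 98748724) (.leaf 0))) (.node (.node (.leaf 71262208) (.leaf 0)) (.node (.leaf 137675131) (.leaf 0)))) (.node (.node (.node (.leaf 21430272) (.leaf 160853181)) (.node (.leaf 94742134) (.leaf 0))) (.node (.node (.leaf 91824128) (.leaf 0)) (.node (.leaf 105930752) (.leaf 0))))))))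

def e1T28 : NT := .node (.node (.node (.node (.node (.node (.node (.node (.leaf 376832) (.leaf 107184128)) (.node (.leaf 93143040) (.leaf 0))) (.node (.node (.leaf 22126592) (.leaf 168086790)) (.node (.leaf 128150776) (.leaf 0)))) (.node (.node (.node (.leaf 10895360) (.leaf 163774464)) (.node (.leaf 111951872) (.leaf 0))) (.node (.node (.leaf 72613888) (.leaf 0)) (.node (.leaf 105730788) (.leaf 0))))) (.node (.node (.node (.node (.leaf 13467648) (.leaf 158808155)) (.node (.leaf 102670336) (.leaf 0))) (.node (.node (.leaf 61792256) (.leaf 0)) (.node (.leaf 81567744) (.leaf 0)))) (.node (.node (.node (.leaf 16465920) (.leaf 163100023)) (.node (.leaf 66863104) (.leaf 0))) (.node (.node (.leaf 81790221) (.leaf 0)) (.node (.leaf 131419343) (.leaf 0)))))) (.node (.node (.node (.node (.node (.leaf 2785280) (.leaf 157720576)) (.node (.leaf 97943552) (.leaf 0))) (.node (.node (.leaf 55992320) (.leaf 0)) (.node (.leaf 77914112) (.leaf 0)))) (.node (.node (.node (.leaf 22919453) (.leaf 134750208)) (.node (.leaf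 88332953) (.leaf 0))) (.node (.node (.leaf 77905920) (.leaf 0)) (.node (.leaf 93732864) (.leaf 0))))) (.node (.node (.node (.node (.leaf 8200192) (.leaf 150644726)) (.node (.leaf 76125577) (.leaf 0))) (.node (.node (.leaf 67330048) (.leaf 0)) (.node (.leaf 139902976) (.leaf 0)))) (.node (.node (.node (.leaf 44441600) (.leaf 165309290)) (.node (.leaf 124764160) (.leaf 0))) (.node (.node (.leaf 43163648) (.leaf 0)) (.node (.leaf 152485888) (.leaf 0))))))) (.node (.node (.node (.node (.node (.node (.leaf 3702784) (.leaf 129731580)) (.node (.leaf 95559680) (.leaf 0))) (.node (.node (.leaf 23584768) (.leaf 0)) (.node (.leaf 130686976) (.leaf 0)))) (.node (.node (.node (.leaf 29278208) (.leaf 155176830)) (.node (.leaf 114114560) (.leaf 0))) (.node (.node (.leaf 75268096) (.leaf 0)) (.node (.leaf 106051070) (.leaf 0))))) (.node (.node (.node (.node (.leaf 16728064) (.leaf 160989184)) (.node (.leaf 54673408) (.leaf 0))) (.node (.node (.leaf 64520192) (.leaf 0)) (.node (.leaf 98197953) (.leaf 0)))) (.node (.node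 (.node (.leaf 41476096) (.leaf 146538496)) (.node (.leaf 68591616) (.leaf 0))) (.node (.node (.leaf 85581824) (.leaf 0)) (.node (.leaf 151166976) (.leaf 0)))))) (.node (.node (.node (.node (.node (.leaf 10256384) (.leaf 158793728)) (.node (.leaf 51363840) (.leaf 0))) (.node (.node (.leaf 26542080) (.leaf 0)) (.node (.leaf 134447104) (.leaf 0)))) (.node (.node (.node (.leaf 15056896) (.leaf 166264832)) (.node (.leaf 66366190) (.leaf 0))) (.node (.node (.leaf 80461824) (.leaf 0)) (.node (.leaf 95920128) (.leaf 0))))) (.node (.node (.node (.node (.leaf 23076864) (.leaf 160734086)) (.node (.leaf 109756416) (.leaf 0))) (.node (.node (.leaf 69967872) (.leaf 0)) (.node (.leaf 87539712) (.leaf 0)))) (.node (.node (.node (.leaf 47407104) (.leaf 156809552)) (.node (.leaf 126877696) (.leaf 0))) (.node (.node (.leaf 44793856) (.leaf 0)) (.node (.leaf 104718336) (.leaf 0)))))))) (.node (.node (.node (.node (.node (.node (.node (.leaf 794624) (.leaf 108331008)) (.node (.leaf 94380032) (.leaf 0))) (.node (.node (.leaf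 51776765) (.leaf 0)) (.node (.leaf 97969707) (.leaf 0)))) (.node (.node (.node (.leaf 11558912) (.leaf 141752421)) (.node (.leaf 108945555) (.leaf 0))) (.node (.node (.leaf 48893898) (.leaf 0)) (.node (.leaf 90636288) (.leaf 0))))) (.node (.node (.node (.node (.leaf 15065088) (.leaf 140845146)) (.node (.leaf 53862400) (.leaf 0))) (.node (.node (.leaf 28745728) (.leaf 0)) (.node (.leaf 137150464) (.leaf 0)))) (.node (.node (.node (.leaf 39927808) (.leaf 153264924)) (.node (.leaf 67657728) (.leaf 0))) (.node (.node (.leaf 84402176) (.leaf 0)) (.node (.leaf 99024896) (.leaf 0)))))) (.node (.node (.node (.node (.node (.leaf 8626176) (.leaf 158187520)) (.node (.leaf 99155968) (.leaf 0))) (.node (.node (.leaf 57384960) (.leaf 0)) (.node (.leaf 78757888) (.leaf 0)))) (.node (.node (.node (.leaf 14360576) (.leaf 154397213)) (.node (.leaf 84955088) (.leaf 0))) (.node (.node (.leaf 79167488) (.leaf 0)) (.node (.leaf 94822400) (.leaf 0))))) (.node (.node (.node (.node (.leaf 21536768) (.leaf 160416536)) (.node (.leaf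 57237504) (.leaf 0))) (.node (.node (.leaf 56471221) (.leaf 0)) (.node (.leaf 140804096) (.leaf 0)))) (.node (.node (.node (.leaf 20004864) (.leaf 153550848)) (.node (.leaf 125853696) (.leaf 0))) (.node (.node (.leaf 89448448) (.leaf 0)) (.node (.leaf 126843286) (.leaf 0))))))) (.node (.node (.node (.node (.node (.node (.leaf 5357568) (.leaf 157089792)) (.node (.leaf 70487267) (.leaf 0))) (.node (.node (.leaf 54624256) (.leaf 0)) (.node (.leaf 104041340) (.leaf 0)))) (.node (.node (.node (.leaf 18999887) (.leaf 147976237)) (.node (.leaf 62447616) (.leaf 0))) (.node (.node (.leaf 76587008) (.leaf 0)) (.node (.leaf 97876094) (.leaf 0))))) (.node (.node (.node (.node (.leaf 18374656) (.leaf 121167872)) (.node (.leaf 76309503) (.leaf 0))) (.node (.node (.leaf 65937408) (.leaf 0)) (.node (.leaf 138903552) (.leaf 0)))) (.node (.node (.node (.leaf 18612224) (.leaf 148701184)) (.node (.leaf 69509120) (.leaf 0))) (.node (.node (.leaf 86794240) (.leaf 0)) (.node (.leaf 101343232) (.leaf 0)))))) (.node (.node (.node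 (.node (.node (.leaf 11862016) (.leaf 159318016)) (.node (.leaf 93778433) (.leaf 0))) (.node (.node (.leaf 52516651) (.leaf 0)) (.node (.leaf 121161093) (.leaf 0)))) (.node (.node (.node (.leaf 37003264) (.leaf 158879344)) (.node (.leaf 119504896) (.leaf 0))) (.node (.node (.leaf 81797120) (.leaf 0)) (.node (.leaf 98542610) (.leaf 0))))) (.node (.node (.node (.node (.leaf 24666112) (.leaf 149565012)) (.node (.leaf 110886912) (.leaf 0))) (.node (.node (.leaf 71270400) (.leaf 0)) (.node (.leaf 88580096) (.leaf 0)))) (.node (.node (.node (.leaf 48898048) (.leaf 168050688)) (.node (.leaf 73187328) (.leaf 0))) (.node (.node (.leaf 45572096) (.leaf 0)) (.node (.leaf 116856293) (.leaf 0))))))))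

def e1T29 : NT := .node (.node (.node (.node (.node (.node (.node (.node (.leaf 385024) (.leaf 107192320)) (.node (.leaf 46374912) (.leaf 0))) (.node (.node (.leaf 50331648) (.leaf 167999282)) (.node (.leaf 74096640) (.leaf 0)))) (.node (.node (.node (.leaf 26173440) (.leaf 163782656)) (.node (.leaf 111960064) (.leaf 0))) (.node (.node (.leaf 72630272) (.leaf 0)) (.node (.leaf 143245312) (.leaf 0))))) (.node (.node (.node (.node (.leaf 5472256) (.leaf 154090523)) (.node (.leaf 96169484) (.leaf 0))) (.node (.node (.leaf 61808640) (.leaf 0)) (.node (.leaf 114421296) (.leaf 0)))) (.node (.node (.node (.leaf 38502400) (.leaf 142426112)) (.node (.leaf 120553472) (.leaf 0))) (.node (.node (.leaf 79070637) (.leaf 0)) (.node (.leaf 104011041) (.leaf 0)))))) (.node (.node (.node (.node (.node (.leaf 6987776) (.leaf 156954531)) (.node (.leaf 49709056) (.leaf 0))) (.node (.node (.leaf 56008704) (.leaf 0)) (.node (.leaf 132653056) (.leaf 0)))) (.node (.node (.node (.leaf 13623296) (.leaf 139267702)) (.node (.leaf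 63307776) (.leaf 0))) (.node (.node (.leaf 37052416) (.leaf 0)) (.node (.leaf 111309155) (.leaf 0))))) (.node (.node (.node (.node (.leaf 20013056) (.leaf 122470400)) (.node (.leaf 107438080) (.leaf 0))) (.node (.node (.leaf 67346432) (.leaf 0)) (.node (.leaf 116068079) (.leaf 0)))) (.node (.node (.node (.leaf 19324928) (.leaf 161473496)) (.node (.leaf 76519671) (.leaf 0))) (.node (.node (.leaf 53651278) (.leaf 0)) (.node (.leaf 102522880) (.leaf 0))))))) (.node (.node (.node (.node (.node (.node (.leaf 1458176) (.leaf 109649920)) (.node (.leaf 48046080) (.leaf 0))) (.node (.node (.leaf 53239808) (.leaf 0)) (.node (.leaf 76021760) (.leaf 0)))) (.node (.node (.node (.leaf 17306197) (.leaf 161202907)) (.node (.leaf 114130944) (.leaf 0))) (.node (.node (.leaf 46885701) (.leaf 0)) (.node (.leaf 95741907) (.leaf 0))))) (.node (.node (.node (.node (.leaf 6823936) (.leaf 119824384)) (.node (.leaf 104980480) (.leaf 0))) (.node (.node (.leaf 64536576) (.leaf 0)) (.node (.leaf 83574784) (.leaf 0)))) (.node (.node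 (.node (.leaf 35214346) (.leaf 157814050)) (.node (.leaf 122716160) (.leaf 0))) (.node (.node (.leaf 41607168) (.leaf 0)) (.node (.leaf 100196352) (.leaf 0)))))) (.node (.node (.node (.node (.node (.leaf 4136960) (.leaf 114450432)) (.node (.leaf 100335616) (.leaf 0))) (.node (.node (.leaf 58916864) (.leaf 0)) (.node (.leaf 134455296) (.leaf 0)))) (.node (.node (.node (.leaf 35463168) (.leaf 165356337)) (.node (.leaf 65011712) (.leaf 0))) (.node (.node (.leaf 38682624) (.leaf 0)) (.node (.leaf 148094976) (.leaf 0))))) (.node (.node (.node (.node (.leaf 9568256) (.leaf 125255680)) (.node (.leaf 58089472) (.leaf 0))) (.node (.node (.leaf 32423936) (.leaf 0)) (.node (.leaf 141647872) (.leaf 0)))) (.node (.node (.node (.leaf 20709376) (.leaf 167360281)) (.node (.leaf 72302592) (.leaf 0))) (.node (.node (.leaf 68641753) (.leaf 0)) (.node (.leaf 143432066) (.leaf 0)))))))) (.node (.node (.node (.node (.node (.node (.node (.leaf 2056192) (.leaf 151744062)) (.node (.leaf 63555732) (.leaf 0))) (.node (.node (.leaf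 22872064) (.leaf 0)) (.node (.leaf 129777664) (.leaf 0)))) (.node (.node (.node (.leaf 27729920) (.leaf 129835008)) (.node (.leaf 60653568) (.leaf 0))) (.node (.node (.leaf 73940992) (.leaf 0)) (.node (.leaf 122923640) (.leaf 0))))) (.node (.node (.node (.node (.leaf 6144000) (.leaf 126271765)) (.node (.leaf 103768064) (.leaf 0))) (.node (.node (.leaf 63242240) (.leaf 0)) (.node (.leaf 82534400) (.leaf 0)))) (.node (.node (.node (.leaf 17186816) (.leaf 163477637)) (.node (.leaf 121667584) (.leaf 0))) (.node (.node (.leaf 40878080) (.leaf 0)) (.node (.leaf 112366437) (.leaf 0)))))) (.node (.node (.node (.node (.node (.leaf 3457024) (.leaf 113278976)) (.node (.leaf 50544640) (.leaf 0))) (.node (.node (.leaf 25804800) (.leaf 0)) (.node (.leaf 78766080) (.leaf 0)))) (.node (.node (.node (.leaf 33964032) (.leaf 136454144)) (.node (.leaf 117407744) (.leaf 0))) (.node (.node (.leaf 37838848) (.leaf 0)) (.node (.leaf 118727598) (.leaf 0))))) (.node (.node (.node (.node (.leaf 21553152) (.leaf 142869734)) (.node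 (.leaf 57253888) (.leaf 0))) (.node (.node (.leaf 68722688) (.leaf 0)) (.node (.leaf 86573056) (.leaf 0)))) (.node (.node (.node (.leaf 45948928) (.leaf 153559040)) (.node (.leaf 71385088) (.leaf 0))) (.node (.node (.leaf 43982848) (.leaf 0)) (.node (.leaf 153157632) (.leaf 0))))))) (.node (.node (.node (.node (.node (.node (.leaf 2121728) (.leaf 157106176)) (.node (.leaf 96763904) (.leaf 0))) (.node (.node (.leaf 24289280) (.leaf 0)) (.node (.leaf 77037568) (.leaf 0)))) (.node (.node (.node (.leaf 12918784) (.leaf 133038080)) (.node (.leaf 95168743) (.leaf 0))) (.node (.node (.leaf 36265984) (.leaf 0)) (.node (.leaf 92749824) (.leaf 0))))) (.node (.node (.node (.node (.leaf 7512064) (.leaf 155812380)) (.node (.leaf 55558144) (.leaf 0))) (.node (.node (.leaf 30212096) (.leaf 0)) (.node (.leaf 138911744) (.leaf 0)))) (.node (.node (.node (.leaf 42942464) (.leaf 148709376)) (.node (.leaf 80449249) (.leaf 0))) (.node (.node (.leaf 80156173) (.leaf 0)) (.node (.leaf 147810853) (.leaf 0)))))) (.node (.node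 (.node (.node (.node (.leaf 4792320) (.leaf 115744768)) (.node (.leaf 52199424) (.leaf 0))) (.node (.node (.leaf 60391424) (.leaf 0)) (.node (.leaf 135413760) (.leaf 0)))) (.node (.node (.node (.leaf 15753216) (.leaf 140378112)) (.node (.leaf 119521280) (.leaf 0))) (.node (.node (.leaf 81813504) (.leaf 0)) (.node (.leaf 96993280) (.leaf 0))))) (.node (.node (.node (.node (.leaf 10240000) (.leaf 126779392)) (.node (.leaf 58867712) (.leaf 0))) (.node (.node (.leaf 33177600) (.leaf 0)) (.node (.leaf 142516224) (.leaf 0)))) (.node (.node (.node (.leaf 48914432) (.leaf 165991561)) (.node (.leaf 127852544) (.leaf 0))) (.node (.node (.leaf 91848704) (.leaf 0)) (.node (.leaf 105947136) (.leaf 0))))))))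

def e1T30 : NT := .node (.node (.node (.node (.node (.node (.node (.node (.leaf 147456) (.leaf 107208704)) (.node (.leaf 93167616) (.leaf 0))) (.node (.node (.leaf 50348032) (.leaf 166580931)) (.node (.leaf 91281887) (.leaf 0)))) (.node (.node (.node (.leaf 26189824) (.leaf 153772037)) (.node (.leaf 101184981) (.leaf 0))) (.node (.node (.leaf 33955840) (.leaf 0)) (.node (.leaf 143261696) (.leaf 0))))) (.node (.node (.node (.node (.leaf 13492224) (.leaf 117030912)) (.node (.leaf 53035008) (.leaf 0))) (.node (.node (.leaf 28024832) (.leaf 0)) (.node (.leaf 81584128) (.leaf 0)))) (.node (.node (.node (.leaf 38518784) (.leaf 165714065)) (.node (.leaf 66871296) (.leaf 0))) (.node (.node (.leaf 40124416) (.leaf 0)) (.node (.leaf 132504409) (.leaf 0)))))) (.node (.node (.node (.node (.node (.leaf 7004160) (.leaf 157736960)) (.node (.leaf 49717248) (.leaf 0))) (.node (.node (.leaf 25051136) (.leaf 0)) (.node (.leaf 77922304) (.leaf 0)))) (.node (.node (.node (.leaf 32440320) (.leaf 138148530)) (.node (.leaf 88312305)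 (.leaf 0))) (.node (.node (.leaf 49963406) (.leaf 0)) (.node (.leaf 146571264) (.leaf 0))))) (.node (.node (.node (.node (.leaf 20029440) (.leaf 122478592)) (.node (.leaf 83841377) (.leaf 0))) (.node (.node (.leaf 30932992) (.leaf 0)) (.node (.leaf 112392561) (.leaf 0)))) (.node (.node (.node (.leaf 44466176) (.leaf 155021270)) (.node (.leaf 70459392) (.leaf 0))) (.node (.node (.leaf 88113152) (.leaf 0)) (.node (.leaf 127932405) (.leaf 0))))))) (.node (.node (.node (.node (.node (.node (.leaf 3727360) (.leaf 156524544)) (.node (.leaf 95576064) (.leaf 0))) (.node (.node (.leaf 27017906) (.leaf 0)) (.node (.leaf 130711552) (.leaf 0)))) (.node (.node (.node (.leaf 12247040) (.leaf 131563520)) (.node (.leaf 89916218) (.leaf 0))) (.node (.node (.leaf 35471360) (.leaf 0)) (.node (.leaf 91766784) (.leaf 0))))) (.node (.node (.node (.node (.leaf 16752640) (.leaf 119848960)) (.node (.leaf 54681600) (.leaf 0))) (.node (.node (.leaf 32856333) (.leaf 0)) (.node (.leaf 114806535) (.leaf 0)))) (.node (.node (.node (.leaf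 17915904) (.leaf 164525120)) (.node (.leaf 122732544) (.leaf 0))) (.node (.node (.leaf 85606400) (.leaf 0)) (.node (.leaf 151183360) (.leaf 0)))))) (.node (.node (.node (.node (.node (.leaf 10280960) (.leaf 158810112)) (.node (.leaf 51372032) (.leaf 0))) (.node (.node (.leaf 58933248) (.leaf 0)) (.node (.leaf 79699968) (.leaf 0)))) (.node (.node (.node (.leaf 35479552) (.leaf 138256384)) (.node (.leaf 118538240) (.leaf 0))) (.node (.node (.leaf 80486400) (.leaf 0)) (.node (.leaf 148111360) (.leaf 0))))) (.node (.node (.node (.node (.leaf 23101440) (.leaf 140089551)) (.node (.leaf 100038526) (.leaf 0))) (.node (.node (.leaf 69869664) (.leaf 0)) (.node (.leaf 137642214) (.leaf 0)))) (.node (.node (.node (.leaf 47431680) (.leaf 156590080)) (.node (.leaf 72310784) (.leaf 0))) (.node (.node (.leaf 90628096) (.leaf 0)) (.node (.leaf 131442374) (.leaf 0)))))))) (.node (.node (.node (.node (.node (.node (.node (.leaf 2072576) (.leaf 139548253)) (.node (.leaf 47128576) (.leaf 0))) (.node (.node (.leaf 51798016)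 (.leaf 0)) (.node (.leaf 129794048) (.leaf 0)))) (.node (.node (.node (.leaf 27738112) (.leaf 160400918)) (.node (.leaf 113074176) (.leaf 0))) (.node (.node (.leaf 34717696) (.leaf 0)) (.node (.leaf 137531613) (.leaf 0))))) (.node (.node (.node (.node (.leaf 15089664) (.leaf 118489088)) (.node (.leaf 53870592) (.leaf 0))) (.node (.node (.leaf 28762112) (.leaf 0)) (.node (.leaf 137166848) (.leaf 0)))) (.node (.node (.node (.leaf 39952384) (.leaf 144334848)) (.node (.leaf 67674112) (.leaf 0))) (.node (.node (.leaf 84426752) (.leaf 0)) (.node (.leaf 99041280) (.leaf 0)))))) (.node (.node (.node (.node (.node (.leaf 8650752) (.leaf 115389703)) (.node (.leaf 99180544) (.leaf 0))) (.node (.node (.leaf 57409536) (.leaf 0)) (.node (.leaf 130601364) (.leaf 0)))) (.node (.node (.node (.leaf 33980416) (.leaf 137371871)) (.node (.leaf 64135168) (.leaf 0))) (.node (.node (.leaf 79183872) (.leaf 0)) (.node (.leaf 94830592) (.leaf 0))))) (.node (.node (.node (.node (.leaf 8888320) (.leaf 123969536)) (.node (.leaf 91901074)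 (.leaf 0))) (.node (.node (.leaf 31703040) (.leaf 0)) (.node (.leaf 94471632) (.leaf 0)))) (.node (.node (.node (.leaf 20021248) (.leaf 163341703)) (.node (.leaf 125878272) (.leaf 0))) (.node (.node (.leaf 89464832) (.leaf 0)) (.node (.leaf 153174016) (.leaf 0))))))) (.node (.node (.node (.node (.node (.node (.leaf 5373952) (.leaf 110919680)) (.node (.leaf 48906240) (.leaf 0))) (.node (.node (.leaf 54648832) (.leaf 0)) (.node (.leaf 77053952) (.leaf 0)))) (.node (.node (.node (.leaf 30867456) (.leaf 133062656)) (.node (.leaf 109159111) (.leaf 0))) (.node (.node (.leaf 76603392) (.leaf 0)) (.node (.leaf 102584070) (.leaf 0))))) (.node (.node (.node (.node (.leaf 18399232) (.leaf 121176064)) (.node (.leaf 55574528) (.leaf 0))) (.node (.node (.leaf 65961984) (.leaf 0)) (.node (.leaf 84606976) (.leaf 0)))) (.node (.node (.node (.leaf 18620416) (.leaf 148742144)) (.node (.leaf 69525504) (.leaf 0))) (.node (.node (.leaf 42409984) (.leaf 0)) (.node (.leaf 130149427) (.leaf 0)))))) (.node (.node (.node (.node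 (.node (.leaf 11878400) (.leaf 115752960)) (.node (.leaf 101564416) (.leaf 0))) (.node (.node (.leaf 60407808) (.leaf 0)) (.node (.leaf 80609280) (.leaf 0)))) (.node (.node (.node (.leaf 37019648) (.leaf 140386304)) (.node (.leaf 65970176) (.leaf 0))) (.node (.node (.leaf 39395328) (.leaf 0)) (.node (.leaf 125028435) (.leaf 0))))) (.node (.node (.node (.node (.leaf 24690688) (.leaf 161088924)) (.node (.leaf 110911488) (.leaf 0))) (.node (.node (.leaf 71286784) (.leaf 0)) (.node (.leaf 88604672) (.leaf 0)))) (.node (.node (.node (.leaf 32753361) (.leaf 159637504)) (.node (.leaf 127860736) (.leaf 0))) (.node (.node (.leaf 91865088) (.leaf 0)) (.node (.leaf 154574848) (.leaf 0))))))))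

def e1T31 : NT := .node (.node (.node (.node (.node (.node (.node (.node (.leaf 409600) (.leaf 107216896)) (.node (.leaf 93184000) (.leaf 0))) (.node (.node (.leaf 22142976) (.leaf 167911834)) (.node (.leaf 74104832) (.leaf 0)))) (.node (.node (.node (.leaf 10911744) (.leaf 128294912)) (.node (.leaf 59785216) (.leaf 0))) (.node (.node (.leaf 72654848) (.leaf 0)) (.node (.leaf 89612288) (.leaf 0))))) (.node (.node (.node (.node (.leaf 13508608) (.leaf 117039104)) (.node (.leaf 102703104) (.leaf 0))) (.node (.node (.leaf 61833216) (.leaf 0)) (.node (.leaf 136232960) (.leaf 0)))) (.node (.node (.node (.leaf 16482304) (.leaf 166969344)) (.node (.leaf 66887680) (.leaf 0))) (.node (.node (.leaf 83206144) (.leaf 0)) (.node (.leaf 145713893) (.leaf 0)))))) (.node (.node (.node (.node (.node (.leaf 2801664) (.leaf 148476947)) (.node (.leaf 97959936) (.leaf 0))) (.node (.node (.leaf 42494294) (.leaf 0)) (.node (.leaf 98271259) (.leaf 0)))) (.node (.node (.node (.leaf 13631488) (.leaf 153607220)) (.node (.leaf 63324160)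 (.leaf 0))) (.node (.node (.leaf 77938688) (.leaf 0)) (.node (.leaf 93749248) (.leaf 0))))) (.node (.node (.node (.node (.leaf 8216576) (.leaf 161996800)) (.node (.leaf 56377344) (.leaf 0))) (.node (.node (.leaf 67371008) (.leaf 0)) (.node (.leaf 139836374) (.leaf 0)))) (.node (.node (.node (.leaf 44482560) (.leaf 151379968)) (.node (.leaf 124780544) (.leaf 0))) (.node (.node (.leaf 88129536) (.leaf 0)) (.node (.leaf 152518656) (.leaf 0))))))) (.node (.node (.node (.node (.node (.node (.leaf 3743744) (.leaf 151018431)) (.node (.leaf 95584256) (.leaf 0))) (.node (.node (.leaf 23601152) (.leaf 0)) (.node (.leaf 130719744) (.leaf 0)))) (.node (.node (.node (.leaf 29310976) (.leaf 131571712)) (.node (.leaf 114139136) (.leaf 0))) (.node (.node (.leaf 75292672) (.leaf 0)) (.node (.leaf 91774976) (.leaf 0))))) (.node (.node (.node (.node (.leaf 16769024) (.leaf 126424199)) (.node (.leaf 105005056) (.leaf 0))) (.node (.node (.leaf 29499392) (.leaf 0)) (.node (.leaf 83591168) (.leaf 0)))) (.node (.node (.node (.leaf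 41508864) (.leaf 146587648)) (.node (.leaf 68616192) (.leaf 0))) (.node (.node (.leaf 85622784) (.leaf 0)) (.node (.leaf 139498198) (.leaf 0)))))) (.node (.node (.node (.node (.node (.leaf 4153344) (.leaf 141463221)) (.node (.leaf 72847260) (.leaf 0))) (.node (.node (.leaf 26558464) (.leaf 0)) (.node (.leaf 134463488) (.leaf 0)))) (.node (.node (.node (.leaf 15073280) (.leaf 138264576)) (.node (.leaf 65036288) (.leaf 0))) (.node (.node (.leaf 80502784) (.leaf 0)) (.node (.leaf 95952896) (.leaf 0))))) (.node (.node (.node (.node (.leaf 23109632) (.leaf 162955264)) (.node (.leaf 83989177) (.leaf 0))) (.node (.node (.leaf 32448512) (.leaf 0)) (.node (.leaf 87556096) (.leaf 0)))) (.node (.node (.node (.leaf 47448064) (.leaf 159942347)) (.node (.leaf 126902272) (.leaf 0))) (.node (.node (.leaf 44810240) (.leaf 0)) (.node (.leaf 153944064) (.leaf 0)))))))) (.node (.node (.node (.node (.node (.node (.node (.leaf 811008) (.leaf 108363776)) (.node (.leaf 75045746) (.leaf 0))) (.node (.node (.leaf 43018649) (.leaf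 0)) (.node (.leaf 75046912) (.leaf 0)))) (.node (.node (.node (.leaf 11575296) (.leaf 152299079)) (.node (.leaf 71107458) (.leaf 0))) (.node (.node (.leaf 73957376) (.leaf 0)) (.node (.leaf 132063423) (.leaf 0))))) (.node (.node (.node (.node (.leaf 15106048) (.leaf 118497280)) (.node (.leaf 76801890) (.leaf 0))) (.node (.node (.leaf 63266816) (.leaf 0)) (.node (.leaf 82542592) (.leaf 0)))) (.node (.node (.node (.leaf 17195008) (.leaf 166471300)) (.node (.leaf 121692160) (.leaf 0))) (.node (.node (.leaf 84443136) (.leaf 0)) (.node (.leaf 104738462) (.leaf 0)))))) (.node (.node (.node (.node (.node (.leaf 8667136) (.leaf 158195712)) (.node (.leaf 99196928) (.leaf 0))) (.node (.node (.leaf 25812992) (.leaf 0)) (.node (.leaf 133595136) (.leaf 0)))) (.node (.node (.node (.leaf 14376960) (.leaf 161225355)) (.node (.leaf 91413647) (.leaf 0))) (.node (.node (.leaf 37863424) (.leaf 0)) (.node (.leaf 99095378) (.leaf 0))))) (.node (.node (.node (.node (.leaf 21569536) (.leaf 162496512)) (.node (.leaf 108716032)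 (.leaf 0))) (.node (.node (.leaf 68747264) (.leaf 0)) (.node (.leaf 86589440) (.leaf 0)))) (.node (.node (.node (.leaf 45973504) (.leaf 159543884)) (.node (.leaf 71393280) (.leaf 0))) (.node (.node (.leaf 63771537) (.leaf 0)) (.node (.leaf 103563264) (.leaf 0))))))) (.node (.node (.node (.node (.node (.node (.leaf 2129920) (.leaf 157122560)) (.node (.leaf 91613977) (.leaf 0))) (.node (.node (.leaf 54657024) (.leaf 0)) (.node (.leaf 110675148) (.leaf 0)))) (.node (.node (.node (.leaf 30883840) (.leaf 156470738)) (.node (.leaf 62464000) (.leaf 0))) (.node (.node (.leaf 76611584) (.leaf 0)) (.node (.leaf 92766208) (.leaf 0))))) (.node (.node (.node (.node (.leaf 18415616) (.leaf 121200640)) (.node (.leaf 55590912) (.leaf 0))) (.node (.node (.leaf 65978368) (.leaf 0)) (.node (.leaf 95848365) (.leaf 0)))) (.node (.node (.node (.leaf 42967040) (.leaf 153817288)) (.node (.leaf 69533696) (.leaf 0))) (.node (.node (.leaf 62123175) (.leaf 0)) (.node (.leaf 151887872) (.leaf 0)))))) (.node (.node (.node (.node (.node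 (.leaf 4808704) (.leaf 159326208)) (.node (.leaf 101580800) (.leaf 0))) (.node (.node (.leaf 27271168) (.leaf 0)) (.node (.leaf 135438336) (.leaf 0)))) (.node (.node (.node (.leaf 37036032) (.leaf 144966634)) (.node (.leaf 119537664) (.leaf 0))) (.node (.node (.leaf 39403520) (.leaf 0)) (.node (.leaf 97001472) (.leaf 0))))) (.node (.node (.node (.node (.leaf 10248192) (.leaf 162054672)) (.node (.leaf 110927872) (.leaf 0))) (.node (.node (.leaf 71303168) (.leaf 0)) (.node (.leaf 142532608) (.leaf 0)))) (.node (.node (.node (.leaf 21454848) (.leaf 167923588)) (.node (.leaf 127868928) (.leaf 0))) (.node (.node (.leaf 64518368) (.leaf 0)) (.node (.leaf 105971712) (.leaf 0))))))))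

def e1T32 : NT := .node (.node (.node (.node (.node (.node (.node (.node (.leaf 425984) (.leaf 155222016)) (.node (.leaf 46391296) (.leaf 0))) (.node (.node (.leaf 50372608) (.leaf 167038654)) (.node (.leaf 109090085) (.leaf 0)))) (.node (.node (.node (.leaf 26214400) (.leaf 142066657)) (.node (.leaf 95522123) (.leaf 0))) (.node (.node (.leaf 33972224) (.leaf 0)) (.node (.leaf 98445622) (.leaf 0))))) (.node (.node (.node (.node (.leaf 5488640) (.leaf 148087220)) (.node (.leaf 102711296) (.leaf 0))) (.node (.node (.leaf 28033024) (.leaf 0)) (.node (.leaf 135594566) (.leaf 0)))) (.node (.node (.node (.leaf 38543360) (.leaf 163998594)) (.node (.leaf 76358824) (.leaf 0))) (.node (.node (.leaf 40132608) (.leaf 0)) (.node (.leaf 149700608) (.leaf 0)))))) (.node (.node (.node (.node (.node (.leaf 7028736) (.leaf 154035913)) (.node (.leaf 97976320) (.leaf 0))) (.node (.node (.leaf 25059328) (.leaf 0)) (.node (.leaf 77930496) (.leaf 0)))) (.node (.node (.node (.leaf 32464896) (.leaf 134791168)) (.node (.leaf 85690718)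 (.leaf 0))) (.node (.node (.leaf 37068800) (.leaf 0)) (.node (.leaf 146579456) (.leaf 0))))) (.node (.node (.node (.node (.leaf 20054016) (.leaf 122511360)) (.node (.leaf 107462656) (.leaf 0))) (.node (.node (.leaf 30949376) (.leaf 0)) (.node (.leaf 139927552) (.leaf 0)))) (.node (.node (.node (.leaf 19341312) (.leaf 167492184)) (.node (.leaf 70467584) (.leaf 0))) (.node (.node (.leaf 88145920) (.leaf 0)) (.node (.leaf 102547456) (.leaf 0))))))) (.node (.node (.node (.node (.node (.node (.leaf 1474560) (.leaf 109674496)) (.node (.leaf 48062464) (.leaf 0))) (.node (.node (.leaf 53272576) (.leaf 0)) (.node (.leaf 76038144) (.leaf 0)))) (.node (.node (.node (.leaf 29327360) (.leaf 134519225)) (.node (.leaf 61595648) (.leaf 0))) (.node (.node (.leaf 75309056) (.leaf 0)) (.node (.leaf 144908288) (.leaf 0))))) (.node (.node (.node (.node (.leaf 6840320) (.leaf 158594455)) (.node (.leaf 81540208) (.leaf 0))) (.node (.node (.leaf 64569344) (.leaf 0)) (.node (.leaf 138027008) (.leaf 0)))) (.node (.node (.node (.leaf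 17924096) (.leaf 163490932)) (.node (.leaf 110724553) (.leaf 0))) (.node (.node (.leaf 85639168) (.leaf 0)) (.node (.leaf 108036165) (.leaf 0)))))) (.node (.node (.node (.node (.node (.leaf 10305536) (.leaf 114499584)) (.node (.leaf 51388416) (.leaf 0))) (.node (.node (.leaf 46035548) (.leaf 0)) (.node (.leaf 134471680) (.leaf 0)))) (.node (.node (.node (.leaf 35504128) (.leaf 138280960)) (.node (.leaf 105253753) (.leaf 0))) (.node (.node (.leaf 80519168) (.leaf 0)) (.node (.leaf 146468180) (.leaf 0))))) (.node (.node (.node (.node (.leaf 9584640) (.leaf 125296640)) (.node (.leaf 58105856) (.leaf 0))) (.node (.node (.leaf 61802401) (.leaf 0)) (.node (.leaf 107623801) (.leaf 0)))) (.node (.node (.node (.leaf 47456256) (.leaf 156639232)) (.node (.leaf 126910464) (.leaf 0))) (.node (.node (.leaf 83424517) (.leaf 0)) (.node (.leaf 104775680) (.leaf 0)))))))) (.node (.node (.node (.node (.node (.node (.node (.leaf 2097152) (.leaf 118330033)) (.node (.leaf 94404608) (.leaf 0))) (.node (.node (.leaf 22888448)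 (.leaf 0)) (.node (.leaf 129810432) (.leaf 0)))) (.node (.node (.node (.leaf 27762688) (.leaf 151003356)) (.node (.leaf 113090560) (.leaf 0))) (.node (.node (.leaf 34725888) (.leaf 0)) (.node (.leaf 144080896) (.leaf 0))))) (.node (.node (.node (.node (.leaf 6160384) (.leaf 118530048)) (.node (.leaf 94753254) (.leaf 0))) (.node (.node (.leaf 63275008) (.leaf 0)) (.node (.leaf 137183232) (.leaf 0)))) (.node (.node (.node (.leaf 39976960) (.leaf 144367616)) (.node (.leaf 67682304) (.leaf 0))) (.node (.node (.leaf 40894464) (.leaf 0)) (.node (.leaf 150454272) (.leaf 0)))))) (.node (.node (.node (.node (.node (.leaf 3473408) (.leaf 113295360)) (.node (.leaf 50561024) (.leaf 0))) (.node (.node (.leaf 57434112) (.leaf 0)) (.node (.leaf 78782464) (.leaf 0)))) (.node (.node (.node (.leaf 34004992) (.leaf 136495104)) (.node (.leaf 67718985) (.leaf 0))) (.node (.node (.leaf 55253800) (.leaf 0)) (.node (.leaf 94846976) (.leaf 0))))) (.node (.node (.node (.node (.leaf 8896512) (.leaf 123977728)) (.node (.leaf 57270272)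 (.leaf 0))) (.node (.node (.leaf 31711232) (.leaf 0)) (.node (.leaf 88619547) (.leaf 0)))) (.node (.node (.node (.leaf 45989888) (.leaf 160900378)) (.node (.leaf 104384393) (.leaf 0))) (.node (.node (.leaf 89473024) (.leaf 0)) (.node (.leaf 103571456) (.leaf 0))))))) (.node (.node (.node (.node (.node (.node (.leaf 5398528) (.leaf 118230817)) (.node (.leaf 96788480) (.leaf 0))) (.node (.node (.leaf 24305664) (.leaf 0)) (.node (.leaf 131776512) (.leaf 0)))) (.node (.node (.node (.leaf 12935168) (.leaf 133087232)) (.node (.leaf 115269632) (.leaf 0))) (.node (.node (.leaf 60755468) (.leaf 0)) (.node (.leaf 103245954) (.leaf 0))))) (.node (.node (.node (.node (.leaf 7528448) (.leaf 153194738)) (.node (.leaf 106291200) (.leaf 0))) (.node (.node (.leaf 30228480) (.leaf 0)) (.node (.leaf 138928128) (.leaf 0)))) (.node (.node (.node (.leaf 42983424) (.leaf 156331741)) (.node (.leaf 89348806) (.leaf 0))) (.node (.node (.leaf 86827008) (.leaf 0)) (.node (.leaf 101367808) (.leaf 0)))))) (.node (.node (.node (.node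 (.node (.leaf 11902976) (.leaf 115761152)) (.node (.leaf 52215808) (.leaf 0))) (.node (.node (.leaf 60432384) (.leaf 0)) (.node (.leaf 80617472) (.leaf 0)))) (.node (.node (.node (.leaf 15769600) (.leaf 165264249)) (.node (.leaf 65986560) (.leaf 0))) (.node (.node (.leaf 81846272) (.leaf 0)) (.node (.leaf 148930560) (.leaf 0))))) (.node (.node (.node (.node (.leaf 24715264) (.leaf 126812160)) (.node (.leaf 58884096) (.leaf 0))) (.node (.node (.leaf 50661073) (.leaf 0)) (.node (.leaf 96277902) (.leaf 0)))) (.node (.node (.node (.leaf 48947200) (.leaf 159711232)) (.node (.leaf 127877120) (.leaf 0))) (.node (.node (.leaf 45596672) (.leaf 0)) (.node (.leaf 154583040) (.leaf 0))))))))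

def e1T33 : NT := .node (.node (.node (.node (.node (.node (.node (.node (.leaf 163840) (.leaf 155238400)) (.node (.leaf 84936692) (.leaf 0))) (.node (.node (.leaf 50388992) (.leaf 166830080)) (.node (.leaf 74121216) (.leaf 0)))) (.node (.node (.node (.leaf 26222592) (.leaf 128319488)) (.node (.leaf 59801600) (.leaf 0))) (.node (.node (.leaf 72679424) (.leaf 0)) (.node (.leaf 136793447) (.leaf 0))))) (.node (.node (.node (.node (.leaf 13533184) (.leaf 117047296)) (.node (.leaf 53059584) (.leaf 0))) (.node (.node (.leaf 47393903) (.leaf 0)) (.node (.leaf 136241152) (.leaf 0)))) (.node (.node (.node (.leaf 38559744) (.leaf 142483456)) (.node (.leaf 120586240) (.leaf 0))) (.node (.node (.leaf 83222528) (.leaf 0)) (.node (.leaf 149716992) (.leaf 0)))))) (.node (.node (.node (.node (.node (.leaf 7045120) (.leaf 125505416)) (.node (.leaf 49733632) (.leaf 0))) (.node (.node (.leaf 56041472) (.leaf 0)) (.node (.leaf 132677632) (.leaf 0)))) (.node (.node (.node (.leaf 32481280) (.leaf 157874740)) (.node (.leaf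 63332352) (.leaf 0))) (.node (.node (.leaf 77963264) (.leaf 0)) (.node (.leaf 146595840) (.leaf 0))))) (.node (.node (.node (.node (.leaf 8224768) (.leaf 142978418)) (.node (.leaf 56401920) (.leaf 0))) (.node (.node (.leaf 67395584) (.leaf 0)) (.node (.leaf 85598208) (.leaf 0)))) (.node (.node (.node (.leaf 44507136) (.leaf 151396352)) (.node (.leaf 103761219) (.leaf 0))) (.node (.node (.leaf 43196416) (.leaf 0)) (.node (.leaf 152543232) (.leaf 0))))))) (.node (.node (.node (.node (.node (.node (.leaf 3768320) (.leaf 141890317)) (.node (.leaf 95600640) (.leaf 0))) (.node (.node (.leaf 23609344) (.leaf 0)) (.node (.leaf 110452883) (.leaf 0)))) (.node (.node (.node (.leaf 12263424) (.leaf 131588096)) (.node (.leaf 61612032) (.leaf 0))) (.node (.node (.leaf 35487744) (.leaf 0)) (.node (.leaf 132761617) (.leaf 0))))) (.node (.node (.node (.node (.leaf 16793600) (.leaf 119889920)) (.node (.leaf 71835675) (.leaf 0))) (.node (.node (.leaf 64585728) (.leaf 0)) (.node (.leaf 83599360) (.leaf 0)))) (.node (.node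 (.node (.leaf 41533440) (.leaf 163451802)) (.node (.leaf 68624384) (.leaf 0))) (.node (.node (.leaf 41631744) (.leaf 0)) (.node (.leaf 100220928) (.leaf 0)))))) (.node (.node (.node (.node (.node (.leaf 10321920) (.leaf 114507776)) (.node (.leaf 100368384) (.leaf 0))) (.node (.node (.leaf 26566656) (.leaf 0)) (.node (.leaf 79724544) (.leaf 0)))) (.node (.node (.node (.leaf 15081472) (.leaf 138289152)) (.node (.leaf 65052672) (.leaf 0))) (.node (.node (.leaf 80535552) (.leaf 0)) (.node (.leaf 148127744) (.leaf 0))))) (.node (.node (.node (.node (.leaf 23134208) (.leaf 125321216)) (.node (.leaf 109789184) (.leaf 0))) (.node (.node (.leaf 32456704) (.leaf 0)) (.node (.leaf 87572480) (.leaf 0)))) (.node (.node (.node (.leaf 20733952) (.leaf 163352164)) (.node (.leaf 72327168) (.leaf 0))) (.node (.node (.leaf 90652672) (.leaf 0)) (.node (.leaf 149393049) (.leaf 0)))))))) (.node (.node (.node (.node (.node (.node (.node (.leaf 2113536) (.leaf 155934720)) (.node (.leaf 47144960) (.leaf 0))) (.node (.node (.leaf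 51830784) (.leaf 0)) (.node (.leaf 129826816) (.leaf 0)))) (.node (.node (.node (.leaf 27779072) (.leaf 160954993)) (.node (.leaf 113106944) (.leaf 0))) (.node (.node (.leaf 73981952) (.leaf 0)) (.node (.leaf 90669056) (.leaf 0))))) (.node (.node (.node (.node (.leaf 15122432) (.leaf 132786361)) (.node (.leaf 53886976) (.leaf 0))) (.node (.node (.leaf 28778496) (.leaf 0)) (.node (.leaf 82550784) (.leaf 0)))) (.node (.node (.node (.leaf 17211392) (.leaf 154059022)) (.node (.leaf 89815506) (.leaf 0))) (.node (.node (.leaf 84459520) (.leaf 0)) (.node (.leaf 132953813) (.leaf 0)))))) (.node (.node (.node (.node (.node (.leaf 3609169) (.leaf 113303552)) (.node (.leaf 98027449) (.leaf 0))) (.node (.node (.leaf 25821184) (.leaf 0)) (.node (.leaf 121238679) (.leaf 0)))) (.node (.node (.node (.leaf 14385152) (.leaf 159870507)) (.node (.leaf 117440512) (.leaf 0))) (.node (.node (.leaf 79208448) (.leaf 0)) (.node (.leaf 147382272) (.leaf 0))))) (.node (.node (.node (.node (.leaf 10974957) (.leaf 150703414)) (.node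 (.leaf 108740608) (.leaf 0))) (.node (.node (.leaf 31719424) (.leaf 0)) (.node (.leaf 86597632) (.leaf 0)))) (.node (.node (.node (.leaf 20037632) (.leaf 153640960)) (.node (.leaf 125902848) (.leaf 0))) (.node (.node (.leaf 44015616) (.leaf 0)) (.node (.leaf 153198592) (.leaf 0))))))) (.node (.node (.node (.node (.node (.node (.leaf 5414912) (.leaf 110936064)) (.node (.leaf 48922624) (.leaf 0))) (.node (.node (.leaf 54665216) (.leaf 0)) (.node (.leaf 77070336) (.leaf 0)))) (.node (.node (.node (.leaf 30908416) (.leaf 162505374)) (.node (.leaf 115286016) (.leaf 0))) (.node (.node (.leaf 36298752) (.leaf 0)) (.node (.leaf 92774400) (.leaf 0))))) (.node (.node (.node (.node (.leaf 18440192) (.leaf 121208832)) (.node (.leaf 75193186) (.leaf 0))) (.node (.node (.leaf 66002944) (.leaf 0)) (.node (.leaf 138936320) (.leaf 0)))) (.node (.node (.node (.leaf 18636800) (.leaf 148865024)) (.node (.leaf 117403968) (.leaf 0))) (.node (.node (.leaf 42426368) (.leaf 0)) (.node (.leaf 151904256) (.leaf 0)))))) (.node (.node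 (.node (.node (.node (.leaf 11919360) (.leaf 117199451)) (.node (.leaf 52224000) (.leaf 0))) (.node (.node (.leaf 55310682) (.leaf 0)) (.node (.leaf 110833015) (.leaf 0)))) (.node (.node (.node (.leaf 37060608) (.leaf 143599697)) (.node (.leaf 102114721) (.leaf 0))) (.node (.node (.leaf 39411712) (.leaf 0)) (.node (.leaf 148946944) (.leaf 0))))) (.node (.node (.node (.node (.leaf 24731648) (.leaf 161694192)) (.node (.leaf 64842981) (.leaf 0))) (.node (.node (.leaf 33210368) (.leaf 0)) (.node (.leaf 88621056) (.leaf 0)))) (.node (.node (.node (.leaf 21463040) (.leaf 164736391)) (.node (.leaf 73228288) (.leaf 0))) (.node (.node (.leaf 91889664) (.leaf 0)) (.node (.leaf 105996288) (.leaf 0))))))))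

def e1T34 : NT := .node (.node (.node (.node (.node (.node (.node (.node (.leaf 450560) (.leaf 107233280)) (.node (.leaf 93216768) (.leaf 0))) (.node (.node (.leaf 22159360) (.leaf 166952960)) (.node (.leaf 90489232) (.leaf 0)))) (.node (.node (.node (.leaf 10928128) (.leaf 139767785)) (.node (.leaf 110269697) (.leaf 0))) (.node (.node (.leaf 72695808) (.leaf 0)) (.node (.leaf 89628672) (.leaf 0))))) (.node (.node (.node (.node (.leaf 5496832) (.leaf 151951118)) (.node (.leaf 102727680) (.leaf 0))) (.node (.node (.leaf 28041216) (.leaf 0)) (.node (.leaf 81625088) (.leaf 0)))) (.node (.node (.node (.leaf 16498688) (.leaf 158697224)) (.node (.leaf 66904064) (.leaf 0))) (.node (.node (.leaf 40140800) (.leaf 0)) (.node (.leaf 149725184) (.leaf 0)))))) (.node (.node (.node (.node (.node (.leaf 2818048) (.leaf 112205824)) (.node (.leaf 84375273) (.leaf 0))) (.node (.node (.leaf 56057856) (.leaf 0)) (.node (.leaf 88986791) (.leaf 0)))) (.node (.node (.node (.leaf 13647872) (.leaf 155474310)) (.node (.leaf 80918290)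 (.leaf 0))) (.node (.node (.leaf 37076992) (.leaf 0)) (.node (.leaf 146604032) (.leaf 0))))) (.node (.node (.node (.node (.leaf 20070400) (.leaf 151882994)) (.node (.leaf 107487232) (.leaf 0))) (.node (.node (.leaf 30957568) (.leaf 0)) (.node (.leaf 89842116) (.leaf 0)))) (.node (.node (.node (.leaf 44523520) (.leaf 167739392)) (.node (.leaf 124813312) (.leaf 0))) (.node (.node (.leaf 88170496) (.leaf 0)) (.node (.leaf 102563840) (.leaf 0))))))) (.node (.node (.node (.node (.node (.node (.leaf 1482752) (.leaf 156549120)) (.node (.leaf 48070656) (.leaf 0))) (.node (.node (.leaf 53288960) (.leaf 0)) (.node (.leaf 76054528) (.leaf 0)))) (.node (.node (.node (.leaf 29351936) (.leaf 131604480)) (.node (.leaf 105630333) (.leaf 0))) (.node (.node (.leaf 75333632) (.leaf 0)) (.node (.leaf 91791360) (.leaf 0))))) (.node (.node (.node (.node (.leaf 6848512) (.leaf 142415979)) (.node (.leaf 105021440) (.leaf 0))) (.node (.node (.leaf 29515776) (.leaf 0)) (.node (.leaf 113694645) (.leaf 0)))) (.node (.node (.node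 (.leaf 41549824) (.leaf 146612224)) (.node (.leaf 109711917) (.leaf 0))) (.node (.node (.leaf 85655552) (.leaf 0)) (.node (.leaf 119567776) (.leaf 0)))))) (.node (.node (.node (.node (.node (.leaf 4169728) (.leaf 134821966)) (.node (.leaf 100384768) (.leaf 0))) (.node (.node (.leaf 58966016) (.leaf 0)) (.node (.leaf 134496256) (.leaf 0)))) (.node (.node (.node (.leaf 35528704) (.leaf 138313728)) (.node (.leaf 118562816) (.leaf 0))) (.node (.node (.leaf 38715392) (.leaf 0)) (.node (.leaf 95985664) (.leaf 0))))) (.node (.node (.node (.node (.leaf 23150592) (.leaf 125362176)) (.node (.leaf 58114048) (.leaf 0))) (.node (.node (.leaf 70017024) (.leaf 0)) (.node (.leaf 87580672) (.leaf 0)))) (.node (.node (.node (.leaf 47472640) (.leaf 166864023)) (.node (.leaf 93049656) (.leaf 0))) (.node (.node (.leaf 87388676) (.leaf 0)) (.node (.leaf 104800256) (.leaf 0)))))))) (.node (.node (.node (.node (.node (.node (.node (.leaf 827392) (.leaf 155951104)) (.node (.leaf 56336918) (.leaf 0))) (.node (.node (.leaf 51847168)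 (.leaf 0)) (.node (.leaf 75063296) (.leaf 0)))) (.node (.node (.node (.leaf 11591680) (.leaf 162709637)) (.node (.leaf 113115136) (.leaf 0))) (.node (.node (.leaf 34742272) (.leaf 0)) (.node (.leaf 116519720) (.leaf 0))))) (.node (.node (.node (.node (.leaf 6168576) (.leaf 118546432)) (.node (.leaf 103800832) (.leaf 0))) (.node (.node (.leaf 63291392) (.leaf 0)) (.node (.leaf 82558976) (.leaf 0)))) (.node (.node (.node (.leaf 40001536) (.leaf 145570660)) (.node (.leaf 67698688) (.leaf 0))) (.node (.node (.leaf 84475904) (.leaf 0)) (.node (.leaf 99074048) (.leaf 0)))))) (.node (.node (.node (.node (.node (.leaf 3481600) (.leaf 113319936)) (.node (.leaf 50569216) (.leaf 0))) (.node (.node (.leaf 57450496) (.leaf 0)) (.node (.leaf 78798848) (.leaf 0)))) (.node (.node (.node (.leaf 34029568) (.leaf 151994395)) (.node (.leaf 64159744) (.leaf 0))) (.node (.node (.leaf 37879808) (.leaf 0)) (.node (.leaf 94863360) (.leaf 0))))) (.node (.node (.node (.node (.leaf 8912896) (.leaf 124002304)) (.node (.leaf 108756992)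 (.leaf 0))) (.node (.node (.leaf 68763648) (.leaf 0)) (.node (.leaf 140828672) (.leaf 0)))) (.node (.node (.node (.leaf 46014464) (.leaf 153690112)) (.node (.leaf 71409664) (.leaf 0))) (.node (.node (.leaf 89497600) (.leaf 0)) (.node (.leaf 103587840) (.leaf 0))))))) (.node (.node (.node (.node (.node (.node (.leaf 2146304) (.leaf 115589458)) (.node (.leaf 96813056) (.leaf 0))) (.node (.node (.leaf 24313856) (.leaf 0)) (.node (.leaf 126921663) (.leaf 0)))) (.node (.node (.node (.leaf 30924800) (.leaf 133111808)) (.node (.leaf 62488576) (.leaf 0))) (.node (.node (.leaf 76644352) (.leaf 0)) (.node (.leaf 111987489) (.leaf 0))))) (.node (.node (.node (.node (.leaf 16290279) (.leaf 161447936)) (.node (.leaf 106315776) (.leaf 0))) (.node (.node (.leaf 30236672) (.leaf 0)) (.node (.leaf 138944512) (.leaf 0)))) (.node (.node (.node (.leaf 43008000) (.leaf 148873216)) (.node (.leaf 123797504) (.leaf 0))) (.node (.node (.leaf 86851584) (.leaf 0)) (.node (.leaf 101392384) (.leaf 0)))))) (.node (.node (.node (.node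 (.node (.leaf 4825088) (.leaf 115785728)) (.node (.leaf 54988589) (.leaf 0))) (.node (.node (.leaf 60448768) (.leaf 0)) (.node (.leaf 80642048) (.leaf 0)))) (.node (.node (.node (.leaf 15777792) (.leaf 147357768)) (.node (.leaf 119554048) (.leaf 0))) (.node (.node (.leaf 81862656) (.leaf 0)) (.node (.leaf 97026048) (.leaf 0))))) (.node (.node (.node (.node (.leaf 10264576) (.leaf 136995228)) (.node (.leaf 110944256) (.leaf 0))) (.node (.node (.leaf 71335936) (.leaf 0)) (.node (.leaf 139397381) (.leaf 0)))) (.node (.node (.node (.leaf 33056465) (.leaf 167933210)) (.node (.leaf 127893504) (.leaf 0))) (.node (.node (.leaf 80213253) (.leaf 0)) (.node (.leaf 106004480) (.leaf 0))))))))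

def e1T35 : NT := .node (.node (.node (.node (.node (.node (.node (.node (.leaf 172032) (.leaf 107249664)) (.node (.leaf 46407680) (.leaf 0))) (.node (.node (.leaf 50413568) (.leaf 167165952)) (.node (.leaf 74129408) (.leaf 0)))) (.node (.node (.node (.leaf 26247168) (.leaf 155528886)) (.node (.leaf 112017408) (.leaf 0))) (.node (.node (.leaf 72704000) (.leaf 0)) (.node (.leaf 123237989) (.leaf 0))))) (.node (.node (.node (.node (.leaf 13557760) (.leaf 146311126)) (.node (.leaf 53067776) (.leaf 0))) (.node (.node (.leaf 57026351) (.leaf 0)) (.node (.leaf 131217215) (.leaf 0)))) (.node (.node (.node (.leaf 38576128) (.leaf 166185012)) (.node (.leaf 86152820) (.leaf 0))) (.node (.node (.leaf 45422885) (.leaf 0)) (.node (.leaf 98009088) (.leaf 0)))))) (.node (.node (.node (.node (.node (.leaf 7069696) (.leaf 112214016)) (.node (.leaf 49741824) (.leaf 0))) (.node (.node (.leaf 25075712) (.leaf 0)) (.node (.leaf 77946880) (.leaf 0)))) (.node (.node (.node (.leaf 32505856) (.leaf 148842187)) (.node (.leaf 116375552)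 (.leaf 0))) (.node (.node (.leaf 46622055) (.leaf 0)) (.node (.leaf 102533075) (.leaf 0))))) (.node (.node (.node (.node (.leaf 20086784) (.leaf 162021376)) (.node (.leaf 56410112) (.leaf 0))) (.node (.node (.leaf 67420160) (.leaf 0)) (.node (.leaf 85614592) (.leaf 0)))) (.node (.node (.node (.leaf 19357696) (.leaf 151412736)) (.node (.leaf 124829696) (.leaf 0))) (.node (.node (.leaf 43204608) (.leaf 0)) (.node (.leaf 145662426) (.leaf 0))))))) (.node (.node (.node (.node (.node (.node (.leaf 3792896) (.leaf 156565504)) (.node (.leaf 95625216) (.leaf 0))) (.node (.node (.leaf 35939578) (.leaf 0)) (.node (.leaf 76062720) (.leaf 0)))) (.node (.node (.node (.leaf 29368320) (.leaf 160132514)) (.node (.leaf 61628416) (.leaf 0))) (.node (.node (.leaf 35495936) (.leaf 0)) (.node (.leaf 144941056) (.leaf 0))))) (.node (.node (.node (.node (.leaf 16818176) (.leaf 160997376)) (.node (.leaf 54722560) (.leaf 0))) (.node (.node (.leaf 64602112) (.leaf 0)) (.node (.leaf 83615744) (.leaf 0)))) (.node (.node (.node (.leaf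 17940480) (.leaf 164056184)) (.node (.leaf 75963185) (.leaf 0))) (.node (.node (.leaf 85663744) (.leaf 0)) (.node (.leaf 127757469) (.leaf 0)))))) (.node (.node (.node (.node (.node (.leaf 10346496) (.leaf 158834688)) (.node (.leaf 51404800) (.leaf 0))) (.node (.node (.leaf 58982400) (.leaf 0)) (.node (.leaf 83032494) (.leaf 0)))) (.node (.node (.node (.leaf 15097856) (.leaf 146526511)) (.node (.leaf 65069056) (.leaf 0))) (.node (.node (.leaf 80551936) (.leaf 0)) (.node (.leaf 97897153) (.leaf 0))))) (.node (.node (.node (.node (.leaf 23158784) (.leaf 162971648)) (.node (.leaf 109813760) (.leaf 0))) (.node (.node (.leaf 32473088) (.leaf 0)) (.node (.leaf 95088142) (.leaf 0)))) (.node (.node (.node (.leaf 47489024) (.leaf 156712960)) (.node (.leaf 126943232) (.leaf 0))) (.node (.node (.leaf 44834816) (.leaf 0)) (.node (.leaf 109175226) (.leaf 0)))))))) (.node (.node (.node (.node (.node (.node (.node (.leaf 2138112) (.leaf 108412928)) (.node (.leaf 47153152) (.leaf 0))) (.node (.node (.leaf 51863552) (.leaf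 0)) (.node (.leaf 129851392) (.leaf 0)))) (.node (.node (.node (.leaf 27803648) (.leaf 164208640)) (.node (.leaf 60710912) (.leaf 0))) (.node (.node (.leaf 73998336) (.leaf 0)) (.node (.leaf 144097280) (.leaf 0))))) (.node (.node (.node (.node (.leaf 15147008) (.leaf 118554624)) (.node (.leaf 103817216) (.leaf 0))) (.node (.node (.leaf 28786688) (.leaf 0)) (.node (.leaf 94599312) (.leaf 0)))) (.node (.node (.node (.leaf 26426299) (.leaf 144416768)) (.node (.leaf 121716736) (.leaf 0))) (.node (.node (.leaf 40910848) (.leaf 0)) (.node (.leaf 150478848) (.leaf 0)))))) (.node (.node (.node (.node (.node (.leaf 8708096) (.leaf 118295867)) (.node (.leaf 99237888) (.leaf 0))) (.node (.node (.leaf 57466880) (.leaf 0)) (.node (.leaf 125807822) (.leaf 0)))) (.node (.node (.node (.leaf 22472401) (.leaf 136560640)) (.node (.leaf 117456896) (.leaf 0))) (.node (.node (.leaf 79233024) (.leaf 0)) (.node (.leaf 94871552) (.leaf 0))))) (.node (.node (.node (.node (.leaf 21610496) (.leaf 124026880)) (.node (.leaf 57286656)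 (.leaf 0))) (.node (.node (.leaf 31735808) (.leaf 0)) (.node (.leaf 86622208) (.leaf 0)))) (.node (.node (.node (.leaf 20045824) (.leaf 153698304)) (.node (.leaf 86610195) (.leaf 0))) (.node (.node (.leaf 89513984) (.leaf 0)) (.node (.leaf 139436635) (.leaf 0))))))) (.node (.node (.node (.node (.node (.node (.leaf 5439488) (.leaf 157138944)) (.node (.leaf 48930816) (.leaf 0))) (.node (.node (.leaf 48965515) (.leaf 0)) (.node (.leaf 77078528) (.leaf 0)))) (.node (.node (.node (.leaf 12951552) (.leaf 133120000)) (.node (.leaf 115302400) (.leaf 0))) (.node (.node (.leaf 76660736) (.leaf 0)) (.node (.leaf 145735680) (.leaf 0))))) (.node (.node (.node (.node (.leaf 7544832) (.leaf 142125550)) (.node (.leaf 55615488) (.leaf 0))) (.node (.node (.leaf 42940061) (.leaf 0)) (.node (.leaf 84647936) (.leaf 0)))) (.node (.node (.node (.leaf 18644992) (.leaf 148889600)) (.node (.leaf 123805696) (.leaf 0))) (.node (.node (.leaf 74420285) (.leaf 0)) (.node (.leaf 151920640) (.leaf 0)))))) (.node (.node (.node (.node (.node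 (.leaf 11943936) (.leaf 159342592)) (.node (.leaf 101613568) (.leaf 0))) (.node (.node (.leaf 27303936) (.leaf 0)) (.node (.leaf 106564838) (.leaf 0)))) (.node (.node (.node (.leaf 37085184) (.leaf 164096737)) (.node (.leaf 66011136) (.leaf 0))) (.node (.node (.leaf 39419904) (.leaf 0)) (.node (.leaf 148963328) (.leaf 0))))) (.node (.node (.node (.node (.leaf 24748032) (.leaf 126844928)) (.node (.leaf 110682365) (.leaf 0))) (.node (.node (.leaf 33218560) (.leaf 0)) (.node (.leaf 130525259) (.leaf 0)))) (.node (.node (.node (.leaf 21471232) (.leaf 159981568)) (.node (.leaf 114889240) (.leaf 0))) (.node (.node (.leaf 45613056) (.leaf 0)) (.node (.leaf 154599424) (.leaf 0))))))))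

def e1T36 : NT := .node (.node (.node (.node (.node (.node (.node (.node (.leaf 475136) (.leaf 153356879)) (.node (.leaf 93233152) (.leaf 0))) (.node (.node (.leaf 44614226) (.leaf 168070311)) (.node (.leaf 74137600) (.leaf 0)))) (.node (.node (.node (.leaf 10936320) (.leaf 128360448)) (.node (.leaf 112033792) (.leaf 0))) (.node (.node (.leaf 72720384) (.leaf 0)) (.node (.leaf 89636864) (.leaf 0))))) (.node (.node (.node (.node (.leaf 13565952) (.leaf 117088256)) (.node (.leaf 102735872) (.leaf 0))) (.node (.node (.leaf 61874176) (.leaf 0)) (.node (.leaf 136265728) (.leaf 0)))) (.node (.node (.node (.leaf 38592512) (.leaf 142548992)) (.node (.leaf 66912256) (.leaf 0))) (.node (.node (.leaf 83247104) (.leaf 0)) (.node (.leaf 148907621) (.leaf 0)))))) (.node (.node (.node (.node (.node (.leaf 2826240) (.leaf 124622354)) (.node (.leaf 98000896) (.leaf 0))) (.node (.node (.leaf 25083904) (.leaf 0)) (.node (.leaf 132702208) (.leaf 0)))) (.node (.node (.node (.leaf 32522240) (.leaf 134832128)) (.node (.leaf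 63348736) (.leaf 0))) (.node (.node (.leaf 37093376) (.leaf 0)) (.node (.leaf 93798400) (.leaf 0))))) (.node (.node (.node (.node (.leaf 8241152) (.leaf 122535936)) (.node (.leaf 107511808) (.leaf 0))) (.node (.node (.leaf 67436544) (.leaf 0)) (.node (.leaf 135160397) (.leaf 0)))) (.node (.node (.node (.leaf 44539904) (.leaf 156763843)) (.node (.leaf 70492160) (.leaf 0))) (.node (.node (.leaf 88195072) (.leaf 0)) (.node (.leaf 102596608) (.leaf 0))))))) (.node (.node (.node (.node (.node (.node (.leaf 3809280) (.leaf 109723648)) (.node (.leaf 95641600) (.leaf 0))) (.node (.node (.leaf 23625728) (.leaf 0)) (.node (.leaf 130752512) (.leaf 0)))) (.node (.node (.node (.leaf 12279808) (.leaf 140144193)) (.node (.leaf 114163712) (.leaf 0))) (.node (.node (.leaf 75350016) (.leaf 0)) (.node (.leaf 91799552) (.leaf 0))))) (.node (.node (.node (.node (.leaf 16834560) (.leaf 119922688)) (.node (.leaf 105046016) (.leaf 0))) (.node (.node (.leaf 29523968) (.leaf 0)) (.node (.leaf 83623936) (.leaf 0)))) (.node (.node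 (.node (.leaf 41574400) (.leaf 146856815)) (.node (.leaf 122765312) (.leaf 0))) (.node (.node (.leaf 41648128) (.leaf 0)) (.node (.leaf 100245504) (.leaf 0)))))) (.node (.node (.node (.node (.node (.leaf 4177920) (.leaf 114524160)) (.node (.leaf 100392960) (.leaf 0))) (.node (.node (.leaf 58998784) (.leaf 0)) (.node (.leaf 134504448) (.leaf 0)))) (.node (.node (.node (.leaf 35553280) (.leaf 138338304)) (.node (.leaf 115352183) (.leaf 0))) (.node (.node (.leaf 38723584) (.leaf 0)) (.node (.leaf 148135936) (.leaf 0))))) (.node (.node (.node (.node (.leaf 9609216) (.leaf 149803282)) (.node (.leaf 109821952) (.leaf 0))) (.node (.node (.leaf 35204889) (.leaf 0)) (.node (.leaf 87588864) (.leaf 0)))) (.node (.node (.node (.leaf 20750336) (.leaf 159585854)) (.node (.leaf 126959616) (.leaf 0))) (.node (.node (.leaf 90677248) (.leaf 0)) (.node (.leaf 153960448) (.leaf 0)))))))) (.node (.node (.node (.node (.node (.node (.node (.leaf 835584) (.leaf 115569663)) (.node (.leaf 94429184) (.leaf 0))) (.node (.node (.leaf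 51879936) (.leaf 0)) (.node (.leaf 75104256) (.leaf 0)))) (.node (.node (.node (.leaf 11599872) (.leaf 137201823)) (.node (.leaf 82752185) (.leaf 0))) (.node (.node (.leaf 34750464) (.leaf 0)) (.node (.leaf 90693632) (.leaf 0))))) (.node (.node (.node (.node (.leaf 15163392) (.leaf 124866502)) (.node (.leaf 53911552) (.leaf 0))) (.node (.node (.leaf 63315968) (.leaf 0)) (.node (.leaf 137207808) (.leaf 0)))) (.node (.node (.node (.leaf 17227776) (.leaf 149132348)) (.node (.leaf 67706880) (.leaf 0))) (.node (.node (.leaf 84492288) (.leaf 0)) (.node (.leaf 99098624) (.leaf 0)))))) (.node (.node (.node (.node (.node (.leaf 8724480) (.leaf 139757964)) (.node (.leaf 99254272) (.leaf 0))) (.node (.node (.leaf 25837568) (.leaf 0)) (.node (.leaf 78807040) (.leaf 0)))) (.node (.node (.node (.leaf 14401536) (.leaf 136891873)) (.node (.leaf 117473280) (.leaf 0))) (.node (.node (.leaf 79249408) (.leaf 0)) (.node (.leaf 120227660) (.leaf 0))))) (.node (.node (.node (.node (.leaf 21626880) (.leaf 150851150)) (.node (.leaf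 75712442) (.leaf 0))) (.node (.node (.leaf 68771840) (.leaf 0)) (.node (.leaf 86630400) (.leaf 0)))) (.node (.node (.node (.leaf 46039040) (.leaf 153714688)) (.node (.leaf 71417856) (.leaf 0))) (.node (.node (.leaf 44040192) (.leaf 0)) (.node (.leaf 153214976) (.leaf 0))))))) (.node (.node (.node (.node (.node (.node (.leaf 2154496) (.leaf 157147136)) (.node (.leaf 48939008) (.leaf 0))) (.node (.node (.leaf 24330240) (.leaf 0)) (.node (.leaf 131801088) (.leaf 0)))) (.node (.node (.node (.leaf 30941184) (.leaf 161403289)) (.node (.leaf 62504960) (.leaf 0))) (.node (.node (.leaf 36315136) (.leaf 0)) (.node (.leaf 145752064) (.leaf 0))))) (.node (.node (.node (.node (.leaf 18472960) (.leaf 161456128)) (.node (.leaf 106332160) (.leaf 0))) (.node (.node (.leaf 66035712) (.leaf 0)) (.node (.leaf 138960896) (.leaf 0)))) (.node (.node (.node (.leaf 43032576) (.leaf 161005809)) (.node (.leaf 71972441) (.leaf 0))) (.node (.node (.leaf 42442752) (.leaf 0)) (.node (.leaf 101408768) (.leaf 0)))))) (.node (.node (.node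 (.node (.node (.leaf 4833280) (.leaf 115810304)) (.node (.leaf 52240384) (.leaf 0))) (.node (.node (.leaf 60473344) (.leaf 0)) (.node (.leaf 80650240) (.leaf 0)))) (.node (.node (.node (.leaf 37101568) (.leaf 166633472)) (.node (.leaf 66019328) (.leaf 0))) (.node (.node (.leaf 81879040) (.leaf 0)) (.node (.leaf 97034240) (.leaf 0))))) (.node (.node (.node (.node (.leaf 10272768) (.leaf 149402044)) (.node (.leaf 58908672) (.leaf 0))) (.node (.node (.leaf 71352320) (.leaf 0)) (.node (.leaf 142565376) (.leaf 0)))) (.node (.node (.node (.leaf 48988160) (.leaf 164397338)) (.node (.leaf 105328393) (.leaf 0))) (.node (.node (.leaf 91914240) (.leaf 0)) (.node (.leaf 135488486) (.leaf 0))))))))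

def e1T37 : NT := .node (.node (.node (.node (.node (.node (.node (.node (.leaf 491520) (.leaf 130782015)) (.node (.leaf 93249536) (.leaf 0))) (.node (.node (.leaf 50438144) (.leaf 167395328)) (.node (.leaf 103758130) (.leaf 0)))) (.node (.node (.node (.leaf 26271744) (.leaf 128368640)) (.node (.leaf 112050176) (.leaf 0))) (.node (.node (.leaf 72736768) (.leaf 0)) (.node (.leaf 143302656) (.leaf 0))))) (.node (.node (.node (.node (.leaf 13574144) (.leaf 117096448)) (.node (.leaf 102752256) (.leaf 0))) (.node (.node (.leaf 28057600) (.leaf 0)) (.node (.leaf 136273920) (.leaf 0)))) (.node (.node (.node (.leaf 16515072) (.leaf 146084759)) (.node (.leaf 120619008) (.leaf 0))) (.node (.node (.leaf 40157184) (.leaf 0)) (.node (.leaf 149749760) (.leaf 0)))))) (.node (.node (.node (.node (.node (.leaf 7094272) (.leaf 124883474)) (.node (.leaf 49750016) (.leaf 0))) (.node (.node (.leaf 36284850) (.leaf 0)) (.node (.leaf 77955072) (.leaf 0)))) (.node (.node (.node (.leaf 13664256) (.leaf 146098130)) (.node (.leaf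 116391936) (.leaf 0))) (.node (.node (.leaf 69898284) (.leaf 0)) (.node (.leaf 146628608) (.leaf 0))))) (.node (.node (.node (.node (.leaf 8249344) (.leaf 133337520)) (.node (.leaf 107528192) (.leaf 0))) (.node (.node (.leaf 30973952) (.leaf 0)) (.node (.leaf 139968512) (.leaf 0)))) (.node (.node (.node (.leaf 19365888) (.leaf 166650020)) (.node (.leaf 124854272) (.leaf 0))) (.node (.node (.leaf 43212800) (.leaf 0)) (.node (.leaf 152567808) (.leaf 0))))))) (.node (.node (.node (.node (.node (.node (.leaf 1499136) (.leaf 109731840)) (.node (.leaf 95649792) (.leaf 0))) (.node (.node (.leaf 53321728) (.leaf 0)) (.node (.leaf 130760704) (.leaf 0)))) (.node (.node (.node (.leaf 12288000) (.leaf 131620864)) (.node (.leaf 82155109) (.leaf 0))) (.node (.node (.leaf 75366400) (.leaf 0)) (.node (.leaf 120148895) (.leaf 0))))) (.node (.node (.node (.node (.leaf 6864896) (.leaf 119939072)) (.node (.leaf 105062400) (.leaf 0))) (.node (.node (.leaf 64618496) (.leaf 0)) (.node (.leaf 138067968) (.leaf 0)))) (.node (.node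 (.node (.leaf 41590784) (.leaf 149491517)) (.node (.leaf 122781696) (.leaf 0))) (.node (.node (.leaf 85671936) (.leaf 0)) (.node (.leaf 100253696) (.leaf 0)))))) (.node (.node (.node (.node (.node (.leaf 10371072) (.leaf 158851072)) (.node (.leaf 100401152) (.leaf 0))) (.node (.node (.leaf 26599424) (.leaf 0)) (.node (.leaf 79757312) (.leaf 0)))) (.node (.node (.node (.leaf 15114240) (.leaf 164751471)) (.node (.leaf 106745498) (.leaf 0))) (.node (.node (.leaf 80576512) (.leaf 0)) (.node (.leaf 96002048) (.leaf 0))))) (.node (.node (.node (.node (.leaf 23183360) (.leaf 141763120)) (.node (.leaf 58130432) (.leaf 0))) (.node (.node (.leaf 70049792) (.leaf 0)) (.node (.leaf 141697024) (.leaf 0)))) (.node (.node (.node (.leaf 47513600) (.leaf 156737536)) (.node (.leaf 72359936) (.leaf 0))) (.node (.node (.leaf 90685440) (.leaf 0)) (.node (.leaf 104833024) (.leaf 0)))))))) (.node (.node (.node (.node (.node (.node (.node (.leaf 2162688) (.leaf 155975680)) (.node (.leaf 94445568) (.leaf 0))) (.node (.node (.leaf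 51896320) (.leaf 0)) (.node (.leaf 129867776) (.leaf 0)))) (.node (.node (.node (.leaf 27828224) (.leaf 164216832)) (.node (.leaf 60735488) (.leaf 0))) (.node (.node (.leaf 74014720) (.leaf 0)) (.node (.leaf 99968829) (.leaf 0))))) (.node (.node (.node (.node (.leaf 6184960) (.leaf 160489472)) (.node (.leaf 79833868) (.leaf 0))) (.node (.node (.leaf 28803072) (.leaf 0)) (.node (.leaf 137216000) (.leaf 0)))) (.node (.node (.node (.leaf 40034304) (.leaf 144424960)) (.node (.leaf 121741312) (.leaf 0))) (.node (.node (.leaf 40919040) (.leaf 0)) (.node (.leaf 99106816) (.leaf 0)))))) (.node (.node (.node (.node (.node (.leaf 3497984) (.leaf 151274504)) (.node (.leaf 50585600) (.leaf 0))) (.node (.node (.leaf 32646272) (.leaf 0)) (.node (.leaf 133627904) (.leaf 0)))) (.node (.node (.node (.leaf 34062336) (.leaf 161162364)) (.node (.leaf 117489664) (.leaf 0))) (.node (.node (.leaf 37896192) (.leaf 0)) (.node (.leaf 147415040) (.leaf 0))))) (.node (.node (.node (.node (.leaf 8929280) (.leaf 155552977)) (.node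 (.leaf 93095301) (.leaf 0))) (.node (.node (.leaf 31744000) (.leaf 0)) (.node (.leaf 140853248) (.leaf 0)))) (.node (.node (.node (.leaf 46055424) (.leaf 167531922)) (.node (.leaf 102462403) (.leaf 0))) (.node (.node (.leaf 63010154) (.leaf 0)) (.node (.leaf 103612416) (.leaf 0))))))) (.node (.node (.node (.node (.node (.node (.leaf 5464064) (.leaf 110977024)) (.node (.leaf 96837632) (.leaf 0))) (.node (.node (.leaf 24346624) (.leaf 0)) (.node (.leaf 89736993) (.leaf 0)))) (.node (.node (.node (.leaf 12959744) (.leaf 151794328)) (.node (.leaf 115318784) (.leaf 0))) (.node (.node (.leaf 36323328) (.leaf 0)) (.node (.leaf 145760256) (.leaf 0))))) (.node (.node (.node (.node (.leaf 7553024) (.leaf 161464320)) (.node (.leaf 74660309) (.leaf 0))) (.node (.node (.leaf 66043904) (.leaf 0)) (.node (.leaf 84664320) (.leaf 0)))) (.node (.node (.node (.leaf 43048960) (.leaf 153969763)) (.node (.leaf 69574656) (.leaf 0))) (.node (.node (.leaf 86876160) (.leaf 0)) (.node (.leaf 101416960) (.leaf 0)))))) (.node (.node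 (.node (.node (.node (.leaf 11968512) (.leaf 159350784)) (.node (.leaf 59558577) (.leaf 0))) (.node (.node (.leaf 27312128) (.leaf 0)) (.node (.leaf 80658432) (.leaf 0)))) (.node (.node (.node (.leaf 15794176) (.leaf 163177433)) (.node (.leaf 119578624) (.leaf 0))) (.node (.node (.leaf 81895424) (.leaf 0)) (.node (.leaf 97050624) (.leaf 0))))) (.node (.node (.node (.node (.leaf 24772608) (.leaf 151442786)) (.node (.leaf 69177162) (.leaf 0))) (.node (.node (.leaf 71368704) (.leaf 0)) (.node (.leaf 142573568) (.leaf 0)))) (.node (.node (.node (.leaf 49004544) (.leaf 163417008)) (.node (.leaf 73269248) (.leaf 0))) (.node (.node (.leaf 90407928) (.leaf 0)) (.node (.leaf 106020864) (.leaf 0))))))))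

def e1T38 : NT := .node (.node (.node (.node (.node (.node (.node (.node (.leaf 188416) (.leaf 107274240)) (.node (.leaf 46424064) (.leaf 0))) (.node (.node (.leaf 50454528) (.leaf 168004912)) (.node (.leaf 128868352) (.leaf 0)))) (.node (.node (.node (.leaf 26288128) (.leaf 139024317)) (.node (.leaf 112066560) (.leaf 0))) (.node (.node (.leaf 56508978) (.leaf 0)) (.node (.leaf 89645056) (.leaf 0))))) (.node (.node (.node (.node (.leaf 13590528) (.leaf 136941673)) (.node (.leaf 53084160) (.leaf 0))) (.node (.node (.leaf 61890560) (.leaf 0)) (.node (.leaf 81649664) (.leaf 0)))) (.node (.node (.node (.leaf 38608896) (.leaf 142581760)) (.node (.leaf 66928640) (.leaf 0))) (.node (.node (.leaf 83263488) (.leaf 0)) (.node (.leaf 98041856) (.leaf 0)))))) (.node (.node (.node (.node (.node (.leaf 7110656) (.leaf 136101982)) (.node (.leaf 49766400) (.leaf 0))) (.node (.node (.leaf 56082432) (.leaf 0)) (.node (.leaf 127482568) (.leaf 0)))) (.node (.node (.node (.leaf 13672448) (.leaf 148578443)) (.node (.leaf 63356928)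 (.leaf 0))) (.node (.node (.leaf 78004224) (.leaf 0)) (.node (.leaf 93814784) (.leaf 0))))) (.node (.node (.node (.node (.leaf 20119552) (.leaf 122560512)) (.node (.leaf 56426496) (.leaf 0))) (.node (.node (.leaf 67461120) (.leaf 0)) (.node (.leaf 85630976) (.leaf 0)))) (.node (.node (.node (.leaf 44564480) (.leaf 158204427)) (.node (.leaf 75479884) (.leaf 0))) (.node (.node (.leaf 88211456) (.leaf 0)) (.node (.leaf 102604800) (.leaf 0))))))) (.node (.node (.node (.node (.node (.node (.leaf 3833856) (.leaf 144071422)) (.node (.leaf 48103424) (.leaf 0))) (.node (.node (.leaf 23633920) (.leaf 0)) (.node (.leaf 76087296) (.leaf 0)))) (.node (.node (.node (.leaf 29401088) (.leaf 161016525)) (.node (.leaf 66652125) (.leaf 0))) (.node (.node (.leaf 35520512) (.leaf 0)) (.node (.leaf 144949248) (.leaf 0))))) (.node (.node (.node (.node (.leaf 16859136) (.leaf 123126054)) (.node (.leaf 54755328) (.leaf 0))) (.node (.node (.leaf 64634880) (.leaf 0)) (.node (.leaf 114963139) (.leaf 0)))) (.node (.node (.node (.leaf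 17956864) (.leaf 146677760)) (.node (.leaf 68665344) (.leaf 0))) (.node (.node (.leaf 41672704) (.leaf 0)) (.node (.leaf 100270080) (.leaf 0)))))) (.node (.node (.node (.node (.node (.leaf 10387456) (.leaf 135692932)) (.node (.leaf 51421184) (.leaf 0))) (.node (.node (.leaf 59023360) (.leaf 0)) (.node (.leaf 80272514) (.leaf 0)))) (.node (.node (.node (.leaf 28467288) (.leaf 143347110)) (.node (.leaf 100943912) (.leaf 0))) (.node (.node (.leaf 80592896) (.leaf 0)) (.node (.leaf 127037878) (.leaf 0))))) (.node (.node (.node (.node (.leaf 9625600) (.leaf 125403136)) (.node (.leaf 108820701) (.leaf 0))) (.node (.node (.leaf 32489472) (.leaf 0)) (.node (.leaf 126563626) (.leaf 0)))) (.node (.node (.node (.leaf 20758528) (.leaf 166966628)) (.node (.leaf 126976000) (.leaf 0))) (.node (.node (.leaf 44851200) (.leaf 0)) (.node (.leaf 104857600) (.leaf 0)))))))) (.node (.node (.node (.node (.node (.node (.node (.leaf 2179072) (.leaf 108445696)) (.node (.leaf 94453760) (.leaf 0))) (.node (.node (.leaf 22929408)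 (.leaf 0)) (.node (.leaf 119093664) (.leaf 0)))) (.node (.node (.node (.leaf 27844608) (.leaf 129966080)) (.node (.leaf 113147904) (.leaf 0))) (.node (.node (.leaf 34766848) (.leaf 0)) (.node (.leaf 144121856) (.leaf 0))))) (.node (.node (.node (.node (.leaf 15187968) (.leaf 118579200)) (.node (.leaf 103841792) (.leaf 0))) (.node (.node (.leaf 41980817) (.leaf 0)) (.node (.leaf 82599936) (.leaf 0)))) (.node (.node (.node (.leaf 17235968) (.leaf 164590652)) (.node (.leaf 91096904) (.leaf 0))) (.node (.node (.leaf 84516864) (.leaf 0)) (.node (.leaf 150487040) (.leaf 0)))))) (.node (.node (.node (.node (.node (.leaf 8749056) (.leaf 113360896)) (.node (.leaf 99278848) (.leaf 0))) (.node (.node (.leaf 57499648) (.leaf 0)) (.node (.leaf 133644288) (.leaf 0)))) (.node (.node (.node (.leaf 14409728) (.leaf 136593408)) (.node (.leaf 117497856) (.leaf 0))) (.node (.node (.leaf 79273984) (.leaf 0)) (.node (.leaf 144845489) (.leaf 0))))) (.node (.node (.node (.node (.leaf 21643264) (.leaf 154291049)) (.node (.leaf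 57303040) (.leaf 0))) (.node (.node (.leaf 68788224) (.leaf 0)) (.node (.leaf 126577060) (.leaf 0)))) (.node (.node (.node (.leaf 20062208) (.leaf 164938250)) (.node (.leaf 71434240) (.leaf 0))) (.node (.node (.leaf 89530368) (.leaf 0)) (.node (.leaf 153231360) (.leaf 0))))))) (.node (.node (.node (.node (.node (.node (.leaf 5480448) (.leaf 116619459)) (.node (.leaf 96854016) (.leaf 0))) (.node (.node (.leaf 54714368) (.leaf 0)) (.node (.leaf 77103104) (.leaf 0)))) (.node (.node (.node (.leaf 30965760) (.leaf 165167104)) (.node (.leaf 115335168) (.leaf 0))) (.node (.node (.leaf 76685312) (.leaf 0)) (.node (.leaf 92815360) (.leaf 0))))) (.node (.node (.node (.node (.leaf 18497536) (.leaf 152253838)) (.node (.leaf 106348544) (.leaf 0))) (.node (.node (.leaf 66060288) (.leaf 0)) (.node (.leaf 138977280) (.leaf 0)))) (.node (.node (.node (.leaf 18661376) (.leaf 164996914)) (.node (.leaf 123830272) (.leaf 0))) (.node (.node (.leaf 42450944) (.leaf 0)) (.node (.leaf 142000402) (.leaf 0)))))) (.node (.node (.node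 (.node (.node (.leaf 11984896) (.leaf 115818496)) (.node (.leaf 61760081) (.leaf 0))) (.node (.node (.leaf 60497920) (.leaf 0)) (.node (.leaf 80666624) (.leaf 0)))) (.node (.node (.node (.leaf 37117952) (.leaf 140509184)) (.node (.leaf 66027520) (.leaf 0))) (.node (.node (.leaf 39436288) (.leaf 0)) (.node (.leaf 148979712) (.leaf 0))))) (.node (.node (.node (.node (.leaf 24788992) (.leaf 126869504)) (.node (.leaf 106973977) (.leaf 0))) (.node (.node (.leaf 33234944) (.leaf 0)) (.node (.leaf 114298427) (.leaf 0)))) (.node (.node (.node (.leaf 21487616) (.leaf 168037363)) (.node (.leaf 127934464) (.leaf 0))) (.node (.node (.leaf 45629440) (.leaf 0)) (.node (.leaf 106029056) (.leaf 0))))))))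

def e1T39 : NT := .node (.node (.node (.node (.node (.node (.node (.node (.leaf 516096) (.leaf 155262976)) (.node (.leaf 93274112) (.leaf 0))) (.node (.node (.leaf 22192128) (.leaf 167969999)) (.node (.leaf 74170368) (.leaf 0)))) (.node (.node (.node (.leaf 10952704) (.leaf 163617709)) (.node (.leaf 59842560) (.leaf 0))) (.node (.node (.leaf 34021376) (.leaf 0)) (.node (.leaf 89661440) (.leaf 0))))) (.node (.node (.node (.node (.leaf 5529600) (.leaf 159834112)) (.node (.leaf 102776832) (.leaf 0))) (.node (.node (.leaf 60860598) (.leaf 0)) (.node (.leaf 136290304) (.leaf 0)))) (.node (.node (.node (.leaf 16523264) (.leaf 142589952)) (.node (.leaf 77134782) (.leaf 0))) (.node (.node (.leaf 40165376) (.leaf 0)) (.node (.leaf 149766144) (.leaf 0)))))) (.node (.node (.node (.node (.node (.leaf 2842624) (.leaf 112238592)) (.node (.leaf 50476291) (.leaf 0))) (.node (.node (.leaf 25100288) (.leaf 0)) (.node (.leaf 77971456) (.leaf 0)))) (.node (.node (.node (.leaf 32555008) (.leaf 134856704)) (.node (.leaf 116408320)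 (.leaf 0))) (.node (.node (.leaf 37109760) (.leaf 0)) (.node (.leaf 93831168) (.leaf 0))))) (.node (.node (.node (.node (.leaf 8257536) (.leaf 147370814)) (.node (.leaf 98777806) (.leaf 0))) (.node (.node (.leaf 67477504) (.leaf 0)) (.node (.leaf 139984896) (.leaf 0)))) (.node (.node (.node (.leaf 44580864) (.leaf 167747584)) (.node (.leaf 70516736) (.leaf 0))) (.node (.node (.leaf 88227840) (.leaf 0)) (.node (.leaf 152584192) (.leaf 0))))))) (.node (.node (.node (.node (.node (.node (.leaf 3850240) (.leaf 133309215)) (.node (.leaf 95666176) (.leaf 0))) (.node (.node (.leaf 53346304) (.leaf 0)) (.node (.leaf 105912878) (.leaf 0)))) (.node (.node (.node (.leaf 12296192) (.leaf 164806656)) (.node (.leaf 61661184) (.leaf 0))) (.node (.node (.leaf 35758945) (.leaf 0)) (.node (.leaf 91815936) (.leaf 0))))) (.node (.node (.node (.node (.leaf 16875520) (.leaf 119955456)) (.node (.leaf 105086976) (.leaf 0))) (.node (.node (.leaf 29540352) (.leaf 0)) (.node (.leaf 138084352) (.leaf 0)))) (.node (.node (.node (.leaf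 41615360) (.leaf 146685952)) (.node (.leaf 122798080) (.leaf 0))) (.node (.node (.leaf 85696512) (.leaf 0)) (.node (.leaf 133367244) (.leaf 0)))))) (.node (.node (.node (.node (.node (.leaf 4194304) (.leaf 114573312)) (.node (.leaf 51437568) (.leaf 0))) (.node (.node (.leaf 59039744) (.leaf 0)) (.node (.leaf 134529024) (.leaf 0)))) (.node (.node (.node (.leaf 15130624) (.leaf 140221084)) (.node (.leaf 65093632) (.leaf 0))) (.node (.node (.leaf 38739968) (.leaf 0)) (.node (.leaf 108157998) (.leaf 0))))) (.node (.node (.node (.node (.leaf 23207936) (.leaf 125419520)) (.node (.leaf 109854720) (.leaf 0))) (.node (.node (.leaf 70066176) (.leaf 0)) (.node (.leaf 87605248) (.leaf 0)))) (.node (.node (.node (.leaf 38100123) (.leaf 161270130)) (.node (.leaf 72368128) (.leaf 0))) (.node (.node (.leaf 90710016) (.leaf 0)) (.node (.leaf 104865792) (.leaf 0)))))))) (.node (.node (.node (.node (.node (.node (.node (.leaf 851968) (.leaf 155992064)) (.node (.leaf 70176077) (.leaf 0))) (.node (.node (.leaf 51920896) (.leaf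 0)) (.node (.leaf 129884160) (.leaf 0)))) (.node (.node (.node (.leaf 11616256) (.leaf 130549442)) (.node (.leaf 86053199) (.leaf 0))) (.node (.node (.leaf 74039296) (.leaf 0)) (.node (.leaf 144130048) (.leaf 0))))) (.node (.node (.node (.node (.leaf 6193152) (.leaf 160505856)) (.node (.leaf 56981051) (.leaf 0))) (.node (.node (.leaf 63340544) (.leaf 0)) (.node (.leaf 115027447) (.leaf 0)))) (.node (.node (.node (.leaf 40058880) (.leaf 144449536)) (.node (.leaf 67731456) (.leaf 0))) (.node (.node (.leaf 84533248) (.leaf 0)) (.node (.leaf 102560766) (.leaf 0)))))) (.node (.node (.node (.node (.node (.leaf 8765440) (.leaf 158220288)) (.node (.leaf 99295232) (.leaf 0))) (.node (.node (.leaf 25853952) (.leaf 0)) (.node (.leaf 78823424) (.leaf 0)))) (.node (.node (.node (.leaf 34086912) (.leaf 160059534)) (.node (.leaf 64192512) (.leaf 0))) (.node (.node (.leaf 79290368) (.leaf 0)) (.node (.leaf 94904320) (.leaf 0))))) (.node (.node (.node (.node (.leaf 8937472) (.leaf 124076032)) (.node (.leaf 66570349) (.leaf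 0))) (.node (.node (.leaf 68804608) (.leaf 0)) (.node (.leaf 86654976) (.leaf 0)))) (.node (.node (.node (.leaf 46080000) (.leaf 153731072)) (.node (.leaf 71442432) (.leaf 0))) (.node (.node (.leaf 89538560) (.leaf 0)) (.node (.leaf 103620608) (.leaf 0))))))) (.node (.node (.node (.node (.node (.node (.leaf 2170880) (.leaf 131264738)) (.node (.leaf 48955392) (.leaf 0))) (.node (.node (.leaf 24363008) (.leaf 0)) (.node (.leaf 131825664) (.leaf 0)))) (.node (.node (.node (.leaf 12976128) (.leaf 165175296)) (.node (.leaf 71631390) (.leaf 0))) (.node (.node (.leaf 76701696) (.leaf 0)) (.node (.leaf 92831744) (.leaf 0))))) (.node (.node (.node (.node (.leaf 18513920) (.leaf 121257984)) (.node (.leaf 55648256) (.leaf 0))) (.node (.node (.leaf 30269440) (.leaf 0)) (.node (.leaf 84680704) (.leaf 0)))) (.node (.node (.node (.leaf 43073536) (.leaf 148914176)) (.node (.leaf 119779841) (.leaf 0))) (.node (.node (.leaf 86900736) (.leaf 0)) (.node (.leaf 101433344) (.leaf 0)))))) (.node (.node (.node (.node (.node (.leaf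 4849664) (.leaf 144270220)) (.node (.leaf 52256768) (.leaf 0))) (.node (.node (.leaf 27320320) (.leaf 0)) (.node (.leaf 135479296) (.leaf 0)))) (.node (.node (.node (.leaf 37134336) (.leaf 140517376)) (.node (.leaf 119595008) (.leaf 0))) (.node (.node (.leaf 81911808) (.leaf 0)) (.node (.leaf 148987904) (.leaf 0))))) (.node (.node (.node (.node (.leaf 10289152) (.leaf 141341236)) (.node (.leaf 110985216) (.leaf 0))) (.node (.node (.leaf 42121200) (.leaf 0)) (.node (.leaf 142598144) (.leaf 0)))) (.node (.node (.node (.leaf 49029120) (.leaf 160079872)) (.node (.leaf 73285632) (.leaf 0))) (.node (.node (.leaf 91938816) (.leaf 0)) (.node (.leaf 151554130) (.leaf 0))))))))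

def e1T40 : NT := .node (.node (.node (.node (.node (.node (.node (.node (.leaf 532480) (.leaf 151759740)) (.node (.leaf 46432256) (.leaf 0))) (.node (.node (.leaf 50479104) (.leaf 0)) (.node (.leaf 128884736) (.leaf 0)))) (.node (.node (.node (.leaf 26312704) (.leaf 156705190)) (.node (.leaf 93354410) (.leaf 0))) (.node (.node (.leaf 49546961) (.leaf 0)) (.node (.leaf 119983734) (.leaf 0))))) (.node (.node (.node (.node (.leaf 13615104) (.leaf 127012250)) (.node (.leaf 53092352) (.leaf 0))) (.node (.node (.leaf 61915136) (.leaf 0)) (.node (.leaf 81674240) (.leaf 0)))) (.node (.node (.node (.leaf 38633472) (.leaf 166985728)) (.node (.leaf 66936832) (.leaf 0))) (.node (.node (.leaf 83288064) (.leaf 0)) (.node (.leaf 98050048) (.leaf 0)))))) (.node (.node (.node (.node (.node (.leaf 7135232) (.leaf 153503617)) (.node (.leaf 87358269) (.leaf 0))) (.node (.node (.leaf 56107008) (.leaf 0)) (.node (.leaf 77979648) (.leaf 0)))) (.node (.node (.node (.leaf 28141896) (.leaf 138959441)) (.node (.leaf 63373312)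 (.leaf 0))) (.node (.node (.leaf 78028800) (.leaf 0)) (.node (.leaf 129397669) (.leaf 0))))) (.node (.node (.node (.node (.leaf 20144128) (.leaf 122576896)) (.node (.leaf 56434688) (.leaf 0))) (.node (.node (.leaf 30990336) (.leaf 0)) (.node (.leaf 140001280) (.leaf 0)))) (.node (.node (.node (.leaf 19382272) (.leaf 151486464)) (.node (.leaf 124870656) (.leaf 0))) (.node (.node (.leaf 43229184) (.leaf 0)) (.node (.leaf 102612992) (.leaf 0))))))) (.node (.node (.node (.node (.node (.node (.leaf 1515520) (.leaf 156606464)) (.node (.leaf 95674368) (.leaf 0))) (.node (.node (.leaf 26095406) (.leaf 0)) (.node (.leaf 76111872) (.leaf 0)))) (.node (.node (.node (.leaf 29417472) (.leaf 143110809)) (.node (.leaf 114196480) (.leaf 0))) (.node (.node (.leaf 60974231) (.leaf 0)) (.node (.leaf 93272981) (.leaf 0))))) (.node (.node (.node (.node (.leaf 6881280) (.leaf 131866950)) (.node (.leaf 105103360) (.leaf 0))) (.node (.node (.leaf 64651264) (.leaf 0)) (.node (.leaf 83648512) (.leaf 0)))) (.node (.node (.node (.leaf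 17965056) (.leaf 146726912)) (.node (.leaf 68673536) (.leaf 0))) (.node (.node (.leaf 58248876) (.leaf 0)) (.node (.leaf 151216128) (.leaf 0)))))) (.node (.node (.node (.node (.node (.leaf 10412032) (.leaf 123343615)) (.node (.leaf 73968112) (.leaf 0))) (.node (.node (.leaf 26615808) (.leaf 0)) (.node (.leaf 117999739) (.leaf 0)))) (.node (.node (.node (.leaf 35594240) (.leaf 138428416)) (.node (.leaf 118603776) (.leaf 0))) (.node (.node (.leaf 66951606) (.leaf 0)) (.node (.leaf 96018432) (.leaf 0))))) (.node (.node (.node (.node (.leaf 9633792) (.leaf 125435904)) (.node (.leaf 58146816) (.leaf 0))) (.node (.node (.leaf 32497664) (.leaf 0)) (.node (.leaf 93413478) (.leaf 0)))) (.node (.node (.node (.leaf 20766720) (.leaf 156778496)) (.node (.leaf 126004907) (.leaf 0))) (.node (.node (.leaf 44867584) (.leaf 0)) (.node (.leaf 104873984) (.leaf 0)))))))) (.node (.node (.node (.node (.node (.node (.node (.leaf 2203648) (.leaf 109318470)) (.node (.leaf 94478336) (.leaf 0))) (.node (.node (.leaf 51937280) (.leaf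 0)) (.node (.leaf 75128832) (.leaf 0)))) (.node (.node (.node (.leaf 27869184) (.leaf 129998848)) (.node (.leaf 65135367) (.leaf 0))) (.node (.node (.leaf 74055680) (.leaf 0)) (.node (.leaf 90718208) (.leaf 0))))) (.node (.node (.node (.node (.leaf 15212544) (.leaf 139161032)) (.node (.leaf 53944320) (.leaf 0))) (.node (.node (.leaf 28819456) (.leaf 0)) (.node (.leaf 82616320) (.leaf 0)))) (.node (.node (.node (.leaf 40075264) (.leaf 144482304)) (.node (.leaf 121765888) (.leaf 0))) (.node (.node (.leaf 40935424) (.leaf 0)) (.node (.leaf 150503424) (.leaf 0)))))) (.node (.node (.node (.node (.node (.leaf 8781824) (.leaf 138901298)) (.node (.leaf 50601984) (.leaf 0))) (.node (.node (.leaf 57524224) (.leaf 0)) (.node (.leaf 133660672) (.leaf 0)))) (.node (.node (.node (.leaf 34103296) (.leaf 136601600)) (.node (.leaf 117514240) (.leaf 0))) (.node (.node (.leaf 37912576) (.leaf 0)) (.node (.leaf 141358069) (.leaf 0))))) (.node (.node (.node (.node (.leaf 21667840) (.leaf 124915058)) (.node (.leaf 57311232)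 (.leaf 0))) (.node (.node (.leaf 31760384) (.leaf 0)) (.node (.leaf 86663168) (.leaf 0)))) (.node (.node (.node (.leaf 46088192) (.leaf 153763840)) (.node (.leaf 125935616) (.leaf 0))) (.node (.node (.leaf 44081152) (.leaf 0)) (.node (.leaf 153239552) (.leaf 0))))))) (.node (.node (.node (.node (.node (.node (.leaf 5505024) (.leaf 116265168)) (.node (.leaf 96862208) (.leaf 0))) (.node (.node (.leaf 54730752) (.leaf 0)) (.node (.leaf 77111296) (.leaf 0)))) (.node (.node (.node (.leaf 30982144) (.leaf 133234688)) (.node (.leaf 115359744) (.leaf 0))) (.node (.node (.leaf 36339712) (.leaf 0)) (.node (.leaf 132268853) (.leaf 0))))) (.node (.node (.node (.node (.leaf 7569408) (.leaf 159687202)) (.node (.leaf 106364928) (.leaf 0))) (.node (.node (.leaf 59012195) (.leaf 0)) (.node (.leaf 138993664) (.leaf 0)))) (.node (.node (.node (.leaf 43089920) (.leaf 148922368)) (.node (.leaf 69591040) (.leaf 0))) (.node (.node (.leaf 86917120) (.leaf 0)) (.node (.leaf 101441536) (.leaf 0)))))) (.node (.node (.node (.node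 (.node (.leaf 12009472) (.leaf 136590114)) (.node (.leaf 58196241) (.leaf 0))) (.node (.node (.leaf 60522496) (.leaf 0)) (.node (.leaf 135495680) (.leaf 0)))) (.node (.node (.node (.leaf 15810560) (.leaf 144543137)) (.node (.leaf 119611392) (.leaf 0))) (.node (.node (.leaf 81928192) (.leaf 0)) (.node (.leaf 97067008) (.leaf 0))))) (.node (.node (.node (.node (.leaf 24813568) (.leaf 156264605)) (.node (.leaf 98727019) (.leaf 0))) (.node (.node (.leaf 71401472) (.leaf 0)) (.node (.leaf 101048541) (.leaf 0)))) (.node (.node (.node (.leaf 49045504) (.leaf 165043373)) (.node (.leaf 125945010) (.leaf 0))) (.node (.node (.leaf 80810683) (.leaf 0)) (.node (.leaf 106061824) (.leaf 0))))))))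

def e1T41 : NT := .node (.node (.node (.node (.node (.node (.node (.node (.leaf 204800) (.leaf 113721919)) (.node (.leaf 49697362) (.leaf 0))) (.node (.node (.leaf 22200320) (.leaf 0)) (.node (.leaf 74186752) (.leaf 0)))) (.node (.node (.node (.leaf 26329088) (.leaf 128417792)) (.node (.leaf 112091136) (.leaf 0))) (.node (.node (.leaf 34037760) (.leaf 0)) (.node (.leaf 89669632) (.leaf 0))))) (.node (.node (.node (.node (.leaf 5537792) (.leaf 159858688)) (.node (.leaf 102793216) (.leaf 0))) (.node (.node (.leaf 28082176) (.leaf 0)) (.node (.leaf 136306688) (.leaf 0)))) (.node (.node (.node (.leaf 38649856) (.leaf 142622720)) (.node (.leaf 120651776) (.leaf 0))) (.node (.node (.leaf 73240372) (.leaf 0)) (.node (.leaf 137454530) (.leaf 0)))))) (.node (.node (.node (.node (.node (.leaf 7151616) (.leaf 137016294)) (.node (.leaf 98033664) (.leaf 0))) (.node (.node (.leaf 25108480) (.leaf 0)) (.node (.leaf 132734976) (.leaf 0)))) (.node (.node (.node (.leaf 32563200) (.leaf 151285103)) (.node (.leaf 88418759)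 (.leaf 0))) (.node (.node (.leaf 78036992) (.leaf 0)) (.node (.leaf 146669568) (.leaf 0))))) (.node (.node (.node (.node (.leaf 20160512) (.leaf 122593280)) (.node (.leaf 107371552) (.leaf 0))) (.node (.node (.leaf 67502080) (.leaf 0)) (.node (.leaf 140009472) (.leaf 0)))) (.node (.node (.node (.leaf 44605440) (.leaf 165659059)) (.node (.leaf 106341334) (.leaf 0))) (.node (.node (.leaf 88244224) (.leaf 0)) (.node (.leaf 152600576) (.leaf 0))))))) (.node (.node (.node (.node (.node (.node (.leaf 3874816) (.leaf 109772800)) (.node (.leaf 48119808) (.leaf 0))) (.node (.node (.leaf 23650304) (.leaf 0)) (.node (.leaf 130785280) (.leaf 0)))) (.node (.node (.node (.leaf 12304384) (.leaf 131670016)) (.node (.leaf 114212864) (.leaf 0))) (.node (.node (.leaf 35536896) (.leaf 0)) (.node (.leaf 136368552) (.leaf 0))))) (.node (.node (.node (.node (.leaf 16891904) (.leaf 149698241)) (.node (.leaf 105119744) (.leaf 0))) (.node (.node (.leaf 64667648) (.leaf 0)) (.node (.leaf 98490774) (.leaf 0)))) (.node (.node (.node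 (.leaf 41639936) (.leaf 146751488)) (.node (.leaf 122806272) (.leaf 0))) (.node (.node (.leaf 41697280) (.leaf 0)) (.node (.leaf 132314948) (.leaf 0)))))) (.node (.node (.node (.node (.node (.leaf 10428416) (.leaf 143885784)) (.node (.leaf 51453952) (.leaf 0))) (.node (.node (.leaf 46201482) (.leaf 0)) (.node (.leaf 79781888) (.leaf 0)))) (.node (.node (.node (.leaf 15138816) (.leaf 161044728)) (.node (.leaf 100150814) (.leaf 0))) (.node (.node (.leaf 38748160) (.leaf 0)) (.node (.leaf 96043008) (.leaf 0))))) (.node (.node (.node (.node (.leaf 23232512) (.leaf 125444096)) (.node (.leaf 100688017) (.leaf 0))) (.node (.node (.leaf 70090752) (.leaf 0)) (.node (.leaf 115680570) (.leaf 0)))) (.node (.node (.node (.leaf 47554560) (.leaf 159576265)) (.node (.leaf 127000576) (.leaf 0))) (.node (.node (.leaf 90734592) (.leaf 0)) (.node (.leaf 153993216) (.leaf 0)))))))) (.node (.node (.node (.node (.node (.node (.node (.leaf 860160) (.leaf 136539455)) (.node (.leaf 47210496) (.leaf 0))) (.node (.node (.leaf 38704464)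 (.leaf 0)) (.node (.leaf 129892352) (.leaf 0)))) (.node (.node (.node (.leaf 27885568) (.leaf 164241408)) (.node (.leaf 60776448) (.leaf 0))) (.node (.node (.leaf 34783232) (.leaf 0)) (.node (.leaf 90726400) (.leaf 0))))) (.node (.node (.node (.node (.leaf 15228928) (.leaf 118620160)) (.node (.leaf 88561614) (.leaf 0))) (.node (.node (.leaf 63365120) (.leaf 0)) (.node (.leaf 136189073) (.leaf 0)))) (.node (.node (.node (.leaf 17252352) (.leaf 156178600)) (.node (.leaf 121782272) (.leaf 0))) (.node (.node (.leaf 84549632) (.leaf 0)) (.node (.leaf 99131392) (.leaf 0)))))) (.node (.node (.node (.node (.node (.leaf 3522560) (.leaf 113393664)) (.node (.leaf 99311616) (.leaf 0))) (.node (.node (.leaf 25862144) (.leaf 0)) (.node (.leaf 93525181) (.leaf 0)))) (.node (.node (.node (.leaf 14426112) (.leaf 159822294)) (.node (.leaf 64208896) (.leaf 0))) (.node (.node (.leaf 79314944) (.leaf 0)) (.node (.leaf 94920704) (.leaf 0))))) (.node (.node (.node (.node (.leaf 21684224) (.leaf 146799596)) (.node (.leaf 108797952)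 (.leaf 0))) (.node (.node (.leaf 68829184) (.leaf 0)) (.node (.leaf 95836791) (.leaf 0)))) (.node (.node (.node (.leaf 46104576) (.leaf 153780224)) (.node (.leaf 71475200) (.leaf 0))) (.node (.node (.leaf 89563136) (.leaf 0)) (.node (.leaf 153255936) (.leaf 0))))))) (.node (.node (.node (.node (.node (.node (.leaf 5521408) (.leaf 157163520)) (.node (.leaf 96870400) (.leaf 0))) (.node (.node (.leaf 24371200) (.leaf 0)) (.node (.leaf 129039396) (.leaf 0)))) (.node (.node (.node (.leaf 12984320) (.leaf 136320340)) (.node (.leaf 66447425) (.leaf 0))) (.node (.node (.leaf 76718080) (.leaf 0)) (.node (.leaf 145768448) (.leaf 0))))) (.node (.node (.node (.node (.leaf 18538496) (.leaf 134824626)) (.node (.leaf 106381312) (.leaf 0))) (.node (.node (.leaf 66084864) (.leaf 0)) (.node (.leaf 139001856) (.leaf 0)))) (.node (.node (.node (.leaf 18677760) (.leaf 163925657)) (.node (.leaf 117290440) (.leaf 0))) (.node (.node (.leaf 42467328) (.leaf 0)) (.node (.leaf 101449728) (.leaf 0)))))) (.node (.node (.node (.node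 (.node (.leaf 12025856) (.leaf 129595690)) (.node (.leaf 101654528) (.leaf 0))) (.node (.node (.leaf 46555825) (.leaf 0)) (.node (.leaf 80683008) (.leaf 0)))) (.node (.node (.node (.leaf 37158912) (.leaf 146478417)) (.node (.leaf 66052096) (.leaf 0))) (.node (.node (.leaf 39452672) (.leaf 0)) (.node (.leaf 97075200) (.leaf 0))))) (.node (.node (.node (.node (.leaf 10297344) (.leaf 126894080)) (.node (.leaf 58941440) (.leaf 0))) (.node (.node (.leaf 33251328) (.leaf 0)) (.node (.leaf 88686592) (.leaf 0)))) (.node (.node (.node (.leaf 21504000) (.leaf 160169984)) (.node (.leaf 73310208) (.leaf 0))) (.node (.node (.leaf 91955200) (.leaf 0)) (.node (.leaf 149788942) (.leaf 0))))))))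

def e1T42 : NT := .node (.node (.node (.node (.node (.node (.node (.node (.leaf 557056) (.leaf 134874088)) (.node (.leaf 93298688) (.leaf 0))) (.node (.node (.leaf 50495488) (.leaf 0)) (.node (.leaf 128901120) (.leaf 0)))) (.node (.node (.node (.leaf 26345472) (.leaf 128434176)) (.node (.leaf 59858944) (.leaf 0))) (.node (.node (.leaf 69995591) (.leaf 0)) (.node (.leaf 143327232) (.leaf 0))))) (.node (.node (.node (.node (.leaf 13639680) (.leaf 117129216)) (.node (.leaf 53100544) (.leaf 0))) (.node (.node (.leaf 61931520) (.leaf 0)) (.node (.leaf 136323072) (.leaf 0)))) (.node (.node (.node (.leaf 38666240) (.leaf 160799850)) (.node (.leaf 120668160) (.leaf 0))) (.node (.node (.leaf 66422385) (.leaf 0)) (.node (.leaf 149790720) (.leaf 0)))))) (.node (.node (.node (.node (.node (.leaf 2859008) (.leaf 116494409)) (.node (.leaf 49807360) (.leaf 0))) (.node (.node (.leaf 31783034) (.leaf 0)) (.node (.leaf 77987840) (.leaf 0)))) (.node (.node (.node (.leaf 13697024) (.leaf 160257750)) (.node (.leaf 116441088)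 (.leaf 0))) (.node (.node (.leaf 37126144) (.leaf 0)) (.node (.leaf 106526206) (.leaf 0))))) (.node (.node (.node (.node (.leaf 8273920) (.leaf 156682133)) (.node (.leaf 107560960) (.leaf 0))) (.node (.node (.leaf 30998528) (.leaf 0)) (.node (.leaf 140017664) (.leaf 0)))) (.node (.node (.node (.leaf 44621824) (.leaf 162870490)) (.node (.leaf 70533120) (.leaf 0))) (.node (.node (.leaf 88252416) (.leaf 0)) (.node (.leaf 102621184) (.leaf 0))))))) (.node (.node (.node (.node (.node (.node (.leaf 1523712) (.leaf 156622848)) (.node (.leaf 94193321) (.leaf 0))) (.node (.node (.leaf 27293659) (.leaf 0)) (.node (.leaf 130793472) (.leaf 0)))) (.node (.node (.node (.leaf 29442048) (.leaf 164814848)) (.node (.leaf 61677568) (.leaf 0))) (.node (.node (.leaf 75399168) (.leaf 0)) (.node (.leaf 128989406) (.leaf 0))))) (.node (.node (.node (.node (.leaf 16908288) (.leaf 151544989)) (.node (.leaf 54779904) (.leaf 0))) (.node (.node (.leaf 29556736) (.leaf 0)) (.node (.leaf 83656704) (.leaf 0)))) (.node (.node (.node (.leaf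 41656320) (.leaf 156584824)) (.node (.leaf 96104010) (.leaf 0))) (.node (.node (.leaf 85721088) (.leaf 0)) (.node (.leaf 113348585) (.leaf 0)))))) (.node (.node (.node (.node (.node (.leaf 4210688) (.leaf 114597888)) (.node (.leaf 55684661) (.leaf 0))) (.node (.node (.leaf 26624000) (.leaf 0)) (.node (.leaf 95152767) (.leaf 0)))) (.node (.node (.node (.leaf 35618816) (.leaf 166289408)) (.node (.leaf 118628352) (.leaf 0))) (.node (.node (.leaf 80633856) (.leaf 0)) (.node (.leaf 148168704) (.leaf 0))))) (.node (.node (.node (.node (.leaf 23248896) (.leaf 134968875)) (.node (.leaf 58155008) (.leaf 0))) (.node (.node (.leaf 70107136) (.leaf 0)) (.node (.leaf 87621632) (.leaf 0)))) (.node (.node (.node (.leaf 47570944) (.leaf 160273745)) (.node (.leaf 72384512) (.leaf 0))) (.node (.node (.leaf 44883968) (.leaf 0)) (.node (.leaf 109834949) (.leaf 0)))))))) (.node (.node (.node (.node (.node (.node (.node (.leaf 2228224) (.leaf 114923341)) (.node (.leaf 47218688) (.leaf 0))) (.node (.node (.leaf 51961856) (.leaf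 0)) (.node (.leaf 129908736) (.leaf 0)))) (.node (.node (.node (.leaf 11632640) (.leaf 130023424)) (.node (.leaf 113188864) (.leaf 0))) (.node (.node (.leaf 74080256) (.leaf 0)) (.node (.leaf 117420083) (.leaf 0))))) (.node (.node (.node (.node (.leaf 6209536) (.leaf 143883112)) (.node (.leaf 53968896) (.leaf 0))) (.node (.node (.leaf 63381504) (.leaf 0)) (.node (.leaf 110220739) (.leaf 0)))) (.node (.node (.node (.leaf 40099840) (.leaf 144515072)) (.node (.leaf 121790464) (.leaf 0))) (.node (.node (.leaf 40943616) (.leaf 0)) (.node (.leaf 150528000) (.leaf 0)))))) (.node (.node (.node (.node (.node (.leaf 8806400) (.leaf 132700572)) (.node (.leaf 50610176) (.leaf 0))) (.node (.node (.leaf 57548800) (.leaf 0)) (.node (.leaf 127588896) (.leaf 0)))) (.node (.node (.node (.leaf 17340233) (.leaf 161827746)) (.node (.leaf 64225280) (.leaf 0))) (.node (.node (.leaf 79331328) (.leaf 0)) (.node (.leaf 94928896) (.leaf 0))))) (.node (.node (.node (.node (.leaf 8953856) (.leaf 129765782)) (.node (.leaf 105520302)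 (.leaf 0))) (.node (.node (.leaf 68845568) (.leaf 0)) (.node (.leaf 86671360) (.leaf 0)))) (.node (.node (.node (.leaf 20094976) (.leaf 164164576)) (.node (.leaf 125952000) (.leaf 0))) (.node (.node (.leaf 44113920) (.leaf 0)) (.node (.leaf 126059369) (.leaf 0))))))) (.node (.node (.node (.node (.node (.node (.leaf 2195456) (.leaf 111026176)) (.node (.leaf 48971776) (.leaf 0))) (.node (.node (.leaf 54747136) (.leaf 0)) (.node (.leaf 110482135) (.leaf 0)))) (.node (.node (.node (.leaf 31006720) (.leaf 133251072)) (.node (.leaf 62545920) (.leaf 0))) (.node (.node (.leaf 36347904) (.leaf 0)) (.node (.leaf 136670298) (.leaf 0))))) (.node (.node (.node (.node (.leaf 7585792) (.leaf 155493720)) (.node (.leaf 55664640) (.leaf 0))) (.node (.node (.leaf 54579889) (.leaf 0)) (.node (.leaf 118886894) (.leaf 0)))) (.node (.node (.node (.leaf 43106304) (.leaf 163075795)) (.node (.leaf 123863040) (.leaf 0))) (.node (.node (.leaf 86941696) (.leaf 0)) (.node (.leaf 101457920) (.leaf 0)))))) (.node (.node (.node (.node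 (.node (.leaf 4866048) (.leaf 146620563)) (.node (.leaf 52273152) (.leaf 0))) (.node (.node (.leaf 27336704) (.leaf 0)) (.node (.leaf 101573122) (.leaf 0)))) (.node (.node (.node (.leaf 37175296) (.leaf 140558336)) (.node (.leaf 119635968) (.leaf 0))) (.node (.node (.leaf 40752291) (.leaf 0)) (.node (.leaf 126854698) (.leaf 0))))) (.node (.node (.node (.node (.leaf 24838144) (.leaf 151203746)) (.node (.leaf 111009792) (.leaf 0))) (.node (.node (.leaf 71426048) (.leaf 0)) (.node (.leaf 142606336) (.leaf 0)))) (.node (.node (.node (.leaf 44289921) (.leaf 164786263)) (.node (.leaf 73318400) (.leaf 0))) (.node (.node (.leaf 91971584) (.leaf 0)) (.node (.leaf 106078208) (.leaf 0))))))))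

def e1T43 : NT := .node (.node (.node (.node (.node (.node (.node (.node (.leaf 212992) (.leaf 107315200)) (.node (.leaf 46448640) (.leaf 0))) (.node (.node (.leaf 33195729) (.leaf 0)) (.node (.leaf 128909312) (.leaf 0)))) (.node (.node (.node (.leaf 26361856) (.leaf 149095666)) (.node (.leaf 101376702) (.leaf 0))) (.node (.node (.leaf 72769536) (.leaf 0)) (.node (.leaf 92795056) (.leaf 0))))) (.node (.node (.node (.node (.leaf 13656064) (.leaf 142452946)) (.node (.leaf 57624596) (.leaf 0))) (.node (.node (.leaf 28090368) (.leaf 0)) (.node (.leaf 102983465) (.leaf 0)))) (.node (.node (.node (.leaf 16547840) (.leaf 142630912)) (.node (.leaf 120684544) (.leaf 0))) (.node (.node (.leaf 83304448) (.leaf 0)) (.node (.leaf 98245621) (.leaf 0)))))) (.node (.node (.node (.node (.node (.leaf 7176192) (.leaf 112271360)) (.node (.leaf 98058240) (.leaf 0))) (.node (.node (.leaf 56139776) (.leaf 0)) (.node (.leaf 77996032) (.leaf 0)))) (.node (.node (.node (.leaf 32579584) (.leaf 134889472)) (.node (.leaf 63389696)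 (.leaf 0))) (.node (.node (.leaf 78061568) (.leaf 0)) (.node (.leaf 93863936) (.leaf 0))))) (.node (.node (.node (.node (.leaf 20185088) (.leaf 122609664)) (.node (.leaf 56451072) (.leaf 0))) (.node (.node (.leaf 67526656) (.leaf 0)) (.node (.leaf 140034048) (.leaf 0)))) (.node (.node (.node (.leaf 19398656) (.leaf 151568384)) (.node (.leaf 124887040) (.leaf 0))) (.node (.node (.leaf 43245568) (.leaf 0)) (.node (.leaf 152616960) (.leaf 0))))))) (.node (.node (.node (.node (.node (.node (.leaf 3899392) (.leaf 120935064)) (.node (.leaf 48128000) (.leaf 0))) (.node (.node (.leaf 23658496) (.leaf 0)) (.node (.leaf 130809856) (.leaf 0)))) (.node (.node (.node (.leaf 29458432) (.leaf 158092964)) (.node (.leaf 114229248) (.leaf 0))) (.node (.node (.leaf 35545088) (.leaf 0)) (.node (.leaf 144973824) (.leaf 0))))) (.node (.node (.node (.node (.leaf 12497074) (.leaf 150747377)) (.node (.leaf 105144320) (.leaf 0))) (.node (.node (.leaf 64692224) (.leaf 0)) (.node (.leaf 87881402) (.leaf 0)))) (.node (.node (.node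 (.leaf 17981440) (.leaf 165422907)) (.node (.leaf 68689920) (.leaf 0))) (.node (.node (.leaf 41705472) (.leaf 0)) (.node (.leaf 100302848) (.leaf 0)))))) (.node (.node (.node (.node (.node (.leaf 6646471) (.leaf 158892032)) (.node (.leaf 100442112) (.leaf 0))) (.node (.node (.leaf 59080704) (.leaf 0)) (.node (.leaf 79798272) (.leaf 0)))) (.node (.node (.node (.leaf 35635200) (.leaf 138502144)) (.node (.leaf 118636544) (.leaf 0))) (.node (.node (.leaf 76867515) (.leaf 0)) (.node (.leaf 96051200) (.leaf 0))))) (.node (.node (.node (.node (.leaf 9650176) (.leaf 133685787)) (.node (.leaf 109895680) (.leaf 0))) (.node (.node (.leaf 32514048) (.leaf 0)) (.node (.leaf 141754368) (.leaf 0)))) (.node (.node (.node (.leaf 20783104) (.leaf 156844032)) (.node (.leaf 93115258) (.leaf 0))) (.node (.node (.leaf 90750976) (.leaf 0)) (.node (.leaf 154009600) (.leaf 0)))))))) (.node (.node (.node (.node (.node (.node (.node (.leaf 876544) (.leaf 108511232)) (.node (.leaf 94502912) (.leaf 0))) (.node (.node (.leaf 22962176)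 (.leaf 0)) (.node (.leaf 75169792) (.leaf 0)))) (.node (.node (.node (.leaf 27910144) (.leaf 164249600)) (.node (.leaf 60792832) (.leaf 0))) (.node (.node (.leaf 34791424) (.leaf 0)) (.node (.leaf 144162816) (.leaf 0))))) (.node (.node (.node (.node (.leaf 15253504) (.leaf 138842836)) (.node (.leaf 98231260) (.leaf 0))) (.node (.node (.leaf 28835840) (.leaf 0)) (.node (.leaf 103031388) (.leaf 0)))) (.node (.node (.node (.leaf 40116224) (.leaf 162731374)) (.node (.leaf 121806848) (.leaf 0))) (.node (.node (.leaf 84566016) (.leaf 0)) (.node (.leaf 99164160) (.leaf 0)))))) (.node (.node (.node (.node (.node (.leaf 8814592) (.leaf 113401856)) (.node (.leaf 50618368) (.leaf 0))) (.node (.node (.leaf 57565184) (.leaf 0)) (.node (.leaf 78848000) (.leaf 0)))) (.node (.node (.node (.leaf 34136064) (.leaf 165920768)) (.node (.leaf 117538816) (.leaf 0))) (.node (.node (.leaf 37928960) (.leaf 0)) (.node (.leaf 147439616) (.leaf 0))))) (.node (.node (.node (.node (.leaf 21708800) (.leaf 124108800)) (.node (.leaf 57327616)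 (.leaf 0))) (.node (.node (.leaf 62812675) (.leaf 0)) (.node (.leaf 140886016) (.leaf 0)))) (.node (.node (.node (.leaf 46129152) (.leaf 157785097)) (.node (.leaf 120822415) (.leaf 0))) (.node (.node (.leaf 71280297) (.leaf 0)) (.node (.leaf 116926028) (.leaf 0))))))) (.node (.node (.node (.node (.node (.node (.leaf 5545984) (.leaf 147653770)) (.node (.leaf 96894976) (.leaf 0))) (.node (.node (.leaf 54763520) (.leaf 0)) (.node (.leaf 125234579) (.leaf 0)))) (.node (.node (.node (.leaf 31023104) (.leaf 133275648)) (.node (.leaf 65294876) (.leaf 0))) (.node (.node (.leaf 76734464) (.leaf 0)) (.node (.leaf 145776640) (.leaf 0))))) (.node (.node (.node (.node (.leaf 18563072) (.leaf 161497088)) (.node (.leaf 106405888) (.leaf 0))) (.node (.node (.leaf 30294016) (.leaf 0)) (.node (.leaf 139026432) (.leaf 0)))) (.node (.node (.node (.leaf 18685952) (.leaf 157754940)) (.node (.leaf 83039911) (.leaf 0))) (.node (.node (.leaf 42475520) (.leaf 0)) (.node (.leaf 101466112) (.leaf 0)))))) (.node (.node (.node (.node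 (.node (.leaf 12050432) (.leaf 115851264)) (.node (.leaf 101670912) (.leaf 0))) (.node (.node (.leaf 60547072) (.leaf 0)) (.node (.leaf 80691200) (.leaf 0)))) (.node (.node (.node (.leaf 15826944) (.leaf 140574720)) (.node (.leaf 66068480) (.leaf 0))) (.node (.node (.leaf 39460864) (.leaf 0)) (.node (.leaf 145601610) (.leaf 0))))) (.node (.node (.node (.node (.leaf 24854528) (.leaf 152963465)) (.node (.leaf 111017984) (.leaf 0))) (.node (.node (.leaf 33259520) (.leaf 0)) (.node (.leaf 140704664) (.leaf 0)))) (.node (.node (.node (.leaf 21512192) (.leaf 160886631)) (.node (.leaf 118793727) (.leaf 0))) (.node (.node (.leaf 45662208) (.leaf 0)) (.node (.leaf 152938718) (.leaf 0))))))))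

def e1T44 : NT := .node (.node (.node (.node (.node (.node (.node (.node (.leaf 581632) (.leaf 107331584)) (.node (.leaf 84290291) (.leaf 0))) (.node (.node (.leaf 22216704) (.leaf 0)) (.node (.leaf 74203136) (.leaf 0)))) (.node (.node (.node (.leaf 10985472) (.leaf 128458752)) (.node (.leaf 112107520) (.leaf 0))) (.node (.node (.leaf 72785920) (.leaf 0)) (.node (.leaf 143335424) (.leaf 0))))) (.node (.node (.node (.node (.leaf 5554176) (.leaf 128067872)) (.node (.leaf 53116928) (.leaf 0))) (.node (.node (.leaf 61947904) (.leaf 0)) (.node (.leaf 136347648) (.leaf 0)))) (.node (.node (.node (.leaf 38690816) (.leaf 142680064)) (.node (.leaf 66969600) (.leaf 0))) (.node (.node (.leaf 40198144) (.leaf 0)) (.node (.leaf 149807104) (.leaf 0)))))) (.node (.node (.node (.node (.node (.leaf 7192576) (.leaf 112279552)) (.node (.leaf 98066432) (.leaf 0))) (.node (.node (.leaf 25616870) (.leaf 0)) (.node (.leaf 97399197) (.leaf 0)))) (.node (.node (.node (.leaf 32595968) (.leaf 148154012)) (.node (.leaf 116457472)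 (.leaf 0))) (.node (.node (.leaf 78077952) (.leaf 0)) (.node (.leaf 146702336) (.leaf 0))))) (.node (.node (.node (.node (.leaf 8282112) (.leaf 122634240)) (.node (.leaf 60604861) (.leaf 0))) (.node (.node (.leaf 67543040) (.leaf 0)) (.node (.leaf 140042240) (.leaf 0)))) (.node (.node (.node (.leaf 44646400) (.leaf 167763968)) (.node (.leaf 124903424) (.leaf 0))) (.node (.node (.leaf 43253760) (.leaf 0)) (.node (.leaf 125928050) (.leaf 0))))))) (.node (.node (.node (.node (.node (.node (.leaf 3915776) (.leaf 109797376)) (.node (.leaf 71019196) (.leaf 0))) (.node (.node (.leaf 53387264) (.leaf 0)) (.node (.leaf 76169216) (.leaf 0)))) (.node (.node (.node (.leaf 12320768) (.leaf 131686400)) (.node (.leaf 61685760) (.leaf 0))) (.node (.node (.leaf 75423744) (.leaf 0)) (.node (.leaf 91873280) (.leaf 0))))) (.node (.node (.node (.node (.leaf 6905856) (.leaf 120004608)) (.node (.leaf 105160704) (.leaf 0))) (.node (.node (.leaf 29564928) (.leaf 0)) (.node (.leaf 83664896) (.leaf 0)))) (.node (.node (.node (.leaf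 41664512) (.leaf 146776064)) (.node (.leaf 68698112) (.leaf 0))) (.node (.node (.leaf 85745664) (.leaf 0)) (.node (.leaf 132896231) (.leaf 0)))))) (.node (.node (.node (.node (.node (.leaf 10461184) (.leaf 143068781)) (.node (.leaf 51470336) (.leaf 0))) (.node (.node (.leaf 26632192) (.leaf 0)) (.node (.leaf 134569984) (.leaf 0)))) (.node (.node (.node (.leaf 35651584) (.leaf 138534912)) (.node (.leaf 118644736) (.leaf 0))) (.node (.node (.leaf 38764544) (.leaf 0)) (.node (.leaf 96059392) (.leaf 0))))) (.node (.node (.node (.node (.leaf 23273472) (.leaf 162979840)) (.node (.leaf 86289212) (.leaf 0))) (.node (.node (.leaf 70123520) (.leaf 0)) (.node (.leaf 134113681) (.leaf 0)))) (.node (.node (.node (.leaf 41772815) (.leaf 156868608)) (.node (.leaf 72400896) (.leaf 0))) (.node (.node (.leaf 90767360) (.leaf 0)) (.node (.leaf 154025984) (.leaf 0)))))))) (.node (.node (.node (.node (.node (.node (.node (.leaf 2252800) (.leaf 116780065)) (.node (.leaf 94511104) (.leaf 0))) (.node (.node (.leaf 51986432) (.leaf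 0)) (.node (.leaf 129933312) (.leaf 0)))) (.node (.node (.node (.leaf 27926528) (.leaf 153743781)) (.node (.leaf 78087093) (.leaf 0))) (.node (.node (.leaf 59233654) (.leaf 0)) (.node (.leaf 90742784) (.leaf 0))))) (.node (.node (.node (.node (.leaf 15269888) (.leaf 155989875)) (.node (.leaf 60676270) (.leaf 0))) (.node (.node (.leaf 63397888) (.leaf 0)) (.node (.leaf 82649088) (.leaf 0)))) (.node (.node (.node (.leaf 17268736) (.leaf 159732856)) (.node (.leaf 67772416) (.leaf 0))) (.node (.node (.leaf 40951808) (.leaf 0)) (.node (.leaf 99172352) (.leaf 0)))))) (.node (.node (.node (.node (.node (.leaf 3538944) (.leaf 158253056)) (.node (.leaf 91686342) (.leaf 0))) (.node (.node (.leaf 25878528) (.leaf 0)) (.node (.leaf 133677056) (.leaf 0)))) (.node (.node (.node (.leaf 14442496) (.leaf 139327296)) (.node (.leaf 117555200) (.leaf 0))) (.node (.node (.leaf 46077577) (.leaf 0)) (.node (.leaf 94945280) (.leaf 0))))) (.node (.node (.node (.node (.leaf 8962048) (.leaf 143209963)) (.node (.leaf 57335808) (.leaf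 0))) (.node (.node (.leaf 68870144) (.leaf 0)) (.node (.leaf 140902400) (.leaf 0)))) (.node (.node (.node (.leaf 20103168) (.leaf 166323409)) (.node (.leaf 125968384) (.leaf 0))) (.node (.node (.leaf 44122112) (.leaf 0)) (.node (.leaf 138201115) (.leaf 0))))))) (.node (.node (.node (.node (.node (.node (.leaf 3508045) (.leaf 157171712)) (.node (.leaf 48996352) (.leaf 0))) (.node (.node (.leaf 24387584) (.leaf 0)) (.node (.leaf 131874816) (.leaf 0)))) (.node (.node (.node (.leaf 13000704) (.leaf 162213891)) (.node (.leaf 62554112) (.leaf 0))) (.node (.node (.leaf 76742656) (.leaf 0)) (.node (.leaf 92864512) (.leaf 0))))) (.node (.node (.node (.node (.leaf 18571264) (.leaf 161505280)) (.node (.leaf 80625905) (.leaf 0))) (.node (.node (.leaf 66117632) (.leaf 0)) (.node (.leaf 124131373) (.leaf 0)))) (.node (.node (.node (.leaf 43130880) (.leaf 167583744)) (.node (.leaf 123879424) (.leaf 0))) (.node (.node (.leaf 86958080) (.leaf 0)) (.node (.leaf 118429569) (.leaf 0)))))) (.node (.node (.node (.node (.node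 (.leaf 4874240) (.leaf 115859456)) (.node (.leaf 52281344) (.leaf 0))) (.node (.node (.leaf 27344896) (.leaf 0)) (.node (.leaf 135520256) (.leaf 0)))) (.node (.node (.node (.leaf 37199872) (.leaf 159666251)) (.node (.leaf 66076672) (.leaf 0))) (.node (.node (.leaf 39469056) (.leaf 0)) (.node (.leaf 97091584) (.leaf 0))))) (.node (.node (.node (.node (.leaf 10313728) (.leaf 126926848)) (.node (.leaf 108422241) (.leaf 0))) (.node (.node (.leaf 71450624) (.leaf 0)) (.node (.leaf 88702976) (.leaf 0)))) (.node (.node (.node (.leaf 49086464) (.leaf 160276480)) (.node (.leaf 127975424) (.leaf 0))) (.node (.node (.leaf 59067050) (.leaf 0)) (.node (.leaf 118908793) (.leaf 0))))))))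

def e1T45 : NT := .node (.node (.node (.node (.node (.node (.node (.node (.leaf 598016) (.leaf 146699705)) (.node (.leaf 46456832) (.leaf 0))) (.node (.node (.leaf 50528256) (.leaf 0)) (.node (.leaf 121301305) (.leaf 0)))) (.node (.node (.node (.leaf 26386432) (.leaf 152717759)) (.node (.leaf 112115712) (.leaf 0))) (.node (.node (.leaf 72794112) (.leaf 0)) (.node (.leaf 89710592) (.leaf 0))))) (.node (.node (.node (.node (.leaf 13680640) (.leaf 147074115)) (.node (.leaf 102825984) (.leaf 0))) (.node (.node (.leaf 28106752) (.leaf 0)) (.node (.leaf 81715200) (.leaf 0)))) (.node (.node (.node (.leaf 38707200) (.leaf 142696448)) (.node (.leaf 66985984) (.leaf 0))) (.node (.node (.leaf 83320832) (.leaf 0)) (.node (.leaf 149815296) (.leaf 0)))))) (.node (.node (.node (.node (.node (.leaf 2875392) (.leaf 115470446)) (.node (.leaf 98074624) (.leaf 0))) (.node (.node (.leaf 25133056) (.leaf 0)) (.node (.leaf 78012416) (.leaf 0)))) (.node (.node (.node (.leaf 13713408) (.leaf 134905856)) (.node (.leaf 116473856)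 (.leaf 0))) (.node (.node (.leaf 37142528) (.leaf 0)) (.node (.leaf 93872128) (.leaf 0))))) (.node (.node (.node (.node (.leaf 20209664) (.leaf 122642432)) (.node (.leaf 107593728) (.leaf 0))) (.node (.node (.leaf 31014912) (.leaf 0)) (.node (.leaf 140058624) (.leaf 0)))) (.node (.node (.node (.leaf 44662784) (.leaf 167425564)) (.node (.leaf 70557696) (.leaf 0))) (.node (.node (.leaf 88285184) (.leaf 0)) (.node (.leaf 102645760) (.leaf 0))))))) (.node (.node (.node (.node (.node (.node (.leaf 1540096) (.leaf 138446157)) (.node (.leaf 95723520) (.leaf 0))) (.node (.node (.leaf 50120159) (.leaf 0)) (.node (.leaf 130826240) (.leaf 0)))) (.node (.node (.node (.leaf 29483008) (.leaf 131702784)) (.node (.leaf 114253824) (.leaf 0))) (.node (.node (.leaf 75440128) (.leaf 0)) (.node (.leaf 91881472) (.leaf 0))))) (.node (.node (.node (.node (.leaf 16941056) (.leaf 132825965)) (.node (.leaf 54796288) (.leaf 0))) (.node (.node (.leaf 64716800) (.leaf 0)) (.node (.leaf 134777009) (.leaf 0)))) (.node (.node (.node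 (.leaf 17989632) (.leaf 162280968)) (.node (.leaf 99842951) (.leaf 0))) (.node (.node (.leaf 41713664) (.leaf 0)) (.node (.leaf 151248896) (.leaf 0)))))) (.node (.node (.node (.node (.node (.leaf 4227072) (.leaf 153143556)) (.node (.leaf 99049472) (.leaf 0))) (.node (.node (.leaf 59105280) (.leaf 0)) (.node (.leaf 79814656) (.leaf 0)))) (.node (.node (.node (.leaf 35667968) (.leaf 156195910)) (.node (.leaf 65142784) (.leaf 0))) (.node (.node (.leaf 70896959) (.leaf 0)) (.node (.leaf 96067584) (.leaf 0))))) (.node (.node (.node (.node (.leaf 9658368) (.leaf 125509632)) (.node (.leaf 58171392) (.leaf 0))) (.node (.node (.leaf 50884148) (.leaf 0)) (.node (.leaf 96965248) (.leaf 0)))) (.node (.node (.node (.leaf 20791296) (.leaf 156967182)) (.node (.leaf 74457870) (.leaf 0))) (.node (.node (.leaf 44900352) (.leaf 0)) (.node (.leaf 104914944) (.leaf 0)))))))) (.node (.node (.node (.node (.node (.node (.node (.leaf 2269184) (.leaf 108519424)) (.node (.leaf 47243264) (.leaf 0))) (.node (.node (.leaf 22970368)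 (.leaf 0)) (.node (.leaf 75177984) (.leaf 0)))) (.node (.node (.node (.leaf 11649024) (.leaf 133746367)) (.node (.leaf 113213440) (.leaf 0))) (.node (.node (.leaf 34807808) (.leaf 0)) (.node (.leaf 144171008) (.leaf 0))))) (.node (.node (.node (.node (.leaf 6225920) (.leaf 118677504)) (.node (.leaf 103907328) (.leaf 0))) (.node (.node (.leaf 28844032) (.leaf 0)) (.node (.leaf 82657280) (.leaf 0)))) (.node (.node (.node (.leaf 17276928) (.leaf 144531456)) (.node (.leaf 86562306) (.leaf 0))) (.node (.node (.leaf 48798263) (.leaf 0)) (.node (.leaf 132871355) (.leaf 0)))))) (.node (.node (.node (.node (.node (.leaf 8839168) (.leaf 113505689)) (.node (.leaf 50626560) (.leaf 0))) (.node (.node (.leaf 57581568) (.leaf 0)) (.node (.leaf 78856192) (.leaf 0)))) (.node (.node (.node (.leaf 34160640) (.leaf 136642560)) (.node (.leaf 64241664) (.leaf 0))) (.node (.node (.leaf 79364096) (.leaf 0)) (.node (.leaf 105285211) (.leaf 0))))) (.node (.node (.node (.node (.leaf 13105308) (.leaf 162521088)) (.node (.leaf 106091190)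 (.leaf 0))) (.node (.node (.leaf 31793152) (.leaf 0)) (.node (.leaf 140910592) (.leaf 0)))) (.node (.node (.node (.leaf 46145536) (.leaf 162843979)) (.node (.leaf 71499776) (.leaf 0))) (.node (.node (.leaf 89595904) (.leaf 0)) (.node (.leaf 132371080) (.leaf 0))))))) (.node (.node (.node (.node (.node (.node (.leaf 2211840) (.leaf 157188096)) (.node (.leaf 96911360) (.leaf 0))) (.node (.node (.leaf 54788096) (.leaf 0)) (.node (.leaf 77152256) (.leaf 0)))) (.node (.node (.node (.leaf 31047680) (.leaf 133292032)) (.node (.leaf 62562304) (.leaf 0))) (.node (.node (.leaf 36364288) (.leaf 0)) (.node (.leaf 136517345) (.leaf 0))))) (.node (.node (.node (.node (.leaf 7602176) (.leaf 121339904)) (.node (.leaf 106430464) (.leaf 0))) (.node (.node (.leaf 45462612) (.leaf 0)) (.node (.leaf 84721664) (.leaf 0)))) (.node (.node (.node (.leaf 43147264) (.leaf 149004288)) (.node (.leaf 69632000) (.leaf 0))) (.node (.node (.leaf 86974464) (.leaf 0)) (.node (.leaf 101482496) (.leaf 0)))))) (.node (.node (.node (.node (.node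 (.leaf 12075008) (.leaf 115867648)) (.node (.leaf 101695488) (.leaf 0))) (.node (.node (.leaf 60571648) (.leaf 0)) (.node (.leaf 80707584) (.leaf 0)))) (.node (.node (.node (.leaf 15835136) (.leaf 164607595)) (.node (.leaf 119660544) (.leaf 0))) (.node (.node (.leaf 76343214) (.leaf 0)) (.node (.leaf 97099776) (.leaf 0))))) (.node (.node (.node (.node (.leaf 24870912) (.leaf 126935040)) (.node (.leaf 58974208) (.leaf 0))) (.node (.node (.leaf 71467008) (.leaf 0)) (.node (.leaf 142614528) (.leaf 0)))) (.node (.node (.node (.leaf 49102848) (.leaf 167094386)) (.node (.leaf 73342976) (.leaf 0))) (.node (.node (.leaf 45678592) (.leaf 0)) (.node (.leaf 133540096) (.leaf 0))))))))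

def e1T46 : NT := .node (.node (.node (.node (.node (.node (.node (.node (.leaf 229376) (.leaf 107339776)) (.node (.leaf 93323264) (.leaf 0))) (.node (.node (.leaf 22233088) (.leaf 0)) (.node (.leaf 127610560) (.leaf 0)))) (.node (.node (.node (.leaf 10993664) (.leaf 151375384)) (.node (.leaf 59891712) (.leaf 0))) (.node (.node (.leaf 34070528) (.leaf 0)) (.node (.leaf 89718784) (.leaf 0))))) (.node (.node (.node (.node (.leaf 5562368) (.leaf 159899648)) (.node (.leaf 102842368) (.leaf 0))) (.node (.node (.leaf 61956096) (.leaf 0)) (.node (.leaf 93899351) (.leaf 0)))) (.node (.node (.node (.leaf 16564224) (.leaf 161602220)) (.node (.leaf 120717312) (.leaf 0))) (.node (.node (.leaf 83337216) (.leaf 0)) (.node (.leaf 104892538) (.leaf 0)))))) (.node (.node (.node (.node (.node (.leaf 7217152) (.leaf 112287744)) (.node (.leaf 98082816) (.leaf 0))) (.node (.node (.leaf 56164352) (.leaf 0)) (.node (.leaf 78020608) (.leaf 0)))) (.node (.node (.node (.leaf 32620544) (.leaf 136049878)) (.node (.leaf 116482048)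 (.leaf 0))) (.node (.node (.leaf 73254677) (.leaf 0)) (.node (.leaf 146718720) (.leaf 0))))) (.node (.node (.node (.node (.leaf 20226048) (.leaf 162037760)) (.node (.leaf 107610112) (.leaf 0))) (.node (.node (.leaf 67559424) (.leaf 0)) (.node (.leaf 140075008) (.leaf 0)))) (.node (.node (.node (.leaf 19415040) (.leaf 166760918)) (.node (.leaf 95478241) (.leaf 0))) (.node (.node (.leaf 43270144) (.leaf 0)) (.node (.leaf 152641536) (.leaf 0))))))) (.node (.node (.node (.node (.node (.node (.leaf 3940352) (.leaf 118870033)) (.node (.leaf 48160768) (.leaf 0))) (.node (.node (.leaf 23674880) (.leaf 0)) (.node (.leaf 76201984) (.leaf 0)))) (.node (.node (.node (.leaf 29491200) (.leaf 139641782)) (.node (.leaf 61702144) (.leaf 0))) (.node (.node (.leaf 35561472) (.leaf 0)) (.node (.leaf 99469678) (.leaf 0))))) (.node (.node (.node (.node (.leaf 6914048) (.leaf 120012800)) (.node (.leaf 105177088) (.leaf 0))) (.node (.node (.leaf 64724992) (.leaf 0)) (.node (.leaf 83689472) (.leaf 0)))) (.node (.node (.node (.leaf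 18006016) (.leaf 162096213)) (.node (.leaf 76811081) (.leaf 0))) (.node (.node (.leaf 53006833) (.leaf 0)) (.node (.leaf 106584799) (.leaf 0)))))) (.node (.node (.node (.node (.node (.leaf 10485760) (.leaf 114647040)) (.node (.leaf 51486720) (.leaf 0))) (.node (.node (.leaf 56688640) (.leaf 0)) (.node (.leaf 134578176) (.leaf 0)))) (.node (.node (.node (.leaf 15171584) (.leaf 166094351)) (.node (.leaf 68609490) (.leaf 0))) (.node (.node (.leaf 80674816) (.leaf 0)) (.node (.leaf 148201472) (.leaf 0))))) (.node (.node (.node (.node (.leaf 23298048) (.leaf 125517824)) (.node (.leaf 109912064) (.leaf 0))) (.node (.node (.leaf 32530432) (.leaf 0)) (.node (.leaf 141778944) (.leaf 0)))) (.node (.node (.node (.leaf 47611904) (.leaf 156991488)) (.node (.leaf 84745174) (.leaf 0))) (.node (.node (.leaf 90791936) (.leaf 0)) (.node (.leaf 126079586) (.leaf 0)))))))) (.node (.node (.node (.node (.node (.node (.node (.leaf 892928) (.leaf 135644597)) (.node (.leaf 47251456) (.leaf 0))) (.node (.node (.leaf 52011008) (.leaf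 0)) (.node (.leaf 129957888) (.leaf 0)))) (.node (.node (.node (.leaf 27951104) (.leaf 164265984)) (.node (.leaf 60817408) (.leaf 0))) (.node (.node (.leaf 74113024) (.leaf 0)) (.node (.leaf 136694467) (.leaf 0))))) (.node (.node (.node (.node (.leaf 15286272) (.leaf 123224406)) (.node (.leaf 54001664) (.leaf 0))) (.node (.node (.leaf 63406080) (.leaf 0)) (.node (.leaf 104159749) (.leaf 0)))) (.node (.node (.node (.leaf 27920326) (.leaf 144572416)) (.node (.leaf 67780608) (.leaf 0))) (.node (.node (.leaf 84582400) (.leaf 0)) (.node (.leaf 99188736) (.leaf 0)))))) (.node (.node (.node (.node (.node (.leaf 3547136) (.leaf 113426432)) (.node (.leaf 60175892) (.leaf 0))) (.node (.node (.leaf 25894912) (.leaf 0)) (.node (.leaf 108106655) (.leaf 0)))) (.node (.node (.node (.leaf 14450688) (.leaf 148998793)) (.node (.leaf 94159309) (.leaf 0))) (.node (.node (.leaf 37945344) (.leaf 0)) (.node (.leaf 94953472) (.leaf 0))))) (.node (.node (.node (.node (.leaf 21741568) (.leaf 124133376)) (.node (.leaf 106825209)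 (.leaf 0))) (.node (.node (.leaf 68886528) (.leaf 0)) (.node (.leaf 140918784) (.leaf 0)))) (.node (.node (.node (.leaf 20111360) (.leaf 153985024)) (.node (.leaf 124021514) (.leaf 0))) (.node (.node (.leaf 44130304) (.leaf 0)) (.node (.leaf 109046111) (.leaf 0))))))) (.node (.node (.node (.node (.node (.node (.leaf 5578752) (.leaf 111058944)) (.node (.leaf 96919552) (.leaf 0))) (.node (.node (.leaf 54804480) (.leaf 0)) (.node (.leaf 103696856) (.leaf 0)))) (.node (.node (.node (.leaf 13008896) (.leaf 161365166)) (.node (.leaf 115124162) (.leaf 0))) (.node (.node (.leaf 36372480) (.leaf 0)) (.node (.leaf 92880896) (.leaf 0))))) (.node (.node (.node (.node (.leaf 18595840) (.leaf 159141478)) (.node (.leaf 55689216) (.leaf 0))) (.node (.node (.leaf 30310400) (.leaf 0)) (.node (.leaf 139051008) (.leaf 0)))) (.node (.node (.node (.leaf 18702336) (.leaf 152527058)) (.node (.leaf 104511344) (.leaf 0))) (.node (.node (.leaf 86990848) (.leaf 0)) (.node (.leaf 151969792) (.leaf 0)))))) (.node (.node (.node (.node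 (.node (.leaf 12091392) (.leaf 159383552)) (.node (.leaf 101711872) (.leaf 0))) (.node (.node (.leaf 27361280) (.leaf 0)) (.node (.leaf 117838286) (.leaf 0)))) (.node (.node (.node (.leaf 37224448) (.leaf 166666240)) (.node (.leaf 66093056) (.leaf 0))) (.node (.node (.leaf 39477248) (.leaf 0)) (.node (.leaf 149053440) (.leaf 0))))) (.node (.node (.node (.node (.leaf 24887296) (.leaf 162925961)) (.node (.leaf 111042560) (.leaf 0))) (.node (.node (.leaf 33275904) (.leaf 0)) (.node (.leaf 88711168) (.leaf 0)))) (.node (.node (.node (.leaf 21528576) (.leaf 166299898)) (.node (.leaf 127991808) (.leaf 0))) (.node (.node (.leaf 92004352) (.leaf 0)) (.node (.leaf 154681344) (.leaf 0))))))))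

def e1T47 : NT := .node (.node (.node (.node (.node (.node (.node (.node (.leaf 237568) (.leaf 107372544)) (.node (.leaf 93339648) (.leaf 0))) (.node (.node (.leaf 50552832) (.leaf 0)) (.node (.leaf 116726514) (.leaf 0)))) (.node (.node (.node (.leaf 26411008) (.leaf 163831808)) (.node (.leaf 79506194) (.leaf 0))) (.node (.node (.leaf 72810496) (.leaf 0)) (.node (.leaf 89726976) (.leaf 0))))) (.node (.node (.node (.node (.leaf 13705216) (.leaf 150452833)) (.node (.leaf 53133312) (.leaf 0))) (.node (.node (.leaf 61972480) (.leaf 0)) (.node (.leaf 108710783) (.leaf 0)))) (.node (.node (.node (.leaf 38731776) (.leaf 150817040)) (.node (.leaf 66994176) (.leaf 0))) (.node (.node (.leaf 40214528) (.leaf 0)) (.node (.leaf 98115584) (.leaf 0)))))) (.node (.node (.node (.node (.node (.leaf 2883584) (.leaf 138095515)) (.node (.leaf 98091008) (.leaf 0))) (.node (.node (.leaf 25141248) (.leaf 0)) (.node (.leaf 132767744) (.leaf 0)))) (.node (.node (.node (.leaf 13721600) (.leaf 155091430)) (.node (.leaf 63414272)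 (.leaf 0))) (.node (.node (.leaf 78094336) (.leaf 0)) (.node (.leaf 134720300) (.leaf 0))))) (.node (.node (.node (.node (.leaf 8298496) (.leaf 122667008)) (.node (.leaf 56492032) (.leaf 0))) (.node (.node (.leaf 67575808) (.leaf 0)) (.node (.leaf 85704704) (.leaf 0)))) (.node (.node (.node (.leaf 44687360) (.leaf 151724032)) (.node (.leaf 70565888) (.leaf 0))) (.node (.node (.leaf 88301568) (.leaf 0)) (.node (.leaf 102653952) (.leaf 0))))))) (.node (.node (.node (.node (.node (.node (.leaf 3956736) (.leaf 146139764)) (.node (.leaf 95748096) (.leaf 0))) (.node (.node (.leaf 53420032) (.leaf 0)) (.node (.leaf 130842624) (.leaf 0)))) (.node (.node (.node (.leaf 12337152) (.leaf 144468611)) (.node (.leaf 105392750) (.leaf 0))) (.node (.node (.leaf 75456512) (.leaf 0)) (.node (.leaf 144998400) (.leaf 0))))) (.node (.node (.node (.node (.leaf 16965632) (.leaf 120020992)) (.node (.leaf 105185280) (.leaf 0))) (.node (.node (.leaf 29581312) (.leaf 0)) (.node (.leaf 138125312) (.leaf 0)))) (.node (.node (.node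 (.leaf 41689088) (.leaf 158011648)) (.node (.leaf 122855424) (.leaf 0))) (.node (.node (.leaf 41730048) (.leaf 0)) (.node (.leaf 100327424) (.leaf 0)))))) (.node (.node (.node (.node (.node (.leaf 4235264) (.leaf 158900224)) (.node (.leaf 100474880) (.leaf 0))) (.node (.node (.leaf 26648576) (.leaf 0)) (.node (.leaf 134594560) (.leaf 0)))) (.node (.node (.node (.leaf 35692544) (.leaf 138559488)) (.node (.leaf 65175552) (.leaf 0))) (.node (.node (.leaf 38780928) (.leaf 0)) (.node (.leaf 96075776) (.leaf 0))))) (.node (.node (.node (.node (.leaf 9666560) (.leaf 162988032)) (.node (.leaf 58179584) (.leaf 0))) (.node (.node (.leaf 70156288) (.leaf 0)) (.node (.leaf 87662592) (.leaf 0)))) (.node (.node (.node (.leaf 20807680) (.leaf 157007872)) (.node (.leaf 127041536) (.leaf 0))) (.node (.node (.leaf 44908544) (.leaf 0)) (.node (.leaf 104947712) (.leaf 0)))))))) (.node (.node (.node (.node (.node (.node (.node (.leaf 2293760) (.leaf 108535808)) (.node (.leaf 67761559) (.leaf 0))) (.node (.node (.leaf 52027392)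 (.leaf 0)) (.node (.leaf 75202560) (.leaf 0)))) (.node (.node (.node (.leaf 11657216) (.leaf 146983973)) (.node (.leaf 60833792) (.leaf 0))) (.node (.node (.leaf 34816000) (.leaf 0)) (.node (.leaf 139923627) (.leaf 0))))) (.node (.node (.node (.node (.leaf 15302656) (.leaf 146804862)) (.node (.leaf 103931904) (.leaf 0))) (.node (.node (.leaf 28860416) (.leaf 0)) (.node (.leaf 82681856) (.leaf 0)))) (.node (.node (.node (.leaf 40148992) (.leaf 144580608)) (.node (.leaf 121831424) (.leaf 0))) (.node (.node (.leaf 84598784) (.leaf 0)) (.node (.leaf 111577946) (.leaf 0)))))) (.node (.node (.node (.node (.node (.leaf 8863744) (.leaf 158261248)) (.node (.leaf 50634752) (.leaf 0))) (.node (.node (.leaf 57597952) (.leaf 0)) (.node (.leaf 78905344) (.leaf 0)))) (.node (.node (.node (.leaf 34177024) (.leaf 136658944)) (.node (.leaf 64249856) (.leaf 0))) (.node (.node (.leaf 37953536) (.leaf 0)) (.node (.leaf 111846520) (.leaf 0))))) (.node (.node (.node (.node (.leaf 21757952) (.leaf 124141568)) (.node (.leaf 57352192)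 (.leaf 0))) (.node (.node (.leaf 31801344) (.leaf 0)) (.node (.leaf 128656562) (.leaf 0)))) (.node (.node (.node (.leaf 46170112) (.leaf 167561938)) (.node (.leaf 71507968) (.leaf 0))) (.node (.node (.leaf 89620480) (.leaf 0)) (.node (.leaf 153280512) (.leaf 0))))))) (.node (.node (.node (.node (.node (.node (.leaf 2220032) (.leaf 139457984)) (.node (.leaf 49012736) (.leaf 0))) (.node (.node (.leaf 24403968) (.leaf 0)) (.node (.leaf 77168640) (.leaf 0)))) (.node (.node (.node (.leaf 31064064) (.leaf 133316608)) (.node (.leaf 115408896) (.leaf 0))) (.node (.node (.leaf 76775424) (.leaf 0)) (.node (.leaf 145809408) (.leaf 0))))) (.node (.node (.node (.node (.leaf 7610368) (.leaf 136703624)) (.node (.leaf 106455040) (.leaf 0))) (.node (.node (.leaf 66150400) (.leaf 0)) (.node (.leaf 87931455) (.leaf 0)))) (.node (.node (.node (.leaf 31903040) (.leaf 149045248)) (.node (.leaf 123887616) (.leaf 0))) (.node (.node (.leaf 42516480) (.leaf 0)) (.node (.leaf 151986176) (.leaf 0)))))) (.node (.node (.node (.node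 (.node (.leaf 4890624) (.leaf 137842595)) (.node (.leaf 69365976) (.leaf 0))) (.node (.node (.leaf 60588032) (.leaf 0)) (.node (.leaf 80715776) (.leaf 0)))) (.node (.node (.node (.leaf 33347411) (.leaf 162346903)) (.node (.leaf 70509416) (.leaf 0))) (.node (.node (.leaf 80195532) (.leaf 0)) (.node (.leaf 97107968) (.leaf 0))))) (.node (.node (.node (.node (.leaf 10330112) (.leaf 126951424)) (.node (.leaf 58990592) (.leaf 0))) (.node (.node (.leaf 71483392) (.leaf 0)) (.node (.leaf 135629164) (.leaf 0)))) (.node (.node (.node (.leaf 49127424) (.leaf 162137340)) (.node (.leaf 73351168) (.leaf 0))) (.node (.node (.leaf 87374186) (.leaf 0)) (.node (.leaf 106127360) (.leaf 0))))))))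

def e1T48 : NT := .node (.node (.node (.node (.node (.node (.node (.node (.leaf 630784) (.leaf 155312128)) (.node (.leaf 46473216) (.leaf 0))) (.node (.node (.leaf 22241280) (.leaf 0)) (.node (.leaf 128925696) (.leaf 0)))) (.node (.node (.node (.leaf 26427392) (.leaf 128499712)) (.node (.leaf 59908096) (.leaf 0))) (.node (.node (.leaf 34078720) (.leaf 0)) (.node (.leaf 108382943) (.leaf 0))))) (.node (.node (.node (.node (.leaf 5570560) (.leaf 159907840)) (.node (.leaf 102866944) (.leaf 0))) (.node (.node (.leaf 28123136) (.leaf 0)) (.node (.leaf 81739776) (.leaf 0)))) (.node (.node (.node (.leaf 16572416) (.leaf 142761984)) (.node (.leaf 120741888) (.leaf 0))) (.node (.node (.leaf 83345408) (.leaf 0)) (.node (.leaf 98123776) (.leaf 0)))))) (.node (.node (.node (.node (.node (.leaf 7241728) (.leaf 156669489)) (.node (.leaf 49864704) (.leaf 0))) (.node (.node (.leaf 56188928) (.leaf 0)) (.node (.leaf 90441460) (.leaf 0)))) (.node (.node (.node (.leaf 20908163) (.leaf 156251942)) (.node (.leaf 116506624)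 (.leaf 0))) (.node (.node (.leaf 77092069) (.leaf 0)) (.node (.leaf 93888512) (.leaf 0))))) (.node (.node (.node (.node (.leaf 20242432) (.leaf 122683392)) (.node (.leaf 107626496) (.leaf 0))) (.node (.node (.leaf 31031296) (.leaf 0)) (.node (.leaf 85712896) (.leaf 0)))) (.node (.node (.node (.leaf 25637042) (.leaf 151764992)) (.node (.leaf 70582272) (.leaf 0))) (.node (.node (.leaf 88317952) (.leaf 0)) (.node (.leaf 102686720) (.leaf 0))))))) (.node (.node (.node (.node (.node (.node (.leaf 1556480) (.leaf 109838336)) (.node (.leaf 48177152) (.leaf 0))) (.node (.node (.leaf 23683072) (.leaf 0)) (.node (.leaf 76210176) (.leaf 0)))) (.node (.node (.node (.leaf 29507584) (.leaf 131719168)) (.node (.leaf 61718528) (.leaf 0))) (.node (.node (.leaf 35569664) (.leaf 0)) (.node (.leaf 91947008) (.leaf 0))))) (.node (.node (.node (.node (.leaf 16982016) (.leaf 157115501)) (.node (.leaf 105201664) (.leaf 0))) (.node (.node (.leaf 64733184) (.leaf 0)) (.node (.leaf 83705856) (.leaf 0)))) (.node (.node (.node (.leaf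 34013501) (.leaf 167387136)) (.node (.leaf 122871808) (.leaf 0))) (.node (.node (.leaf 85770240) (.leaf 0)) (.node (.leaf 151265280) (.leaf 0)))))) (.node (.node (.node (.node (.node (.leaf 7174685) (.leaf 114655232)) (.node (.leaf 51494912) (.leaf 0))) (.node (.node (.leaf 59129856) (.leaf 0)) (.node (.leaf 125283309) (.leaf 0)))) (.node (.node (.node (.leaf 15179776) (.leaf 166305792)) (.node (.leaf 65183744) (.leaf 0))) (.node (.node (.leaf 80699392) (.leaf 0)) (.node (.leaf 112559596) (.leaf 0))))) (.node (.node (.node (.node (.leaf 23322624) (.leaf 125534208)) (.node (.leaf 108734988) (.leaf 0))) (.node (.node (.leaf 32538624) (.leaf 0)) (.node (.leaf 87670784) (.leaf 0)))) (.node (.node (.node (.leaf 47628288) (.leaf 161326446)) (.node (.leaf 72425472) (.leaf 0))) (.node (.node (.leaf 90808320) (.leaf 0)) (.node (.leaf 135341381) (.leaf 0)))))))) (.node (.node (.node (.node (.node (.node (.node (.leaf 901120) (.leaf 108544000)) (.node (.leaf 94543872) (.leaf 0))) (.node (.node (.leaf 52035584) (.leaf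 0)) (.node (.leaf 97167733) (.leaf 0)))) (.node (.node (.node (.leaf 27967488) (.leaf 130170880)) (.node (.leaf 109939032) (.leaf 0))) (.node (.node (.leaf 34834842) (.leaf 0)) (.node (.leaf 112546282) (.leaf 0))))) (.node (.node (.node (.node (.leaf 15319040) (.leaf 118710272)) (.node (.leaf 69244826) (.leaf 0))) (.node (.node (.leaf 43683920) (.leaf 0)) (.node (.leaf 82690048) (.leaf 0)))) (.node (.node (.node (.leaf 17293312) (.leaf 151914436)) (.node (.leaf 67796992) (.leaf 0))) (.node (.node (.leaf 40976384) (.leaf 0)) (.node (.leaf 150568960) (.leaf 0)))))) (.node (.node (.node (.node (.node (.leaf 8880128) (.leaf 113442816)) (.node (.leaf 99360768) (.leaf 0))) (.node (.node (.leaf 57614336) (.leaf 0)) (.node (.leaf 133693440) (.leaf 0)))) (.node (.node (.node (.leaf 34193408) (.leaf 147247092)) (.node (.leaf 117596160) (.leaf 0))) (.node (.node (.leaf 79388672) (.leaf 0)) (.node (.leaf 142547189) (.leaf 0))))) (.node (.node (.node (.node (.leaf 21774336) (.leaf 124149760)) (.node (.leaf 57360384)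 (.leaf 0))) (.node (.node (.leaf 68902912) (.leaf 0)) (.node (.leaf 86712320) (.leaf 0)))) (.node (.node (.node (.leaf 46186496) (.leaf 154050560)) (.node (.leaf 110656153) (.leaf 0))) (.node (.node (.leaf 85787155) (.leaf 0)) (.node (.leaf 103718912) (.leaf 0))))))) (.node (.node (.node (.node (.node (.node (.leaf 5603328) (.leaf 114768296)) (.node (.leaf 96935936) (.leaf 0))) (.node (.node (.leaf 54820864) (.leaf 0)) (.node (.leaf 131915776) (.leaf 0)))) (.node (.node (.node (.leaf 31080448) (.leaf 133324800)) (.node (.leaf 62578688) (.leaf 0))) (.node (.node (.leaf 76791808) (.leaf 0)) (.node (.leaf 92897280) (.leaf 0))))) (.node (.node (.node (.node (.leaf 13317133) (.leaf 121413632)) (.node (.leaf 106463232) (.leaf 0))) (.node (.node (.leaf 30318592) (.leaf 0)) (.node (.leaf 139067392) (.leaf 0)))) (.node (.node (.node (.leaf 18710528) (.leaf 150326883)) (.node (.leaf 69648384) (.leaf 0))) (.node (.node (.leaf 87015424) (.leaf 0)) (.node (.leaf 101498880) (.leaf 0)))))) (.node (.node (.node (.node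 (.node (.leaf 12115968) (.leaf 115884032)) (.node (.leaf 52314112) (.leaf 0))) (.node (.node (.leaf 41288629) (.leaf 0)) (.node (.leaf 116952650) (.leaf 0)))) (.node (.node (.node (.leaf 15851520) (.leaf 166682624)) (.node (.leaf 66101248) (.leaf 0))) (.node (.node (.leaf 81985536) (.leaf 0)) (.node (.leaf 148060268) (.leaf 0))))) (.node (.node (.node (.node (.leaf 24903680) (.leaf 148355663)) (.node (.leaf 111050752) (.leaf 0))) (.node (.node (.leaf 71491584) (.leaf 0)) (.node (.leaf 142639104) (.leaf 0)))) (.node (.node (.node (.leaf 49143808) (.leaf 160374784)) (.node (.leaf 123558929) (.leaf 0))) (.node (.node (.leaf 45694976) (.leaf 0)) (.node (.leaf 128530892) (.leaf 0))))))))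

def e1T49 : NT := .node (.node (.node (.node (.node (.node (.node (.node (.leaf 647168) (.leaf 155328512)) (.node (.leaf 93364224) (.leaf 0))) (.node (.node (.leaf 50577408) (.leaf 0)) (.node (.leaf 74235904) (.leaf 0)))) (.node (.node (.node (.leaf 11010048) (.leaf 163848192)) (.node (.leaf 67469493) (.leaf 0))) (.node (.node (.leaf 72835072) (.leaf 0)) (.node (.leaf 134260903) (.leaf 0))))) (.node (.node (.node (.node (.leaf 13729792) (.leaf 117211136)) (.node (.leaf 53141504) (.leaf 0))) (.node (.node (.leaf 61997056) (.leaf 0)) (.node (.leaf 136388608) (.leaf 0)))) (.node (.node (.node (.leaf 38756352) (.leaf 144058312)) (.node (.leaf 67002368) (.leaf 0))) (.node (.node (.leaf 83361792) (.leaf 0)) (.node (.leaf 98131968) (.leaf 0)))))) (.node (.node (.node (.node (.node (.leaf 7258112) (.leaf 112345088)) (.node (.leaf 98107392) (.leaf 0))) (.node (.node (.leaf 25149440) (.leaf 0)) (.node (.leaf 78045184) (.leaf 0)))) (.node (.node (.node (.leaf 32653312) (.leaf 165568512)) (.node (.leaf 63422464)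 (.leaf 0))) (.node (.node (.leaf 37167104) (.leaf 0)) (.node (.leaf 134022300) (.leaf 0))))) (.node (.node (.node (.node (.leaf 20258816) (.leaf 148767158)) (.node (.leaf 107642880) (.leaf 0))) (.node (.node (.leaf 67592192) (.leaf 0)) (.node (.leaf 140091392) (.leaf 0)))) (.node (.node (.node (.leaf 19431424) (.leaf 151773184)) (.node (.leaf 70590464) (.leaf 0))) (.node (.node (.leaf 43286528) (.leaf 0)) (.node (.leaf 152649728) (.leaf 0))))))) (.node (.node (.node (.node (.node (.node (.leaf 3981312) (.leaf 156647424)) (.node (.leaf 72227410) (.leaf 0))) (.node (.node (.leaf 53444608) (.leaf 0)) (.node (.leaf 130850816) (.leaf 0)))) (.node (.node (.node (.leaf 12345344) (.leaf 131727360)) (.node (.leaf 78847111) (.leaf 0))) (.node (.node (.leaf 75481088) (.leaf 0)) (.node (.leaf 145006592) (.leaf 0))))) (.node (.node (.node (.node (.leaf 16990208) (.leaf 145168544)) (.node (.leaf 105209856) (.leaf 0))) (.node (.node (.leaf 29589504) (.leaf 0)) (.node (.leaf 138149888) (.leaf 0)))) (.node (.node (.node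 (.leaf 18022400) (.leaf 153047721)) (.node (.leaf 68739072) (.leaf 0))) (.node (.node (.leaf 41738240) (.leaf 0)) (.node (.leaf 133989074) (.leaf 0)))))) (.node (.node (.node (.node (.node (.leaf 10518528) (.leaf 114663424)) (.node (.leaf 100499456) (.leaf 0))) (.node (.node (.leaf 26656768) (.leaf 0)) (.node (.leaf 79839232) (.leaf 0)))) (.node (.node (.node (.leaf 35717120) (.leaf 147520164)) (.node (.leaf 118661120) (.leaf 0))) (.node (.node (.leaf 42234728) (.leaf 0)) (.node (.leaf 148226048) (.leaf 0))))) (.node (.node (.node (.node (.leaf 23339008) (.leaf 152679018)) (.node (.leaf 109928448) (.leaf 0))) (.node (.node (.leaf 32546816) (.leaf 0)) (.node (.leaf 141795328) (.leaf 0)))) (.node (.node (.node (.leaf 47644672) (.leaf 157024256)) (.node (.leaf 92808673) (.leaf 0))) (.node (.node (.leaf 90816512) (.leaf 0)) (.node (.leaf 122279083) (.leaf 0)))))))) (.node (.node (.node (.node (.node (.node (.node (.leaf 2318336) (.leaf 108560384)) (.node (.leaf 47276032) (.leaf 0))) (.node (.node (.leaf 22994944)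 (.leaf 0)) (.node (.leaf 91502155) (.leaf 0)))) (.node (.node (.node (.leaf 27975680) (.leaf 164290560)) (.node (.leaf 60866560) (.leaf 0))) (.node (.node (.leaf 74145792) (.leaf 0)) (.node (.leaf 144211968) (.leaf 0))))) (.node (.node (.node (.node (.leaf 6250496) (.leaf 159790495)) (.node (.leaf 54018048) (.leaf 0))) (.node (.node (.leaf 28868608) (.leaf 0)) (.node (.leaf 137265152) (.leaf 0)))) (.node (.node (.node (.leaf 40173568) (.leaf 144621568)) (.node (.leaf 121847808) (.leaf 0))) (.node (.node (.leaf 72732566) (.leaf 0)) (.node (.leaf 99213312) (.leaf 0)))))) (.node (.node (.node (.node (.node (.leaf 3563520) (.leaf 113451008)) (.node (.leaf 99368960) (.leaf 0))) (.node (.node (.leaf 25911296) (.leaf 0)) (.node (.leaf 123733164) (.leaf 0)))) (.node (.node (.node (.leaf 14467072) (.leaf 165937152)) (.node (.leaf 64274432) (.leaf 0))) (.node (.node (.leaf 79396864) (.leaf 0)) (.node (.leaf 94969856) (.leaf 0))))) (.node (.node (.node (.node (.leaf 8994816) (.leaf 124174336)) (.node (.leaf 81473505)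 (.leaf 0))) (.node (.node (.leaf 68919296) (.leaf 0)) (.node (.leaf 140935168) (.leaf 0)))) (.node (.node (.node (.leaf 20127744) (.leaf 167857652)) (.node (.leaf 71516160) (.leaf 0))) (.node (.node (.leaf 44146688) (.leaf 0)) (.node (.leaf 153296896) (.leaf 0))))))) (.node (.node (.node (.node (.node (.node (.leaf 5619712) (.leaf 111083520)) (.node (.leaf 49020928) (.leaf 0))) (.node (.node (.leaf 24412160) (.leaf 0)) (.node (.leaf 131932160) (.leaf 0)))) (.node (.node (.node (.leaf 13025280) (.leaf 133341184)) (.node (.leaf 115433472) (.leaf 0))) (.node (.node (.leaf 36388864) (.leaf 0)) (.node (.leaf 140435932) (.leaf 0))))) (.node (.node (.node (.node (.leaf 18628608) (.leaf 161521664)) (.node (.leaf 55705600) (.leaf 0))) (.node (.node (.leaf 47103080) (.leaf 0)) (.node (.leaf 84754432) (.leaf 0)))) (.node (.node (.node (.leaf 43171840) (.leaf 166227679)) (.node (.leaf 98359815) (.leaf 0))) (.node (.node (.leaf 42532864) (.leaf 0)) (.node (.leaf 101507072) (.leaf 0)))))) (.node (.node (.node (.node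 (.node (.leaf 4898816) (.leaf 115900416)) (.node (.leaf 101736448) (.leaf 0))) (.node (.node (.leaf 27377664) (.leaf 0)) (.node (.leaf 80723968) (.leaf 0)))) (.node (.node (.node (.leaf 37257216) (.leaf 149423479)) (.node (.leaf 66109440) (.leaf 0))) (.node (.node (.leaf 39493632) (.leaf 0)) (.node (.leaf 149069824) (.leaf 0))))) (.node (.node (.node (.node (.leaf 10338304) (.leaf 157362790)) (.node (.leaf 111067136) (.leaf 0))) (.node (.node (.leaf 33292288) (.leaf 0)) (.node (.leaf 116797151) (.leaf 0)))) (.node (.node (.node (.leaf 21544960) (.leaf 167140239)) (.node (.leaf 77245532) (.leaf 0))) (.node (.node (.leaf 92037120) (.leaf 0)) (.node (.leaf 154705920) (.leaf 0))))))))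

def e1T50 : NT := .node (.node (.node (.node (.node (.node (.node (.node (.leaf 253952) (.leaf 155344896)) (.node (.leaf 93380608) (.leaf 0))) (.node (.node (.leaf 22257664) (.leaf 0)) (.node (.leaf 83780809) (.leaf 0)))) (.node (.node (.node (.leaf 26451968) (.leaf 137160440)) (.node (.leaf 112140288) (.leaf 0))) (.node (.node (.leaf 34095104) (.leaf 0)) (.node (.leaf 143376384) (.leaf 0))))) (.node (.node (.node (.node (.leaf 13746176) (.leaf 159916032)) (.node (.leaf 102875136) (.leaf 0))) (.node (.node (.leaf 62013440) (.leaf 0)) (.node (.leaf 136396800) (.leaf 0)))) (.node (.node (.node (.leaf 38772736) (.leaf 142786560)) (.node (.leaf 120758272) (.leaf 0))) (.node (.node (.leaf 40239104) (.leaf 0)) (.node (.leaf 98148352) (.leaf 0)))))) (.node (.node (.node (.node (.node (.leaf 2899968) (.leaf 153114444)) (.node (.leaf 49872896) (.leaf 0))) (.node (.node (.leaf 56213504) (.leaf 0)) (.node (.leaf 93500751) (.leaf 0)))) (.node (.node (.node (.leaf 13737984) (.leaf 164421979)) (.node (.leaf 83302487)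 (.leaf 0))) (.node (.node (.leaf 78127104) (.leaf 0)) (.node (.leaf 146743296) (.leaf 0))))) (.node (.node (.node (.node (.leaf 8314880) (.leaf 162062336)) (.node (.leaf 107651072) (.leaf 0))) (.node (.node (.leaf 31039488) (.leaf 0)) (.node (.leaf 123938659) (.leaf 0)))) (.node (.node (.node (.leaf 44711936) (.leaf 152154479)) (.node (.leaf 124936192) (.leaf 0))) (.node (.node (.leaf 88334336) (.leaf 0)) (.node (.leaf 102744064) (.leaf 0))))))) (.node (.node (.node (.node (.node (.node (.leaf 3997696) (.leaf 144568835)) (.node (.leaf 88949572) (.leaf 0))) (.node (.node (.leaf 53460992) (.leaf 0)) (.node (.leaf 119208435) (.leaf 0)))) (.node (.node (.node (.leaf 29532160) (.leaf 138744166)) (.node (.leaf 61726720) (.leaf 0))) (.node (.node (.leaf 35577856) (.leaf 0)) (.node (.leaf 91963392) (.leaf 0))))) (.node (.node (.node (.node (.leaf 17006592) (.leaf 143257590)) (.node (.leaf 54837248) (.leaf 0))) (.node (.node (.leaf 64749568) (.leaf 0)) (.node (.leaf 83714048) (.leaf 0)))) (.node (.node (.node (.leaf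 41721856) (.leaf 146874368)) (.node (.leaf 108434599) (.leaf 0))) (.node (.node (.leaf 85794816) (.leaf 0)) (.node (.leaf 100352000) (.leaf 0)))))) (.node (.node (.node (.node (.node (.leaf 4251648) (.leaf 114671616)) (.node (.leaf 51511296) (.leaf 0))) (.node (.node (.leaf 59154432) (.leaf 0)) (.node (.leaf 80027895) (.leaf 0)))) (.node (.node (.node (.leaf 35733504) (.leaf 166313984)) (.node (.leaf 117255673) (.leaf 0))) (.node (.node (.leaf 38797312) (.leaf 0)) (.node (.leaf 148234240) (.leaf 0))))) (.node (.node (.node (.node (.leaf 9682944) (.leaf 129746822)) (.node (.leaf 58204160) (.leaf 0))) (.node (.node (.leaf 68784037) (.leaf 0)) (.node (.leaf 141803520) (.leaf 0)))) (.node (.node (.node (.leaf 20824064) (.leaf 166495521)) (.node (.leaf 127066112) (.leaf 0))) (.node (.node (.leaf 44924928) (.leaf 0)) (.node (.leaf 104972288) (.leaf 0)))))))) (.node (.node (.node (.node (.node (.node (.node (.leaf 2334720) (.leaf 119573951)) (.node (.leaf 94568448) (.leaf 0))) (.node (.node (.leaf 52060160) (.leaf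 0)) (.node (.leaf 129990656) (.leaf 0)))) (.node (.node (.node (.leaf 27992064) (.leaf 142806920)) (.node (.leaf 113229824) (.leaf 0))) (.node (.node (.leaf 74162176) (.leaf 0)) (.node (.leaf 90800128) (.leaf 0))))) (.node (.node (.node (.node (.leaf 15343616) (.leaf 136633343)) (.node (.leaf 103948288) (.leaf 0))) (.node (.node (.leaf 63438848) (.leaf 0)) (.node (.leaf 82706432) (.leaf 0)))) (.node (.node (.node (.leaf 40189952) (.leaf 166642892)) (.node (.leaf 121864192) (.leaf 0))) (.node (.node (.leaf 84615168) (.leaf 0)) (.node (.leaf 99221504) (.leaf 0)))))) (.node (.node (.node (.node (.node (.leaf 8904704) (.leaf 156303481)) (.node (.leaf 77701516) (.leaf 0))) (.node (.node (.leaf 57638912) (.leaf 0)) (.node (.leaf 78921728) (.leaf 0)))) (.node (.node (.node (.leaf 34217984) (.leaf 136716288)) (.node (.leaf 64282624) (.leaf 0))) (.node (.node (.leaf 79413248) (.leaf 0)) (.node (.leaf 147488768) (.leaf 0))))) (.node (.node (.node (.node (.leaf 21798912) (.leaf 143294557)) (.node (.leaf 91297111)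 (.leaf 0))) (.node (.node (.leaf 52589739) (.leaf 0)) (.node (.leaf 86720512) (.leaf 0)))) (.node (.node (.node (.leaf 46211072) (.leaf 167058042)) (.node (.leaf 126017536) (.leaf 0))) (.node (.node (.leaf 44163072) (.leaf 0)) (.node (.leaf 103727104) (.leaf 0))))))) (.node (.node (.node (.node (.node (.node (.leaf 2236416) (.leaf 119018813)) (.node (.leaf 65997602) (.leaf 0))) (.node (.node (.leaf 54845440) (.leaf 0)) (.node (.leaf 131940352) (.leaf 0)))) (.node (.node (.node (.leaf 31105024) (.leaf 165216256)) (.node (.leaf 62586880) (.leaf 0))) (.node (.node (.leaf 76816384) (.leaf 0)) (.node (.leaf 139475155) (.leaf 0))))) (.node (.node (.node (.node (.leaf 7626752) (.leaf 121421824)) (.node (.leaf 106487808) (.leaf 0))) (.node (.node (.leaf 66183168) (.leaf 0)) (.node (.leaf 139075584) (.leaf 0)))) (.node (.node (.node (.leaf 43188224) (.leaf 149110784)) (.node (.leaf 114636439) (.leaf 0))) (.node (.node (.leaf 87040000) (.leaf 0)) (.node (.leaf 152002560) (.leaf 0)))))) (.node (.node (.node (.node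 (.node (.leaf 12140544) (.leaf 159408128)) (.node (.leaf 52322304) (.leaf 0))) (.node (.node (.leaf 60620800) (.leaf 0)) (.node (.leaf 135553024) (.leaf 0)))) (.node (.node (.node (.leaf 15859712) (.leaf 165744548)) (.node (.leaf 119685120) (.leaf 0))) (.node (.node (.leaf 82010112) (.leaf 0)) (.node (.leaf 97124352) (.leaf 0))))) (.node (.node (.node (.node (.leaf 24928256) (.leaf 163364864)) (.node (.leaf 59015168) (.leaf 0))) (.node (.node (.leaf 67449572) (.leaf 0)) (.node (.leaf 88735744) (.leaf 0)))) (.node (.node (.node (.leaf 49152000) (.leaf 167131931)) (.node (.leaf 73367552) (.leaf 0))) (.node (.node (.leaf 92045312) (.leaf 0)) (.node (.leaf 154714112) (.leaf 0))))))))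

def e1T51 : NT := .node (.node (.node (.node (.node (.node (.node (.node (.leaf 671744) (.leaf 141610942)) (.node (.leaf 46489600) (.leaf 0))) (.node (.node (.leaf 50593792) (.leaf 0)) (.node (.leaf 74252288) (.leaf 0)))) (.node (.node (.node (.leaf 26468352) (.leaf 163864576)) (.node (.leaf 59924480) (.leaf 0))) (.node (.node (.leaf 72851456) (.leaf 0)) (.node (.leaf 89751552) (.leaf 0))))) (.node (.node (.node (.node (.leaf 5586944) (.leaf 117260288)) (.node (.leaf 96519772) (.leaf 0))) (.node (.node (.leaf 62029824) (.leaf 0)) (.node (.leaf 81764352) (.leaf 0)))) (.node (.node (.node (.leaf 16588800) (.leaf 164802379)) (.node (.leaf 67010560) (.leaf 0))) (.node (.node (.leaf 83378176) (.leaf 0)) (.node (.leaf 126250220) (.leaf 0)))))) (.node (.node (.node (.node (.node (.leaf 7282688) (.leaf 112353280)) (.node (.leaf 83431911) (.leaf 0))) (.node (.node (.leaf 56229888) (.leaf 0)) (.node (.leaf 78053376) (.leaf 0)))) (.node (.node (.node (.leaf 32677888) (.leaf 134995968)) (.node (.leaf 63430656) (.leaf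 0))) (.node (.node (.leaf 37208064) (.leaf 0)) (.node (.leaf 94062180) (.leaf 0))))) (.node (.node (.node (.node (.leaf 20283392) (.leaf 122699776)) (.node (.leaf 56524800) (.leaf 0))) (.node (.node (.leaf 41234598) (.leaf 0)) (.node (.leaf 85753856) (.leaf 0)))) (.node (.node (.node (.leaf 44728320) (.leaf 159648879)) (.node (.leaf 93029147) (.leaf 0))) (.node (.node (.leaf 88350720) (.leaf 0)) (.node (.leaf 130658221) (.leaf 0))))))) (.node (.node (.node (.node (.node (.node (.leaf 1572864) (.leaf 137538513)) (.node (.leaf 48193536) (.leaf 0))) (.node (.node (.leaf 23699456) (.leaf 0)) (.node (.leaf 130875392) (.leaf 0)))) (.node (.node (.node (.leaf 29548544) (.leaf 131743744)) (.node (.leaf 114302976) (.leaf 0))) (.node (.node (.leaf 45838221) (.leaf 0)) (.node (.leaf 145022976) (.leaf 0))))) (.node (.node (.node (.node (.leaf 6946816) (.leaf 161054720)) (.node (.leaf 105226240) (.leaf 0))) (.node (.node (.leaf 64765952) (.leaf 0)) (.node (.leaf 83730432) (.leaf 0)))) (.node (.node (.node (.leaf 18030592)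 (.leaf 165459163)) (.node (.leaf 116572767) (.leaf 0))) (.node (.node (.leaf 85811200) (.leaf 0)) (.node (.leaf 149890139) (.leaf 0)))))) (.node (.node (.node (.node (.node (.leaf 10543104) (.leaf 122158238)) (.node (.leaf 100524032) (.leaf 0))) (.node (.node (.leaf 26664960) (.leaf 0)) (.node (.leaf 134602752) (.leaf 0)))) (.node (.node (.node (.leaf 15196160) (.leaf 138633216)) (.node (.leaf 65200128) (.leaf 0))) (.node (.node (.leaf 38813696) (.leaf 0)) (.node (.leaf 148242432) (.leaf 0))))) (.node (.node (.node (.node (.leaf 23355392) (.leaf 125550592)) (.node (.leaf 109953024) (.leaf 0))) (.node (.node (.leaf 70197248) (.leaf 0)) (.node (.leaf 141819904) (.leaf 0)))) (.node (.node (.node (.leaf 47669248) (.leaf 157668177)) (.node (.leaf 72441856) (.leaf 0))) (.node (.node (.leaf 90832896) (.leaf 0)) (.node (.leaf 110897787) (.leaf 0)))))))) (.node (.node (.node (.node (.node (.node (.node (.leaf 917504) (.leaf 108576768)) (.node (.leaf 47284224) (.leaf 0))) (.node (.node (.leaf 52068352) (.leaf 0))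 (.node (.leaf 75227136) (.leaf 0)))) (.node (.node (.node (.leaf 11681792) (.leaf 130195456)) (.node (.leaf 73018109) (.leaf 0))) (.node (.node (.leaf 34848768) (.leaf 0)) (.node (.leaf 133535579) (.leaf 0))))) (.node (.node (.node (.node (.leaf 15360000) (.leaf 160212660)) (.node (.leaf 54026240) (.leaf 0))) (.node (.node (.leaf 28876800) (.leaf 0)) (.node (.leaf 82722816) (.leaf 0)))) (.node (.node (.node (.leaf 40206336) (.leaf 166948930)) (.node (.leaf 67813376) (.leaf 0))) (.node (.node (.leaf 40992768) (.leaf 0)) (.node (.leaf 99229696) (.leaf 0)))))) (.node (.node (.node (.node (.node (.leaf 8921088) (.leaf 158285824)) (.node (.leaf 50683904) (.leaf 0))) (.node (.node (.leaf 25919488) (.leaf 0)) (.node (.leaf 117970556) (.leaf 0)))) (.node (.node (.node (.leaf 14483456) (.leaf 156658092)) (.node (.leaf 117620736) (.leaf 0))) (.node (.node (.leaf 37978112) (.leaf 0)) (.node (.leaf 94986240) (.leaf 0))))) (.node (.node (.node (.node (.leaf 21815296) (.leaf 162537472)) (.node (.leaf 57376768) (.leaf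 0))) (.node (.node (.leaf 68935680) (.leaf 0)) (.node (.leaf 99291426) (.leaf 0)))) (.node (.node (.node (.leaf 20135936) (.leaf 167886848)) (.node (.leaf 126033920) (.leaf 0))) (.node (.node (.leaf 89653248) (.leaf 0)) (.node (.leaf 103735296) (.leaf 0))))))) (.node (.node (.node (.node (.node (.node (.leaf 5644288) (.leaf 111091712)) (.node (.leaf 96968704) (.leaf 0))) (.node (.node (.leaf 24428544) (.leaf 0)) (.node (.leaf 77201408) (.leaf 0)))) (.node (.node (.node (.leaf 13033472) (.leaf 150070758)) (.node (.leaf 70028765) (.leaf 0))) (.node (.node (.leaf 73013388) (.leaf 0)) (.node (.leaf 92930048) (.leaf 0))))) (.node (.node (.node (.node (.leaf 18653184) (.leaf 161529856)) (.node (.leaf 55713792) (.leaf 0))) (.node (.node (.leaf 30334976) (.leaf 0)) (.node (.leaf 117508292) (.leaf 0)))) (.node (.node (.node (.leaf 18726912) (.leaf 163697046)) (.node (.leaf 69664768) (.leaf 0))) (.node (.node (.leaf 87056384) (.leaf 0)) (.node (.leaf 121969790) (.leaf 0)))))) (.node (.node (.node (.node (.node (.leaf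 12156928) (.leaf 115908608)) (.node (.leaf 101752832) (.leaf 0))) (.node (.node (.leaf 27385856) (.leaf 0)) (.node (.leaf 83201557) (.leaf 0)))) (.node (.node (.node (.leaf 37273600) (.leaf 166426625)) (.node (.leaf 66125824) (.leaf 0))) (.node (.node (.leaf 82026496) (.leaf 0)) (.node (.leaf 149078016) (.leaf 0))))) (.node (.node (.node (.node (.leaf 24944640) (.leaf 126984192)) (.node (.leaf 111075328) (.leaf 0))) (.node (.node (.leaf 71524352) (.leaf 0)) (.node (.leaf 142655488) (.leaf 0)))) (.node (.node (.node (.leaf 49168384) (.leaf 160407552)) (.node (.leaf 82041965) (.leaf 0))) (.node (.node (.leaf 45711360) (.leaf 0)) (.node (.leaf 111199654) (.leaf 0))))))))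

def e1T52 : NT := .node (.node (.node (.node (.node (.node (.node (.node (.leaf 262144) (.leaf 107421696)) (.node (.leaf 93405184) (.leaf 0))) (.node (.node (.leaf 22265856) (.leaf 0)) (.node (.leaf 128958464) (.leaf 0)))) (.node (.node (.node (.leaf 11026432) (.leaf 128540672)) (.node (.leaf 91859651) (.leaf 0))) (.node (.node (.leaf 72867840) (.leaf 0)) (.node (.leaf 142503238) (.leaf 0))))) (.node (.node (.node (.node (.leaf 5595136) (.leaf 117293056)) (.node (.leaf 53157888) (.leaf 0))) (.node (.node (.leaf 62046208) (.leaf 0)) (.node (.leaf 136413184) (.leaf 0)))) (.node (.node (.node (.leaf 38789120) (.leaf 142811136)) (.node (.leaf 67018752) (.leaf 0))) (.node (.node (.leaf 58669729) (.leaf 0)) (.node (.leaf 98164736) (.leaf 0)))))) (.node (.node (.node (.node (.node (.leaf 7299072) (.leaf 144008729)) (.node (.leaf 49889280) (.leaf 0))) (.node (.node (.leaf 25165824) (.leaf 0)) (.node (.leaf 123054383) (.leaf 0)))) (.node (.node (.node (.leaf 32694272) (.leaf 165318272)) (.node (.leaf 71062410)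 (.leaf 0))) (.node (.node (.leaf 78135296) (.leaf 0)) (.node (.leaf 104346903) (.leaf 0))))) (.node (.node (.node (.node (.leaf 20299776) (.leaf 162078720)) (.node (.leaf 103660330) (.leaf 0))) (.node (.node (.leaf 67624960) (.leaf 0)) (.node (.leaf 135400674) (.leaf 0)))) (.node (.node (.node (.leaf 19447808) (.leaf 151838720)) (.node (.leaf 70606848) (.leaf 0))) (.node (.node (.leaf 43311104) (.leaf 0)) (.node (.leaf 152666112) (.leaf 0))))))) (.node (.node (.node (.node (.node (.node (.leaf 4014080) (.leaf 109862912)) (.node (.leaf 95789056) (.leaf 0))) (.node (.node (.leaf 53485568) (.leaf 0)) (.node (.leaf 130883584) (.leaf 0)))) (.node (.node (.node (.leaf 12361728) (.leaf 131768320)) (.node (.leaf 92000771) (.leaf 0))) (.node (.node (.leaf 35586048) (.leaf 0)) (.node (.leaf 98440886) (.leaf 0))))) (.node (.node (.node (.node (.leaf 17031168) (.leaf 161062912)) (.node (.leaf 105234432) (.leaf 0))) (.node (.node (.leaf 29605888) (.leaf 0)) (.node (.leaf 127265262) (.leaf 0)))) (.node (.node (.node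 (.leaf 41746432) (.leaf 165163152)) (.node (.leaf 122888192) (.leaf 0))) (.node (.node (.leaf 41754624) (.leaf 0)) (.node (.leaf 128354146) (.leaf 0)))))) (.node (.node (.node (.node (.node (.leaf 10559488) (.leaf 114696192)) (.node (.leaf 51519488) (.leaf 0))) (.node (.node (.leaf 59179008) (.leaf 0)) (.node (.leaf 85563684) (.leaf 0)))) (.node (.node (.node (.leaf 35749888) (.leaf 155903163)) (.node (.leaf 65224704) (.leaf 0))) (.node (.node (.leaf 57053362) (.leaf 0)) (.node (.leaf 96108544) (.leaf 0))))) (.node (.node (.node (.node (.leaf 9691136) (.leaf 163012608)) (.node (.leaf 105798673) (.leaf 0))) (.node (.node (.leaf 70213632) (.leaf 0)) (.node (.leaf 87728128) (.leaf 0)))) (.node (.node (.node (.leaf 20832256) (.leaf 166104768)) (.node (.leaf 127082496) (.leaf 0))) (.node (.node (.leaf 44933120) (.leaf 0)) (.node (.leaf 104988672) (.leaf 0)))))))) (.node (.node (.node (.node (.node (.node (.node (.leaf 2359296) (.leaf 140820713)) (.node (.leaf 66966205) (.leaf 0))) (.node (.node (.leaf 23011328)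 (.leaf 0)) (.node (.leaf 76761349) (.leaf 0)))) (.node (.node (.node (.leaf 28016640) (.leaf 164306944)) (.node (.leaf 60882944) (.leaf 0))) (.node (.node (.leaf 74178560) (.leaf 0)) (.node (.leaf 144236544) (.leaf 0))))) (.node (.node (.node (.node (.leaf 15376384) (.leaf 118751232)) (.node (.leaf 103972864) (.leaf 0))) (.node (.node (.leaf 63463424) (.leaf 0)) (.node (.leaf 123164144) (.leaf 0)))) (.node (.node (.node (.leaf 17317888) (.leaf 144654336)) (.node (.leaf 121888768) (.leaf 0))) (.node (.node (.leaf 84639744) (.leaf 0)) (.node (.leaf 150577152) (.leaf 0)))))) (.node (.node (.node (.node (.node (.leaf 3579904) (.leaf 113467392)) (.node (.leaf 89257671) (.leaf 0))) (.node (.node (.leaf 57663488) (.leaf 0)) (.node (.leaf 78938112) (.leaf 0)))) (.node (.node (.node (.leaf 34234368) (.leaf 138806665)) (.node (.leaf 68652826) (.leaf 0))) (.node (.node (.leaf 79437824) (.leaf 0)) (.node (.leaf 147496960) (.leaf 0))))) (.node (.node (.node (.node (.leaf 9011200) (.leaf 124190720)) (.node (.leaf 108838912)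 (.leaf 0))) (.node (.node (.leaf 31834112) (.leaf 0)) (.node (.leaf 140951552) (.leaf 0)))) (.node (.node (.node (.leaf 46235648) (.leaf 157887801)) (.node (.leaf 71532544) (.leaf 0))) (.node (.node (.leaf 44171264) (.leaf 0)) (.node (.leaf 153313280) (.leaf 0))))))) (.node (.node (.node (.node (.node (.node (.leaf 2244608) (.leaf 121547944)) (.node (.leaf 49037312) (.leaf 0))) (.node (.node (.leaf 54870016) (.leaf 0)) (.node (.leaf 80738833) (.leaf 0)))) (.node (.node (.node (.leaf 31129600) (.leaf 165232640)) (.node (.leaf 115458048) (.leaf 0))) (.node (.node (.leaf 36405248) (.leaf 0)) (.node (.leaf 114994394) (.leaf 0))))) (.node (.node (.node (.node (.leaf 18669568) (.leaf 126801259)) (.node (.leaf 58961415) (.leaf 0))) (.node (.node (.leaf 66207744) (.leaf 0)) (.node (.leaf 84770816) (.leaf 0)))) (.node (.node (.node (.leaf 39238809) (.leaf 149151744)) (.node (.leaf 112458676) (.leaf 0))) (.node (.node (.leaf 87064576) (.leaf 0)) (.node (.leaf 101523456) (.leaf 0)))))) (.node (.node (.node (.node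 (.node (.leaf 4915200) (.leaf 155249951)) (.node (.leaf 101761024) (.leaf 0))) (.node (.node (.leaf 60645376) (.leaf 0)) (.node (.leaf 94788531) (.leaf 0)))) (.node (.node (.node (.leaf 37289984) (.leaf 140681216)) (.node (.leaf 119701504) (.leaf 0))) (.node (.node (.leaf 39510016) (.leaf 0)) (.node (.leaf 109126110) (.leaf 0))))) (.node (.node (.node (.node (.leaf 10354688) (.leaf 146820866)) (.node (.leaf 59031552) (.leaf 0))) (.node (.node (.leaf 71540736) (.leaf 0)) (.node (.leaf 99377428) (.leaf 0)))) (.node (.node (.node (.leaf 21561344) (.leaf 160448512)) (.node (.leaf 128040960) (.leaf 0))) (.node (.node (.leaf 92061696) (.leaf 0)) (.node (.leaf 106160128) (.leaf 0))))))))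

def e1T53 : NT := .node (.node (.node (.node (.node (.node (.node (.node (.leaf 696320) (.leaf 155369472)) (.node (.leaf 46497792) (.leaf 0))) (.node (.node (.leaf 25603927) (.leaf 0)) (.node (.leaf 74260480) (.leaf 0)))) (.node (.node (.node (.leaf 26484736) (.leaf 128548864)) (.node (.leaf 112156672) (.leaf 0))) (.node (.node (.leaf 34111488) (.leaf 0)) (.node (.leaf 93158548) (.leaf 0))))) (.node (.node (.node (.node (.leaf 13778944) (.leaf 117301248)) (.node (.leaf 102899712) (.leaf 0))) (.node (.node (.leaf 62062592) (.leaf 0)) (.node (.leaf 126635087) (.leaf 0)))) (.node (.node (.node (.leaf 33992833) (.leaf 156575370)) (.node (.leaf 120766464) (.leaf 0))) (.node (.node (.leaf 40255488) (.leaf 0)) (.node (.leaf 98181120) (.leaf 0)))))) (.node (.node (.node (.node (.node (.leaf 2916352) (.leaf 112377856)) (.node (.leaf 75092640) (.leaf 0))) (.node (.node (.leaf 37302532) (.leaf 0)) (.node (.leaf 132792320) (.leaf 0)))) (.node (.node (.node (.leaf 13754368) (.leaf 135012352)) (.node (.leaf 116547584)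 (.leaf 0))) (.node (.node (.leaf 78151680) (.leaf 0)) (.node (.leaf 93954048) (.leaf 0))))) (.node (.node (.node (.node (.leaf 8331264) (.leaf 122707968)) (.node (.leaf 107667456) (.leaf 0))) (.node (.node (.leaf 31055872) (.leaf 0)) (.node (.leaf 85762048) (.leaf 0)))) (.node (.node (.node (.leaf 44752896) (.leaf 151871488)) (.node (.leaf 124952576) (.leaf 0))) (.node (.node (.leaf 88375296) (.leaf 0)) (.node (.leaf 102760448) (.leaf 0))))))) (.node (.node (.node (.node (.node (.node (.leaf 1581056) (.leaf 138550248)) (.node (.leaf 48201728) (.leaf 0))) (.node (.node (.leaf 23715840) (.leaf 0)) (.node (.leaf 120346167) (.leaf 0)))) (.node (.node (.node (.leaf 29573120) (.leaf 164839424)) (.node (.leaf 61743104) (.leaf 0))) (.node (.node (.leaf 75513856) (.leaf 0)) (.node (.leaf 125470100) (.leaf 0))))) (.node (.node (.node (.node (.leaf 6955008) (.leaf 135313288)) (.node (.leaf 54853632) (.leaf 0))) (.node (.node (.leaf 64782336) (.leaf 0)) (.node (.leaf 90012247) (.leaf 0)))) (.node (.node (.node (.leaf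 41762816) (.leaf 152106558)) (.node (.leaf 99305612) (.leaf 0))) (.node (.node (.leaf 85827584) (.leaf 0)) (.node (.leaf 151289856) (.leaf 0)))))) (.node (.node (.node (.node (.node (.leaf 4268032) (.leaf 138611049)) (.node (.leaf 100548608) (.leaf 0))) (.node (.node (.leaf 59195392) (.leaf 0)) (.node (.leaf 88756514) (.leaf 0)))) (.node (.node (.node (.leaf 15204352) (.leaf 138641408)) (.node (.leaf 69771606) (.leaf 0))) (.node (.node (.leaf 38821888) (.leaf 0)) (.node (.leaf 121738047) (.leaf 0))))) (.node (.node (.node (.node (.leaf 23371776) (.leaf 150606692)) (.node (.leaf 58220544) (.leaf 0))) (.node (.node (.leaf 70230016) (.leaf 0)) (.node (.leaf 127074980) (.leaf 0)))) (.node (.node (.node (.leaf 47693824) (.leaf 164823187)) (.node (.leaf 72450048) (.leaf 0))) (.node (.node (.leaf 90849280) (.leaf 0)) (.node (.leaf 104996864) (.leaf 0)))))))) (.node (.node (.node (.node (.node (.node (.node (.leaf 2375680) (.leaf 156065792)) (.node (.leaf 94601216) (.leaf 0))) (.node (.node (.leaf 52092928) (.leaf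 0)) (.node (.leaf 75235328) (.leaf 0)))) (.node (.node (.node (.leaf 11689984) (.leaf 164315136)) (.node (.leaf 113254400) (.leaf 0))) (.node (.node (.leaf 74194944) (.leaf 0)) (.node (.leaf 144252928) (.leaf 0))))) (.node (.node (.node (.node (.leaf 6275072) (.leaf 160530432)) (.node (.leaf 77748621) (.leaf 0))) (.node (.node (.leaf 28884992) (.leaf 0)) (.node (.leaf 137281536) (.leaf 0)))) (.node (.node (.node (.leaf 40230912) (.leaf 163677344)) (.node (.leaf 117427543) (.leaf 0))) (.node (.node (.leaf 84656128) (.leaf 0)) (.node (.leaf 150585344) (.leaf 0)))))) (.node (.node (.node (.node (.node (.leaf 8945664) (.leaf 139980919)) (.node (.leaf 50692096) (.leaf 0))) (.node (.node (.leaf 28744545) (.leaf 0)) (.node (.leaf 96808347) (.leaf 0)))) (.node (.node (.node (.leaf 14491648) (.leaf 140278248)) (.node (.leaf 64299008) (.leaf 0))) (.node (.node (.leaf 37986304) (.leaf 0)) (.node (.leaf 95002624) (.leaf 0))))) (.node (.node (.node (.node (.leaf 21839872) (.leaf 124207104)) (.node (.leaf 57393152)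 (.leaf 0))) (.node (.node (.leaf 41864318) (.leaf 0)) (.node (.leaf 86745088) (.leaf 0)))) (.node (.node (.node (.leaf 46243840) (.leaf 154165248)) (.node (.leaf 118517815) (.leaf 0))) (.node (.node (.leaf 45646633) (.leaf 0)) (.node (.leaf 103776256) (.leaf 0))))))) (.node (.node (.node (.node (.node (.node (.leaf 5668864) (.leaf 111116288)) (.node (.leaf 96985088) (.leaf 0))) (.node (.node (.leaf 24436736) (.leaf 0)) (.node (.leaf 131964928) (.leaf 0)))) (.node (.node (.node (.leaf 31145984) (.leaf 133414912)) (.node (.leaf 62603264) (.leaf 0))) (.node (.node (.leaf 76840960) (.leaf 0)) (.node (.leaf 92946432) (.leaf 0))))) (.node (.node (.node (.node (.leaf 7643136) (.leaf 121446400)) (.node (.leaf 55730176) (.leaf 0))) (.node (.node (.leaf 66224128) (.leaf 0)) (.node (.leaf 117658660) (.leaf 0)))) (.node (.node (.node (.leaf 43220992) (.leaf 152908510)) (.node (.leaf 69681152) (.leaf 0))) (.node (.node (.leaf 42557440) (.leaf 0)) (.node (.leaf 152010752) (.leaf 0)))))) (.node (.node (.node (.node (.node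 (.leaf 12181504) (.leaf 159432704)) (.node (.leaf 68816180) (.leaf 0))) (.node (.node (.leaf 60661760) (.leaf 0)) (.node (.leaf 80748544) (.leaf 0)))) (.node (.node (.node (.leaf 37306368) (.leaf 148784786)) (.node (.leaf 76158251) (.leaf 0))) (.node (.node (.leaf 82051072) (.leaf 0)) (.node (.leaf 97148928) (.leaf 0))))) (.node (.node (.node (.node (.leaf 22606302) (.leaf 126992384)) (.node (.leaf 72996817) (.leaf 0))) (.node (.node (.leaf 71548928) (.leaf 0)) (.node (.leaf 142663680) (.leaf 0)))) (.node (.node (.node (.leaf 49192960) (.leaf 166924852)) (.node (.leaf 94442134) (.leaf 0))) (.node (.node (.leaf 45719552) (.leaf 0)) (.node (.leaf 154730496) (.leaf 0))))))))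

def e1T54 : NT := .node (.node (.node (.node (.node (.node (.node (.node (.leaf 712704) (.leaf 107429888)) (.node (.leaf 93429760) (.leaf 0))) (.node (.node (.leaf 33998545) (.leaf 0)) (.node (.leaf 128974848) (.leaf 0)))) (.node (.node (.node (.leaf 11034624) (.leaf 150250679)) (.node (.leaf 112164864) (.leaf 0))) (.node (.node (.leaf 72892416) (.leaf 0)) (.node (.leaf 143409152) (.leaf 0))))) (.node (.node (.node (.node (.leaf 13795328) (.leaf 117309440)) (.node (.leaf 53166080) (.leaf 0))) (.node (.node (.leaf 62078976) (.leaf 0)) (.node (.leaf 81780736) (.leaf 0)))) (.node (.node (.node (.leaf 16605184) (.leaf 158241546)) (.node (.leaf 120782848) (.leaf 0))) (.node (.node (.leaf 83394560) (.leaf 0)) (.node (.leaf 143893774) (.leaf 0)))))) (.node (.node (.node (.node (.node (.leaf 7323648) (.leaf 112394240)) (.node (.leaf 49897472) (.leaf 0))) (.node (.node (.leaf 25174016) (.leaf 0)) (.node (.leaf 78069760) (.leaf 0)))) (.node (.node (.node (.leaf 32710656) (.leaf 149748030)) (.node (.leaf 63447040)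 (.leaf 0))) (.node (.node (.leaf 78168064) (.leaf 0)) (.node (.leaf 146759680) (.leaf 0))))) (.node (.node (.node (.node (.leaf 20324352) (.leaf 156638225)) (.node (.leaf 107683840) (.leaf 0))) (.node (.node (.leaf 67649536) (.leaf 0)) (.node (.leaf 111434515) (.leaf 0)))) (.node (.node (.node (.leaf 19456000) (.leaf 164286824)) (.node (.leaf 70623232) (.leaf 0))) (.node (.node (.leaf 88391680) (.leaf 0)) (.node (.leaf 139381382) (.leaf 0))))))) (.node (.node (.node (.node (.node (.node (.leaf 4038656) (.leaf 109871104)) (.node (.leaf 95813632) (.leaf 0))) (.node (.node (.leaf 53510144) (.leaf 0)) (.node (.leaf 76259328) (.leaf 0)))) (.node (.node (.node (.leaf 12369920) (.leaf 152119410)) (.node (.leaf 114335744) (.leaf 0))) (.node (.node (.leaf 75530240) (.leaf 0)) (.node (.leaf 117770166) (.leaf 0))))) (.node (.node (.node (.node (.leaf 17055744) (.leaf 120193024)) (.node (.leaf 54861824) (.leaf 0))) (.node (.node (.leaf 29614080) (.leaf 0)) (.node (.leaf 83763200) (.leaf 0)))) (.node (.node (.node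 (.leaf 18046976) (.leaf 146931712)) (.node (.leaf 122904576) (.leaf 0))) (.node (.node (.leaf 41779200) (.leaf 0)) (.node (.leaf 151298048) (.leaf 0)))))) (.node (.node (.node (.node (.node (.leaf 10584064) (.leaf 114720768)) (.node (.leaf 100564992) (.leaf 0))) (.node (.node (.leaf 26681344) (.leaf 0)) (.node (.leaf 79896576) (.leaf 0)))) (.node (.node (.node (.leaf 35774464) (.leaf 166330368)) (.node (.leaf 118702080) (.leaf 0))) (.node (.node (.leaf 80740352) (.leaf 0)) (.node (.leaf 148250624) (.leaf 0))))) (.node (.node (.node (.node (.leaf 9707520) (.leaf 163020800)) (.node (.leaf 80835457) (.leaf 0))) (.node (.node (.leaf 70246400) (.leaf 0)) (.node (.leaf 141836288) (.leaf 0)))) (.node (.node (.node (.leaf 28701577) (.leaf 157130752)) (.node (.leaf 127098880) (.leaf 0))) (.node (.node (.leaf 90865664) (.leaf 0)) (.node (.leaf 146825250) (.leaf 0)))))))) (.node (.node (.node (.node (.node (.node (.node (.leaf 933888) (.leaf 108601344)) (.node (.leaf 47300608) (.leaf 0))) (.node (.node (.leaf 23019520)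 (.leaf 0)) (.node (.leaf 130015232) (.leaf 0)))) (.node (.node (.node (.leaf 18272842) (.leaf 130252800)) (.node (.leaf 60891136) (.leaf 0))) (.node (.node (.leaf 74211328) (.leaf 0)) (.node (.leaf 90824704) (.leaf 0))))) (.node (.node (.node (.node (.leaf 15400960) (.leaf 118775808)) (.node (.leaf 54042624) (.leaf 0))) (.node (.node (.leaf 63488000) (.leaf 0)) (.node (.leaf 82739200) (.leaf 0)))) (.node (.node (.node (.leaf 40247296) (.leaf 162563762)) (.node (.leaf 67829760) (.leaf 0))) (.node (.node (.leaf 84672512) (.leaf 0)) (.node (.leaf 99262464) (.leaf 0)))))) (.node (.node (.node (.node (.node (.leaf 3588096) (.leaf 113475584)) (.node (.leaf 50700288) (.leaf 0))) (.node (.node (.leaf 25935872) (.leaf 0)) (.node (.leaf 78954496) (.leaf 0)))) (.node (.node (.node (.leaf 34258944) (.leaf 147146675)) (.node (.leaf 117628928) (.leaf 0))) (.node (.node (.leaf 79462400) (.leaf 0)) (.node (.leaf 145015689) (.leaf 0))))) (.node (.node (.node (.node (.leaf 9019392) (.leaf 162545664)) (.node (.leaf 108855296)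 (.leaf 0))) (.node (.node (.leaf 31850496) (.leaf 0)) (.node (.leaf 140976128) (.leaf 0)))) (.node (.node (.node (.leaf 46260224) (.leaf 154173440)) (.node (.leaf 71557120) (.leaf 0))) (.node (.node (.leaf 89677824) (.leaf 0)) (.node (.leaf 128862595) (.leaf 0))))))) (.node (.node (.node (.node (.node (.node (.leaf 5685248) (.leaf 157220864)) (.node (.leaf 49053696) (.leaf 0))) (.node (.node (.leaf 54894592) (.leaf 0)) (.node (.leaf 77217792) (.leaf 0)))) (.node (.node (.node (.leaf 31162368) (.leaf 133431296)) (.node (.leaf 111137631) (.leaf 0))) (.node (.node (.leaf 36413440) (.leaf 0)) (.node (.leaf 145866752) (.leaf 0))))) (.node (.node (.node (.node (.leaf 18694144) (.leaf 125388602)) (.node (.leaf 106512384) (.leaf 0))) (.node (.node (.leaf 66240512) (.leaf 0)) (.node (.leaf 84779008) (.leaf 0)))) (.node (.node (.node (.leaf 18743296) (.leaf 149184512)) (.node (.leaf 93423730) (.leaf 0))) (.node (.node (.leaf 87089152) (.leaf 0)) (.node (.leaf 152027136) (.leaf 0)))))) (.node (.node (.node (.node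 (.node (.leaf 12197888) (.leaf 129287112)) (.node (.leaf 52363264) (.leaf 0))) (.node (.node (.leaf 60678144) (.leaf 0)) (.node (.leaf 135577600) (.leaf 0)))) (.node (.node (.node (.leaf 37322752) (.leaf 140722176)) (.node (.leaf 66142208) (.leaf 0))) (.node (.node (.leaf 82067456) (.leaf 0)) (.node (.leaf 149102592) (.leaf 0))))) (.node (.node (.node (.node (.leaf 10362880) (.leaf 163389440)) (.node (.leaf 111108096) (.leaf 0))) (.node (.node (.leaf 33325056) (.leaf 0)) (.node (.leaf 142671872) (.leaf 0)))) (.node (.node (.node (.leaf 49209344) (.leaf 168058880)) (.node (.leaf 73400320) (.leaf 0))) (.node (.node (.leaf 91912235) (.leaf 0)) (.node (.leaf 127947972) (.leaf 0))))))))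

def e1T55 : NT := .node (.node (.node (.node (.node (.node (.node (.node (.leaf 278528) (.leaf 155377664)) (.node (.leaf 46514176) (.leaf 0))) (.node (.node (.leaf 22282240) (.leaf 0)) (.node (.leaf 74268672) (.leaf 0)))) (.node (.node (.node (.leaf 26509312) (.leaf 128581632)) (.node (.leaf 112181248) (.leaf 0))) (.node (.node (.leaf 34119680) (.leaf 0)) (.node (.leaf 89776128) (.leaf 0))))) (.node (.node (.node (.node (.leaf 5611520) (.leaf 117325824)) (.node (.leaf 102924288) (.leaf 0))) (.node (.node (.leaf 61912403) (.leaf 0)) (.node (.leaf 128923462) (.leaf 0)))) (.node (.node (.node (.leaf 38109393) (.leaf 142925824)) (.node (.leaf 91748021) (.leaf 0))) (.node (.node (.leaf 83410944) (.leaf 0)) (.node (.leaf 101652645) (.leaf 0)))))) (.node (.node (.node (.node (.node (.leaf 2924544) (.leaf 155160723)) (.node (.leaf 98156544) (.leaf 0))) (.node (.node (.leaf 56270848) (.leaf 0)) (.node (.leaf 132808704) (.leaf 0)))) (.node (.node (.node (.leaf 13762560) (.leaf 154894934)) (.node (.leaf 63455232)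 (.leaf 0))) (.node (.node (.leaf 37232640) (.leaf 0)) (.node (.leaf 137073011) (.leaf 0))))) (.node (.node (.node (.node (.leaf 20340736) (.leaf 130207821)) (.node (.leaf 56549376) (.leaf 0))) (.node (.node (.leaf 67665920) (.leaf 0)) (.node (.leaf 85778432) (.leaf 0)))) (.node (.node (.node (.leaf 25307408) (.leaf 151896064)) (.node (.leaf 70631424) (.leaf 0))) (.node (.node (.leaf 43327488) (.leaf 0)) (.node (.leaf 132130904) (.leaf 0))))))) (.node (.node (.node (.node (.node (.node (.leaf 4055040) (.leaf 109879296)) (.node (.leaf 48209920) (.leaf 0))) (.node (.node (.leaf 23724032) (.leaf 0)) (.node (.leaf 130899968) (.leaf 0)))) (.node (.node (.node (.leaf 29597696) (.leaf 131784704)) (.node (.leaf 114352128) (.leaf 0))) (.node (.node (.leaf 35602432) (.leaf 0)) (.node (.leaf 92012544) (.leaf 0))))) (.node (.node (.node (.node (.leaf 17072128) (.leaf 161079296)) (.node (.leaf 105259008) (.leaf 0))) (.node (.node (.leaf 64798720) (.leaf 0)) (.node (.leaf 129807419) (.leaf 0)))) (.node (.node (.node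 (.leaf 41787392) (.leaf 158505890)) (.node (.leaf 122912768) (.leaf 0))) (.node (.node (.leaf 85843968) (.leaf 0)) (.node (.leaf 103814199) (.leaf 0)))))) (.node (.node (.node (.node (.node (.leaf 6394034) (.leaf 158916608)) (.node (.leaf 51535872) (.leaf 0))) (.node (.node (.leaf 59219968) (.leaf 0)) (.node (.leaf 124838393) (.leaf 0)))) (.node (.node (.node (.leaf 35790848) (.leaf 138657792)) (.node (.leaf 65257472) (.leaf 0))) (.node (.node (.leaf 38830080) (.leaf 0)) (.node (.leaf 96124928) (.leaf 0))))) (.node (.node (.node (.node (.leaf 23388160) (.leaf 125583360)) (.node (.leaf 109977600) (.leaf 0))) (.node (.node (.leaf 32587776) (.leaf 0)) (.node (.leaf 87752704) (.leaf 0)))) (.node (.node (.node (.leaf 20848640) (.leaf 157155328)) (.node (.leaf 72458240) (.leaf 0))) (.node (.node (.leaf 44957696) (.leaf 0)) (.node (.leaf 128643176) (.leaf 0)))))))) (.node (.node (.node (.node (.node (.node (.node (.leaf 2400256) (.leaf 156082176)) (.node (.leaf 90560240) (.leaf 0))) (.node (.node (.leaf 52117504)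 (.leaf 0)) (.node (.leaf 75251712) (.leaf 0)))) (.node (.node (.node (.leaf 28049408) (.leaf 164323328)) (.node (.leaf 113270784) (.leaf 0))) (.node (.node (.leaf 34873344) (.leaf 0)) (.node (.leaf 113941522) (.leaf 0))))) (.node (.node (.node (.node (.leaf 15417344) (.leaf 129000744)) (.node (.leaf 103981056) (.leaf 0))) (.node (.node (.leaf 28893184) (.leaf 0)) (.node (.leaf 137306112) (.leaf 0)))) (.node (.node (.node (.leaf 40263680) (.leaf 167076384)) (.node (.leaf 74680275) (.leaf 0))) (.node (.node (.leaf 41017344) (.leaf 0)) (.node (.leaf 150593536) (.leaf 0)))))) (.node (.node (.node (.node (.node (.leaf 8970240) (.leaf 121515063)) (.node (.leaf 65111938) (.leaf 0))) (.node (.node (.leaf 57696256) (.leaf 0)) (.node (.leaf 133718016) (.leaf 0)))) (.node (.node (.node (.leaf 22308561) (.leaf 136839168)) (.node (.leaf 117645312) (.leaf 0))) (.node (.node (.leaf 79478784) (.leaf 0)) (.node (.leaf 138017846) (.leaf 0))))) (.node (.node (.node (.node (.leaf 21864448) (.leaf 162553856)) (.node (.leaf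 57401344) (.leaf 0))) (.node (.node (.leaf 68976640) (.leaf 0)) (.node (.leaf 86761472) (.leaf 0)))) (.node (.node (.node (.leaf 46268416) (.leaf 154198016)) (.node (.leaf 101947222) (.leaf 0))) (.node (.node (.leaf 44195840) (.leaf 0)) (.node (.leaf 121801633) (.leaf 0))))))) (.node (.node (.node (.node (.node (.node (.leaf 2260992) (.leaf 111124480)) (.node (.leaf 49061888) (.leaf 0))) (.node (.node (.leaf 49914681) (.leaf 0)) (.node (.leaf 83332035) (.leaf 0)))) (.node (.node (.node (.leaf 13058048) (.leaf 164234872)) (.node (.leaf 115482624) (.leaf 0))) (.node (.node (.leaf 76427847) (.leaf 0)) (.node (.leaf 92954624) (.leaf 0))))) (.node (.node (.node (.node (.leaf 7651328) (.leaf 121454592)) (.node (.leaf 55738368) (.leaf 0))) (.node (.node (.leaf 66256896) (.leaf 0)) (.node (.leaf 139091968) (.leaf 0)))) (.node (.node (.node (.leaf 43237376) (.leaf 149258240)) (.node (.leaf 110908274) (.leaf 0))) (.node (.node (.leaf 87105536) (.leaf 0)) (.node (.leaf 101539840) (.leaf 0)))))) (.node (.node (.node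 (.node (.node (.leaf 4931584) (.leaf 124269625)) (.node (.leaf 101793792) (.leaf 0))) (.node (.node (.leaf 60686336) (.leaf 0)) (.node (.leaf 108669246) (.leaf 0)))) (.node (.node (.node (.leaf 37339136) (.leaf 141256618)) (.node (.leaf 91439988) (.leaf 0))) (.node (.node (.leaf 39526400) (.leaf 0)) (.node (.leaf 104162395) (.leaf 0))))) (.node (.node (.node (.node (.leaf 24985600) (.leaf 143565618)) (.node (.leaf 59047936) (.leaf 0))) (.node (.node (.leaf 71573504) (.leaf 0)) (.node (.leaf 88793088) (.leaf 0)))) (.node (.node (.node (.leaf 21577728) (.leaf 160514048)) (.node (.leaf 128057344) (.leaf 0))) (.node (.node (.leaf 92094464) (.leaf 0)) (.node (.leaf 154746880) (.leaf 0))))))))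

def e1T56 : NT := .node (.node (.node (.node (.node (.node (.node (.node (.leaf 737280) (.leaf 134441848)) (.node (.leaf 82634960) (.leaf 0))) (.node (.node (.leaf 27662682) (.leaf 0)) (.node (.leaf 104557344) (.leaf 0)))) (.node (.node (.node (.leaf 26525696) (.leaf 128589824)) (.node (.leaf 59957248) (.leaf 0))) (.node (.node (.leaf 72908800) (.leaf 0)) (.node (.leaf 120328219) (.leaf 0))))) (.node (.node (.node (.node (.leaf 13819904) (.leaf 140873160)) (.node (.leaf 94663629) (.leaf 0))) (.node (.node (.leaf 28180480) (.leaf 0)) (.node (.leaf 136445952) (.leaf 0)))) (.node (.node (.node (.leaf 16613376) (.leaf 162050203)) (.node (.leaf 67051520) (.leaf 0))) (.node (.node (.leaf 40271872) (.leaf 0)) (.node (.leaf 149856256) (.leaf 0)))))) (.node (.node (.node (.node (.node (.leaf 7348224) (.leaf 112402432)) (.node (.leaf 98172928) (.leaf 0))) (.node (.node (.leaf 38316962) (.leaf 0)) (.node (.leaf 104521939) (.leaf 0)))) (.node (.node (.node (.leaf 32727040) (.leaf 165584896)) (.node (.leaf 116580352)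 (.leaf 0))) (.node (.node (.leaf 74734721) (.leaf 0)) (.node (.leaf 93978624) (.leaf 0))))) (.node (.node (.node (.node (.leaf 8347648) (.leaf 162086912)) (.node (.leaf 62108022) (.leaf 0))) (.node (.node (.leaf 31072256) (.leaf 0)) (.node (.leaf 140124160) (.leaf 0)))) (.node (.node (.node (.leaf 44785664) (.leaf 167780352)) (.node (.leaf 92142740) (.leaf 0))) (.node (.node (.leaf 88408064) (.leaf 0)) (.node (.leaf 125632760) (.leaf 0))))))) (.node (.node (.node (.node (.node (.node (.leaf 1597440) (.leaf 113387021)) (.node (.leaf 95838208) (.leaf 0))) (.node (.node (.leaf 53526528) (.leaf 0)) (.node (.leaf 76267520) (.leaf 0)))) (.node (.node (.node (.leaf 12386304) (.leaf 164855808)) (.node (.leaf 61775872) (.leaf 0))) (.node (.node (.leaf 75546624) (.leaf 0)) (.node (.leaf 108894025) (.leaf 0))))) (.node (.node (.node (.node (.leaf 6971392) (.leaf 145108580)) (.node (.leaf 105275392) (.leaf 0))) (.node (.node (.leaf 64564192) (.leaf 0)) (.node (.leaf 83795968) (.leaf 0)))) (.node (.node (.node (.leaf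 41795584) (.leaf 162475781)) (.node (.leaf 122929152) (.leaf 0))) (.node (.node (.leaf 85860352) (.leaf 0)) (.node (.leaf 100409344) (.leaf 0)))))) (.node (.node (.node (.node (.node (.leaf 4284416) (.leaf 158924800)) (.node (.leaf 71814614) (.leaf 0))) (.node (.node (.leaf 26689536) (.leaf 0)) (.node (.leaf 79904768) (.leaf 0)))) (.node (.node (.node (.leaf 15220736) (.leaf 155658413)) (.node (.leaf 118718464) (.leaf 0))) (.node (.node (.leaf 80764928) (.leaf 0)) (.node (.leaf 148275200) (.leaf 0))))) (.node (.node (.node (.node (.leaf 23404544) (.leaf 161379251)) (.node (.leaf 58236928) (.leaf 0))) (.node (.node (.leaf 70262784) (.leaf 0)) (.node (.leaf 87760896) (.leaf 0)))) (.node (.node (.node (.leaf 47726592) (.leaf 157179904)) (.node (.leaf 127107072) (.leaf 0))) (.node (.node (.leaf 90890240) (.leaf 0)) (.node (.leaf 105013248) (.leaf 0)))))))) (.node (.node (.node (.node (.node (.node (.node (.leaf 942080) (.leaf 108634112)) (.node (.leaf 94625792) (.leaf 0))) (.node (.node (.leaf 23035904) (.leaf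 0)) (.node (.leaf 75259904) (.leaf 0)))) (.node (.node (.node (.leaf 11706368) (.leaf 164331520)) (.node (.leaf 113287168) (.leaf 0))) (.node (.node (.leaf 61790525) (.leaf 0)) (.node (.leaf 144285696) (.leaf 0))))) (.node (.node (.node (.node (.leaf 6291456) (.leaf 136209132)) (.node (.leaf 54050816) (.leaf 0))) (.node (.node (.leaf 63512576) (.leaf 0)) (.node (.leaf 111288402) (.leaf 0)))) (.node (.node (.node (.leaf 17342464) (.leaf 144736256)) (.node (.leaf 67837952) (.leaf 0))) (.node (.node (.leaf 84697088) (.leaf 0)) (.node (.leaf 99270656) (.leaf 0)))))) (.node (.node (.node (.node (.node (.leaf 8986624) (.leaf 118878270)) (.node (.leaf 50716672) (.leaf 0))) (.node (.node (.leaf 25944064) (.leaf 0)) (.node (.leaf 78970880) (.leaf 0)))) (.node (.node (.node (.leaf 14508032) (.leaf 136847360)) (.node (.leaf 117661696) (.leaf 0))) (.node (.node (.leaf 79495168) (.leaf 0)) (.node (.leaf 95019008) (.leaf 0))))) (.node (.node (.node (.node (.leaf 9035776) (.leaf 151867956)) (.node (.leaf 108871680) (.leaf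 0))) (.node (.node (.leaf 31858688) (.leaf 0)) (.node (.leaf 86769664) (.leaf 0)))) (.node (.node (.node (.leaf 20168704) (.leaf 154222592)) (.node (.leaf 71565312) (.leaf 0))) (.node (.node (.leaf 89702400) (.leaf 0)) (.node (.leaf 144614823) (.leaf 0))))))) (.node (.node (.node (.node (.node (.node (.leaf 5519192) (.leaf 128139860)) (.node (.leaf 97017856) (.leaf 0))) (.node (.node (.leaf 24453120) (.leaf 0)) (.node (.leaf 77225984) (.leaf 0)))) (.node (.node (.node (.leaf 31186944) (.leaf 133455872)) (.node (.leaf 115499008) (.leaf 0))) (.node (.node (.leaf 36429824) (.leaf 0)) (.node (.leaf 145891328) (.leaf 0))))) (.node (.node (.node (.node (.leaf 18718720) (.leaf 132329264)) (.node (.leaf 106536960) (.leaf 0))) (.node (.node (.leaf 30367744) (.leaf 0)) (.node (.leaf 139108352) (.leaf 0)))) (.node (.node (.node (.leaf 18751488) (.leaf 149282816)) (.node (.leaf 69697536) (.leaf 0))) (.node (.node (.leaf 82998841) (.leaf 0)) (.node (.leaf 147928139) (.leaf 0)))))) (.node (.node (.node (.node (.node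 (.leaf 12222464) (.leaf 159457280)) (.node (.leaf 101810176) (.leaf 0))) (.node (.node (.leaf 27418624) (.leaf 0)) (.node (.leaf 100348442) (.leaf 0)))) (.node (.node (.node (.leaf 37355520) (.leaf 140738560)) (.node (.leaf 72717695) (.leaf 0))) (.node (.node (.leaf 82092032) (.leaf 0)) (.node (.leaf 98371135) (.leaf 0))))) (.node (.node (.node (.node (.leaf 25001984) (.leaf 141730190)) (.node (.leaf 88495587) (.leaf 0))) (.node (.node (.leaf 71589888) (.leaf 0)) (.node (.leaf 133402414) (.leaf 0)))) (.node (.node (.node (.leaf 49233920) (.leaf 160522240)) (.node (.leaf 73408512) (.leaf 0))) (.node (.node (.leaf 45735936) (.leaf 0)) (.node (.leaf 106209280) (.leaf 0))))))))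

def e1T57 : NT := .node (.node (.node (.node (.node (.node (.node (.node (.leaf 753664) (.leaf 107454464)) (.node (.leaf 46522368) (.leaf 0))) (.node (.node (.leaf 50651136) (.leaf 0)) (.node (.leaf 74285056) (.leaf 0)))) (.node (.node (.node (.leaf 11051008) (.leaf 128598016)) (.node (.leaf 112197632) (.leaf 0))) (.node (.node (.leaf 34127872) (.leaf 0)) (.node (.leaf 143433728) (.leaf 0))))) (.node (.node (.node (.node (.leaf 13836288) (.leaf 132928537)) (.node (.leaf 102940672) (.leaf 0))) (.node (.node (.leaf 62111744) (.leaf 0)) (.node (.leaf 126346093) (.leaf 0)))) (.node (.node (.node (.leaf 29757618) (.leaf 157323385)) (.node (.leaf 120807424) (.leaf 0))) (.node (.node (.leaf 83435520) (.leaf 0)) (.node (.leaf 149864448) (.leaf 0)))))) (.node (.node (.node (.node (.node (.leaf 7364608) (.leaf 112410624)) (.node (.leaf 98189312) (.leaf 0))) (.node (.node (.leaf 25190400) (.leaf 0)) (.node (.leaf 99914871) (.leaf 0)))) (.node (.node (.node (.leaf 28167763) (.leaf 157748804)) (.node (.leaf 63471616)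 (.leaf 0))) (.node (.node (.leaf 37240832) (.leaf 0)) (.node (.leaf 93995008) (.leaf 0))))) (.node (.node (.node (.node (.leaf 8355840) (.leaf 141621813)) (.node (.leaf 107716608) (.leaf 0))) (.node (.node (.leaf 67690496) (.leaf 0)) (.node (.leaf 85803008) (.leaf 0)))) (.node (.node (.node (.leaf 19472384) (.leaf 151928832)) (.node (.leaf 70647808) (.leaf 0))) (.node (.node (.leaf 43335680) (.leaf 0)) (.node (.leaf 102785024) (.leaf 0))))))) (.node (.node (.node (.node (.node (.node (.leaf 4079616) (.leaf 109887488)) (.node (.leaf 48226304) (.leaf 0))) (.node (.node (.leaf 53542912) (.leaf 0)) (.node (.leaf 130924544) (.leaf 0)))) (.node (.node (.node (.leaf 29622272) (.leaf 164864000)) (.node (.leaf 114376704) (.leaf 0))) (.node (.node (.leaf 35610624) (.leaf 0)) (.node (.leaf 145063936) (.leaf 0))))) (.node (.node (.node (.node (.leaf 17096704) (.leaf 120217600)) (.node (.leaf 54878208) (.leaf 0))) (.node (.node (.leaf 29630464) (.leaf 0)) (.node (.leaf 126342656) (.leaf 0)))) (.node (.node (.node (.leaf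 18063360) (.leaf 146964480)) (.node (.leaf 68820992) (.leaf 0))) (.node (.node (.leaf 41803776) (.leaf 0)) (.node (.leaf 113205495) (.leaf 0)))))) (.node (.node (.node (.node (.node (.leaf 10616832) (.leaf 114737152)) (.node (.leaf 100597760) (.leaf 0))) (.node (.node (.leaf 59236352) (.leaf 0)) (.node (.leaf 134643712) (.leaf 0)))) (.node (.node (.node (.leaf 35807232) (.leaf 162888049)) (.node (.leaf 81231929) (.leaf 0))) (.node (.node (.leaf 38838272) (.leaf 0)) (.node (.leaf 96141312) (.leaf 0))))) (.node (.node (.node (.node (.leaf 9723904) (.leaf 134121645)) (.node (.leaf 110002176) (.leaf 0))) (.node (.node (.leaf 70279168) (.leaf 0)) (.node (.leaf 141852672) (.leaf 0)))) (.node (.node (.node (.leaf 47742976) (.leaf 162365662)) (.node (.leaf 107453441) (.leaf 0))) (.node (.node (.leaf 90906624) (.leaf 0)) (.node (.leaf 105029632) (.leaf 0)))))))) (.node (.node (.node (.node (.node (.node (.node (.leaf 2424832) (.leaf 156098560)) (.node (.leaf 94642176) (.leaf 0))) (.node (.node (.leaf 52133888)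 (.leaf 0)) (.node (.leaf 75276288) (.leaf 0)))) (.node (.node (.node (.leaf 28073984) (.leaf 137123935)) (.node (.leaf 74228395) (.leaf 0))) (.node (.node (.leaf 34881536) (.leaf 0)) (.node (.leaf 90841088) (.leaf 0))))) (.node (.node (.node (.node (.leaf 15441920) (.leaf 118800384)) (.node (.leaf 103997440) (.leaf 0))) (.node (.node (.leaf 63520768) (.leaf 0)) (.node (.leaf 82763776) (.leaf 0)))) (.node (.node (.node (.leaf 40288256) (.leaf 164894403)) (.node (.leaf 67854336) (.leaf 0))) (.node (.node (.leaf 84705280) (.leaf 0)) (.node (.leaf 150609920) (.leaf 0)))))) (.node (.node (.node (.node (.node (.leaf 9003008) (.leaf 113508352)) (.node (.leaf 99418112) (.leaf 0))) (.node (.node (.leaf 57720832) (.leaf 0)) (.node (.leaf 133726208) (.leaf 0)))) (.node (.node (.node (.leaf 34291712) (.leaf 151327634)) (.node (.leaf 64331776) (.leaf 0))) (.node (.node (.leaf 38019072) (.leaf 0)) (.node (.leaf 95035392) (.leaf 0))))) (.node (.node (.node (.node (.leaf 21880832) (.leaf 162570240)) (.node (.leaf 57417728)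 (.leaf 0))) (.node (.node (.leaf 69001216) (.leaf 0)) (.node (.leaf 137758075) (.leaf 0)))) (.node (.node (.node (.leaf 46292992) (.leaf 154247168)) (.node (.leaf 86068030) (.leaf 0))) (.node (.node (.leaf 63809202) (.leaf 0)) (.node (.leaf 103825408) (.leaf 0))))))) (.node (.node (.node (.node (.node (.node (.leaf 5718016) (.leaf 134214512)) (.node (.leaf 49070080) (.leaf 0))) (.node (.node (.leaf 54927360) (.leaf 0)) (.node (.leaf 131997696) (.leaf 0)))) (.node (.node (.node (.leaf 13066240) (.leaf 137259598)) (.node (.leaf 62627840) (.leaf 0))) (.node (.node (.leaf 76873728) (.leaf 0)) (.node (.leaf 145582544) (.leaf 0))))) (.node (.node (.node (.node (.leaf 18735104) (.leaf 121462784)) (.node (.leaf 55754752) (.leaf 0))) (.node (.node (.leaf 64473508) (.leaf 0)) (.node (.leaf 90707217) (.leaf 0)))) (.node (.node (.node (.leaf 43261952) (.leaf 157396236)) (.node (.leaf 123928576) (.leaf 0))) (.node (.node (.leaf 42582016) (.leaf 0)) (.node (.leaf 101556224) (.leaf 0)))))) (.node (.node (.node (.node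 (.node (.leaf 4939776) (.leaf 115957760)) (.node (.leaf 52379648) (.leaf 0))) (.node (.node (.leaf 60389196) (.leaf 0)) (.node (.leaf 80773120) (.leaf 0)))) (.node (.node (.node (.leaf 15908864) (.leaf 142837472)) (.node (.leaf 66158592) (.leaf 0))) (.node (.node (.leaf 39534592) (.leaf 0)) (.node (.leaf 97173504) (.leaf 0))))) (.node (.node (.node (.node (.leaf 10379264) (.leaf 163397632)) (.node (.leaf 59072512) (.leaf 0))) (.node (.node (.leaf 71606272) (.leaf 0)) (.node (.leaf 142079623) (.leaf 0)))) (.node (.node (.node (.leaf 21585920) (.leaf 164640093)) (.node (.leaf 97538545) (.leaf 0))) (.node (.node (.leaf 92119040) (.leaf 0)) (.node (.leaf 147945768) (.leaf 0))))))))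

def e1T58 : NT := .node (.node (.node (.node (.node (.node (.node (.node (.leaf 294912) (.leaf 155385856)) (.node (.leaf 93446144) (.leaf 0))) (.node (.node (.leaf 22298624) (.leaf 0)) (.node (.leaf 128991232) (.leaf 0)))) (.node (.node (.node (.leaf 26550272) (.leaf 151472839)) (.node (.leaf 78256879) (.leaf 0))) (.node (.node (.leaf 71169983) (.leaf 0)) (.node (.leaf 143441920) (.leaf 0))))) (.node (.node (.node (.node (.leaf 5627904) (.leaf 135266703)) (.node (.leaf 102957056) (.leaf 0))) (.node (.node (.leaf 28188672) (.leaf 0)) (.node (.leaf 81805312) (.leaf 0)))) (.node (.node (.node (.leaf 16629760) (.leaf 142942208)) (.node (.leaf 120823808) (.leaf 0))) (.node (.node (.leaf 40280064) (.leaf 0)) (.node (.leaf 121553215) (.leaf 0)))))) (.node (.node (.node (.node (.node (.leaf 2940928) (.leaf 157802496)) (.node (.leaf 49922048) (.leaf 0))) (.node (.node (.leaf 56287232) (.leaf 0)) (.node (.leaf 78102528) (.leaf 0)))) (.node (.node (.node (.leaf 13787136) (.leaf 135069696)) (.node (.leaf 76886056)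 (.leaf 0))) (.node (.node (.leaf 78209024) (.leaf 0)) (.node (.leaf 94011392) (.leaf 0))))) (.node (.node (.node (.node (.leaf 20373504) (.leaf 136148824)) (.node (.leaf 107732992) (.leaf 0))) (.node (.node (.leaf 31088640) (.leaf 0)) (.node (.leaf 134554175) (.leaf 0)))) (.node (.node (.node (.leaf 44802048) (.leaf 161774588)) (.node (.leaf 124977152) (.leaf 0))) (.node (.node (.leaf 88432640) (.leaf 0)) (.node (.leaf 137424927) (.leaf 0))))))) (.node (.node (.node (.node (.node (.node (.leaf 1605632) (.leaf 117712080)) (.node (.leaf 95854592) (.leaf 0))) (.node (.node (.leaf 23740416) (.leaf 0)) (.node (.leaf 76283904) (.leaf 0)))) (.node (.node (.node (.leaf 12394496) (.leaf 154231205)) (.node (.leaf 114393088) (.leaf 0))) (.node (.node (.leaf 75563008) (.leaf 0)) (.node (.leaf 145080320) (.leaf 0))))) (.node (.node (.node (.node (.leaf 6979584) (.leaf 149924612)) (.node (.leaf 105299968) (.leaf 0))) (.node (.node (.leaf 64831488) (.leaf 0)) (.node (.leaf 83804160) (.leaf 0)))) (.node (.node (.node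 (.leaf 18071552) (.leaf 154884447)) (.node (.leaf 122945536) (.leaf 0))) (.node (.node (.leaf 85868544) (.leaf 0)) (.node (.leaf 100417536) (.leaf 0)))))) (.node (.node (.node (.node (.node (.leaf 4292608) (.leaf 121095880)) (.node (.leaf 51552256) (.leaf 0))) (.node (.node (.leaf 59252736) (.leaf 0)) (.node (.leaf 134660096) (.leaf 0)))) (.node (.node (.node (.leaf 35823616) (.leaf 148678787)) (.node (.leaf 65282048) (.leaf 0))) (.node (.node (.leaf 80789504) (.leaf 0)) (.node (.leaf 148283392) (.leaf 0))))) (.node (.node (.node (.node (.leaf 18835683) (.leaf 125640704)) (.node (.leaf 58253312) (.leaf 0))) (.node (.node (.leaf 47739940) (.leaf 0)) (.node (.leaf 141869056) (.leaf 0)))) (.node (.node (.node (.leaf 20865024) (.leaf 157245440)) (.node (.leaf 127123456) (.leaf 0))) (.node (.node (.leaf 44974080) (.leaf 0)) (.node (.leaf 117392768) (.leaf 0)))))))) (.node (.node (.node (.node (.node (.node (.node (.leaf 2441216) (.leaf 147639727)) (.node (.leaf 47333376) (.leaf 0))) (.node (.node (.leaf 23052288)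 (.leaf 0)) (.node (.leaf 130031616) (.leaf 0)))) (.node (.node (.node (.leaf 11714560) (.leaf 130277376)) (.node (.leaf 109209114) (.leaf 0))) (.node (.node (.leaf 40440936) (.leaf 0)) (.node (.leaf 140673958) (.leaf 0))))) (.node (.node (.node (.node (.leaf 6299648) (.leaf 118808576)) (.node (.leaf 104013824) (.leaf 0))) (.node (.node (.leaf 63528960) (.leaf 0)) (.node (.leaf 85109443) (.leaf 0)))) (.node (.node (.node (.leaf 40304640) (.leaf 144769024)) (.node (.leaf 121929728) (.leaf 0))) (.node (.node (.leaf 41033728) (.leaf 0)) (.node (.leaf 150618112) (.leaf 0)))))) (.node (.node (.node (.node (.node (.leaf 3612672) (.leaf 134325590)) (.node (.leaf 99426304) (.leaf 0))) (.node (.node (.leaf 25952256) (.leaf 0)) (.node (.leaf 78979072) (.leaf 0)))) (.node (.node (.node (.leaf 14516224) (.leaf 165961728)) (.node (.leaf 79262655) (.leaf 0))) (.node (.node (.leaf 79519744) (.leaf 0)) (.node (.leaf 110532829) (.leaf 0))))) (.node (.node (.node (.node (.leaf 16671364) (.leaf 124272640)) (.node (.leaf 57425920)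 (.leaf 0))) (.node (.node (.leaf 69017600) (.leaf 0)) (.node (.leaf 89151675) (.leaf 0)))) (.node (.node (.node (.leaf 20176896) (.leaf 154263552)) (.node (.leaf 120478269) (.leaf 0))) (.node (.node (.leaf 44212224) (.leaf 0)) (.node (.leaf 106863318) (.leaf 0))))))) (.node (.node (.node (.node (.node (.node (.leaf 2277376) (.leaf 141947849)) (.node (.leaf 97042432) (.leaf 0))) (.node (.node (.leaf 24461312) (.leaf 0)) (.node (.leaf 132005888) (.leaf 0)))) (.node (.node (.node (.leaf 31203328) (.leaf 154620490)) (.node (.leaf 115523584) (.leaf 0))) (.node (.node (.leaf 60465860) (.leaf 0)) (.node (.leaf 92971008) (.leaf 0))))) (.node (.node (.node (.node (.leaf 7667712) (.leaf 122423785)) (.node (.leaf 106553344) (.leaf 0))) (.node (.node (.leaf 30375936) (.leaf 0)) (.node (.leaf 84819968) (.leaf 0)))) (.node (.node (.node (.leaf 43278336) (.leaf 166385240)) (.node (.leaf 69705728) (.leaf 0))) (.node (.node (.leaf 42590208) (.leaf 0)) (.node (.leaf 140477233) (.leaf 0)))))) (.node (.node (.node (.node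 (.node (.leaf 12238848) (.leaf 159465472)) (.node (.leaf 101834752) (.leaf 0))) (.node (.node (.leaf 60719104) (.leaf 0)) (.node (.leaf 108612499) (.leaf 0)))) (.node (.node (.node (.leaf 37380096) (.leaf 140754944)) (.node (.leaf 119726080) (.leaf 0))) (.node (.node (.leaf 82116608) (.leaf 0)) (.node (.leaf 149135360) (.leaf 0))))) (.node (.node (.node (.node (.leaf 25026560) (.leaf 146740883)) (.node (.leaf 111140864) (.leaf 0))) (.node (.node (.leaf 33357824) (.leaf 0)) (.node (.leaf 88809472) (.leaf 0)))) (.node (.node (.node (.leaf 49258496) (.leaf 165207214)) (.node (.leaf 73424896) (.leaf 0))) (.node (.node (.leaf 45744128) (.leaf 0)) (.node (.leaf 106217472) (.leaf 0))))))))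

def e1T59 : NT := .node (.node (.node (.node (.node (.node (.node (.node (.leaf 778240) (.leaf 155394048)) (.node (.leaf 46538752) (.leaf 0))) (.node (.node (.leaf 50667520) (.leaf 0)) (.node (.leaf 91237342) (.leaf 0)))) (.node (.node (.node (.leaf 11059200) (.leaf 128622592)) (.node (.leaf 71582362) (.leaf 0))) (.node (.node (.leaf 72925184) (.leaf 0)) (.node (.leaf 89800704) (.leaf 0))))) (.node (.node (.node (.node (.leaf 13852672) (.leaf 117448704)) (.node (.leaf 62705187) (.leaf 0))) (.node (.node (.leaf 62136320) (.leaf 0)) (.node (.leaf 111723674) (.leaf 0)))) (.node (.node (.node (.leaf 18921296) (.leaf 156510773)) (.node (.leaf 67067904) (.leaf 0))) (.node (.node (.leaf 83460096) (.leaf 0)) (.node (.leaf 98263040) (.leaf 0)))))) (.node (.node (.node (.node (.node (.leaf 7389184) (.leaf 139793018)) (.node (.leaf 98213888) (.leaf 0))) (.node (.node (.leaf 36812987) (.leaf 0)) (.node (.leaf 109144139) (.leaf 0)))) (.node (.node (.node (.leaf 32759808) (.leaf 135077888)) (.node (.leaf 63479808)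 (.leaf 0))) (.node (.node (.leaf 37249024) (.leaf 0)) (.node (.leaf 94019584) (.leaf 0))))) (.node (.node (.node (.node (.leaf 20389888) (.leaf 130248746)) (.node (.leaf 56573952) (.leaf 0))) (.node (.node (.leaf 54815071) (.leaf 0)) (.node (.leaf 140132352) (.leaf 0)))) (.node (.node (.node (.leaf 19480576) (.leaf 151953408)) (.node (.leaf 124985344) (.leaf 0))) (.node (.node (.leaf 43352064) (.leaf 0)) (.node (.leaf 152698880) (.leaf 0))))))) (.node (.node (.node (.node (.node (.node (.leaf 4104192) (.leaf 109903872)) (.node (.leaf 48242688) (.leaf 0))) (.node (.node (.leaf 53559296) (.leaf 0)) (.node (.leaf 120848442) (.leaf 0)))) (.node (.node (.node (.leaf 29646848) (.leaf 131858432)) (.node (.leaf 61816832) (.leaf 0))) (.node (.node (.leaf 35627008) (.leaf 0)) (.node (.leaf 145088512) (.leaf 0))))) (.node (.node (.node (.node (.leaf 13903448) (.leaf 120233984)) (.node (.leaf 54886400) (.leaf 0))) (.node (.node (.leaf 29638656) (.leaf 0)) (.node (.leaf 91839254) (.leaf 0)))) (.node (.node (.node (.leaf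 41820160) (.leaf 157218918)) (.node (.leaf 96243355) (.leaf 0))) (.node (.node (.leaf 41811968) (.leaf 0)) (.node (.leaf 100425728) (.leaf 0)))))) (.node (.node (.node (.node (.node (.leaf 10641408) (.leaf 114778112)) (.node (.leaf 100622336) (.leaf 0))) (.node (.node (.leaf 26705920) (.leaf 0)) (.node (.leaf 79929344) (.leaf 0)))) (.node (.node (.node (.leaf 15237120) (.leaf 153183158)) (.node (.leaf 82416212) (.leaf 0))) (.node (.node (.leaf 38846464) (.leaf 0)) (.node (.leaf 96149504) (.leaf 0))))) (.node (.node (.node (.node (.leaf 9732096) (.leaf 145883397)) (.node (.leaf 110026752) (.leaf 0))) (.node (.node (.leaf 32612352) (.leaf 0)) (.node (.leaf 87777280) (.leaf 0)))) (.node (.node (.node (.leaf 47767552) (.leaf 157253632)) (.node (.leaf 73768960) (.leaf 0))) (.node (.node (.leaf 90923008) (.leaf 0)) (.node (.leaf 154091520) (.leaf 0)))))))) (.node (.node (.node (.node (.node (.node (.node (.leaf 958464) (.leaf 108650496)) (.node (.leaf 65252759) (.leaf 0))) (.node (.node (.leaf 23060480) (.leaf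 0)) (.node (.leaf 75284480) (.leaf 0)))) (.node (.node (.node (.leaf 28098560) (.leaf 162906596)) (.node (.leaf 60923904) (.leaf 0))) (.node (.node (.leaf 34889728) (.leaf 0)) (.node (.leaf 90857472) (.leaf 0))))) (.node (.node (.node (.node (.leaf 15466496) (.leaf 149414442)) (.node (.leaf 104030208) (.leaf 0))) (.node (.node (.leaf 28925952) (.leaf 0)) (.node (.leaf 82804736) (.leaf 0)))) (.node (.node (.node (.leaf 17358848) (.leaf 167231488)) (.node (.leaf 67862528) (.leaf 0))) (.node (.node (.leaf 84729856) (.leaf 0)) (.node (.leaf 150626304) (.leaf 0)))))) (.node (.node (.node (.node (.node (.leaf 9027584) (.leaf 139945133)) (.node (.leaf 50733056) (.leaf 0))) (.node (.node (.leaf 57737216) (.leaf 0)) (.node (.leaf 127538976) (.leaf 0)))) (.node (.node (.node (.leaf 30149458) (.leaf 136863744)) (.node (.leaf 117694464) (.leaf 0))) (.node (.node (.leaf 38027264) (.leaf 0)) (.node (.leaf 147521536) (.leaf 0))))) (.node (.node (.node (.node (.leaf 9052160) (.leaf 162578432)) (.node (.leaf 108904448)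 (.leaf 0))) (.node (.node (.leaf 31875072) (.leaf 0)) (.node (.leaf 140992512) (.leaf 0)))) (.node (.node (.node (.leaf 46317568) (.leaf 164768678)) (.node (.leaf 71598080) (.leaf 0))) (.node (.node (.leaf 65802492) (.leaf 0)) (.node (.leaf 103833600) (.leaf 0))))))) (.node (.node (.node (.node (.node (.node (.leaf 5742592) (.leaf 137579684)) (.node (.leaf 97058816) (.leaf 0))) (.node (.node (.leaf 41625827) (.leaf 0)) (.node (.leaf 77250560) (.leaf 0)))) (.node (.node (.node (.leaf 31219712) (.leaf 145299754)) (.node (.leaf 115539968) (.leaf 0))) (.node (.node (.leaf 36446208) (.leaf 0)) (.node (.leaf 145907712) (.leaf 0))))) (.node (.node (.node (.node (.leaf 18759680) (.leaf 121479168)) (.node (.leaf 55771136) (.leaf 0))) (.node (.node (.leaf 66289664) (.leaf 0)) (.node (.leaf 139132928) (.leaf 0)))) (.node (.node (.node (.leaf 18767872) (.leaf 149323776)) (.node (.leaf 90947893) (.leaf 0))) (.node (.node (.leaf 74364743) (.leaf 0)) (.node (.leaf 117534369) (.leaf 0)))))) (.node (.node (.node (.node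 (.node (.leaf 12255232) (.leaf 159481856)) (.node (.leaf 52387840) (.leaf 0))) (.node (.node (.leaf 27435008) (.leaf 0)) (.node (.leaf 85821171) (.leaf 0)))) (.node (.node (.node (.leaf 37396480) (.leaf 166707200)) (.node (.leaf 66174976) (.leaf 0))) (.node (.node (.leaf 82132992) (.leaf 0)) (.node (.leaf 97181696) (.leaf 0))))) (.node (.node (.node (.node (.leaf 25042944) (.leaf 141076717)) (.node (.leaf 59088896) (.leaf 0))) (.node (.node (.leaf 71614464) (.leaf 0)) (.node (.leaf 100633417) (.leaf 0)))) (.node (.node (.node (.leaf 21594112) (.leaf 167541651)) (.node (.leaf 100099010) (.leaf 0))) (.node (.node (.leaf 92143616) (.leaf 0)) (.node (.leaf 132233403) (.leaf 0))))))))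

def e1T60 : NT := .node (.node (.node (.node (.node (.node (.node (.node (.leaf 303104) (.leaf 107470848)) (.node (.leaf 48285147) (.leaf 0))) (.node (.node (.leaf 30568518) (.leaf 0)) (.node (.leaf 74301440) (.leaf 0)))) (.node (.node (.node (.leaf 26574848) (.leaf 163905536)) (.node (.leaf 112222208) (.leaf 0))) (.node (.node (.leaf 44004338) (.leaf 0)) (.node (.leaf 143466496) (.leaf 0))))) (.node (.node (.node (.node (.leaf 5636096) (.leaf 159948800)) (.node (.leaf 78627363) (.leaf 0))) (.node (.node (.leaf 28196864) (.leaf 0)) (.node (.leaf 81821696) (.leaf 0)))) (.node (.node (.node (.leaf 16637952) (.leaf 165529558)) (.node (.leaf 120840192) (.leaf 0))) (.node (.node (.leaf 83476480) (.leaf 0)) (.node (.leaf 137429687) (.leaf 0)))))) (.node (.node (.node (.node (.node (.leaf 2949120) (.leaf 112427008)) (.node (.leaf 98222080) (.leaf 0))) (.node (.node (.leaf 25223168) (.leaf 0)) (.node (.leaf 78110720) (.leaf 0)))) (.node (.node (.node (.leaf 32776192) (.leaf 135110656)) (.node (.leaf 116604928)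 (.leaf 0))) (.node (.node (.leaf 78233600) (.leaf 0)) (.node (.leaf 94027776) (.leaf 0))))) (.node (.node (.node (.node (.leaf 8372224) (.leaf 122822656)) (.node (.leaf 107749376) (.leaf 0))) (.node (.node (.leaf 31096832) (.leaf 0)) (.node (.leaf 85835776) (.leaf 0)))) (.node (.node (.node (.leaf 44826624) (.leaf 157467000)) (.node (.leaf 115719028) (.leaf 0))) (.node (.node (.leaf 43368448) (.leaf 0)) (.node (.leaf 102801408) (.leaf 0))))))) (.node (.node (.node (.node (.node (.node (.leaf 4120576) (.leaf 116437970)) (.node (.leaf 95879168) (.leaf 0))) (.node (.node (.leaf 23748608) (.leaf 0)) (.node (.leaf 76300288) (.leaf 0)))) (.node (.node (.node (.leaf 29663232) (.leaf 144778347)) (.node (.leaf 114409472) (.leaf 0))) (.node (.node (.leaf 75587584) (.leaf 0)) (.node (.leaf 109556170) (.leaf 0))))) (.node (.node (.node (.node (.leaf 6995968) (.leaf 158493494)) (.node (.leaf 85296053) (.leaf 0))) (.node (.node (.leaf 64856064) (.leaf 0)) (.node (.leaf 83820544) (.leaf 0)))) (.node (.node (.node (.leaf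 41828352) (.leaf 147013632)) (.node (.leaf 122961920) (.leaf 0))) (.node (.node (.leaf 85884928) (.leaf 0)) (.node (.leaf 151330816) (.leaf 0)))))) (.node (.node (.node (.node (.node (.leaf 10657792) (.leaf 151939983)) (.node (.leaf 100638720) (.leaf 0))) (.node (.node (.leaf 54242574) (.leaf 0)) (.node (.leaf 99040211) (.leaf 0)))) (.node (.node (.node (.leaf 35848192) (.leaf 164984701)) (.node (.leaf 118759424) (.leaf 0))) (.node (.node (.leaf 80814080) (.leaf 0)) (.node (.leaf 96157696) (.leaf 0))))) (.node (.node (.node (.node (.leaf 23445504) (.leaf 132396250)) (.node (.leaf 58261504) (.leaf 0))) (.node (.node (.leaf 70311936) (.leaf 0)) (.node (.leaf 102629723) (.leaf 0)))) (.node (.node (.node (.leaf 20881408) (.leaf 157286400)) (.node (.leaf 72491008) (.leaf 0))) (.node (.node (.leaf 44990464) (.leaf 0)) (.node (.leaf 105070592) (.leaf 0)))))))) (.node (.node (.node (.node (.node (.node (.node (.leaf 2465792) (.leaf 152733061)) (.node (.leaf 89559140) (.leaf 0))) (.node (.node (.leaf 52166656)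 (.leaf 0)) (.node (.leaf 121125735) (.leaf 0)))) (.node (.node (.node (.leaf 28114944) (.leaf 131177394)) (.node (.leaf 113311744) (.leaf 0))) (.node (.node (.leaf 42500851) (.leaf 0)) (.node (.leaf 135428308) (.leaf 0))))) (.node (.node (.node (.node (.leaf 15482880) (.leaf 130045951)) (.node (.leaf 104046592) (.leaf 0))) (.node (.node (.leaf 63545344) (.leaf 0)) (.node (.leaf 131179222) (.leaf 0)))) (.node (.node (.node (.leaf 40329216) (.leaf 144826368)) (.node (.leaf 121946112) (.leaf 0))) (.node (.node (.leaf 84746240) (.leaf 0)) (.node (.leaf 127018579) (.leaf 0)))))) (.node (.node (.node (.node (.node (.leaf 9043968) (.leaf 143321493)) (.node (.leaf 73654498) (.leaf 0))) (.node (.node (.leaf 57753600) (.leaf 0)) (.node (.leaf 123361506) (.leaf 0)))) (.node (.node (.node (.leaf 14532608) (.leaf 164796586)) (.node (.leaf 64348160) (.leaf 0))) (.node (.node (.leaf 79544320) (.leaf 0)) (.node (.leaf 147537920) (.leaf 0))))) (.node (.node (.node (.node (.leaf 20731447) (.leaf 144392273)) (.node (.leaf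 90646066) (.leaf 0))) (.node (.node (.leaf 69033984) (.leaf 0)) (.node (.leaf 141008896) (.leaf 0)))) (.node (.node (.node (.leaf 46333952) (.leaf 165674142)) (.node (.leaf 126115840) (.leaf 0))) (.node (.node (.leaf 89743360) (.leaf 0)) (.node (.leaf 153337856) (.leaf 0))))))) (.node (.node (.node (.node (.node (.node (.leaf 2285568) (.leaf 111157248)) (.node (.leaf 49094656) (.leaf 0))) (.node (.node (.leaf 28910337) (.leaf 0)) (.node (.leaf 86819087) (.leaf 0)))) (.node (.node (.node (.leaf 13082624) (.leaf 139303853)) (.node (.leaf 115556352) (.leaf 0))) (.node (.node (.leaf 76890112) (.leaf 0)) (.node (.leaf 145924096) (.leaf 0))))) (.node (.node (.node (.node (.leaf 7675904) (.leaf 121487360)) (.node (.leaf 106569728) (.leaf 0))) (.node (.node (.leaf 62536042) (.leaf 0)) (.node (.leaf 84844544) (.leaf 0)))) (.node (.node (.node (.leaf 43294720) (.leaf 149340160)) (.node (.leaf 69722112) (.leaf 0))) (.node (.node (.leaf 87146496) (.leaf 0)) (.node (.leaf 152059904) (.leaf 0)))))) (.node (.node (.node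 (.node (.node (.leaf 12271616) (.leaf 115998720)) (.node (.leaf 88000769) (.leaf 0))) (.node (.node (.leaf 60743680) (.leaf 0)) (.node (.leaf 80797696) (.leaf 0)))) (.node (.node (.node (.leaf 15925248) (.leaf 157019735)) (.node (.leaf 72528825) (.leaf 0))) (.node (.node (.leaf 39550976) (.leaf 0)) (.node (.leaf 120534299) (.leaf 0))))) (.node (.node (.node (.node (.leaf 10395648) (.leaf 150976511)) (.node (.leaf 104262258) (.leaf 0))) (.node (.node (.leaf 53473743) (.leaf 0)) (.node (.leaf 88825856) (.leaf 0)))) (.node (.node (.node (.leaf 49283072) (.leaf 165683404)) (.node (.leaf 128090112) (.leaf 0))) (.node (.node (.leaf 45760512) (.leaf 0)) (.node (.leaf 106233856) (.leaf 0))))))))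

def e1T61 : NT := .node (.node (.node (.node (.node (.node (.node (.node (.leaf 802816) (.leaf 122025051)) (.node (.leaf 93478912) (.leaf 0))) (.node (.node (.leaf 35873528) (.leaf 0)) (.node (.leaf 129015808) (.leaf 0)))) (.node (.node (.node (.leaf 26583040) (.leaf 151212961)) (.node (.leaf 59990016) (.leaf 0))) (.node (.node (.leaf 72949760) (.leaf 0)) (.node (.leaf 108765642) (.leaf 0))))) (.node (.node (.node (.node (.leaf 13877248) (.leaf 153426366)) (.node (.leaf 53223424) (.leaf 0))) (.node (.node (.leaf 62160896) (.leaf 0)) (.node (.leaf 120030352) (.leaf 0)))) (.node (.node (.node (.leaf 38862848) (.leaf 165900380)) (.node (.leaf 120856576) (.leaf 0))) (.node (.node (.leaf 40296448) (.leaf 0)) (.node (.leaf 98287616) (.leaf 0)))))) (.node (.node (.node (.node (.node (.leaf 7413760) (.leaf 112435200)) (.node (.leaf 49938432) (.leaf 0))) (.node (.node (.leaf 56320000) (.leaf 0)) (.node (.leaf 84626248) (.leaf 0)))) (.node (.node (.node (.leaf 32792576) (.leaf 147330577)) (.node (.leaf 116621312)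 (.leaf 0))) (.node (.node (.leaf 74244589) (.leaf 0)) (.node (.leaf 142218896) (.leaf 0))))) (.node (.node (.node (.node (.leaf 20414464) (.leaf 122830848)) (.node (.leaf 58060669) (.leaf 0))) (.node (.node (.leaf 67723264) (.leaf 0)) (.node (.leaf 92473602) (.leaf 0)))) (.node (.node (.node (.leaf 19496960) (.leaf 151977984)) (.node (.leaf 70672384) (.leaf 0))) (.node (.node (.leaf 88465408) (.leaf 0)) (.node (.leaf 116683007) (.leaf 0))))))) (.node (.node (.node (.node (.node (.node (.leaf 1622016) (.leaf 118614229)) (.node (.leaf 95895552) (.leaf 0))) (.node (.node (.leaf 53575680) (.leaf 0)) (.node (.leaf 130949120) (.leaf 0)))) (.node (.node (.node (.leaf 12410880) (.leaf 131883008)) (.node (.leaf 61825024) (.leaf 0))) (.node (.node (.leaf 75603968) (.leaf 0)) (.node (.leaf 92053504) (.leaf 0))))) (.node (.node (.node (.node (.leaf 17137664) (.leaf 121829822)) (.node (.leaf 54910976) (.leaf 0))) (.node (.node (.leaf 29655040) (.leaf 0)) (.node (.leaf 138223616) (.leaf 0)))) (.node (.node (.node (.leaf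 18087936) (.leaf 167403520)) (.node (.leaf 122970112) (.leaf 0))) (.node (.node (.leaf 85901312) (.leaf 0)) (.node (.leaf 100433920) (.leaf 0)))))) (.node (.node (.node (.node (.node (.leaf 4308992) (.leaf 114786304)) (.node (.leaf 51568640) (.leaf 0))) (.node (.node (.leaf 59277312) (.leaf 0)) (.node (.leaf 134684672) (.leaf 0)))) (.node (.node (.node (.leaf 15245312) (.leaf 150979263)) (.node (.leaf 65306624) (.leaf 0))) (.node (.node (.leaf 38854656) (.leaf 0)) (.node (.leaf 128742954) (.leaf 0))))) (.node (.node (.node (.node (.leaf 23461888) (.leaf 150243323)) (.node (.leaf 110051328) (.leaf 0))) (.node (.node (.leaf 70328320) (.leaf 0)) (.node (.leaf 87810048) (.leaf 0)))) (.node (.node (.node (.leaf 47783936) (.leaf 157302784)) (.node (.leaf 99071220) (.leaf 0))) (.node (.node (.leaf 73561666) (.leaf 0)) (.node (.leaf 140658233) (.leaf 0)))))))) (.node (.node (.node (.node (.node (.node (.node (.leaf 966656) (.leaf 145259131)) (.node (.leaf 47357952) (.leaf 0))) (.node (.node (.leaf 23068672) (.leaf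 0)) (.node (.leaf 130048000) (.leaf 0)))) (.node (.node (.node (.leaf 11730944) (.leaf 130293760)) (.node (.leaf 60932096) (.leaf 0))) (.node (.node (.leaf 34897920) (.leaf 0)) (.node (.leaf 90873856) (.leaf 0))))) (.node (.node (.node (.node (.leaf 6316032) (.leaf 160571392)) (.node (.leaf 54091776) (.leaf 0))) (.node (.node (.leaf 63561728) (.leaf 0)) (.node (.leaf 82812928) (.leaf 0)))) (.node (.node (.node (.leaf 17367040) (.leaf 160464973)) (.node (.leaf 67878912) (.leaf 0))) (.node (.node (.leaf 41050112) (.leaf 0)) (.node (.leaf 118470613) (.leaf 0)))))) (.node (.node (.node (.node (.node (.leaf 3629056) (.leaf 131839840)) (.node (.leaf 50749440) (.leaf 0))) (.node (.node (.leaf 25968640) (.leaf 0)) (.node (.leaf 78995456) (.leaf 0)))) (.node (.node (.node (.leaf 34324480) (.leaf 165978112)) (.node (.leaf 117719040) (.leaf 0))) (.node (.node (.leaf 79552512) (.leaf 0)) (.node (.leaf 95059968) (.leaf 0))))) (.node (.node (.node (.node (.leaf 9068544) (.leaf 150344804)) (.node (.leaf 57442304) (.leaf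 0))) (.node (.node (.leaf 69050368) (.leaf 0)) (.node (.leaf 86810624) (.leaf 0)))) (.node (.node (.node (.leaf 20193280) (.leaf 154296320)) (.node (.leaf 103710790) (.leaf 0))) (.node (.node (.leaf 44228608) (.leaf 0)) (.node (.leaf 153346048) (.leaf 0))))))) (.node (.node (.node (.node (.node (.node (.leaf 5767168) (.leaf 119531830)) (.node (.leaf 97083392) (.leaf 0))) (.node (.node (.leaf 24477696) (.leaf 0)) (.node (.leaf 77258752) (.leaf 0)))) (.node (.node (.node (.leaf 31244288) (.leaf 156054507)) (.node (.leaf 62660608) (.leaf 0))) (.node (.node (.leaf 36454400) (.leaf 0)) (.node (.leaf 92987392) (.leaf 0))))) (.node (.node (.node (.node (.leaf 18784256) (.leaf 142370387)) (.node (.leaf 55779328) (.leaf 0))) (.node (.node (.leaf 30392320) (.leaf 0)) (.node (.leaf 139149312) (.leaf 0)))) (.node (.node (.node (.leaf 18776064) (.leaf 166741055)) (.node (.leaf 123961344) (.leaf 0))) (.node (.node (.leaf 42606592) (.leaf 0)) (.node (.leaf 152068096) (.leaf 0)))))) (.node (.node (.node (.node (.node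 (.leaf 4964352) (.leaf 116006912)) (.node (.leaf 101867520) (.leaf 0))) (.node (.node (.leaf 27443200) (.leaf 0)) (.node (.leaf 86808397) (.leaf 0)))) (.node (.node (.node (.leaf 37421056) (.leaf 140795904)) (.node (.leaf 66199552) (.leaf 0))) (.node (.node (.leaf 82157568) (.leaf 0)) (.node (.leaf 107349555) (.leaf 0))))) (.node (.node (.node (.node (.leaf 25067520) (.leaf 142995837)) (.node (.leaf 59097088) (.leaf 0))) (.node (.node (.leaf 33374208) (.leaf 0)) (.node (.leaf 142721024) (.leaf 0)))) (.node (.node (.node (.leaf 21602304) (.leaf 162145335)) (.node (.leaf 73449472) (.leaf 0))) (.node (.node (.leaf 45776896) (.leaf 0)) (.node (.leaf 130984918) (.leaf 0))))))))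

def e1T62 : NT := .node (.node (.node (.node (.node (.node (.node (.node (.leaf 819200) (.leaf 125330474)) (.node (.leaf 53196374) (.leaf 0))) (.node (.node (.leaf 22323200) (.leaf 0)) (.node (.leaf 99796256) (.leaf 0)))) (.node (.node (.node (.leaf 11075584) (.leaf 133819644)) (.node (.leaf 112230400) (.leaf 0))) (.node (.node (.leaf 34168832) (.leaf 0)) (.node (.leaf 143474688) (.leaf 0))))) (.node (.node (.node (.node (.leaf 13893632) (.leaf 156862689)) (.node (.leaf 53231616) (.leaf 0))) (.node (.node (.leaf 62177280) (.leaf 0)) (.node (.leaf 81838080) (.leaf 0)))) (.node (.node (.node (.leaf 26022066) (.leaf 156044873)) (.node (.leaf 67084288) (.leaf 0))) (.node (.node (.leaf 51743137) (.leaf 0)) (.node (.leaf 111616969) (.leaf 0)))))) (.node (.node (.node (.node (.node (.leaf 7430144) (.leaf 157827072)) (.node (.leaf 73861625) (.leaf 0))) (.node (.node (.leaf 25231360) (.leaf 0)) (.node (.leaf 78118912) (.leaf 0)))) (.node (.node (.node (.leaf 13811712) (.leaf 165601280)) (.node (.leaf 63496192)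 (.leaf 0))) (.node (.node (.leaf 37265408) (.leaf 0)) (.node (.leaf 94044160) (.leaf 0))))) (.node (.node (.node (.node (.leaf 8380416) (.leaf 122839040)) (.node (.leaf 107773952) (.leaf 0))) (.node (.node (.leaf 31113216) (.leaf 0)) (.node (.leaf 140156928) (.leaf 0)))) (.node (.node (.node (.leaf 44843008) (.leaf 165851610)) (.node (.leaf 125001728) (.leaf 0))) (.node (.node (.leaf 88481792) (.leaf 0)) (.node (.leaf 102809600) (.leaf 0))))))) (.node (.node (.node (.node (.node (.node (.leaf 4145152) (.leaf 139561783)) (.node (.leaf 48267264) (.leaf 0))) (.node (.node (.leaf 53592064) (.leaf 0)) (.node (.leaf 130957312) (.leaf 0)))) (.node (.node (.node (.leaf 29687808) (.leaf 155445749)) (.node (.leaf 114434048) (.leaf 0))) (.node (.node (.leaf 35643392) (.leaf 0)) (.node (.leaf 120049463) (.leaf 0))))) (.node (.node (.node (.node (.leaf 17154048) (.leaf 120258560)) (.node (.leaf 105332736) (.leaf 0))) (.node (.node (.leaf 64880640) (.leaf 0)) (.node (.leaf 109259761) (.leaf 0)))) (.node (.node (.node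 (.leaf 41852928) (.leaf 148364126)) (.node (.leaf 68861952) (.leaf 0))) (.node (.node (.leaf 41836544) (.leaf 0)) (.node (.leaf 151339008) (.leaf 0)))))) (.node (.node (.node (.node (.node (.leaf 10682368) (.leaf 114810880)) (.node (.leaf 100655104) (.leaf 0))) (.node (.node (.leaf 26722304) (.leaf 0)) (.node (.leaf 79953920) (.leaf 0)))) (.node (.node (.node (.leaf 17429365) (.leaf 162457907)) (.node (.leaf 65314816) (.leaf 0))) (.node (.node (.leaf 38871040) (.leaf 0)) (.node (.leaf 111193808) (.leaf 0))))) (.node (.node (.node (.node (.leaf 9748480) (.leaf 125689856)) (.node (.leaf 93137556) (.leaf 0))) (.node (.node (.leaf 32628736) (.leaf 0)) (.node (.leaf 141910016) (.leaf 0)))) (.node (.node (.node (.leaf 20889600) (.leaf 159671754)) (.node (.leaf 127156224) (.leaf 0))) (.node (.node (.leaf 44998656) (.leaf 0)) (.node (.leaf 105078784) (.leaf 0)))))))) (.node (.node (.node (.node (.node (.node (.node (.leaf 2490368) (.leaf 156106752)) (.node (.leaf 94683136) (.leaf 0))) (.node (.node (.leaf 52191232)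 (.leaf 0)) (.node (.leaf 115059479) (.leaf 0)))) (.node (.node (.node (.leaf 28131328) (.leaf 133715977)) (.node (.leaf 113328128) (.leaf 0))) (.node (.node (.leaf 74276864) (.leaf 0)) (.node (.leaf 105684133) (.leaf 0))))) (.node (.node (.node (.node (.leaf 15507456) (.leaf 118841344)) (.node (.leaf 104054784) (.leaf 0))) (.node (.node (.leaf 28950528) (.leaf 0)) (.node (.leaf 82821120) (.leaf 0)))) (.node (.node (.node (.leaf 40353792) (.leaf 159282577)) (.node (.leaf 121954304) (.leaf 0))) (.node (.node (.leaf 84762624) (.leaf 0)) (.node (.leaf 99336192) (.leaf 0)))))) (.node (.node (.node (.node (.node (.leaf 9060352) (.leaf 113549312)) (.node (.leaf 99459072) (.leaf 0))) (.node (.node (.leaf 57778176) (.leaf 0)) (.node (.leaf 133750784) (.leaf 0)))) (.node (.node (.node (.leaf 34340864) (.leaf 136962048)) (.node (.leaf 117735424) (.leaf 0))) (.node (.node (.leaf 38060032) (.leaf 0)) (.node (.leaf 122569140) (.leaf 0))))) (.node (.node (.node (.node (.leaf 21929984) (.leaf 161993790)) (.node (.leaf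 108920832) (.leaf 0))) (.node (.node (.leaf 31891456) (.leaf 0)) (.node (.leaf 111399204) (.leaf 0)))) (.node (.node (.node (.leaf 46358528) (.leaf 157925805)) (.node (.leaf 72627459) (.leaf 0))) (.node (.node (.leaf 45562002) (.leaf 0)) (.node (.leaf 103858176) (.leaf 0))))))) (.node (.node (.node (.node (.node (.node (.leaf 5783552) (.leaf 151785319)) (.node (.leaf 95285727) (.leaf 0))) (.node (.node (.leaf 54943744) (.leaf 0)) (.node (.leaf 132038656) (.leaf 0)))) (.node (.node (.node (.leaf 31260672) (.leaf 137466522)) (.node (.leaf 115572736) (.leaf 0))) (.node (.node (.leaf 75527095) (.leaf 0)) (.node (.leaf 140988873) (.leaf 0))))) (.node (.node (.node (.node (.leaf 18800640) (.leaf 121503744)) (.node (.leaf 55787520) (.leaf 0))) (.node (.node (.leaf 66322432) (.leaf 0)) (.node (.leaf 84852736) (.leaf 0)))) (.node (.node (.node (.leaf 43319296) (.leaf 155899385)) (.node (.leaf 69738496) (.leaf 0))) (.node (.node (.leaf 87162880) (.leaf 0)) (.node (.leaf 101597184) (.leaf 0)))))) (.node (.node (.node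 (.node (.node (.leaf 6893746) (.leaf 151263219)) (.node (.leaf 52412416) (.leaf 0))) (.node (.node (.leaf 60768256) (.leaf 0)) (.node (.leaf 135618560) (.leaf 0)))) (.node (.node (.node (.leaf 15933440) (.leaf 166731776)) (.node (.leaf 111775505) (.leaf 0))) (.node (.node (.leaf 82173952) (.leaf 0)) (.node (.leaf 126027238) (.leaf 0))))) (.node (.node (.node (.node (.leaf 10403840) (.leaf 127139840)) (.node (.leaf 59113472) (.leaf 0))) (.node (.node (.leaf 70261294) (.leaf 0)) (.node (.leaf 119669049) (.leaf 0)))) (.node (.node (.node (.leaf 49307648) (.leaf 160915456)) (.node (.leaf 128106496) (.leaf 0))) (.node (.node (.leaf 81061159) (.leaf 0)) (.node (.leaf 106266624) (.leaf 0))))))))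

def e1T63 : NT := .node (.node (.node (.node (.node (.node (.node (.node (.leaf 319488) (.leaf 107503616)) (.node (.leaf 46563328) (.leaf 0))) (.node (.node (.leaf 50708480) (.leaf 0)) (.node (.leaf 84132207) (.leaf 0)))) (.node (.node (.node (.leaf 26607616) (.leaf 128663552)) (.node (.leaf 59998208) (.leaf 0))) (.node (.node (.leaf 72966144) (.leaf 0)) (.node (.leaf 89833472) (.leaf 0))))) (.node (.node (.node (.node (.leaf 5652480) (.leaf 159965184)) (.node (.leaf 94081395) (.leaf 0))) (.node (.node (.leaf 28213248) (.leaf 0)) (.node (.leaf 89202961) (.leaf 0)))) (.node (.node (.node (.leaf 16654336) (.leaf 142983168)) (.node (.leaf 117794590) (.leaf 0))) (.node (.node (.leaf 40312832) (.leaf 0)) (.node (.leaf 109524759) (.leaf 0)))))) (.node (.node (.node (.node (.node (.leaf 2965504) (.leaf 112459776)) (.node (.leaf 98254848) (.leaf 0))) (.node (.node (.leaf 56344576) (.leaf 0)) (.node (.leaf 97439237) (.leaf 0)))) (.node (.node (.node (.leaf 32817152) (.leaf 165245654)) (.node (.leaf 63504384) (.leaf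 0))) (.node (.node (.leaf 78266368) (.leaf 0)) (.node (.leaf 140933624) (.leaf 0))))) (.node (.node (.node (.node (.leaf 14006971) (.leaf 122847232)) (.node (.leaf 66339923) (.leaf 0))) (.node (.node (.leaf 46658611) (.leaf 0)) (.node (.leaf 85852160) (.leaf 0)))) (.node (.node (.node (.leaf 19505152) (.leaf 158627254)) (.node (.leaf 70688768) (.leaf 0))) (.node (.node (.leaf 88498176) (.leaf 0)) (.node (.leaf 102817792) (.leaf 0))))))) (.node (.node (.node (.node (.node (.node (.leaf 4161536) (.leaf 109944832)) (.node (.leaf 95911936) (.leaf 0))) (.node (.node (.leaf 23764992) (.leaf 0)) (.node (.leaf 130965504) (.leaf 0)))) (.node (.node (.node (.leaf 12419072) (.leaf 131891200)) (.node (.leaf 114442240) (.leaf 0))) (.node (.node (.leaf 75628544) (.leaf 0)) (.node (.leaf 92069888) (.leaf 0))))) (.node (.node (.node (.node (.leaf 7012352) (.leaf 120283136)) (.node (.leaf 105349120) (.leaf 0))) (.node (.node (.leaf 64897024) (.leaf 0)) (.node (.leaf 138248192) (.leaf 0)))) (.node (.node (.node (.leaf 18096128)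 (.leaf 147054592)) (.node (.leaf 94890223) (.leaf 0))) (.node (.node (.leaf 85917696) (.leaf 0)) (.node (.leaf 100450304) (.leaf 0)))))) (.node (.node (.node (.node (.node (.leaf 10698752) (.leaf 114819072)) (.node (.leaf 100671488) (.leaf 0))) (.node (.node (.leaf 59301888) (.leaf 0)) (.node (.leaf 134709248) (.leaf 0)))) (.node (.node (.node (.leaf 35880960) (.leaf 138887168)) (.node (.leaf 118784000) (.leaf 0))) (.node (.node (.leaf 80838656) (.leaf 0)) (.node (.leaf 122168443) (.leaf 0))))) (.node (.node (.node (.node (.leaf 23486464) (.leaf 144145290)) (.node (.leaf 58277888) (.leaf 0))) (.node (.node (.leaf 70344704) (.leaf 0)) (.node (.leaf 141918208) (.leaf 0)))) (.node (.node (.node (.leaf 47808512) (.leaf 157351936)) (.node (.leaf 72507392) (.leaf 0))) (.node (.node (.leaf 66805990) (.leaf 0)) (.node (.leaf 146436346) (.leaf 0)))))))) (.node (.node (.node (.node (.node (.node (.node (.leaf 974848) (.leaf 108691456)) (.node (.leaf 94699520) (.leaf 0))) (.node (.node (.leaf 52207616) (.leaf 0))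 (.node (.leaf 75317248) (.leaf 0)))) (.node (.node (.node (.leaf 28147712) (.leaf 158384783)) (.node (.leaf 60948480) (.leaf 0))) (.node (.node (.leaf 34906112) (.leaf 0)) (.node (.leaf 90882048) (.leaf 0))))) (.node (.node (.node (.node (.leaf 6324224) (.leaf 118857728)) (.node (.leaf 54099968) (.leaf 0))) (.node (.node (.leaf 43899929) (.leaf 0)) (.node (.leaf 110622834) (.leaf 0)))) (.node (.node (.node (.leaf 17383424) (.leaf 152316667)) (.node (.leaf 67895296) (.leaf 0))) (.node (.node (.leaf 41058304) (.leaf 0)) (.node (.leaf 99344384) (.leaf 0)))))) (.node (.node (.node (.node (.node (.leaf 9076736) (.leaf 139896064)) (.node (.leaf 50757632) (.leaf 0))) (.node (.node (.leaf 57794560) (.leaf 0)) (.node (.leaf 133767168) (.leaf 0)))) (.node (.node (.node (.leaf 14548992) (.leaf 136978432)) (.node (.leaf 117751808) (.leaf 0))) (.node (.node (.leaf 79568896) (.leaf 0)) (.node (.leaf 95068160) (.leaf 0))))) (.node (.node (.node (.node (.leaf 21946368) (.leaf 162006606)) (.node (.leaf 57458688) (.leaf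 0))) (.node (.node (.leaf 63824596) (.leaf 0)) (.node (.leaf 141017088) (.leaf 0)))) (.node (.node (.node (.leaf 20201472) (.leaf 165596041)) (.node (.leaf 71639040) (.leaf 0))) (.node (.node (.leaf 44236800) (.leaf 0)) (.node (.leaf 153362432) (.leaf 0))))))) (.node (.node (.node (.node (.node (.node (.leaf 2301952) (.leaf 141423359)) (.node (.leaf 49111040) (.leaf 0))) (.node (.node (.leaf 31122791) (.leaf 0)) (.node (.leaf 105497487) (.leaf 0)))) (.node (.node (.node (.leaf 31277056) (.leaf 155302248)) (.node (.leaf 62676992) (.leaf 0))) (.node (.node (.leaf 36470784) (.leaf 0)) (.node (.leaf 114079774) (.leaf 0))))) (.node (.node (.node (.node (.leaf 7692288) (.leaf 131111517)) (.node (.leaf 57209053) (.leaf 0))) (.node (.node (.leaf 30408704) (.leaf 0)) (.node (.leaf 113919144) (.leaf 0)))) (.node (.node (.node (.leaf 18792448) (.leaf 154141638)) (.node (.leaf 116111675) (.leaf 0))) (.node (.node (.leaf 42614784) (.leaf 0)) (.node (.leaf 101605376) (.leaf 0)))))) (.node (.node (.node (.node (.node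 (.leaf 4972544) (.leaf 116865602)) (.node (.leaf 101883904) (.leaf 0))) (.node (.node (.leaf 60784640) (.leaf 0)) (.node (.leaf 135634944) (.leaf 0)))) (.node (.node (.node (.leaf 37445632) (.leaf 140812288)) (.node (.leaf 92726927) (.leaf 0))) (.node (.node (.leaf 39567360) (.leaf 0)) (.node (.leaf 149159936) (.leaf 0))))) (.node (.node (.node (.node (.leaf 25092096) (.leaf 163251172)) (.node (.leaf 111165440) (.leaf 0))) (.node (.node (.leaf 33390592) (.leaf 0)) (.node (.leaf 88842240) (.leaf 0)))) (.node (.node (.node (.leaf 21618688) (.leaf 167901931)) (.node (.leaf 73465856) (.leaf 0))) (.node (.node (.leaf 45785088) (.leaf 0)) (.node (.leaf 149250926) (.leaf 0))))))))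

def e1T64 : NT := .node (.node (.node (.node (.node (.node (.node (.node (.leaf 843776) (.leaf 107520000)) (.node (.leaf 93511680) (.leaf 0))) (.node (.node (.leaf 50724864) (.leaf 0)) (.node (.leaf 74326016) (.leaf 0)))) (.node (.node (.node (.leaf 19113747) (.leaf 128671744)) (.node (.leaf 112246784) (.leaf 0))) (.node (.node (.leaf 72982528) (.leaf 0)) (.node (.leaf 106330060) (.leaf 0))))) (.node (.node (.node (.node (.leaf 13910016) (.leaf 148832536)) (.node (.leaf 102998016) (.leaf 0))) (.node (.node (.leaf 62201856) (.leaf 0)) (.node (.leaf 136486912) (.leaf 0)))) (.node (.node (.node (.leaf 36877612) (.leaf 142999552)) (.node (.leaf 67092480) (.leaf 0))) (.node (.node (.leaf 83517440) (.leaf 0)) (.node (.leaf 98304000) (.leaf 0)))))) (.node (.node (.node (.node (.node (.leaf 7454720) (.leaf 112467968)) (.node (.leaf 49954816) (.leaf 0))) (.node (.node (.leaf 25247744) (.leaf 0)) (.node (.leaf 132874240) (.leaf 0)))) (.node (.node (.node (.leaf 19597558) (.leaf 135184384)) (.node (.leaf 116637696)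 (.leaf 0))) (.node (.node (.leaf 78282752) (.leaf 0)) (.node (.leaf 136976931) (.leaf 0))))) (.node (.node (.node (.node (.leaf 20447232) (.leaf 155692215)) (.node (.leaf 70013545) (.leaf 0))) (.node (.node (.leaf 67747840) (.leaf 0)) (.node (.leaf 126048721) (.leaf 0)))) (.node (.node (.node (.leaf 44859392) (.leaf 153833243)) (.node (.leaf 125018112) (.leaf 0))) (.node (.node (.leaf 43401216) (.leaf 0)) (.node (.leaf 152368471) (.leaf 0))))))) (.node (.node (.node (.node (.node (.node (.leaf 1638400) (.leaf 156688384)) (.node (.leaf 48275456) (.leaf 0))) (.node (.node (.leaf 53608448) (.leaf 0)) (.node (.leaf 76324864) (.leaf 0)))) (.node (.node (.node (.leaf 29712384) (.leaf 131899392)) (.node (.leaf 61841408) (.leaf 0))) (.node (.node (.leaf 75644928) (.leaf 0)) (.node (.leaf 128018659) (.leaf 0))))) (.node (.node (.node (.node (.leaf 17178624) (.leaf 120315904)) (.node (.leaf 105365504) (.leaf 0))) (.node (.node (.leaf 29671424) (.leaf 0)) (.node (.leaf 83869696) (.leaf 0)))) (.node (.node (.node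 (.leaf 29415910) (.leaf 148367084)) (.node (.leaf 68878336) (.leaf 0))) (.node (.node (.leaf 41844736) (.leaf 0)) (.node (.leaf 100466688) (.leaf 0)))))) (.node (.node (.node (.node (.node (.leaf 4325376) (.leaf 144767919)) (.node (.leaf 100679680) (.leaf 0))) (.node (.node (.leaf 59318272) (.leaf 0)) (.node (.leaf 120358688) (.leaf 0)))) (.node (.node (.node (.leaf 15261696) (.leaf 161722837)) (.node (.leaf 112670402) (.leaf 0))) (.node (.node (.leaf 38879232) (.leaf 0)) (.node (.leaf 96182272) (.leaf 0))))) (.node (.node (.node (.node (.leaf 23502848) (.leaf 158740571)) (.node (.leaf 65031253) (.leaf 0))) (.node (.node (.leaf 32636928) (.leaf 0)) (.node (.leaf 141926400) (.leaf 0)))) (.node (.node (.node (.leaf 47824896) (.leaf 157376512)) (.node (.leaf 122939849) (.leaf 0))) (.node (.node (.leaf 90963968) (.leaf 0)) (.node (.leaf 154132480) (.leaf 0)))))))) (.node (.node (.node (.node (.node (.node (.node (.leaf 2514944) (.leaf 156114944)) (.node (.leaf 47374336) (.leaf 0))) (.node (.node (.leaf 23085056)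 (.leaf 0)) (.node (.leaf 130064384) (.leaf 0)))) (.node (.node (.node (.leaf 11747328) (.leaf 130326528)) (.node (.leaf 113352704) (.leaf 0))) (.node (.node (.leaf 74293248) (.leaf 0)) (.node (.leaf 137776130) (.leaf 0))))) (.node (.node (.node (.node (.leaf 15532032) (.leaf 160579584)) (.node (.leaf 104079360) (.leaf 0))) (.node (.node (.leaf 63586304) (.leaf 0)) (.node (.leaf 82837504) (.leaf 0)))) (.node (.node (.node (.leaf 32432994) (.leaf 144883712)) (.node (.leaf 91314004) (.leaf 0))) (.node (.node (.leaf 84787200) (.leaf 0)) (.node (.leaf 137894226) (.leaf 0)))))) (.node (.node (.node (.node (.node (.leaf 3645440) (.leaf 113565696)) (.node (.leaf 99475456) (.leaf 0))) (.node (.node (.leaf 25985024) (.leaf 0)) (.node (.leaf 79011840) (.leaf 0)))) (.node (.node (.node (.leaf 34365440) (.leaf 163876670)) (.node (.leaf 64380928) (.leaf 0))) (.node (.node (.leaf 79585280) (.leaf 0)) (.node (.leaf 147562496) (.leaf 0))))) (.node (.node (.node (.node (.leaf 9084928) (.leaf 162603008)) (.node (.leaf 88920647)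 (.leaf 0))) (.node (.node (.leaf 69083136) (.leaf 0)) (.node (.leaf 141025280) (.leaf 0)))) (.node (.node (.node (.leaf 46383104) (.leaf 167603270)) (.node (.leaf 126140416) (.leaf 0))) (.node (.node (.leaf 89784320) (.leaf 0)) (.node (.leaf 103874560) (.leaf 0))))))) (.node (.node (.node (.node (.node (.node (.leaf 5808128) (.leaf 127405233)) (.node (.leaf 97116160) (.leaf 0))) (.node (.node (.leaf 24494080) (.leaf 0)) (.node (.leaf 77275136) (.leaf 0)))) (.node (.node (.node (.leaf 13107200) (.leaf 151079229)) (.node (.leaf 115597312) (.leaf 0))) (.node (.node (.leaf 76922880) (.leaf 0)) (.node (.leaf 93003776) (.leaf 0))))) (.node (.node (.node (.node (.leaf 18825216) (.leaf 121528320)) (.node (.leaf 55803904) (.leaf 0))) (.node (.node (.leaf 66347008) (.leaf 0)) (.node (.leaf 124429595) (.leaf 0)))) (.node (.node (.node (.leaf 43343872) (.leaf 166814810)) (.node (.leaf 69746688) (.leaf 0))) (.node (.node (.leaf 87187456) (.leaf 0)) (.node (.leaf 152092672) (.leaf 0)))))) (.node (.node (.node (.node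 (.node (.leaf 12312576) (.leaf 127031965)) (.node (.leaf 52420608) (.leaf 0))) (.node (.node (.leaf 27459584) (.leaf 0)) (.node (.leaf 118110231) (.leaf 0)))) (.node (.node (.node (.leaf 37462016) (.leaf 166748160)) (.node (.leaf 119758848) (.leaf 0))) (.node (.node (.leaf 74776798) (.leaf 0)) (.node (.leaf 97230848) (.leaf 0))))) (.node (.node (.node (.node (.leaf 10420224) (.leaf 162454176)) (.node (.leaf 59121664) (.leaf 0))) (.node (.node (.leaf 71647232) (.leaf 0)) (.node (.leaf 142745600) (.leaf 0)))) (.node (.node (.node (.leaf 49332224) (.leaf 162326048)) (.node (.leaf 128131072) (.leaf 0))) (.node (.node (.leaf 92184576) (.leaf 0)) (.node (.leaf 106299392) (.leaf 0))))))))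

def e1T65 : NT := .node (.node (.node (.node (.node (.node (.node (.node (.leaf 327680) (.leaf 155418624)) (.node (.leaf 93528064) (.leaf 0))) (.node (.node (.leaf 22339584) (.leaf 0)) (.node (.leaf 112174007) (.leaf 0)))) (.node (.node (.node (.leaf 11091968) (.leaf 159230652)) (.node (.leaf 112263168) (.leaf 0))) (.node (.node (.leaf 34185216) (.leaf 0)) (.node (.leaf 143499264) (.leaf 0))))) (.node (.node (.node (.node (.leaf 5660672) (.leaf 159989760)) (.node (.leaf 53256192) (.leaf 0))) (.node (.node (.leaf 62218240) (.leaf 0)) (.node (.leaf 81854464) (.leaf 0)))) (.node (.node (.node (.leaf 38895616) (.leaf 143015936)) (.node (.leaf 98971719) (.leaf 0))) (.node (.node (.leaf 40321024) (.leaf 0)) (.node (.leaf 128078051) (.leaf 0)))))) (.node (.node (.node (.node (.node (.leaf 7471104) (.leaf 112476160)) (.node (.leaf 77867198) (.leaf 0))) (.node (.node (.leaf 56369152) (.leaf 0)) (.node (.leaf 86372933) (.leaf 0)))) (.node (.node (.node (.leaf 32841728) (.leaf 141541752)) (.node (.leaf 114560646)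 (.leaf 0))) (.node (.node (.leaf 37281792) (.leaf 0)) (.node (.leaf 124250666) (.leaf 0))))) (.node (.node (.node (.node (.leaf 8396800) (.leaf 122880000)) (.node (.leaf 77387295) (.leaf 0))) (.node (.node (.leaf 67764224) (.leaf 0)) (.node (.leaf 135203491) (.leaf 0)))) (.node (.node (.node (.leaf 44875776) (.leaf 162493874)) (.node (.leaf 125034496) (.leaf 0))) (.node (.node (.leaf 88522752) (.leaf 0)) (.node (.leaf 102850560) (.leaf 0))))))) (.node (.node (.node (.node (.node (.node (.leaf 4186112) (.leaf 156696576)) (.node (.leaf 95928320) (.leaf 0))) (.node (.node (.leaf 23773184) (.leaf 0)) (.node (.leaf 130990080) (.leaf 0)))) (.node (.node (.node (.leaf 12435456) (.leaf 131907584)) (.node (.leaf 114466816) (.leaf 0))) (.node (.node (.leaf 35659776) (.leaf 0)) (.node (.leaf 92078080) (.leaf 0))))) (.node (.node (.node (.node (.leaf 7020544) (.leaf 161103872)) (.node (.leaf 54935552) (.leaf 0))) (.node (.node (.leaf 64921600) (.leaf 0)) (.node (.leaf 138272768) (.leaf 0)))) (.node (.node (.node (.leaf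 41877504) (.leaf 167411712)) (.node (.leaf 123002880) (.leaf 0))) (.node (.node (.leaf 85942272) (.leaf 0)) (.node (.leaf 151355392) (.leaf 0)))))) (.node (.node (.node (.node (.node (.leaf 10723328) (.leaf 114843648)) (.node (.leaf 54197311) (.leaf 0))) (.node (.node (.leaf 59334656) (.leaf 0)) (.node (.leaf 79970304) (.leaf 0)))) (.node (.node (.node (.leaf 35905536) (.leaf 166346752)) (.node (.leaf 65331200) (.leaf 0))) (.node (.node (.leaf 80855040) (.leaf 0)) (.node (.leaf 142015279) (.leaf 0))))) (.node (.node (.node (.node (.leaf 9764864) (.leaf 125730816)) (.node (.leaf 110084096) (.leaf 0))) (.node (.node (.leaf 70361088) (.leaf 0)) (.node (.leaf 87851008) (.leaf 0)))) (.node (.node (.node (.leaf 47841280) (.leaf 167874438)) (.node (.leaf 127172608) (.leaf 0))) (.node (.node (.leaf 45015040) (.leaf 0)) (.node (.leaf 105095168) (.leaf 0)))))))) (.node (.node (.node (.node (.node (.node (.node (.leaf 2531328) (.leaf 108699648)) (.node (.leaf 94724096) (.leaf 0))) (.node (.node (.leaf 52232192) (.leaf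 0)) (.node (.leaf 75325440) (.leaf 0)))) (.node (.node (.node (.leaf 28172288) (.leaf 149916913)) (.node (.leaf 60964864) (.leaf 0))) (.node (.node (.leaf 74309632) (.leaf 0)) (.node (.leaf 90898432) (.leaf 0))))) (.node (.node (.node (.node (.leaf 15548416) (.leaf 130615026)) (.node (.leaf 104095744) (.leaf 0))) (.node (.node (.leaf 28966912) (.leaf 0)) (.node (.leaf 93977477) (.leaf 0)))) (.node (.node (.node (.leaf 40386560) (.leaf 144891904)) (.node (.leaf 67911680) (.leaf 0))) (.node (.node (.leaf 41074688) (.leaf 0)) (.node (.leaf 99352576) (.leaf 0)))))) (.node (.node (.node (.node (.node (.leaf 9101312) (.leaf 123511779)) (.node (.leaf 58295913) (.leaf 0))) (.node (.node (.leaf 57810944) (.leaf 0)) (.node (.leaf 133791744) (.leaf 0)))) (.node (.node (.node (.leaf 14557184) (.leaf 138521163)) (.node (.leaf 117760000) (.leaf 0))) (.node (.node (.leaf 38076416) (.leaf 0)) (.node (.leaf 95076352) (.leaf 0))))) (.node (.node (.node (.node (.leaf 21962752) (.leaf 124321792)) (.node (.leaf 108953600)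 (.leaf 0))) (.node (.node (.leaf 69099520) (.leaf 0)) (.node (.leaf 138397071) (.leaf 0)))) (.node (.node (.node (.leaf 20217856) (.leaf 161910479)) (.node (.leaf 126156800) (.leaf 0))) (.node (.node (.leaf 44253184) (.leaf 0)) (.node (.leaf 153370624) (.leaf 0))))))) (.node (.node (.node (.node (.node (.node (.leaf 2310144) (.leaf 152170344)) (.node (.leaf 49119232) (.leaf 0))) (.node (.node (.leaf 54976512) (.leaf 0)) (.node (.leaf 122061932) (.leaf 0)))) (.node (.node (.node (.leaf 31301632) (.leaf 151662336)) (.node (.leaf 62685184) (.leaf 0))) (.node (.node (.leaf 36478976) (.leaf 0)) (.node (.leaf 102206657) (.leaf 0))))) (.node (.node (.node (.node (.leaf 18841600) (.leaf 121536512)) (.node (.leaf 106610688) (.leaf 0))) (.node (.node (.leaf 30416896) (.leaf 0)) (.node (.leaf 124976123) (.leaf 0)))) (.node (.node (.node (.leaf 43360256) (.leaf 166692889)) (.node (.leaf 123985920) (.leaf 0))) (.node (.node (.leaf 87203840) (.leaf 0)) (.node (.leaf 101919367) (.leaf 0)))))) (.node (.node (.node (.node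 (.node (.leaf 12328960) (.leaf 159506432)) (.node (.leaf 101892096) (.leaf 0))) (.node (.node (.leaf 60809216) (.leaf 0)) (.node (.leaf 135651328) (.leaf 0)))) (.node (.node (.node (.leaf 15949824) (.leaf 158304393)) (.node (.leaf 66232320) (.leaf 0))) (.node (.node (.leaf 82198528) (.leaf 0)) (.node (.leaf 97239040) (.leaf 0))))) (.node (.node (.node (.node (.leaf 25116672) (.leaf 127164416)) (.node (.leaf 111173632) (.leaf 0))) (.node (.node (.leaf 33398784) (.leaf 0)) (.node (.leaf 131430318) (.leaf 0)))) (.node (.node (.node (.leaf 21635072) (.leaf 164227078)) (.node (.leaf 90516023) (.leaf 0))) (.node (.node (.leaf 45801472) (.leaf 0)) (.node (.leaf 153853999) (.leaf 0))))))))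

def e1T66 : NT := .node (.node (.node (.node (.node (.node (.node (.node (.leaf 868352) (.leaf 107536384)) (.node (.leaf 46579712) (.leaf 0))) (.node (.node (.leaf 50741248) (.leaf 0)) (.node (.leaf 129056768) (.leaf 0)))) (.node (.node (.node (.leaf 26640384) (.leaf 128745472)) (.node (.leaf 60014592) (.leaf 0))) (.node (.node (.leaf 72998912) (.leaf 0)) (.node (.leaf 142707375) (.leaf 0))))) (.node (.node (.node (.node (.leaf 13934592) (.leaf 159997952)) (.node (.leaf 103022592) (.leaf 0))) (.node (.node (.leaf 28229632) (.leaf 0)) (.node (.leaf 100782388) (.leaf 0)))) (.node (.node (.node (.leaf 38903808) (.leaf 159300132)) (.node (.leaf 120897536) (.leaf 0))) (.node (.node (.leaf 83533824) (.leaf 0)) (.node (.leaf 149905408) (.leaf 0)))))) (.node (.node (.node (.node (.node (.leaf 2981888) (.leaf 155523200)) (.node (.leaf 98279424) (.leaf 0))) (.node (.node (.leaf 25264128) (.leaf 0)) (.node (.leaf 78159872) (.leaf 0)))) (.node (.node (.node (.leaf 32858112) (.leaf 140421676)) (.node (.leaf 116662272)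 (.leaf 0))) (.node (.node (.leaf 78307328) (.leaf 0)) (.node (.leaf 103946366) (.leaf 0))))) (.node (.node (.node (.node (.leaf 20471808) (.leaf 162103296)) (.node (.leaf 107814912) (.leaf 0))) (.node (.node (.leaf 31137792) (.leaf 0)) (.node (.leaf 126478732) (.leaf 0)))) (.node (.node (.node (.leaf 44892160) (.leaf 152043520)) (.node (.leaf 82599011) (.leaf 0))) (.node (.node (.leaf 88530944) (.leaf 0)) (.node (.leaf 152723456) (.leaf 0))))))) (.node (.node (.node (.node (.node (.node (.leaf 1646592) (.leaf 109961216)) (.node (.leaf 95944704) (.leaf 0))) (.node (.node (.leaf 53624832) (.leaf 0)) (.node (.leaf 76333056) (.leaf 0)))) (.node (.node (.node (.leaf 29736960) (.leaf 131923968)) (.node (.leaf 61849600) (.leaf 0))) (.node (.node (.leaf 75669504) (.leaf 0)) (.node (.leaf 92086272) (.leaf 0))))) (.node (.node (.node (.node (.leaf 17203200) (.leaf 148941178)) (.node (.leaf 54951936) (.leaf 0))) (.node (.node (.leaf 29679616) (.leaf 0)) (.node (.leaf 83877888) (.leaf 0)))) (.node (.node (.node (.leaf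 18112512) (.leaf 147087360)) (.node (.leaf 68894720) (.leaf 0))) (.node (.node (.leaf 41869312) (.leaf 0)) (.node (.leaf 125347443) (.leaf 0)))))) (.node (.node (.node (.node (.node (.leaf 4333568) (.leaf 158932992)) (.node (.leaf 51617792) (.leaf 0))) (.node (.node (.leaf 26746880) (.leaf 0)) (.node (.leaf 81389673) (.leaf 0)))) (.node (.node (.node (.leaf 35921920) (.leaf 138919936)) (.node (.leaf 118816768) (.leaf 0))) (.node (.node (.leaf 38887424) (.leaf 0)) (.node (.leaf 148324352) (.leaf 0))))) (.node (.node (.node (.node (.leaf 23527424) (.leaf 149439817)) (.node (.leaf 110092288) (.leaf 0))) (.node (.node (.leaf 70377472) (.leaf 0)) (.node (.leaf 141950976) (.leaf 0)))) (.node (.node (.node (.leaf 47857664) (.leaf 157417472)) (.node (.leaf 127180800) (.leaf 0))) (.node (.node (.leaf 90988544) (.leaf 0)) (.node (.leaf 138627651) (.leaf 0)))))))) (.node (.node (.node (.node (.node (.node (.node (.leaf 991232) (.leaf 111757820)) (.node (.leaf 94732288) (.leaf 0))) (.node (.node (.leaf 23093248) (.leaf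 0)) (.node (.leaf 100556819) (.leaf 0)))) (.node (.node (.node (.leaf 13693682) (.leaf 130342912)) (.node (.leaf 113369088) (.leaf 0))) (.node (.node (.leaf 34922496) (.leaf 0)) (.node (.leaf 90914816) (.leaf 0))))) (.node (.node (.node (.node (.leaf 6340608) (.leaf 160587776)) (.node (.leaf 54920762) (.leaf 0))) (.node (.node (.leaf 63602688) (.leaf 0)) (.node (.leaf 137363456) (.leaf 0)))) (.node (.node (.node (.leaf 17399808) (.leaf 144900096)) (.node (.leaf 121987072) (.leaf 0))) (.node (.node (.leaf 84803584) (.leaf 0)) (.node (.leaf 111322236) (.leaf 0)))))) (.node (.node (.node (.node (.node (.leaf 3653632) (.leaf 113573888)) (.node (.leaf 50774016) (.leaf 0))) (.node (.node (.leaf 25993216) (.leaf 0)) (.node (.leaf 132149136) (.leaf 0)))) (.node (.node (.node (.leaf 34390016) (.leaf 166002688)) (.node (.leaf 117776384) (.leaf 0))) (.node (.node (.leaf 79593472) (.leaf 0)) (.node (.leaf 144032834) (.leaf 0))))) (.node (.node (.node (.node (.leaf 9093120) (.leaf 124329984)) (.node (.leaf 57475072)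 (.leaf 0))) (.node (.node (.leaf 31916032) (.leaf 0)) (.node (.leaf 86843392) (.leaf 0)))) (.node (.node (.node (.leaf 46399488) (.leaf 154451968)) (.node (.leaf 71655424) (.leaf 0))) (.node (.node (.leaf 77809608) (.leaf 0)) (.node (.leaf 131757347) (.leaf 0))))))) (.node (.node (.node (.node (.node (.node (.leaf 5832704) (.leaf 111222784)) (.node (.leaf 97140736) (.leaf 0))) (.node (.node (.leaf 54992896) (.leaf 0)) (.node (.leaf 132079616) (.leaf 0)))) (.node (.node (.node (.leaf 31318016) (.leaf 133545984)) (.node (.leaf 115613696) (.leaf 0))) (.node (.node (.leaf 76947456) (.leaf 0)) (.node (.leaf 93011968) (.leaf 0))))) (.node (.node (.node (.node (.leaf 7708672) (.leaf 144203951)) (.node (.leaf 55820288) (.leaf 0))) (.node (.node (.leaf 66371584) (.leaf 0)) (.node (.leaf 124658003) (.leaf 0)))) (.node (.node (.node (.leaf 18808832) (.leaf 162874427)) (.node (.leaf 112044247) (.leaf 0))) (.node (.node (.leaf 42631168) (.leaf 0)) (.node (.leaf 127525728) (.leaf 0)))))) (.node (.node (.node (.node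 (.node (.leaf 4988928) (.leaf 116072448)) (.node (.leaf 101908480) (.leaf 0))) (.node (.node (.leaf 60825600) (.leaf 0)) (.node (.leaf 135659520) (.leaf 0)))) (.node (.node (.node (.leaf 37486592) (.leaf 158567564)) (.node (.leaf 119783424) (.leaf 0))) (.node (.node (.leaf 39583744) (.leaf 0)) (.node (.leaf 149168128) (.leaf 0))))) (.node (.node (.node (.node (.leaf 25124864) (.leaf 127188992)) (.node (.leaf 59138048) (.leaf 0))) (.node (.node (.leaf 33415168) (.leaf 0)) (.node (.leaf 88875008) (.leaf 0)))) (.node (.node (.node (.leaf 49356800) (.leaf 163668472)) (.node (.leaf 73490432) (.leaf 0))) (.node (.node (.leaf 92200960) (.leaf 0)) (.node (.leaf 152558370) (.leaf 0))))))))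

def e1T67 : NT := .node (.node (.node (.node (.node (.node (.node (.node (.leaf 884736) (.leaf 134768199)) (.node (.leaf 93552640) (.leaf 0))) (.node (.node (.leaf 22347776) (.leaf 0)) (.node (.leaf 129073152) (.leaf 0)))) (.node (.node (.node (.leaf 11100160) (.leaf 145047866)) (.node (.leaf 61470570) (.leaf 0))) (.node (.node (.leaf 48608805) (.leaf 0)) (.node (.leaf 89866240) (.leaf 0))))) (.node (.node (.node (.node (.leaf 13950976) (.leaf 127833583)) (.node (.leaf 53264384) (.leaf 0))) (.node (.node (.leaf 38004589) (.leaf 0)) (.node (.leaf 81870848) (.leaf 0)))) (.node (.node (.node (.leaf 16678912) (.leaf 163239864)) (.node (.leaf 67108864) (.leaf 0))) (.node (.node (.leaf 47995183) (.leaf 0)) (.node (.leaf 98336768) (.leaf 0)))))) (.node (.node (.node (.node (.node (.leaf 7495680) (.leaf 112492544)) (.node (.leaf 98295808) (.leaf 0))) (.node (.node (.leaf 56393728) (.leaf 0)) (.node (.leaf 132898816) (.leaf 0)))) (.node (.node (.node (.leaf 13844480) (.leaf 135208960)) (.node (.leaf 63537152)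 (.leaf 0))) (.node (.node (.leaf 57710097) (.leaf 0)) (.node (.leaf 94093312) (.leaf 0))))) (.node (.node (.node (.node (.leaf 20488192) (.leaf 122896384)) (.node (.leaf 56639488) (.leaf 0))) (.node (.node (.leaf 67788800) (.leaf 0)) (.node (.leaf 85876736) (.leaf 0)))) (.node (.node (.node (.leaf 19529728) (.leaf 152084480)) (.node (.leaf 70713344) (.leaf 0))) (.node (.node (.leaf 43417600) (.leaf 0)) (.node (.leaf 139518881) (.leaf 0))))))) (.node (.node (.node (.node (.node (.node (.leaf 4202496) (.leaf 156721152)) (.node (.leaf 48300032) (.leaf 0))) (.node (.node (.leaf 53641216) (.leaf 0)) (.node (.leaf 131006464) (.leaf 0)))) (.node (.node (.node (.leaf 12443648) (.leaf 164896768)) (.node (.leaf 114491392) (.leaf 0))) (.node (.node (.leaf 35676160) (.leaf 0)) (.node (.leaf 142287386) (.leaf 0))))) (.node (.node (.node (.node (.leaf 17219584) (.leaf 135771150)) (.node (.leaf 72936422) (.leaf 0))) (.node (.node (.leaf 64946176) (.leaf 0)) (.node (.leaf 83886080) (.leaf 0)))) (.node (.node (.node (.leaf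 41902080) (.leaf 152051715)) (.node (.leaf 123019264) (.leaf 0))) (.node (.node (.leaf 85958656) (.leaf 0)) (.node (.leaf 100483072) (.leaf 0)))))) (.node (.node (.node (.node (.node (.leaf 10747904) (.leaf 114868224)) (.node (.leaf 100712448) (.leaf 0))) (.node (.node (.leaf 59359232) (.leaf 0)) (.node (.leaf 134733824) (.leaf 0)))) (.node (.node (.node (.leaf 15278080) (.leaf 138969088)) (.node (.leaf 118824960) (.leaf 0))) (.node (.node (.leaf 47346215) (.leaf 0)) (.node (.leaf 96198656) (.leaf 0))))) (.node (.node (.node (.node (.leaf 9773056) (.leaf 125779968)) (.node (.leaf 110108672) (.leaf 0))) (.node (.node (.leaf 32661504) (.leaf 0)) (.node (.leaf 87859200) (.leaf 0)))) (.node (.node (.node (.leaf 20930560) (.leaf 162934495)) (.node (.leaf 101827159) (.leaf 0))) (.node (.node (.leaf 91004928) (.leaf 0)) (.node (.leaf 154148864) (.leaf 0)))))))) (.node (.node (.node (.node (.node (.node (.node (.leaf 2555904) (.leaf 136433889)) (.node (.leaf 68707380) (.leaf 0))) (.node (.node (.leaf 52248576)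 (.leaf 0)) (.node (.leaf 130072576) (.leaf 0)))) (.node (.node (.node (.leaf 11763712) (.leaf 164364288)) (.node (.leaf 113377280) (.leaf 0))) (.node (.node (.leaf 74334208) (.leaf 0)) (.node (.leaf 144343040) (.leaf 0))))) (.node (.node (.node (.node (.leaf 15572992) (.leaf 146294581)) (.node (.leaf 54124544) (.leaf 0))) (.node (.node (.leaf 28975104) (.leaf 0)) (.node (.leaf 97913329) (.leaf 0)))) (.node (.node (.node (.leaf 40411136) (.leaf 148649057)) (.node (.leaf 122003456) (.leaf 0))) (.node (.node (.leaf 41082880) (.leaf 0)) (.node (.leaf 99385344) (.leaf 0)))))) (.node (.node (.node (.node (.node (.leaf 9125888) (.leaf 113582080)) (.node (.leaf 80560817) (.leaf 0))) (.node (.node (.leaf 57835520) (.leaf 0)) (.node (.leaf 79028224) (.leaf 0)))) (.node (.node (.node (.leaf 34406400) (.leaf 137019392)) (.node (.leaf 64405504) (.leaf 0))) (.node (.node (.leaf 79609856) (.leaf 0)) (.node (.leaf 117730108) (.leaf 0))))) (.node (.node (.node (.node (.leaf 21987328) (.leaf 162611200)) (.node (.leaf 108969984)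 (.leaf 0))) (.node (.node (.leaf 48710894) (.leaf 0)) (.node (.leaf 141041664) (.leaf 0)))) (.node (.node (.node (.leaf 46415872) (.leaf 154460160)) (.node (.leaf 71663616) (.leaf 0))) (.node (.node (.leaf 66317060) (.leaf 0)) (.node (.leaf 153395200) (.leaf 0))))))) (.node (.node (.node (.node (.node (.node (.leaf 5849088) (.leaf 121688083)) (.node (.leaf 49135616) (.leaf 0))) (.node (.node (.leaf 55009280) (.leaf 0)) (.node (.leaf 77291520) (.leaf 0)))) (.node (.node (.node (.leaf 13123584) (.leaf 165249024)) (.node (.leaf 115621888) (.leaf 0))) (.node (.node (.leaf 76963840) (.leaf 0)) (.node (.leaf 142460990) (.leaf 0))))) (.node (.node (.node (.node (.leaf 18866176) (.leaf 121561088)) (.node (.leaf 106635264) (.leaf 0))) (.node (.node (.leaf 30433280) (.leaf 0)) (.node (.leaf 139190272) (.leaf 0)))) (.node (.node (.node (.leaf 43376640) (.leaf 160150967)) (.node (.leaf 69763072) (.leaf 0))) (.node (.node (.leaf 87220224) (.leaf 0)) (.node (.leaf 101629952) (.leaf 0)))))) (.node (.node (.node (.node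 (.node (.leaf 12353536) (.leaf 127907082)) (.node (.leaf 52436992) (.leaf 0))) (.node (.node (.leaf 27475968) (.leaf 0)) (.node (.leaf 80846848) (.leaf 0)))) (.node (.node (.node (.leaf 15958016) (.leaf 166453786)) (.node (.leaf 119791616) (.leaf 0))) (.node (.node (.leaf 82223104) (.leaf 0)) (.node (.leaf 134730302) (.leaf 0))))) (.node (.node (.node (.node (.leaf 10436608) (.leaf 155258808)) (.node (.leaf 93545437) (.leaf 0))) (.node (.node (.leaf 60612608) (.leaf 0)) (.node (.leaf 88891392) (.leaf 0)))) (.node (.node (.node (.leaf 32786129) (.leaf 161284096)) (.node (.leaf 73498624) (.leaf 0))) (.node (.node (.leaf 92217344) (.leaf 0)) (.node (.leaf 106356736) (.leaf 0))))))))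

def e1T68 : NT := .node (.node (.node (.node (.node (.node (.node (.node (.leaf 344064) (.leaf 111519561)) (.node (.leaf 46587904) (.leaf 0))) (.node (.node (.leaf 50765824) (.leaf 0)) (.node (.leaf 74383360) (.leaf 0)))) (.node (.node (.node (.leaf 22366092) (.leaf 133494131)) (.node (.leaf 60022784) (.leaf 0))) (.node (.node (.leaf 34201600) (.leaf 0)) (.node (.leaf 107284939) (.leaf 0))))) (.node (.node (.node (.node (.leaf 5677056) (.leaf 126890517)) (.node (.leaf 103038976) (.leaf 0))) (.node (.node (.leaf 51872499) (.leaf 0)) (.node (.leaf 81887232) (.leaf 0)))) (.node (.node (.node (.leaf 38928384) (.leaf 165932236)) (.node (.leaf 120905728) (.leaf 0))) (.node (.node (.leaf 40345600) (.leaf 0)) (.node (.leaf 148728152) (.leaf 0)))))) (.node (.node (.node (.node (.node (.leaf 2990080) (.leaf 157835264)) (.node (.leaf 49979392) (.leaf 0))) (.node (.node (.leaf 25272320) (.leaf 0)) (.node (.leaf 132907008) (.leaf 0)))) (.node (.node (.node (.leaf 32882688) (.leaf 135217152)) (.node (.leaf 91984538)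 (.leaf 0))) (.node (.node (.leaf 78315520) (.leaf 0)) (.node (.leaf 94101504) (.leaf 0))))) (.node (.node (.node (.node (.leaf 8413184) (.leaf 158613512)) (.node (.leaf 56647680) (.leaf 0))) (.node (.node (.leaf 67805184) (.leaf 0)) (.node (.leaf 140206080) (.leaf 0)))) (.node (.node (.node (.leaf 19537920) (.leaf 164362406)) (.node (.leaf 125059072) (.leaf 0))) (.node (.node (.leaf 88547328) (.leaf 0)) (.node (.leaf 102883328) (.leaf 0))))))) (.node (.node (.node (.node (.node (.node (.leaf 4218880) (.leaf 109993984)) (.node (.leaf 95969280) (.leaf 0))) (.node (.node (.leaf 23789568) (.leaf 0)) (.node (.leaf 131022848) (.leaf 0)))) (.node (.node (.node (.leaf 29761536) (.leaf 131956736)) (.node (.leaf 61857792) (.leaf 0))) (.node (.node (.leaf 75677696) (.leaf 0)) (.node (.leaf 92110848) (.leaf 0))))) (.node (.node (.node (.node (.leaf 7036928) (.leaf 120389632)) (.node (.leaf 54960128) (.leaf 0))) (.node (.node (.leaf 64962560) (.leaf 0)) (.node (.leaf 87970268) (.leaf 0)))) (.node (.node (.node (.leaf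 41918464) (.leaf 147177472)) (.node (.leaf 123027456) (.leaf 0))) (.node (.node (.leaf 85975040) (.leaf 0)) (.node (.leaf 149518055) (.leaf 0)))))) (.node (.node (.node (.node (.node (.leaf 10764288) (.leaf 158949376)) (.node (.leaf 51634176) (.leaf 0))) (.node (.node (.leaf 59367424) (.leaf 0)) (.node (.leaf 79986688) (.leaf 0)))) (.node (.node (.node (.leaf 35946496) (.leaf 161648669)) (.node (.leaf 65347584) (.leaf 0))) (.node (.node (.leaf 80887808) (.leaf 0)) (.node (.leaf 96206848) (.leaf 0))))) (.node (.node (.node (.node (.leaf 23552000) (.leaf 149038537)) (.node (.leaf 58318848) (.leaf 0))) (.node (.node (.leaf 60139720) (.leaf 0)) (.node (.leaf 141959168) (.leaf 0)))) (.node (.node (.node (.leaf 47882240) (.leaf 157433856)) (.node (.leaf 99592784) (.leaf 0))) (.node (.node (.leaf 83490213) (.leaf 0)) (.node (.leaf 105127936) (.leaf 0)))))))) (.node (.node (.node (.node (.node (.node (.node (.leaf 2572288) (.leaf 108748800)) (.node (.leaf 68718121) (.leaf 0))) (.node (.node (.leaf 52264960) (.leaf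 0)) (.node (.leaf 75341824) (.leaf 0)))) (.node (.node (.node (.leaf 28205056) (.leaf 130359296)) (.node (.leaf 86741299) (.leaf 0))) (.node (.node (.leaf 34930688) (.leaf 0)) (.node (.leaf 90931200) (.leaf 0))))) (.node (.node (.node (.node (.leaf 15589376) (.leaf 118890496)) (.node (.leaf 104120320) (.leaf 0))) (.node (.node (.leaf 63627264) (.leaf 0)) (.node (.leaf 137379840) (.leaf 0)))) (.node (.node (.node (.leaf 40427520) (.leaf 144932864)) (.node (.leaf 67928064) (.leaf 0))) (.node (.node (.leaf 84828160) (.leaf 0)) (.node (.leaf 99393536) (.leaf 0)))))) (.node (.node (.node (.node (.node (.leaf 9142272) (.leaf 113590272)) (.node (.leaf 50790400) (.leaf 0))) (.node (.node (.leaf 57851904) (.leaf 0)) (.node (.leaf 79036416) (.leaf 0)))) (.node (.node (.node (.leaf 14573568) (.leaf 137027584)) (.node (.leaf 93462635) (.leaf 0))) (.node (.node (.leaf 79626240) (.leaf 0)) (.node (.leaf 124899839) (.leaf 0))))) (.node (.node (.node (.node (.leaf 22003712) (.leaf 159122207)) (.node (.leaf 57483264) (.leaf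 0))) (.node (.node (.leaf 31924224) (.leaf 0)) (.node (.leaf 105852410) (.leaf 0)))) (.node (.node (.node (.leaf 20234240) (.leaf 165186809)) (.node (.leaf 71671808) (.leaf 0))) (.node (.node (.leaf 44269568) (.leaf 0)) (.node (.leaf 103899136) (.leaf 0))))))) (.node (.node (.node (.node (.node (.node (.leaf 2326528) (.leaf 111247360)) (.node (.leaf 97157120) (.leaf 0))) (.node (.node (.leaf 24518656) (.leaf 0)) (.node (.leaf 132096000) (.leaf 0)))) (.node (.node (.node (.leaf 31342592) (.leaf 158526706)) (.node (.leaf 115638272) (.leaf 0))) (.node (.node (.leaf 36495360) (.leaf 0)) (.node (.leaf 145956864) (.leaf 0))))) (.node (.node (.node (.node (.leaf 7716864) (.leaf 142897878)) (.node (.leaf 106643456) (.leaf 0))) (.node (.node (.leaf 64400930) (.leaf 0)) (.node (.leaf 84918272) (.leaf 0)))) (.node (.node (.node (.leaf 43393024) (.leaf 149602304)) (.node (.leaf 75121547) (.leaf 0))) (.node (.node (.leaf 42639360) (.leaf 0)) (.node (.leaf 101638144) (.leaf 0)))))) (.node (.node (.node (.node (.node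 (.leaf 4997120) (.leaf 116097024)) (.node (.leaf 52445184) (.leaf 0))) (.node (.node (.leaf 60850176) (.leaf 0)) (.node (.leaf 135667712) (.leaf 0)))) (.node (.node (.node (.leaf 37511168) (.leaf 140861440)) (.node (.leaf 66248704) (.leaf 0))) (.node (.node (.leaf 39591936) (.leaf 0)) (.node (.leaf 97271808) (.leaf 0))))) (.node (.node (.node (.node (.leaf 11814639) (.leaf 127205376)) (.node (.leaf 59162624) (.leaf 0))) (.node (.node (.leaf 33423360) (.leaf 0)) (.node (.leaf 108397856) (.leaf 0)))) (.node (.node (.node (.leaf 21651456) (.leaf 161292288)) (.node (.leaf 105966580) (.leaf 0))) (.node (.node (.leaf 45817856) (.leaf 0)) (.node (.leaf 106373120) (.leaf 0))))))))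

def e1T69 : NT := .node (.node (.node (.node (.node (.node (.node (.node (.leaf 909312) (.leaf 107569152)) (.node (.leaf 93569024) (.leaf 0))) (.node (.node (.leaf 50782208) (.leaf 0)) (.node (.leaf 129089536) (.leaf 0)))) (.node (.node (.node (.leaf 26673152) (.leaf 128761856)) (.node (.leaf 112295936) (.leaf 0))) (.node (.node (.leaf 73023488) (.leaf 0)) (.node (.leaf 89874432) (.leaf 0))))) (.node (.node (.node (.node (.leaf 13975552) (.leaf 117571584)) (.node (.leaf 103047168) (.leaf 0))) (.node (.node (.leaf 28246016) (.leaf 0)) (.node (.leaf 124700220) (.leaf 0)))) (.node (.node (.node (.leaf 16695296) (.leaf 143097856)) (.node (.leaf 67117056) (.leaf 0))) (.node (.node (.leaf 83566592) (.leaf 0)) (.node (.leaf 98344960) (.leaf 0)))))) (.node (.node (.node (.node (.node (.leaf 7520256) (.leaf 112508928)) (.node (.leaf 98320384) (.leaf 0))) (.node (.node (.leaf 38210424) (.leaf 0)) (.node (.leaf 78176256) (.leaf 0)))) (.node (.node (.node (.leaf 13860864) (.leaf 158483749)) (.node (.leaf 72191674)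 (.leaf 0))) (.node (.node (.leaf 78323712) (.leaf 0)) (.node (.leaf 94295922) (.leaf 0))))) (.node (.node (.node (.node (.leaf 20512768) (.leaf 147123305)) (.node (.leaf 107831296) (.leaf 0))) (.node (.node (.leaf 31154176) (.leaf 0)) (.node (.leaf 132719477) (.leaf 0)))) (.node (.node (.node (.leaf 44916736) (.leaf 152133632)) (.node (.leaf 125075456) (.leaf 0))) (.node (.node (.leaf 88563712) (.leaf 0)) (.node (.leaf 102891520) (.leaf 0))))))) (.node (.node (.node (.node (.node (.node (.leaf 1662976) (.leaf 128681429)) (.node (.leaf 90612802) (.leaf 0))) (.node (.node (.leaf 53657600) (.leaf 0)) (.node (.leaf 131039232) (.leaf 0)))) (.node (.node (.node (.leaf 12451840) (.leaf 147533917)) (.node (.leaf 109061450) (.leaf 0))) (.node (.node (.leaf 75694080) (.leaf 0)) (.node (.leaf 138386602) (.leaf 0))))) (.node (.node (.node (.node (.leaf 17244160) (.leaf 123634499)) (.node (.leaf 105398272) (.leaf 0))) (.node (.node (.leaf 29696000) (.leaf 0)) (.node (.leaf 83894272) (.leaf 0)))) (.node (.node (.node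 (.leaf 18128896) (.leaf 159846646)) (.node (.leaf 68911104) (.leaf 0))) (.node (.node (.leaf 85991424) (.leaf 0)) (.node (.leaf 100491264) (.leaf 0)))))) (.node (.node (.node (.node (.node (.leaf 4349952) (.leaf 150431881)) (.node (.leaf 73734972) (.leaf 0))) (.node (.node (.leaf 26763264) (.leaf 0)) (.node (.leaf 134742016) (.leaf 0)))) (.node (.node (.node (.leaf 35962880) (.leaf 138985472)) (.node (.leaf 118849536) (.leaf 0))) (.node (.node (.leaf 80904192) (.leaf 0)) (.node (.leaf 117613467) (.leaf 0))))) (.node (.node (.node (.node (.leaf 23568384) (.leaf 125812736)) (.node (.leaf 110125056) (.leaf 0))) (.node (.node (.leaf 32669696) (.leaf 0)) (.node (.leaf 141975552) (.leaf 0)))) (.node (.node (.node (.leaf 47898624) (.leaf 163552314)) (.node (.leaf 127213568) (.leaf 0))) (.node (.node (.leaf 45039616) (.leaf 0)) (.node (.leaf 154157056) (.leaf 0)))))))) (.node (.node (.node (.node (.node (.node (.node (.leaf 1007616) (.leaf 111818703)) (.node (.leaf 47423488) (.leaf 0))) (.node (.node (.leaf 27135448)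 (.leaf 0)) (.node (.leaf 123583484) (.leaf 0)))) (.node (.node (.node (.leaf 28221440) (.leaf 164380672)) (.node (.leaf 60989440) (.leaf 0))) (.node (.node (.leaf 74342400) (.leaf 0)) (.node (.leaf 92028928) (.leaf 0))))) (.node (.node (.node (.node (.leaf 15605760) (.leaf 138457513)) (.node (.leaf 104136704) (.leaf 0))) (.node (.node (.leaf 63643648) (.leaf 0)) (.node (.leaf 82870272) (.leaf 0)))) (.node (.node (.node (.leaf 40443904) (.leaf 144990208)) (.node (.leaf 122028032) (.leaf 0))) (.node (.node (.leaf 84836352) (.leaf 0)) (.node (.leaf 150675456) (.leaf 0)))))) (.node (.node (.node (.node (.node (.leaf 3670016) (.leaf 132838214)) (.node (.leaf 99516416) (.leaf 0))) (.node (.node (.leaf 26009600) (.leaf 0)) (.node (.leaf 133832704) (.leaf 0)))) (.node (.node (.node (.leaf 19516439) (.leaf 165906565)) (.node (.leaf 115212678) (.leaf 0))) (.node (.node (.leaf 38100992) (.leaf 0)) (.node (.leaf 95100928) (.leaf 0))))) (.node (.node (.node (.node (.leaf 9109504) (.leaf 124346368)) (.node (.leaf 57491456)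 (.leaf 0))) (.node (.node (.leaf 69132288) (.leaf 0)) (.node (.leaf 86859776) (.leaf 0)))) (.node (.node (.node (.leaf 46440448) (.leaf 155362445)) (.node (.leaf 71680000) (.leaf 0))) (.node (.node (.leaf 89825280) (.leaf 0)) (.node (.leaf 103915520) (.leaf 0))))))) (.node (.node (.node (.node (.node (.node (.leaf 5873664) (.leaf 157278208)) (.node (.leaf 63951233) (.leaf 0))) (.node (.node (.leaf 55033856) (.leaf 0)) (.node (.leaf 77307904) (.leaf 0)))) (.node (.node (.node (.leaf 13131776) (.leaf 133570560)) (.node (.leaf 62717952) (.leaf 0))) (.node (.node (.leaf 76988416) (.leaf 0)) (.node (.leaf 93036544) (.leaf 0))))) (.node (.node (.node (.node (.leaf 18890752) (.leaf 121569280)) (.node (.leaf 55844864) (.leaf 0))) (.node (.node (.leaf 30441472) (.leaf 0)) (.node (.leaf 139198464) (.leaf 0)))) (.node (.node (.node (.leaf 43409408) (.leaf 159614104)) (.node (.leaf 124010496) (.leaf 0))) (.node (.node (.leaf 87244800) (.leaf 0)) (.node (.leaf 142496977) (.leaf 0)))))) (.node (.node (.node (.node (.node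 (.leaf 12378112) (.leaf 146041690)) (.node (.leaf 101933056) (.leaf 0))) (.node (.node (.leaf 27484160) (.leaf 0)) (.node (.leaf 80863232) (.leaf 0)))) (.node (.node (.node (.leaf 37527552) (.leaf 140894208)) (.node (.leaf 119816192) (.leaf 0))) (.node (.node (.leaf 82247680) (.leaf 0)) (.node (.leaf 128472854) (.leaf 0))))) (.node (.node (.node (.node (.leaf 10444800) (.leaf 159290502)) (.node (.leaf 111206400) (.leaf 0))) (.node (.node (.leaf 45294591) (.leaf 0)) (.node (.leaf 88899584) (.leaf 0)))) (.node (.node (.node (.leaf 49373184) (.leaf 166939987)) (.node (.leaf 73506816) (.leaf 0))) (.node (.node (.leaf 92233728) (.leaf 0)) (.node (.leaf 154771456) (.leaf 0))))))))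

def e1T70 : NT := .node (.node (.node (.node (.node (.node (.node (.node (.leaf 925696) (.leaf 155451392)) (.node (.leaf 93585408) (.leaf 0))) (.node (.node (.leaf 50798592) (.leaf 0)) (.node (.leaf 129097728) (.leaf 0)))) (.node (.node (.node (.leaf 11116544) (.leaf 163930112)) (.node (.leaf 60039168) (.leaf 0))) (.node (.node (.leaf 34209792) (.leaf 0)) (.node (.leaf 89882624) (.leaf 0))))) (.node (.node (.node (.node (.leaf 13991936) (.leaf 117579776)) (.node (.leaf 53280768) (.leaf 0))) (.node (.node (.leaf 62251008) (.leaf 0)) (.node (.leaf 136519680) (.leaf 0)))) (.node (.node (.node (.leaf 32604432) (.leaf 159419502)) (.node (.leaf 98560039) (.leaf 0))) (.node (.node (.leaf 83582976) (.leaf 0)) (.node (.leaf 126461213) (.leaf 0)))))) (.node (.node (.node (.node (.node (.leaf 7536640) (.leaf 157851648)) (.node (.leaf 98328576) (.leaf 0))) (.node (.node (.leaf 25280512) (.leaf 0)) (.node (.leaf 132931584) (.leaf 0)))) (.node (.node (.node (.leaf 32907264) (.leaf 139207191)) (.node (.leaf 88654382)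 (.leaf 0))) (.node (.node (.leaf 37314560) (.leaf 0)) (.node (.leaf 146833408) (.leaf 0))))) (.node (.node (.node (.node (.leaf 8421376) (.leaf 162111488)) (.node (.leaf 107271982) (.leaf 0))) (.node (.node (.leaf 67821568) (.leaf 0)) (.node (.leaf 137956457) (.leaf 0)))) (.node (.node (.node (.leaf 25039210) (.leaf 164413926)) (.node (.leaf 70729728) (.leaf 0))) (.node (.node (.leaf 43433984) (.leaf 0)) (.node (.leaf 106155508) (.leaf 0))))))) (.node (.node (.node (.node (.node (.node (.leaf 4243456) (.leaf 156534702)) (.node (.leaf 81612718) (.leaf 0))) (.node (.node (.leaf 53673984) (.leaf 0)) (.node (.leaf 131055616) (.leaf 0)))) (.node (.node (.node (.leaf 29786112) (.leaf 131973120)) (.node (.leaf 93694422) (.leaf 0))) (.node (.node (.leaf 61195266) (.leaf 0)) (.node (.leaf 112974852) (.leaf 0))))) (.node (.node (.node (.node (.leaf 17260544) (.leaf 158247155)) (.node (.leaf 54968320) (.leaf 0))) (.node (.node (.leaf 33856017) (.leaf 0)) (.node (.leaf 109542157) (.leaf 0)))) (.node (.node (.node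 (.leaf 41943040) (.leaf 150203690)) (.node (.leaf 123043840) (.leaf 0))) (.node (.node (.leaf 41893888) (.leaf 0)) (.node (.leaf 151388160) (.leaf 0)))))) (.node (.node (.node (.node (.node (.leaf 10788864) (.leaf 141085526)) (.node (.leaf 100745216) (.leaf 0))) (.node (.node (.leaf 59392000) (.leaf 0)) (.node (.leaf 79994880) (.leaf 0)))) (.node (.node (.node (.leaf 15294464) (.leaf 166371328)) (.node (.leaf 65363968) (.leaf 0))) (.node (.node (.leaf 38912000) (.leaf 0)) (.node (.leaf 96223232) (.leaf 0))))) (.node (.node (.node (.node (.leaf 9789440) (.leaf 160501089)) (.node (.leaf 58327040) (.leaf 0))) (.node (.node (.leaf 33656310) (.leaf 0)) (.node (.leaf 87883776) (.leaf 0)))) (.node (.node (.node (.leaf 20946944) (.leaf 166251926)) (.node (.leaf 72556544) (.leaf 0))) (.node (.node (.leaf 91029504) (.leaf 0)) (.node (.leaf 139810842) (.leaf 0)))))))) (.node (.node (.node (.node (.node (.node (.node (.leaf 2596864) (.leaf 156131328)) (.node (.leaf 53456252) (.leaf 0))) (.node (.node (.leaf 23117824)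 (.leaf 0)) (.node (.leaf 130080768) (.leaf 0)))) (.node (.node (.node (.leaf 11780096) (.leaf 130375680)) (.node (.leaf 113410048) (.leaf 0))) (.node (.node (.leaf 74350592) (.leaf 0)) (.node (.leaf 90939392) (.leaf 0))))) (.node (.node (.node (.node (.leaf 6365184) (.leaf 158120918)) (.node (.leaf 54140928) (.leaf 0))) (.node (.node (.leaf 28991488) (.leaf 0)) (.node (.leaf 104069879) (.leaf 0)))) (.node (.node (.node (.leaf 40460288) (.leaf 162829074)) (.node (.leaf 109433385) (.leaf 0))) (.node (.node (.leaf 41099264) (.leaf 0)) (.node (.leaf 99401728) (.leaf 0)))))) (.node (.node (.node (.node (.node (.leaf 9166848) (.leaf 113598464)) (.node (.leaf 50814976) (.leaf 0))) (.node (.node (.leaf 57876480) (.leaf 0)) (.node (.leaf 100874621) (.leaf 0)))) (.node (.node (.node (.leaf 14581760) (.leaf 150162416)) (.node (.leaf 64421888) (.leaf 0))) (.node (.node (.leaf 54433979) (.leaf 0)) (.node (.leaf 147578880) (.leaf 0))))) (.node (.node (.node (.node (.leaf 22020096) (.leaf 129864787)) (.node (.leaf 79746737)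 (.leaf 0))) (.node (.node (.leaf 69140480) (.leaf 0)) (.node (.leaf 141058048) (.leaf 0)))) (.node (.node (.node (.leaf 20250624) (.leaf 167203984)) (.node (.leaf 71688192) (.leaf 0))) (.node (.node (.leaf 44277760) (.leaf 0)) (.node (.leaf 120268689) (.leaf 0))))))) (.node (.node (.node (.node (.node (.node (.leaf 5890048) (.leaf 111271936)) (.node (.leaf 49160192) (.leaf 0))) (.node (.node (.leaf 24535040) (.leaf 0)) (.node (.leaf 97786686) (.leaf 0)))) (.node (.node (.node (.leaf 31367168) (.leaf 133578752)) (.node (.leaf 115662848) (.leaf 0))) (.node (.node (.leaf 77004800) (.leaf 0)) (.node (.leaf 108237901) (.leaf 0))))) (.node (.node (.node (.node (.leaf 18907136) (.leaf 161579008)) (.node (.leaf 56362080) (.leaf 0))) (.node (.node (.leaf 66412544) (.leaf 0)) (.node (.leaf 139214848) (.leaf 0)))) (.node (.node (.node (.leaf 43425792) (.leaf 149626880)) (.node (.leaf 117354127) (.leaf 0))) (.node (.node (.leaf 42655744) (.leaf 0)) (.node (.leaf 101679104) (.leaf 0)))))) (.node (.node (.node (.node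 (.node (.leaf 5013504) (.leaf 116113408)) (.node (.leaf 75025944) (.leaf 0))) (.node (.node (.leaf 60874752) (.leaf 0)) (.node (.leaf 135684096) (.leaf 0)))) (.node (.node (.node (.leaf 15974400) (.leaf 166764544)) (.node (.leaf 119832576) (.leaf 0))) (.node (.node (.leaf 61146677) (.leaf 0)) (.node (.leaf 97280000) (.leaf 0))))) (.node (.node (.node (.node (.leaf 25157632) (.leaf 137417473)) (.node (.leaf 59170816) (.leaf 0))) (.node (.node (.leaf 33439744) (.leaf 0)) (.node (.leaf 88907776) (.leaf 0)))) (.node (.node (.node (.leaf 21659648) (.leaf 167959612)) (.node (.leaf 93489652) (.leaf 0))) (.node (.node (.leaf 45826048) (.leaf 0)) (.node (.leaf 152415101) (.leaf 0))))))))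

def e1T71 : NT := .node (.node (.node (.node (.node (.node (.node (.node (.leaf 360448) (.leaf 107577344)) (.node (.leaf 46604288) (.leaf 0))) (.node (.node (.leaf 22372352) (.leaf 0)) (.node (.leaf 129105920) (.leaf 0)))) (.node (.node (.node (.leaf 26697728) (.leaf 128770048)) (.node (.leaf 63139023) (.leaf 0))) (.node (.node (.leaf 73048064) (.leaf 0)) (.node (.leaf 143523840) (.leaf 0))))) (.node (.node (.node (.node (.leaf 5693440) (.leaf 117604352)) (.node (.leaf 64990202) (.leaf 0))) (.node (.node (.leaf 28254208) (.leaf 0)) (.node (.leaf 81903616) (.leaf 0)))) (.node (.node (.node (.leaf 16703488) (.leaf 143122432)) (.node (.leaf 67125248) (.leaf 0))) (.node (.node (.leaf 40361984) (.leaf 0)) (.node (.leaf 98361344) (.leaf 0)))))) (.node (.node (.node (.node (.node (.leaf 3006464) (.leaf 112525312)) (.node (.leaf 49995776) (.leaf 0))) (.node (.node (.leaf 25288704) (.leaf 0)) (.node (.leaf 78184448) (.leaf 0)))) (.node (.node (.node (.leaf 13869056) (.leaf 135290880)) (.node (.leaf 111906246)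 (.leaf 0))) (.node (.node (.leaf 78348288) (.leaf 0)) (.node (.leaf 132295921) (.leaf 0))))) (.node (.node (.node (.node (.leaf 20537344) (.leaf 122953728)) (.node (.leaf 107855872) (.leaf 0))) (.node (.node (.leaf 31170560) (.leaf 0)) (.node (.leaf 85909504) (.leaf 0)))) (.node (.node (.node (.leaf 19554304) (.leaf 164972476)) (.node (.leaf 125083648) (.leaf 0))) (.node (.node (.leaf 88588288) (.leaf 0)) (.node (.leaf 102916096) (.leaf 0))))))) (.node (.node (.node (.node (.node (.node (.leaf 4259840) (.leaf 110010368)) (.node (.leaf 77729177) (.leaf 0))) (.node (.node (.leaf 23805952) (.leaf 0)) (.node (.leaf 131063808) (.leaf 0)))) (.node (.node (.node (.leaf 29802496) (.leaf 131981312)) (.node (.leaf 61882368) (.leaf 0))) (.node (.node (.leaf 35700736) (.leaf 0)) (.node (.leaf 135387874) (.leaf 0))))) (.node (.node (.node (.node (.leaf 7053312) (.leaf 120406016)) (.node (.leaf 105422848) (.leaf 0))) (.node (.node (.leaf 29704192) (.leaf 0)) (.node (.leaf 138297344) (.leaf 0)))) (.node (.node (.node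 (.leaf 18137088) (.leaf 147210240)) (.node (.leaf 123060224) (.leaf 0))) (.node (.node (.leaf 86016000) (.leaf 0)) (.node (.leaf 123795200) (.leaf 0)))))) (.node (.node (.node (.node (.node (.leaf 4358144) (.leaf 158957568)) (.node (.leaf 51650560) (.leaf 0))) (.node (.node (.leaf 26771456) (.leaf 0)) (.node (.leaf 134758400) (.leaf 0)))) (.node (.node (.node (.leaf 35987456) (.leaf 155461512)) (.node (.leaf 87010294) (.leaf 0))) (.node (.node (.leaf 79165260) (.leaf 0)) (.node (.leaf 96231424) (.leaf 0))))) (.node (.node (.node (.node (.leaf 23592960) (.leaf 154327848)) (.node (.leaf 110149632) (.leaf 0))) (.node (.node (.leaf 47181551) (.leaf 0)) (.node (.leaf 93166323) (.leaf 0)))) (.node (.node (.node (.leaf 47915008) (.leaf 157483008)) (.node (.leaf 76674526) (.leaf 0))) (.node (.node (.leaf 91045888) (.leaf 0)) (.node (.leaf 105152512) (.leaf 0)))))))) (.node (.node (.node (.node (.node (.node (.node (.leaf 1015808) (.leaf 108773376)) (.node (.leaf 94773248) (.leaf 0))) (.node (.node (.leaf 52297728)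 (.leaf 0)) (.node (.leaf 130097152) (.leaf 0)))) (.node (.node (.node (.leaf 28237824) (.leaf 143289411)) (.node (.leaf 113418240) (.leaf 0))) (.node (.node (.leaf 34947072) (.leaf 0)) (.node (.leaf 118694909) (.leaf 0))))) (.node (.node (.node (.node (.leaf 15630336) (.leaf 118915072)) (.node (.leaf 92600422) (.leaf 0))) (.node (.node (.leaf 63660032) (.leaf 0)) (.node (.leaf 83130048) (.leaf 0)))) (.node (.node (.node (.leaf 17440768) (.leaf 153409280)) (.node (.leaf 67960832) (.leaf 0))) (.node (.node (.leaf 84860928) (.leaf 0)) (.node (.leaf 121225436) (.leaf 0)))))) (.node (.node (.node (.node (.node (.leaf 9183232) (.leaf 113606656)) (.node (.leaf 78146545) (.leaf 0))) (.node (.node (.leaf 57892864) (.leaf 0)) (.node (.leaf 79052800) (.leaf 0)))) (.node (.node (.node (.leaf 16165117) (.leaf 148044814)) (.node (.leaf 117809152) (.leaf 0))) (.node (.node (.leaf 79659008) (.leaf 0)) (.node (.leaf 95109120) (.leaf 0))))) (.node (.node (.node (.node (.leaf 9117696) (.leaf 144728545)) (.node (.leaf 109010944)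 (.leaf 0))) (.node (.node (.leaf 31940608) (.leaf 0)) (.node (.leaf 86867968) (.leaf 0)))) (.node (.node (.node (.leaf 46465024) (.leaf 161261447)) (.node (.leaf 122241363) (.leaf 0))) (.node (.node (.leaf 89849856) (.leaf 0)) (.node (.leaf 103923712) (.leaf 0))))))) (.node (.node (.node (.node (.node (.node (.leaf 2342912) (.leaf 157294592)) (.node (.leaf 71920098) (.leaf 0))) (.node (.node (.leaf 55058432) (.leaf 0)) (.node (.leaf 77316096) (.leaf 0)))) (.node (.node (.node (.leaf 31383552) (.leaf 165265408)) (.node (.leaf 62726144) (.leaf 0))) (.node (.node (.leaf 36511744) (.leaf 0)) (.node (.leaf 145981440) (.leaf 0))))) (.node (.node (.node (.node (.leaf 7733248) (.leaf 161587200)) (.node (.leaf 106668032) (.leaf 0))) (.node (.node (.leaf 30457856) (.leaf 0)) (.node (.leaf 139231232) (.leaf 0)))) (.node (.node (.node (.leaf 43442176) (.leaf 158540047)) (.node (.leaf 124035072) (.leaf 0))) (.node (.node (.leaf 87261184) (.leaf 0)) (.node (.leaf 101687296) (.leaf 0)))))) (.node (.node (.node (.node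 (.node (.leaf 12402688) (.leaf 116129792)) (.node (.leaf 52477952) (.leaf 0))) (.node (.node (.leaf 27492352) (.leaf 0)) (.node (.leaf 80871424) (.leaf 0)))) (.node (.node (.node (.leaf 35401440) (.leaf 140959744)) (.node (.leaf 66265088) (.leaf 0))) (.node (.node (.leaf 82264064) (.leaf 0)) (.node (.leaf 149176320) (.leaf 0))))) (.node (.node (.node (.node (.leaf 10452992) (.leaf 127221760)) (.node (.leaf 65274963) (.leaf 0))) (.node (.node (.leaf 71696384) (.leaf 0)) (.node (.leaf 142794752) (.leaf 0)))) (.node (.node (.node (.leaf 49397760) (.leaf 167307154)) (.node (.leaf 128163840) (.leaf 0))) (.node (.node (.leaf 92250112) (.leaf 0)) (.node (.leaf 106414080) (.leaf 0))))))))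

def e1T72 : NT := .node (.node (.node (.node (.node (.node (.node (.node (.leaf 950272) (.leaf 107585536)) (.node (.leaf 93601792) (.leaf 0))) (.node (.node (.leaf 37859613) (.leaf 0)) (.node (.leaf 129114112) (.leaf 0)))) (.node (.node (.node (.leaf 26714112) (.leaf 135898646)) (.node (.leaf 60047360) (.leaf 0))) (.node (.node (.leaf 72144248) (.leaf 0)) (.node (.leaf 126724568) (.leaf 0))))) (.node (.node (.node (.node (.leaf 8981366) (.leaf 118222404)) (.node (.leaf 103071744) (.leaf 0))) (.node (.node (.leaf 62267392) (.leaf 0)) (.node (.leaf 106901798) (.leaf 0)))) (.node (.node (.node (.leaf 16719872) (.leaf 151175603)) (.node (.leaf 120946688) (.leaf 0))) (.node (.node (.leaf 83607552) (.leaf 0)) (.node (.leaf 144960124) (.leaf 0)))))) (.node (.node (.node (.node (.node (.leaf 7561216) (.leaf 112533504)) (.node (.leaf 50003968) (.leaf 0))) (.node (.node (.leaf 38925928) (.leaf 0)) (.node (.leaf 92408020) (.leaf 0)))) (.node (.node (.node (.leaf 32931840) (.leaf 165625856)) (.node (.leaf 110120337)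 (.leaf 0))) (.node (.node (.leaf 37330944) (.leaf 0)) (.node (.leaf 138306908) (.leaf 0))))) (.node (.node (.node (.node (.leaf 20553728) (.leaf 133965647)) (.node (.leaf 95610764) (.leaf 0))) (.node (.node (.leaf 67846144) (.leaf 0)) (.node (.leaf 140247040) (.leaf 0)))) (.node (.node (.node (.leaf 44949504) (.leaf 152158208)) (.node (.leaf 70737920) (.leaf 0))) (.node (.node (.leaf 88596480) (.leaf 0)) (.node (.leaf 144189291) (.leaf 0))))))) (.node (.node (.node (.node (.node (.node (.leaf 1679360) (.leaf 110034944)) (.node (.leaf 48332800) (.leaf 0))) (.node (.node (.leaf 53690368) (.leaf 0)) (.node (.leaf 131072000) (.leaf 0)))) (.node (.node (.node (.leaf 12468224) (.leaf 131989504)) (.node (.leaf 114532352) (.leaf 0))) (.node (.node (.leaf 75718656) (.leaf 0)) (.node (.leaf 98248541) (.leaf 0))))) (.node (.node (.node (.node (.leaf 17285120) (.leaf 154628933)) (.node (.leaf 105439232) (.leaf 0))) (.node (.node (.leaf 65003520) (.leaf 0)) (.node (.leaf 106993912) (.leaf 0)))) (.node (.node (.node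 (.leaf 40457878) (.leaf 161186629)) (.node (.leaf 68927488) (.leaf 0))) (.node (.node (.leaf 41910272) (.leaf 0)) (.node (.leaf 100507648) (.leaf 0)))))) (.node (.node (.node (.node (.node (.leaf 10813440) (.leaf 114909184)) (.node (.leaf 100769792) (.leaf 0))) (.node (.node (.leaf 51856124) (.leaf 0)) (.node (.leaf 107607191) (.leaf 0)))) (.node (.node (.node (.leaf 36003840) (.leaf 139010048)) (.node (.leaf 65372160) (.leaf 0))) (.node (.node (.leaf 80928768) (.leaf 0)) (.node (.leaf 148381696) (.leaf 0))))) (.node (.node (.node (.node (.leaf 9797632) (.leaf 161786566)) (.node (.leaf 110157824) (.leaf 0))) (.node (.node (.leaf 32686080) (.leaf 0)) (.node (.leaf 87891968) (.leaf 0)))) (.node (.node (.node (.leaf 47923200) (.leaf 157515776)) (.node (.leaf 72581120) (.leaf 0))) (.node (.node (.leaf 45056000) (.leaf 0)) (.node (.leaf 154181632) (.leaf 0)))))))) (.node (.node (.node (.node (.node (.node (.node (.leaf 2621440) (.leaf 108781568)) (.node (.leaf 47439872) (.leaf 0))) (.node (.node (.leaf 23126016)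 (.leaf 0)) (.node (.leaf 75374592) (.leaf 0)))) (.node (.node (.node (.leaf 11788288) (.leaf 164405248)) (.node (.leaf 113434624) (.leaf 0))) (.node (.node (.leaf 74366976) (.leaf 0)) (.node (.leaf 90955776) (.leaf 0))))) (.node (.node (.node (.node (.leaf 15646720) (.leaf 160595968)) (.node (.leaf 62482372) (.leaf 0))) (.node (.node (.leaf 28999680) (.leaf 0)) (.node (.leaf 115284389) (.leaf 0)))) (.node (.node (.node (.leaf 40484864) (.leaf 163159189)) (.node (.leaf 67969024) (.leaf 0))) (.node (.node (.leaf 84877312) (.leaf 0)) (.node (.leaf 99434496) (.leaf 0)))))) (.node (.node (.node (.node (.node (.leaf 3686400) (.leaf 136197576)) (.node (.leaf 99540992) (.leaf 0))) (.node (.node (.leaf 26034176) (.leaf 0)) (.node (.leaf 133857280) (.leaf 0)))) (.node (.node (.node (.leaf 14598144) (.leaf 137084928)) (.node (.leaf 117817344) (.leaf 0))) (.node (.node (.leaf 38125568) (.leaf 0)) (.node (.leaf 95125504) (.leaf 0))))) (.node (.node (.node (.node (.leaf 22036480) (.leaf 124379136)) (.node (.leaf 109027328)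 (.leaf 0))) (.node (.node (.leaf 69148672) (.leaf 0)) (.node (.leaf 99903311) (.leaf 0)))) (.node (.node (.node (.leaf 46481408) (.leaf 154550272)) (.node (.leaf 71704576) (.leaf 0))) (.node (.node (.leaf 89858048) (.leaf 0)) (.node (.leaf 110881498) (.leaf 0))))))) (.node (.node (.node (.node (.node (.node (.leaf 5914624) (.leaf 113824574)) (.node (.leaf 49176576) (.leaf 0))) (.node (.node (.leaf 24543232) (.leaf 0)) (.node (.leaf 77332480) (.leaf 0)))) (.node (.node (.node (.leaf 13148160) (.leaf 133603328)) (.node (.leaf 115687424) (.leaf 0))) (.node (.node (.leaf 62956450) (.leaf 0)) (.node (.leaf 145997824) (.leaf 0))))) (.node (.node (.node (.node (.leaf 18931712) (.leaf 161603584)) (.node (.leaf 55861248) (.leaf 0))) (.node (.node (.leaf 66428928) (.leaf 0)) (.node (.leaf 139247616) (.leaf 0)))) (.node (.node (.node (.leaf 18849792) (.leaf 149651456)) (.node (.leaf 69804032) (.leaf 0))) (.node (.node (.leaf 66720489) (.leaf 0)) (.node (.leaf 152125440) (.leaf 0)))))) (.node (.node (.node (.node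 (.node (.leaf 5021696) (.leaf 116146176)) (.node (.leaf 68412489) (.leaf 0))) (.node (.node (.leaf 60899328) (.leaf 0)) (.node (.leaf 80879616) (.leaf 0)))) (.node (.node (.node (.leaf 37543936) (.leaf 140967936)) (.node (.leaf 119857152) (.leaf 0))) (.node (.node (.leaf 82280448) (.leaf 0)) (.node (.leaf 97296384) (.leaf 0))))) (.node (.node (.node (.node (.leaf 25182208) (.leaf 163430400)) (.node (.leaf 71722735) (.leaf 0))) (.node (.node (.leaf 71712768) (.leaf 0)) (.node (.leaf 116052019) (.leaf 0)))) (.node (.node (.node (.leaf 49414144) (.leaf 166393762)) (.node (.leaf 73523200) (.leaf 0))) (.node (.node (.leaf 86299204) (.leaf 0)) (.node (.leaf 154787840) (.leaf 0))))))))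

def e1T73 : NT := .node (.node (.node (.node (.node (.node (.node (.node (.leaf 368640) (.leaf 140788328)) (.node (.leaf 93618176) (.leaf 0))) (.node (.node (.leaf 44100228) (.leaf 0)) (.node (.leaf 74424320) (.leaf 0)))) (.node (.node (.node (.leaf 11132928) (.leaf 128811008)) (.node (.leaf 77608893) (.leaf 0))) (.node (.node (.leaf 34226176) (.leaf 0)) (.node (.leaf 89899008) (.leaf 0))))) (.node (.node (.node (.node (.leaf 5701632) (.leaf 148215965)) (.node (.leaf 53305344) (.leaf 0))) (.node (.node (.leaf 28270592) (.leaf 0)) (.node (.leaf 136552448) (.leaf 0)))) (.node (.node (.node (.leaf 38977536) (.leaf 167010304)) (.node (.leaf 67141632) (.leaf 0))) (.node (.node (.leaf 40370176) (.leaf 0)) (.node (.leaf 98377728) (.leaf 0)))))) (.node (.node (.node (.node (.node (.leaf 7577600) (.leaf 157876224)) (.node (.leaf 76711862) (.leaf 0))) (.node (.node (.leaf 56442880) (.leaf 0)) (.node (.leaf 78192640) (.leaf 0)))) (.node (.node (.node (.leaf 13885440) (.leaf 151700362)) (.node (.leaf 63578112) (.leaf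 0))) (.node (.node (.leaf 78372864) (.leaf 0)) (.node (.leaf 94134272) (.leaf 0))))) (.node (.node (.node (.node (.leaf 8437760) (.leaf 123875963)) (.node (.leaf 107880448) (.leaf 0))) (.node (.node (.leaf 31178752) (.leaf 0)) (.node (.leaf 140263424) (.leaf 0)))) (.node (.node (.node (.leaf 44965888) (.leaf 166802071)) (.node (.leaf 125108224) (.leaf 0))) (.node (.node (.leaf 43450368) (.leaf 0)) (.node (.leaf 152756224) (.leaf 0))))))) (.node (.node (.node (.node (.node (.node (.leaf 4276224) (.leaf 110043136)) (.node (.leaf 96010240) (.leaf 0))) (.node (.node (.leaf 23814144) (.leaf 0)) (.node (.leaf 76382208) (.leaf 0)))) (.node (.node (.node (.leaf 29827072) (.leaf 164904960)) (.node (.leaf 72423533) (.leaf 0))) (.node (.node (.leaf 35708928) (.leaf 0)) (.node (.leaf 92160000) (.leaf 0))))) (.node (.node (.node (.node (.leaf 7061504) (.leaf 120414208)) (.node (.leaf 105455616) (.leaf 0))) (.node (.node (.leaf 65019904) (.leaf 0)) (.node (.leaf 83918848) (.leaf 0)))) (.node (.node (.node (.leaf 26874055)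 (.leaf 147226624)) (.node (.leaf 123084800) (.leaf 0))) (.node (.node (.leaf 86032384) (.leaf 0)) (.node (.leaf 133565804) (.leaf 0)))))) (.node (.node (.node (.node (.node (.leaf 7852210) (.leaf 158973952)) (.node (.leaf 51666944) (.leaf 0))) (.node (.node (.leaf 26779648) (.leaf 0)) (.node (.leaf 131294618) (.leaf 0)))) (.node (.node (.node (.leaf 15310848) (.leaf 165055878)) (.node (.leaf 70411488) (.leaf 0))) (.node (.node (.leaf 80945152) (.leaf 0)) (.node (.leaf 148389888) (.leaf 0))))) (.node (.node (.node (.node (.leaf 23617536) (.leaf 125861888)) (.node (.leaf 58343424) (.leaf 0))) (.node (.node (.leaf 70426624) (.leaf 0)) (.node (.leaf 108008650) (.leaf 0)))) (.node (.node (.node (.leaf 47939584) (.leaf 166361035)) (.node (.leaf 127229952) (.leaf 0))) (.node (.node (.leaf 91070464) (.leaf 0)) (.node (.leaf 113818351) (.leaf 0)))))))) (.node (.node (.node (.node (.node (.node (.node (.leaf 2637824) (.leaf 108789760)) (.node (.leaf 64181912) (.leaf 0))) (.node (.node (.leaf 48533109) (.leaf 0))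 (.node (.leaf 112808005) (.leaf 0)))) (.node (.node (.node (.leaf 28262400) (.leaf 130400256)) (.node (.leaf 61014016) (.leaf 0))) (.node (.node (.leaf 74375168) (.leaf 0)) (.node (.leaf 102023537) (.leaf 0))))) (.node (.node (.node (.node (.leaf 6381568) (.leaf 118923264)) (.node (.leaf 54157312) (.leaf 0))) (.node (.node (.leaf 63684608) (.leaf 0)) (.node (.leaf 107799382) (.leaf 0)))) (.node (.node (.node (.leaf 17448960) (.leaf 153914144)) (.node (.leaf 72541277) (.leaf 0))) (.node (.node (.leaf 41115648) (.leaf 0)) (.node (.leaf 105169760) (.leaf 0)))))) (.node (.node (.node (.node (.node (.leaf 9199616) (.leaf 113614848)) (.node (.leaf 50831360) (.leaf 0))) (.node (.node (.leaf 57917440) (.leaf 0)) (.node (.leaf 133865472) (.leaf 0)))) (.node (.node (.node (.leaf 34463744) (.leaf 137109504)) (.node (.leaf 117825536) (.leaf 0))) (.node (.node (.leaf 79683584) (.leaf 0)) (.node (.leaf 147603456) (.leaf 0))))) (.node (.node (.node (.node (.leaf 22052864) (.leaf 150801972)) (.node (.leaf 57516032) (.leaf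 0))) (.node (.node (.leaf 31956992) (.leaf 0)) (.node (.leaf 86884352) (.leaf 0)))) (.node (.node (.node (.leaf 20267008) (.leaf 166860676)) (.node (.leaf 126214144) (.leaf 0))) (.node (.node (.leaf 44501565) (.leaf 0)) (.node (.leaf 153427968) (.leaf 0))))))) (.node (.node (.node (.node (.node (.node (.leaf 2351104) (.leaf 111329280)) (.node (.leaf 97198080) (.leaf 0))) (.node (.node (.leaf 38185208) (.leaf 0)) (.node (.leaf 77340672) (.leaf 0)))) (.node (.node (.node (.leaf 31408128) (.leaf 162374282)) (.node (.leaf 62742528) (.leaf 0))) (.node (.node (.leaf 36519936) (.leaf 0)) (.node (.leaf 133268604) (.leaf 0))))) (.node (.node (.node (.node (.leaf 18948096) (.leaf 161611776)) (.node (.leaf 106692608) (.leaf 0))) (.node (.node (.leaf 30474240) (.leaf 0)) (.node (.leaf 89269026) (.leaf 0)))) (.node (.node (.node (.leaf 37198657) (.leaf 149659648)) (.node (.leaf 124059648) (.leaf 0))) (.node (.node (.leaf 87285760) (.leaf 0)) (.node (.leaf 138322162) (.leaf 0)))))) (.node (.node (.node (.node (.node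 (.leaf 12427264) (.leaf 140470302)) (.node (.leaf 101965824) (.leaf 0))) (.node (.node (.leaf 60907520) (.leaf 0)) (.node (.leaf 135708672) (.leaf 0)))) (.node (.node (.node (.leaf 15990784) (.leaf 141049856)) (.node (.leaf 66281472) (.leaf 0))) (.node (.node (.leaf 39624704) (.leaf 0)) (.node (.leaf 116418652) (.leaf 0))))) (.node (.node (.node (.node (.leaf 25198592) (.leaf 163438592)) (.node (.leaf 59187200) (.leaf 0))) (.node (.node (.leaf 33464320) (.leaf 0)) (.node (.leaf 88924160) (.leaf 0)))) (.node (.node (.node (.leaf 21676032) (.leaf 161480704)) (.node (.leaf 83974914) (.leaf 0))) (.node (.node (.leaf 45842432) (.leaf 0)) (.node (.leaf 106422272) (.leaf 0))))))))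

def e1T74 : NT := .node (.node (.node (.node (.node (.node (.node (.node (.leaf 609116) (.leaf 146088675)) (.node (.leaf 89391980) (.leaf 0))) (.node (.node (.leaf 22388736) (.leaf 0)) (.node (.leaf 91121349) (.leaf 0)))) (.node (.node (.node (.leaf 26730496) (.leaf 128819200)) (.node (.leaf 60063744) (.leaf 0))) (.node (.node (.leaf 73080832) (.leaf 0)) (.node (.leaf 143540224) (.leaf 0))))) (.node (.node (.node (.node (.leaf 14032896) (.leaf 156910701)) (.node (.leaf 68853915) (.leaf 0))) (.node (.node (.leaf 33720524) (.leaf 0)) (.node (.leaf 81936384) (.leaf 0)))) (.node (.node (.node (.leaf 38993920) (.leaf 143138816)) (.node (.leaf 120963072) (.leaf 0))) (.node (.node (.leaf 50072664) (.leaf 0)) (.node (.leaf 149929984) (.leaf 0)))))) (.node (.node (.node (.node (.node (.leaf 3022848) (.leaf 151307958)) (.node (.leaf 50020352) (.leaf 0))) (.node (.node (.leaf 56459264) (.leaf 0)) (.node (.leaf 132956160) (.leaf 0)))) (.node (.node (.node (.leaf 32956416) (.leaf 135315456)) (.node (.leaf 116727808)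 (.leaf 0))) (.node (.node (.leaf 37347328) (.leaf 0)) (.node (.leaf 98099661) (.leaf 0))))) (.node (.node (.node (.node (.leaf 20570112) (.leaf 162127872)) (.node (.leaf 56713216) (.leaf 0))) (.node (.node (.leaf 67870720) (.leaf 0)) (.node (.leaf 85925888) (.leaf 0)))) (.node (.node (.node (.leaf 19570688) (.leaf 159120338)) (.node (.leaf 125116416) (.leaf 0))) (.node (.node (.leaf 43458560) (.leaf 0)) (.node (.leaf 102932480) (.leaf 0))))))) (.node (.node (.node (.node (.node (.node (.leaf 1687552) (.leaf 136922695)) (.node (.leaf 48340992) (.leaf 0))) (.node (.node (.leaf 53698560) (.leaf 0)) (.node (.leaf 131096576) (.leaf 0)))) (.node (.node (.node (.leaf 29843456) (.leaf 164913152)) (.node (.leaf 114548736) (.leaf 0))) (.node (.node (.leaf 75743232) (.leaf 0)) (.node (.leaf 119847120) (.leaf 0))))) (.node (.node (.node (.node (.leaf 17309696) (.leaf 134310311)) (.node (.leaf 105472000) (.leaf 0))) (.node (.node (.leaf 29720576) (.leaf 0)) (.node (.leaf 135810645) (.leaf 0)))) (.node (.node (.node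 (.leaf 18153472) (.leaf 147259392)) (.node (.leaf 99675378) (.leaf 0))) (.node (.node (.leaf 86040576) (.leaf 0)) (.node (.leaf 100515840) (.leaf 0)))))) (.node (.node (.node (.node (.node (.leaf 4374528) (.leaf 114925568)) (.node (.leaf 53198848) (.leaf 0))) (.node (.node (.leaf 27853437) (.leaf 0)) (.node (.leaf 80035840) (.leaf 0)))) (.node (.node (.node (.leaf 36028416) (.leaf 139042816)) (.node (.leaf 71366206) (.leaf 0))) (.node (.node (.leaf 38936576) (.leaf 0)) (.node (.leaf 96247808) (.leaf 0))))) (.node (.node (.node (.node (.leaf 9814016) (.leaf 125870080)) (.node (.leaf 110182400) (.leaf 0))) (.node (.node (.leaf 70434816) (.leaf 0)) (.node (.leaf 87908352) (.leaf 0)))) (.node (.node (.node (.leaf 47955968) (.leaf 167691460)) (.node (.leaf 127238144) (.leaf 0))) (.node (.node (.leaf 45072384) (.leaf 0)) (.node (.leaf 132048916) (.leaf 0)))))))) (.node (.node (.node (.node (.node (.node (.node (.leaf 1032192) (.leaf 108806144)) (.node (.leaf 47464448) (.leaf 0))) (.node (.node (.leaf 27504088)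 (.leaf 0)) (.node (.leaf 75382784) (.leaf 0)))) (.node (.node (.node (.leaf 28278784) (.leaf 130424832)) (.node (.leaf 113459200) (.leaf 0))) (.node (.node (.leaf 34963456) (.leaf 0)) (.node (.leaf 90972160) (.leaf 0))))) (.node (.node (.node (.node (.leaf 15671296) (.leaf 160620544)) (.node (.leaf 104177664) (.leaf 0))) (.node (.node (.leaf 29007872) (.leaf 0)) (.node (.leaf 82903040) (.leaf 0)))) (.node (.node (.node (.leaf 40509440) (.leaf 157624232)) (.node (.leaf 67985408) (.leaf 0))) (.node (.node (.leaf 84885504) (.leaf 0)) (.node (.leaf 99442688) (.leaf 0)))))) (.node (.node (.node (.node (.node (.leaf 3694592) (.leaf 158351360)) (.node (.leaf 99565568) (.leaf 0))) (.node (.node (.leaf 57925632) (.leaf 0)) (.node (.leaf 79085568) (.leaf 0)))) (.node (.node (.node (.leaf 34471936) (.leaf 166027264)) (.node (.leaf 104114634) (.leaf 0))) (.node (.node (.leaf 79691776) (.leaf 0)) (.node (.leaf 95141888) (.leaf 0))))) (.node (.node (.node (.node (.leaf 9134080) (.leaf 162481549)) (.node (.leaf 92337330)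 (.leaf 0))) (.node (.node (.leaf 54477394) (.leaf 0)) (.node (.leaf 86892544) (.leaf 0)))) (.node (.node (.node (.leaf 46505984) (.leaf 154566656)) (.node (.leaf 126222336) (.leaf 0))) (.node (.node (.leaf 44302336) (.leaf 0)) (.node (.leaf 103956480) (.leaf 0))))))) (.node (.node (.node (.node (.node (.node (.leaf 5939200) (.leaf 157310976)) (.node (.leaf 49184768) (.leaf 0))) (.node (.node (.leaf 24551424) (.leaf 0)) (.node (.leaf 132120576) (.leaf 0)))) (.node (.node (.node (.leaf 31424512) (.leaf 133619712)) (.node (.leaf 65819031) (.leaf 0))) (.node (.node (.leaf 36528128) (.leaf 0)) (.node (.leaf 93077504) (.leaf 0))))) (.node (.node (.node (.node (.leaf 7749632) (.leaf 121610240)) (.node (.leaf 55869440) (.leaf 0))) (.node (.node (.leaf 66453504) (.leaf 0)) (.node (.leaf 102312999) (.leaf 0)))) (.node (.node (.node (.leaf 18857984) (.leaf 149684224)) (.node (.leaf 69820416) (.leaf 0))) (.node (.node (.leaf 42680320) (.leaf 0)) (.node (.leaf 139105747) (.leaf 0)))))) (.node (.node (.node (.node (.node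 (.leaf 7950514) (.leaf 116170752)) (.node (.leaf 52494336) (.leaf 0))) (.node (.node (.leaf 60915712) (.leaf 0)) (.node (.leaf 108481427) (.leaf 0)))) (.node (.node (.node (.leaf 37568512) (.leaf 149963871)) (.node (.leaf 111632837) (.leaf 0))) (.node (.node (.leaf 82305024) (.leaf 0)) (.node (.leaf 146197508) (.leaf 0))))) (.node (.node (.node (.node (.leaf 10469376) (.leaf 163454976)) (.node (.leaf 92918491) (.leaf 0))) (.node (.node (.leaf 71729152) (.leaf 0)) (.node (.leaf 88940544) (.leaf 0)))) (.node (.node (.node (.leaf 49438720) (.leaf 161513472)) (.node (.leaf 128196608) (.leaf 0))) (.node (.node (.leaf 92274688) (.leaf 0)) (.node (.leaf 154812416) (.leaf 0))))))))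

def e1T75 : NT := .node (.node (.node (.node (.node (.node (.node (.node (.leaf 983040) (.leaf 155484160)) (.node (.leaf 46637056) (.leaf 0))) (.node (.node (.leaf 50839552) (.leaf 0)) (.node (.leaf 111006340) (.leaf 0)))) (.node (.node (.node (.leaf 11141120) (.leaf 136288879)) (.node (.leaf 112320512) (.leaf 0))) (.node (.node (.leaf 73089024) (.leaf 0)) (.node (.leaf 89907200) (.leaf 0))))) (.node (.node (.node (.node (.leaf 5709824) (.leaf 138048544)) (.node (.leaf 103088128) (.leaf 0))) (.node (.node (.leaf 62300160) (.leaf 0)) (.node (.leaf 81944576) (.leaf 0)))) (.node (.node (.node (.leaf 16736256) (.leaf 143147008)) (.node (.leaf 67149824) (.leaf 0))) (.node (.node (.leaf 40378368) (.leaf 0)) (.node (.leaf 98385920) (.leaf 0)))))) (.node (.node (.node (.node (.node (.leaf 7593984) (.leaf 112549888)) (.node (.leaf 70837939) (.leaf 0))) (.node (.node (.leaf 25313280) (.leaf 0)) (.node (.leaf 78200832) (.leaf 0)))) (.node (.node (.node (.leaf 32972800) (.leaf 163562154)) (.node (.leaf 63594496)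 (.leaf 0))) (.node (.node (.leaf 78389248) (.leaf 0)) (.node (.leaf 94142464) (.leaf 0))))) (.node (.node (.node (.node (.leaf 8445952) (.leaf 122986496)) (.node (.leaf 107896832) (.leaf 0))) (.node (.node (.leaf 67887104) (.leaf 0)) (.node (.leaf 85934080) (.leaf 0)))) (.node (.node (.node (.leaf 44982272) (.leaf 158029834)) (.node (.leaf 70754304) (.leaf 0))) (.node (.node (.leaf 43466752) (.leaf 0)) (.node (.leaf 152772608) (.leaf 0))))))) (.node (.node (.node (.node (.node (.node (.leaf 4300800) (.leaf 110059520)) (.node (.leaf 96026624) (.leaf 0))) (.node (.node (.leaf 53714944) (.leaf 0)) (.node (.leaf 131112960) (.leaf 0)))) (.node (.node (.node (.leaf 12484608) (.leaf 132014080)) (.node (.leaf 114565120) (.leaf 0))) (.node (.node (.leaf 46122009) (.leaf 0)) (.node (.leaf 92168192) (.leaf 0))))) (.node (.node (.node (.node (.leaf 17326080) (.leaf 120422400)) (.node (.leaf 55001088) (.leaf 0))) (.node (.node (.leaf 65044480) (.leaf 0)) (.node (.leaf 83935232) (.leaf 0)))) (.node (.node (.node (.leaf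 41992192) (.leaf 161861562)) (.node (.leaf 123101184) (.leaf 0))) (.node (.node (.leaf 41926656) (.leaf 0)) (.node (.leaf 151420928) (.leaf 0)))))) (.node (.node (.node (.node (.node (.leaf 10846208) (.leaf 114933760)) (.node (.leaf 51683328) (.leaf 0))) (.node (.node (.leaf 26787840) (.leaf 0)) (.node (.leaf 134782976) (.leaf 0)))) (.node (.node (.node (.leaf 36044800) (.leaf 157071080)) (.node (.leaf 65388544) (.leaf 0))) (.node (.node (.leaf 80969728) (.leaf 0)) (.node (.leaf 148414464) (.leaf 0))))) (.node (.node (.node (.node (.leaf 23642112) (.leaf 128486576)) (.node (.leaf 58351616) (.leaf 0))) (.node (.node (.leaf 32702464) (.leaf 0)) (.node (.leaf 142024704) (.leaf 0)))) (.node (.node (.node (.leaf 20979712) (.leaf 157630464)) (.node (.leaf 72597504) (.leaf 0))) (.node (.node (.leaf 86100871) (.leaf 0)) (.node (.leaf 105193472) (.leaf 0)))))))) (.node (.node (.node (.node (.node (.node (.node (.leaf 2662400) (.leaf 108822528)) (.node (.leaf 47480832) (.leaf 0))) (.node (.node (.leaf 23142400)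 (.leaf 0)) (.node (.leaf 130121728) (.leaf 0)))) (.node (.node (.node (.leaf 11804672) (.leaf 135951713)) (.node (.leaf 61022208) (.leaf 0))) (.node (.node (.leaf 74391552) (.leaf 0)) (.node (.leaf 101312765) (.leaf 0))))) (.node (.node (.node (.node (.leaf 15687680) (.leaf 141883160)) (.node (.leaf 54165504) (.leaf 0))) (.node (.node (.leaf 63709184) (.leaf 0)) (.node (.leaf 82911232) (.leaf 0)))) (.node (.node (.node (.leaf 40525824) (.leaf 155025503)) (.node (.leaf 106680003) (.leaf 0))) (.node (.node (.leaf 41365725) (.leaf 0)) (.node (.leaf 150708224) (.leaf 0)))))) (.node (.node (.node (.node (.node (.leaf 9224192) (.leaf 113623040)) (.node (.leaf 50847744) (.leaf 0))) (.node (.node (.leaf 57942016) (.leaf 0)) (.node (.leaf 121985287) (.leaf 0)))) (.node (.node (.node (.leaf 14614528) (.leaf 137142272)) (.node (.leaf 64454656) (.leaf 0))) (.node (.node (.leaf 38141952) (.leaf 0)) (.node (.leaf 147619840) (.leaf 0))))) (.node (.node (.node (.node (.leaf 22077440) (.leaf 162652160)) (.node (.leaf 57532416)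 (.leaf 0))) (.node (.node (.leaf 69181440) (.leaf 0)) (.node (.leaf 141099008) (.leaf 0)))) (.node (.node (.node (.leaf 20275200) (.leaf 155707350)) (.node (.leaf 126230528) (.leaf 0))) (.node (.node (.leaf 69985161) (.leaf 0)) (.node (.leaf 153452544) (.leaf 0))))))) (.node (.node (.node (.node (.node (.node (.leaf 5955584) (.leaf 157327360)) (.node (.leaf 69407558) (.leaf 0))) (.node (.node (.leaf 55099392) (.leaf 0)) (.node (.leaf 131798245) (.leaf 0)))) (.node (.node (.node (.leaf 13164544) (.leaf 155294404)) (.node (.leaf 62750720) (.leaf 0))) (.node (.node (.leaf 77045760) (.leaf 0)) (.node (.leaf 146006016) (.leaf 0))))) (.node (.node (.node (.node (.leaf 18964480) (.leaf 161628160)) (.node (.leaf 89609977) (.leaf 0))) (.node (.node (.leaf 30482432) (.leaf 0)) (.node (.leaf 84975616) (.leaf 0)))) (.node (.node (.node (.leaf 43474944) (.leaf 164629430)) (.node (.leaf 69828608) (.leaf 0))) (.node (.node (.leaf 77139581) (.leaf 0)) (.node (.leaf 141898565) (.leaf 0)))))) (.node (.node (.node (.node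 (.node (.leaf 5038080) (.leaf 159522816)) (.node (.leaf 101990400) (.leaf 0))) (.node (.node (.leaf 27516928) (.leaf 0)) (.node (.leaf 80896000) (.leaf 0)))) (.node (.node (.node (.leaf 15998976) (.leaf 141066240)) (.node (.leaf 80471969) (.leaf 0))) (.node (.node (.leaf 39632896) (.leaf 0)) (.node (.leaf 97312768) (.leaf 0))))) (.node (.node (.node (.node (.leaf 25214976) (.leaf 163463168)) (.node (.leaf 111230976) (.leaf 0))) (.node (.node (.leaf 71745536) (.leaf 0)) (.node (.leaf 142827520) (.leaf 0)))) (.node (.node (.node (.leaf 49455104) (.leaf 161570816)) (.node (.leaf 73539584) (.leaf 0))) (.node (.node (.leaf 45858816) (.leaf 0)) (.node (.leaf 125703716) (.leaf 0))))))))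

def e1T76 : NT := .node (.node (.node (.node (.node (.node (.node (.node (.leaf 999424) (.leaf 107634688)) (.node (.leaf 93642752) (.leaf 0))) (.node (.node (.leaf 22405120) (.leaf 0)) (.node (.leaf 74440704) (.leaf 0)))) (.node (.node (.node (.leaf 26755072) (.leaf 128835584)) (.node (.leaf 112336896) (.leaf 0))) (.node (.node (.leaf 34242560) (.leaf 0)) (.node (.leaf 143556608) (.leaf 0))))) (.node (.node (.node (.node (.leaf 14057472) (.leaf 160038912)) (.node (.leaf 79925060) (.leaf 0))) (.node (.node (.leaf 28286976) (.leaf 0)) (.node (.leaf 136577024) (.leaf 0)))) (.node (.node (.node (.leaf 39010304) (.leaf 148805044)) (.node (.leaf 120979456) (.leaf 0))) (.node (.node (.leaf 83632128) (.leaf 0)) (.node (.leaf 149946368) (.leaf 0)))))) (.node (.node (.node (.node (.node (.leaf 3031040) (.leaf 142825783)) (.node (.leaf 50028544) (.leaf 0))) (.node (.node (.leaf 56475648) (.leaf 0)) (.node (.leaf 132980736) (.leaf 0)))) (.node (.node (.node (.leaf 32989184) (.leaf 145994870)) (.node (.leaf 116752384)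 (.leaf 0))) (.node (.node (.leaf 74534336) (.leaf 0)) (.node (.leaf 146866176) (.leaf 0))))) (.node (.node (.node (.node (.leaf 20594688) (.leaf 147673098)) (.node (.leaf 107905024) (.leaf 0))) (.node (.node (.leaf 31195136) (.leaf 0)) (.node (.leaf 85950464) (.leaf 0)))) (.node (.node (.node (.leaf 19587072) (.leaf 163700788)) (.node (.leaf 125140992) (.leaf 0))) (.node (.node (.leaf 88629248) (.leaf 0)) (.node (.leaf 140111212) (.leaf 0))))))) (.node (.node (.node (.node (.node (.node (.leaf 4317184) (.leaf 142921027)) (.node (.leaf 96034816) (.leaf 0))) (.node (.node (.leaf 23830528) (.leaf 0)) (.node (.leaf 131129344) (.leaf 0)))) (.node (.node (.node (.leaf 29859840) (.leaf 164921344)) (.node (.leaf 97808292) (.leaf 0))) (.node (.node (.leaf 35725312) (.leaf 0)) (.node (.leaf 113239461) (.leaf 0))))) (.node (.node (.node (.node (.leaf 7077888) (.leaf 160264504)) (.node (.leaf 105488384) (.leaf 0))) (.node (.node (.leaf 29728768) (.leaf 0)) (.node (.leaf 91740904) (.leaf 0)))) (.node (.node (.node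 (.leaf 18161664) (.leaf 147341312)) (.node (.leaf 68952064) (.leaf 0))) (.node (.node (.leaf 41934848) (.leaf 0)) (.node (.leaf 151429120) (.leaf 0)))))) (.node (.node (.node (.node (.node (.leaf 10862592) (.leaf 133877053)) (.node (.leaf 100802560) (.leaf 0))) (.node (.node (.leaf 28071676) (.leaf 0)) (.node (.leaf 134799360) (.leaf 0)))) (.node (.node (.node (.leaf 15327232) (.leaf 139059200)) (.node (.leaf 118898688) (.leaf 0))) (.node (.node (.leaf 38944768) (.leaf 0)) (.node (.leaf 96280576) (.leaf 0))))) (.node (.node (.node (.node (.leaf 9822208) (.leaf 125886464)) (.node (.leaf 90665096) (.leaf 0))) (.node (.node (.leaf 70451200) (.leaf 0)) (.node (.leaf 140335456) (.leaf 0)))) (.node (.node (.node (.leaf 47972352) (.leaf 167105193)) (.node (.leaf 127254528) (.leaf 0))) (.node (.node (.leaf 45080576) (.leaf 0)) (.node (.leaf 111822840) (.leaf 0)))))))) (.node (.node (.node (.node (.node (.node (.node (.leaf 1040384) (.leaf 108830720)) (.node (.leaf 48649660) (.leaf 0))) (.node (.node (.leaf 52330496)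 (.leaf 0)) (.node (.leaf 123768158) (.leaf 0)))) (.node (.node (.node (.leaf 28303360) (.leaf 130449408)) (.node (.leaf 107386576) (.leaf 0))) (.node (.node (.leaf 74407936) (.leaf 0)) (.node (.leaf 90980352) (.leaf 0))))) (.node (.node (.node (.node (.leaf 15704064) (.leaf 138218947)) (.node (.leaf 104194048) (.leaf 0))) (.node (.node (.leaf 29024256) (.leaf 0)) (.node (.leaf 94635465) (.leaf 0)))) (.node (.node (.node (.leaf 17465344) (.leaf 145121280)) (.node (.leaf 67993600) (.leaf 0))) (.node (.node (.leaf 41132032) (.leaf 0)) (.node (.leaf 150716416) (.leaf 0)))))) (.node (.node (.node (.node (.node (.leaf 9240576) (.leaf 149149508)) (.node (.leaf 99581952) (.leaf 0))) (.node (.node (.leaf 57958400) (.leaf 0)) (.node (.leaf 127987020) (.leaf 0)))) (.node (.node (.node (.leaf 16385713) (.leaf 143114334)) (.node (.leaf 117858304) (.leaf 0))) (.node (.node (.leaf 79716352) (.leaf 0)) (.node (.leaf 95174656) (.leaf 0))))) (.node (.node (.node (.node (.leaf 22093824) (.leaf 138669638)) (.node (.leaf 109051904)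 (.leaf 0))) (.node (.node (.leaf 31973376) (.leaf 0)) (.node (.leaf 135612564) (.leaf 0)))) (.node (.node (.node (.leaf 46530560) (.leaf 154689536)) (.node (.leaf 107797619) (.leaf 0))) (.node (.node (.leaf 44310528) (.leaf 0)) (.node (.leaf 103964672) (.leaf 0))))))) (.node (.node (.node (.node (.node (.node (.leaf 2367488) (.leaf 111345664)) (.node (.leaf 49201152) (.leaf 0))) (.node (.node (.leaf 24559616) (.leaf 0)) (.node (.leaf 77357056) (.leaf 0)))) (.node (.node (.node (.leaf 31449088) (.leaf 165289984)) (.node (.leaf 62758912) (.leaf 0))) (.node (.node (.leaf 77062144) (.leaf 0)) (.node (.leaf 146022400) (.leaf 0))))) (.node (.node (.node (.node (.leaf 7757824) (.leaf 143731875)) (.node (.leaf 106725376) (.leaf 0))) (.node (.node (.leaf 66478080) (.leaf 0)) (.node (.leaf 139255808) (.leaf 0)))) (.node (.node (.node (.leaf 40697856) (.leaf 161028685)) (.node (.leaf 124067840) (.leaf 0))) (.node (.node (.leaf 87310336) (.leaf 0)) (.node (.leaf 152141824) (.leaf 0)))))) (.node (.node (.node (.node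 (.node (.leaf 12460032) (.leaf 116187136)) (.node (.leaf 52502528) (.leaf 0))) (.node (.node (.leaf 60940288) (.leaf 0)) (.node (.leaf 108110705) (.leaf 0)))) (.node (.node (.node (.leaf 37584896) (.leaf 141090816)) (.node (.leaf 66297856) (.leaf 0))) (.node (.node (.leaf 72889177) (.leaf 0)) (.node (.leaf 149209088) (.leaf 0))))) (.node (.node (.node (.node (.leaf 10477568) (.leaf 127270912)) (.node (.leaf 59203584) (.leaf 0))) (.node (.node (.leaf 33480704) (.leaf 0)) (.node (.leaf 92425935) (.leaf 0)))) (.node (.node (.node (.leaf 21692416) (.leaf 161636352)) (.node (.leaf 109922248) (.leaf 0))) (.node (.node (.leaf 92299264) (.leaf 0)) (.node (.leaf 106438656) (.leaf 0))))))))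

def e1T77 : NT := .node (.node (.node (.node (.node (.node (.node (.node (.leaf 393216) (.leaf 152794225)) (.node (.leaf 90067281) (.leaf 0))) (.node (.node (.leaf 50864128) (.leaf 0)) (.node (.leaf 129155072) (.leaf 0)))) (.node (.node (.node (.leaf 20988243) (.leaf 128843776)) (.node (.leaf 60080128) (.leaf 0))) (.node (.node (.leaf 73105408) (.leaf 0)) (.node (.leaf 89923584) (.leaf 0))))) (.node (.node (.node (.node (.leaf 14073856) (.leaf 160047104)) (.node (.leaf 53329920) (.leaf 0))) (.node (.node (.leaf 28295168) (.leaf 0)) (.node (.leaf 81952768) (.leaf 0)))) (.node (.node (.node (.leaf 16744448) (.leaf 166526012)) (.node (.leaf 67166208) (.leaf 0))) (.node (.node (.leaf 83640320) (.leaf 0)) (.node (.leaf 126403869) (.leaf 0)))))) (.node (.node (.node (.node (.node (.leaf 7618560) (.leaf 157892608)) (.node (.leaf 52531636) (.leaf 0))) (.node (.node (.leaf 56483840) (.leaf 0)) (.node (.leaf 78217216) (.leaf 0)))) (.node (.node (.node (.leaf 33005568) (.leaf 135372800)) (.node (.leaf 116768768)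 (.leaf 0))) (.node (.node (.leaf 37363712) (.leaf 0)) (.node (.leaf 146882560) (.leaf 0))))) (.node (.node (.node (.node (.leaf 20611072) (.leaf 162152448)) (.node (.leaf 56729600) (.leaf 0))) (.node (.node (.leaf 67903488) (.leaf 0)) (.node (.leaf 118281765) (.leaf 0)))) (.node (.node (.node (.leaf 45006848) (.leaf 152330240)) (.node (.leaf 125149184) (.leaf 0))) (.node (.node (.leaf 43483136) (.leaf 0)) (.node (.leaf 130442398) (.leaf 0))))))) (.node (.node (.node (.node (.node (.node (.leaf 1703936) (.leaf 110067712)) (.node (.leaf 55470041) (.leaf 0))) (.node (.node (.leaf 38055543) (.leaf 0)) (.node (.leaf 76439552) (.leaf 0)))) (.node (.node (.node (.leaf 29876224) (.leaf 132022272)) (.node (.leaf 61923328) (.leaf 0))) (.node (.node (.leaf 75767808) (.leaf 0)) (.node (.leaf 92176384) (.leaf 0))))) (.node (.node (.node (.node (.leaf 17350656) (.leaf 120430592)) (.node (.leaf 105504768) (.leaf 0))) (.node (.node (.leaf 65060864) (.leaf 0)) (.node (.leaf 138330112) (.leaf 0)))) (.node (.node (.node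 (.leaf 42016768) (.leaf 147374080)) (.node (.leaf 123117568) (.leaf 0))) (.node (.node (.leaf 79543447) (.leaf 0)) (.node (.leaf 100532224) (.leaf 0)))))) (.node (.node (.node (.node (.node (.leaf 4390912) (.leaf 114950144)) (.node (.leaf 100818944) (.leaf 0))) (.node (.node (.leaf 59449344) (.leaf 0)) (.node (.leaf 134807552) (.leaf 0)))) (.node (.node (.node (.leaf 36069376) (.leaf 139083776)) (.node (.leaf 65404928) (.leaf 0))) (.node (.node (.leaf 80977920) (.leaf 0)) (.node (.leaf 114332885) (.leaf 0))))) (.node (.node (.node (.node (.leaf 23666688) (.leaf 134945139)) (.node (.leaf 110168548) (.leaf 0))) (.node (.node (.leaf 66173465) (.leaf 0)) (.node (.leaf 87941120) (.leaf 0)))) (.node (.node (.node (.leaf 47980544) (.leaf 157679616)) (.node (.leaf 72605696) (.leaf 0))) (.node (.node (.leaf 91103232) (.leaf 0)) (.node (.leaf 154206208) (.leaf 0)))))))) (.node (.node (.node (.node (.node (.node (.node (.leaf 2686976) (.leaf 151590606)) (.node (.leaf 47497216) (.leaf 0))) (.node (.node (.leaf 52346880)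 (.leaf 0)) (.node (.leaf 75415552) (.leaf 0)))) (.node (.node (.node (.leaf 28319744) (.leaf 149301040)) (.node (.leaf 61030400) (.leaf 0))) (.node (.node (.leaf 34979840) (.leaf 0)) (.node (.leaf 103891426) (.leaf 0))))) (.node (.node (.node (.node (.leaf 6406144) (.leaf 118947840)) (.node (.leaf 94255760) (.leaf 0))) (.node (.node (.leaf 63725568) (.leaf 0)) (.node (.leaf 137437184) (.leaf 0)))) (.node (.node (.node (.leaf 40542208) (.leaf 145129472)) (.node (.leaf 122068992) (.leaf 0))) (.node (.node (.leaf 84910080) (.leaf 0)) (.node (.leaf 99483648) (.leaf 0)))))) (.node (.node (.node (.node (.node (.leaf 3710976) (.leaf 113647616)) (.node (.leaf 50855936) (.leaf 0))) (.node (.node (.leaf 26066944) (.leaf 0)) (.node (.leaf 79101952) (.leaf 0)))) (.node (.node (.node (.leaf 14622720) (.leaf 166035456)) (.node (.leaf 116166087) (.leaf 0))) (.node (.node (.leaf 79732736) (.leaf 0)) (.node (.leaf 147628032) (.leaf 0))))) (.node (.node (.node (.node (.leaf 9150464) (.leaf 124411904)) (.node (.leaf 57540608)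 (.leaf 0))) (.node (.node (.leaf 69197824) (.leaf 0)) (.node (.leaf 141115392) (.leaf 0)))) (.node (.node (.node (.leaf 46546944) (.leaf 158601766)) (.node (.leaf 126238720) (.leaf 0))) (.node (.node (.leaf 89890816) (.leaf 0)) (.node (.leaf 153460736) (.leaf 0))))))) (.node (.node (.node (.node (.node (.node (.leaf 5980160) (.leaf 111362048)) (.node (.leaf 57635826) (.leaf 0))) (.node (.node (.leaf 55115776) (.leaf 0)) (.node (.leaf 132136960) (.leaf 0)))) (.node (.node (.node (.leaf 13172736) (.leaf 133734400)) (.node (.leaf 115728384) (.leaf 0))) (.node (.node (.leaf 36544512) (.leaf 0)) (.node (.leaf 121242652) (.leaf 0))))) (.node (.node (.node (.node (.leaf 18989056) (.leaf 153227067)) (.node (.leaf 55885824) (.leaf 0))) (.node (.node (.leaf 66494464) (.leaf 0)) (.node (.leaf 84983808) (.leaf 0)))) (.node (.node (.node (.leaf 18874368) (.leaf 167551730)) (.node (.leaf 124084224) (.leaf 0))) (.node (.node (.leaf 42696704) (.leaf 0)) (.node (.leaf 101744640) (.leaf 0)))))) (.node (.node (.node (.node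 (.node (.leaf 12476416) (.leaf 146392802)) (.node (.leaf 58536953) (.leaf 0))) (.node (.node (.leaf 60956672) (.leaf 0)) (.node (.leaf 135725056) (.leaf 0)))) (.node (.node (.node (.leaf 16015360) (.leaf 144331805)) (.node (.leaf 84316177) (.leaf 0))) (.node (.node (.leaf 76544080) (.leaf 0)) (.node (.leaf 97329152) (.leaf 0))))) (.node (.node (.node (.node (.leaf 25239552) (.leaf 127303680)) (.node (.leaf 103671848) (.leaf 0))) (.node (.node (.leaf 37151251) (.leaf 0)) (.node (.leaf 88965120) (.leaf 0)))) (.node (.node (.node (.leaf 49471488) (.leaf 165919787)) (.node (.leaf 128221184) (.leaf 0))) (.node (.node (.leaf 92315648) (.leaf 0)) (.node (.leaf 118459470) (.leaf 0))))))))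

def e1T78 : NT := .node (.node (.node (.node (.node (.node (.node (.node (.leaf 1024000) (.leaf 155508736)) (.node (.leaf 46661632) (.leaf 0))) (.node (.node (.leaf 22413312) (.leaf 0)) (.node (.leaf 74448896) (.leaf 0)))) (.node (.node (.node (.leaf 11157504) (.leaf 158070767)) (.node (.leaf 94113607) (.leaf 0))) (.node (.node (.leaf 34250752) (.leaf 0)) (.node (.leaf 119700231) (.leaf 0))))) (.node (.node (.node (.node (.leaf 5726208) (.leaf 117678080)) (.node (.leaf 88077628) (.leaf 0))) (.node (.node (.leaf 62332928) (.leaf 0)) (.node (.leaf 81960960) (.leaf 0)))) (.node (.node (.node (.leaf 39034880) (.leaf 161354184)) (.node (.leaf 83443718) (.leaf 0))) (.node (.node (.leaf 40394752) (.leaf 0)) (.node (.leaf 98410496) (.leaf 0)))))) (.node (.node (.node (.node (.node (.leaf 7634944) (.leaf 112574464)) (.node (.leaf 50044928) (.leaf 0))) (.node (.node (.leaf 25329664) (.leaf 0)) (.node (.leaf 104331767) (.leaf 0)))) (.node (.node (.node (.leaf 13918208) (.leaf 156296520)) (.node (.leaf 63610880)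 (.leaf 0))) (.node (.node (.leaf 78413824) (.leaf 0)) (.node (.leaf 132525604) (.leaf 0))))) (.node (.node (.node (.node (.leaf 8462336) (.leaf 123035648)) (.node (.leaf 56737792) (.leaf 0))) (.node (.node (.leaf 67919872) (.leaf 0)) (.node (.leaf 85966848) (.leaf 0)))) (.node (.node (.node (.leaf 45023232) (.leaf 152346624)) (.node (.leaf 125165568) (.leaf 0))) (.node (.node (.leaf 68400973) (.leaf 0)) (.node (.leaf 102965248) (.leaf 0))))))) (.node (.node (.node (.node (.node (.node (.leaf 4341760) (.leaf 116603038)) (.node (.leaf 48365568) (.leaf 0))) (.node (.node (.leaf 23838720) (.leaf 0)) (.node (.leaf 104587988) (.leaf 0)))) (.node (.node (.node (.leaf 22587999) (.leaf 164945920)) (.node (.leaf 114581504) (.leaf 0))) (.node (.node (.leaf 75784192) (.leaf 0)) (.node (.leaf 112155059) (.leaf 0))))) (.node (.node (.node (.node (.leaf 7086080) (.leaf 120438784)) (.node (.leaf 55017472) (.leaf 0))) (.node (.node (.leaf 31362493) (.leaf 0)) (.node (.leaf 83959808) (.leaf 0)))) (.node (.node (.node (.leaf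 42024960) (.leaf 157049648)) (.node (.leaf 68960256) (.leaf 0))) (.node (.node (.leaf 41951232) (.leaf 0)) (.node (.leaf 137586496) (.leaf 0)))))) (.node (.node (.node (.node (.node (.leaf 7148217) (.leaf 153290230)) (.node (.leaf 51699712) (.leaf 0))) (.node (.node (.leaf 26804224) (.leaf 0)) (.node (.leaf 80060416) (.leaf 0)))) (.node (.node (.node (.leaf 15335424) (.leaf 165139327)) (.node (.leaf 65413120) (.leaf 0))) (.node (.node (.leaf 38952960) (.leaf 0)) (.node (.leaf 96288768) (.leaf 0))))) (.node (.node (.node (.node (.leaf 9830400) (.leaf 125894656)) (.node (.leaf 58376192) (.leaf 0))) (.node (.node (.leaf 32718848) (.leaf 0)) (.node (.leaf 87949312) (.leaf 0)))) (.node (.node (.node (.leaf 47996928) (.leaf 157696000)) (.node (.leaf 82449592) (.leaf 0))) (.node (.node (.leaf 91111424) (.leaf 0)) (.node (.leaf 119814097) (.leaf 0)))))))) (.node (.node (.node (.node (.node (.node (.node (.leaf 2703360) (.leaf 115537098)) (.node (.leaf 84715667) (.leaf 0))) (.node (.node (.leaf 52355072) (.leaf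 0)) (.node (.leaf 130138112) (.leaf 0)))) (.node (.node (.node (.leaf 28336128) (.leaf 164429824)) (.node (.leaf 99330883) (.leaf 0))) (.node (.node (.leaf 74432512) (.leaf 0)) (.node (.leaf 144400384) (.leaf 0))))) (.node (.node (.node (.node (.leaf 15720448) (.leaf 145394118)) (.node (.leaf 89988235) (.leaf 0))) (.node (.node (.leaf 29032448) (.leaf 0)) (.node (.leaf 82927616) (.leaf 0)))) (.node (.node (.node (.leaf 17473536) (.leaf 164376398)) (.node (.leaf 68009984) (.leaf 0))) (.node (.node (.leaf 41140224) (.leaf 0)) (.node (.leaf 99491840) (.leaf 0)))))) (.node (.node (.node (.node (.node (.leaf 9265152) (.leaf 135059349)) (.node (.leaf 83273745) (.leaf 0))) (.node (.node (.leaf 57982976) (.leaf 0)) (.node (.leaf 89938093) (.leaf 0)))) (.node (.node (.node (.leaf 34512896) (.leaf 159370472)) (.node (.leaf 105887278) (.leaf 0))) (.node (.node (.leaf 38158336) (.leaf 0)) (.node (.leaf 95191040) (.leaf 0))))) (.node (.node (.node (.node (.leaf 22110208) (.leaf 124420096)) (.node (.leaf 109076480)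 (.leaf 0))) (.node (.node (.leaf 31981568) (.leaf 0)) (.node (.leaf 141123584) (.leaf 0)))) (.node (.node (.node (.leaf 20291584) (.leaf 154722304)) (.node (.leaf 71753728) (.leaf 0))) (.node (.node (.leaf 44326912) (.leaf 0)) (.node (.leaf 103989248) (.leaf 0))))))) (.node (.node (.node (.node (.node (.node (.leaf 5996544) (.leaf 157343744)) (.node (.leaf 56995859) (.leaf 0))) (.node (.node (.leaf 24567808) (.leaf 0)) (.node (.leaf 114067251) (.leaf 0)))) (.node (.node (.node (.leaf 31473664) (.leaf 165298176)) (.node (.leaf 115736576) (.leaf 0))) (.node (.node (.leaf 54119273) (.leaf 0)) (.node (.leaf 127461306) (.leaf 0))))) (.node (.node (.node (.node (.leaf 19005440) (.leaf 142192593)) (.node (.leaf 87680416) (.leaf 0))) (.node (.node (.leaf 30498816) (.leaf 0)) (.node (.leaf 139272192) (.leaf 0)))) (.node (.node (.node (.leaf 43499520) (.leaf 149774336)) (.node (.leaf 124092416) (.leaf 0))) (.node (.node (.leaf 87326720) (.leaf 0)) (.node (.leaf 123617640) (.leaf 0)))))) (.node (.node (.node (.node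 (.node (.leaf 5054464) (.leaf 116195328)) (.node (.leaf 71742181) (.leaf 0))) (.node (.node (.leaf 27533312) (.leaf 0)) (.node (.leaf 80920576) (.leaf 0)))) (.node (.node (.node (.leaf 37609472) (.leaf 141107200)) (.node (.leaf 66306048) (.leaf 0))) (.node (.node (.leaf 39649280) (.leaf 0)) (.node (.leaf 149217280) (.leaf 0))))) (.node (.node (.node (.node (.leaf 25255936) (.leaf 127311872)) (.node (.leaf 59211776) (.leaf 0))) (.node (.node (.leaf 71778304) (.leaf 0)) (.node (.leaf 142852096) (.leaf 0)))) (.node (.node (.node (.leaf 21700608) (.leaf 161652736)) (.node (.leaf 128229376) (.leaf 0))) (.node (.node (.leaf 45875200) (.leaf 0)) (.node (.leaf 142771896) (.leaf 0))))))))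

def e1T79 : NT := .node (.node (.node (.node (.node (.node (.node (.node (.leaf 401408) (.leaf 152799675)) (.node (.leaf 68543466) (.leaf 0))) (.node (.node (.leaf 50888704) (.leaf 0)) (.node (.leaf 119108062) (.leaf 0)))) (.node (.node (.node (.leaf 23583603) (.leaf 128851968)) (.node (.leaf 60088320) (.leaf 0))) (.node (.node (.leaf 73121792) (.leaf 0)) (.node (.leaf 143581184) (.leaf 0))))) (.node (.node (.node (.node (.leaf 14090240) (.leaf 145119023)) (.node (.leaf 53338112) (.leaf 0))) (.node (.node (.leaf 62341120) (.leaf 0)) (.node (.leaf 81969152) (.leaf 0)))) (.node (.node (.node (.leaf 39051264) (.leaf 150993944)) (.node (.leaf 67174400) (.leaf 0))) (.node (.node (.leaf 40402944) (.leaf 0)) (.node (.leaf 113789324) (.leaf 0)))))) (.node (.node (.node (.node (.node (.leaf 3047424) (.leaf 157908992)) (.node (.leaf 98394112) (.leaf 0))) (.node (.node (.leaf 56500224) (.leaf 0)) (.node (.leaf 78225408) (.leaf 0)))) (.node (.node (.node (.leaf 33021952) (.leaf 165650432)) (.node (.leaf 63619072)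 (.leaf 0))) (.node (.node (.leaf 37371904) (.leaf 0)) (.node (.leaf 94167040) (.leaf 0))))) (.node (.node (.node (.node (.leaf 20635648) (.leaf 162160640)) (.node (.leaf 56754176) (.leaf 0))) (.node (.node (.leaf 31211520) (.leaf 0)) (.node (.leaf 140304384) (.leaf 0)))) (.node (.node (.node (.leaf 19603456) (.leaf 167262135)) (.node (.leaf 70778880) (.leaf 0))) (.node (.node (.leaf 43491328) (.leaf 0)) (.node (.leaf 102973440) (.leaf 0))))))) (.node (.node (.node (.node (.node (.node (.leaf 1712128) (.leaf 156745728)) (.node (.leaf 48381952) (.leaf 0))) (.node (.node (.leaf 53747712) (.leaf 0)) (.node (.leaf 76455936) (.leaf 0)))) (.node (.node (.node (.leaf 12509184) (.leaf 152408830)) (.node (.leaf 114589696) (.leaf 0))) (.node (.node (.leaf 35741696) (.leaf 0)) (.node (.leaf 92192768) (.leaf 0))))) (.node (.node (.node (.node (.leaf 17375232) (.leaf 150089599)) (.node (.leaf 105521152) (.leaf 0))) (.node (.node (.leaf 29745152) (.leaf 0)) (.node (.leaf 88746463) (.leaf 0)))) (.node (.node (.node (.leaf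 18178048) (.leaf 147406848)) (.node (.leaf 123142144) (.leaf 0))) (.node (.node (.leaf 84439383) (.leaf 0)) (.node (.leaf 146952204) (.leaf 0)))))) (.node (.node (.node (.node (.node (.leaf 4399104) (.leaf 129699707)) (.node (.leaf 100827136) (.leaf 0))) (.node (.node (.leaf 59473920) (.leaf 0)) (.node (.leaf 107551027) (.leaf 0)))) (.node (.node (.node (.leaf 36085760) (.leaf 139165696)) (.node (.leaf 118931456) (.leaf 0))) (.node (.node (.leaf 81002496) (.leaf 0)) (.node (.leaf 148439040) (.leaf 0))))) (.node (.node (.node (.node (.leaf 23691264) (.leaf 129773279)) (.node (.leaf 110231552) (.leaf 0))) (.node (.node (.leaf 70475776) (.leaf 0)) (.node (.leaf 139577253) (.leaf 0)))) (.node (.node (.node (.leaf 21004288) (.leaf 164990536)) (.node (.leaf 127279104) (.leaf 0))) (.node (.node (.leaf 45096960) (.leaf 0)) (.node (.leaf 105242624) (.leaf 0)))))))) (.node (.node (.node (.node (.node (.node (.node (.leaf 1056768) (.leaf 124798797)) (.node (.leaf 47505408) (.leaf 0))) (.node (.node (.leaf 23166976)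 (.leaf 0)) (.node (.leaf 102360985) (.leaf 0)))) (.node (.node (.node (.leaf 11829248) (.leaf 152221778)) (.node (.leaf 61046784) (.leaf 0))) (.node (.node (.leaf 34988032) (.leaf 0)) (.node (.leaf 144408576) (.leaf 0))))) (.node (.node (.node (.node (.leaf 6414336) (.leaf 143461465)) (.node (.leaf 91023429) (.leaf 0))) (.node (.node (.leaf 63741952) (.leaf 0)) (.node (.leaf 137445376) (.leaf 0)))) (.node (.node (.node (.leaf 40558592) (.leaf 145154048)) (.node (.leaf 110637646) (.leaf 0))) (.node (.node (.leaf 65713840) (.leaf 0)) (.node (.leaf 129522376) (.leaf 0)))))) (.node (.node (.node (.node (.node (.leaf 3719168) (.leaf 130652620)) (.node (.leaf 50872320) (.leaf 0))) (.node (.node (.leaf 26075136) (.leaf 0)) (.node (.leaf 79118336) (.leaf 0)))) (.node (.node (.node (.leaf 34529280) (.leaf 137191424)) (.node (.leaf 117891072) (.leaf 0))) (.node (.node (.leaf 79749120) (.leaf 0)) (.node (.leaf 114017486) (.leaf 0))))) (.node (.node (.node (.node (.leaf 9158656) (.leaf 138532605)) (.node (.leaf 107498159)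 (.leaf 0))) (.node (.node (.leaf 69214208) (.leaf 0)) (.node (.leaf 86982656) (.leaf 0)))) (.node (.node (.node (.leaf 46571520) (.leaf 160476249)) (.node (.leaf 126255104) (.leaf 0))) (.node (.node (.leaf 53300840) (.leaf 0)) (.node (.leaf 153485312) (.leaf 0))))))) (.node (.node (.node (.node (.node (.node (.leaf 2383872) (.leaf 123134416)) (.node (.leaf 49217536) (.leaf 0))) (.node (.node (.leaf 55132160) (.leaf 0)) (.node (.leaf 132153344) (.leaf 0)))) (.node (.node (.node (.leaf 13189120) (.leaf 133758976)) (.node (.leaf 79286830) (.leaf 0))) (.node (.node (.leaf 77094912) (.leaf 0)) (.node (.leaf 106182963) (.leaf 0))))) (.node (.node (.node (.node (.leaf 7774208) (.leaf 121700352)) (.node (.leaf 55894016) (.leaf 0))) (.node (.node (.leaf 66519040) (.leaf 0)) (.node (.leaf 84992000) (.leaf 0)))) (.node (.node (.node (.leaf 18882560) (.leaf 158641559)) (.node (.leaf 124100608) (.leaf 0))) (.node (.node (.leaf 63956115) (.leaf 0)) (.node (.leaf 101769216) (.leaf 0)))))) (.node (.node (.node (.node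 (.node (.leaf 12500992) (.leaf 149709969)) (.node (.leaf 67028410) (.leaf 0))) (.node (.node (.leaf 60981248) (.leaf 0)) (.node (.leaf 135749632) (.leaf 0)))) (.node (.node (.node (.leaf 37625856) (.leaf 146865082)) (.node (.leaf 119898112) (.leaf 0))) (.node (.node (.leaf 82345984) (.leaf 0)) (.node (.leaf 97345536) (.leaf 0))))) (.node (.node (.node (.node (.leaf 10493952) (.leaf 127328256)) (.node (.leaf 65574010) (.leaf 0))) (.node (.node (.leaf 33497088) (.leaf 0)) (.node (.leaf 142860288) (.leaf 0)))) (.node (.node (.node (.leaf 49496064) (.leaf 166606648)) (.node (.leaf 73580544) (.leaf 0))) (.node (.node (.leaf 92340224) (.leaf 0)) (.node (.leaf 151509906) (.leaf 0))))))))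

def e1T80 : NT := .node (.node (.node (.node (.node (.node (.node (.node (.leaf 1048576) (.leaf 134561855)) (.node (.leaf 46669824) (.leaf 0))) (.node (.node (.leaf 50905088) (.leaf 0)) (.node (.leaf 129171456) (.leaf 0)))) (.node (.node (.node (.leaf 11165696) (.leaf 144389962)) (.node (.leaf 112369664) (.leaf 0))) (.node (.node (.leaf 73138176) (.leaf 0)) (.node (.leaf 89939968) (.leaf 0))))) (.node (.node (.node (.node (.leaf 5734400) (.leaf 117686272)) (.node (.leaf 91665134) (.leaf 0))) (.node (.node (.leaf 28311552) (.leaf 0)) (.node (.leaf 94651229) (.leaf 0)))) (.node (.node (.node (.leaf 39067648) (.leaf 143228928)) (.node (.leaf 121004032) (.leaf 0))) (.node (.node (.leaf 83673088) (.leaf 0)) (.node (.leaf 98418688) (.leaf 0)))))) (.node (.node (.node (.node (.node (.leaf 7659520) (.leaf 112590848)) (.node (.leaf 50053120) (.leaf 0))) (.node (.node (.leaf 56516608) (.leaf 0)) (.node (.leaf 81089680) (.leaf 0)))) (.node (.node (.node (.leaf 13926400) (.leaf 153209241)) (.node (.leaf 116801536)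 (.leaf 0))) (.node (.node (.leaf 78438400) (.leaf 0)) (.node (.leaf 146898944) (.leaf 0))))) (.node (.node (.node (.node (.leaf 8470528) (.leaf 162168832)) (.node (.leaf 107937792) (.leaf 0))) (.node (.node (.leaf 67936256) (.leaf 0)) (.node (.leaf 140320768) (.leaf 0)))) (.node (.node (.node (.leaf 45047808) (.leaf 154595741)) (.node (.leaf 125190144) (.leaf 0))) (.node (.node (.leaf 50368186) (.leaf 0)) (.node (.leaf 148518770) (.leaf 0))))))) (.node (.node (.node (.node (.node (.node (.leaf 4366336) (.leaf 122160021)) (.node (.leaf 48398336) (.leaf 0))) (.node (.node (.leaf 23855104) (.leaf 0)) (.node (.leaf 131162112) (.leaf 0)))) (.node (.node (.node (.leaf 29908992) (.leaf 132071424)) (.node (.leaf 61939712) (.leaf 0))) (.node (.node (.leaf 75808768) (.leaf 0)) (.node (.leaf 145145856) (.leaf 0))))) (.node (.node (.node (.node (.leaf 17391616) (.leaf 142756010)) (.node (.leaf 84362101) (.leaf 0))) (.node (.node (.leaf 65085440) (.leaf 0)) (.node (.leaf 138346496) (.leaf 0)))) (.node (.node (.node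 (.leaf 26598202) (.leaf 167115321)) (.node (.leaf 68968448) (.leaf 0))) (.node (.node (.leaf 41959424) (.leaf 0)) (.node (.leaf 151445504) (.leaf 0)))))) (.node (.node (.node (.node (.node (.leaf 10903552) (.leaf 114974720)) (.node (.leaf 51707904) (.leaf 0))) (.node (.node (.leaf 59490304) (.leaf 0)) (.node (.leaf 80068608) (.leaf 0)))) (.node (.node (.node (.leaf 36102144) (.leaf 139182080)) (.node (.leaf 65429504) (.leaf 0))) (.node (.node (.leaf 38961152) (.leaf 0)) (.node (.leaf 128030636) (.leaf 0))))) (.node (.node (.node (.node (.leaf 23707648) (.leaf 125911040)) (.node (.leaf 99205792) (.leaf 0))) (.node (.node (.leaf 51611728) (.leaf 0)) (.node (.leaf 142049280) (.leaf 0)))) (.node (.node (.node (.leaf 48013312) (.leaf 157728768)) (.node (.leaf 127287296) (.leaf 0))) (.node (.node (.leaf 91136000) (.leaf 0)) (.node (.leaf 141682710) (.leaf 0)))))))) (.node (.node (.node (.node (.node (.node (.node (.leaf 2727936) (.leaf 108863488)) (.node (.leaf 74888736) (.leaf 0))) (.node (.node (.leaf 52371456)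 (.leaf 0)) (.node (.leaf 75431936) (.leaf 0)))) (.node (.node (.node (.leaf 28360704) (.leaf 130506752)) (.node (.leaf 84965100) (.leaf 0))) (.node (.node (.leaf 34996224) (.leaf 0)) (.node (.leaf 91013120) (.leaf 0))))) (.node (.node (.node (.node (.leaf 15745024) (.leaf 160653312)) (.node (.leaf 104226816) (.leaf 0))) (.node (.node (.leaf 63758336) (.leaf 0)) (.node (.leaf 82960384) (.leaf 0)))) (.node (.node (.node (.leaf 27861499) (.leaf 150197072)) (.node (.leaf 122093568) (.leaf 0))) (.node (.node (.leaf 84926464) (.leaf 0)) (.node (.leaf 106392362) (.leaf 0)))))) (.node (.node (.node (.node (.node (.leaf 9289728) (.leaf 133005479)) (.node (.leaf 53901249) (.leaf 0))) (.node (.node (.leaf 58007552) (.leaf 0)) (.node (.leaf 108296341) (.leaf 0)))) (.node (.node (.node (.leaf 14639104) (.leaf 150154818)) (.node (.leaf 64487424) (.leaf 0))) (.node (.node (.leaf 38166528) (.leaf 0)) (.node (.leaf 140840512) (.leaf 0))))) (.node (.node (.node (.node (.leaf 22134784) (.leaf 124436480)) (.node (.leaf 58929944)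 (.leaf 0))) (.node (.node (.leaf 31989760) (.leaf 0)) (.node (.leaf 141139968) (.leaf 0)))) (.node (.node (.node (.leaf 20307968) (.leaf 159305695)) (.node (.leaf 71761920) (.leaf 0))) (.node (.node (.leaf 44343296) (.leaf 0)) (.node (.leaf 153493504) (.leaf 0))))))) (.node (.node (.node (.node (.node (.node (.leaf 6004736) (.leaf 144643698)) (.node (.leaf 49225728) (.leaf 0))) (.node (.node (.leaf 24576000) (.leaf 0)) (.node (.leaf 132169728) (.leaf 0)))) (.node (.node (.node (.leaf 31498240) (.leaf 147612796)) (.node (.leaf 62783488) (.leaf 0))) (.node (.node (.leaf 36560896) (.leaf 0)) (.node (.leaf 121222992) (.leaf 0))))) (.node (.node (.node (.node (.leaf 19030016) (.leaf 161660928)) (.node (.leaf 106607592) (.leaf 0))) (.node (.node (.leaf 66535424) (.leaf 0)) (.node (.leaf 139288576) (.leaf 0)))) (.node (.node (.node (.leaf 43524096) (.leaf 163657945)) (.node (.leaf 124116992) (.leaf 0))) (.node (.node (.leaf 42713088) (.leaf 0)) (.node (.leaf 101785600) (.leaf 0)))))) (.node (.node (.node (.node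 (.node (.leaf 12517376) (.leaf 122138540)) (.node (.leaf 102006784) (.leaf 0))) (.node (.node (.leaf 27541504) (.leaf 0)) (.node (.leaf 80936960) (.leaf 0)))) (.node (.node (.node (.leaf 16031744) (.leaf 166780928)) (.node (.leaf 119906304) (.leaf 0))) (.node (.node (.leaf 82362368) (.leaf 0)) (.node (.leaf 149225472) (.leaf 0))))) (.node (.node (.node (.node (.leaf 22645784) (.leaf 149333422)) (.node (.leaf 111263744) (.leaf 0))) (.node (.node (.leaf 71802880) (.leaf 0)) (.node (.leaf 142876672) (.leaf 0)))) (.node (.node (.node (.leaf 30254422) (.leaf 163516880)) (.node (.leaf 128237568) (.leaf 0))) (.node (.node (.leaf 62457055) (.leaf 0)) (.node (.leaf 131809662) (.leaf 0))))))))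

def e1T81 : NT := .node (.node (.node (.node (.node (.node (.node (.node (.leaf 1064960) (.leaf 107675648)) (.node (.leaf 93683712) (.leaf 0))) (.node (.node (.leaf 22429696) (.leaf 0)) (.node (.leaf 74473472) (.leaf 0)))) (.node (.node (.node (.leaf 26796032) (.leaf 154676559)) (.node (.leaf 60104704) (.leaf 0))) (.node (.node (.leaf 54740394) (.leaf 0)) (.node (.leaf 108533954) (.leaf 0))))) (.node (.node (.node (.node (.leaf 14114816) (.leaf 151140648)) (.node (.leaf 53354496) (.leaf 0))) (.node (.node (.leaf 62365696) (.leaf 0)) (.node (.leaf 81977344) (.leaf 0)))) (.node (.node (.node (.leaf 16777216) (.leaf 143237120)) (.node (.leaf 67182592) (.leaf 0))) (.node (.node (.leaf 83681280) (.leaf 0)) (.node (.leaf 107073440) (.leaf 0)))))) (.node (.node (.node (.node (.node (.leaf 3055616) (.leaf 112607232)) (.node (.leaf 95718715) (.leaf 0))) (.node (.node (.leaf 25346048) (.leaf 0)) (.node (.leaf 78241792) (.leaf 0)))) (.node (.node (.node (.leaf 33038336) (.leaf 135405568)) (.node (.leaf 111799731)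 (.leaf 0))) (.node (.node (.leaf 78454784) (.leaf 0)) (.node (.leaf 146907136) (.leaf 0))))) (.node (.node (.node (.node (.leaf 20660224) (.leaf 142560742)) (.node (.leaf 107945984) (.leaf 0))) (.node (.node (.leaf 67952640) (.leaf 0)) (.node (.leaf 134991399) (.leaf 0)))) (.node (.node (.node (.leaf 45064192) (.leaf 152379392)) (.node (.leaf 97134343) (.leaf 0))) (.node (.node (.leaf 88678400) (.leaf 0)) (.node (.leaf 102989824) (.leaf 0))))))) (.node (.node (.node (.node (.node (.node (.leaf 4382720) (.leaf 156753920)) (.node (.leaf 48483509) (.leaf 0))) (.node (.node (.leaf 53772288) (.leaf 0)) (.node (.leaf 119271197) (.leaf 0)))) (.node (.node (.node (.leaf 29917184) (.leaf 132087808)) (.node (.leaf 79856004) (.leaf 0))) (.node (.node (.leaf 75825152) (.leaf 0)) (.node (.leaf 130978403) (.leaf 0))))) (.node (.node (.node (.node (.leaf 7102464) (.leaf 120455168)) (.node (.leaf 105545728) (.leaf 0))) (.node (.node (.leaf 65101824) (.leaf 0)) (.node (.leaf 135833230) (.leaf 0)))) (.node (.node (.node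 (.leaf 18186240) (.leaf 167226033)) (.node (.leaf 123150336) (.leaf 0))) (.node (.node (.leaf 86089728) (.leaf 0)) (.node (.leaf 151453696) (.leaf 0)))))) (.node (.node (.node (.node (.node (.leaf 10919936) (.leaf 114999296)) (.node (.leaf 100851712) (.leaf 0))) (.node (.node (.leaf 26820608) (.leaf 0)) (.node (.leaf 115607306) (.leaf 0)))) (.node (.node (.node (.leaf 15351808) (.leaf 166395904)) (.node (.leaf 118956032) (.leaf 0))) (.node (.node (.leaf 81027072) (.leaf 0)) (.node (.leaf 147002481) (.leaf 0))))) (.node (.node (.node (.node (.leaf 9846784) (.leaf 150178200)) (.node (.leaf 58392576) (.leaf 0))) (.node (.node (.leaf 32735232) (.leaf 0)) (.node (.leaf 142057472) (.leaf 0)))) (.node (.node (.node (.leaf 48029696) (.leaf 159381764)) (.node (.leaf 127295488) (.leaf 0))) (.node (.node (.leaf 91144192) (.leaf 0)) (.node (.leaf 143930167) (.leaf 0)))))))) (.node (.node (.node (.node (.node (.node (.node (.leaf 2744320) (.leaf 126974924)) (.node (.leaf 94838784) (.leaf 0))) (.node (.node (.leaf 23175168)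 (.leaf 0)) (.node (.leaf 130162688) (.leaf 0)))) (.node (.node (.node (.leaf 28377088) (.leaf 164446208)) (.node (.leaf 113516544) (.leaf 0))) (.node (.node (.leaf 74465280) (.leaf 0)) (.node (.leaf 91037696) (.leaf 0))))) (.node (.node (.node (.node (.leaf 15761408) (.leaf 142318012)) (.node (.leaf 54214656) (.leaf 0))) (.node (.node (.leaf 29048832) (.leaf 0)) (.node (.leaf 99732307) (.leaf 0)))) (.node (.node (.node (.leaf 17489920) (.leaf 154930406)) (.node (.leaf 68026368) (.leaf 0))) (.node (.node (.leaf 41156608) (.leaf 0)) (.node (.leaf 99508224) (.leaf 0)))))) (.node (.node (.node (.node (.node (.leaf 9306112) (.leaf 113704960)) (.node (.leaf 85356055) (.leaf 0))) (.node (.node (.leaf 58023936) (.leaf 0)) (.node (.leaf 79134720) (.leaf 0)))) (.node (.node (.node (.leaf 34553856) (.leaf 137224192)) (.node (.leaf 100816110) (.leaf 0))) (.node (.node (.leaf 79773696) (.leaf 0)) (.node (.leaf 95207424) (.leaf 0))))) (.node (.node (.node (.node (.leaf 22151168) (.leaf 130682359)) (.node (.leaf 57573376)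 (.leaf 0))) (.node (.node (.leaf 69230592) (.leaf 0)) (.node (.leaf 111462556) (.leaf 0)))) (.node (.node (.node (.leaf 46596096) (.leaf 154763264)) (.node (.leaf 126263296) (.leaf 0))) (.node (.node (.leaf 59816001) (.leaf 0)) (.node (.leaf 104022016) (.leaf 0))))))) (.node (.node (.node (.node (.node (.node (.leaf 2392064) (.leaf 111411200)) (.node (.leaf 97247232) (.leaf 0))) (.node (.node (.leaf 55156736) (.leaf 0)) (.node (.leaf 77389824) (.leaf 0)))) (.node (.node (.node (.leaf 31514624) (.leaf 162399789)) (.node (.leaf 91924505) (.leaf 0))) (.node (.node (.leaf 77119488) (.leaf 0)) (.node (.leaf 145939396) (.leaf 0))))) (.node (.node (.node (.node (.leaf 7782400) (.leaf 121708544)) (.node (.leaf 106774528) (.leaf 0))) (.node (.node (.leaf 30515200) (.leaf 0)) (.node (.leaf 139304960) (.leaf 0)))) (.node (.node (.node (.leaf 43540480) (.leaf 149831680)) (.node (.leaf 69885952) (.leaf 0))) (.node (.node (.leaf 45582401) (.leaf 0)) (.node (.leaf 152026076) (.leaf 0)))))) (.node (.node (.node (.node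 (.node (.leaf 5070848) (.leaf 125715541)) (.node (.leaf 52543488) (.leaf 0))) (.node (.node (.leaf 60997632) (.leaf 0)) (.node (.leaf 108458047) (.leaf 0)))) (.node (.node (.node (.leaf 37650432) (.leaf 148820894)) (.node (.leaf 66330624) (.leaf 0))) (.node (.node (.leaf 39665664) (.leaf 0)) (.node (.leaf 149233664) (.leaf 0))))) (.node (.node (.node (.node (.leaf 10502144) (.leaf 127344640)) (.node (.leaf 111280128) (.leaf 0))) (.node (.node (.leaf 33505280) (.leaf 0)) (.node (.leaf 121589994) (.leaf 0)))) (.node (.node (.node (.leaf 21716992) (.leaf 161873920)) (.node (.leaf 73588736) (.leaf 0))) (.node (.node (.leaf 45891584) (.leaf 0)) (.node (.leaf 106471424) (.leaf 0))))))))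

def e1T82 : NT := .node (.node (.node (.node (.node (.node (.node (.node (.leaf 417792) (.leaf 155541504)) (.node (.leaf 93700096) (.leaf 0))) (.node (.node (.leaf 50929664) (.leaf 0)) (.node (.leaf 129187840) (.leaf 0)))) (.node (.node (.node (.leaf 26812416) (.leaf 140611421)) (.node (.leaf 62027739) (.leaf 0))) (.node (.node (.leaf 34275328) (.leaf 0)) (.node (.leaf 89972736) (.leaf 0))))) (.node (.node (.node (.node (.leaf 5750784) (.leaf 121625227)) (.node (.leaf 103120896) (.leaf 0))) (.node (.node (.leaf 62382080) (.leaf 0)) (.node (.leaf 136609792) (.leaf 0)))) (.node (.node (.node (.leaf 39092224) (.leaf 156561550)) (.node (.leaf 121020416) (.leaf 0))) (.node (.node (.leaf 40419328) (.leaf 0)) (.node (.leaf 149970944) (.leaf 0)))))) (.node (.node (.node (.node (.node (.leaf 7684096) (.leaf 157917184)) (.node (.leaf 61645622) (.leaf 0))) (.node (.node (.leaf 56541184) (.leaf 0)) (.node (.leaf 93375986) (.leaf 0)))) (.node (.node (.node (.leaf 13942784) (.leaf 158314531)) (.node (.leaf 107394154)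 (.leaf 0))) (.node (.node (.leaf 37388288) (.leaf 0)) (.node (.leaf 96267903) (.leaf 0))))) (.node (.node (.node (.node (.leaf 8486912) (.leaf 155355893)) (.node (.leaf 56770560) (.leaf 0))) (.node (.node (.leaf 31227904) (.leaf 0)) (.node (.leaf 112720965) (.leaf 0)))) (.node (.node (.node (.leaf 19619840) (.leaf 152395776)) (.node (.leaf 70795264) (.leaf 0))) (.node (.node (.leaf 43515904) (.leaf 0)) (.node (.leaf 152805376) (.leaf 0))))))) (.node (.node (.node (.node (.node (.node (.leaf 1728512) (.leaf 110133248)) (.node (.leaf 48406528) (.leaf 0))) (.node (.node (.leaf 53780480) (.leaf 0)) (.node (.leaf 76472320) (.leaf 0)))) (.node (.node (.node (.leaf 12525568) (.leaf 164954112)) (.node (.leaf 114614272) (.leaf 0))) (.node (.node (.leaf 75841536) (.leaf 0)) (.node (.leaf 92225536) (.leaf 0))))) (.node (.node (.node (.node (.leaf 17416192) (.leaf 161136640)) (.node (.leaf 55042048) (.leaf 0))) (.node (.node (.leaf 29769728) (.leaf 0)) (.node (.leaf 132743868) (.leaf 0)))) (.node (.node (.node (.leaf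 42057728) (.leaf 147431424)) (.node (.leaf 104924876) (.leaf 0))) (.node (.node (.leaf 41967616) (.leaf 0)) (.node (.leaf 151461888) (.leaf 0)))))) (.node (.node (.node (.node (.node (.leaf 4415488) (.leaf 121276168)) (.node (.leaf 100859904) (.leaf 0))) (.node (.node (.leaf 59514880) (.leaf 0)) (.node (.leaf 80084992) (.leaf 0)))) (.node (.node (.node (.leaf 36126720) (.leaf 139239424)) (.node (.leaf 65445888) (.leaf 0))) (.node (.node (.leaf 38969344) (.leaf 0)) (.node (.leaf 96337920) (.leaf 0))))) (.node (.node (.node (.node (.leaf 23732224) (.leaf 125919232)) (.node (.leaf 110239744) (.leaf 0))) (.node (.node (.leaf 70500352) (.leaf 0)) (.node (.leaf 87982080) (.leaf 0)))) (.node (.node (.node (.leaf 21020672) (.leaf 157818880)) (.node (.leaf 72638464) (.leaf 0))) (.node (.node (.leaf 45113344) (.leaf 0)) (.node (.leaf 105291776) (.leaf 0)))))))) (.node (.node (.node (.node (.node (.node (.node (.leaf 1073152) (.leaf 108896256)) (.node (.leaf 47521792) (.leaf 0))) (.node (.node (.leaf 52396032) (.leaf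 0)) (.node (.leaf 75448320) (.leaf 0)))) (.node (.node (.node (.leaf 11845632) (.leaf 151367495)) (.node (.leaf 61063168) (.leaf 0))) (.node (.node (.leaf 74481664) (.leaf 0)) (.node (.leaf 107041145) (.leaf 0))))) (.node (.node (.node (.node (.leaf 6430720) (.leaf 158966808)) (.node (.leaf 104251392) (.leaf 0))) (.node (.node (.leaf 63774720) (.leaf 0)) (.node (.leaf 82968576) (.leaf 0)))) (.node (.node (.node (.leaf 40583168) (.leaf 145235968)) (.node (.leaf 122101760) (.leaf 0))) (.node (.node (.leaf 84942848) (.leaf 0)) (.node (.leaf 150757376) (.leaf 0)))))) (.node (.node (.node (.node (.node (.leaf 3735552) (.leaf 113729536)) (.node (.leaf 50896896) (.leaf 0))) (.node (.node (.leaf 58032128) (.leaf 0)) (.node (.leaf 128305542) (.leaf 0)))) (.node (.node (.node (.leaf 34570240) (.leaf 143215974)) (.node (.leaf 117923840) (.leaf 0))) (.node (.node (.leaf 79790080) (.leaf 0)) (.node (.leaf 106403643) (.leaf 0))))) (.node (.node (.node (.node (.leaf 9175040) (.leaf 124469248)) (.node (.leaf 109109248)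 (.leaf 0))) (.node (.node (.leaf 31997952) (.leaf 0)) (.node (.leaf 86999040) (.leaf 0)))) (.node (.node (.node (.leaf 20316160) (.leaf 154779648)) (.node (.leaf 71770112) (.leaf 0))) (.node (.node (.leaf 44351488) (.leaf 0)) (.node (.leaf 153509888) (.leaf 0))))))) (.node (.node (.node (.node (.node (.node (.leaf 6029312) (.leaf 153977463)) (.node (.leaf 49242112) (.leaf 0))) (.node (.node (.leaf 55173120) (.leaf 0)) (.node (.leaf 78578832) (.leaf 0)))) (.node (.node (.node (.leaf 13205504) (.leaf 133775360)) (.node (.leaf 62799872) (.leaf 0))) (.node (.node (.leaf 36569088) (.leaf 0)) (.node (.leaf 146071552) (.leaf 0))))) (.node (.node (.node (.node (.leaf 19054592) (.leaf 161669120)) (.node (.leaf 55910400) (.leaf 0))) (.node (.node (.leaf 66551808) (.leaf 0)) (.node (.leaf 139313152) (.leaf 0)))) (.node (.node (.node (.leaf 18898944) (.leaf 164300027)) (.node (.leaf 94238645) (.leaf 0))) (.node (.node (.leaf 42729472) (.leaf 0)) (.node (.leaf 101801984) (.leaf 0)))))) (.node (.node (.node (.node (.node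 (.leaf 12541952) (.leaf 116244480)) (.node (.leaf 95981971) (.leaf 0))) (.node (.node (.leaf 61005824) (.leaf 0)) (.node (.leaf 80953344) (.leaf 0)))) (.node (.node (.node (.leaf 16039936) (.leaf 141189120)) (.node (.leaf 80988873) (.leaf 0))) (.node (.node (.leaf 82386944) (.leaf 0)) (.node (.leaf 97361920) (.leaf 0))))) (.node (.node (.node (.node (.leaf 25296896) (.leaf 127352832)) (.node (.leaf 111296512) (.leaf 0))) (.node (.node (.leaf 71827456) (.leaf 0)) (.node (.leaf 89006080) (.leaf 0)))) (.node (.node (.node (.leaf 49520640) (.leaf 168075264)) (.node (.leaf 73596928) (.leaf 0))) (.node (.node (.leaf 57834501) (.leaf 0)) (.node (.leaf 113041544) (.leaf 0))))))))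

def e1T83 : NT := .node (.node (.node (.node (.node (.node (.node (.node (.leaf 1089536) (.leaf 107692032)) (.node (.leaf 46686208) (.leaf 0))) (.node (.node (.leaf 22446080) (.leaf 0)) (.node (.leaf 129204224) (.leaf 0)))) (.node (.node (.node (.leaf 11182080) (.leaf 128892928)) (.node (.leaf 60121088) (.leaf 0))) (.node (.node (.leaf 73170944) (.leaf 0)) (.node (.leaf 143605760) (.leaf 0))))) (.node (.node (.node (.node (.leaf 14131200) (.leaf 152628594)) (.node (.leaf 53362688) (.leaf 0))) (.node (.node (.leaf 28327936) (.leaf 0)) (.node (.leaf 136617984) (.leaf 0)))) (.node (.node (.node (.leaf 16785408) (.leaf 149827422)) (.node (.leaf 121036800) (.leaf 0))) (.node (.node (.leaf 83697664) (.leaf 0)) (.node (.leaf 149987328) (.leaf 0)))))) (.node (.node (.node (.node (.node (.leaf 7700480) (.leaf 112648192)) (.node (.leaf 98426880) (.leaf 0))) (.node (.node (.leaf 25354240) (.leaf 0)) (.node (.leaf 133013504) (.leaf 0)))) (.node (.node (.node (.leaf 33062912) (.leaf 160651643)) (.node (.leaf 63651840)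 (.leaf 0))) (.node (.node (.leaf 78471168) (.leaf 0)) (.node (.leaf 146923520) (.leaf 0))))) (.node (.node (.node (.node (.leaf 20676608) (.leaf 162177024)) (.node (.leaf 107970560) (.leaf 0))) (.node (.node (.leaf 67977216) (.leaf 0)) (.node (.leaf 86007808) (.leaf 0)))) (.node (.node (.node (.leaf 45088768) (.leaf 161114949)) (.node (.leaf 125214720) (.leaf 0))) (.node (.node (.leaf 88694784) (.leaf 0)) (.node (.leaf 152181382) (.leaf 0))))))) (.node (.node (.node (.node (.node (.node (.leaf 4407296) (.leaf 150225258)) (.node (.leaf 96083968) (.leaf 0))) (.node (.node (.leaf 23879680) (.leaf 0)) (.node (.leaf 131186688) (.leaf 0)))) (.node (.node (.node (.leaf 29941760) (.leaf 151240866)) (.node (.leaf 114622464) (.leaf 0))) (.node (.node (.leaf 35766272) (.leaf 0)) (.node (.leaf 145170432) (.leaf 0))))) (.node (.node (.node (.node (.leaf 17432576) (.leaf 151165383)) (.node (.leaf 105570304) (.leaf 0))) (.node (.node (.leaf 65126400) (.leaf 0)) (.node (.leaf 83992576) (.leaf 0)))) (.node (.node (.node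 (.leaf 26400219) (.leaf 147447808)) (.node (.leaf 68993024) (.leaf 0))) (.node (.node (.leaf 86114304) (.leaf 0)) (.node (.leaf 100605952) (.leaf 0)))))) (.node (.node (.node (.node (.node (.leaf 10944512) (.leaf 159006720)) (.node (.leaf 51724288) (.leaf 0))) (.node (.node (.leaf 26828800) (.leaf 0)) (.node (.leaf 134840320) (.leaf 0)))) (.node (.node (.node (.leaf 36143104) (.leaf 166412288)) (.node (.leaf 118972416) (.leaf 0))) (.node (.node (.leaf 81051648) (.leaf 0)) (.node (.leaf 148480000) (.leaf 0))))) (.node (.node (.node (.node (.leaf 9854976) (.leaf 159516853)) (.node (.leaf 110256128) (.leaf 0))) (.node (.node (.leaf 32743424) (.leaf 0)) (.node (.leaf 104533529) (.leaf 0)))) (.node (.node (.node (.leaf 48054272) (.leaf 166275787)) (.node (.leaf 117523060) (.leaf 0))) (.node (.node (.leaf 72340824) (.leaf 0)) (.node (.leaf 134300197) (.leaf 0)))))))) (.node (.node (.node (.node (.node (.node (.node (.leaf 2768896) (.leaf 152662060)) (.node (.leaf 71043901) (.leaf 0))) (.node (.node (.leaf 52404224)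 (.leaf 0)) (.node (.leaf 115401681) (.leaf 0)))) (.node (.node (.node (.leaf 28393472) (.leaf 130564096)) (.node (.leaf 113532928) (.leaf 0))) (.node (.node (.leaf 35012608) (.leaf 0)) (.node (.leaf 144441344) (.leaf 0))))) (.node (.node (.node (.node (.leaf 15785984) (.leaf 160677888)) (.node (.leaf 104267776) (.leaf 0))) (.node (.node (.leaf 29057024) (.leaf 0)) (.node (.leaf 82976768) (.leaf 0)))) (.node (.node (.node (.leaf 40599552) (.leaf 164262188)) (.node (.leaf 68034560) (.leaf 0))) (.node (.node (.leaf 41172992) (.leaf 0)) (.node (.leaf 99532800) (.leaf 0)))))) (.node (.node (.node (.node (.node (.leaf 9330688) (.leaf 153393164)) (.node (.leaf 99647488) (.leaf 0))) (.node (.node (.leaf 58048512) (.leaf 0)) (.node (.leaf 133906432) (.leaf 0)))) (.node (.node (.node (.leaf 14655488) (.leaf 145622318)) (.node (.leaf 93597476) (.leaf 0))) (.node (.node (.leaf 79806464) (.leaf 0)) (.node (.leaf 95215616) (.leaf 0))))) (.node (.node (.node (.node (.leaf 22167552) (.leaf 162676736)) (.node (.leaf 81422913)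 (.leaf 0))) (.node (.node (.leaf 69255168) (.leaf 0)) (.node (.leaf 141164544) (.leaf 0)))) (.node (.node (.node (.leaf 46612480) (.leaf 163809050)) (.node (.leaf 111378647) (.leaf 0))) (.node (.node (.leaf 89948160) (.leaf 0)) (.node (.leaf 131613360) (.leaf 0))))))) (.node (.node (.node (.node (.node (.node (.leaf 6045696) (.leaf 143225330)) (.node (.leaf 97263616) (.leaf 0))) (.node (.node (.leaf 24592384) (.leaf 0)) (.node (.leaf 130132269) (.leaf 0)))) (.node (.node (.node (.leaf 31539200) (.leaf 165330944)) (.node (.leaf 62816256) (.leaf 0))) (.node (.node (.leaf 77144064) (.leaf 0)) (.node (.leaf 93175808) (.leaf 0))))) (.node (.node (.node (.node (.leaf 19070976) (.leaf 132639562)) (.node (.leaf 106799104) (.leaf 0))) (.node (.node (.leaf 30523392) (.leaf 0)) (.node (.leaf 85024768) (.leaf 0)))) (.node (.node (.node (.leaf 43565056) (.leaf 149839872)) (.node (.leaf 94717216) (.leaf 0))) (.node (.node (.leaf 87375872) (.leaf 0)) (.node (.leaf 152182784) (.leaf 0)))))) (.node (.node (.node (.node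 (.node (.leaf 12558336) (.leaf 159547392)) (.node (.leaf 102039552) (.leaf 0))) (.node (.node (.leaf 27557888) (.leaf 0)) (.node (.leaf 80961536) (.leaf 0)))) (.node (.node (.node (.leaf 37675008) (.leaf 141221888)) (.node (.leaf 66503604) (.leaf 0))) (.node (.node (.leaf 82403328) (.leaf 0)) (.node (.leaf 97370112) (.leaf 0))))) (.node (.node (.node (.node (.leaf 10510336) (.leaf 127361024)) (.node (.leaf 59244544) (.leaf 0))) (.node (.node (.leaf 54778417) (.leaf 0)) (.node (.leaf 95366706) (.leaf 0)))) (.node (.node (.node (.leaf 21725184) (.leaf 161980416)) (.node (.leaf 73613312) (.leaf 0))) (.node (.node (.leaf 59457927) (.leaf 0)) (.node (.leaf 154836992) (.leaf 0))))))))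

def e1T84 : NT := .node (.node (.node (.node (.node (.node (.node (.node (.leaf 1105920) (.leaf 155557888)) (.node (.leaf 93716480) (.leaf 0))) (.node (.node (.leaf 50954240) (.leaf 0)) (.node (.leaf 74489856) (.leaf 0)))) (.node (.node (.node (.leaf 26836992) (.leaf 139536263)) (.node (.leaf 101864050) (.leaf 0))) (.node (.node (.leaf 34283520) (.leaf 0)) (.node (.leaf 143613952) (.leaf 0))))) (.node (.node (.node (.node (.leaf 5758976) (.leaf 148260283)) (.node (.leaf 53370880) (.leaf 0))) (.node (.node (.leaf 62406656) (.leaf 0)) (.node (.leaf 81993728) (.leaf 0)))) (.node (.node (.node (.leaf 39116800) (.leaf 143310848)) (.node (.leaf 67198976) (.leaf 0))) (.node (.node (.leaf 59411009) (.leaf 0)) (.node (.leaf 135324152) (.leaf 0)))))) (.node (.node (.node (.node (.node (.leaf 3072000) (.leaf 129588224)) (.node (.leaf 50094080) (.leaf 0))) (.node (.node (.leaf 56565760) (.leaf 0)) (.node (.leaf 78258176) (.leaf 0)))) (.node (.node (.node (.leaf 33079296) (.leaf 165435166)) (.node (.leaf 97675857)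 (.leaf 0))) (.node (.node (.leaf 78487552) (.leaf 0)) (.node (.leaf 94224384) (.leaf 0))))) (.node (.node (.node (.node (.leaf 20692992) (.leaf 123092992)) (.node (.leaf 56786944) (.leaf 0))) (.node (.node (.leaf 31236096) (.leaf 0)) (.node (.leaf 118940771) (.leaf 0)))) (.node (.node (.node (.leaf 45105152) (.leaf 152420352)) (.node (.leaf 70811648) (.leaf 0))) (.node (.node (.leaf 43532288) (.leaf 0)) (.node (.leaf 103006208) (.leaf 0))))))) (.node (.node (.node (.node (.node (.node (.leaf 4423680) (.leaf 110141440)) (.node (.leaf 54834529) (.leaf 0))) (.node (.node (.leaf 53805056) (.leaf 0)) (.node (.leaf 76480512) (.leaf 0)))) (.node (.node (.node (.leaf 12533760) (.leaf 164962304)) (.node (.leaf 114638848) (.leaf 0))) (.node (.node (.leaf 75857920) (.leaf 0)) (.node (.leaf 122983464) (.leaf 0))))) (.node (.node (.node (.node (.leaf 7118848) (.leaf 144297017)) (.node (.leaf 55050240) (.leaf 0))) (.node (.node (.leaf 29777920) (.leaf 0)) (.node (.leaf 135454947) (.leaf 0)))) (.node (.node (.node (.leaf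 18202624) (.leaf 147456000)) (.node (.leaf 123183104) (.leaf 0))) (.node (.node (.leaf 86130688) (.leaf 0)) (.node (.leaf 100614144) (.leaf 0)))))) (.node (.node (.node (.node (.node (.leaf 10960896) (.leaf 152898543)) (.node (.leaf 100884480) (.leaf 0))) (.node (.node (.leaf 59539456) (.leaf 0)) (.node (.leaf 80093184) (.leaf 0)))) (.node (.node (.node (.leaf 15368192) (.leaf 141672512)) (.node (.leaf 65454080) (.leaf 0))) (.node (.node (.leaf 81068032) (.leaf 0)) (.node (.leaf 148488192) (.leaf 0))))) (.node (.node (.node (.node (.leaf 23756800) (.leaf 141738292)) (.node (.leaf 58408960) (.leaf 0))) (.node (.node (.leaf 70524928) (.leaf 0)) (.node (.leaf 91228942) (.leaf 0)))) (.node (.node (.node (.leaf 21028864) (.leaf 163767353)) (.node (.leaf 72646656) (.leaf 0))) (.node (.node (.leaf 45121536) (.leaf 0)) (.node (.leaf 105308160) (.leaf 0)))))))) (.node (.node (.node (.node (.node (.node (.node (.leaf 1081344) (.leaf 108912640)) (.node (.leaf 47529984) (.leaf 0))) (.node (.node (.leaf 23191552) (.leaf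 0)) (.node (.leaf 75464704) (.leaf 0)))) (.node (.node (.node (.leaf 11853824) (.leaf 135763021)) (.node (.leaf 61071360) (.leaf 0))) (.node (.node (.leaf 35020800) (.leaf 0)) (.node (.leaf 130869821) (.leaf 0))))) (.node (.node (.node (.node (.leaf 15802368) (.leaf 119037952)) (.node (.leaf 54231040) (.leaf 0))) (.node (.node (.leaf 43387838) (.leaf 0)) (.node (.leaf 137486336) (.leaf 0)))) (.node (.node (.node (.leaf 17506304) (.leaf 165364029)) (.node (.leaf 122109952) (.leaf 0))) (.node (.node (.leaf 84967424) (.leaf 0)) (.node (.leaf 150773760) (.leaf 0)))))) (.node (.node (.node (.node (.node (.leaf 9347072) (.leaf 140152475)) (.node (.leaf 99663872) (.leaf 0))) (.node (.node (.leaf 26124288) (.leaf 0)) (.node (.leaf 133914624) (.leaf 0)))) (.node (.node (.node (.leaf 34594816) (.leaf 137273344)) (.node (.leaf 112031739) (.leaf 0))) (.node (.node (.leaf 79822848) (.leaf 0)) (.node (.leaf 147660800) (.leaf 0))))) (.node (.node (.node (.node (.leaf 22183936) (.leaf 124477440)) (.node (.leaf 109133824)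 (.leaf 0))) (.node (.node (.leaf 69271552) (.leaf 0)) (.node (.leaf 87031808) (.leaf 0)))) (.node (.node (.node (.leaf 46628864) (.leaf 155620101)) (.node (.leaf 81920515) (.leaf 0))) (.node (.node (.leaf 44367872) (.leaf 0)) (.node (.leaf 149637074) (.leaf 0))))))) (.node (.node (.node (.node (.node (.node (.leaf 2408448) (.leaf 120562956)) (.node (.leaf 49250304) (.leaf 0))) (.node (.node (.leaf 55197696) (.leaf 0)) (.node (.leaf 77414400) (.leaf 0)))) (.node (.node (.node (.leaf 13213696) (.leaf 165347328)) (.node (.leaf 62824448) (.leaf 0))) (.node (.node (.leaf 77160448) (.leaf 0)) (.node (.leaf 141185099) (.leaf 0))))) (.node (.node (.node (.node (.leaf 7798784) (.leaf 121724928)) (.node (.leaf 55918592) (.leaf 0))) (.node (.node (.leaf 66560000) (.leaf 0)) (.node (.leaf 90388563) (.leaf 0)))) (.node (.node (.node (.leaf 43581440) (.leaf 153883228)) (.node (.leaf 124157952) (.leaf 0))) (.node (.node (.leaf 87392256) (.leaf 0)) (.node (.leaf 101818368) (.leaf 0)))))) (.node (.node (.node (.node (.node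 (.leaf 5087232) (.leaf 141500820)) (.node (.leaf 52559872) (.leaf 0))) (.node (.node (.leaf 34564584) (.leaf 0)) (.node (.leaf 135782400) (.leaf 0)))) (.node (.node (.node (.leaf 37691392) (.leaf 164552844)) (.node (.leaf 66355200) (.leaf 0))) (.node (.node (.leaf 39690240) (.leaf 0)) (.node (.leaf 119978461) (.leaf 0))))) (.node (.node (.node (.node (.leaf 25321472) (.leaf 163479552)) (.node (.leaf 111312896) (.leaf 0))) (.node (.node (.leaf 33521664) (.leaf 0)) (.node (.leaf 89022464) (.leaf 0)))) (.node (.node (.node (.leaf 33908433) (.leaf 162013184)) (.node (.leaf 128278528) (.leaf 0))) (.node (.node (.leaf 92372992) (.leaf 0)) (.node (.leaf 106496000) (.leaf 0))))))))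

def e1T85 : NT := .node (.node (.node (.node (.node (.node (.node (.node (.leaf 434176) (.leaf 107708416)) (.node (.leaf 46694400) (.leaf 0))) (.node (.node (.leaf 50970624) (.leaf 0)) (.node (.leaf 74498048) (.leaf 0)))) (.node (.node (.node (.leaf 26853376) (.leaf 151692199)) (.node (.leaf 60145664) (.leaf 0))) (.node (.node (.leaf 73195520) (.leaf 0)) (.node (.leaf 90034583) (.leaf 0))))) (.node (.node (.node (.node (.leaf 14155776) (.leaf 117743616)) (.node (.leaf 53379072) (.leaf 0))) (.node (.node (.leaf 62423040) (.leaf 0)) (.node (.leaf 82001920) (.leaf 0)))) (.node (.node (.node (.leaf 39133184) (.leaf 167043072)) (.node (.leaf 121061376) (.leaf 0))) (.node (.node (.leaf 75580156) (.leaf 0)) (.node (.leaf 124628350) (.leaf 0)))))) (.node (.node (.node (.node (.node (.leaf 7725056) (.leaf 112656384)) (.node (.leaf 50110464) (.leaf 0))) (.node (.node (.leaf 56582144) (.leaf 0)) (.node (.leaf 93063624) (.leaf 0)))) (.node (.node (.node (.leaf 13959168) (.leaf 135462912)) (.node (.leaf 78338325)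 (.leaf 0))) (.node (.node (.leaf 37404672) (.leaf 0)) (.node (.leaf 94240768) (.leaf 0))))) (.node (.node (.node (.node (.leaf 8503296) (.leaf 123109376)) (.node (.leaf 107995136) (.leaf 0))) (.node (.node (.leaf 68001792) (.leaf 0)) (.node (.leaf 140337152) (.leaf 0)))) (.node (.node (.node (.leaf 19636224) (.leaf 165718860)) (.node (.leaf 102107509) (.leaf 0))) (.node (.node (.leaf 88719360) (.leaf 0)) (.node (.leaf 103014400) (.leaf 0))))))) (.node (.node (.node (.node (.node (.node (.leaf 1744896) (.leaf 138748947)) (.node (.leaf 48422912) (.leaf 0))) (.node (.node (.leaf 53821440) (.leaf 0)) (.node (.leaf 131203072) (.leaf 0)))) (.node (.node (.node (.leaf 29966336) (.leaf 134160526)) (.node (.leaf 61980672) (.leaf 0))) (.node (.node (.leaf 35799040) (.leaf 0)) (.node (.leaf 145186816) (.leaf 0))))) (.node (.node (.node (.node (.leaf 17457152) (.leaf 120479744)) (.node (.leaf 105594880) (.leaf 0))) (.node (.node (.leaf 65150976) (.leaf 0)) (.node (.leaf 123075691) (.leaf 0)))) (.node (.node (.node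 (.leaf 42090496) (.leaf 147480576)) (.node (.leaf 123199488) (.leaf 0))) (.node (.node (.leaf 41984000) (.leaf 0)) (.node (.leaf 151478272) (.leaf 0)))))) (.node (.node (.node (.node (.node (.leaf 4431872) (.leaf 115032064)) (.node (.leaf 100900864) (.leaf 0))) (.node (.node (.leaf 26845184) (.leaf 0)) (.node (.leaf 80101376) (.leaf 0)))) (.node (.node (.node (.leaf 36167680) (.leaf 160619051)) (.node (.leaf 118988800) (.leaf 0))) (.node (.node (.leaf 38985728) (.leaf 0)) (.node (.leaf 112727163) (.leaf 0))))) (.node (.node (.node (.node (.leaf 9863168) (.leaf 125960192)) (.node (.leaf 110280704) (.leaf 0))) (.node (.node (.leaf 70541312) (.leaf 0)) (.node (.leaf 88014848) (.leaf 0)))) (.node (.node (.node (.leaf 48078848) (.leaf 157859840)) (.node (.leaf 127320064) (.leaf 0))) (.node (.node (.leaf 60417020) (.leaf 0)) (.node (.leaf 154238976) (.leaf 0)))))))) (.node (.node (.node (.node (.node (.node (.node (.leaf 2793472) (.leaf 133981675)) (.node (.leaf 76104568) (.leaf 0))) (.node (.node (.leaf 52428800)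 (.leaf 0)) (.node (.leaf 87086329) (.leaf 0)))) (.node (.node (.node (.leaf 28401664) (.leaf 163499668)) (.node (.leaf 113557504) (.leaf 0))) (.node (.node (.leaf 74514432) (.leaf 0)) (.node (.leaf 144457728) (.leaf 0))))) (.node (.node (.node (.node (.leaf 6447104) (.leaf 135128773)) (.node (.leaf 100019008) (.leaf 0))) (.node (.node (.leaf 63791104) (.leaf 0)) (.node (.leaf 137502720) (.leaf 0)))) (.node (.node (.node (.leaf 40624128) (.leaf 145863373)) (.node (.leaf 122118144) (.leaf 0))) (.node (.node (.leaf 53959501) (.leaf 0)) (.node (.leaf 99549184) (.leaf 0)))))) (.node (.node (.node (.node (.node (.leaf 3751936) (.leaf 113754112)) (.node (.leaf 50913280) (.leaf 0))) (.node (.node (.leaf 58073088) (.leaf 0)) (.node (.leaf 79301788) (.leaf 0)))) (.node (.node (.node (.leaf 14663680) (.leaf 165832888)) (.node (.leaf 64528384) (.leaf 0))) (.node (.node (.leaf 38199296) (.leaf 0)) (.node (.leaf 147677184) (.leaf 0))))) (.node (.node (.node (.node (.leaf 9191424) (.leaf 162693120)) (.node (.leaf 57606144)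 (.leaf 0))) (.node (.node (.leaf 32014336) (.leaf 0)) (.node (.leaf 121016299) (.leaf 0)))) (.node (.node (.node (.leaf 20332544) (.leaf 161418510)) (.node (.leaf 71786496) (.leaf 0))) (.node (.node (.leaf 89964544) (.leaf 0)) (.node (.leaf 153518080) (.leaf 0))))))) (.node (.node (.node (.node (.node (.node (.leaf 6070272) (.leaf 133203594)) (.node (.leaf 97288192) (.leaf 0))) (.node (.node (.leaf 24600576) (.leaf 0)) (.node (.leaf 95799563) (.leaf 0)))) (.node (.node (.node (.leaf 31563776) (.leaf 133849088)) (.node (.leaf 115769344) (.leaf 0))) (.node (.node (.leaf 36585472) (.leaf 0)) (.node (.leaf 100591003) (.leaf 0))))) (.node (.node (.node (.node (.leaf 19095552) (.leaf 161677312)) (.node (.leaf 106815488) (.leaf 0))) (.node (.node (.leaf 66576384) (.leaf 0)) (.node (.leaf 85032960) (.leaf 0)))) (.node (.node (.node (.leaf 43597824) (.leaf 150880977)) (.node (.leaf 69910528) (.leaf 0))) (.node (.node (.leaf 87400448) (.leaf 0)) (.node (.leaf 101842944) (.leaf 0)))))) (.node (.node (.node (.node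 (.node (.leaf 12566528) (.leaf 116277248)) (.node (.leaf 64956613) (.leaf 0))) (.node (.node (.leaf 27566080) (.leaf 0)) (.node (.leaf 135798784) (.leaf 0)))) (.node (.node (.node (.leaf 16056320) (.leaf 157406924)) (.node (.leaf 87696608) (.leaf 0))) (.node (.node (.leaf 39698432) (.leaf 0)) (.node (.leaf 97386496) (.leaf 0))))) (.node (.node (.node (.node (.leaf 25337856) (.leaf 147036493)) (.node (.leaf 59260928) (.leaf 0))) (.node (.node (.leaf 71860224) (.leaf 0)) (.node (.leaf 142901248) (.leaf 0)))) (.node (.node (.node (.leaf 21733376) (.leaf 163953639)) (.node (.leaf 73621504) (.leaf 0))) (.node (.node (.leaf 45916160) (.leaf 0)) (.node (.leaf 106504192) (.leaf 0))))))))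

def e1T86 : NT := .node (.node (.node (.node (.node (.node (.node (.node (.leaf 1130496) (.leaf 109852144)) (.node (.leaf 93741056) (.leaf 0))) (.node (.node (.leaf 22462464) (.leaf 0)) (.node (.leaf 129236992) (.leaf 0)))) (.node (.node (.node (.leaf 11198464) (.leaf 155792863)) (.node (.leaf 112418816) (.leaf 0))) (.node (.node (.leaf 73211904) (.leaf 0)) (.node (.leaf 91003164) (.leaf 0))))) (.node (.node (.node (.node (.leaf 14172160) (.leaf 160071680)) (.node (.leaf 103137280) (.leaf 0))) (.node (.node (.leaf 28344320) (.leaf 0)) (.node (.leaf 82018304) (.leaf 0)))) (.node (.node (.node (.leaf 16801792) (.leaf 148614422)) (.node (.leaf 67207168) (.leaf 0))) (.node (.node (.leaf 83722240) (.leaf 0)) (.node (.leaf 150003712) (.leaf 0)))))) (.node (.node (.node (.node (.node (.leaf 7741440) (.leaf 114482066)) (.node (.leaf 98451456) (.leaf 0))) (.node (.node (.leaf 25370624) (.leaf 0)) (.node (.leaf 133029888) (.leaf 0)))) (.node (.node (.node (.leaf 33103872) (.leaf 163044099)) (.node (.leaf 63668224)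 (.leaf 0))) (.node (.node (.leaf 78503936) (.leaf 0)) (.node (.leaf 146956288) (.leaf 0))))) (.node (.node (.node (.node (.leaf 20717568) (.leaf 162201600)) (.node (.leaf 108011520) (.leaf 0))) (.node (.node (.leaf 68018176) (.leaf 0)) (.node (.leaf 140345344) (.leaf 0)))) (.node (.node (.node (.leaf 45129728) (.leaf 164024445)) (.node (.leaf 125247488) (.leaf 0))) (.node (.node (.leaf 88727552) (.leaf 0)) (.node (.leaf 145509445) (.leaf 0))))))) (.node (.node (.node (.node (.node (.node (.leaf 4448256) (.leaf 156786688)) (.node (.leaf 96116736) (.leaf 0))) (.node (.node (.leaf 23896064) (.leaf 0)) (.node (.leaf 76488704) (.leaf 0)))) (.node (.node (.node (.leaf 12550144) (.leaf 132161536)) (.node (.leaf 61988864) (.leaf 0))) (.node (.node (.leaf 75882496) (.leaf 0)) (.node (.leaf 92258304) (.leaf 0))))) (.node (.node (.node (.node (.leaf 7127040) (.leaf 124946056)) (.node (.leaf 105611264) (.leaf 0))) (.node (.node (.leaf 65167360) (.leaf 0)) (.node (.leaf 84017152) (.leaf 0)))) (.node (.node (.node (.leaf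 18219008) (.leaf 163534984)) (.node (.leaf 123215872) (.leaf 0))) (.node (.node (.leaf 86155264) (.leaf 0)) (.node (.leaf 128632122) (.leaf 0)))))) (.node (.node (.node (.node (.node (.leaf 10977280) (.leaf 147909663)) (.node (.leaf 100917248) (.leaf 0))) (.node (.node (.leaf 59564032) (.leaf 0)) (.node (.leaf 119368300) (.leaf 0)))) (.node (.node (.node (.leaf 36184064) (.leaf 139280384)) (.node (.leaf 119005184) (.leaf 0))) (.node (.node (.leaf 81092608) (.leaf 0)) (.node (.leaf 148504576) (.leaf 0))))) (.node (.node (.node (.node (.leaf 23781376) (.leaf 163086336)) (.node (.leaf 58417152) (.leaf 0))) (.node (.node (.leaf 70549504) (.leaf 0)) (.node (.leaf 116986736) (.leaf 0)))) (.node (.node (.node (.leaf 48095232) (.leaf 163004759)) (.node (.leaf 127336448) (.leaf 0))) (.node (.node (.leaf 45137920) (.leaf 0)) (.node (.leaf 145078039) (.leaf 0)))))))) (.node (.node (.node (.node (.node (.node (.node (.leaf 2809856) (.leaf 108929024)) (.node (.leaf 94879744) (.leaf 0))) (.node (.node (.leaf 23199744)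 (.leaf 0)) (.node (.leaf 130179072) (.leaf 0)))) (.node (.node (.node (.leaf 28418048) (.leaf 164470784)) (.node (.leaf 61079552) (.leaf 0))) (.node (.node (.leaf 68075822) (.leaf 0)) (.node (.leaf 91078656) (.leaf 0))))) (.node (.node (.node (.node (.leaf 15818752) (.leaf 148855878)) (.node (.leaf 104292352) (.leaf 0))) (.node (.node (.leaf 29073408) (.leaf 0)) (.node (.leaf 137519104) (.leaf 0)))) (.node (.node (.node (.leaf 40640512) (.leaf 145375232)) (.node (.leaf 122126336) (.leaf 0))) (.node (.node (.leaf 41189376) (.leaf 0)) (.node (.leaf 106254772) (.leaf 0)))))) (.node (.node (.node (.node (.node (.leaf 9371648) (.leaf 120510455)) (.node (.leaf 99688448) (.leaf 0))) (.node (.node (.leaf 26132480) (.leaf 0)) (.node (.leaf 79175680) (.leaf 0)))) (.node (.node (.node (.leaf 34619392) (.leaf 137297920)) (.node (.leaf 117956608) (.leaf 0))) (.node (.node (.leaf 79847424) (.leaf 0)) (.node (.leaf 95272960) (.leaf 0))))) (.node (.node (.node (.node (.leaf 22208512) (.leaf 143800432)) (.node (.leaf 109150208)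 (.leaf 0))) (.node (.node (.leaf 69296128) (.leaf 0)) (.node (.leaf 141172736) (.leaf 0)))) (.node (.node (.node (.leaf 46645248) (.leaf 154820608)) (.node (.leaf 71794688) (.leaf 0))) (.node (.node (.leaf 44376064) (.leaf 0)) (.node (.leaf 104071168) (.leaf 0))))))) (.node (.node (.node (.node (.node (.node (.leaf 2416640) (.leaf 111452160)) (.node (.leaf 97304576) (.leaf 0))) (.node (.node (.leaf 55222272) (.leaf 0)) (.node (.leaf 77422592) (.leaf 0)))) (.node (.node (.node (.leaf 31571968) (.leaf 142349538)) (.node (.leaf 79375060) (.leaf 0))) (.node (.node (.leaf 41889479) (.leaf 0)) (.node (.leaf 93192192) (.leaf 0))))) (.node (.node (.node (.node (.leaf 7815168) (.leaf 121749504)) (.node (.leaf 106831872) (.leaf 0))) (.node (.node (.leaf 30539776) (.leaf 0)) (.node (.leaf 128794823) (.leaf 0)))) (.node (.node (.node (.leaf 18923520) (.leaf 159939058)) (.node (.leaf 124182528) (.leaf 0))) (.node (.node (.leaf 42754048) (.leaf 0)) (.node (.leaf 101851136) (.leaf 0)))))) (.node (.node (.node (.node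 (.node (.leaf 5095424) (.leaf 122355967)) (.node (.leaf 52568064) (.leaf 0))) (.node (.node (.leaf 61038592) (.leaf 0)) (.node (.leaf 109441249) (.leaf 0)))) (.node (.node (.node (.leaf 37715968) (.leaf 166789120)) (.node (.leaf 101538315) (.leaf 0))) (.node (.node (.leaf 82427904) (.leaf 0)) (.node (.leaf 97402880) (.leaf 0))))) (.node (.node (.node (.node (.leaf 10526720) (.leaf 151716066)) (.node (.leaf 111337472) (.leaf 0))) (.node (.node (.leaf 33529856) (.leaf 0)) (.node (.leaf 142909440) (.leaf 0)))) (.node (.node (.node (.leaf 49553408) (.leaf 167512024)) (.node (.leaf 89958351) (.leaf 0))) (.node (.node (.leaf 92397568) (.leaf 0)) (.node (.leaf 141134357) (.leaf 0))))))))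

def e1T87 : NT := .node (.node (.node (.node (.node (.node (.node (.node (.leaf 442368) (.leaf 143812731)) (.node (.leaf 46710784) (.leaf 0))) (.node (.node (.leaf 48262216) (.leaf 0)) (.node (.leaf 84239399) (.leaf 0)))) (.node (.node (.node (.leaf 26877952) (.leaf 128933888)) (.node (.leaf 60153856) (.leaf 0))) (.node (.node (.leaf 34299904) (.leaf 0)) (.node (.leaf 90046464) (.leaf 0))))) (.node (.node (.node (.node (.leaf 5775360) (.leaf 139956692)) (.node (.leaf 103153664) (.leaf 0))) (.node (.node (.leaf 62439424) (.leaf 0)) (.node (.leaf 106709686) (.leaf 0)))) (.node (.node (.node (.leaf 39157760) (.leaf 165642616)) (.node (.leaf 121085952) (.leaf 0))) (.node (.node (.leaf 83738624) (.leaf 0)) (.node (.leaf 117637784) (.leaf 0)))))) (.node (.node (.node (.node (.node (.leaf 3088384) (.leaf 136096749)) (.node (.leaf 63054488) (.leaf 0))) (.node (.node (.leaf 56598528) (.leaf 0)) (.node (.leaf 78274560) (.leaf 0)))) (.node (.node (.node (.leaf 13967360) (.leaf 157715938)) (.node (.leaf 116842496)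 (.leaf 0))) (.node (.node (.leaf 37412864) (.leaf 0)) (.node (.leaf 138366187) (.leaf 0))))) (.node (.node (.node (.node (.leaf 8511488) (.leaf 157692625)) (.node (.leaf 56803328) (.leaf 0))) (.node (.node (.leaf 31252480) (.leaf 0)) (.node (.leaf 140353536) (.leaf 0)))) (.node (.node (.node (.leaf 45146112) (.leaf 152444928)) (.node (.leaf 125263872) (.leaf 0))) (.node (.node (.leaf 43548672) (.leaf 0)) (.node (.leaf 130156472) (.leaf 0))))))) (.node (.node (.node (.node (.node (.node (.leaf 1753088) (.leaf 156794880)) (.node (.leaf 96133120) (.leaf 0))) (.node (.node (.leaf 53846016) (.leaf 0)) (.node (.leaf 131219456) (.leaf 0)))) (.node (.node (.node (.leaf 29982720) (.leaf 145606222)) (.node (.leaf 72344681) (.leaf 0))) (.node (.node (.leaf 75898880) (.leaf 0)) (.node (.leaf 92266496) (.leaf 0))))) (.node (.node (.node (.node (.leaf 17481728) (.leaf 120512512)) (.node (.leaf 55066624) (.leaf 0))) (.node (.node (.leaf 29794304) (.leaf 0)) (.node (.leaf 138403840) (.leaf 0)))) (.node (.node (.node (.leaf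 18227200) (.leaf 163406396)) (.node (.leaf 115632849) (.leaf 0))) (.node (.node (.leaf 86171648) (.leaf 0)) (.node (.leaf 132572962) (.leaf 0)))))) (.node (.node (.node (.node (.node (.leaf 4440064) (.leaf 159014912)) (.node (.leaf 51757056) (.leaf 0))) (.node (.node (.leaf 26861568) (.leaf 0)) (.node (.leaf 80125952) (.leaf 0)))) (.node (.node (.node (.leaf 15384576) (.leaf 139329536)) (.node (.leaf 65470464) (.leaf 0))) (.node (.node (.leaf 81100800) (.leaf 0)) (.node (.leaf 96378880) (.leaf 0))))) (.node (.node (.node (.node (.leaf 23797760) (.leaf 125984768)) (.node (.leaf 110297088) (.leaf 0))) (.node (.node (.leaf 32768000) (.leaf 0)) (.node (.leaf 112105575) (.leaf 0)))) (.node (.node (.node (.leaf 21045248) (.leaf 167314597)) (.node (.leaf 72663040) (.leaf 0))) (.node (.node (.leaf 91193344) (.leaf 0)) (.node (.leaf 140029616) (.leaf 0)))))))) (.node (.node (.node (.node (.node (.node (.node (.leaf 1097728) (.leaf 139451051)) (.node (.leaf 47546368) (.leaf 0))) (.node (.node (.leaf 52453376) (.leaf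 0)) (.node (.leaf 130187264) (.leaf 0)))) (.node (.node (.node (.leaf 11870208) (.leaf 130621440)) (.node (.leaf 109974637) (.leaf 0))) (.node (.node (.leaf 35037184) (.leaf 0)) (.node (.leaf 103176691) (.leaf 0))))) (.node (.node (.node (.node (.leaf 6455296) (.leaf 160694272)) (.node (.leaf 104308736) (.leaf 0))) (.node (.node (.leaf 63815680) (.leaf 0)) (.node (.leaf 83001344) (.leaf 0)))) (.node (.node (.node (.leaf 17522688) (.leaf 145424384)) (.node (.leaf 68059136) (.leaf 0))) (.node (.node (.leaf 78531672) (.leaf 0)) (.node (.leaf 150781952) (.leaf 0)))))) (.node (.node (.node (.node (.node (.leaf 3760128) (.leaf 130918971)) (.node (.leaf 99704832) (.leaf 0))) (.node (.node (.leaf 58097664) (.leaf 0)) (.node (.leaf 133922816) (.leaf 0)))) (.node (.node (.node (.leaf 14680064) (.leaf 138654665)) (.node (.leaf 113531945) (.leaf 0))) (.node (.node (.leaf 38223872) (.leaf 0)) (.node (.leaf 124557530) (.leaf 0))))) (.node (.node (.node (.node (.leaf 22224896) (.leaf 128118406)) (.node (.leaf 109166592)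 (.leaf 0))) (.node (.node (.leaf 32022528) (.leaf 0)) (.node (.leaf 87048192) (.leaf 0)))) (.node (.node (.node (.leaf 37218655) (.leaf 167645108)) (.node (.leaf 76902944) (.leaf 0))) (.node (.node (.leaf 89989120) (.leaf 0)) (.node (.leaf 153542656) (.leaf 0))))))) (.node (.node (.node (.node (.node (.node (.leaf 6094848) (.leaf 157384704)) (.node (.leaf 49274880) (.leaf 0))) (.node (.node (.leaf 55238656) (.leaf 0)) (.node (.leaf 105316773) (.leaf 0)))) (.node (.node (.node (.leaf 13230080) (.leaf 133890048)) (.node (.leaf 62840832) (.leaf 0))) (.node (.node (.leaf 73938393) (.leaf 0)) (.node (.leaf 101034526) (.leaf 0))))) (.node (.node (.node (.node (.leaf 19120128) (.leaf 123999892)) (.node (.leaf 106848256) (.leaf 0))) (.node (.node (.leaf 66592768) (.leaf 0)) (.node (.leaf 85041152) (.leaf 0)))) (.node (.node (.node (.leaf 43614208) (.leaf 149880832)) (.node (.leaf 69918720) (.leaf 0))) (.node (.node (.leaf 87425024) (.leaf 0)) (.node (.leaf 152199168) (.leaf 0)))))) (.node (.node (.node (.node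 (.node (.leaf 9604063) (.leaf 146917101)) (.node (.leaf 52576256) (.leaf 0))) (.node (.node (.leaf 61054976) (.leaf 0)) (.node (.leaf 80994304) (.leaf 0)))) (.node (.node (.node (.leaf 37732352) (.leaf 141271040)) (.node (.leaf 66379776) (.leaf 0))) (.node (.node (.leaf 39706624) (.leaf 0)) (.node (.leaf 127849251) (.leaf 0))))) (.node (.node (.node (.node (.leaf 25362432) (.leaf 163504128)) (.node (.leaf 111353856) (.leaf 0))) (.node (.node (.leaf 71884800) (.leaf 0)) (.node (.leaf 89055232) (.leaf 0)))) (.node (.node (.node (.leaf 49569792) (.leaf 162242560)) (.node (.leaf 128311296) (.leaf 0))) (.node (.node (.leaf 92413952) (.leaf 0)) (.node (.leaf 151119853) (.leaf 0))))))))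

def e1T88 : NT := .node (.node (.node (.node (.node (.node (.node (.node (.leaf 1155072) (.leaf 149532207)) (.node (.leaf 93765632) (.leaf 0))) (.node (.node (.leaf 51003392) (.leaf 0)) (.node (.leaf 74522624) (.leaf 0)))) (.node (.node (.node (.leaf 11206656) (.leaf 150654876)) (.node (.leaf 112443392) (.leaf 0))) (.node (.node (.leaf 73220096) (.leaf 0)) (.node (.leaf 90054656) (.leaf 0))))) (.node (.node (.node (.node (.leaf 14196736) (.leaf 117784576)) (.node (.leaf 53395456) (.leaf 0))) (.node (.node (.leaf 28352512) (.leaf 0)) (.node (.leaf 136650752) (.leaf 0)))) (.node (.node (.node (.leaf 16809984) (.leaf 143360000)) (.node (.leaf 67223552) (.leaf 0))) (.node (.node (.leaf 83746816) (.leaf 0)) (.node (.leaf 98492416) (.leaf 0)))))) (.node (.node (.node (.node (.node (.leaf 7766016) (.leaf 112680960)) (.node (.leaf 98476032) (.leaf 0))) (.node (.node (.leaf 25378816) (.leaf 0)) (.node (.leaf 99629391) (.leaf 0)))) (.node (.node (.node (.leaf 33128448) (.leaf 162660590)) (.node (.leaf 63676416)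 (.leaf 0))) (.node (.node (.leaf 55843607) (.leaf 0)) (.node (.leaf 142268095) (.leaf 0))))) (.node (.node (.node (.node (.leaf 20742144) (.leaf 123166720)) (.node (.leaf 108027904) (.leaf 0))) (.node (.node (.leaf 68042752) (.leaf 0)) (.node (.leaf 140361728) (.leaf 0)))) (.node (.node (.node (.leaf 19652608) (.leaf 163205546)) (.node (.leaf 99502126) (.leaf 0))) (.node (.node (.leaf 75303094) (.leaf 0)) (.node (.leaf 152838144) (.leaf 0))))))) (.node (.node (.node (.node (.node (.node (.leaf 4472832) (.leaf 110174208)) (.node (.leaf 48439296) (.leaf 0))) (.node (.node (.leaf 53854208) (.leaf 0)) (.node (.leaf 131235840) (.leaf 0)))) (.node (.node (.node (.leaf 21501811) (.leaf 162784450)) (.node (.leaf 62005248) (.leaf 0))) (.node (.node (.leaf 35815424) (.leaf 0)) (.node (.leaf 145211392) (.leaf 0))))) (.node (.node (.node (.node (.leaf 17498112) (.leaf 161144832)) (.node (.leaf 55083008) (.leaf 0))) (.node (.node (.leaf 65191936) (.leaf 0)) (.node (.leaf 138420224) (.leaf 0)))) (.node (.node (.node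 (.leaf 42123264) (.leaf 147505152)) (.node (.leaf 69042176) (.leaf 0))) (.node (.node (.leaf 42000384) (.leaf 0)) (.node (.leaf 100646912) (.leaf 0)))))) (.node (.node (.node (.node (.node (.leaf 11001856) (.leaf 115064832)) (.node (.leaf 100933632) (.leaf 0))) (.node (.node (.leaf 59572224) (.leaf 0)) (.node (.leaf 134881280) (.leaf 0)))) (.node (.node (.node (.leaf 36208640) (.leaf 161867626)) (.node (.leaf 119021568) (.leaf 0))) (.node (.node (.leaf 39002112) (.leaf 0)) (.node (.leaf 146772746) (.leaf 0))))) (.node (.node (.node (.node (.leaf 9879552) (.leaf 125992960)) (.node (.leaf 82784938) (.leaf 0))) (.node (.node (.leaf 70574080) (.leaf 0)) (.node (.leaf 113485090) (.leaf 0)))) (.node (.node (.node (.leaf 48111616) (.leaf 157949952)) (.node (.leaf 114717802) (.leaf 0))) (.node (.node (.leaf 91209728) (.leaf 0)) (.node (.leaf 154255360) (.leaf 0)))))))) (.node (.node (.node (.node (.node (.node (.node (.leaf 2834432) (.leaf 108937216)) (.node (.leaf 94896128) (.leaf 0))) (.node (.node (.leaf 52469760)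 (.leaf 0)) (.node (.leaf 75489280) (.leaf 0)))) (.node (.node (.node (.leaf 28442624) (.leaf 164487168)) (.node (.leaf 61095936) (.leaf 0))) (.node (.node (.leaf 74547200) (.leaf 0)) (.node (.leaf 144474112) (.leaf 0))))) (.node (.node (.node (.node (.leaf 15843328) (.leaf 159095528)) (.node (.leaf 54255616) (.leaf 0))) (.node (.node (.leaf 63832064) (.leaf 0)) (.node (.leaf 83009536) (.leaf 0)))) (.node (.node (.node (.leaf 40665088) (.leaf 145432576)) (.node (.leaf 122142720) (.leaf 0))) (.node (.node (.leaf 85008384) (.leaf 0)) (.node (.leaf 99573760) (.leaf 0)))))) (.node (.node (.node (.node (.node (.leaf 9396224) (.leaf 158392320)) (.node (.leaf 99721216) (.leaf 0))) (.node (.node (.leaf 26140672) (.leaf 0)) (.node (.leaf 129846652) (.leaf 0)))) (.node (.node (.node (.leaf 34635776) (.leaf 137330688)) (.node (.leaf 64544768) (.leaf 0))) (.node (.node (.leaf 79863808) (.leaf 0)) (.node (.leaf 95297536) (.leaf 0))))) (.node (.node (.node (.node (.leaf 9207808) (.leaf 162701312)) (.node (.leaf 109182976)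 (.leaf 0))) (.node (.node (.leaf 69304320) (.leaf 0)) (.node (.leaf 87072768) (.leaf 0)))) (.node (.node (.node (.leaf 20348928) (.leaf 154828800)) (.node (.leaf 126187990) (.leaf 0))) (.node (.node (.leaf 89997312) (.leaf 0)) (.node (.leaf 104425018) (.leaf 0))))))) (.node (.node (.node (.node (.node (.node (.leaf 6111232) (.leaf 111468544)) (.node (.leaf 97320960) (.leaf 0))) (.node (.node (.leaf 24616960) (.leaf 0)) (.node (.leaf 116024762) (.leaf 0)))) (.node (.node (.node (.leaf 31596544) (.leaf 163800251)) (.node (.leaf 115793920) (.leaf 0))) (.node (.node (.leaf 36601856) (.leaf 0)) (.node (.leaf 93200384) (.leaf 0))))) (.node (.node (.node (.node (.leaf 7823360) (.leaf 158676073)) (.node (.leaf 55943168) (.leaf 0))) (.node (.node (.leaf 30547968) (.leaf 0)) (.node (.leaf 130119697) (.leaf 0)))) (.node (.node (.node (.leaf 43630592) (.leaf 150467023)) (.node (.leaf 124198912) (.leaf 0))) (.node (.node (.leaf 87441408) (.leaf 0)) (.node (.leaf 141162643) (.leaf 0)))))) (.node (.node (.node (.node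 (.node (.leaf 12599296) (.leaf 116310016)) (.node (.leaf 102064128) (.leaf 0))) (.node (.node (.leaf 27582464) (.leaf 0)) (.node (.leaf 129986445) (.leaf 0)))) (.node (.node (.node (.leaf 16072704) (.leaf 166805504)) (.node (.leaf 119930880) (.leaf 0))) (.node (.node (.leaf 82452480) (.leaf 0)) (.node (.leaf 138688264) (.leaf 0))))) (.node (.node (.node (.node (.leaf 10534912) (.leaf 152988780)) (.node (.leaf 111370240) (.leaf 0))) (.node (.node (.leaf 71892992) (.leaf 0)) (.node (.leaf 133047460) (.leaf 0)))) (.node (.node (.node (.leaf 21749760) (.leaf 162250752)) (.node (.leaf 73637888) (.leaf 0))) (.node (.node (.leaf 45932544) (.leaf 0)) (.node (.leaf 154853376) (.leaf 0))))))))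

def e1T89 : NT := .node (.node (.node (.node (.node (.node (.node (.node (.leaf 1171456) (.leaf 107757568)) (.node (.leaf 93782016) (.leaf 0))) (.node (.node (.leaf 51019776) (.leaf 0)) (.node (.leaf 129253376) (.leaf 0)))) (.node (.node (.node (.leaf 26902528) (.leaf 163962880)) (.node (.leaf 60178432) (.leaf 0))) (.node (.node (.leaf 34308096) (.leaf 0)) (.node (.leaf 143646720) (.leaf 0))))) (.node (.node (.node (.node (.leaf 14213120) (.leaf 117800960)) (.node (.leaf 60732407) (.leaf 0))) (.node (.node (.leaf 59979240) (.leaf 0)) (.node (.leaf 105843545) (.leaf 0)))) (.node (.node (.node (.leaf 39174144) (.leaf 143368192)) (.node (.leaf 121110528) (.leaf 0))) (.node (.node (.leaf 40476672) (.leaf 0)) (.node (.leaf 115657038) (.leaf 0)))))) (.node (.node (.node (.node (.node (.leaf 3096576) (.leaf 139414955)) (.node (.leaf 50135040) (.leaf 0))) (.node (.node (.leaf 56606720) (.leaf 0)) (.node (.leaf 133054464) (.leaf 0)))) (.node (.node (.node (.leaf 33144832) (.leaf 165675008)) (.node (.leaf 116867072)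 (.leaf 0))) (.node (.node (.leaf 78536704) (.leaf 0)) (.node (.leaf 94265344) (.leaf 0))))) (.node (.node (.node (.node (.leaf 11931855) (.leaf 153663377)) (.node (.leaf 56811520) (.leaf 0))) (.node (.node (.leaf 68050944) (.leaf 0)) (.node (.leaf 86056960) (.leaf 0)))) (.node (.node (.node (.leaf 45170688) (.leaf 152469504)) (.node (.leaf 70852608) (.leaf 0))) (.node (.node (.leaf 43556864) (.leaf 0)) (.node (.leaf 103055360) (.leaf 0))))))) (.node (.node (.node (.node (.node (.node (.leaf 4489216) (.leaf 110190592)) (.node (.leaf 57509799) (.leaf 0))) (.node (.node (.leaf 23912448) (.leaf 0)) (.node (.leaf 76521472) (.leaf 0)))) (.node (.node (.node (.leaf 30007296) (.leaf 132194304)) (.node (.leaf 114688000) (.leaf 0))) (.node (.node (.leaf 75923456) (.leaf 0)) (.node (.leaf 131647084) (.leaf 0))))) (.node (.node (.node (.node (.leaf 17514496) (.leaf 161153024)) (.node (.leaf 55091200) (.leaf 0))) (.node (.node (.leaf 65208320) (.leaf 0)) (.node (.leaf 84033536) (.leaf 0)))) (.node (.node (.node (.leaf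 18235392) (.leaf 154502278)) (.node (.leaf 123248640) (.leaf 0))) (.node (.node (.leaf 86179840) (.leaf 0)) (.node (.leaf 114681858) (.leaf 0)))))) (.node (.node (.node (.node (.node (.leaf 11018240) (.leaf 149120570)) (.node (.leaf 100950016) (.leaf 0))) (.node (.node (.leaf 54700576) (.leaf 0)) (.node (.leaf 80134144) (.leaf 0)))) (.node (.node (.node (.leaf 15392768) (.leaf 166428672)) (.node (.leaf 65478656) (.leaf 0))) (.node (.node (.leaf 81125376) (.leaf 0)) (.node (.leaf 96387072) (.leaf 0))))) (.node (.node (.node (.node (.leaf 23822336) (.leaf 163102720)) (.node (.leaf 58433536) (.leaf 0))) (.node (.node (.leaf 36989866) (.leaf 0)) (.node (.leaf 142098432) (.leaf 0)))) (.node (.node (.node (.leaf 21053440) (.leaf 164696009)) (.node (.leaf 72671232) (.leaf 0))) (.node (.node (.leaf 45154304) (.leaf 0)) (.node (.leaf 154271744) (.leaf 0)))))))) (.node (.node (.node (.node (.node (.node (.node (.leaf 2850816) (.leaf 114326122)) (.node (.leaf 47562752) (.leaf 0))) (.node (.node (.leaf 52486144) (.leaf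 0)) (.node (.leaf 130211840) (.leaf 0)))) (.node (.node (.node (.leaf 28459008) (.leaf 130637824)) (.node (.leaf 61104128) (.leaf 0))) (.node (.node (.leaf 74563584) (.leaf 0)) (.node (.leaf 118659670) (.leaf 0))))) (.node (.node (.node (.node (.leaf 6463488) (.leaf 151653864)) (.node (.leaf 104333312) (.leaf 0))) (.node (.node (.leaf 29089792) (.leaf 0)) (.node (.leaf 108278053) (.leaf 0)))) (.node (.node (.node (.leaf 40681472) (.leaf 156546164)) (.node (.leaf 68067328) (.leaf 0))) (.node (.node (.leaf 41205760) (.leaf 0)) (.node (.leaf 101043904) (.leaf 0)))))) (.node (.node (.node (.node (.node (.leaf 9412608) (.leaf 120296420)) (.node (.leaf 50937856) (.leaf 0))) (.node (.node (.leaf 58122240) (.leaf 0)) (.node (.leaf 79192064) (.leaf 0)))) (.node (.node (.node (.leaf 14688256) (.leaf 166043960)) (.node (.leaf 64552960) (.leaf 0))) (.node (.node (.leaf 79880192) (.leaf 0)) (.node (.leaf 95305728) (.leaf 0))))) (.node (.node (.node (.node (.leaf 22249472) (.leaf 155505745)) (.node (.leaf 81145714)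 (.leaf 0))) (.node (.node (.leaf 32038912) (.leaf 0)) (.node (.leaf 110425970) (.leaf 0)))) (.node (.node (.node (.leaf 46678016) (.leaf 157524375)) (.node (.leaf 120128495) (.leaf 0))) (.node (.node (.leaf 44392448) (.leaf 0)) (.node (.leaf 104103936) (.leaf 0))))))) (.node (.node (.node (.node (.node (.node (.leaf 2433024) (.leaf 138801498)) (.node (.leaf 97337344) (.leaf 0))) (.node (.node (.leaf 55263232) (.leaf 0)) (.node (.leaf 77463552) (.leaf 0)))) (.node (.node (.node (.leaf 31604736) (.leaf 133931008)) (.node (.leaf 115802112) (.leaf 0))) (.node (.node (.leaf 36610048) (.leaf 0)) (.node (.leaf 137254941) (.leaf 0))))) (.node (.node (.node (.node (.leaf 19144704) (.leaf 135181171)) (.node (.leaf 87741473) (.leaf 0))) (.node (.node (.leaf 66617344) (.leaf 0)) (.node (.leaf 139345920) (.leaf 0)))) (.node (.node (.node (.leaf 18939904) (.leaf 163736428)) (.node (.leaf 124215296) (.leaf 0))) (.node (.node (.leaf 42770432) (.leaf 0)) (.node (.leaf 152207360) (.leaf 0)))))) (.node (.node (.node (.node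 (.node (.leaf 5111808) (.leaf 120090411)) (.node (.leaf 102080512) (.leaf 0))) (.node (.node (.leaf 37190074) (.leaf 0)) (.node (.leaf 82187481) (.leaf 0)))) (.node (.node (.node (.leaf 37748736) (.leaf 153842846)) (.node (.leaf 66396160) (.leaf 0))) (.node (.node (.leaf 39723008) (.leaf 0)) (.node (.leaf 149266432) (.leaf 0))))) (.node (.node (.node (.node (.leaf 25387008) (.leaf 127442944)) (.node (.leaf 59285504) (.leaf 0))) (.node (.node (.leaf 33546240) (.leaf 0)) (.node (.leaf 89063424) (.leaf 0)))) (.node (.node (.node (.leaf 49594368) (.leaf 162267136)) (.node (.leaf 108464888) (.leaf 0))) (.node (.node (.leaf 45940736) (.leaf 0)) (.node (.leaf 115119759) (.leaf 0))))))))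

def e1T90 : NT := .node (.node (.node (.node (.node (.node (.node (.node (.leaf 458752) (.leaf 107765760)) (.node (.leaf 46727168) (.leaf 0))) (.node (.node (.leaf 22487040) (.leaf 0)) (.node (.leaf 74539008) (.leaf 0)))) (.node (.node (.node (.leaf 11214848) (.leaf 160156059)) (.node (.leaf 105359594) (.leaf 0))) (.node (.node (.leaf 73244672) (.leaf 0)) (.node (.leaf 90079232) (.leaf 0))))) (.node (.node (.node (.node (.leaf 5791744) (.leaf 157599105)) (.node (.leaf 53403648) (.leaf 0))) (.node (.node (.leaf 62472192) (.leaf 0)) (.node (.leaf 82059264) (.leaf 0)))) (.node (.node (.node (.leaf 16826368) (.leaf 143392768)) (.node (.leaf 121126912) (.leaf 0))) (.node (.node (.leaf 66740590) (.leaf 0)) (.node (.leaf 98516992) (.leaf 0)))))) (.node (.node (.node (.node (.node (.leaf 7790592) (.leaf 112697344)) (.node (.leaf 98500608) (.leaf 0))) (.node (.node (.leaf 56614912) (.leaf 0)) (.node (.leaf 78290944) (.leaf 0)))) (.node (.node (.node (.leaf 13983744) (.leaf 158212927)) (.node (.leaf 63692800) (.leaf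 0))) (.node (.node (.leaf 37429248) (.leaf 0)) (.node (.leaf 146972672) (.leaf 0))))) (.node (.node (.node (.node (.leaf 8527872) (.leaf 123174912)) (.node (.leaf 108052480) (.leaf 0))) (.node (.node (.leaf 31268864) (.leaf 0)) (.node (.leaf 86073344) (.leaf 0)))) (.node (.node (.node (.leaf 19660800) (.leaf 152477696)) (.node (.leaf 74158553) (.leaf 0))) (.node (.node (.leaf 88760320) (.leaf 0)) (.node (.leaf 103063552) (.leaf 0))))))) (.node (.node (.node (.node (.node (.node (.leaf 1769472) (.leaf 110198784)) (.node (.leaf 48447488) (.leaf 0))) (.node (.node (.leaf 53878784) (.leaf 0)) (.node (.leaf 92288347) (.leaf 0)))) (.node (.node (.node (.leaf 12574720) (.leaf 164105325)) (.node (.leaf 114704384) (.leaf 0))) (.node (.node (.leaf 75939840) (.leaf 0)) (.node (.leaf 92291072) (.leaf 0))))) (.node (.node (.node (.node (.leaf 17530880) (.leaf 161169408)) (.node (.leaf 88783549) (.leaf 0))) (.node (.node (.leaf 65216512) (.leaf 0)) (.node (.leaf 84049920) (.leaf 0)))) (.node (.node (.node (.leaf 42147840)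 (.leaf 147570688)) (.node (.leaf 123265024) (.leaf 0))) (.node (.node (.leaf 42008576) (.leaf 0)) (.node (.leaf 151511040) (.leaf 0)))))) (.node (.node (.node (.node (.node (.leaf 4456448) (.leaf 115089408)) (.node (.leaf 100958208) (.leaf 0))) (.node (.node (.leaf 26886144) (.leaf 0)) (.node (.leaf 134897664) (.leaf 0)))) (.node (.node (.node (.leaf 36233216) (.leaf 164193749)) (.node (.leaf 119029760) (.leaf 0))) (.node (.node (.leaf 81133568) (.leaf 0)) (.node (.leaf 148520960) (.leaf 0))))) (.node (.node (.node (.node (.leaf 9887744) (.leaf 131761496)) (.node (.leaf 110321664) (.leaf 0))) (.node (.node (.leaf 70598656) (.leaf 0)) (.node (.leaf 88055808) (.leaf 0)))) (.node (.node (.node (.leaf 48136192) (.leaf 157966336)) (.node (.leaf 94811035) (.leaf 0))) (.node (.node (.leaf 59548213) (.leaf 0)) (.node (.leaf 154279936) (.leaf 0)))))))) (.node (.node (.node (.node (.node (.node (.node (.leaf 1114112) (.leaf 124930192)) (.node (.leaf 94912512) (.leaf 0))) (.node (.node (.leaf 23224320) (.leaf 0))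 (.node (.leaf 75497472) (.leaf 0)))) (.node (.node (.node (.leaf 11886592) (.leaf 164503552)) (.node (.leaf 61120512) (.leaf 0))) (.node (.node (.leaf 35053568) (.leaf 0)) (.node (.leaf 91127808) (.leaf 0))))) (.node (.node (.node (.node (.leaf 15867904) (.leaf 148340745)) (.node (.leaf 54263808) (.leaf 0))) (.node (.node (.leaf 63856640) (.leaf 0)) (.node (.leaf 123920419) (.leaf 0)))) (.node (.node (.node (.leaf 17539072) (.leaf 145440768)) (.node (.leaf 122055590) (.leaf 0))) (.node (.node (.leaf 43794530) (.leaf 0)) (.node (.leaf 99598336) (.leaf 0)))))) (.node (.node (.node (.node (.node (.leaf 3776512) (.leaf 158416896)) (.node (.leaf 50946048) (.leaf 0))) (.node (.node (.leaf 58138624) (.leaf 0)) (.node (.leaf 79200256) (.leaf 0)))) (.node (.node (.node (.leaf 34660352) (.leaf 137338880)) (.node (.leaf 117989376) (.leaf 0))) (.node (.node (.leaf 79888384) (.leaf 0)) (.node (.leaf 147685376) (.leaf 0))))) (.node (.node (.node (.node (.leaf 9216000) (.leaf 124534784)) (.node (.leaf 100363728) (.leaf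 0))) (.node (.node (.leaf 32047104) (.leaf 0)) (.node (.leaf 141205504) (.leaf 0)))) (.node (.node (.node (.leaf 20357120) (.leaf 161126746)) (.node (.leaf 71819264) (.leaf 0))) (.node (.node (.leaf 90021888) (.leaf 0)) (.node (.leaf 133829222) (.leaf 0))))))) (.node (.node (.node (.node (.node (.node (.leaf 6135808) (.leaf 141497001)) (.node (.leaf 49291264) (.leaf 0))) (.node (.node (.leaf 55279616) (.leaf 0)) (.node (.leaf 132210688) (.leaf 0)))) (.node (.node (.node (.leaf 13246464) (.leaf 161956749)) (.node (.leaf 62857216) (.leaf 0))) (.node (.node (.leaf 77209600) (.leaf 0)) (.node (.leaf 93208576) (.leaf 0))))) (.node (.node (.node (.node (.leaf 7831552) (.leaf 121774080)) (.node (.leaf 106881024) (.leaf 0))) (.node (.node (.leaf 66633728) (.leaf 0)) (.node (.leaf 139362304) (.leaf 0)))) (.node (.node (.node (.leaf 43655168) (.leaf 149938176)) (.node (.leaf 124223488) (.leaf 0))) (.node (.node (.leaf 87465984) (.leaf 0)) (.node (.leaf 101875712) (.leaf 0)))))) (.node (.node (.node (.node (.node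 (.leaf 12623872) (.leaf 116342784)) (.node (.leaf 78914731) (.leaf 0))) (.node (.node (.leaf 61087744) (.leaf 0)) (.node (.leaf 81010688) (.leaf 0)))) (.node (.node (.node (.leaf 16080896) (.leaf 141320192)) (.node (.leaf 119947264) (.leaf 0))) (.node (.node (.leaf 82477056) (.leaf 0)) (.node (.leaf 149274624) (.leaf 0))))) (.node (.node (.node (.node (.leaf 25395200) (.leaf 146895891)) (.node (.leaf 111386624) (.leaf 0))) (.node (.node (.leaf 71909376) (.leaf 0)) (.node (.leaf 142950400) (.leaf 0)))) (.node (.node (.node (.leaf 21766144) (.leaf 167687036)) (.node (.leaf 128335872) (.leaf 0))) (.node (.node (.leaf 89031013) (.leaf 0)) (.node (.leaf 106586112) (.leaf 0))))))))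

def e1T91 : NT := .node (.node (.node (.node (.node (.node (.node (.node (.leaf 1196032) (.leaf 149242420)) (.node (.leaf 93790208) (.leaf 0))) (.node (.node (.leaf 51044352) (.leaf 0)) (.node (.leaf 129269760) (.leaf 0)))) (.node (.node (.node (.leaf 26927104) (.leaf 135510090)) (.node (.leaf 100666952) (.leaf 0))) (.node (.node (.leaf 34316288) (.leaf 0)) (.node (.leaf 137358952) (.leaf 0))))) (.node (.node (.node (.node (.leaf 14237696) (.leaf 156424329)) (.node (.leaf 65906762) (.leaf 0))) (.node (.node (.leaf 28368896) (.leaf 0)) (.node (.leaf 136675328) (.leaf 0)))) (.node (.node (.node (.leaf 39198720) (.leaf 153386026)) (.node (.leaf 67239936) (.leaf 0))) (.node (.node (.leaf 57595184) (.leaf 0)) (.node (.leaf 114612370) (.leaf 0)))))) (.node (.node (.node (.node (.node (.leaf 7806976) (.leaf 143986285)) (.node (.leaf 50143232) (.leaf 0))) (.node (.node (.leaf 56631296) (.leaf 0)) (.node (.leaf 133079040) (.leaf 0)))) (.node (.node (.node (.leaf 33169408) (.leaf 135536640)) (.node (.leaf 116883456)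 (.leaf 0))) (.node (.node (.leaf 56828612) (.leaf 0)) (.node (.leaf 135098509) (.leaf 0))))) (.node (.node (.node (.node (.leaf 20774912) (.leaf 152816917)) (.node (.leaf 108060672) (.leaf 0))) (.node (.node (.leaf 52670764) (.leaf 0)) (.node (.leaf 86081536) (.leaf 0)))) (.node (.node (.node (.leaf 45187072) (.leaf 152494080)) (.node (.leaf 88025043) (.leaf 0))) (.node (.node (.leaf 43573248) (.leaf 0)) (.node (.leaf 152846336) (.leaf 0))))))) (.node (.node (.node (.node (.node (.node (.leaf 4513792) (.leaf 110206976)) (.node (.leaf 96174080) (.leaf 0))) (.node (.node (.leaf 23920640) (.leaf 0)) (.node (.leaf 76546048) (.leaf 0)))) (.node (.node (.node (.leaf 30031872) (.leaf 159070687)) (.node (.leaf 62038016) (.leaf 0))) (.node (.node (.leaf 35831808) (.leaf 0)) (.node (.leaf 145219584) (.leaf 0))))) (.node (.node (.node (.node (.leaf 7159808) (.leaf 120545280)) (.node (.leaf 105652224) (.leaf 0))) (.node (.node (.leaf 29818880) (.leaf 0)) (.node (.leaf 138436608) (.leaf 0)))) (.node (.node (.node (.leaf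 42164224) (.leaf 147587072)) (.node (.leaf 69058560) (.leaf 0))) (.node (.node (.leaf 86204416) (.leaf 0)) (.node (.leaf 151519232) (.leaf 0)))))) (.node (.node (.node (.node (.node (.leaf 11042816) (.leaf 158789963)) (.node (.leaf 51781632) (.leaf 0))) (.node (.node (.leaf 59604992) (.leaf 0)) (.node (.leaf 129904814) (.leaf 0)))) (.node (.node (.node (.leaf 36249600) (.leaf 139386880)) (.node (.leaf 65495040) (.leaf 0))) (.node (.node (.leaf 39018496) (.leaf 0)) (.node (.leaf 148537344) (.leaf 0))))) (.node (.node (.node (.node (.leaf 23846912) (.leaf 126009344)) (.node (.leaf 110338048) (.leaf 0))) (.node (.node (.leaf 59734253) (.leaf 0)) (.node (.leaf 92214544) (.leaf 0)))) (.node (.node (.node (.leaf 48152576) (.leaf 158754693)) (.node (.leaf 72687616) (.leaf 0))) (.node (.node (.leaf 45162496) (.leaf 0)) (.node (.leaf 127250691) (.leaf 0)))))))) (.node (.node (.node (.node (.node (.node (.node (.leaf 2867200) (.leaf 108961792)) (.node (.leaf 47579136) (.leaf 0))) (.node (.node (.leaf 43879670) (.leaf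 0)) (.node (.leaf 97824746) (.leaf 0)))) (.node (.node (.node (.leaf 11894784) (.leaf 134852280)) (.node (.leaf 81836158) (.leaf 0))) (.node (.node (.leaf 74588160) (.leaf 0)) (.node (.leaf 91152384) (.leaf 0))))) (.node (.node (.node (.node (.leaf 15876096) (.leaf 119128064)) (.node (.leaf 104357888) (.leaf 0))) (.node (.node (.leaf 63873024) (.leaf 0)) (.node (.leaf 109106480) (.leaf 0)))) (.node (.node (.node (.leaf 40706048) (.leaf 145465344)) (.node (.leaf 68083712) (.leaf 0))) (.node (.node (.leaf 54708345) (.leaf 0)) (.node (.leaf 150806528) (.leaf 0)))))) (.node (.node (.node (.node (.node (.leaf 9437184) (.leaf 113803264)) (.node (.leaf 99737600) (.leaf 0))) (.node (.node (.leaf 26157056) (.leaf 0)) (.node (.leaf 133955584) (.leaf 0)))) (.node (.node (.node (.leaf 34676736) (.leaf 160201718)) (.node (.leaf 118005760) (.leaf 0))) (.node (.node (.leaf 38248448) (.leaf 0)) (.node (.leaf 147693568) (.leaf 0))))) (.node (.node (.node (.node (.leaf 22274048) (.leaf 125832021)) (.node (.leaf 57655296)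 (.leaf 0))) (.node (.node (.leaf 69328896) (.leaf 0)) (.node (.leaf 108045082) (.leaf 0)))) (.node (.node (.node (.leaf 46702592) (.leaf 166537790)) (.node (.leaf 126312448) (.leaf 0))) (.node (.node (.leaf 90038272) (.leaf 0)) (.node (.leaf 129082436) (.leaf 0))))))) (.node (.node (.node (.node (.node (.node (.leaf 6152192) (.leaf 157409280)) (.node (.leaf 97353728) (.leaf 0))) (.node (.node (.leaf 24633344) (.leaf 0)) (.node (.leaf 101125857) (.leaf 0)))) (.node (.node (.node (.leaf 31629312) (.leaf 133939200)) (.node (.leaf 115826688) (.leaf 0))) (.node (.node (.leaf 36626432) (.leaf 0)) (.node (.leaf 93224960) (.leaf 0))))) (.node (.node (.node (.node (.leaf 19169280) (.leaf 136021787)) (.node (.leaf 55967744) (.leaf 0))) (.node (.node (.leaf 52851876) (.leaf 0)) (.node (.leaf 139370496) (.leaf 0)))) (.node (.node (.node (.leaf 43671552) (.leaf 149954560)) (.node (.leaf 75736496) (.leaf 0))) (.node (.node (.leaf 48359124) (.leaf 0)) (.node (.leaf 121636655) (.leaf 0)))))) (.node (.node (.node (.node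 (.node (.leaf 5120000) (.leaf 116367360)) (.node (.leaf 52600832) (.leaf 0))) (.node (.node (.leaf 27598848) (.leaf 0)) (.node (.leaf 135823360) (.leaf 0)))) (.node (.node (.node (.leaf 37765120) (.leaf 141344768)) (.node (.leaf 66404352) (.leaf 0))) (.node (.node (.leaf 82493440) (.leaf 0)) (.node (.leaf 97452032) (.leaf 0))))) (.node (.node (.node (.node (.leaf 10551296) (.leaf 149736223)) (.node (.leaf 59293696) (.leaf 0))) (.node (.node (.leaf 71925760) (.leaf 0)) (.node (.leaf 89079808) (.leaf 0)))) (.node (.node (.node (.leaf 49618944) (.leaf 162308096)) (.node (.leaf 81479574) (.leaf 0))) (.node (.node (.leaf 65528146) (.leaf 0)) (.node (.leaf 106594304) (.leaf 0))))))))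

def e1T92 : NT := .node (.node (.node (.node (.node (.node (.node (.node (.leaf 466944) (.leaf 107782144)) (.node (.leaf 93806592) (.leaf 0))) (.node (.node (.leaf 51060736) (.leaf 0)) (.node (.leaf 129277952) (.leaf 0)))) (.node (.node (.node (.leaf 11223040) (.leaf 129007616)) (.node (.leaf 60194816) (.leaf 0))) (.node (.node (.leaf 73261056) (.leaf 0)) (.node (.leaf 90087424) (.leaf 0))))) (.node (.node (.node (.node (.leaf 5799936) (.leaf 160104448)) (.node (.leaf 53411840) (.leaf 0))) (.node (.node (.leaf 62496768) (.leaf 0)) (.node (.leaf 120751292) (.leaf 0)))) (.node (.node (.node (.leaf 39215104) (.leaf 143417344)) (.node (.leaf 96886899) (.leaf 0))) (.node (.node (.leaf 40493056) (.leaf 0)) (.node (.leaf 150028288) (.leaf 0)))))) (.node (.node (.node (.node (.node (.leaf 3112960) (.leaf 157933568)) (.node (.leaf 98525184) (.leaf 0))) (.node (.node (.leaf 25403392) (.leaf 0)) (.node (.leaf 78299136) (.leaf 0)))) (.node (.node (.node (.leaf 33185792) (.leaf 163710236)) (.node (.leaf 63700992)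 (.leaf 0))) (.node (.node (.leaf 37437440) (.leaf 0)) (.node (.leaf 94298112) (.leaf 0))))) (.node (.node (.node (.node (.leaf 8536064) (.leaf 134252713)) (.node (.leaf 95660832) (.leaf 0))) (.node (.node (.leaf 31285248) (.leaf 0)) (.node (.leaf 86106112) (.leaf 0)))) (.node (.node (.node (.leaf 19677184) (.leaf 152502272)) (.node (.leaf 88999115) (.leaf 0))) (.node (.node (.leaf 88784896) (.leaf 0)) (.node (.leaf 134525199) (.leaf 0))))))) (.node (.node (.node (.node (.node (.node (.leaf 1777664) (.leaf 122085924)) (.node (.leaf 96190464) (.leaf 0))) (.node (.node (.leaf 53903360) (.leaf 0)) (.node (.leaf 131268608) (.leaf 0)))) (.node (.node (.node (.leaf 12582912) (.leaf 132235264)) (.node (.leaf 85494632) (.leaf 0))) (.node (.node (.leaf 35840000) (.leaf 0)) (.node (.leaf 140192082) (.leaf 0))))) (.node (.node (.node (.node (.leaf 17555456) (.leaf 160183415)) (.node (.leaf 55107584) (.leaf 0))) (.node (.node (.leaf 65241088) (.leaf 0)) (.node (.leaf 88666300) (.leaf 0)))) (.node (.node (.node (.leaf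 18251776) (.leaf 147595264)) (.node (.leaf 123273216) (.leaf 0))) (.node (.node (.leaf 49084462) (.leaf 0)) (.node (.leaf 136886282) (.leaf 0)))))) (.node (.node (.node (.node (.node (.leaf 4464640) (.leaf 115105792)) (.node (.leaf 97209051) (.leaf 0))) (.node (.node (.leaf 26894336) (.leaf 0)) (.node (.leaf 134914048) (.leaf 0)))) (.node (.node (.node (.leaf 15409152) (.leaf 151962918)) (.node (.leaf 119046144) (.leaf 0))) (.node (.node (.leaf 81158144) (.leaf 0)) (.node (.leaf 103641566) (.leaf 0))))) (.node (.node (.node (.node (.leaf 23863296) (.leaf 163119104)) (.node (.leaf 110354432) (.leaf 0))) (.node (.node (.leaf 32800768) (.leaf 0)) (.node (.leaf 142114816) (.leaf 0)))) (.node (.node (.node (.leaf 21069824) (.leaf 158015488)) (.node (.leaf 110964003) (.leaf 0))) (.node (.node (.leaf 91242496) (.leaf 0)) (.node (.leaf 105381888) (.leaf 0)))))))) (.node (.node (.node (.node (.node (.node (.node (.leaf 1122304) (.leaf 146500447)) (.node (.leaf 94937088) (.leaf 0))) (.node (.node (.leaf 52518912)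 (.leaf 0)) (.node (.leaf 106841988) (.leaf 0)))) (.node (.node (.node (.leaf 28483584) (.leaf 134865026)) (.node (.leaf 88344926) (.leaf 0))) (.node (.node (.leaf 35069952) (.leaf 0)) (.node (.leaf 119243723) (.leaf 0))))) (.node (.node (.node (.node (.leaf 6479872) (.leaf 119136256)) (.node (.leaf 54280192) (.leaf 0))) (.node (.node (.leaf 29106176) (.leaf 0)) (.node (.leaf 83042304) (.leaf 0)))) (.node (.node (.node (.leaf 17547264) (.leaf 162077104)) (.node (.leaf 76014116) (.leaf 0))) (.node (.node (.leaf 41222144) (.leaf 0)) (.node (.leaf 99606528) (.leaf 0)))))) (.node (.node (.node (.node (.node (.leaf 3784704) (.leaf 157610945)) (.node (.leaf 50962432) (.leaf 0))) (.node (.node (.leaf 58163200) (.leaf 0)) (.node (.leaf 123822099) (.leaf 0)))) (.node (.node (.node (.leaf 14704640) (.leaf 166051840)) (.node (.leaf 118013952) (.leaf 0))) (.node (.node (.leaf 79912960) (.leaf 0)) (.node (.leaf 95322112) (.leaf 0))))) (.node (.node (.node (.node (.leaf 22290432) (.leaf 162413007)) (.node (.leaf 91990703)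 (.leaf 0))) (.node (.node (.leaf 32055296) (.leaf 0)) (.node (.leaf 87097344) (.leaf 0)))) (.node (.node (.node (.leaf 20365312) (.leaf 167523710)) (.node (.leaf 105113790) (.leaf 0))) (.node (.node (.leaf 44408832) (.leaf 0)) (.node (.leaf 104128512) (.leaf 0))))))) (.node (.node (.node (.node (.node (.node (.leaf 2449408) (.leaf 157425664)) (.node (.leaf 49299456) (.leaf 0))) (.node (.node (.leaf 55296000) (.leaf 0)) (.node (.leaf 77479936) (.leaf 0)))) (.node (.node (.node (.leaf 13262848) (.leaf 155645602)) (.node (.leaf 62865408) (.leaf 0))) (.node (.node (.leaf 77234176) (.leaf 0)) (.node (.leaf 146120704) (.leaf 0))))) (.node (.node (.node (.node (.leaf 19177472) (.leaf 160557219)) (.node (.leaf 55975936) (.leaf 0))) (.node (.node (.leaf 66658304) (.leaf 0)) (.node (.leaf 85073920) (.leaf 0)))) (.node (.node (.node (.leaf 18956288) (.leaf 160435311)) (.node (.leaf 69951488) (.leaf 0))) (.node (.node (.leaf 42795008) (.leaf 0)) (.node (.leaf 136546479) (.leaf 0)))))) (.node (.node (.node (.node (.node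 (.leaf 12648448) (.leaf 144322768)) (.node (.leaf 102096896) (.leaf 0))) (.node (.node (.leaf 61112320) (.leaf 0)) (.node (.leaf 81018880) (.leaf 0)))) (.node (.node (.node (.leaf 16097280) (.leaf 144379665)) (.node (.leaf 88641880) (.leaf 0))) (.node (.node (.leaf 39739392) (.leaf 0)) (.node (.leaf 149291008) (.leaf 0))))) (.node (.node (.node (.node (.leaf 25419776) (.leaf 148123590)) (.node (.leaf 111403008) (.leaf 0))) (.node (.node (.leaf 33562624) (.leaf 0)) (.node (.leaf 89088000) (.leaf 0)))) (.node (.node (.node (.leaf 49635328) (.leaf 162316288)) (.node (.leaf 73670656) (.leaf 0))) (.node (.node (.leaf 45957120) (.leaf 0)) (.node (.leaf 106618880) (.leaf 0))))))))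

def e1T93 : NT := .node (.node (.node (.node (.node (.node (.node (.node (.leaf 1220608) (.leaf 107806720)) (.node (.leaf 46743552) (.leaf 0))) (.node (.node (.leaf 51077120) (.leaf 0)) (.node (.leaf 74555392) (.leaf 0)))) (.node (.node (.node (.leaf 26951680) (.leaf 134548348)) (.node (.leaf 112484352) (.leaf 0))) (.node (.node (.leaf 73277440) (.leaf 0)) (.node (.leaf 143679488) (.leaf 0))))) (.node (.node (.node (.node (.leaf 14262272) (.leaf 160112640)) (.node (.leaf 103202816) (.leaf 0))) (.node (.node (.leaf 28385280) (.leaf 0)) (.node (.leaf 82075648) (.leaf 0)))) (.node (.node (.node (.leaf 16842752) (.leaf 163079533)) (.node (.leaf 121151488) (.leaf 0))) (.node (.node (.leaf 83787776) (.leaf 0)) (.node (.leaf 98533376) (.leaf 0)))))) (.node (.node (.node (.node (.node (.leaf 3121152) (.leaf 130223706)) (.node (.leaf 50151424) (.leaf 0))) (.node (.node (.leaf 49448529) (.leaf 0)) (.node (.leaf 133103616) (.leaf 0)))) (.node (.node (.node (.leaf 33202176) (.leaf 135544832)) (.node (.leaf 116908032)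 (.leaf 0))) (.node (.node (.leaf 76409897) (.leaf 0)) (.node (.leaf 94306304) (.leaf 0))))) (.node (.node (.node (.node (.leaf 20799488) (.leaf 123207680)) (.node (.leaf 108085248) (.leaf 0))) (.node (.node (.leaf 64777722) (.leaf 0)) (.node (.leaf 140394496) (.leaf 0)))) (.node (.node (.node (.leaf 45211648) (.leaf 158323879)) (.node (.leaf 125304832) (.leaf 0))) (.node (.node (.leaf 88801280) (.leaf 0)) (.node (.leaf 103096320) (.leaf 0))))))) (.node (.node (.node (.node (.node (.node (.leaf 4538368) (.leaf 110223360)) (.node (.leaf 48463872) (.leaf 0))) (.node (.node (.leaf 53919744) (.leaf 0)) (.node (.leaf 76562432) (.leaf 0)))) (.node (.node (.node (.leaf 30056448) (.leaf 133703356)) (.node (.leaf 114728960) (.leaf 0))) (.node (.node (.leaf 67623897) (.leaf 0)) (.node (.leaf 92307456) (.leaf 0))))) (.node (.node (.node (.node (.leaf 17571840) (.leaf 161177600)) (.node (.leaf 60545449) (.leaf 0))) (.node (.node (.leaf 29835264) (.leaf 0)) (.node (.leaf 84066304) (.leaf 0)))) (.node (.node (.node (.leaf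 42188800) (.leaf 167436288)) (.node (.leaf 69066752) (.leaf 0))) (.node (.node (.leaf 58707922) (.leaf 0)) (.node (.leaf 100696064) (.leaf 0)))))) (.node (.node (.node (.node (.node (.leaf 11067392) (.leaf 159047680)) (.node (.leaf 51789824) (.leaf 0))) (.node (.node (.leaf 59629568) (.leaf 0)) (.node (.leaf 80158720) (.leaf 0)))) (.node (.node (.node (.leaf 36274176) (.leaf 151807719)) (.node (.leaf 119062528) (.leaf 0))) (.node (.node (.leaf 39026688) (.leaf 0)) (.node (.leaf 96419840) (.leaf 0))))) (.node (.node (.node (.node (.leaf 9904128) (.leaf 163127296)) (.node (.leaf 110370816) (.leaf 0))) (.node (.node (.leaf 70615040) (.leaf 0)) (.node (.leaf 95941380) (.leaf 0)))) (.node (.node (.node (.leaf 48168960) (.leaf 158056448)) (.node (.leaf 85580740) (.leaf 0))) (.node (.node (.leaf 45178880) (.leaf 0)) (.node (.leaf 153311866) (.leaf 0)))))))) (.node (.node (.node (.node (.node (.node (.node (.leaf 2891776) (.leaf 156196864)) (.node (.leaf 47587328) (.leaf 0))) (.node (.node (.leaf 23240704) (.leaf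 0)) (.node (.leaf 75538432) (.leaf 0)))) (.node (.node (.node (.leaf 28499968) (.leaf 130695168)) (.node (.leaf 61136896) (.leaf 0))) (.node (.node (.leaf 74612736) (.leaf 0)) (.node (.leaf 91160576) (.leaf 0))))) (.node (.node (.node (.node (.leaf 15900672) (.leaf 160718848)) (.node (.leaf 104374272) (.leaf 0))) (.node (.node (.leaf 63897600) (.leaf 0)) (.node (.leaf 100787889) (.leaf 0)))) (.node (.node (.node (.leaf 40730624) (.leaf 145498112)) (.node (.leaf 68091904) (.leaf 0))) (.node (.node (.leaf 45290983) (.leaf 0)) (.node (.leaf 150822912) (.leaf 0)))))) (.node (.node (.node (.node (.node (.leaf 3801088) (.leaf 158441472)) (.node (.leaf 99745792) (.leaf 0))) (.node (.node (.leaf 26165248) (.leaf 0)) (.node (.leaf 79224832) (.leaf 0)))) (.node (.node (.node (.leaf 18818257) (.leaf 137396224)) (.node (.leaf 64593920) (.leaf 0))) (.node (.node (.leaf 68442828) (.leaf 0)) (.node (.leaf 131277836) (.leaf 0))))) (.node (.node (.node (.node (.leaf 9232384) (.leaf 160094566)) (.node (.leaf 109223936)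 (.leaf 0))) (.node (.node (.leaf 69345280) (.leaf 0)) (.node (.leaf 102224790) (.leaf 0)))) (.node (.node (.node (.leaf 46718976) (.leaf 154943488)) (.node (.leaf 71843840) (.leaf 0))) (.node (.node (.leaf 44417024) (.leaf 0)) (.node (.leaf 139964515) (.leaf 0))))))) (.node (.node (.node (.node (.node (.node (.leaf 6176768) (.leaf 111534080)) (.node (.leaf 69573044) (.leaf 0))) (.node (.node (.leaf 24641536) (.leaf 0)) (.node (.leaf 104969782) (.leaf 0)))) (.node (.node (.node (.leaf 31653888) (.leaf 148689098)) (.node (.leaf 62881792) (.leaf 0))) (.node (.node (.leaf 40340627) (.leaf 0)) (.node (.leaf 136507012) (.leaf 0))))) (.node (.node (.node (.node (.leaf 19193856) (.leaf 133102444)) (.node (.leaf 82863074) (.leaf 0))) (.node (.node (.leaf 30580736) (.leaf 0)) (.node (.leaf 126625998) (.leaf 0)))) (.node (.node (.node (.leaf 43696128) (.leaf 149979136)) (.node (.leaf 124256256) (.leaf 0))) (.node (.node (.leaf 87498752) (.leaf 0)) (.node (.leaf 152231936) (.leaf 0)))))) (.node (.node (.node (.node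 (.node (.leaf 12664832) (.leaf 116383744)) (.node (.leaf 52617216) (.leaf 0))) (.node (.node (.leaf 27607040) (.leaf 0)) (.node (.leaf 117946182) (.leaf 0)))) (.node (.node (.node (.leaf 37781504) (.leaf 163299866)) (.node (.leaf 81496169) (.leaf 0))) (.node (.node (.leaf 82518016) (.leaf 0)) (.node (.leaf 97460224) (.leaf 0))))) (.node (.node (.node (.node (.leaf 10567680) (.leaf 127492096)) (.node (.leaf 111419392) (.leaf 0))) (.node (.node (.leaf 71942144) (.leaf 0)) (.node (.leaf 109249621) (.leaf 0)))) (.node (.node (.node (.leaf 21782528) (.leaf 163846890)) (.node (.leaf 87157999) (.leaf 0))) (.node (.node (.leaf 92446720) (.leaf 0)) (.node (.leaf 154869760) (.leaf 0))))))))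

def e1T94 : NT := .node (.node (.node (.node (.node (.node (.node (.node (.leaf 1236992) (.leaf 113912572)) (.node (.leaf 93822976) (.leaf 0))) (.node (.node (.leaf 22519808) (.leaf 0)) (.node (.leaf 129294336) (.leaf 0)))) (.node (.node (.node (.leaf 26968064) (.leaf 163971072)) (.node (.leaf 60203008) (.leaf 0))) (.node (.node (.leaf 73293824) (.leaf 0)) (.node (.leaf 90095616) (.leaf 0))))) (.node (.node (.node (.node (.leaf 14278656) (.leaf 117850112)) (.node (.leaf 103219200) (.leaf 0))) (.node (.node (.leaf 62521344) (.leaf 0)) (.node (.leaf 82083840) (.leaf 0)))) (.node (.node (.node (.leaf 39239680) (.leaf 151736698)) (.node (.leaf 98845856) (.leaf 0))) (.node (.node (.leaf 40501248) (.leaf 0)) (.node (.leaf 150036480) (.leaf 0)))))) (.node (.node (.node (.node (.node (.leaf 7839744) (.leaf 157941760)) (.node (.leaf 74220945) (.leaf 0))) (.node (.node (.leaf 25411584) (.leaf 0)) (.node (.leaf 86261783) (.leaf 0)))) (.node (.node (.node (.leaf 14008320) (.leaf 165691392)) (.node (.leaf 63717376)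 (.leaf 0))) (.node (.node (.leaf 37453824) (.leaf 0)) (.node (.leaf 146989056) (.leaf 0))))) (.node (.node (.node (.node (.leaf 20815872) (.leaf 162217984)) (.node (.leaf 56852480) (.leaf 0))) (.node (.node (.leaf 31293440) (.leaf 0)) (.node (.leaf 123334416) (.leaf 0)))) (.node (.node (.node (.leaf 45228032) (.leaf 160642409)) (.node (.leaf 125313024) (.leaf 0))) (.node (.node (.leaf 43589632) (.leaf 0)) (.node (.leaf 103104512) (.leaf 0))))))) (.node (.node (.node (.node (.node (.node (.leaf 1794048) (.leaf 156827648)) (.node (.leaf 96215040) (.leaf 0))) (.node (.node (.leaf 23937024) (.leaf 0)) (.node (.leaf 131284992) (.leaf 0)))) (.node (.node (.node (.leaf 12591104) (.leaf 141449685)) (.node (.leaf 62054400) (.leaf 0))) (.node (.node (.leaf 74006528) (.leaf 0)) (.node (.leaf 92323840) (.leaf 0))))) (.node (.node (.node (.node (.leaf 17588224) (.leaf 120569856)) (.node (.leaf 105684992) (.leaf 0))) (.node (.node (.leaf 65265664) (.leaf 0)) (.node (.leaf 84074496) (.leaf 0)))) (.node (.node (.node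 (.leaf 42205184) (.leaf 167444480)) (.node (.leaf 123289600) (.leaf 0))) (.node (.node (.leaf 42033152) (.leaf 0)) (.node (.leaf 100720640) (.leaf 0)))))) (.node (.node (.node (.node (.node (.leaf 11083776) (.leaf 133222604)) (.node (.leaf 100982784) (.leaf 0))) (.node (.node (.leaf 59637760) (.leaf 0)) (.node (.leaf 118588679) (.leaf 0)))) (.node (.node (.node (.leaf 36290560) (.leaf 166436864)) (.node (.leaf 95909415) (.leaf 0))) (.node (.node (.leaf 81174528) (.leaf 0)) (.node (.leaf 120777863) (.leaf 0))))) (.node (.node (.node (.node (.leaf 23887872) (.leaf 137245549)) (.node (.leaf 110379008) (.leaf 0))) (.node (.node (.leaf 32808960) (.leaf 0)) (.node (.leaf 142131200) (.leaf 0)))) (.node (.node (.node (.leaf 48185344) (.leaf 163424147)) (.node (.leaf 127385600) (.leaf 0))) (.node (.node (.leaf 91258880) (.leaf 0)) (.node (.leaf 128290657) (.leaf 0)))))))) (.node (.node (.node (.node (.node (.node (.node (.leaf 2908160) (.leaf 108986368)) (.node (.leaf 94961664) (.leaf 0))) (.node (.node (.leaf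 52535296) (.leaf 0)) (.node (.leaf 75554816) (.leaf 0)))) (.node (.node (.node (.leaf 11911168) (.leaf 147548816)) (.node (.leaf 113631232) (.leaf 0))) (.node (.node (.leaf 74620928) (.leaf 0)) (.node (.leaf 91168768) (.leaf 0))))) (.node (.node (.node (.node (.leaf 15917056) (.leaf 160735232)) (.node (.leaf 104390656) (.leaf 0))) (.node (.node (.leaf 29114368) (.leaf 0)) (.node (.leaf 137568256) (.leaf 0)))) (.node (.node (.node (.leaf 40738816) (.leaf 153333560)) (.node (.leaf 122183680) (.leaf 0))) (.node (.node (.leaf 78363629) (.leaf 0)) (.node (.leaf 99614720) (.leaf 0)))))) (.node (.node (.node (.node (.node (.leaf 9469952) (.leaf 158449664)) (.node (.leaf 50978816) (.leaf 0))) (.node (.node (.leaf 58187776) (.leaf 0)) (.node (.leaf 93939277) (.leaf 0)))) (.node (.node (.node (.leaf 34709504) (.leaf 166060032)) (.node (.leaf 118038528) (.leaf 0))) (.node (.node (.leaf 38264832) (.leaf 0)) (.node (.leaf 147709952) (.leaf 0))))) (.node (.node (.node (.node (.leaf 22315008) (.leaf 124592128)) (.node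 (.leaf 57671680) (.leaf 0))) (.node (.node (.leaf 32063488) (.leaf 0)) (.node (.leaf 141230080) (.leaf 0)))) (.node (.node (.node (.leaf 46735360) (.leaf 159263683)) (.node (.leaf 126328832) (.leaf 0))) (.node (.node (.leaf 44433408) (.leaf 0)) (.node (.leaf 119346134) (.leaf 0))))))) (.node (.node (.node (.node (.node (.node (.leaf 2457600) (.leaf 129923543)) (.node (.leaf 51275147) (.leaf 0))) (.node (.node (.leaf 55320576) (.leaf 0)) (.node (.leaf 77496320) (.leaf 0)))) (.node (.node (.node (.leaf 13271040) (.leaf 152078540)) (.node (.leaf 62889984) (.leaf 0))) (.node (.node (.leaf 36642816) (.leaf 0)) (.node (.leaf 93241344) (.leaf 0))))) (.node (.node (.node (.node (.leaf 19210240) (.leaf 157577519)) (.node (.leaf 55984128) (.leaf 0))) (.node (.node (.leaf 66674688) (.leaf 0)) (.node (.leaf 120111522) (.leaf 0)))) (.node (.node (.node (.leaf 18972672) (.leaf 159100715)) (.node (.leaf 69959680) (.leaf 0))) (.node (.node (.leaf 56707388) (.leaf 0)) (.node (.leaf 149312497) (.leaf 0)))))) (.node (.node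 (.node (.node (.node (.leaf 5136384) (.leaf 116400128)) (.node (.leaf 52625408) (.leaf 0))) (.node (.node (.leaf 27623424) (.leaf 0)) (.node (.leaf 135847936) (.leaf 0)))) (.node (.node (.node (.leaf 16105472) (.leaf 141377536)) (.node (.leaf 86413492) (.leaf 0))) (.node (.node (.leaf 39755776) (.leaf 0)) (.node (.leaf 149315584) (.leaf 0))))) (.node (.node (.node (.node (.leaf 25444352) (.leaf 127500288)) (.node (.leaf 59310080) (.leaf 0))) (.node (.node (.leaf 71958528) (.leaf 0)) (.node (.leaf 89096192) (.leaf 0)))) (.node (.node (.node (.leaf 49659904) (.leaf 162414592)) (.node (.leaf 73678848) (.leaf 0))) (.node (.node (.leaf 45965312) (.leaf 0)) (.node (.leaf 154886144) (.leaf 0))))))))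

def e1T95 : NT := .node (.node (.node (.node (.node (.node (.node (.node (.leaf 483328) (.leaf 155607040)) (.node (.leaf 46751744) (.leaf 0))) (.node (.node (.leaf 38807449) (.leaf 0)) (.node (.leaf 129302528) (.leaf 0)))) (.node (.node (.node (.leaf 11239424) (.leaf 163979264)) (.node (.leaf 112500736) (.leaf 0))) (.node (.node (.leaf 34349056) (.leaf 0)) (.node (.leaf 143198381) (.leaf 0))))) (.node (.node (.node (.node (.leaf 5816320) (.leaf 141715085)) (.node (.leaf 53428224) (.leaf 0))) (.node (.node (.leaf 35517977) (.leaf 0)) (.node (.leaf 132466277) (.leaf 0)))) (.node (.node (.node (.leaf 39256064) (.leaf 146712832)) (.node (.leaf 67272704) (.leaf 0))) (.node (.node (.leaf 83812352) (.leaf 0)) (.node (.leaf 126610668) (.leaf 0)))))) (.node (.node (.node (.node (.node (.leaf 7856128) (.leaf 112746496)) (.node (.leaf 50159616) (.leaf 0))) (.node (.node (.leaf 56664064) (.leaf 0)) (.node (.leaf 133128192) (.leaf 0)))) (.node (.node (.node (.leaf 33226752) (.leaf 161564107)) (.node (.leaf 69111824)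 (.leaf 0))) (.node (.node (.leaf 41165117) (.leaf 0)) (.node (.leaf 94330880) (.leaf 0))))) (.node (.node (.node (.node (.leaf 8552448) (.leaf 123256832)) (.node (.leaf 91841158) (.leaf 0))) (.node (.node (.leaf 68100096) (.leaf 0)) (.node (.leaf 86122496) (.leaf 0)))) (.node (.node (.node (.leaf 19693568) (.leaf 164138006)) (.node (.leaf 70918144) (.leaf 0))) (.node (.node (.leaf 88817664) (.leaf 0)) (.node (.leaf 111100711) (.leaf 0))))))) (.node (.node (.node (.node (.node (.node (.leaf 4562944) (.leaf 143532224)) (.node (.leaf 64577830) (.leaf 0))) (.node (.node (.leaf 53936128) (.leaf 0)) (.node (.leaf 76570624) (.leaf 0)))) (.node (.node (.node (.leaf 30081024) (.leaf 153875507)) (.node (.leaf 114745344) (.leaf 0))) (.node (.node (.leaf 35856384) (.leaf 0)) (.node (.leaf 145227776) (.leaf 0))))) (.node (.node (.node (.node (.leaf 7184384) (.leaf 130862649)) (.node (.leaf 55123968) (.leaf 0))) (.node (.node (.leaf 44943346) (.leaf 0)) (.node (.leaf 138461184) (.leaf 0)))) (.node (.node (.node (.leaf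 42221568) (.leaf 163363275)) (.node (.leaf 107305328) (.leaf 0))) (.node (.node (.leaf 86245376) (.leaf 0)) (.node (.leaf 136480006) (.leaf 0)))))) (.node (.node (.node (.node (.node (.leaf 4481024) (.leaf 115146752)) (.node (.leaf 51806208) (.leaf 0))) (.node (.node (.leaf 26910720) (.leaf 0)) (.node (.leaf 80166912) (.leaf 0)))) (.node (.node (.node (.leaf 15425536) (.leaf 151638731)) (.node (.leaf 119078912) (.leaf 0))) (.node (.node (.leaf 81190912) (.leaf 0)) (.node (.leaf 96436224) (.leaf 0))))) (.node (.node (.node (.node (.leaf 23904256) (.leaf 156036609)) (.node (.leaf 58490880) (.leaf 0))) (.node (.node (.leaf 70639616) (.leaf 0)) (.node (.leaf 88088576) (.leaf 0)))) (.node (.node (.node (.leaf 21086208) (.leaf 158887723)) (.node (.leaf 127393792) (.leaf 0))) (.node (.node (.leaf 91267072) (.leaf 0)) (.node (.leaf 105406464) (.leaf 0)))))))) (.node (.node (.node (.node (.node (.node (.node (.leaf 1138688) (.leaf 155567511)) (.node (.leaf 47603712) (.leaf 0))) (.node (.node (.leaf 52551680) (.leaf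 0)) (.node (.leaf 130228224) (.leaf 0)))) (.node (.node (.node (.leaf 28524544) (.leaf 152039804)) (.node (.leaf 113639424) (.leaf 0))) (.node (.node (.leaf 74629120) (.leaf 0)) (.node (.leaf 103430405) (.leaf 0))))) (.node (.node (.node (.node (.leaf 6496256) (.leaf 150113499)) (.node (.leaf 54296576) (.leaf 0))) (.node (.node (.leaf 63922176) (.leaf 0)) (.node (.leaf 131665679) (.leaf 0)))) (.node (.node (.node (.leaf 17563648) (.leaf 145530880)) (.node (.leaf 122191872) (.leaf 0))) (.node (.node (.leaf 41246720) (.leaf 0)) (.node (.leaf 150831104) (.leaf 0)))))) (.node (.node (.node (.node (.node (.leaf 9486336) (.leaf 154047099)) (.node (.leaf 99762176) (.leaf 0))) (.node (.node (.leaf 26181632) (.leaf 0)) (.node (.leaf 133996544) (.leaf 0)))) (.node (.node (.node (.leaf 14721024) (.leaf 158830530)) (.node (.leaf 118054912) (.leaf 0))) (.node (.node (.leaf 49272741) (.leaf 0)) (.node (.leaf 147718144) (.leaf 0))))) (.node (.node (.node (.node (.leaf 22331392) (.leaf 148630366)) (.node (.leaf 109240320)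 (.leaf 0))) (.node (.node (.leaf 69369856) (.leaf 0)) (.node (.leaf 87113728) (.leaf 0)))) (.node (.node (.node (.leaf 20381696) (.leaf 154976256)) (.node (.leaf 71852032) (.leaf 0))) (.node (.node (.leaf 90071040) (.leaf 0)) (.node (.leaf 152228585) (.leaf 0))))))) (.node (.node (.node (.node (.node (.node (.leaf 6201344) (.leaf 155438696)) (.node (.leaf 49315840) (.leaf 0))) (.node (.node (.leaf 55336960) (.leaf 0)) (.node (.leaf 103401503) (.leaf 0)))) (.node (.node (.node (.leaf 31678464) (.leaf 150792089)) (.node (.leaf 115843072) (.leaf 0))) (.node (.node (.leaf 77266944) (.leaf 0)) (.node (.leaf 143593646) (.leaf 0))))) (.node (.node (.node (.node (.leaf 7864320) (.leaf 121815040)) (.node (.leaf 106913792) (.leaf 0))) (.node (.node (.leaf 30588928) (.leaf 0)) (.node (.leaf 85090304) (.leaf 0)))) (.node (.node (.node (.leaf 43720704) (.leaf 150011904)) (.node (.leaf 124280832) (.leaf 0))) (.node (.node (.leaf 42811392) (.leaf 0)) (.node (.leaf 152240128) (.leaf 0)))))) (.node (.node (.node (.node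 (.node (.leaf 12681216) (.leaf 145852187)) (.node (.leaf 102129664) (.leaf 0))) (.node (.node (.leaf 61128704) (.leaf 0)) (.node (.leaf 135856128) (.leaf 0)))) (.node (.node (.node (.leaf 37806080) (.leaf 164189068)) (.node (.leaf 66437120) (.leaf 0))) (.node (.node (.leaf 68985460) (.leaf 0)) (.node (.leaf 97468416) (.leaf 0))))) (.node (.node (.node (.node (.leaf 10575872) (.leaf 163520512)) (.node (.leaf 111435776) (.leaf 0))) (.node (.node (.leaf 33579008) (.leaf 0)) (.node (.leaf 131254726) (.leaf 0)))) (.node (.node (.node (.leaf 21790720) (.leaf 165612902)) (.node (.leaf 73695232) (.leaf 0))) (.node (.node (.leaf 92463104) (.leaf 0)) (.node (.leaf 123547785) (.leaf 0))))))))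

def e1T96 : NT := .node (.node (.node (.node (.node (.node (.node (.node (.leaf 1261568) (.leaf 107823104)) (.node (.leaf 93839360) (.leaf 0))) (.node (.node (.leaf 22528000) (.leaf 0)) (.node (.leaf 129310720) (.leaf 0)))) (.node (.node (.node (.leaf 26992640) (.leaf 137871904)) (.node (.leaf 60211200) (.leaf 0))) (.node (.node (.leaf 73302016) (.leaf 0)) (.node (.leaf 137629297) (.leaf 0))))) (.node (.node (.node (.node (.leaf 14303232) (.leaf 160120832)) (.node (.leaf 103235584) (.leaf 0))) (.node (.node (.leaf 62537728) (.leaf 0)) (.node (.leaf 136708096) (.leaf 0)))) (.node (.node (.node (.leaf 39272448) (.leaf 167059456)) (.node (.leaf 105558456) (.leaf 0))) (.node (.node (.leaf 83828736) (.leaf 0)) (.node (.leaf 98549760) (.leaf 0)))))) (.node (.node (.node (.node (.node (.leaf 3137536) (.leaf 112762880)) (.node (.leaf 98566144) (.leaf 0))) (.node (.node (.leaf 56680448) (.leaf 0)) (.node (.leaf 133136384) (.leaf 0)))) (.node (.node (.node (.leaf 14016512) (.leaf 135569408)) (.node (.leaf 63733760)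 (.leaf 0))) (.node (.node (.leaf 78569472) (.leaf 0)) (.node (.leaf 146229735) (.leaf 0))))) (.node (.node (.node (.node (.leaf 20840448) (.leaf 162226176)) (.node (.leaf 108118016) (.leaf 0))) (.node (.node (.leaf 31309824) (.leaf 0)) (.node (.leaf 140410880) (.leaf 0)))) (.node (.node (.node (.leaf 22507329) (.leaf 152592384)) (.node (.leaf 101925638) (.leaf 0))) (.node (.node (.leaf 88834048) (.leaf 0)) (.node (.leaf 103112704) (.leaf 0))))))) (.node (.node (.node (.node (.node (.node (.leaf 4579328) (.leaf 132105068)) (.node (.leaf 50681955) (.leaf 0))) (.node (.node (.leaf 23945216) (.leaf 0)) (.node (.leaf 86915392) (.leaf 0)))) (.node (.node (.node (.leaf 30097408) (.leaf 163219985)) (.node (.leaf 114753536) (.leaf 0))) (.node (.node (.leaf 35864576) (.leaf 0)) (.node (.leaf 117902597) (.leaf 0))))) (.node (.node (.node (.node (.leaf 17612800) (.leaf 120578048)) (.node (.leaf 105701376) (.leaf 0))) (.node (.node (.leaf 29851648) (.leaf 0)) (.node (.leaf 138469376) (.leaf 0)))) (.node (.node (.node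 (.leaf 18276352) (.leaf 167452672)) (.node (.leaf 69091328) (.leaf 0))) (.node (.node (.leaf 42041344) (.leaf 0)) (.node (.leaf 100728832) (.leaf 0)))))) (.node (.node (.node (.node (.node (.leaf 11108352) (.leaf 115154944)) (.node (.leaf 100999168) (.leaf 0))) (.node (.node (.leaf 59654144) (.leaf 0)) (.node (.leaf 107138363) (.leaf 0)))) (.node (.node (.node (.leaf 36306944) (.leaf 166461440)) (.node (.leaf 65536000) (.leaf 0))) (.node (.node (.leaf 39043072) (.leaf 0)) (.node (.leaf 102864868) (.leaf 0))))) (.node (.node (.node (.node (.leaf 9920512) (.leaf 163135488)) (.node (.leaf 90356666) (.leaf 0))) (.node (.node (.leaf 70656000) (.leaf 0)) (.node (.leaf 142139392) (.leaf 0)))) (.node (.node (.node (.leaf 21094400) (.leaf 158072832)) (.node (.leaf 127410176) (.leaf 0))) (.node (.node (.leaf 64450812) (.leaf 0)) (.node (.leaf 105414656) (.leaf 0)))))))) (.node (.node (.node (.node (.node (.node (.node (.leaf 2932736) (.leaf 144496165)) (.node (.leaf 56387699) (.leaf 0))) (.node (.node (.leaf 23257088)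 (.leaf 0)) (.node (.leaf 75571200) (.leaf 0)))) (.node (.node (.node (.leaf 28540928) (.leaf 164536320)) (.node (.leaf 61161472) (.leaf 0))) (.node (.node (.leaf 35094528) (.leaf 0)) (.node (.leaf 144506880) (.leaf 0))))) (.node (.node (.node (.node (.leaf 15941632) (.leaf 119169024)) (.node (.leaf 104398848) (.leaf 0))) (.node (.node (.leaf 29122560) (.leaf 0)) (.node (.leaf 83066880) (.leaf 0)))) (.node (.node (.node (.leaf 40763392) (.leaf 156496565)) (.node (.leaf 84527551) (.leaf 0))) (.node (.node (.leaf 85065728) (.leaf 0)) (.node (.leaf 119296388) (.leaf 0)))))) (.node (.node (.node (.node (.node (.leaf 3817472) (.leaf 113836032)) (.node (.leaf 50987008) (.leaf 0))) (.node (.node (.leaf 58212352) (.leaf 0)) (.node (.leaf 79241216) (.leaf 0)))) (.node (.node (.node (.leaf 34734080) (.leaf 166076416)) (.node (.leaf 86234920) (.leaf 0))) (.node (.node (.leaf 79219750) (.leaf 0)) (.node (.leaf 146842629) (.leaf 0))))) (.node (.node (.node (.node (.leaf 9248768) (.leaf 149014059)) (.node (.leaf 57679872)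 (.leaf 0))) (.node (.node (.leaf 32079872) (.leaf 0)) (.node (.leaf 87121920) (.leaf 0)))) (.node (.node (.node (.leaf 46759936) (.leaf 154992640)) (.node (.leaf 126353408) (.leaf 0))) (.node (.node (.leaf 44449792) (.leaf 0)) (.node (.leaf 153575424) (.leaf 0))))))) (.node (.node (.node (.node (.node (.node (.leaf 6217728) (.leaf 111550464)) (.node (.leaf 68843429) (.leaf 0))) (.node (.node (.leaf 24657920) (.leaf 0)) (.node (.leaf 77512704) (.leaf 0)))) (.node (.node (.node (.leaf 31694848) (.leaf 161101973)) (.node (.leaf 62906368) (.leaf 0))) (.node (.node (.leaf 77283328) (.leaf 0)) (.node (.leaf 121374562) (.leaf 0))))) (.node (.node (.node (.node (.leaf 19234816) (.leaf 161710080)) (.node (.leaf 106930176) (.leaf 0))) (.node (.node (.leaf 66699264) (.leaf 0)) (.node (.leaf 139403264) (.leaf 0)))) (.node (.node (.node (.leaf 18980864) (.leaf 167632896)) (.node (.leaf 124289024) (.leaf 0))) (.node (.node (.leaf 42819584) (.leaf 0)) (.node (.leaf 148199872) (.leaf 0)))))) (.node (.node (.node (.node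 (.node (.leaf 12697600) (.leaf 154846450)) (.node (.leaf 102146048) (.leaf 0))) (.node (.node (.leaf 51588680) (.leaf 0)) (.node (.leaf 135864320) (.leaf 0)))) (.node (.node (.node (.leaf 16121856) (.leaf 148408462)) (.node (.leaf 119988224) (.leaf 0))) (.node (.node (.leaf 39763968) (.leaf 0)) (.node (.leaf 118352613) (.leaf 0))))) (.node (.node (.node (.node (.leaf 25468928) (.leaf 162432738)) (.node (.leaf 111443968) (.leaf 0))) (.node (.node (.leaf 59327542) (.leaf 0)) (.node (.leaf 97381219) (.leaf 0)))) (.node (.node (.node (.leaf 49684480) (.leaf 167431116)) (.node (.leaf 73703424) (.leaf 0))) (.node (.node (.leaf 92479488) (.leaf 0)) (.node (.leaf 106651648) (.leaf 0))))))))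

def e1T97 : NT := .node (.node (.node (.node (.node (.node (.node (.node (.leaf 1277952) (.leaf 155623424)) (.node (.leaf 46768128) (.leaf 0))) (.node (.node (.leaf 51109888) (.leaf 0)) (.node (.leaf 129318912) (.leaf 0)))) (.node (.node (.node (.leaf 11247616) (.leaf 154446938)) (.node (.leaf 112517120) (.leaf 0))) (.node (.node (.leaf 34357248) (.leaf 0)) (.node (.leaf 143712256) (.leaf 0))))) (.node (.node (.node (.node (.leaf 5824512) (.leaf 158279743)) (.node (.leaf 53436416) (.leaf 0))) (.node (.node (.leaf 28409856) (.leaf 0)) (.node (.leaf 134928605) (.leaf 0)))) (.node (.node (.node (.leaf 16867328) (.leaf 145461001)) (.node (.leaf 67280896) (.leaf 0))) (.node (.node (.leaf 40517632) (.leaf 0)) (.node (.leaf 112963155) (.leaf 0)))))) (.node (.node (.node (.node (.node (.leaf 7880704) (.leaf 155766469)) (.node (.leaf 50167808) (.leaf 0))) (.node (.node (.leaf 25427968) (.leaf 0)) (.node (.leaf 78340096) (.leaf 0)))) (.node (.node (.node (.leaf 33243136) (.leaf 144017654)) (.node (.leaf 116932608)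 (.leaf 0))) (.node (.node (.leaf 37470208) (.leaf 0)) (.node (.leaf 147005440) (.leaf 0))))) (.node (.node (.node (.node (.leaf 20856832) (.leaf 162234368)) (.node (.leaf 56868864) (.leaf 0))) (.node (.node (.leaf 68124672) (.leaf 0)) (.node (.leaf 86138880) (.leaf 0)))) (.node (.node (.node (.leaf 19701760) (.leaf 161074991)) (.node (.leaf 70934528) (.leaf 0))) (.node (.node (.leaf 43606016) (.leaf 0)) (.node (.leaf 152870912) (.leaf 0))))))) (.node (.node (.node (.node (.node (.node (.leaf 1810432) (.leaf 156835840)) (.node (.leaf 65164083) (.leaf 0))) (.node (.node (.leaf 53960704) (.leaf 0)) (.node (.leaf 76578816) (.leaf 0)))) (.node (.node (.node (.leaf 12607488) (.leaf 142653605)) (.node (.leaf 62070784) (.leaf 0))) (.node (.node (.leaf 75997184) (.leaf 0)) (.node (.leaf 92348416) (.leaf 0))))) (.node (.node (.node (.node (.leaf 17629184) (.leaf 161193984)) (.node (.leaf 55140352) (.leaf 0))) (.node (.node (.leaf 65298432) (.leaf 0)) (.node (.leaf 84099072) (.leaf 0)))) (.node (.node (.node (.leaf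 42246144) (.leaf 161852555)) (.node (.leaf 87270868) (.leaf 0))) (.node (.node (.leaf 86253568) (.leaf 0)) (.node (.leaf 128724791) (.leaf 0)))))) (.node (.node (.node (.node (.node (.leaf 11124736) (.leaf 127731663)) (.node (.leaf 51814400) (.leaf 0))) (.node (.node (.leaf 26918912) (.leaf 0)) (.node (.leaf 80183296) (.leaf 0)))) (.node (.node (.node (.leaf 15433728) (.leaf 162645353)) (.node (.leaf 119095296) (.leaf 0))) (.node (.node (.leaf 81207296) (.leaf 0)) (.node (.leaf 96444416) (.leaf 0))))) (.node (.node (.node (.node (.leaf 23928832) (.leaf 145046266)) (.node (.leaf 58507264) (.leaf 0))) (.node (.node (.leaf 32825344) (.leaf 0)) (.node (.leaf 88096768) (.leaf 0)))) (.node (.node (.node (.leaf 48218112) (.leaf 160688294)) (.node (.leaf 72744960) (.leaf 0))) (.node (.node (.leaf 45203456) (.leaf 0)) (.node (.leaf 116526132) (.leaf 0)))))))) (.node (.node (.node (.node (.node (.node (.node (.leaf 1146880) (.leaf 156213248)) (.node (.leaf 94994432) (.leaf 0))) (.node (.node (.leaf 24701331) (.leaf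 0)) (.node (.leaf 130236416) (.leaf 0)))) (.node (.node (.node (.leaf 28557312) (.leaf 130744320)) (.node (.leaf 87830137) (.leaf 0))) (.node (.node (.leaf 74645504) (.leaf 0)) (.node (.leaf 144523264) (.leaf 0))))) (.node (.node (.node (.node (.leaf 6504448) (.leaf 160751616)) (.node (.leaf 104407040) (.leaf 0))) (.node (.node (.leaf 63938560) (.leaf 0)) (.node (.leaf 132542146) (.leaf 0)))) (.node (.node (.node (.leaf 17580032) (.leaf 145539072)) (.node (.leaf 68132864) (.leaf 0))) (.node (.node (.leaf 85082112) (.leaf 0)) (.node (.leaf 99639296) (.leaf 0)))))) (.node (.node (.node (.node (.node (.leaf 9510912) (.leaf 158466048)) (.node (.leaf 99786752) (.leaf 0))) (.node (.node (.leaf 58228736) (.leaf 0)) (.node (.leaf 134012928) (.leaf 0)))) (.node (.node (.node (.leaf 14729216) (.leaf 149030660)) (.node (.leaf 118071296) (.leaf 0))) (.node (.node (.leaf 38281216) (.leaf 0)) (.node (.leaf 147726336) (.leaf 0))))) (.node (.node (.node (.node (.leaf 22355968) (.leaf 160987849)) (.node (.leaf 77860332)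 (.leaf 0))) (.node (.node (.leaf 32088064) (.leaf 0)) (.node (.leaf 141246464) (.leaf 0)))) (.node (.node (.node (.leaf 20398080) (.leaf 161839567)) (.node (.leaf 123500077) (.leaf 0))) (.node (.node (.leaf 64762177) (.leaf 0)) (.node (.leaf 145031642) (.leaf 0))))))) (.node (.node (.node (.node (.node (.node (.leaf 2473984) (.leaf 142778924)) (.node (.leaf 49324032) (.leaf 0))) (.node (.node (.leaf 55361536) (.leaf 0)) (.node (.leaf 132251648) (.leaf 0)))) (.node (.node (.node (.leaf 13287424) (.leaf 134004736)) (.node (.leaf 85734847) (.leaf 0))) (.node (.node (.leaf 36659200) (.leaf 0)) (.node (.leaf 93257728) (.leaf 0))))) (.node (.node (.node (.node (.leaf 7872512) (.leaf 121839616)) (.node (.leaf 56000512) (.leaf 0))) (.node (.node (.leaf 30605312) (.leaf 0)) (.node (.leaf 139419648) (.leaf 0)))) (.node (.node (.node (.leaf 43745280) (.leaf 150077440)) (.node (.leaf 69976064) (.leaf 0))) (.node (.node (.leaf 87531520) (.leaf 0)) (.node (.leaf 149548767) (.leaf 0)))))) (.node (.node (.node (.node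 (.node (.leaf 5152768) (.leaf 144925612)) (.node (.leaf 52641792) (.leaf 0))) (.node (.node (.leaf 27648000) (.leaf 0)) (.node (.leaf 81076224) (.leaf 0)))) (.node (.node (.node (.leaf 37814272) (.leaf 141402112)) (.node (.leaf 118675665) (.leaf 0))) (.node (.node (.leaf 76622755) (.leaf 0)) (.node (.leaf 97492992) (.leaf 0))))) (.node (.node (.node (.node (.leaf 25485312) (.leaf 145056572)) (.node (.leaf 59342848) (.leaf 0))) (.node (.node (.leaf 33587200) (.leaf 0)) (.node (.leaf 89128960) (.leaf 0)))) (.node (.node (.node (.leaf 31512398) (.leaf 165387275)) (.node (.leaf 128385024) (.leaf 0))) (.node (.node (.leaf 45981696) (.leaf 0)) (.node (.leaf 147395096) (.leaf 0))))))))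

def e1T98 : NT := .node (.node (.node (.node (.node (.node (.node (.node (.leaf 499712) (.leaf 107839488)) (.node (.leaf 93855744) (.leaf 0))) (.node (.node (.leaf 51126272) (.leaf 0)) (.node (.leaf 129327104) (.leaf 0)))) (.node (.node (.node (.leaf 27009024) (.leaf 129122304)) (.node (.leaf 96300726) (.leaf 0))) (.node (.node (.leaf 73326592) (.leaf 0)) (.node (.leaf 90128384) (.leaf 0))))) (.node (.node (.node (.node (.leaf 14327808) (.leaf 117882880)) (.node (.leaf 103251968) (.leaf 0))) (.node (.node (.leaf 42748970) (.leaf 0)) (.node (.leaf 82108416) (.leaf 0)))) (.node (.node (.node (.leaf 39297024) (.leaf 143491072)) (.node (.leaf 121192448) (.leaf 0))) (.node (.node (.leaf 83845120) (.leaf 0)) (.node (.leaf 109486813) (.leaf 0)))))) (.node (.node (.node (.node (.node (.leaf 7897088) (.leaf 112771072)) (.node (.leaf 98590720) (.leaf 0))) (.node (.node (.leaf 56696832) (.leaf 0)) (.node (.leaf 133152768) (.leaf 0)))) (.node (.node (.node (.leaf 14024704) (.leaf 135585792)) (.node (.leaf 63750144)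 (.leaf 0))) (.node (.node (.leaf 45914783) (.leaf 0)) (.node (.leaf 147021824) (.leaf 0))))) (.node (.node (.node (.node (.leaf 8568832) (.leaf 123281408)) (.node (.leaf 59935555) (.leaf 0))) (.node (.node (.leaf 31326208) (.leaf 0)) (.node (.leaf 140427264) (.leaf 0)))) (.node (.node (.node (.leaf 45260800) (.leaf 152608768)) (.node (.leaf 125337600) (.leaf 0))) (.node (.node (.leaf 88850432) (.leaf 0)) (.node (.leaf 103129088) (.leaf 0))))))) (.node (.node (.node (.node (.node (.node (.leaf 4603904) (.leaf 152517157)) (.node (.leaf 80221143) (.leaf 0))) (.node (.node (.leaf 53977088) (.leaf 0)) (.node (.leaf 131325952) (.leaf 0)))) (.node (.node (.node (.leaf 30113792) (.leaf 158276713)) (.node (.leaf 62087168) (.leaf 0))) (.node (.node (.leaf 76005376) (.leaf 0)) (.node (.leaf 103201675) (.leaf 0))))) (.node (.node (.node (.node (.leaf 7200768) (.leaf 130731987)) (.node (.leaf 105717760) (.leaf 0))) (.node (.node (.leaf 29868032) (.leaf 0)) (.node (.leaf 84115456) (.leaf 0)))) (.node (.node (.node (.leaf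 40469181) (.leaf 147701760)) (.node (.leaf 123305984) (.leaf 0))) (.node (.node (.leaf 42049536) (.leaf 0)) (.node (.leaf 100737024) (.leaf 0)))))) (.node (.node (.node (.node (.node (.leaf 4497408) (.leaf 115171328)) (.node (.leaf 101023744) (.leaf 0))) (.node (.node (.leaf 59678720) (.leaf 0)) (.node (.leaf 134946816) (.leaf 0)))) (.node (.node (.node (.leaf 30201262) (.leaf 153445968)) (.node (.leaf 119111680) (.leaf 0))) (.node (.node (.leaf 81215488) (.leaf 0)) (.node (.leaf 148586496) (.leaf 0))))) (.node (.node (.node (.node (.leaf 9928704) (.leaf 126091264)) (.node (.leaf 97016266) (.leaf 0))) (.node (.node (.leaf 70680576) (.leaf 0)) (.node (.leaf 142147584) (.leaf 0)))) (.node (.node (.node (.leaf 48234496) (.leaf 167775023)) (.node (.leaf 72753152) (.leaf 0))) (.node (.node (.leaf 87643022) (.leaf 0)) (.node (.leaf 143074169) (.leaf 0)))))))) (.node (.node (.node (.node (.node (.node (.node (.leaf 2957312) (.leaf 109019136)) (.node (.leaf 95010816) (.leaf 0))) (.node (.node (.leaf 23265280)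 (.leaf 0)) (.node (.leaf 75595776) (.leaf 0)))) (.node (.node (.node (.leaf 11935744) (.leaf 130768896)) (.node (.leaf 101733386) (.leaf 0))) (.node (.node (.leaf 74661888) (.leaf 0)) (.node (.leaf 127665438) (.leaf 0))))) (.node (.node (.node (.node (.leaf 15966208) (.leaf 119185408)) (.node (.leaf 54312960) (.leaf 0))) (.node (.node (.leaf 60506644) (.leaf 0)) (.node (.leaf 95876442) (.leaf 0)))) (.node (.node (.node (.leaf 35898083) (.leaf 149022097)) (.node (.leaf 68141056) (.leaf 0))) (.node (.node (.leaf 41263104) (.leaf 0)) (.node (.leaf 150863872) (.leaf 0)))))) (.node (.node (.node (.node (.node (.leaf 3825664) (.leaf 113844224)) (.node (.leaf 99803136) (.leaf 0))) (.node (.node (.leaf 26198016) (.leaf 0)) (.node (.leaf 109771565) (.leaf 0)))) (.node (.node (.node (.leaf 34758656) (.leaf 140589596)) (.node (.leaf 106552416) (.leaf 0))) (.node (.node (.leaf 79945728) (.leaf 0)) (.node (.leaf 95371264) (.leaf 0))))) (.node (.node (.node (.node (.leaf 9256960) (.leaf 124641280)) (.node (.leaf 57688064)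 (.leaf 0))) (.node (.node (.leaf 59273757) (.leaf 0)) (.node (.leaf 87138304) (.leaf 0)))) (.node (.node (.node (.leaf 46784512) (.leaf 155883721)) (.node (.leaf 71868416) (.leaf 0))) (.node (.node (.leaf 44457984) (.leaf 0)) (.node (.leaf 104169472) (.leaf 0))))))) (.node (.node (.node (.node (.node (.node (.leaf 6242304) (.leaf 146811988)) (.node (.leaf 88506960) (.leaf 0))) (.node (.node (.leaf 32573700) (.leaf 0)) (.node (.leaf 132259840) (.leaf 0)))) (.node (.node (.node (.leaf 14130059) (.leaf 165388288)) (.node (.leaf 76632551) (.leaf 0))) (.node (.node (.leaf 77299712) (.leaf 0)) (.node (.leaf 136441962) (.leaf 0))))) (.node (.node (.node (.node (.leaf 19259392) (.leaf 121856000)) (.node (.leaf 106946560) (.leaf 0))) (.node (.node (.leaf 66723840) (.leaf 0)) (.node (.leaf 139427840) (.leaf 0)))) (.node (.node (.node (.leaf 43761664) (.leaf 164458185)) (.node (.leaf 124305408) (.leaf 0))) (.node (.node (.leaf 42827776) (.leaf 0)) (.node (.leaf 101949440) (.leaf 0)))))) (.node (.node (.node (.node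 (.node (.leaf 12722176) (.leaf 116424704)) (.node (.leaf 102162432) (.leaf 0))) (.node (.node (.leaf 61153280) (.leaf 0)) (.node (.leaf 135872512) (.leaf 0)))) (.node (.node (.node (.leaf 37822464) (.leaf 146131155)) (.node (.leaf 119054336) (.leaf 0))) (.node (.node (.leaf 39780352) (.leaf 0)) (.node (.leaf 149348352) (.leaf 0))))) (.node (.node (.node (.node (.leaf 10592256) (.leaf 137326085)) (.node (.leaf 59351040) (.leaf 0))) (.node (.node (.leaf 33603584) (.leaf 0)) (.node (.leaf 141832304) (.leaf 0)))) (.node (.node (.node (.leaf 21807104) (.leaf 164934695)) (.node (.leaf 128401408) (.leaf 0))) (.node (.node (.leaf 92504064) (.leaf 0)) (.node (.leaf 136302163) (.leaf 0))))))))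

def e1T99 : NT := .node (.node (.node (.node (.node (.node (.node (.node (.leaf 1302528) (.leaf 107847680)) (.node (.leaf 46776320) (.leaf 0))) (.node (.node (.leaf 22544384) (.leaf 0)) (.node (.leaf 74596352) (.leaf 0)))) (.node (.node (.node (.leaf 11255808) (.leaf 158053104)) (.node (.leaf 60227584) (.leaf 0))) (.node (.node (.leaf 73334784) (.leaf 0)) (.node (.leaf 111215200) (.leaf 0))))) (.node (.node (.node (.node (.leaf 5840896) (.leaf 160137216)) (.node (.leaf 78875797) (.leaf 0))) (.node (.node (.leaf 62570496) (.leaf 0)) (.node (.leaf 136740864) (.leaf 0)))) (.node (.node (.node (.leaf 16883712) (.leaf 156987025)) (.node (.leaf 81709199) (.leaf 0))) (.node (.node (.leaf 83853312) (.leaf 0)) (.node (.leaf 109191695) (.leaf 0)))))) (.node (.node (.node (.node (.node (.leaf 3153920) (.leaf 157200938)) (.node (.leaf 67251555) (.leaf 0))) (.node (.node (.leaf 25436160) (.leaf 0)) (.node (.leaf 133160960) (.leaf 0)))) (.node (.node (.node (.leaf 33267712) (.leaf 157238458)) (.node (.leaf 116940800)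 (.leaf 0))) (.node (.node (.leaf 37478400) (.leaf 0)) (.node (.leaf 94363648) (.leaf 0))))) (.node (.node (.node (.node (.leaf 20873216) (.leaf 154801268)) (.node (.leaf 56877056) (.leaf 0))) (.node (.node (.leaf 68149248) (.leaf 0)) (.node (.leaf 116365594) (.leaf 0)))) (.node (.node (.node (.leaf 45277184) (.leaf 154021200)) (.node (.leaf 125353984) (.leaf 0))) (.node (.node (.leaf 43622400) (.leaf 0)) (.node (.leaf 152887296) (.leaf 0))))))) (.node (.node (.node (.node (.node (.node (.leaf 1818624) (.leaf 110288896)) (.node (.leaf 48513024) (.leaf 0))) (.node (.node (.leaf 23961600) (.leaf 0)) (.node (.leaf 131334144) (.leaf 0)))) (.node (.node (.node (.leaf 12615680) (.leaf 164548015)) (.node (.leaf 62095360) (.leaf 0))) (.node (.node (.leaf 35889152) (.leaf 0)) (.node (.leaf 92356608) (.leaf 0))))) (.node (.node (.node (.node (.leaf 17653760) (.leaf 120594432)) (.node (.leaf 105734144) (.leaf 0))) (.node (.node (.leaf 65323008) (.leaf 0)) (.node (.leaf 84123648) (.leaf 0)))) (.node (.node (.node (.leaf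 18292736) (.leaf 159255805)) (.node (.leaf 69115904) (.leaf 0))) (.node (.node (.leaf 86269952) (.leaf 0)) (.node (.leaf 124238572) (.leaf 0)))))) (.node (.node (.node (.node (.node (.leaf 11149312) (.leaf 159072256)) (.node (.leaf 51822592) (.leaf 0))) (.node (.node (.leaf 59695104) (.leaf 0)) (.node (.leaf 134955008) (.leaf 0)))) (.node (.node (.node (.leaf 36331520) (.leaf 139509760)) (.node (.leaf 65552384) (.leaf 0))) (.node (.node (.leaf 39059456) (.leaf 0)) (.node (.leaf 96460800) (.leaf 0))))) (.node (.node (.node (.node (.leaf 23953408) (.leaf 142207794)) (.node (.leaf 110411776) (.leaf 0))) (.node (.node (.leaf 32833536) (.leaf 0)) (.node (.leaf 88121344) (.leaf 0)))) (.node (.node (.node (.leaf 21110784) (.leaf 158130176)) (.node (.leaf 116823105) (.leaf 0))) (.node (.node (.leaf 45219840) (.leaf 0)) (.node (.leaf 105431040) (.leaf 0)))))))) (.node (.node (.node (.node (.node (.node (.node (.leaf 2973696) (.leaf 156229632)) (.node (.leaf 95027200) (.leaf 0))) (.node (.node (.leaf 52592640) (.leaf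 0)) (.node (.leaf 130260992) (.leaf 0)))) (.node (.node (.node (.leaf 28581888) (.leaf 145689991)) (.node (.leaf 61177856) (.leaf 0))) (.node (.node (.leaf 35110912) (.leaf 0)) (.node (.leaf 91201536) (.leaf 0))))) (.node (.node (.node (.node (.leaf 15982592) (.leaf 153481127)) (.node (.leaf 104431616) (.leaf 0))) (.node (.node (.leaf 29138944) (.leaf 0)) (.node (.leaf 83083264) (.leaf 0)))) (.node (.node (.node (.leaf 40787968) (.leaf 161393516)) (.node (.leaf 122232832) (.leaf 0))) (.node (.node (.leaf 85098496) (.leaf 0)) (.node (.leaf 150872064) (.leaf 0)))))) (.node (.node (.node (.node (.node (.leaf 9535488) (.leaf 156678124)) (.node (.leaf 99819520) (.leaf 0))) (.node (.node (.leaf 56559293) (.leaf 0)) (.node (.leaf 111996174) (.leaf 0)))) (.node (.node (.node (.leaf 34775040) (.leaf 162123525)) (.node (.leaf 118095872) (.leaf 0))) (.node (.node (.leaf 68948219) (.leaf 0)) (.node (.leaf 98313807) (.leaf 0))))) (.node (.node (.node (.node (.leaf 22380544) (.leaf 162734080)) (.node (.leaf 81551935)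 (.leaf 0))) (.node (.node (.leaf 32096256) (.leaf 0)) (.node (.leaf 141262848) (.leaf 0)))) (.node (.node (.node (.leaf 20406272) (.leaf 162672463)) (.node (.leaf 71876608) (.leaf 0))) (.node (.node (.leaf 46900642) (.leaf 0)) (.node (.leaf 153591808) (.leaf 0))))))) (.node (.node (.node (.node (.node (.node (.leaf 2482176) (.leaf 138359879)) (.node (.leaf 49340416) (.leaf 0))) (.node (.node (.leaf 24674304) (.leaf 0)) (.node (.leaf 132276224) (.leaf 0)))) (.node (.node (.node (.leaf 31727616) (.leaf 148719409)) (.node (.leaf 62922752) (.leaf 0))) (.node (.node (.leaf 36667392) (.leaf 0)) (.node (.leaf 96352625) (.leaf 0))))) (.node (.node (.node (.node (.leaf 19275776) (.leaf 129792868)) (.node (.leaf 106962944) (.leaf 0))) (.node (.node (.leaf 30613504) (.leaf 0)) (.node (.leaf 85123072) (.leaf 0)))) (.node (.node (.node (.leaf 43778048) (.leaf 164877535)) (.node (.leaf 124313600) (.leaf 0))) (.node (.node (.leaf 87547904) (.leaf 0)) (.node (.leaf 146569893) (.leaf 0)))))) (.node (.node (.node (.node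 (.node (.leaf 5160960) (.leaf 146256886)) (.node (.leaf 102170624) (.leaf 0))) (.node (.node (.leaf 61169664) (.leaf 0)) (.node (.leaf 82105840) (.leaf 0)))) (.node (.node (.node (.leaf 16138240) (.leaf 166630885)) (.node (.leaf 66461696) (.leaf 0))) (.node (.node (.leaf 39788544) (.leaf 0)) (.node (.leaf 97501184) (.leaf 0))))) (.node (.node (.node (.node (.leaf 10600448) (.leaf 127549440)) (.node (.leaf 111476736) (.leaf 0))) (.node (.node (.leaf 71991296) (.leaf 0)) (.node (.leaf 89161728) (.leaf 0)))) (.node (.node (.node (.leaf 33320603) (.leaf 167207425)) (.node (.leaf 128409600) (.leaf 0))) (.node (.node (.leaf 92520448) (.leaf 0)) (.node (.leaf 135967935) (.leaf 0))))))))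

def e1T100 : NT := .node (.node (.node (.node (.node (.node (.node (.node (.leaf 507904) (.leaf 110249491)) (.node (.leaf 93880320) (.leaf 0))) (.node (.node (.leaf 51150848) (.leaf 0)) (.node (.leaf 129343488) (.leaf 0)))) (.node (.node (.node (.leaf 27033600) (.leaf 129130496)) (.node (.leaf 60235776) (.leaf 0))) (.node (.node (.leaf 34373632) (.leaf 0)) (.node (.leaf 129955920) (.leaf 0))))) (.node (.node (.node (.node (.leaf 14352384) (.leaf 132363564)) (.node (.leaf 53477376) (.leaf 0))) (.node (.node (.leaf 28426240) (.leaf 0)) (.node (.leaf 136757248) (.leaf 0)))) (.node (.node (.node (.leaf 39321600) (.leaf 143515648)) (.node (.leaf 81048653) (.leaf 0))) (.node (.node (.leaf 40534016) (.leaf 0)) (.node (.leaf 98582528) (.leaf 0)))))) (.node (.node (.node (.node (.node (.leaf 7913472) (.leaf 112779264)) (.node (.leaf 50184192) (.leaf 0))) (.node (.node (.leaf 56721408) (.leaf 0)) (.node (.leaf 119000197) (.leaf 0)))) (.node (.node (.node (.leaf 33284096) (.leaf 165724160)) (.node (.leaf 116957184)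 (.leaf 0))) (.node (.node (.leaf 78602240) (.leaf 0)) (.node (.leaf 110105987) (.leaf 0))))) (.node (.node (.node (.node (.leaf 8577024) (.leaf 123297792)) (.node (.leaf 108126208) (.leaf 0))) (.node (.node (.leaf 31334400) (.leaf 0)) (.node (.leaf 104448018) (.leaf 0)))) (.node (.node (.node (.leaf 19718144) (.leaf 167019556)) (.node (.leaf 70950912) (.leaf 0))) (.node (.node (.leaf 88866816) (.leaf 0)) (.node (.leaf 103145472) (.leaf 0))))))) (.node (.node (.node (.node (.node (.node (.leaf 4628480) (.leaf 110305280)) (.node (.leaf 87455509) (.leaf 0))) (.node (.node (.leaf 53993472) (.leaf 0)) (.node (.leaf 76595200) (.leaf 0)))) (.node (.node (.node (.leaf 30138368) (.leaf 161033953)) (.node (.leaf 108505236) (.leaf 0))) (.node (.node (.leaf 52296653) (.leaf 0)) (.node (.leaf 107485257) (.leaf 0))))) (.node (.node (.node (.node (.leaf 7208960) (.leaf 120602624)) (.node (.leaf 55164928) (.leaf 0))) (.node (.node (.leaf 29884416) (.leaf 0)) (.node (.leaf 138477568) (.leaf 0)))) (.node (.node (.node (.leaf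 42278912) (.leaf 147742720)) (.node (.leaf 123322368) (.leaf 0))) (.node (.node (.leaf 42065920) (.leaf 0)) (.node (.leaf 151535616) (.leaf 0)))))) (.node (.node (.node (.node (.node (.leaf 4505600) (.leaf 115195904)) (.node (.leaf 72073739) (.leaf 0))) (.node (.node (.leaf 26935296) (.leaf 0)) (.node (.leaf 80199680) (.leaf 0)))) (.node (.node (.node (.leaf 15450112) (.leaf 153953254)) (.node (.leaf 118152032) (.leaf 0))) (.node (.node (.leaf 81240064) (.leaf 0)) (.node (.leaf 123396967) (.leaf 0))))) (.node (.node (.node (.node (.leaf 23969792) (.leaf 126099456)) (.node (.leaf 58523648) (.leaf 0))) (.node (.node (.leaf 70696960) (.leaf 0)) (.node (.leaf 89759815) (.leaf 0)))) (.node (.node (.node (.leaf 48250880) (.leaf 166085241)) (.node (.leaf 127426560) (.leaf 0))) (.node (.node (.leaf 50313597) (.leaf 0)) (.node (.leaf 106944549) (.leaf 0)))))))) (.node (.node (.node (.node (.node (.node (.node (.leaf 1163264) (.leaf 109035520)) (.node (.leaf 47636480) (.leaf 0))) (.node (.node (.leaf 23281664) (.leaf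 0)) (.node (.leaf 121926145) (.leaf 0)))) (.node (.node (.node (.leaf 28598272) (.leaf 164560896)) (.node (.leaf 113664000) (.leaf 0))) (.node (.node (.leaf 74686464) (.leaf 0)) (.node (.leaf 144556032) (.leaf 0))))) (.node (.node (.node (.node (.leaf 6520832) (.leaf 119209984)) (.node (.leaf 79712211) (.leaf 0))) (.node (.node (.leaf 63963136) (.leaf 0)) (.node (.leaf 137609216) (.leaf 0)))) (.node (.node (.node (.leaf 17596416) (.leaf 145645568)) (.node (.leaf 122249216) (.leaf 0))) (.node (.node (.leaf 41279488) (.leaf 0)) (.node (.leaf 99655680) (.leaf 0)))))) (.node (.node (.node (.node (.node (.leaf 9551872) (.leaf 154368293)) (.node (.leaf 51011584) (.leaf 0))) (.node (.node (.leaf 26206208) (.leaf 0)) (.node (.leaf 79265792) (.leaf 0)))) (.node (.node (.node (.leaf 14745600) (.leaf 137494528)) (.node (.leaf 64643072) (.leaf 0))) (.node (.node (.leaf 38297600) (.leaf 0)) (.node (.leaf 147750912) (.leaf 0))))) (.node (.node (.node (.node (.leaf 22396928) (.leaf 162742272)) (.node (.leaf 109273088)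 (.leaf 0))) (.node (.node (.leaf 69394432) (.leaf 0)) (.node (.leaf 133901462) (.leaf 0)))) (.node (.node (.node (.leaf 46809088) (.leaf 155033600)) (.node (.leaf 126377984) (.leaf 0))) (.node (.node (.leaf 44474368) (.leaf 0)) (.node (.leaf 153608192) (.leaf 0))))))) (.node (.node (.node (.node (.node (.node (.leaf 6266880) (.leaf 157442048)) (.node (.leaf 49348608) (.leaf 0))) (.node (.node (.leaf 55386112) (.leaf 0)) (.node (.leaf 132284416) (.leaf 0)))) (.node (.node (.node (.leaf 13303808) (.leaf 147773380)) (.node (.leaf 115875840) (.leaf 0))) (.node (.node (.leaf 77324288) (.leaf 0)) (.node (.leaf 93282304) (.leaf 0))))) (.node (.node (.node (.node (.leaf 7888896) (.leaf 121880576)) (.node (.leaf 56016896) (.leaf 0))) (.node (.node (.leaf 55331019) (.leaf 0)) (.node (.leaf 85131264) (.leaf 0)))) (.node (.node (.node (.leaf 19013632) (.leaf 165951648)) (.node (.leaf 94858907) (.leaf 0))) (.node (.node (.leaf 87564288) (.leaf 0)) (.node (.leaf 101957632) (.leaf 0)))))) (.node (.node (.node (.node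 (.node (.leaf 12746752) (.leaf 116449280)) (.node (.leaf 52658176) (.leaf 0))) (.node (.node (.leaf 61186048) (.leaf 0)) (.node (.leaf 135880704) (.leaf 0)))) (.node (.node (.node (.leaf 37847040) (.leaf 150939702)) (.node (.leaf 66469888) (.leaf 0))) (.node (.node (.leaf 82567168) (.leaf 0)) (.node (.leaf 116330427) (.leaf 0))))) (.node (.node (.node (.node (.leaf 25518080) (.leaf 128103241)) (.node (.leaf 111493120) (.leaf 0))) (.node (.node (.leaf 33611776) (.leaf 0)) (.node (.leaf 143007744) (.leaf 0)))) (.node (.node (.node (.leaf 49725440) (.leaf 162594816)) (.node (.leaf 128425984) (.leaf 0))) (.node (.node (.leaf 45998080) (.leaf 0)) (.node (.leaf 128330348) (.leaf 0))))))))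

def e1T101 : NT := .node (.node (.node (.node (.node (.node (.node (.node (.leaf 1327104) (.leaf 107864064)) (.node (.leaf 46792704) (.leaf 0))) (.node (.node (.leaf 51167232) (.leaf 0)) (.node (.leaf 74604544) (.leaf 0)))) (.node (.node (.node (.leaf 27049984) (.leaf 129138688)) (.node (.leaf 68800702) (.leaf 0))) (.node (.node (.leaf 73359360) (.leaf 0)) (.node (.leaf 90152960) (.leaf 0))))) (.node (.node (.node (.node (.leaf 14368768) (.leaf 117907456)) (.node (.leaf 103284736) (.leaf 0))) (.node (.node (.leaf 62595072) (.leaf 0)) (.node (.leaf 136765440) (.leaf 0)))) (.node (.node (.node (.leaf 39337984) (.leaf 144074420)) (.node (.leaf 67305472) (.leaf 0))) (.node (.node (.leaf 65754315) (.leaf 0)) (.node (.leaf 98598912) (.leaf 0)))))) (.node (.node (.node (.node (.node (.leaf 7929856) (.leaf 157958144)) (.node (.leaf 98623488) (.leaf 0))) (.node (.node (.leaf 25452544) (.leaf 0)) (.node (.leaf 78364672) (.leaf 0)))) (.node (.node (.node (.leaf 14041088) (.leaf 143636253)) (.node (.leaf 116965376)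 (.leaf 0))) (.node (.node (.leaf 78610432) (.leaf 0)) (.node (.leaf 94371840) (.leaf 0))))) (.node (.node (.node (.node (.leaf 20897792) (.leaf 123314176)) (.node (.leaf 56885248) (.leaf 0))) (.node (.node (.leaf 68165632) (.leaf 0)) (.node (.leaf 121105227) (.leaf 0)))) (.node (.node (.node (.leaf 45301760) (.leaf 152633344)) (.node (.leaf 125370368) (.leaf 0))) (.node (.node (.leaf 43638784) (.leaf 0)) (.node (.leaf 103161856) (.leaf 0))))))) (.node (.node (.node (.node (.node (.node (.leaf 4644864) (.leaf 156852224)) (.node (.leaf 69027661) (.leaf 0))) (.node (.node (.leaf 54009856) (.leaf 0)) (.node (.leaf 131350528) (.leaf 0)))) (.node (.node (.node (.leaf 30154752) (.leaf 154118645)) (.node (.leaf 114794496) (.leaf 0))) (.node (.node (.leaf 76029952) (.leaf 0)) (.node (.leaf 116559701) (.leaf 0))))) (.node (.node (.node (.node (.leaf 17678336) (.leaf 161210368)) (.node (.leaf 105750528) (.leaf 0))) (.node (.node (.leaf 65339392) (.leaf 0)) (.node (.leaf 138485760) (.leaf 0)))) (.node (.node (.node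 (.leaf 42295296) (.leaf 167469056)) (.node (.leaf 69124096) (.leaf 0))) (.node (.node (.leaf 71980924) (.leaf 0)) (.node (.leaf 100753408) (.leaf 0)))))) (.node (.node (.node (.node (.node (.leaf 11173888) (.leaf 150270516)) (.node (.leaf 85408217) (.leaf 0))) (.node (.node (.leaf 59719680) (.leaf 0)) (.node (.leaf 134971392) (.leaf 0)))) (.node (.node (.node (.leaf 36356096) (.leaf 144233881)) (.node (.leaf 65560576) (.leaf 0))) (.node (.node (.leaf 39075840) (.leaf 0)) (.node (.leaf 96485376) (.leaf 0))))) (.node (.node (.node (.node (.leaf 9945088) (.leaf 126107648)) (.node (.leaf 110428160) (.leaf 0))) (.node (.node (.leaf 70705152) (.leaf 0)) (.node (.leaf 142163968) (.leaf 0)))) (.node (.node (.node (.leaf 21118976) (.leaf 158146560)) (.node (.leaf 127434752) (.leaf 0))) (.node (.node (.leaf 91299840) (.leaf 0)) (.node (.leaf 127151545) (.leaf 0)))))))) (.node (.node (.node (.node (.node (.node (.node (.leaf 2998272) (.leaf 139126323)) (.node (.leaf 58450469) (.leaf 0))) (.node (.node (.leaf 52609024)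 (.leaf 0)) (.node (.leaf 75612160) (.leaf 0)))) (.node (.node (.node (.leaf 11952128) (.leaf 130818048)) (.node (.leaf 113680384) (.leaf 0))) (.node (.node (.leaf 35119104) (.leaf 0)) (.node (.leaf 119322423) (.leaf 0))))) (.node (.node (.node (.node (.leaf 16007168) (.leaf 160759808)) (.node (.leaf 54329344) (.leaf 0))) (.node (.node (.leaf 63979520) (.leaf 0)) (.node (.leaf 83091456) (.leaf 0)))) (.node (.node (.node (.leaf 40804352) (.leaf 165208535)) (.node (.leaf 68157440) (.leaf 0))) (.node (.node (.leaf 85114880) (.leaf 0)) (.node (.leaf 124568634) (.leaf 0)))))) (.node (.node (.node (.node (.node (.leaf 3842048) (.leaf 124584279)) (.node (.leaf 73182744) (.leaf 0))) (.node (.node (.leaf 58269696) (.leaf 0)) (.node (.leaf 134045696) (.leaf 0)))) (.node (.node (.node (.leaf 34799616) (.leaf 157904798)) (.node (.leaf 100323298) (.leaf 0))) (.node (.node (.leaf 79962112) (.leaf 0)) (.node (.leaf 139997663) (.leaf 0))))) (.node (.node (.node (.node (.leaf 9273344) (.leaf 157761581)) (.node (.leaf 109281280)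 (.leaf 0))) (.node (.node (.leaf 32112640) (.leaf 0)) (.node (.leaf 87412186) (.leaf 0)))) (.node (.node (.node (.leaf 46825472) (.leaf 161899137)) (.node (.leaf 126394368) (.leaf 0))) (.node (.node (.leaf 90120192) (.leaf 0)) (.node (.leaf 153616384) (.leaf 0))))))) (.node (.node (.node (.node (.node (.node (.leaf 6283264) (.leaf 157458432)) (.node (.leaf 97419264) (.leaf 0))) (.node (.node (.leaf 24682496) (.leaf 0)) (.node (.leaf 77545472) (.leaf 0)))) (.node (.node (.node (.leaf 31752192) (.leaf 134029312)) (.node (.leaf 115892224) (.leaf 0))) (.node (.node (.leaf 36683776) (.leaf 0)) (.node (.leaf 146145280) (.leaf 0))))) (.node (.node (.node (.node (.leaf 19300352) (.leaf 121896960)) (.node (.leaf 56539013) (.leaf 0))) (.node (.node (.leaf 66756608) (.leaf 0)) (.node (.leaf 85139456) (.leaf 0)))) (.node (.node (.node (.leaf 43802624) (.leaf 162261136)) (.node (.leaf 124338176) (.leaf 0))) (.node (.node (.leaf 42844160) (.leaf 0)) (.node (.leaf 111606225) (.leaf 0)))))) (.node (.node (.node (.node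 (.node (.leaf 12763136) (.leaf 158159921)) (.node (.leaf 102178816) (.leaf 0))) (.node (.node (.leaf 27672576) (.leaf 0)) (.node (.leaf 135888896) (.leaf 0)))) (.node (.node (.node (.leaf 16146432) (.leaf 141434880)) (.node (.leaf 120037376) (.leaf 0))) (.node (.node (.leaf 39796736) (.leaf 0)) (.node (.leaf 97509376) (.leaf 0))))) (.node (.node (.node (.node (.leaf 10608640) (.leaf 127565824)) (.node (.leaf 111509504) (.leaf 0))) (.node (.node (.leaf 71999488) (.leaf 0)) (.node (.leaf 117221726) (.leaf 0)))) (.node (.node (.node (.leaf 21823488) (.leaf 163166447)) (.node (.leaf 73752576) (.leaf 0))) (.node (.node (.leaf 92528640) (.leaf 0)) (.node (.leaf 106684416) (.leaf 0))))))))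

def e1T102 : NT := .node (.node (.node (.node (.node (.node (.node (.node (.leaf 1343488) (.leaf 140105859)) (.node (.leaf 71242492) (.leaf 0))) (.node (.node (.leaf 22560768) (.leaf 0)) (.node (.leaf 129368064) (.leaf 0)))) (.node (.node (.node (.leaf 11272192) (.leaf 129146880)) (.node (.leaf 112566272) (.leaf 0))) (.node (.node (.leaf 34381824) (.leaf 0)) (.node (.leaf 113880628) (.leaf 0))))) (.node (.node (.node (.node (.leaf 5857280) (.leaf 117915648)) (.node (.leaf 103301120) (.leaf 0))) (.node (.node (.leaf 28434432) (.leaf 0)) (.node (.leaf 136781824) (.leaf 0)))) (.node (.node (.node (.leaf 16900096) (.leaf 166572370)) (.node (.leaf 98925356) (.leaf 0))) (.node (.node (.leaf 74753079) (.leaf 0)) (.node (.leaf 150093824) (.leaf 0)))))) (.node (.node (.node (.node (.node (.leaf 3170304) (.leaf 112787456)) (.node (.leaf 50922183) (.leaf 0))) (.node (.node (.leaf 56745984) (.leaf 0)) (.node (.leaf 133177344) (.leaf 0)))) (.node (.node (.node (.leaf 33308672) (.leaf 165748736)) (.node (.leaf 81266868)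 (.leaf 0))) (.node (.node (.leaf 37494784) (.leaf 0)) (.node (.leaf 147038208) (.leaf 0))))) (.node (.node (.node (.node (.leaf 20914176) (.leaf 135743421)) (.node (.leaf 108142592) (.leaf 0))) (.node (.node (.leaf 31350784) (.leaf 0)) (.node (.leaf 140451840) (.leaf 0)))) (.node (.node (.node (.leaf 23874320) (.leaf 164151505)) (.node (.leaf 70959104) (.leaf 0))) (.node (.node (.leaf 88883200) (.leaf 0)) (.node (.leaf 145483784) (.leaf 0))))))) (.node (.node (.node (.node (.node (.node (.leaf 1835008) (.leaf 110329856)) (.node (.leaf 57845443) (.leaf 0))) (.node (.node (.leaf 23977984) (.leaf 0)) (.node (.leaf 125660338) (.leaf 0)))) (.node (.node (.node (.leaf 12632064) (.leaf 149091700)) (.node (.leaf 104305391) (.leaf 0))) (.node (.node (.leaf 76046336) (.leaf 0)) (.node (.leaf 122618858) (.leaf 0))))) (.node (.node (.node (.node (.leaf 17694720) (.leaf 161226752)) (.node (.leaf 105758720) (.leaf 0))) (.node (.node (.leaf 29892608) (.leaf 0)) (.node (.leaf 120868721) (.leaf 0)))) (.node (.node (.node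 (.leaf 18309120) (.leaf 167477248)) (.node (.leaf 123346944) (.leaf 0))) (.node (.node (.leaf 42074112) (.leaf 0)) (.node (.leaf 151560192) (.leaf 0)))))) (.node (.node (.node (.node (.node (.leaf 11190272) (.leaf 159080448)) (.node (.leaf 101064704) (.leaf 0))) (.node (.node (.leaf 26943488) (.leaf 0)) (.node (.leaf 98144513) (.leaf 0)))) (.node (.node (.node (.leaf 15458304) (.leaf 156144978)) (.node (.leaf 119144448) (.leaf 0))) (.node (.node (.leaf 81256448) (.leaf 0)) (.node (.leaf 127711634) (.leaf 0))))) (.node (.node (.node (.node (.leaf 23994368) (.leaf 150694744)) (.node (.leaf 103650613) (.leaf 0))) (.node (.node (.leaf 70721536) (.leaf 0)) (.node (.leaf 88137728) (.leaf 0)))) (.node (.node (.node (.leaf 46230236) (.leaf 161551678)) (.node (.leaf 127451136) (.leaf 0))) (.node (.node (.leaf 45236224) (.leaf 0)) (.node (.leaf 105463808) (.leaf 0)))))))) (.node (.node (.node (.node (.node (.node (.node (.leaf 3014656) (.leaf 138725601)) (.node (.leaf 95051776) (.leaf 0))) (.node (.node (.leaf 23289856)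 (.leaf 0)) (.node (.leaf 130285568) (.leaf 0)))) (.node (.node (.node (.leaf 28622848) (.leaf 164577280)) (.node (.leaf 61210624) (.leaf 0))) (.node (.node (.leaf 74711040) (.leaf 0)) (.node (.leaf 91217920) (.leaf 0))))) (.node (.node (.node (.node (.leaf 16023552) (.leaf 136056372)) (.node (.leaf 80227979) (.leaf 0))) (.node (.node (.leaf 29155328) (.leaf 0)) (.node (.leaf 137633792) (.leaf 0)))) (.node (.node (.node (.leaf 17604608) (.leaf 165998327)) (.node (.leaf 89506131) (.leaf 0))) (.node (.node (.leaf 80053094) (.leaf 0)) (.node (.leaf 150888448) (.leaf 0)))))) (.node (.node (.node (.node (.node (.leaf 9576448) (.leaf 158507008)) (.node (.leaf 99844096) (.leaf 0))) (.node (.node (.leaf 58286080) (.leaf 0)) (.node (.leaf 90483214) (.leaf 0)))) (.node (.node (.node (.leaf 14761984) (.leaf 137551872)) (.node (.leaf 64659456) (.leaf 0))) (.node (.node (.leaf 79978496) (.leaf 0)) (.node (.leaf 95395840) (.leaf 0))))) (.node (.node (.node (.node (.leaf 22421504) (.leaf 154905442)) (.node (.leaf 57712640)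 (.leaf 0))) (.node (.node (.leaf 69410816) (.leaf 0)) (.node (.leaf 87171072) (.leaf 0)))) (.node (.node (.node (.leaf 20422656) (.leaf 159452592)) (.node (.leaf 95828861) (.leaf 0))) (.node (.node (.leaf 44490752) (.leaf 0)) (.node (.leaf 153624576) (.leaf 0))))))) (.node (.node (.node (.node (.node (.node (.leaf 2498560) (.leaf 131435832)) (.node (.leaf 97427456) (.leaf 0))) (.node (.node (.leaf 55410688) (.leaf 0)) (.node (.leaf 77553664) (.leaf 0)))) (.node (.node (.node (.leaf 31768576) (.leaf 165404672)) (.node (.leaf 62947328) (.leaf 0))) (.node (.node (.leaf 77348864) (.leaf 0)) (.node (.leaf 146161664) (.leaf 0))))) (.node (.node (.node (.node (.leaf 19316736) (.leaf 161734656)) (.node (.leaf 56025088) (.leaf 0))) (.node (.node (.leaf 30629888) (.leaf 0)) (.node (.leaf 107181116) (.leaf 0)))) (.node (.node (.node (.leaf 19021824) (.leaf 150355968)) (.node (.leaf 98402381) (.leaf 0))) (.node (.node (.leaf 75981136) (.leaf 0)) (.node (.leaf 101974016) (.leaf 0)))))) (.node (.node (.node (.node (.node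 (.leaf 5177344) (.leaf 159596544)) (.node (.leaf 102195200) (.leaf 0))) (.node (.node (.leaf 61202432) (.leaf 0)) (.node (.leaf 81166336) (.leaf 0)))) (.node (.node (.node (.leaf 37871616) (.leaf 166821888)) (.node (.leaf 66486272) (.leaf 0))) (.node (.node (.leaf 82583552) (.leaf 0)) (.node (.leaf 148971731) (.leaf 0))))) (.node (.node (.node (.node (.leaf 25542656) (.leaf 127590400)) (.node (.leaf 59375616) (.leaf 0))) (.node (.node (.leaf 36020401) (.leaf 0)) (.node (.leaf 89178112) (.leaf 0)))) (.node (.node (.node (.leaf 24508517) (.leaf 165015453)) (.node (.leaf 128442368) (.leaf 0))) (.node (.node (.leaf 46006272) (.leaf 0)) (.node (.leaf 154935296) (.leaf 0))))))))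

def e1T103 : NT := .node (.node (.node (.node (.node (.node (.node (.node (.leaf 524288) (.leaf 107872256)) (.node (.leaf 46800896) (.leaf 0))) (.node (.node (.leaf 47319944) (.leaf 0)) (.node (.leaf 129376256) (.leaf 0)))) (.node (.node (.node (.leaf 27074560) (.leaf 164003840)) (.node (.leaf 60252160) (.leaf 0))) (.node (.node (.leaf 73383936) (.leaf 0)) (.node (.leaf 90169344) (.leaf 0))))) (.node (.node (.node (.node (.leaf 14393344) (.leaf 131083804)) (.node (.leaf 58043873) (.leaf 0))) (.node (.node (.leaf 40970577) (.leaf 0)) (.node (.leaf 82141184) (.leaf 0)))) (.node (.node (.node (.leaf 39362560) (.leaf 143548416)) (.node (.leaf 67313664) (.leaf 0))) (.node (.node (.leaf 40550400) (.leaf 0)) (.node (.leaf 98607104) (.leaf 0)))))) (.node (.node (.node (.node (.node (.leaf 7954432) (.leaf 112820224)) (.node (.leaf 98648064) (.leaf 0))) (.node (.node (.leaf 25460736) (.leaf 0)) (.node (.leaf 78381056) (.leaf 0)))) (.node (.node (.node (.leaf 14049280) (.leaf 149681893)) (.node (.leaf 116989952)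 (.leaf 0))) (.node (.node (.leaf 78635008) (.leaf 0)) (.node (.leaf 147046400) (.leaf 0))))) (.node (.node (.node (.node (.leaf 8593408) (.leaf 133027936)) (.node (.leaf 56893440) (.leaf 0))) (.node (.node (.leaf 68190208) (.leaf 0)) (.node (.leaf 135448007) (.leaf 0)))) (.node (.node (.node (.leaf 19734528) (.leaf 155606151)) (.node (.leaf 125394944) (.leaf 0))) (.node (.node (.leaf 43646976) (.leaf 0)) (.node (.leaf 119180256) (.leaf 0))))))) (.node (.node (.node (.node (.node (.node (.leaf 4669440) (.leaf 151405087)) (.node (.leaf 48537600) (.leaf 0))) (.node (.node (.leaf 54034432) (.leaf 0)) (.node (.leaf 76636160) (.leaf 0)))) (.node (.node (.node (.leaf 30179328) (.leaf 153940358)) (.node (.leaf 62128128) (.leaf 0))) (.node (.node (.leaf 35913728) (.leaf 0)) (.node (.leaf 92381184) (.leaf 0))))) (.node (.node (.node (.node (.leaf 7225344) (.leaf 144792155)) (.node (.leaf 55181312) (.leaf 0))) (.node (.node (.leaf 65355776) (.leaf 0)) (.node (.leaf 106720403) (.leaf 0)))) (.node (.node (.node (.leaf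 42311680) (.leaf 167253858)) (.node (.leaf 123363328) (.leaf 0))) (.node (.node (.leaf 86302720) (.leaf 0)) (.node (.leaf 151576576) (.leaf 0)))))) (.node (.node (.node (.node (.node (.leaf 4521984) (.leaf 123014143)) (.node (.leaf 55029173) (.leaf 0))) (.node (.node (.leaf 59744256) (.leaf 0)) (.node (.leaf 110705372) (.leaf 0)))) (.node (.node (.node (.leaf 36380672) (.leaf 166486016)) (.node (.leaf 77197232) (.leaf 0))) (.node (.node (.leaf 39084032) (.leaf 0)) (.node (.leaf 96493568) (.leaf 0))))) (.node (.node (.node (.node (.leaf 24010752) (.leaf 155635469)) (.node (.leaf 67572786) (.leaf 0))) (.node (.node (.leaf 61571596) (.leaf 0)) (.node (.leaf 142180352) (.leaf 0)))) (.node (.node (.node (.leaf 21127168) (.leaf 160021537)) (.node (.leaf 79528952) (.leaf 0))) (.node (.node (.leaf 49434433) (.leaf 0)) (.node (.leaf 136428222) (.leaf 0)))))))) (.node (.node (.node (.node (.node (.node (.node (.leaf 1179648) (.leaf 109092864)) (.node (.leaf 47652864) (.leaf 0))) (.node (.node (.leaf 52633600) (.leaf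 0)) (.node (.leaf 127202893) (.leaf 0)))) (.node (.node (.node (.leaf 11960320) (.leaf 130834432)) (.node (.leaf 113696768) (.leaf 0))) (.node (.node (.leaf 74719232) (.leaf 0)) (.node (.leaf 111183984) (.leaf 0))))) (.node (.node (.node (.node (.leaf 6537216) (.leaf 122863616)) (.node (.leaf 104472576) (.leaf 0))) (.node (.node (.leaf 50196935) (.leaf 0)) (.node (.leaf 83116032) (.leaf 0)))) (.node (.node (.node (.leaf 40828928) (.leaf 145702912)) (.node (.leaf 122281984) (.leaf 0))) (.node (.node (.leaf 49831936) (.leaf 0)) (.node (.leaf 99680256) (.leaf 0)))))) (.node (.node (.node (.node (.node (.leaf 9592832) (.leaf 113893376)) (.node (.leaf 51027968) (.leaf 0))) (.node (.node (.leaf 26230784) (.leaf 0)) (.node (.leaf 134053888) (.leaf 0)))) (.node (.node (.node (.leaf 34824192) (.leaf 151070874)) (.node (.leaf 118112256) (.leaf 0))) (.node (.node (.leaf 75692268) (.leaf 0)) (.node (.leaf 95404032) (.leaf 0))))) (.node (.node (.node (.node (.leaf 9281536) (.leaf 162750464)) (.node (.leaf 109297664)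 (.leaf 0))) (.node (.node (.leaf 32120832) (.leaf 0)) (.node (.leaf 87179264) (.leaf 0)))) (.node (.node (.node (.leaf 46850048) (.leaf 155099136)) (.node (.leaf 126410752) (.leaf 0))) (.node (.node (.leaf 90144768) (.leaf 0)) (.node (.leaf 104202240) (.leaf 0))))))) (.node (.node (.node (.node (.node (.node (.leaf 6307840) (.leaf 134137670)) (.node (.leaf 49364992) (.leaf 0))) (.node (.node (.leaf 24707072) (.leaf 0)) (.node (.leaf 132300800) (.leaf 0)))) (.node (.node (.node (.leaf 31784960) (.leaf 134037504)) (.node (.leaf 111502156) (.leaf 0))) (.node (.node (.leaf 36700160) (.leaf 0)) (.node (.leaf 114364384) (.leaf 0))))) (.node (.node (.node (.node (.leaf 7905280) (.leaf 121905152)) (.node (.leaf 106995712) (.leaf 0))) (.node (.node (.leaf 66781184) (.leaf 0)) (.node (.leaf 133841667) (.leaf 0)))) (.node (.node (.node (.leaf 43827200) (.leaf 167649280)) (.node (.leaf 122309735) (.leaf 0))) (.node (.node (.leaf 42852352) (.leaf 0)) (.node (.leaf 152264704) (.leaf 0)))))) (.node (.node (.node (.node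 (.node (.leaf 12787712) (.leaf 116498432)) (.node (.leaf 52682752) (.leaf 0))) (.node (.node (.leaf 61218816) (.leaf 0)) (.node (.leaf 100882530) (.leaf 0)))) (.node (.node (.node (.leaf 37888000) (.leaf 166838272)) (.node (.leaf 120053760) (.leaf 0))) (.node (.node (.leaf 39804928) (.leaf 0)) (.node (.leaf 97542144) (.leaf 0))))) (.node (.node (.node (.node (.leaf 25559040) (.leaf 154920857)) (.node (.leaf 59383808) (.leaf 0))) (.node (.node (.leaf 33628160) (.leaf 0)) (.node (.leaf 139670695) (.leaf 0)))) (.node (.node (.node (.leaf 21831680) (.leaf 163790978)) (.node (.leaf 76773636) (.leaf 0))) (.node (.node (.leaf 92553216) (.leaf 0)) (.node (.leaf 106700800) (.leaf 0))))))))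

def e1T104 : NT := .node (.node (.node (.node (.node (.node (.node (.node (.leaf 1368064) (.leaf 155664384)) (.node (.leaf 93904896) (.leaf 0))) (.node (.node (.leaf 22568960) (.leaf 0)) (.node (.leaf 74637312) (.leaf 0)))) (.node (.node (.node (.leaf 11280384) (.leaf 159500504)) (.node (.leaf 98948505) (.leaf 0))) (.node (.node (.leaf 73392128) (.leaf 0)) (.node (.leaf 139753049) (.leaf 0))))) (.node (.node (.node (.node (.leaf 5865472) (.leaf 144305085)) (.node (.leaf 53501952) (.leaf 0))) (.node (.node (.leaf 62619648) (.leaf 0)) (.node (.leaf 136798208) (.leaf 0)))) (.node (.node (.node (.leaf 25678002) (.leaf 155148535)) (.node (.leaf 67321856) (.leaf 0))) (.node (.node (.leaf 40566784) (.leaf 0)) (.node (.leaf 150102016) (.leaf 0)))))) (.node (.node (.node (.node (.node (.leaf 3178496) (.leaf 155428790)) (.node (.leaf 50208768) (.leaf 0))) (.node (.node (.leaf 56762368) (.leaf 0)) (.node (.leaf 133185536) (.leaf 0)))) (.node (.node (.node (.leaf 33333248) (.leaf 159896575)) (.node (.leaf 63799296)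 (.leaf 0))) (.node (.node (.leaf 78651392) (.leaf 0)) (.node (.leaf 94388224) (.leaf 0))))) (.node (.node (.node (.node (.leaf 20938752) (.leaf 137720982)) (.node (.leaf 108167168) (.leaf 0))) (.node (.node (.leaf 68206592) (.leaf 0)) (.node (.leaf 86196224) (.leaf 0)))) (.node (.node (.node (.leaf 45326336) (.leaf 152682496)) (.node (.leaf 70975488) (.leaf 0))) (.node (.node (.leaf 64218643) (.leaf 0)) (.node (.leaf 103178240) (.leaf 0))))))) (.node (.node (.node (.node (.node (.node (.leaf 4685824) (.leaf 110346240)) (.node (.leaf 66220531) (.leaf 0))) (.node (.node (.leaf 23986176) (.leaf 0)) (.node (.leaf 131375104) (.leaf 0)))) (.node (.node (.node (.leaf 12640256) (.leaf 132374528)) (.node (.leaf 86972628) (.leaf 0))) (.node (.node (.leaf 76070912) (.leaf 0)) (.node (.leaf 145260544) (.leaf 0))))) (.node (.node (.node (.node (.leaf 17719296) (.leaf 120635392)) (.node (.leaf 96405151) (.leaf 0))) (.node (.node (.leaf 29900800) (.leaf 0)) (.node (.leaf 138510336) (.leaf 0)))) (.node (.node (.node (.leaf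 18317312) (.leaf 147783680)) (.node (.leaf 122794779) (.leaf 0))) (.node (.node (.leaf 42082304) (.leaf 0)) (.node (.leaf 100794368) (.leaf 0)))))) (.node (.node (.node (.node (.node (.leaf 6931356) (.leaf 115228672)) (.node (.leaf 101081088) (.leaf 0))) (.node (.node (.leaf 28934144) (.leaf 0)) (.node (.leaf 134979584) (.leaf 0)))) (.node (.node (.node (.leaf 36397056) (.leaf 139599872)) (.node (.leaf 65585152) (.leaf 0))) (.node (.node (.leaf 81281024) (.leaf 0)) (.node (.leaf 140293720) (.leaf 0))))) (.node (.node (.node (.node (.leaf 9961472) (.leaf 126132224)) (.node (.leaf 58548224) (.leaf 0))) (.node (.node (.leaf 32866304) (.leaf 0)) (.node (.leaf 142196736) (.leaf 0)))) (.node (.node (.node (.leaf 48291840) (.leaf 158228480)) (.node (.leaf 72818688) (.leaf 0))) (.node (.node (.leaf 45244416) (.leaf 0)) (.node (.leaf 154329088) (.leaf 0)))))))) (.node (.node (.node (.node (.node (.node (.node (.leaf 3039232) (.leaf 128969714)) (.node (.leaf 59599271) (.leaf 0))) (.node (.node (.leaf 52649984) (.leaf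 0)) (.node (.leaf 130301952) (.leaf 0)))) (.node (.node (.node (.leaf 28647424) (.leaf 141203027)) (.node (.leaf 64357177) (.leaf 0))) (.node (.node (.leaf 35135488) (.leaf 0)) (.node (.leaf 131848849) (.leaf 0))))) (.node (.node (.node (.node (.leaf 16048128) (.leaf 119275520)) (.node (.leaf 63789191) (.leaf 0))) (.node (.node (.leaf 29163520) (.leaf 0)) (.node (.leaf 117438247) (.leaf 0)))) (.node (.node (.node (.leaf 40845312) (.leaf 167272448)) (.node (.leaf 68173824) (.leaf 0))) (.node (.node (.leaf 41304064) (.leaf 0)) (.node (.leaf 141307874) (.leaf 0)))))) (.node (.node (.node (.node (.node (.leaf 3858432) (.leaf 132337359)) (.node (.leaf 81759019) (.leaf 0))) (.node (.node (.leaf 58310656) (.leaf 0)) (.node (.leaf 134070272) (.leaf 0)))) (.node (.node (.node (.leaf 34840576) (.leaf 137592832)) (.node (.leaf 77189459) (.leaf 0))) (.node (.node (.leaf 80003072) (.leaf 0)) (.node (.leaf 147775488) (.leaf 0))))) (.node (.node (.node (.node (.leaf 22437888) (.leaf 162758656)) (.node (.leaf 58782124)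 (.leaf 0))) (.node (.node (.leaf 69427200) (.leaf 0)) (.node (.leaf 141287424) (.leaf 0)))) (.node (.node (.node (.leaf 20430848) (.leaf 155131904)) (.node (.leaf 125246062) (.leaf 0))) (.node (.node (.leaf 90161152) (.leaf 0)) (.node (.leaf 153632768) (.leaf 0))))))) (.node (.node (.node (.node (.node (.node (.leaf 2506752) (.leaf 144280342)) (.node (.leaf 85189798) (.leaf 0))) (.node (.node (.leaf 55435264) (.leaf 0)) (.node (.leaf 77561856) (.leaf 0)))) (.node (.node (.node (.leaf 13328384) (.leaf 165412864)) (.node (.leaf 115916800) (.leaf 0))) (.node (.node (.leaf 77373440) (.leaf 0)) (.node (.leaf 93306880) (.leaf 0))))) (.node (.node (.node (.node (.leaf 19333120) (.leaf 121913344)) (.node (.leaf 56033280) (.leaf 0))) (.node (.node (.leaf 66789376) (.leaf 0)) (.node (.leaf 85155840) (.leaf 0)))) (.node (.node (.node (.leaf 43843584) (.leaf 167657472)) (.node (.leaf 116660467) (.leaf 0))) (.node (.node (.leaf 87597056) (.leaf 0)) (.node (.leaf 101982208) (.leaf 0)))))) (.node (.node (.node (.node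 (.node (.leaf 5185536) (.leaf 144983564)) (.node (.leaf 63639363) (.leaf 0))) (.node (.node (.leaf 27688960) (.leaf 0)) (.node (.leaf 81182720) (.leaf 0)))) (.node (.node (.node (.leaf 37904384) (.leaf 141508608)) (.node (.leaf 120070144) (.leaf 0))) (.node (.node (.leaf 82608128) (.leaf 0)) (.node (.leaf 130483862) (.leaf 0))))) (.node (.node (.node (.node (.leaf 10625024) (.leaf 148452901)) (.node (.leaf 111525888) (.leaf 0))) (.node (.node (.leaf 72032256) (.leaf 0)) (.node (.leaf 89194496) (.leaf 0)))) (.node (.node (.node (.leaf 49758208) (.leaf 167677632)) (.node (.leaf 128450560) (.leaf 0))) (.node (.node (.leaf 92569600) (.leaf 0)) (.node (.leaf 122040893) (.leaf 0))))))))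

def e1T105 : NT := .node (.node (.node (.node (.node (.node (.node (.node (.leaf 1384448) (.leaf 155672576)) (.node (.leaf 93913088) (.leaf 0))) (.node (.node (.leaf 51200000) (.leaf 0)) (.node (.leaf 129400832) (.leaf 0)))) (.node (.node (.node (.leaf 27099136) (.leaf 129163264)) (.node (.leaf 60260352) (.leaf 0))) (.node (.node (.leaf 39875505) (.leaf 0)) (.node (.leaf 90185728) (.leaf 0))))) (.node (.node (.node (.node (.leaf 14417920) (.leaf 117932032)) (.node (.leaf 92544069) (.leaf 0))) (.node (.node (.leaf 28450816) (.leaf 0)) (.node (.leaf 82165760) (.leaf 0)))) (.node (.node (.node (.leaf 16916480) (.leaf 143572992)) (.node (.leaf 82303176) (.leaf 0))) (.node (.node (.leaf 83910656) (.leaf 0)) (.node (.leaf 98615296) (.leaf 0)))))) (.node (.node (.node (.node (.node (.leaf 7979008) (.leaf 112836608)) (.node (.leaf 59832571) (.leaf 0))) (.node (.node (.leaf 25477120) (.leaf 0)) (.node (.leaf 78397440) (.leaf 0)))) (.node (.node (.node (.leaf 33349632) (.leaf 154647406)) (.node (.leaf 116998144)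 (.leaf 0))) (.node (.node (.leaf 37519360) (.leaf 0)) (.node (.leaf 95432799) (.leaf 0))))) (.node (.node (.node (.node (.leaf 20955136) (.leaf 123371520)) (.node (.leaf 56909824) (.leaf 0))) (.node (.node (.leaf 31375360) (.leaf 0)) (.node (.leaf 140484608) (.leaf 0)))) (.node (.node (.node (.leaf 19742720) (.leaf 167821312)) (.node (.leaf 125411328) (.leaf 0))) (.node (.node (.leaf 43663360) (.leaf 0)) (.node (.leaf 103186432) (.leaf 0))))))) (.node (.node (.node (.node (.node (.node (.leaf 1851392) (.leaf 134203281)) (.node (.leaf 48553984) (.leaf 0))) (.node (.node (.leaf 54059008) (.leaf 0)) (.node (.leaf 131391488) (.leaf 0)))) (.node (.node (.node (.leaf 30203904) (.leaf 158109546)) (.node (.leaf 114835456) (.leaf 0))) (.node (.node (.leaf 35930112) (.leaf 0)) (.node (.leaf 92389376) (.leaf 0))))) (.node (.node (.node (.node (.leaf 7233536) (.leaf 160717477)) (.node (.leaf 55189504) (.leaf 0))) (.node (.node (.leaf 65380352) (.leaf 0)) (.node (.leaf 129054165) (.leaf 0)))) (.node (.node (.node (.leaf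 42336256) (.leaf 158722121)) (.node (.leaf 69156864) (.leaf 0))) (.node (.node (.leaf 86327296) (.leaf 0)) (.node (.leaf 137319571) (.leaf 0)))))) (.node (.node (.node (.node (.node (.leaf 4530176) (.leaf 115236864)) (.node (.leaf 101097472) (.leaf 0))) (.node (.node (.leaf 26959872) (.leaf 0)) (.node (.leaf 80232448) (.leaf 0)))) (.node (.node (.node (.leaf 15474688) (.leaf 166502400)) (.node (.leaf 119152640) (.leaf 0))) (.node (.node (.leaf 81297408) (.leaf 0)) (.node (.leaf 148619264) (.leaf 0))))) (.node (.node (.node (.node (.leaf 24035328) (.leaf 132114255)) (.node (.leaf 110460928) (.leaf 0))) (.node (.node (.leaf 70746112) (.leaf 0)) (.node (.leaf 88154112) (.leaf 0)))) (.node (.node (.node (.leaf 21135360) (.leaf 165374775)) (.node (.leaf 72826880) (.leaf 0))) (.node (.node (.leaf 91324416) (.leaf 0)) (.node (.leaf 105480192) (.leaf 0)))))))) (.node (.node (.node (.node (.node (.node (.node (.leaf 1187840) (.leaf 109117440)) (.node (.leaf 47661056) (.leaf 0))) (.node (.node (.leaf 23306240) (.leaf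 0)) (.node (.leaf 75636736) (.leaf 0)))) (.node (.node (.node (.leaf 28663808) (.leaf 162970304)) (.node (.leaf 61227008) (.leaf 0))) (.node (.node (.leaf 74743808) (.leaf 0)) (.node (.leaf 119450884) (.leaf 0))))) (.node (.node (.node (.node (.leaf 16064512) (.leaf 160776192)) (.node (.leaf 54353920) (.leaf 0))) (.node (.node (.leaf 64020480) (.leaf 0)) (.node (.leaf 99324062) (.leaf 0)))) (.node (.node (.node (.leaf 17620992) (.leaf 167280640)) (.node (.leaf 68182016) (.leaf 0))) (.node (.node (.leaf 85147648) (.leaf 0)) (.node (.leaf 99696640) (.leaf 0)))))) (.node (.node (.node (.node (.node (.leaf 9617408) (.leaf 113901568)) (.node (.leaf 51036160) (.leaf 0))) (.node (.node (.leaf 26238976) (.leaf 0)) (.node (.leaf 134078464) (.leaf 0)))) (.node (.node (.node (.leaf 14778368) (.leaf 156182453)) (.node (.leaf 64675840) (.leaf 0))) (.node (.node (.leaf 80019456) (.leaf 0)) (.node (.leaf 133949869) (.leaf 0))))) (.node (.node (.node (.node (.leaf 22454272) (.leaf 162766848)) (.node (.leaf 57729024) (.leaf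 0))) (.node (.node (.leaf 69443584) (.leaf 0)) (.node (.leaf 141295616) (.leaf 0)))) (.node (.node (.node (.leaf 46874624) (.leaf 155205632)) (.node (.leaf 126427136) (.leaf 0))) (.node (.node (.leaf 90177536) (.leaf 0)) (.node (.leaf 104210432) (.leaf 0))))))) (.node (.node (.node (.node (.node (.node (.leaf 6332416) (.leaf 111648768)) (.node (.leaf 49381376) (.leaf 0))) (.node (.node (.leaf 55451648) (.leaf 0)) (.node (.leaf 132317184) (.leaf 0)))) (.node (.node (.node (.leaf 31809536) (.leaf 134062080)) (.node (.leaf 115933184) (.leaf 0))) (.node (.node (.leaf 55603160) (.leaf 0)) (.node (.leaf 146186240) (.leaf 0))))) (.node (.node (.node (.node (.leaf 19349504) (.leaf 161759232)) (.node (.leaf 84275593) (.leaf 0))) (.node (.node (.leaf 30646272) (.leaf 0)) (.node (.leaf 139476992) (.leaf 0)))) (.node (.node (.node (.leaf 19038208) (.leaf 150388736)) (.node (.leaf 124354560) (.leaf 0))) (.node (.node (.leaf 87613440) (.leaf 0)) (.node (.leaf 152281088) (.leaf 0)))))) (.node (.node (.node (.node (.node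 (.leaf 12812288) (.leaf 137512692)) (.node (.leaf 52690944) (.leaf 0))) (.node (.node (.leaf 61243392) (.leaf 0)) (.node (.leaf 135921664) (.leaf 0)))) (.node (.node (.node (.leaf 37920768) (.leaf 141557760)) (.node (.leaf 120078336) (.leaf 0))) (.node (.node (.leaf 75082172) (.leaf 0)) (.node (.leaf 149372928) (.leaf 0))))) (.node (.node (.node (.node (.leaf 25583616) (.leaf 127623168)) (.node (.leaf 59400192) (.leaf 0))) (.node (.node (.leaf 72048640) (.leaf 0)) (.node (.leaf 90588236) (.leaf 0)))) (.node (.node (.node (.leaf 21848064) (.leaf 162889728)) (.node (.leaf 73785344) (.leaf 0))) (.node (.node (.leaf 46022656) (.leaf 0)) (.node (.leaf 154968064) (.leaf 0))))))))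

def e1T106 : NT := .node (.node (.node (.node (.node (.node (.node (.node (.leaf 540672) (.leaf 107888640)) (.node (.leaf 46817280) (.leaf 0))) (.node (.node (.leaf 51216384) (.leaf 0)) (.node (.leaf 91932964) (.leaf 0)))) (.node (.node (.node (.leaf 27115520) (.leaf 148312628)) (.node (.leaf 112599040) (.leaf 0))) (.node (.node (.leaf 34414592) (.leaf 0)) (.node (.leaf 143753216) (.leaf 0))))) (.node (.node (.node (.node (.leaf 14434304) (.leaf 117948416)) (.node (.leaf 97416654) (.leaf 0))) (.node (.node (.leaf 62644224) (.leaf 0)) (.node (.leaf 100242847) (.leaf 0)))) (.node (.node (.node (.leaf 39387136) (.leaf 155534577)) (.node (.leaf 67338240) (.leaf 0))) (.node (.node (.leaf 83927040) (.leaf 0)) (.node (.leaf 150118400) (.leaf 0)))))) (.node (.node (.node (.node (.node (.leaf 5230770) (.leaf 157990912)) (.node (.leaf 50216960) (.leaf 0))) (.node (.node (.leaf 56778752) (.leaf 0)) (.node (.leaf 117674578) (.leaf 0)))) (.node (.node (.node (.leaf 14065664) (.leaf 165756928)) (.node (.leaf 69616747)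 (.leaf 0))) (.node (.node (.leaf 78667776) (.leaf 0)) (.node (.leaf 94396416) (.leaf 0))))) (.node (.node (.node (.node (.leaf 8609792) (.leaf 147424919)) (.node (.leaf 72904870) (.leaf 0))) (.node (.node (.leaf 68231168) (.leaf 0)) (.node (.leaf 86212608) (.leaf 0)))) (.node (.node (.node (.leaf 45350912) (.leaf 152707072)) (.node (.leaf 70983680) (.leaf 0))) (.node (.node (.leaf 77399267) (.leaf 0)) (.node (.leaf 152911872) (.leaf 0))))))) (.node (.node (.node (.node (.node (.node (.leaf 4710400) (.leaf 110362624)) (.node (.leaf 72480892) (.leaf 0))) (.node (.node (.leaf 54075392) (.leaf 0)) (.node (.leaf 76652544) (.leaf 0)))) (.node (.node (.node (.leaf 30220288) (.leaf 132415488)) (.node (.leaf 62144512) (.leaf 0))) (.node (.node (.leaf 64617138) (.leaf 0)) (.node (.leaf 145285120) (.leaf 0))))) (.node (.node (.node (.node (.leaf 17743872) (.leaf 120643584)) (.node (.leaf 105799680) (.leaf 0))) (.node (.node (.leaf 65396736) (.leaf 0)) (.node (.leaf 84172800) (.leaf 0)))) (.node (.node (.node (.leaf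 18333696) (.leaf 147824640)) (.node (.leaf 69165056) (.leaf 0))) (.node (.node (.leaf 86343680) (.leaf 0)) (.node (.leaf 112902959) (.leaf 0)))))) (.node (.node (.node (.node (.node (.leaf 11231232) (.leaf 159105024)) (.node (.leaf 101113856) (.leaf 0))) (.node (.node (.leaf 59777024) (.leaf 0)) (.node (.leaf 135004160) (.leaf 0)))) (.node (.node (.node (.leaf 36421632) (.leaf 142388607)) (.node (.leaf 65593344) (.leaf 0))) (.node (.node (.leaf 81305600) (.leaf 0)) (.node (.leaf 96534528) (.leaf 0))))) (.node (.node (.node (.node (.leaf 9969664) (.leaf 126148608)) (.node (.leaf 110469120) (.leaf 0))) (.node (.node (.leaf 32874496) (.leaf 0)) (.node (.leaf 88162304) (.leaf 0)))) (.node (.node (.node (.leaf 48308224) (.leaf 158294016)) (.node (.leaf 127467520) (.leaf 0))) (.node (.node (.leaf 45252608) (.leaf 0)) (.node (.leaf 154353664) (.leaf 0)))))))) (.node (.node (.node (.node (.node (.node (.node (.leaf 3063808) (.leaf 150995917)) (.node (.leaf 70035277) (.leaf 0))) (.node (.node (.leaf 52674560) (.leaf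 0)) (.node (.leaf 120838216) (.leaf 0)))) (.node (.node (.node (.leaf 11976704) (.leaf 130891776)) (.node (.leaf 113713152) (.leaf 0))) (.node (.node (.leaf 35151872) (.leaf 0)) (.node (.leaf 91250688) (.leaf 0))))) (.node (.node (.node (.node (.leaf 6553600) (.leaf 119283712)) (.node (.leaf 104497152) (.leaf 0))) (.node (.node (.leaf 29179904) (.leaf 0)) (.node (.leaf 131228482) (.leaf 0)))) (.node (.node (.node (.leaf 40869888) (.leaf 145784832)) (.node (.leaf 69553934) (.leaf 0))) (.node (.node (.leaf 46356789) (.leaf 0)) (.node (.leaf 150904832) (.leaf 0)))))) (.node (.node (.node (.node (.node (.leaf 3866624) (.leaf 115968559)) (.node (.leaf 51052544) (.leaf 0))) (.node (.node (.leaf 58335232) (.leaf 0)) (.node (.leaf 79306752) (.leaf 0)))) (.node (.node (.node (.leaf 34865152) (.leaf 137601024)) (.node (.leaf 64684032) (.leaf 0))) (.node (.node (.leaf 38346752) (.leaf 0)) (.node (.leaf 100012020) (.leaf 0))))) (.node (.node (.node (.node (.leaf 9297920) (.leaf 154951812)) (.node (.leaf 69779523)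 (.leaf 0))) (.node (.node (.leaf 32137216) (.leaf 0)) (.node (.leaf 87195648) (.leaf 0)))) (.node (.node (.node (.leaf 20439040) (.leaf 155230208)) (.node (.leaf 126443520) (.leaf 0))) (.node (.node (.leaf 44515328) (.leaf 0)) (.node (.leaf 104218624) (.leaf 0))))))) (.node (.node (.node (.node (.node (.node (.leaf 2523136) (.leaf 157491200)) (.node (.leaf 52340614) (.leaf 0))) (.node (.node (.leaf 24723456) (.leaf 0)) (.node (.leaf 117482523) (.leaf 0)))) (.node (.node (.node (.leaf 31825920) (.leaf 134086656)) (.node (.leaf 62971904) (.leaf 0))) (.node (.node (.leaf 36716544) (.leaf 0)) (.node (.leaf 146202624) (.leaf 0))))) (.node (.node (.node (.node (.leaf 7921664) (.leaf 141902428)) (.node (.leaf 84907611) (.leaf 0))) (.node (.node (.leaf 66813952) (.leaf 0)) (.node (.leaf 114182988) (.leaf 0)))) (.node (.node (.node (.leaf 43859968) (.leaf 150413312)) (.node (.leaf 124370944) (.leaf 0))) (.node (.node (.leaf 42868736) (.leaf 0)) (.node (.leaf 106631426) (.leaf 0)))))) (.node (.node (.node (.node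 (.node (.leaf 5201920) (.leaf 159621120)) (.node (.leaf 102227968) (.leaf 0))) (.node (.node (.leaf 27697152) (.leaf 0)) (.node (.leaf 81199104) (.leaf 0)))) (.node (.node (.node (.leaf 16179200) (.leaf 160487981)) (.node (.leaf 66510848) (.leaf 0))) (.node (.node (.leaf 39821312) (.leaf 0)) (.node (.leaf 97558528) (.leaf 0))))) (.node (.node (.node (.node (.leaf 10633216) (.leaf 159774666)) (.node (.leaf 111542272) (.leaf 0))) (.node (.node (.leaf 72065024) (.leaf 0)) (.node (.leaf 143024128) (.leaf 0)))) (.node (.node (.node (.leaf 49782784) (.leaf 166727868)) (.node (.leaf 128475136) (.leaf 0))) (.node (.node (.leaf 92585984) (.leaf 0)) (.node (.leaf 154984448) (.leaf 0))))))))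

def e1T107 : NT := .node (.node (.node (.node (.node (.node (.node (.node (.leaf 1400832) (.leaf 122385226)) (.node (.leaf 93929472) (.leaf 0))) (.node (.node (.leaf 51232768) (.leaf 0)) (.node (.leaf 129425408) (.leaf 0)))) (.node (.node (.node (.leaf 11296768) (.leaf 164012032)) (.node (.leaf 60276736) (.leaf 0))) (.node (.node (.leaf 73416704) (.leaf 0)) (.node (.leaf 90193920) (.leaf 0))))) (.node (.node (.node (.node (.leaf 5881856) (.leaf 135362380)) (.node (.leaf 53518336) (.leaf 0))) (.node (.node (.leaf 62652416) (.leaf 0)) (.node (.leaf 82190336) (.leaf 0)))) (.node (.node (.node (.leaf 16924672) (.leaf 145327182)) (.node (.leaf 117877698) (.leaf 0))) (.node (.node (.leaf 69009601) (.leaf 0)) (.node (.leaf 98631680) (.leaf 0)))))) (.node (.node (.node (.node (.node (.leaf 8003584) (.leaf 112852992)) (.node (.leaf 98680832) (.leaf 0))) (.node (.node (.leaf 56795136) (.leaf 0)) (.node (.leaf 78405632) (.leaf 0)))) (.node (.node (.node (.leaf 33366016) (.leaf 135700480)) (.node (.leaf 63840256)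 (.leaf 0))) (.node (.node (.leaf 78684160) (.leaf 0)) (.node (.leaf 147062784) (.leaf 0))))) (.node (.node (.node (.node (.leaf 20971520) (.leaf 123379712)) (.node (.leaf 108199936) (.leaf 0))) (.node (.node (.leaf 68239360) (.leaf 0)) (.node (.leaf 140500992) (.leaf 0)))) (.node (.node (.node (.leaf 45367296) (.leaf 163336344)) (.node (.leaf 125427712) (.leaf 0))) (.node (.node (.leaf 43687936) (.leaf 0)) (.node (.leaf 103211008) (.leaf 0))))))) (.node (.node (.node (.node (.node (.node (.leaf 1859584) (.leaf 156884992)) (.node (.leaf 96305152) (.leaf 0))) (.node (.node (.leaf 54083584) (.leaf 0)) (.node (.leaf 124487933) (.leaf 0)))) (.node (.node (.node (.leaf 12656640) (.leaf 162839570)) (.node (.leaf 114860032) (.leaf 0))) (.node (.node (.leaf 76095488) (.leaf 0)) (.node (.leaf 145301504) (.leaf 0))))) (.node (.node (.node (.node (.leaf 17760256) (.leaf 121055973)) (.node (.leaf 55205888) (.leaf 0))) (.node (.node (.leaf 29925376) (.leaf 0)) (.node (.leaf 89823628) (.leaf 0)))) (.node (.node (.node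 (.leaf 21305185) (.leaf 147832832)) (.node (.leaf 104821515) (.leaf 0))) (.node (.node (.leaf 42098688) (.leaf 0)) (.node (.leaf 100843520) (.leaf 0)))))) (.node (.node (.node (.node (.node (.leaf 6686921) (.leaf 115245056)) (.node (.leaf 51888128) (.leaf 0))) (.node (.node (.leaf 59793408) (.leaf 0)) (.node (.leaf 80257024) (.leaf 0)))) (.node (.node (.node (.leaf 36438016) (.leaf 157341118)) (.node (.leaf 91090888) (.leaf 0))) (.node (.node (.leaf 39108608) (.leaf 0)) (.node (.leaf 106869850) (.leaf 0))))) (.node (.node (.node (.node (.leaf 24059904) (.leaf 163168256)) (.node (.leaf 58564608) (.leaf 0))) (.node (.node (.leaf 70770688) (.leaf 0)) (.node (.leaf 88178688) (.leaf 0)))) (.node (.node (.node (.leaf 48324608) (.leaf 165634699)) (.node (.leaf 127483904) (.leaf 0))) (.node (.node (.leaf 91348992) (.leaf 0)) (.node (.leaf 128126035) (.leaf 0)))))))) (.node (.node (.node (.node (.node (.node (.node (.leaf 3080192) (.leaf 147280465)) (.node (.leaf 47677440) (.leaf 0))) (.node (.node (.leaf 23314432)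 (.leaf 0)) (.node (.leaf 75653120) (.leaf 0)))) (.node (.node (.node (.leaf 28688384) (.leaf 163604952)) (.node (.leaf 61235200) (.leaf 0))) (.node (.node (.leaf 74768384) (.leaf 0)) (.node (.leaf 107659986) (.leaf 0))))) (.node (.node (.node (.node (.leaf 16089088) (.leaf 160800768)) (.node (.leaf 104513536) (.leaf 0))) (.node (.node (.leaf 64045056) (.leaf 0)) (.node (.leaf 137666560) (.leaf 0)))) (.node (.node (.node (.leaf 40886272) (.leaf 145793024)) (.node (.leaf 68198400) (.leaf 0))) (.node (.node (.leaf 41320448) (.leaf 0)) (.node (.leaf 128215642) (.leaf 0)))))) (.node (.node (.node (.node (.node (.leaf 9641984) (.leaf 113942528)) (.node (.leaf 99885056) (.leaf 0))) (.node (.node (.leaf 31481893) (.leaf 0)) (.node (.leaf 134094848) (.leaf 0)))) (.node (.node (.node (.leaf 14786560) (.leaf 145100134)) (.node (.leaf 111583709) (.leaf 0))) (.node (.node (.leaf 80044032) (.leaf 0)) (.node (.leaf 95436800) (.leaf 0))))) (.node (.node (.node (.node (.leaf 22478848) (.leaf 126389931)) (.node (.leaf 57745408)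 (.leaf 0))) (.node (.node (.leaf 69468160) (.leaf 0)) (.node (.leaf 141312000) (.leaf 0)))) (.node (.node (.node (.leaf 46891008) (.leaf 155271168)) (.node (.leaf 71950336) (.leaf 0))) (.node (.node (.leaf 83108253) (.leaf 0)) (.node (.leaf 146791349) (.leaf 0))))))) (.node (.node (.node (.node (.node (.node (.leaf 6356992) (.leaf 157507584)) (.node (.leaf 49389568) (.leaf 0))) (.node (.node (.leaf 55459840) (.leaf 0)) (.node (.leaf 77578240) (.leaf 0)))) (.node (.node (.node (.leaf 13344768) (.leaf 163828370)) (.node (.leaf 115949568) (.leaf 0))) (.node (.node (.leaf 77406208) (.leaf 0)) (.node (.leaf 146219008) (.leaf 0))))) (.node (.node (.node (.node (.leaf 19374080) (.leaf 121937920)) (.node (.leaf 56049664) (.leaf 0))) (.node (.node (.leaf 66830336) (.leaf 0)) (.node (.leaf 85180416) (.leaf 0)))) (.node (.node (.node (.leaf 19046400) (.leaf 162199081)) (.node (.leaf 84692335) (.leaf 0))) (.node (.node (.leaf 87629824) (.leaf 0)) (.node (.leaf 101998592) (.leaf 0)))))) (.node (.node (.node (.node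 (.node (.leaf 12836864) (.leaf 116531200)) (.node (.leaf 102244352) (.leaf 0))) (.node (.node (.leaf 31821760) (.leaf 0)) (.node (.leaf 105055376) (.leaf 0)))) (.node (.node (.node (.leaf 37937152) (.leaf 156342386)) (.node (.leaf 92107120) (.leaf 0))) (.node (.node (.leaf 82640896) (.leaf 0)) (.node (.leaf 103600433) (.leaf 0))))) (.node (.node (.node (.node (.leaf 25608192) (.leaf 127639552)) (.node (.leaf 111558656) (.leaf 0))) (.node (.node (.leaf 72081408) (.leaf 0)) (.node (.leaf 89235456) (.leaf 0)))) (.node (.node (.node (.leaf 21856256) (.leaf 165154880)) (.node (.leaf 128491520) (.leaf 0))) (.node (.node (.leaf 92602368) (.leaf 0)) (.node (.leaf 106733568) (.leaf 0))))))))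

def e1T108 : NT := .node (.node (.node (.node (.node (.node (.node (.node (.leaf 548864) (.leaf 107913216)) (.node (.leaf 93945856) (.leaf 0))) (.node (.node (.leaf 51249152) (.leaf 0)) (.node (.leaf 74670080) (.leaf 0)))) (.node (.node (.node (.leaf 27140096) (.leaf 147081854)) (.node (.leaf 112623616) (.leaf 0))) (.node (.node (.leaf 34422784) (.leaf 0)) (.node (.leaf 135533314) (.leaf 0))))) (.node (.node (.node (.node (.leaf 14458880) (.leaf 160186368)) (.node (.leaf 103358464) (.leaf 0))) (.node (.node (.leaf 62668800) (.leaf 0)) (.node (.leaf 85331627) (.leaf 0)))) (.node (.node (.node (.leaf 26343611) (.leaf 166024297)) (.node (.leaf 115926241) (.leaf 0))) (.node (.node (.leaf 40591360) (.leaf 0)) (.node (.leaf 98639872) (.leaf 0)))))) (.node (.node (.node (.node (.node (.leaf 3203072) (.leaf 154637235)) (.node (.leaf 88648892) (.leaf 0))) (.node (.node (.leaf 25493504) (.leaf 0)) (.node (.leaf 133210112) (.leaf 0)))) (.node (.node (.node (.leaf 33382400) (.leaf 165765120)) (.node (.leaf 117022720)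 (.leaf 0))) (.node (.node (.leaf 37535744) (.leaf 0)) (.node (.leaf 94412800) (.leaf 0))))) (.node (.node (.node (.node (.leaf 8617984) (.leaf 123420672)) (.node (.leaf 56926208) (.leaf 0))) (.node (.node (.leaf 31391744) (.leaf 0)) (.node (.leaf 86220800) (.leaf 0)))) (.node (.node (.node (.leaf 19759104) (.leaf 164854397)) (.node (.leaf 71000064) (.leaf 0))) (.node (.node (.leaf 88932352) (.leaf 0)) (.node (.leaf 152928256) (.leaf 0))))))) (.node (.node (.node (.node (.node (.node (.leaf 4734976) (.leaf 152340777)) (.node (.leaf 48570368) (.leaf 0))) (.node (.node (.leaf 24018944) (.leaf 0)) (.node (.leaf 82626976) (.leaf 0)))) (.node (.node (.node (.leaf 30244864) (.leaf 138040521)) (.node (.leaf 114876416) (.leaf 0))) (.node (.node (.leaf 45196854) (.leaf 0)) (.node (.leaf 145317888) (.leaf 0))))) (.node (.node (.node (.node (.leaf 7249920) (.leaf 128033506)) (.node (.leaf 105807872) (.leaf 0))) (.node (.node (.leaf 65421312) (.leaf 0)) (.node (.leaf 84180992) (.leaf 0)))) (.node (.node (.node (.leaf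 18341888) (.leaf 166142225)) (.node (.leaf 116353473) (.leaf 0))) (.node (.node (.leaf 86360064) (.leaf 0)) (.node (.leaf 151592960) (.leaf 0)))))) (.node (.node (.node (.node (.node (.leaf 4546560) (.leaf 115253248)) (.node (.leaf 101130240) (.leaf 0))) (.node (.node (.leaf 26976256) (.leaf 0)) (.node (.leaf 135020544) (.leaf 0)))) (.node (.node (.node (.leaf 15491072) (.leaf 139649024)) (.node (.leaf 71459230) (.leaf 0))) (.node (.node (.leaf 69936549) (.leaf 0)) (.node (.leaf 138708733) (.leaf 0))))) (.node (.node (.node (.node (.leaf 24076288) (.leaf 133505598)) (.node (.leaf 58572800) (.leaf 0))) (.node (.node (.leaf 70787072) (.leaf 0)) (.node (.leaf 102700730) (.leaf 0)))) (.node (.node (.node (.leaf 21151744) (.leaf 158400512)) (.node (.leaf 109071760) (.leaf 0))) (.node (.node (.leaf 91365376) (.leaf 0)) (.node (.leaf 140116837) (.leaf 0)))))))) (.node (.node (.node (.node (.node (.node (.node (.leaf 1204224) (.leaf 156270592)) (.node (.leaf 95092736) (.leaf 0))) (.node (.node (.leaf 52699136)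 (.leaf 0)) (.node (.leaf 130318336) (.leaf 0)))) (.node (.node (.node (.leaf 28704768) (.leaf 130908160)) (.node (.leaf 108490166) (.leaf 0))) (.node (.node (.leaf 35160064) (.leaf 0)) (.node (.leaf 141482346) (.leaf 0))))) (.node (.node (.node (.node (.leaf 6561792) (.leaf 158668156)) (.node (.leaf 54370304) (.leaf 0))) (.node (.node (.leaf 35353654) (.leaf 0)) (.node (.leaf 83156992) (.leaf 0)))) (.node (.node (.node (.leaf 17637376) (.leaf 145801216)) (.node (.leaf 91181803) (.leaf 0))) (.node (.node (.leaf 85172224) (.leaf 0)) (.node (.leaf 129183952) (.leaf 0)))))) (.node (.node (.node (.node (.node (.leaf 6234112) (.leaf 113950720)) (.node (.leaf 59062646) (.leaf 0))) (.node (.node (.leaf 26255360) (.leaf 0)) (.node (.leaf 134103040) (.leaf 0)))) (.node (.node (.node (.leaf 26266448) (.leaf 137617408)) (.node (.leaf 97606718) (.leaf 0))) (.node (.node (.leaf 38354944) (.leaf 0)) (.node (.leaf 147791872) (.leaf 0))))) (.node (.node (.node (.node (.leaf 22495232) (.leaf 124739584)) (.node (.leaf 109330432)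 (.leaf 0))) (.node (.node (.leaf 69484544) (.leaf 0)) (.node (.leaf 87212032) (.leaf 0)))) (.node (.node (.node (.leaf 46907392) (.leaf 155320320)) (.node (.leaf 96257657) (.leaf 0))) (.node (.node (.leaf 90210304) (.leaf 0)) (.node (.leaf 153649152) (.leaf 0))))))) (.node (.node (.node (.node (.node (.node (.leaf 6373376) (.leaf 111665152)) (.node (.leaf 97476608) (.leaf 0))) (.node (.node (.leaf 24739840) (.leaf 0)) (.node (.leaf 132341760) (.leaf 0)))) (.node (.node (.node (.leaf 31842304) (.leaf 161047489)) (.node (.leaf 62980096) (.leaf 0))) (.node (.node (.leaf 36732928) (.leaf 0)) (.node (.leaf 93331456) (.leaf 0))))) (.node (.node (.node (.node (.leaf 19390464) (.leaf 151102924)) (.node (.leaf 99412718) (.leaf 0))) (.node (.node (.leaf 30662656) (.leaf 0)) (.node (.leaf 139501568) (.leaf 0)))) (.node (.node (.node (.leaf 43884544) (.leaf 167028702)) (.node (.leaf 70082560) (.leaf 0))) (.node (.node (.leaf 87646208) (.leaf 0)) (.node (.leaf 148423167) (.leaf 0)))))) (.node (.node (.node (.node (.node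 (.leaf 12853248) (.leaf 116539392)) (.node (.leaf 52707328) (.leaf 0))) (.node (.node (.leaf 61259776) (.leaf 0)) (.node (.leaf 119998348) (.leaf 0)))) (.node (.node (.node (.leaf 16187392) (.leaf 141582336)) (.node (.leaf 120094720) (.leaf 0))) (.node (.node (.leaf 39829504) (.leaf 0)) (.node (.leaf 123670707) (.leaf 0))))) (.node (.node (.node (.node (.leaf 25624576) (.leaf 127655936)) (.node (.leaf 59424768) (.leaf 0))) (.node (.node (.leaf 72097792) (.leaf 0)) (.node (.leaf 103796925) (.leaf 0)))) (.node (.node (.node (.leaf 49799168) (.leaf 167978317)) (.node (.leaf 73801728) (.leaf 0))) (.node (.node (.leaf 56951882) (.leaf 0)) (.node (.leaf 106749952) (.leaf 0))))))))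

def e1T109 : NT := .node (.node (.node (.node (.node (.node (.node (.node (.leaf 1425408) (.leaf 155680768)) (.node (.leaf 46833664) (.leaf 0))) (.node (.node (.leaf 51265536) (.leaf 0)) (.node (.leaf 129441792) (.leaf 0)))) (.node (.node (.node (.leaf 27156480) (.leaf 129228800)) (.node (.leaf 112640000) (.leaf 0))) (.node (.node (.leaf 73441280) (.leaf 0)) (.node (.leaf 90202112) (.leaf 0))))) (.node (.node (.node (.node (.leaf 14475264) (.leaf 117972992)) (.node (.leaf 53534720) (.leaf 0))) (.node (.node (.leaf 28475392) (.leaf 0)) (.node (.leaf 136830976) (.leaf 0)))) (.node (.node (.node (.leaf 16932864) (.leaf 167084032)) (.node (.leaf 67354624) (.leaf 0))) (.node (.node (.leaf 83951616) (.leaf 0)) (.node (.leaf 118034974) (.leaf 0)))))) (.node (.node (.node (.node (.node (.leaf 8028160) (.leaf 112861184)) (.node (.leaf 50233344) (.leaf 0))) (.node (.node (.leaf 56819712) (.leaf 0)) (.node (.leaf 78422016) (.leaf 0)))) (.node (.node (.node (.leaf 14082048) (.leaf 135716864)) (.node (.leaf 63848448)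 (.leaf 0))) (.node (.node (.leaf 78708736) (.leaf 0)) (.node (.leaf 94420992) (.leaf 0))))) (.node (.node (.node (.node (.leaf 20996096) (.leaf 123428864)) (.node (.leaf 108224512) (.leaf 0))) (.node (.node (.leaf 68263936) (.leaf 0)) (.node (.leaf 86237184) (.leaf 0)))) (.node (.node (.node (.leaf 33164932) (.leaf 152748032)) (.node (.leaf 125452288) (.leaf 0))) (.node (.node (.leaf 64434809) (.leaf 0)) (.node (.leaf 140179711) (.leaf 0))))))) (.node (.node (.node (.node (.node (.node (.leaf 4751360) (.leaf 110395392)) (.node (.leaf 96321536) (.leaf 0))) (.node (.node (.leaf 54108160) (.leaf 0)) (.node (.leaf 80118675) (.leaf 0)))) (.node (.node (.node (.leaf 30261248) (.leaf 165003264)) (.node (.leaf 62169088) (.leaf 0))) (.node (.node (.leaf 35954688) (.leaf 0)) (.node (.leaf 145334272) (.leaf 0))))) (.node (.node (.node (.node (.leaf 17784832) (.leaf 125139436)) (.node (.leaf 55214080) (.leaf 0))) (.node (.node (.leaf 65437696) (.leaf 0)) (.node (.leaf 95964200) (.leaf 0)))) (.node (.node (.node (.leaf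 29376798) (.leaf 154744788)) (.node (.leaf 69189632) (.leaf 0))) (.node (.node (.leaf 42106880) (.leaf 0)) (.node (.leaf 151601152) (.leaf 0)))))) (.node (.node (.node (.node (.node (.leaf 11264000) (.leaf 159129600)) (.node (.leaf 51904512) (.leaf 0))) (.node (.node (.leaf 26984448) (.leaf 0)) (.node (.leaf 135028736) (.leaf 0)))) (.node (.node (.node (.leaf 36462592) (.leaf 139681792)) (.node (.leaf 65609728) (.leaf 0))) (.node (.node (.leaf 81338368) (.leaf 0)) (.node (.leaf 126530252) (.leaf 0))))) (.node (.node (.node (.node (.leaf 9986048) (.leaf 126173184)) (.node (.leaf 110485504) (.leaf 0))) (.node (.node (.leaf 32890880) (.leaf 0)) (.node (.leaf 88203264) (.leaf 0)))) (.node (.node (.node (.leaf 48349184) (.leaf 160220949)) (.node (.leaf 72859648) (.leaf 0))) (.node (.node (.leaf 76246021) (.leaf 0)) (.node (.leaf 105537536) (.leaf 0)))))))) (.node (.node (.node (.node (.node (.node (.node (.leaf 3104768) (.leaf 137236687)) (.node (.leaf 47685632) (.leaf 0))) (.node (.node (.leaf 52715520) (.leaf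 0)) (.node (.leaf 130334720) (.leaf 0)))) (.node (.node (.node (.leaf 11993088) (.leaf 133526067)) (.node (.leaf 61251584) (.leaf 0))) (.node (.node (.leaf 74792960) (.leaf 0)) (.node (.leaf 91283456) (.leaf 0))))) (.node (.node (.node (.node (.leaf 16113664) (.leaf 131089113)) (.node (.leaf 54552340) (.leaf 0))) (.node (.node (.leaf 29196288) (.leaf 0)) (.node (.leaf 129071900) (.leaf 0)))) (.node (.node (.node (.leaf 40902656) (.leaf 166074306)) (.node (.leaf 68214784) (.leaf 0))) (.node (.node (.leaf 41328640) (.leaf 0)) (.node (.leaf 127955505) (.leaf 0)))))) (.node (.node (.node (.node (.node (.leaf 3883008) (.leaf 113958912)) (.node (.leaf 51068928) (.leaf 0))) (.node (.node (.leaf 58359808) (.leaf 0)) (.node (.leaf 79323136) (.leaf 0)))) (.node (.node (.node (.leaf 21207818) (.leaf 166117376)) (.node (.leaf 64700416) (.leaf 0))) (.node (.node (.leaf 47419801) (.leaf 0)) (.node (.leaf 102280312) (.leaf 0))))) (.node (.node (.node (.node (.leaf 9314304) (.leaf 162775040)) (.node (.leaf 57761792) (.leaf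 0))) (.node (.node (.leaf 32153600) (.leaf 0)) (.node (.leaf 90108847) (.leaf 0)))) (.node (.node (.node (.leaf 20455424) (.leaf 156168571)) (.node (.leaf 126468096) (.leaf 0))) (.node (.node (.leaf 44531712) (.leaf 0)) (.node (.leaf 104243200) (.leaf 0))))))) (.node (.node (.node (.node (.node (.node (.leaf 2539520) (.leaf 157532160)) (.node (.leaf 97484800) (.leaf 0))) (.node (.node (.leaf 55484416) (.leaf 0)) (.node (.leaf 77594624) (.leaf 0)))) (.node (.node (.node (.leaf 13352960) (.leaf 165445632)) (.node (.leaf 112584814) (.leaf 0))) (.node (.node (.leaf 77430784) (.leaf 0)) (.node (.leaf 146235392) (.leaf 0))))) (.node (.node (.node (.node (.leaf 7938048) (.leaf 129981051)) (.node (.leaf 61448920) (.leaf 0))) (.node (.node (.leaf 66854912) (.leaf 0)) (.node (.leaf 85196800) (.leaf 0)))) (.node (.node (.node (.leaf 43900928) (.leaf 166446190)) (.node (.leaf 117471436) (.leaf 0))) (.node (.node (.leaf 87654400) (.leaf 0)) (.node (.leaf 102014976) (.leaf 0)))))) (.node (.node (.node (.node (.node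 (.leaf 5218304) (.leaf 142962760)) (.node (.leaf 102268928) (.leaf 0))) (.node (.node (.leaf 27713536) (.leaf 0)) (.node (.leaf 135938048) (.leaf 0)))) (.node (.node (.node (.leaf 37961728) (.leaf 151534004)) (.node (.leaf 66527232) (.leaf 0))) (.node (.node (.leaf 82665472) (.leaf 0)) (.node (.leaf 97574912) (.leaf 0))))) (.node (.node (.node (.node (.leaf 10649600) (.leaf 163569664)) (.node (.leaf 111566848) (.leaf 0))) (.node (.node (.leaf 33677312) (.leaf 0)) (.node (.leaf 95762043) (.leaf 0)))) (.node (.node (.node (.leaf 49815552) (.leaf 167761379)) (.node (.leaf 128516096) (.leaf 0))) (.node (.node (.leaf 46047232) (.leaf 0)) (.node (.leaf 155000832) (.leaf 0))))))))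

def e1T110 : NT := .node (.node (.node (.node (.node (.node (.node (.node (.leaf 1441792) (.leaf 107929600)) (.node (.leaf 93962240) (.leaf 0))) (.node (.node (.leaf 30279235) (.leaf 0)) (.node (.leaf 74694656) (.leaf 0)))) (.node (.node (.node (.leaf 11313152) (.leaf 164028416)) (.node (.leaf 60293120) (.leaf 0))) (.node (.node (.leaf 34430976) (.leaf 0)) (.node (.leaf 143777792) (.leaf 0))))) (.node (.node (.node (.node (.leaf 5898240) (.leaf 143513399)) (.node (.leaf 59668417) (.leaf 0))) (.node (.node (.leaf 62693376) (.leaf 0)) (.node (.leaf 82206720) (.leaf 0)))) (.node (.node (.node (.leaf 39428096) (.leaf 143622144)) (.node (.leaf 121266176) (.leaf 0))) (.node (.node (.leaf 60703912) (.leaf 0)) (.node (.leaf 150126592) (.leaf 0)))))) (.node (.node (.node (.node (.node (.leaf 8044544) (.leaf 112869376)) (.node (.leaf 98697216) (.leaf 0))) (.node (.node (.leaf 25501696) (.leaf 0)) (.node (.leaf 78430208) (.leaf 0)))) (.node (.node (.node (.leaf 33406976) (.leaf 165781504)) (.node (.leaf 105143219)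 (.leaf 0))) (.node (.node (.leaf 78716928) (.leaf 0)) (.node (.leaf 147095552) (.leaf 0))))) (.node (.node (.node (.node (.leaf 21012480) (.leaf 162283520)) (.node (.leaf 56934400) (.leaf 0))) (.node (.node (.leaf 31399936) (.leaf 0)) (.node (.leaf 140525568) (.leaf 0)))) (.node (.node (.node (.leaf 19767296) (.leaf 167829504)) (.node (.leaf 125460480) (.leaf 0))) (.node (.node (.leaf 43704320) (.leaf 0)) (.node (.leaf 103227392) (.leaf 0))))))) (.node (.node (.node (.node (.node (.node (.leaf 1875968) (.leaf 110403584)) (.node (.leaf 48578560) (.leaf 0))) (.node (.node (.leaf 24027136) (.leaf 0)) (.node (.leaf 76677120) (.leaf 0)))) (.node (.node (.node (.leaf 12673024) (.leaf 132456448)) (.node (.leaf 114892800) (.leaf 0))) (.node (.node (.leaf 76128256) (.leaf 0)) (.node (.leaf 145342464) (.leaf 0))))) (.node (.node (.node (.node (.leaf 17801216) (.leaf 153806572)) (.node (.leaf 105832448) (.leaf 0))) (.node (.node (.leaf 44823329) (.leaf 0)) (.node (.leaf 84189184) (.leaf 0)))) (.node (.node (.node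 (.leaf 21440718) (.leaf 147873792)) (.node (.leaf 123387904) (.leaf 0))) (.node (.node (.leaf 86376448) (.leaf 0)) (.node (.leaf 145943004) (.leaf 0)))))) (.node (.node (.node (.node (.node (.leaf 4554752) (.leaf 115261440)) (.node (.leaf 101154816) (.leaf 0))) (.node (.node (.leaf 58022727) (.leaf 0)) (.node (.leaf 80273408) (.leaf 0)))) (.node (.node (.node (.leaf 15499264) (.leaf 139689984)) (.node (.leaf 119193600) (.leaf 0))) (.node (.node (.leaf 39124992) (.leaf 0)) (.node (.leaf 96559104) (.leaf 0))))) (.node (.node (.node (.node (.leaf 24100864) (.leaf 149195735)) (.node (.leaf 110493696) (.leaf 0))) (.node (.node (.leaf 70803456) (.leaf 0)) (.node (.leaf 142229504) (.leaf 0)))) (.node (.node (.node (.leaf 21159936) (.leaf 168020124)) (.node (.leaf 119921172) (.leaf 0))) (.node (.node (.leaf 91381760) (.leaf 0)) (.node (.leaf 147647435) (.leaf 0)))))))) (.node (.node (.node (.node (.node (.node (.node (.leaf 1212416) (.leaf 151045055)) (.node (.leaf 95117312) (.leaf 0))) (.node (.node (.leaf 23330816)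 (.leaf 0)) (.node (.leaf 130351104) (.leaf 0)))) (.node (.node (.node (.leaf 28729344) (.leaf 130932736)) (.node (.leaf 113737728) (.leaf 0))) (.node (.node (.leaf 74809344) (.leaf 0)) (.node (.leaf 144605184) (.leaf 0))))) (.node (.node (.node (.node (.leaf 16130048) (.leaf 119308288)) (.node (.leaf 101709098) (.leaf 0))) (.node (.node (.leaf 43512314) (.leaf 0)) (.node (.leaf 101283158) (.leaf 0)))) (.node (.node (.node (.leaf 17645568) (.leaf 145817600)) (.node (.leaf 122322944) (.leaf 0))) (.node (.node (.leaf 76912283) (.leaf 0)) (.node (.leaf 150921216) (.leaf 0)))))) (.node (.node (.node (.node (.node (.leaf 9674752) (.leaf 113967104)) (.node (.leaf 54907218) (.leaf 0))) (.node (.node (.leaf 58368000) (.leaf 0)) (.node (.leaf 134127616) (.leaf 0)))) (.node (.node (.node (.leaf 14802944) (.leaf 137650176)) (.node (.leaf 118141838) (.leaf 0))) (.node (.node (.leaf 38371328) (.leaf 0)) (.node (.leaf 95453184) (.leaf 0))))) (.node (.node (.node (.node (.leaf 22511616) (.leaf 162684928)) (.node (.leaf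 57769984) (.leaf 0))) (.node (.node (.leaf 53496992) (.leaf 0)) (.node (.leaf 141328384) (.leaf 0)))) (.node (.node (.node (.leaf 46923776) (.leaf 159879894)) (.node (.leaf 126484480) (.leaf 0))) (.node (.node (.leaf 90234880) (.leaf 0)) (.node (.leaf 153665536) (.leaf 0))))))) (.node (.node (.node (.node (.node (.node (.leaf 6397952) (.leaf 157540352)) (.node (.leaf 49405952) (.leaf 0))) (.node (.node (.leaf 55500800) (.leaf 0)) (.node (.leaf 87136664) (.leaf 0)))) (.node (.node (.node (.leaf 31866880) (.leaf 134144000)) (.node (.leaf 62996480) (.leaf 0))) (.node (.node (.leaf 36741120) (.leaf 0)) (.node (.leaf 146243584) (.leaf 0))))) (.node (.node (.node (.node (.leaf 19406848) (.leaf 159609306)) (.node (.leaf 56066048) (.leaf 0))) (.node (.node (.leaf 30670848) (.leaf 0)) (.node (.leaf 139526144) (.leaf 0)))) (.node (.node (.node (.leaf 19062784) (.leaf 150536192)) (.node (.leaf 70098944) (.leaf 0))) (.node (.node (.leaf 43183861) (.leaf 0)) (.node (.leaf 135230479) (.leaf 0)))))) (.node (.node (.node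 (.node (.node (.leaf 12877824) (.leaf 121141611)) (.node (.leaf 52723712) (.leaf 0))) (.node (.node (.leaf 27721728) (.leaf 0)) (.node (.leaf 81223680) (.leaf 0)))) (.node (.node (.node (.leaf 37969920) (.leaf 166846464)) (.node (.leaf 97633674) (.leaf 0))) (.node (.node (.leaf 82673664) (.leaf 0)) (.node (.leaf 97583104) (.leaf 0))))) (.node (.node (.node (.node (.leaf 25640960) (.leaf 148146643)) (.node (.leaf 59432960) (.leaf 0))) (.node (.node (.leaf 72122368) (.leaf 0)) (.node (.leaf 143032320) (.leaf 0)))) (.node (.node (.node (.leaf 21872640) (.leaf 165564673)) (.node (.leaf 128532480) (.leaf 0))) (.node (.node (.leaf 68584408) (.leaf 0)) (.node (.leaf 106758144) (.leaf 0))))))))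

def e1T111 : NT := .node (.node (.node (.node (.node (.node (.node (.node (.leaf 565248) (.leaf 144352253)) (.node (.leaf 46841856) (.leaf 0))) (.node (.node (.leaf 22618112) (.leaf 0)) (.node (.leaf 108349129) (.leaf 0)))) (.node (.node (.node (.leaf 27181056) (.leaf 129245184)) (.node (.leaf 76507177) (.leaf 0))) (.node (.node (.leaf 73457664) (.leaf 0)) (.node (.leaf 125569488) (.leaf 0))))) (.node (.node (.node (.node (.leaf 14499840) (.leaf 160202752)) (.node (.leaf 55290673) (.leaf 0))) (.node (.node (.leaf 62709760) (.leaf 0)) (.node (.leaf 136855552) (.leaf 0)))) (.node (.node (.node (.leaf 39444480) (.leaf 143654912)) (.node (.leaf 67362816) (.leaf 0))) (.node (.node (.leaf 40607744) (.leaf 0)) (.node (.leaf 150134784) (.leaf 0)))))) (.node (.node (.node (.node (.node (.leaf 3219456) (.leaf 156603297)) (.node (.leaf 50241536) (.leaf 0))) (.node (.node (.leaf 56836096) (.leaf 0)) (.node (.leaf 133242880) (.leaf 0)))) (.node (.node (.node (.leaf 14098432) (.leaf 135733248)) (.node (.leaf 63864832)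 (.leaf 0))) (.node (.node (.leaf 37552128) (.leaf 0)) (.node (.leaf 142468983) (.leaf 0))))) (.node (.node (.node (.node (.leaf 8634368) (.leaf 123453440)) (.node (.leaf 101721878) (.leaf 0))) (.node (.node (.leaf 68288512) (.leaf 0)) (.node (.leaf 140533760) (.leaf 0)))) (.node (.node (.node (.leaf 45408256) (.leaf 152764416)) (.node (.leaf 117182613) (.leaf 0))) (.node (.node (.leaf 47704095) (.leaf 0)) (.node (.leaf 152944640) (.leaf 0))))))) (.node (.node (.node (.node (.node (.node (.leaf 4775936) (.leaf 156901376)) (.node (.leaf 96329728) (.leaf 0))) (.node (.node (.leaf 54132736) (.leaf 0)) (.node (.leaf 83468688) (.leaf 0)))) (.node (.node (.node (.leaf 30285824) (.leaf 154307542)) (.node (.leaf 114900992) (.leaf 0))) (.node (.node (.leaf 76144640) (.leaf 0)) (.node (.leaf 92430336) (.leaf 0))))) (.node (.node (.node (.node (.leaf 7266304) (.leaf 120692736)) (.node (.leaf 55230464) (.leaf 0))) (.node (.node (.leaf 29949952) (.leaf 0)) (.node (.leaf 138551296) (.leaf 0)))) (.node (.node (.node (.leaf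 18358272) (.leaf 147881984)) (.node (.leaf 70763491) (.leaf 0))) (.node (.node (.leaf 86392832) (.leaf 0)) (.node (.leaf 151617536) (.leaf 0)))))) (.node (.node (.node (.node (.node (.leaf 11288576) (.leaf 137883200)) (.node (.leaf 51912704) (.leaf 0))) (.node (.node (.leaf 59834368) (.leaf 0)) (.node (.leaf 135045120) (.leaf 0)))) (.node (.node (.node (.leaf 36487168) (.leaf 139714560)) (.node (.leaf 91055942) (.leaf 0))) (.node (.node (.leaf 81354752) (.leaf 0)) (.node (.leaf 148652032) (.leaf 0))))) (.node (.node (.node (.node (.leaf 9994240) (.leaf 126189568)) (.node (.leaf 58589184) (.leaf 0))) (.node (.node (.leaf 32899072) (.leaf 0)) (.node (.leaf 88219648) (.leaf 0)))) (.node (.node (.node (.leaf 48373760) (.leaf 158425088)) (.node (.leaf 72876032) (.leaf 0))) (.node (.node (.leaf 91398144) (.leaf 0)) (.node (.leaf 105562112) (.leaf 0)))))))) (.node (.node (.node (.node (.node (.node (.node (.leaf 3129344) (.leaf 109199360)) (.node (.leaf 95133696) (.leaf 0))) (.node (.node (.leaf 42725012) (.leaf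 0)) (.node (.leaf 130367488) (.leaf 0)))) (.node (.node (.node (.leaf 12001280) (.leaf 164593664)) (.node (.leaf 61267968) (.leaf 0))) (.node (.node (.leaf 53248134) (.leaf 0)) (.node (.leaf 133377477) (.leaf 0))))) (.node (.node (.node (.node (.leaf 6578176) (.leaf 136728756)) (.node (.leaf 54386688) (.leaf 0))) (.node (.node (.leaf 29204480) (.leaf 0)) (.node (.leaf 83181568) (.leaf 0)))) (.node (.node (.node (.leaf 40927232) (.leaf 145825792)) (.node (.leaf 96099091) (.leaf 0))) (.node (.node (.leaf 41336832) (.leaf 0)) (.node (.leaf 99770368) (.leaf 0)))))) (.node (.node (.node (.node (.node (.leaf 3891200) (.leaf 158556160)) (.node (.leaf 51085312) (.leaf 0))) (.node (.node (.leaf 58384384) (.leaf 0)) (.node (.leaf 79339520) (.leaf 0)))) (.node (.node (.node (.leaf 34914304) (.leaf 137658368)) (.node (.leaf 64708608) (.leaf 0))) (.node (.node (.leaf 38379520) (.leaf 0)) (.node (.leaf 147816448) (.leaf 0))))) (.node (.node (.node (.node (.leaf 9322496) (.leaf 124755968)) (.node (.leaf 109363200) (.leaf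 0))) (.node (.node (.leaf 32161792) (.leaf 0)) (.node (.leaf 87228416) (.leaf 0)))) (.node (.node (.node (.leaf 20463616) (.leaf 155410432)) (.node (.leaf 71983104) (.leaf 0))) (.node (.node (.leaf 90251264) (.leaf 0)) (.node (.leaf 153673728) (.leaf 0))))))) (.node (.node (.node (.node (.node (.node (.leaf 2547712) (.leaf 111681536)) (.node (.leaf 50811167) (.leaf 0))) (.node (.node (.leaf 24756224) (.leaf 0)) (.node (.leaf 132349952) (.leaf 0)))) (.node (.node (.node (.leaf 31883264) (.leaf 134152192)) (.node (.leaf 115974144) (.leaf 0))) (.node (.node (.leaf 77455360) (.leaf 0)) (.node (.leaf 93356032) (.leaf 0))))) (.node (.node (.node (.node (.leaf 19423232) (.leaf 138378335)) (.node (.leaf 56074240) (.leaf 0))) (.node (.node (.leaf 66879488) (.leaf 0)) (.node (.leaf 85204992) (.leaf 0)))) (.node (.node (.node (.leaf 43925504) (.leaf 150544384)) (.node (.leaf 70115328) (.leaf 0))) (.node (.node (.leaf 42901504) (.leaf 0)) (.node (.leaf 102031360) (.leaf 0)))))) (.node (.node (.node (.node (.node (.leaf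 12886016) (.leaf 122549531)) (.node (.leaf 63035577) (.leaf 0))) (.node (.node (.leaf 61284352) (.leaf 0)) (.node (.leaf 135954432) (.leaf 0)))) (.node (.node (.node (.leaf 16203776) (.leaf 141656064)) (.node (.leaf 96930754) (.leaf 0))) (.node (.node (.leaf 39845888) (.leaf 0)) (.node (.leaf 149405696) (.leaf 0))))) (.node (.node (.node (.node (.leaf 25657344) (.leaf 163594240)) (.node (.leaf 59441152) (.leaf 0))) (.node (.node (.leaf 43837100) (.leaf 0)) (.node (.leaf 143040512) (.leaf 0)))) (.node (.node (.node (.leaf 49823744) (.leaf 163315712)) (.node (.leaf 73818112) (.leaf 0))) (.node (.node (.leaf 92635136) (.leaf 0)) (.node (.leaf 106766336) (.leaf 0))))))))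

def e1T112 : NT := .node (.node (.node (.node (.node (.node (.node (.node (.leaf 1466368) (.leaf 154076587)) (.node (.leaf 93986816) (.leaf 0))) (.node (.node (.leaf 22626304) (.leaf 0)) (.node (.leaf 74702848) (.leaf 0)))) (.node (.node (.node (.leaf 11321344) (.leaf 160829053)) (.node (.leaf 60309504) (.leaf 0))) (.node (.node (.leaf 34439168) (.leaf 0)) (.node (.leaf 90226688) (.leaf 0))))) (.node (.node (.node (.node (.leaf 5906432) (.leaf 118022144)) (.node (.leaf 53551104) (.leaf 0))) (.node (.node (.leaf 28491776) (.leaf 0)) (.node (.leaf 85653637) (.leaf 0)))) (.node (.node (.node (.leaf 16949248) (.leaf 163722078)) (.node (.leaf 121290752) (.leaf 0))) (.node (.node (.leaf 40615936) (.leaf 0)) (.node (.leaf 150142976) (.leaf 0)))))) (.node (.node (.node (.node (.node (.leaf 8069120) (.leaf 157999104)) (.node (.leaf 69609839) (.leaf 0))) (.node (.node (.leaf 25509888) (.leaf 0)) (.node (.leaf 96557834) (.leaf 0)))) (.node (.node (.node (.leaf 33431552) (.leaf 135774208)) (.node (.leaf 97228742)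 (.leaf 0))) (.node (.node (.leaf 78733312) (.leaf 0)) (.node (.leaf 94499399) (.leaf 0))))) (.node (.node (.node (.node (.leaf 21037056) (.leaf 123461632)) (.node (.leaf 108249088) (.leaf 0))) (.node (.node (.leaf 68304896) (.leaf 0)) (.node (.leaf 86278144) (.leaf 0)))) (.node (.node (.node (.leaf 34455759) (.leaf 158348017)) (.node (.leaf 125476864) (.leaf 0))) (.node (.node (.leaf 43712512) (.leaf 0)) (.node (.leaf 149853045) (.leaf 0))))))) (.node (.node (.node (.node (.node (.node (.leaf 1884160) (.leaf 136164365)) (.node (.leaf 48594944) (.leaf 0))) (.node (.node (.leaf 54149120) (.leaf 0)) (.node (.leaf 130095205) (.leaf 0)))) (.node (.node (.node (.leaf 30302208) (.leaf 132472832)) (.node (.leaf 62185472) (.leaf 0))) (.node (.node (.leaf 35971072) (.leaf 0)) (.node (.leaf 145367040) (.leaf 0))))) (.node (.node (.node (.node (.leaf 17825792) (.leaf 156923137)) (.node (.leaf 81730363) (.leaf 0))) (.node (.node (.leaf 65462272) (.leaf 0)) (.node (.leaf 84197376) (.leaf 0)))) (.node (.node (.node (.leaf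 42401792) (.leaf 154806840)) (.node (.leaf 69206016) (.leaf 0))) (.node (.node (.leaf 42131456) (.leaf 0)) (.node (.leaf 151625728) (.leaf 0)))))) (.node (.node (.node (.node (.node (.leaf 11304960) (.leaf 115294208)) (.node (.leaf 88110792) (.leaf 0))) (.node (.node (.leaf 27000832) (.leaf 0)) (.node (.leaf 135061504) (.leaf 0)))) (.node (.node (.node (.leaf 36503552) (.leaf 163890577)) (.node (.leaf 93639178) (.leaf 0))) (.node (.node (.leaf 81371136) (.leaf 0)) (.node (.leaf 96567296) (.leaf 0))))) (.node (.node (.node (.node (.leaf 15896536) (.leaf 126197760)) (.node (.leaf 110510080) (.leaf 0))) (.node (.node (.leaf 32915456) (.leaf 0)) (.node (.leaf 137697724) (.leaf 0)))) (.node (.node (.node (.leaf 48390144) (.leaf 158433280)) (.node (.leaf 127508480) (.leaf 0))) (.node (.node (.leaf 91414528) (.leaf 0)) (.node (.leaf 154378240) (.leaf 0)))))))) (.node (.node (.node (.node (.node (.node (.node (.leaf 1228800) (.leaf 110437557)) (.node (.leaf 75508212) (.leaf 0))) (.node (.node (.leaf 52740096)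 (.leaf 0)) (.node (.leaf 115842183) (.leaf 0)))) (.node (.node (.node (.leaf 28753920) (.leaf 150299570)) (.node (.leaf 113762304) (.leaf 0))) (.node (.node (.leaf 35184640) (.leaf 0)) (.node (.leaf 91332608) (.leaf 0))))) (.node (.node (.node (.node (.leaf 16154624) (.leaf 160808960)) (.node (.leaf 104538112) (.leaf 0))) (.node (.node (.leaf 64086016) (.leaf 0)) (.node (.leaf 83189760) (.leaf 0)))) (.node (.node (.node (.leaf 35173386) (.leaf 160025253)) (.node (.leaf 122331136) (.leaf 0))) (.node (.node (.leaf 41345024) (.leaf 0)) (.node (.leaf 99778560) (.leaf 0)))))) (.node (.node (.node (.node (.node (.leaf 9699328) (.leaf 158572544)) (.node (.leaf 99917824) (.leaf 0))) (.node (.node (.leaf 26279936) (.leaf 0)) (.node (.leaf 81121800) (.leaf 0)))) (.node (.node (.node (.leaf 14811136) (.leaf 166125568)) (.node (.leaf 118153216) (.leaf 0))) (.node (.node (.leaf 80076800) (.leaf 0)) (.node (.leaf 95469568) (.leaf 0))))) (.node (.node (.node (.node (.leaf 22536192) (.leaf 147209352)) (.node (.leaf 57786368)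 (.leaf 0))) (.node (.node (.leaf 69517312) (.leaf 0)) (.node (.leaf 89695595) (.leaf 0)))) (.node (.node (.node (.leaf 46940160) (.leaf 167810642)) (.node (.leaf 119966526) (.leaf 0))) (.node (.node (.leaf 44548096) (.leaf 0)) (.node (.leaf 153681920) (.leaf 0))))))) (.node (.node (.node (.node (.node (.node (.leaf 6422528) (.leaf 157548544)) (.node (.leaf 49422336) (.leaf 0))) (.node (.node (.leaf 55525376) (.leaf 0)) (.node (.leaf 77611008) (.leaf 0)))) (.node (.node (.node (.leaf 13369344) (.leaf 140405945)) (.node (.leaf 115982336) (.leaf 0))) (.node (.node (.leaf 36757504) (.leaf 0)) (.node (.leaf 146259968) (.leaf 0))))) (.node (.node (.node (.node (.leaf 19439616) (.leaf 121970688)) (.node (.leaf 107044864) (.leaf 0))) (.node (.node (.leaf 66895872) (.leaf 0)) (.node (.leaf 85213184) (.leaf 0)))) (.node (.node (.node (.leaf 43941888) (.leaf 161754462)) (.node (.leaf 124403712) (.leaf 0))) (.node (.node (.leaf 87687168) (.leaf 0)) (.node (.leaf 102047744) (.leaf 0)))))) (.node (.node (.node (.node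 (.node (.leaf 12902400) (.leaf 116563968)) (.node (.leaf 52731904) (.leaf 0))) (.node (.node (.leaf 61300736) (.leaf 0)) (.node (.leaf 81248256) (.leaf 0)))) (.node (.node (.node (.leaf 29935201) (.leaf 162294170)) (.node (.leaf 66543616) (.leaf 0))) (.node (.node (.leaf 82698240) (.leaf 0)) (.node (.leaf 133783674) (.leaf 0))))) (.node (.node (.node (.node (.leaf 10665984) (.leaf 127680512)) (.node (.leaf 85900028) (.leaf 0))) (.node (.node (.leaf 33693696) (.leaf 0)) (.node (.leaf 143048704) (.leaf 0)))) (.node (.node (.node (.leaf 49840128) (.leaf 165343758)) (.node (.leaf 128557056) (.leaf 0))) (.node (.node (.leaf 46063616) (.leaf 0)) (.node (.leaf 155009024) (.leaf 0))))))))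

def e1T113 : NT := .node (.node (.node (.node (.node (.node (.node (.node (.leaf 573440) (.leaf 133146823)) (.node (.leaf 94003200) (.leaf 0))) (.node (.node (.leaf 51298304) (.leaf 0)) (.node (.leaf 114432336) (.leaf 0)))) (.node (.node (.node (.leaf 27205632) (.leaf 129261568)) (.node (.leaf 87257622) (.leaf 0))) (.node (.node (.leaf 73482240) (.leaf 0)) (.node (.leaf 143802368) (.leaf 0))))) (.node (.node (.node (.node (.leaf 14524416) (.leaf 137094885)) (.node (.leaf 53930164) (.leaf 0))) (.node (.node (.leaf 62734336) (.leaf 0)) (.node (.leaf 82239488) (.leaf 0)))) (.node (.node (.node (.leaf 35984869) (.leaf 143663104)) (.node (.leaf 121307136) (.leaf 0))) (.node (.node (.leaf 83976192) (.leaf 0)) (.node (.leaf 98672640) (.leaf 0)))))) (.node (.node (.node (.node (.node (.leaf 8085504) (.leaf 124666347)) (.node (.leaf 50249728) (.leaf 0))) (.node (.node (.leaf 56844288) (.leaf 0)) (.node (.leaf 133259264) (.leaf 0)))) (.node (.node (.node (.leaf 21901607) (.leaf 135790592)) (.node (.leaf 117063680)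 (.leaf 0))) (.node (.node (.leaf 37560320) (.leaf 0)) (.node (.leaf 147111936) (.leaf 0))))) (.node (.node (.node (.node (.leaf 8642560) (.leaf 123478016)) (.node (.leaf 108265472) (.leaf 0))) (.node (.node (.leaf 31416320) (.leaf 0)) (.node (.leaf 104843209) (.leaf 0)))) (.node (.node (.node (.leaf 19783680) (.leaf 152780800)) (.node (.leaf 105219704) (.leaf 0))) (.node (.node (.leaf 88956928) (.leaf 0)) (.node (.leaf 103260160) (.leaf 0))))))) (.node (.node (.node (.node (.node (.node (.leaf 4800512) (.leaf 149674357)) (.node (.leaf 96354304) (.leaf 0))) (.node (.node (.leaf 24043520) (.leaf 0)) (.node (.leaf 76693504) (.leaf 0)))) (.node (.node (.node (.leaf 12689408) (.leaf 164395765)) (.node (.leaf 103551846) (.leaf 0))) (.node (.node (.leaf 76161024) (.leaf 0)) (.node (.leaf 92438528) (.leaf 0))))) (.node (.node (.node (.node (.leaf 7274496) (.leaf 120700928)) (.node (.leaf 105857024) (.leaf 0))) (.node (.node (.leaf 29958144) (.leaf 0)) (.node (.leaf 138567680) (.leaf 0)))) (.node (.node (.node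 (.leaf 42418176) (.leaf 148604731)) (.node (.leaf 123404288) (.leaf 0))) (.node (.node (.leaf 86417408) (.leaf 0)) (.node (.leaf 151642112) (.leaf 0)))))) (.node (.node (.node (.node (.node (.leaf 4571136) (.leaf 159162368)) (.node (.leaf 101187584) (.leaf 0))) (.node (.node (.leaf 59850752) (.leaf 0)) (.node (.leaf 80289792) (.leaf 0)))) (.node (.node (.node (.leaf 15515648) (.leaf 155926615)) (.node (.leaf 65642496) (.leaf 0))) (.node (.node (.leaf 39141376) (.leaf 0)) (.node (.leaf 112738765) (.leaf 0))))) (.node (.node (.node (.node (.leaf 10002432) (.leaf 160069469)) (.node (.leaf 58597376) (.leaf 0))) (.node (.node (.leaf 70828032) (.leaf 0)) (.node (.leaf 88236032) (.leaf 0)))) (.node (.node (.node (.leaf 21176320) (.leaf 167372891)) (.node (.leaf 127516672) (.leaf 0))) (.node (.node (.leaf 45318144) (.leaf 0)) (.node (.leaf 117116853) (.leaf 0)))))))) (.node (.node (.node (.node (.node (.node (.node (.leaf 3145728) (.leaf 140056187)) (.node (.leaf 47710208) (.leaf 0))) (.node (.node (.leaf 23347200)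 (.leaf 0)) (.node (.leaf 75702272) (.leaf 0)))) (.node (.node (.node (.leaf 28770304) (.leaf 133355362)) (.node (.leaf 61276160) (.leaf 0))) (.node (.node (.leaf 64996665) (.leaf 0)) (.node (.leaf 91340800) (.leaf 0))))) (.node (.node (.node (.node (.leaf 16171008) (.leaf 160817152)) (.node (.leaf 54403072) (.leaf 0))) (.node (.node (.leaf 64102400) (.leaf 0)) (.node (.leaf 137707520) (.leaf 0)))) (.node (.node (.node (.leaf 17661952) (.leaf 154522768)) (.node (.leaf 77183685) (.leaf 0))) (.node (.node (.leaf 45269613) (.leaf 0)) (.node (.leaf 150929408) (.leaf 0)))))) (.node (.node (.node (.node (.node (.leaf 9715712) (.leaf 158580736)) (.node (.leaf 51093504) (.leaf 0))) (.node (.node (.leaf 58400768) (.leaf 0)) (.node (.leaf 79347712) (.leaf 0)))) (.node (.node (.node (.leaf 22949031) (.leaf 137699328)) (.node (.leaf 118161408) (.leaf 0))) (.node (.node (.leaf 38395904) (.leaf 0)) (.node (.leaf 144869166) (.leaf 0))))) (.node (.node (.node (.node (.leaf 22552576) (.leaf 124772352)) (.node (.leaf 105984032)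 (.leaf 0))) (.node (.node (.leaf 32178176) (.leaf 0)) (.node (.leaf 87236608) (.leaf 0)))) (.node (.node (.node (.leaf 46956544) (.leaf 166661107)) (.node (.leaf 117707244) (.leaf 0))) (.node (.node (.leaf 90267648) (.leaf 0)) (.node (.leaf 104275968) (.leaf 0))))))) (.node (.node (.node (.node (.node (.node (.leaf 6438912) (.leaf 157556736)) (.node (.leaf 97525760) (.leaf 0))) (.node (.node (.leaf 24764416) (.leaf 0)) (.node (.leaf 127137192) (.leaf 0)))) (.node (.node (.node (.leaf 31907840) (.leaf 134168576)) (.node (.leaf 63021056) (.leaf 0))) (.node (.node (.leaf 77471744) (.leaf 0)) (.node (.leaf 139913413) (.leaf 0))))) (.node (.node (.node (.node (.leaf 7962624) (.leaf 161792000)) (.node (.leaf 56090624) (.leaf 0))) (.node (.node (.leaf 30687232) (.leaf 0)) (.node (.leaf 96363078) (.leaf 0)))) (.node (.node (.node (.leaf 19079168) (.leaf 150552576)) (.node (.leaf 121398844) (.leaf 0))) (.node (.node (.leaf 42909696) (.leaf 0)) (.node (.leaf 107702029) (.leaf 0)))))) (.node (.node (.node (.node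 (.node (.leaf 5242880) (.leaf 159653888)) (.node (.leaf 102301696) (.leaf 0))) (.node (.node (.leaf 27746304) (.leaf 0)) (.node (.leaf 135970816) (.leaf 0)))) (.node (.node (.node (.leaf 16211968) (.leaf 165399154)) (.node (.leaf 78624520) (.leaf 0))) (.node (.node (.leaf 82714624) (.leaf 0)) (.node (.leaf 97607680) (.leaf 0))))) (.node (.node (.node (.node (.leaf 25681920) (.leaf 127688704)) (.node (.leaf 111591424) (.leaf 0))) (.node (.node (.leaf 72155136) (.leaf 0)) (.node (.leaf 89284608) (.leaf 0)))) (.node (.node (.node (.leaf 21889024) (.leaf 163373056)) (.node (.leaf 111256813) (.leaf 0))) (.node (.node (.leaf 92643328) (.leaf 0)) (.node (.leaf 106782720) (.leaf 0))))))))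

def e1T114 : NT := .node (.node (.node (.node (.node (.node (.node (.node (.leaf 1490944) (.leaf 107978752)) (.node (.leaf 46858240) (.leaf 0))) (.node (.node (.leaf 51314688) (.leaf 0)) (.node (.leaf 129482752) (.leaf 0)))) (.node (.node (.node (.leaf 27222016) (.leaf 164044800)) (.node (.leaf 112672768) (.leaf 0))) (.node (.node (.leaf 34447360) (.leaf 0)) (.node (.leaf 90243072) (.leaf 0))))) (.node (.node (.node (.node (.leaf 14540800) (.leaf 118046720)) (.node (.leaf 53567488) (.leaf 0))) (.node (.node (.leaf 28508160) (.leaf 0)) (.node (.leaf 118577466) (.leaf 0)))) (.node (.node (.node (.leaf 16957440) (.leaf 143671296)) (.node (.leaf 121323520) (.leaf 0))) (.node (.node (.leaf 40632320) (.leaf 0)) (.node (.leaf 150167552) (.leaf 0)))))) (.node (.node (.node (.node (.node (.leaf 3235840) (.leaf 112926720)) (.node (.leaf 94528963) (.leaf 0))) (.node (.node (.leaf 56860672) (.leaf 0)) (.node (.leaf 82218996) (.leaf 0)))) (.node (.node (.node (.leaf 33456128) (.leaf 165806080)) (.node (.leaf 63889408)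 (.leaf 0))) (.node (.node (.leaf 37576704) (.leaf 0)) (.node (.leaf 123192550) (.leaf 0))))) (.node (.node (.node (.node (.leaf 21061632) (.leaf 161559738)) (.node (.leaf 79008530) (.leaf 0))) (.node (.node (.leaf 68329472) (.leaf 0)) (.node (.leaf 113069466) (.leaf 0)))) (.node (.node (.node (.leaf 45441024) (.leaf 156282041)) (.node (.leaf 125485056) (.leaf 0))) (.node (.node (.leaf 88973312) (.leaf 0)) (.node (.leaf 103268352) (.leaf 0))))))) (.node (.node (.node (.node (.node (.node (.leaf 4816896) (.leaf 121318223)) (.node (.leaf 96370688) (.leaf 0))) (.node (.node (.leaf 54173696) (.leaf 0)) (.node (.leaf 104190494) (.leaf 0)))) (.node (.node (.node (.leaf 30326784) (.leaf 132481024)) (.node (.leaf 62193664) (.leaf 0))) (.node (.node (.leaf 76177408) (.leaf 0)) (.node (.leaf 97993112) (.leaf 0))))) (.node (.node (.node (.node (.leaf 17850368) (.leaf 120709120)) (.node (.leaf 60482614) (.leaf 0))) (.node (.node (.leaf 65486848) (.leaf 0)) (.node (.leaf 138575872) (.leaf 0)))) (.node (.node (.node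 (.leaf 42434560) (.leaf 167493632)) (.node (.leaf 123412480) (.leaf 0))) (.node (.node (.leaf 42139648) (.leaf 0)) (.node (.leaf 131521099) (.leaf 0)))))) (.node (.node (.node (.node (.node (.leaf 11329536) (.leaf 153868063)) (.node (.leaf 51929088) (.leaf 0))) (.node (.node (.leaf 59867136) (.leaf 0)) (.node (.leaf 135086080) (.leaf 0)))) (.node (.node (.node (.leaf 20965115) (.leaf 139780096)) (.node (.leaf 65650688) (.leaf 0))) (.node (.node (.leaf 47175722) (.leaf 0)) (.node (.leaf 139340103) (.leaf 0))))) (.node (.node (.node (.node (.leaf 24141824) (.leaf 163192832)) (.node (.leaf 110518272) (.leaf 0))) (.node (.node (.leaf 32923648) (.leaf 0)) (.node (.leaf 142254080) (.leaf 0)))) (.node (.node (.node (.leaf 48414720) (.leaf 158457856)) (.node (.leaf 97195560) (.leaf 0))) (.node (.node (.leaf 91430912) (.leaf 0)) (.node (.leaf 105586688) (.leaf 0)))))))) (.node (.node (.node (.node (.node (.node (.node (.leaf 3162112) (.leaf 109264896)) (.node (.leaf 95158272) (.leaf 0))) (.node (.node (.leaf 52764672)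 (.leaf 0)) (.node (.leaf 130392064) (.leaf 0)))) (.node (.node (.node (.leaf 12017664) (.leaf 160387687)) (.node (.leaf 61292544) (.leaf 0))) (.node (.node (.leaf 74842112) (.leaf 0)) (.node (.leaf 91357184) (.leaf 0))))) (.node (.node (.node (.node (.leaf 6594560) (.leaf 145676136)) (.node (.leaf 104562688) (.leaf 0))) (.node (.node (.leaf 29220864) (.leaf 0)) (.node (.leaf 105875103) (.leaf 0)))) (.node (.node (.node (.leaf 40960000) (.leaf 145899520)) (.node (.leaf 68247552) (.leaf 0))) (.node (.node (.leaf 59628613) (.leaf 0)) (.node (.leaf 99811328) (.leaf 0)))))) (.node (.node (.node (.node (.node (.leaf 3907584) (.leaf 114008064)) (.node (.leaf 99934208) (.leaf 0))) (.node (.node (.leaf 26296320) (.leaf 0)) (.node (.leaf 102470643) (.leaf 0)))) (.node (.node (.node (.leaf 14827520) (.leaf 137723904)) (.node (.leaf 67740371) (.leaf 0))) (.node (.node (.leaf 50647171) (.leaf 0)) (.node (.leaf 129621063) (.leaf 0))))) (.node (.node (.node (.node (.leaf 9338880) (.leaf 158774789)) (.node (.leaf 109379584)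 (.leaf 0))) (.node (.node (.leaf 69541888) (.leaf 0)) (.node (.leaf 141361152) (.leaf 0)))) (.node (.node (.node (.leaf 20480000) (.leaf 167631987)) (.node (.leaf 72007680) (.leaf 0))) (.node (.node (.leaf 44556288) (.leaf 0)) (.node (.leaf 104284160) (.leaf 0))))))) (.node (.node (.node (.node (.node (.node (.leaf 2564096) (.leaf 111730688)) (.node (.leaf 61967287) (.leaf 0))) (.node (.node (.leaf 55533568) (.leaf 0)) (.node (.leaf 77627392) (.leaf 0)))) (.node (.node (.node (.leaf 13377536) (.leaf 134176768)) (.node (.leaf 111708765) (.leaf 0))) (.node (.node (.leaf 36765696) (.leaf 0)) (.node (.leaf 137353386) (.leaf 0))))) (.node (.node (.node (.node (.leaf 19464192) (.leaf 161800192)) (.node (.leaf 107061248) (.leaf 0))) (.node (.node (.leaf 66920448) (.leaf 0)) (.node (.leaf 139550720) (.leaf 0)))) (.node (.node (.node (.leaf 43966464) (.leaf 150560768)) (.node (.leaf 70131712) (.leaf 0))) (.node (.node (.leaf 87703552) (.leaf 0)) (.node (.leaf 102055936) (.leaf 0)))))) (.node (.node (.node (.node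 (.node (.leaf 12926976) (.leaf 129540681)) (.node (.leaf 102318080) (.leaf 0))) (.node (.node (.leaf 27754496) (.leaf 0)) (.node (.leaf 135987200) (.leaf 0)))) (.node (.node (.node (.leaf 37994496) (.leaf 166871040)) (.node (.leaf 120135680) (.leaf 0))) (.node (.node (.leaf 82731008) (.leaf 0)) (.node (.leaf 142225338) (.leaf 0))))) (.node (.node (.node (.node (.leaf 10674176) (.leaf 163230265)) (.node (.leaf 90371059) (.leaf 0))) (.node (.node (.leaf 72171520) (.leaf 0)) (.node (.leaf 143056896) (.leaf 0)))) (.node (.node (.node (.leaf 49856512) (.leaf 163381248)) (.node (.leaf 73834496) (.leaf 0))) (.node (.node (.leaf 92659712) (.leaf 0)) (.node (.leaf 106790912) (.leaf 0))))))))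

def e1T115 : NT := .node (.node (.node (.node (.node (.node (.node (.node (.leaf 1507328) (.leaf 113546041)) (.node (.leaf 46866432) (.leaf 0))) (.node (.node (.leaf 51331072) (.leaf 0)) (.node (.leaf 129490944) (.leaf 0)))) (.node (.node (.node (.leaf 11337728) (.leaf 141005957)) (.node (.leaf 60325888) (.leaf 0))) (.node (.node (.leaf 71028588) (.leaf 0)) (.node (.leaf 143818752) (.leaf 0))))) (.node (.node (.node (.node (.leaf 5922816) (.leaf 160227328)) (.node (.leaf 103391232) (.leaf 0))) (.node (.node (.leaf 35685140) (.leaf 0)) (.node (.leaf 136871936) (.leaf 0)))) (.node (.node (.node (.leaf 24268978) (.leaf 166704060)) (.node (.leaf 67387392) (.leaf 0))) (.node (.node (.leaf 76404876) (.leaf 0)) (.node (.leaf 98689024) (.leaf 0)))))) (.node (.node (.node (.node (.node (.leaf 8110080) (.leaf 142693525)) (.node (.leaf 98738176) (.leaf 0))) (.node (.node (.leaf 25526272) (.leaf 0)) (.node (.leaf 78462976) (.leaf 0)))) (.node (.node (.node (.leaf 33472512) (.leaf 135839744)) (.node (.leaf 117080064)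 (.leaf 0))) (.node (.node (.leaf 69842421) (.leaf 0)) (.node (.leaf 147128320) (.leaf 0))))) (.node (.node (.node (.node (.leaf 21078016) (.leaf 162299904)) (.node (.leaf 56967168) (.leaf 0))) (.node (.node (.leaf 68345856) (.leaf 0)) (.node (.leaf 140550144) (.leaf 0)))) (.node (.node (.node (.leaf 19791872) (.leaf 161729264)) (.node (.leaf 76367158) (.leaf 0))) (.node (.node (.leaf 43728896) (.leaf 0)) (.node (.leaf 103276544) (.leaf 0))))))) (.node (.node (.node (.node (.node (.node (.leaf 1900544) (.leaf 154609825)) (.node (.leaf 60843467) (.leaf 0))) (.node (.node (.leaf 24051712) (.leaf 0)) (.node (.leaf 103705677) (.leaf 0)))) (.node (.node (.node (.leaf 30343168) (.leaf 138674690)) (.node (.leaf 101904381) (.leaf 0))) (.node (.node (.leaf 76185600) (.leaf 0)) (.node (.leaf 145399808) (.leaf 0))))) (.node (.node (.node (.node (.leaf 17866752) (.leaf 161251328)) (.node (.leaf 55255040) (.leaf 0))) (.node (.node (.leaf 29974528) (.leaf 0)) (.node (.leaf 84221952) (.leaf 0)))) (.node (.node (.node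 (.leaf 18382848) (.leaf 147963904)) (.node (.leaf 69222400) (.leaf 0))) (.node (.node (.leaf 74767293) (.leaf 0)) (.node (.leaf 100974592) (.leaf 0)))))) (.node (.node (.node (.node (.node (.leaf 11345920) (.leaf 152196717)) (.node (.leaf 51945472) (.leaf 0))) (.node (.node (.leaf 27025408) (.leaf 0)) (.node (.leaf 80306176) (.leaf 0)))) (.node (.node (.node (.leaf 15523840) (.leaf 166526976)) (.node (.leaf 101270525) (.leaf 0))) (.node (.node (.leaf 39149568) (.leaf 0)) (.node (.leaf 96591872) (.leaf 0))))) (.node (.node (.node (.node (.leaf 24158208) (.leaf 163209216)) (.node (.leaf 58605568) (.leaf 0))) (.node (.node (.leaf 70844416) (.leaf 0)) (.node (.leaf 119745070) (.leaf 0)))) (.node (.node (.node (.leaf 48431104) (.leaf 158547968)) (.node (.leaf 127541248) (.leaf 0))) (.node (.node (.leaf 91447296) (.leaf 0)) (.node (.leaf 154386432) (.leaf 0)))))))) (.node (.node (.node (.node (.node (.node (.node (.leaf 1245184) (.leaf 144118056)) (.node (.leaf 47718400) (.leaf 0))) (.node (.node (.leaf 52781056)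 (.leaf 0)) (.node (.leaf 130408448) (.leaf 0)))) (.node (.node (.node (.leaf 28794880) (.leaf 150670465)) (.node (.leaf 113795072) (.leaf 0))) (.node (.node (.leaf 74858496) (.leaf 0)) (.node (.leaf 101783145) (.leaf 0))))) (.node (.node (.node (.node (.leaf 16195584) (.leaf 159569866)) (.node (.leaf 54419456) (.leaf 0))) (.node (.node (.leaf 64126976) (.leaf 0)) (.node (.leaf 83214336) (.leaf 0)))) (.node (.node (.node (.leaf 17670144) (.leaf 149363629)) (.node (.leaf 122363904) (.leaf 0))) (.node (.node (.leaf 85221376) (.leaf 0)) (.node (.leaf 150945792) (.leaf 0)))))) (.node (.node (.node (.node (.node (.leaf 9740288) (.leaf 155062133)) (.node (.leaf 51101696) (.leaf 0))) (.node (.node (.leaf 58425344) (.leaf 0)) (.node (.leaf 79355904) (.leaf 0)))) (.node (.node (.node (.leaf 34955264) (.leaf 166133760)) (.node (.leaf 64741376) (.leaf 0))) (.node (.node (.leaf 38404096) (.leaf 0)) (.node (.leaf 95510528) (.leaf 0))))) (.node (.node (.node (.node (.leaf 22577152) (.leaf 124788736)) (.node (.leaf 57802752)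 (.leaf 0))) (.node (.node (.leaf 69558272) (.leaf 0)) (.node (.leaf 141369344) (.leaf 0)))) (.node (.node (.node (.leaf 46972928) (.leaf 155590656)) (.node (.leaf 100574964) (.leaf 0))) (.node (.node (.leaf 90284032) (.leaf 0)) (.node (.leaf 153706496) (.leaf 0))))))) (.node (.node (.node (.node (.node (.node (.leaf 4090035) (.leaf 122224688)) (.node (.leaf 97550336) (.leaf 0))) (.node (.node (.leaf 55549952) (.leaf 0)) (.node (.leaf 77635584) (.leaf 0)))) (.node (.node (.node (.leaf 31932416) (.leaf 134217728)) (.node (.leaf 87975826) (.leaf 0))) (.node (.node (.leaf 77488128) (.leaf 0)) (.node (.leaf 146276352) (.leaf 0))))) (.node (.node (.node (.node (.leaf 7970816) (.leaf 134588645)) (.node (.leaf 56098816) (.leaf 0))) (.node (.node (.leaf 40110609) (.leaf 0)) (.node (.leaf 139567104) (.leaf 0)))) (.node (.node (.node (.leaf 19087360) (.leaf 160674925)) (.node (.leaf 113127750) (.leaf 0))) (.node (.node (.leaf 47542452) (.leaf 0)) (.node (.leaf 138139146) (.leaf 0)))))) (.node (.node (.node (.node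 (.node (.leaf 12943360) (.leaf 117872940)) (.node (.leaf 84009590) (.leaf 0))) (.node (.node (.leaf 61325312) (.leaf 0)) (.node (.leaf 85164636) (.leaf 0)))) (.node (.node (.node (.leaf 38010880) (.leaf 160946730)) (.node (.leaf 120152064) (.leaf 0))) (.node (.node (.leaf 39878656) (.leaf 0)) (.node (.leaf 97615872) (.leaf 0))))) (.node (.node (.node (.node (.leaf 14106857) (.leaf 127713280)) (.node (.leaf 101078159) (.leaf 0))) (.node (.node (.leaf 33710080) (.leaf 0)) (.node (.leaf 90142815) (.leaf 0)))) (.node (.node (.node (.leaf 48318745) (.leaf 164763584)) (.node (.leaf 102252593) (.leaf 0))) (.node (.node (.leaf 92676096) (.leaf 0)) (.node (.leaf 115704773) (.leaf 0))))))))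

def e1T116 : NT := .node (.node (.node (.node (.node (.node (.node (.node (.leaf 589824) (.leaf 107986944)) (.node (.leaf 94035968) (.leaf 0))) (.node (.node (.leaf 51339264) (.leaf 0)) (.node (.leaf 74735616) (.leaf 0)))) (.node (.node (.node (.leaf 27246592) (.leaf 142891409)) (.node (.leaf 60334080) (.leaf 0))) (.node (.node (.leaf 73515008) (.leaf 0)) (.node (.leaf 90259456) (.leaf 0))))) (.node (.node (.node (.node (.leaf 14565376) (.leaf 118063104)) (.node (.leaf 53583872) (.leaf 0))) (.node (.node (.leaf 28516352) (.leaf 0)) (.node (.leaf 82255872) (.leaf 0)))) (.node (.node (.node (.leaf 16973824) (.leaf 143687680)) (.node (.leaf 121331712) (.leaf 0))) (.node (.node (.leaf 84000768) (.leaf 0)) (.node (.leaf 150183936) (.leaf 0)))))) (.node (.node (.node (.node (.node (.leaf 3244032) (.leaf 112934912)) (.node (.leaf 50266112) (.leaf 0))) (.node (.node (.leaf 34942113) (.leaf 0)) (.node (.leaf 78479360) (.leaf 0)))) (.node (.node (.node (.leaf 33488896) (.leaf 158124647)) (.node (.leaf 66799108)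 (.leaf 0))) (.node (.node (.leaf 78774272) (.leaf 0)) (.node (.leaf 94486528) (.leaf 0))))) (.node (.node (.node (.node (.leaf 8658944) (.leaf 123502592)) (.node (.leaf 108281856) (.leaf 0))) (.node (.node (.leaf 31432704) (.leaf 0)) (.node (.leaf 86310912) (.leaf 0)))) (.node (.node (.node (.leaf 45465600) (.leaf 167845888)) (.node (.leaf 71081984) (.leaf 0))) (.node (.node (.leaf 88989696) (.leaf 0)) (.node (.leaf 120203273) (.leaf 0))))))) (.node (.node (.node (.node (.node (.node (.leaf 4841472) (.leaf 110501888)) (.node (.leaf 48619520) (.leaf 0))) (.node (.node (.leaf 54198272) (.leaf 0)) (.node (.leaf 98020452) (.leaf 0)))) (.node (.node (.node (.leaf 12705792) (.leaf 140240219)) (.node (.leaf 62934706) (.leaf 0))) (.node (.node (.leaf 76193792) (.leaf 0)) (.node (.leaf 92454912) (.leaf 0))))) (.node (.node (.node (.node (.leaf 7290880) (.leaf 120733696)) (.node (.leaf 68313971) (.leaf 0))) (.node (.node (.leaf 65503232) (.leaf 0)) (.node (.leaf 116062538) (.leaf 0)))) (.node (.node (.node (.leaf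 42459136) (.leaf 150736849)) (.node (.leaf 123437056) (.leaf 0))) (.node (.node (.leaf 42156032) (.leaf 0)) (.node (.leaf 150064922) (.leaf 0)))))) (.node (.node (.node (.node (.node (.leaf 4587520) (.leaf 140767641)) (.node (.leaf 51953664) (.leaf 0))) (.node (.node (.leaf 59883520) (.leaf 0)) (.node (.leaf 80314368) (.leaf 0)))) (.node (.node (.node (.leaf 36536320) (.leaf 159831086)) (.node (.leaf 119226368) (.leaf 0))) (.node (.node (.leaf 81403904) (.leaf 0)) (.node (.leaf 96600064) (.leaf 0))))) (.node (.node (.node (.node (.leaf 10018816) (.leaf 130947955)) (.node (.leaf 110542848) (.leaf 0))) (.node (.node (.leaf 70860800) (.leaf 0)) (.node (.leaf 88260608) (.leaf 0)))) (.node (.node (.node (.leaf 21192704) (.leaf 159149870)) (.node (.leaf 72916992) (.leaf 0))) (.node (.node (.leaf 45334528) (.leaf 0)) (.node (.leaf 118686993) (.leaf 0)))))))) (.node (.node (.node (.node (.node (.node (.node (.leaf 3186688) (.leaf 156311552)) (.node (.leaf 88859939) (.leaf 0))) (.node (.node (.leaf 23363584) (.leaf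 0)) (.node (.leaf 115496239) (.leaf 0)))) (.node (.node (.node (.leaf 28811264) (.leaf 164618240)) (.node (.leaf 61308928) (.leaf 0))) (.node (.node (.leaf 35225600) (.leaf 0)) (.node (.leaf 91373568) (.leaf 0))))) (.node (.node (.node (.node (.leaf 6602752) (.leaf 119390208)) (.node (.leaf 104579072) (.leaf 0))) (.node (.node (.leaf 29229056) (.leaf 0)) (.node (.leaf 83230720) (.leaf 0)))) (.node (.node (.node (.leaf 40984576) (.leaf 145915904)) (.node (.leaf 68272128) (.leaf 0))) (.node (.node (.leaf 41369600) (.leaf 0)) (.node (.leaf 143162066) (.leaf 0)))))) (.node (.node (.node (.node (.node (.leaf 9756672) (.leaf 114032640)) (.node (.leaf 51118080) (.leaf 0))) (.node (.node (.leaf 26304512) (.leaf 0)) (.node (.leaf 131549028) (.leaf 0)))) (.node (.node (.node (.leaf 34971648) (.leaf 137732096)) (.node (.leaf 118177792) (.leaf 0))) (.node (.node (.leaf 80109568) (.leaf 0)) (.node (.leaf 145269571) (.leaf 0))))) (.node (.node (.node (.node (.leaf 22593536) (.leaf 160011528)) (.node (.leaf 59950156)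 (.leaf 0))) (.node (.node (.leaf 32194560) (.leaf 0)) (.node (.leaf 141385728) (.leaf 0)))) (.node (.node (.node (.leaf 44681494) (.leaf 158536960)) (.node (.leaf 101625814) (.leaf 0))) (.node (.node (.leaf 90300416) (.leaf 0)) (.node (.leaf 153722880) (.leaf 0))))))) (.node (.node (.node (.node (.node (.node (.leaf 6471680) (.leaf 157564928)) (.node (.leaf 97566720) (.leaf 0))) (.node (.node (.leaf 24780800) (.leaf 0)) (.node (.leaf 86027980) (.leaf 0)))) (.node (.node (.node (.leaf 13393920) (.leaf 155574481)) (.node (.leaf 116015104) (.leaf 0))) (.node (.node (.leaf 56152024) (.leaf 0)) (.node (.leaf 146284544) (.leaf 0))))) (.node (.node (.node (.node (.leaf 19488768) (.leaf 121995264)) (.node (.leaf 56115200) (.leaf 0))) (.node (.node (.leaf 30703616) (.leaf 0)) (.node (.leaf 85245952) (.leaf 0)))) (.node (.node (.node (.leaf 43991040) (.leaf 150634496)) (.node (.leaf 70139904) (.leaf 0))) (.node (.node (.leaf 87711744) (.leaf 0)) (.node (.leaf 122757485) (.leaf 0)))))) (.node (.node (.node (.node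 (.node (.leaf 5259264) (.leaf 122603219)) (.node (.leaf 52772864) (.leaf 0))) (.node (.node (.leaf 61341696) (.leaf 0)) (.node (.leaf 81272832) (.leaf 0)))) (.node (.node (.node (.leaf 16228352) (.leaf 150514047)) (.node (.leaf 120168448) (.leaf 0))) (.node (.node (.leaf 82755584) (.leaf 0)) (.node (.leaf 149430272) (.leaf 0))))) (.node (.node (.node (.node (.leaf 25714688) (.leaf 163627008)) (.node (.leaf 59482112) (.leaf 0))) (.node (.node (.leaf 72196096) (.leaf 0)) (.node (.leaf 89300992) (.leaf 0)))) (.node (.node (.node (.leaf 21905408) (.leaf 167579328)) (.node (.leaf 73842688) (.leaf 0))) (.node (.node (.leaf 92692480) (.leaf 0)) (.node (.leaf 149368388) (.leaf 0))))))))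

def e1T117 : NT := .node (.node (.node (.node (.node (.node (.node (.node (.leaf 1531904) (.leaf 146487151)) (.node (.leaf 94052352) (.leaf 0))) (.node (.node (.leaf 22659072) (.leaf 0)) (.node (.leaf 98472594) (.leaf 0)))) (.node (.node (.node (.leaf 27262976) (.leaf 164061184)) (.node (.leaf 112689152) (.leaf 0))) (.node (.node (.leaf 73531392) (.leaf 0)) (.node (.leaf 143826944) (.leaf 0))))) (.node (.node (.node (.node (.leaf 5931008) (.leaf 150403420)) (.node (.leaf 103407616) (.leaf 0))) (.node (.node (.leaf 62775296) (.leaf 0)) (.node (.leaf 136896512) (.leaf 0)))) (.node (.node (.node (.leaf 39485440) (.leaf 145838040)) (.node (.leaf 67403776) (.leaf 0))) (.node (.node (.leaf 40648704) (.leaf 0)) (.node (.leaf 98705408) (.leaf 0)))))) (.node (.node (.node (.node (.node (.leaf 8134656) (.leaf 112943104)) (.node (.leaf 98762752) (.leaf 0))) (.node (.node (.leaf 25534464) (.leaf 0)) (.node (.leaf 133283840) (.leaf 0)))) (.node (.node (.node (.leaf 14139392) (.leaf 165814272)) (.node (.leaf 63905792)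 (.leaf 0))) (.node (.node (.leaf 37593088) (.leaf 0)) (.node (.leaf 147136512) (.leaf 0))))) (.node (.node (.node (.node (.leaf 20927368) (.leaf 150054507)) (.node (.leaf 108298240) (.leaf 0))) (.node (.node (.leaf 45496250) (.leaf 0)) (.node (.leaf 140566528) (.leaf 0)))) (.node (.node (.node (.leaf 45481984) (.leaf 152829952)) (.node (.leaf 71090176) (.leaf 0))) (.node (.node (.leaf 43737088) (.leaf 0)) (.node (.leaf 133673175) (.leaf 0))))))) (.node (.node (.node (.node (.node (.node (.leaf 4857856) (.leaf 156925952)) (.node (.leaf 96395264) (.leaf 0))) (.node (.node (.leaf 54206464) (.leaf 0)) (.node (.leaf 131465216) (.leaf 0)))) (.node (.node (.node (.leaf 30359552) (.leaf 165019648)) (.node (.leaf 62210048) (.leaf 0))) (.node (.node (.leaf 36012032) (.leaf 0)) (.node (.leaf 101669558) (.leaf 0))))) (.node (.node (.node (.node (.leaf 17891328) (.leaf 130310470)) (.node (.leaf 105897984) (.leaf 0))) (.node (.node (.leaf 65519616) (.leaf 0)) (.node (.leaf 84246528) (.leaf 0)))) (.node (.node (.node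 (.leaf 18391040) (.leaf 147996672)) (.node (.leaf 69246976) (.leaf 0))) (.node (.node (.leaf 86441984) (.leaf 0)) (.node (.leaf 100990976) (.leaf 0)))))) (.node (.node (.node (.node (.node (.leaf 11370496) (.leaf 115326976)) (.node (.leaf 62355042) (.leaf 0))) (.node (.node (.leaf 27041792) (.leaf 0)) (.node (.leaf 135102464) (.leaf 0)))) (.node (.node (.node (.leaf 36552704) (.leaf 145281080)) (.node (.leaf 65667072) (.leaf 0))) (.node (.node (.leaf 39165952) (.leaf 0)) (.node (.leaf 96608256) (.leaf 0))))) (.node (.node (.node (.node (.leaf 24182784) (.leaf 126287872)) (.node (.leaf 85230492) (.leaf 0))) (.node (.node (.leaf 32940032) (.leaf 0)) (.node (.leaf 88268800) (.leaf 0)))) (.node (.node (.node (.leaf 48455680) (.leaf 158629888)) (.node (.leaf 75623020) (.leaf 0))) (.node (.node (.leaf 91471872) (.leaf 0)) (.node (.leaf 105603072) (.leaf 0)))))))) (.node (.node (.node (.node (.node (.node (.node (.leaf 1253376) (.leaf 141573113)) (.node (.leaf 95182848) (.leaf 0))) (.node (.node (.leaf 52805632)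 (.leaf 0)) (.node (.leaf 75726848) (.leaf 0)))) (.node (.node (.node (.leaf 12034048) (.leaf 131014656)) (.node (.leaf 83755307) (.leaf 0))) (.node (.node (.leaf 71128049) (.leaf 0)) (.node (.leaf 119352732) (.leaf 0))))) (.node (.node (.node (.node (.leaf 16220160) (.leaf 131533098)) (.node (.leaf 73377847) (.leaf 0))) (.node (.node (.leaf 64151552) (.leaf 0)) (.node (.leaf 137740288) (.leaf 0)))) (.node (.node (.node (.leaf 41000960) (.leaf 161244575)) (.node (.leaf 68280320) (.leaf 0))) (.node (.node (.leaf 76233663) (.leaf 0)) (.node (.leaf 150953984) (.leaf 0)))))) (.node (.node (.node (.node (.node (.leaf 3923968) (.leaf 155734621)) (.node (.leaf 99950592) (.leaf 0))) (.node (.node (.leaf 58441728) (.leaf 0)) (.node (.leaf 124609059) (.leaf 0)))) (.node (.node (.node (.leaf 14843904) (.leaf 139224201)) (.node (.leaf 118194176) (.leaf 0))) (.node (.node (.leaf 79470910) (.leaf 0)) (.node (.leaf 95526912) (.leaf 0))))) (.node (.node (.node (.node (.leaf 9355264) (.leaf 124805120)) (.node (.leaf 57819136)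 (.leaf 0))) (.node (.node (.leaf 48145964) (.leaf 0)) (.node (.leaf 141393920) (.leaf 0)))) (.node (.node (.node (.leaf 20496384) (.leaf 155648000)) (.node (.leaf 72024064) (.leaf 0))) (.node (.node (.leaf 44572672) (.leaf 0)) (.node (.leaf 109004011) (.leaf 0))))))) (.node (.node (.node (.node (.node (.node (.leaf 2580480) (.leaf 129575952)) (.node (.leaf 49463296) (.leaf 0))) (.node (.node (.leaf 55566336) (.leaf 0)) (.node (.leaf 77651968) (.leaf 0)))) (.node (.node (.node (.leaf 31948800) (.leaf 165470208)) (.node (.leaf 63045632) (.leaf 0))) (.node (.node (.leaf 36782080) (.leaf 0)) (.node (.leaf 137794067) (.leaf 0))))) (.node (.node (.node (.node (.leaf 10842290) (.leaf 160164096)) (.node (.leaf 99718845) (.leaf 0))) (.node (.node (.leaf 66953216) (.leaf 0)) (.node (.leaf 139583488) (.leaf 0)))) (.node (.node (.node (.leaf 44007424) (.leaf 161745277)) (.node (.leaf 124444672) (.leaf 0))) (.node (.node (.leaf 87719936) (.leaf 0)) (.node (.leaf 102072320) (.leaf 0)))))) (.node (.node (.node (.node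 (.node (.leaf 12967936) (.leaf 116629504)) (.node (.leaf 78756130) (.leaf 0))) (.node (.node (.leaf 27770880) (.leaf 0)) (.node (.leaf 136011776) (.leaf 0)))) (.node (.node (.node (.leaf 38035456) (.leaf 159930526)) (.node (.leaf 66584576) (.leaf 0))) (.node (.node (.leaf 82771968) (.leaf 0)) (.node (.leaf 97624064) (.leaf 0))))) (.node (.node (.node (.node (.leaf 10690560) (.leaf 127746048)) (.node (.leaf 111607808) (.leaf 0))) (.node (.node (.leaf 72212480) (.leaf 0)) (.node (.leaf 95997583) (.leaf 0)))) (.node (.node (.node (.leaf 49881088) (.leaf 167461445)) (.node (.leaf 98462585) (.leaf 0))) (.node (.node (.leaf 92700672) (.leaf 0)) (.node (.leaf 106807296) (.leaf 0))))))))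

def e1T118 : NT := .node (.node (.node (.node (.node (.node (.node (.node (.leaf 1548288) (.leaf 155713536)) (.node (.leaf 52090359) (.leaf 0))) (.node (.node (.leaf 51355648) (.leaf 0)) (.node (.leaf 129523712) (.leaf 0)))) (.node (.node (.node (.leaf 11354112) (.leaf 158043258)) (.node (.leaf 112705536) (.leaf 0))) (.node (.node (.leaf 34480128) (.leaf 0)) (.node (.leaf 90275840) (.leaf 0))))) (.node (.node (.node (.node (.leaf 14589952) (.leaf 160243712)) (.node (.leaf 53600256) (.leaf 0))) (.node (.node (.leaf 62791680) (.leaf 0)) (.node (.leaf 89106400) (.leaf 0)))) (.node (.node (.node (.leaf 39501824) (.leaf 150049591)) (.node (.leaf 121356288) (.leaf 0))) (.node (.node (.leaf 84025344) (.leaf 0)) (.node (.leaf 146182081) (.leaf 0)))))) (.node (.node (.node (.node (.node (.leaf 8151040) (.leaf 130467144)) (.node (.leaf 50282496) (.leaf 0))) (.node (.node (.leaf 56901632) (.leaf 0)) (.node (.leaf 133300224) (.leaf 0)))) (.node (.node (.node (.leaf 33513472) (.leaf 165822464)) (.node (.leaf 63913984)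 (.leaf 0))) (.node (.node (.leaf 78790656) (.leaf 0)) (.node (.leaf 142512447) (.leaf 0))))) (.node (.node (.node (.node (.leaf 21102592) (.leaf 154966993)) (.node (.leaf 108306432) (.leaf 0))) (.node (.node (.leaf 31440896) (.leaf 0)) (.node (.leaf 86319104) (.leaf 0)))) (.node (.node (.node (.leaf 19808256) (.leaf 153905085)) (.node (.leaf 105380340) (.leaf 0))) (.node (.node (.leaf 79765961) (.leaf 0)) (.node (.leaf 103292928) (.leaf 0))))))) (.node (.node (.node (.node (.node (.node (.leaf 1916928) (.leaf 110534656)) (.node (.leaf 68481235) (.leaf 0))) (.node (.node (.leaf 24068096) (.leaf 0)) (.node (.leaf 131481600) (.leaf 0)))) (.node (.node (.node (.leaf 12713984) (.leaf 160702776)) (.node (.leaf 70395136) (.leaf 0))) (.node (.node (.leaf 76218368) (.leaf 0)) (.node (.leaf 140165590) (.leaf 0))))) (.node (.node (.node (.node (.leaf 17899520) (.leaf 144588913)) (.node (.leaf 105914368) (.leaf 0))) (.node (.node (.leaf 29990912) (.leaf 0)) (.node (.leaf 84254720) (.leaf 0)))) (.node (.node (.node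 (.leaf 42483712) (.leaf 150472089)) (.node (.leaf 95353675) (.leaf 0))) (.node (.node (.leaf 51844593) (.leaf 0)) (.node (.leaf 151674880) (.leaf 0)))))) (.node (.node (.node (.node (.node (.leaf 4595712) (.leaf 119375937)) (.node (.leaf 51970048) (.leaf 0))) (.node (.node (.leaf 59899904) (.leaf 0)) (.node (.leaf 80785872) (.leaf 0)))) (.node (.node (.node (.leaf 15540224) (.leaf 139821056)) (.node (.leaf 65675264) (.leaf 0))) (.node (.node (.leaf 59465988) (.leaf 0)) (.node (.leaf 109623665) (.leaf 0))))) (.node (.node (.node (.node (.leaf 10027008) (.leaf 126296064)) (.node (.leaf 58621952) (.leaf 0))) (.node (.node (.leaf 70877184) (.leaf 0)) (.node (.leaf 142278656) (.leaf 0)))) (.node (.node (.node (.leaf 48472064) (.leaf 160848631)) (.node (.leaf 127557632) (.leaf 0))) (.node (.node (.leaf 45342720) (.leaf 0)) (.node (.leaf 154402816) (.leaf 0)))))))) (.node (.node (.node (.node (.node (.node (.node (.leaf 3211264) (.leaf 109305856)) (.node (.leaf 95199232) (.leaf 0))) (.node (.node (.leaf 52822016)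 (.leaf 0)) (.node (.leaf 127061996) (.leaf 0)))) (.node (.node (.node (.leaf 28827648) (.leaf 131031040)) (.node (.leaf 61317120) (.leaf 0))) (.node (.node (.leaf 35233792) (.leaf 0)) (.node (.leaf 91389952) (.leaf 0))))) (.node (.node (.node (.node (.leaf 16236544) (.leaf 160833536)) (.node (.leaf 104595456) (.leaf 0))) (.node (.node (.leaf 64167936) (.leaf 0)) (.node (.leaf 83238912) (.leaf 0)))) (.node (.node (.node (.leaf 17686528) (.leaf 154439349)) (.node (.leaf 122203639) (.leaf 0))) (.node (.node (.leaf 85237760) (.leaf 0)) (.node (.leaf 125494878) (.leaf 0)))))) (.node (.node (.node (.node (.node (.leaf 9781248) (.leaf 114049024)) (.node (.leaf 99958784) (.leaf 0))) (.node (.node (.leaf 58458112) (.leaf 0)) (.node (.leaf 134184960) (.leaf 0)))) (.node (.node (.node (.leaf 24215815) (.leaf 153120909)) (.node (.leaf 118210560) (.leaf 0))) (.node (.node (.leaf 38420480) (.leaf 0)) (.node (.leaf 147849216) (.leaf 0))))) (.node (.node (.node (.node (.leaf 22609920) (.leaf 159002372)) (.node (.leaf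 93086861) (.leaf 0))) (.node (.node (.leaf 32202752) (.leaf 0)) (.node (.leaf 141410304) (.leaf 0)))) (.node (.node (.node (.leaf 46997504) (.leaf 165143116)) (.node (.leaf 111490654) (.leaf 0))) (.node (.node (.leaf 90324992) (.leaf 0)) (.node (.leaf 104316928) (.leaf 0))))))) (.node (.node (.node (.node (.node (.node (.leaf 6488064) (.leaf 111779840)) (.node (.leaf 97591296) (.leaf 0))) (.node (.node (.leaf 55582720) (.leaf 0)) (.node (.leaf 132382720) (.leaf 0)))) (.node (.node (.node (.leaf 31965184) (.leaf 134283264)) (.node (.leaf 74941386) (.leaf 0))) (.node (.node (.leaf 77520896) (.leaf 0)) (.node (.leaf 126309064) (.leaf 0))))) (.node (.node (.node (.node (.leaf 7987200) (.leaf 122011648)) (.node (.leaf 56123392) (.leaf 0))) (.node (.node (.leaf 30711808) (.leaf 0)) (.node (.leaf 139591680) (.leaf 0)))) (.node (.node (.node (.leaf 19103744) (.leaf 152745497)) (.node (.leaf 124461056) (.leaf 0))) (.node (.node (.leaf 42950656) (.leaf 0)) (.node (.leaf 136473174) (.leaf 0)))))) (.node (.node (.node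 (.node (.node (.leaf 5267456) (.leaf 133174660)) (.node (.leaf 102342656) (.leaf 0))) (.node (.node (.leaf 47624512) (.leaf 0)) (.node (.leaf 81289216) (.leaf 0)))) (.node (.node (.node (.leaf 38043648) (.leaf 165287081)) (.node (.leaf 120184832) (.leaf 0))) (.node (.node (.leaf 39895040) (.leaf 0)) (.node (.leaf 112309949) (.leaf 0))))) (.node (.node (.node (.node (.leaf 25731072) (.leaf 163635200)) (.node (.leaf 111624192) (.leaf 0))) (.node (.node (.leaf 72228864) (.leaf 0)) (.node (.leaf 89309184) (.leaf 0)))) (.node (.node (.node (.leaf 21913600) (.leaf 166286314)) (.node (.leaf 85051002) (.leaf 0))) (.node (.node (.leaf 75099673) (.leaf 0)) (.node (.leaf 138211272) (.leaf 0))))))))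

def e1T119 : NT := .node (.node (.node (.node (.node (.node (.node (.node (.leaf 1564672) (.leaf 108019712)) (.node (.leaf 94068736) (.leaf 0))) (.node (.node (.leaf 22667264) (.leaf 0)) (.node (.leaf 129531904) (.leaf 0)))) (.node (.node (.node (.leaf 27279360) (.leaf 129351680)) (.node (.leaf 60350464) (.leaf 0))) (.node (.node (.leaf 73547776) (.leaf 0)) (.node (.leaf 143851520) (.leaf 0))))) (.node (.node (.node (.node (.leaf 14606336) (.leaf 118087680)) (.node (.leaf 103432192) (.leaf 0))) (.node (.node (.leaf 28532736) (.leaf 0)) (.node (.leaf 82272256) (.leaf 0)))) (.node (.node (.node (.leaf 39518208) (.leaf 143704064)) (.node (.leaf 67411968) (.leaf 0))) (.node (.node (.leaf 40656896) (.leaf 0)) (.node (.leaf 98713600) (.leaf 0)))))) (.node (.node (.node (.node (.node (.leaf 3260416) (.leaf 158031872)) (.node (.leaf 98779136) (.leaf 0))) (.node (.node (.leaf 56918016) (.leaf 0)) (.node (.leaf 78495744) (.leaf 0)))) (.node (.node (.node (.leaf 14147584) (.leaf 165524299)) (.node (.leaf 117104640)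 (.leaf 0))) (.node (.node (.leaf 37601280) (.leaf 0)) (.node (.leaf 147152896) (.leaf 0))))) (.node (.node (.node (.node (.leaf 8675328) (.leaf 123535360)) (.node (.leaf 108314624) (.leaf 0))) (.node (.node (.leaf 68378624) (.leaf 0)) (.node (.leaf 116589621) (.leaf 0)))) (.node (.node (.node (.leaf 45506560) (.leaf 159025130)) (.node (.leaf 72300749) (.leaf 0))) (.node (.node (.leaf 89014272) (.leaf 0)) (.node (.leaf 148961417) (.leaf 0))))))) (.node (.node (.node (.node (.node (.node (.leaf 4882432) (.leaf 155337185)) (.node (.leaf 96411648) (.leaf 0))) (.node (.node (.leaf 54222848) (.leaf 0)) (.node (.leaf 131489792) (.leaf 0)))) (.node (.node (.node (.leaf 30384128) (.leaf 142738250)) (.node (.leaf 62226432) (.leaf 0))) (.node (.node (.leaf 76234752) (.leaf 0)) (.node (.leaf 145416192) (.leaf 0))))) (.node (.node (.node (.node (.leaf 7307264) (.leaf 120791040)) (.node (.leaf 55312384) (.leaf 0))) (.node (.node (.leaf 65544192) (.leaf 0)) (.node (.leaf 138600448) (.leaf 0)))) (.node (.node (.node (.leaf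 18407424) (.leaf 157799811)) (.node (.leaf 95340696) (.leaf 0))) (.node (.node (.leaf 42172416) (.leaf 0)) (.node (.leaf 101007360) (.leaf 0)))))) (.node (.node (.node (.node (.node (.leaf 11395072) (.leaf 115376128)) (.node (.leaf 51978240) (.leaf 0))) (.node (.node (.leaf 59916288) (.leaf 0)) (.node (.leaf 135118848) (.leaf 0)))) (.node (.node (.node (.leaf 36577280) (.leaf 139845632)) (.node (.leaf 119234560) (.leaf 0))) (.node (.node (.leaf 39182336) (.leaf 0)) (.node (.leaf 96624640) (.leaf 0))))) (.node (.node (.node (.node (.leaf 24207360) (.leaf 139634149)) (.node (.leaf 110567424) (.leaf 0))) (.node (.node (.leaf 32948224) (.leaf 0)) (.node (.leaf 88276992) (.leaf 0)))) (.node (.node (.node (.leaf 26745148) (.leaf 163882770)) (.node (.leaf 72941568) (.leaf 0))) (.node (.node (.leaf 91488256) (.leaf 0)) (.node (.leaf 146516180) (.leaf 0)))))))) (.node (.node (.node (.node (.node (.node (.node (.leaf 3227648) (.leaf 109322240)) (.node (.leaf 47751168) (.leaf 0))) (.node (.node (.leaf 52838400) (.leaf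 0)) (.node (.leaf 130416640) (.leaf 0)))) (.node (.node (.node (.leaf 12042240) (.leaf 164642816)) (.node (.leaf 113827840) (.leaf 0))) (.node (.node (.leaf 35241984) (.leaf 0)) (.node (.leaf 144646144) (.leaf 0))))) (.node (.node (.node (.node (.leaf 6619136) (.leaf 120613206)) (.node (.leaf 54444032) (.leaf 0))) (.node (.node (.leaf 29245440) (.leaf 0)) (.node (.leaf 83255296) (.leaf 0)))) (.node (.node (.node (.leaf 41025536) (.leaf 145965056)) (.node (.leaf 122388480) (.leaf 0))) (.node (.node (.leaf 41385984) (.leaf 0)) (.node (.leaf 99852288) (.leaf 0)))))) (.node (.node (.node (.node (.node (.leaf 3932160) (.leaf 120993805)) (.node (.leaf 51134464) (.leaf 0))) (.node (.node (.leaf 26320896) (.leaf 0)) (.node (.leaf 79380480) (.leaf 0)))) (.node (.node (.node (.leaf 35004416) (.leaf 161971134)) (.node (.leaf 115191772) (.leaf 0))) (.node (.node (.leaf 80142336) (.leaf 0)) (.node (.leaf 95535104) (.leaf 0))))) (.node (.node (.node (.node (.leaf 9363456) (.leaf 124821504)) (.node (.leaf 109420544)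 (.leaf 0))) (.node (.node (.leaf 69582848) (.leaf 0)) (.node (.leaf 87293952) (.leaf 0)))) (.node (.node (.node (.leaf 20504576) (.leaf 155697152)) (.node (.leaf 126550016) (.leaf 0))) (.node (.node (.leaf 90341376) (.leaf 0)) (.node (.leaf 132733214) (.leaf 0))))))) (.node (.node (.node (.node (.node (.node (.leaf 2588672) (.leaf 157581312)) (.node (.leaf 49479680) (.leaf 0))) (.node (.node (.leaf 24797184) (.leaf 0)) (.node (.leaf 77660160) (.leaf 0)))) (.node (.node (.node (.leaf 13410304) (.leaf 134291456)) (.node (.leaf 63070208) (.leaf 0))) (.node (.node (.leaf 36798464) (.leaf 0)) (.node (.leaf 146300928) (.leaf 0))))) (.node (.node (.node (.node (.leaf 19521536) (.leaf 161808384)) (.node (.leaf 107005650) (.leaf 0))) (.node (.node (.leaf 66977792) (.leaf 0)) (.node (.leaf 139608064) (.leaf 0)))) (.node (.node (.node (.leaf 44023808) (.leaf 150659072)) (.node (.leaf 70164480) (.leaf 0))) (.node (.node (.leaf 87744512) (.leaf 0)) (.node (.leaf 118260487) (.leaf 0)))))) (.node (.node (.node (.node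 (.node (.leaf 12992512) (.leaf 116645888)) (.node (.leaf 52789248) (.leaf 0))) (.node (.node (.leaf 61358080) (.leaf 0)) (.node (.leaf 98659566) (.leaf 0)))) (.node (.node (.node (.leaf 16244736) (.leaf 141770752)) (.node (.leaf 66600960) (.leaf 0))) (.node (.node (.leaf 82796544) (.leaf 0)) (.node (.leaf 135247662) (.leaf 0))))) (.node (.node (.node (.node (.leaf 25747456) (.leaf 127778816)) (.node (.leaf 59498496) (.leaf 0))) (.node (.node (.leaf 33734656) (.leaf 0)) (.node (.leaf 89317376) (.leaf 0)))) (.node (.node (.node (.leaf 49905664) (.leaf 163553280)) (.node (.leaf 121284714) (.leaf 0))) (.node (.node (.leaf 46112768) (.leaf 0)) (.node (.leaf 155041792) (.leaf 0))))))))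

def e1T120 : NT := .node (.node (.node (.node (.node (.node (.node (.node (.leaf 614400) (.leaf 113782310)) (.node (.leaf 94085120) (.leaf 0))) (.node (.node (.leaf 51380224) (.leaf 0)) (.node (.leaf 126281882) (.leaf 0)))) (.node (.node (.node (.leaf 11362304) (.leaf 164077568)) (.node (.leaf 84871204) (.leaf 0))) (.node (.node (.leaf 34488320) (.leaf 0)) (.node (.leaf 129338160) (.leaf 0))))) (.node (.node (.node (.node (.leaf 5947392) (.leaf 121366285)) (.node (.leaf 103448576) (.leaf 0))) (.node (.node (.leaf 61870664) (.leaf 0)) (.node (.leaf 136904704) (.leaf 0)))) (.node (.node (.node (.leaf 16998400) (.leaf 162535641)) (.node (.leaf 121380864) (.leaf 0))) (.node (.node (.leaf 84041728) (.leaf 0)) (.node (.leaf 150208512) (.leaf 0)))))) (.node (.node (.node (.node (.node (.leaf 8175616) (.leaf 116674742)) (.node (.leaf 50298880) (.leaf 0))) (.node (.node (.leaf 25550848) (.leaf 0)) (.node (.leaf 109783910) (.leaf 0)))) (.node (.node (.node (.leaf 33538048) (.leaf 160769552)) (.node (.leaf 117121024)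 (.leaf 0))) (.node (.node (.leaf 78815232) (.leaf 0)) (.node (.leaf 120378775) (.leaf 0))))) (.node (.node (.node (.node (.leaf 8683520) (.leaf 162332672)) (.node (.leaf 56999936) (.leaf 0))) (.node (.node (.leaf 31457280) (.leaf 0)) (.node (.leaf 86335488) (.leaf 0)))) (.node (.node (.node (.leaf 19816448) (.leaf 152862720)) (.node (.leaf 125526016) (.leaf 0))) (.node (.node (.leaf 43753472) (.leaf 0)) (.node (.leaf 103309312) (.leaf 0))))))) (.node (.node (.node (.node (.node (.node (.leaf 1925120) (.leaf 156942336)) (.node (.leaf 96428032) (.leaf 0))) (.node (.node (.leaf 24084480) (.leaf 0)) (.node (.leaf 76750848) (.leaf 0)))) (.node (.node (.node (.leaf 30400512) (.leaf 135135478)) (.node (.leaf 86841208) (.leaf 0))) (.node (.node (.leaf 76251136) (.leaf 0)) (.node (.leaf 92487680) (.leaf 0))))) (.node (.node (.node (.node (.leaf 17907712) (.leaf 152858793)) (.node (.leaf 104485322) (.leaf 0))) (.node (.node (.leaf 29999104) (.leaf 0)) (.node (.leaf 138616832) (.leaf 0)))) (.node (.node (.node (.leaf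 42508288) (.leaf 148029440)) (.node (.leaf 69263360) (.leaf 0))) (.node (.node (.leaf 48497286) (.leaf 0)) (.node (.leaf 101015552) (.leaf 0)))))) (.node (.node (.node (.node (.node (.leaf 11411456) (.leaf 138103034)) (.node (.leaf 101220352) (.leaf 0))) (.node (.node (.leaf 27058176) (.leaf 0)) (.node (.leaf 80347136) (.leaf 0)))) (.node (.node (.node (.leaf 36593664) (.leaf 153901302)) (.node (.leaf 119250944) (.leaf 0))) (.node (.node (.leaf 81436672) (.leaf 0)) (.node (.leaf 96641024) (.leaf 0))))) (.node (.node (.node (.node (.leaf 24223744) (.leaf 163241984)) (.node (.leaf 58630144) (.leaf 0))) (.node (.node (.leaf 70901760) (.leaf 0)) (.node (.leaf 125605981) (.leaf 0)))) (.node (.node (.node (.leaf 21217280) (.leaf 165555902)) (.node (.leaf 127574016) (.leaf 0))) (.node (.node (.leaf 70666472) (.leaf 0)) (.node (.leaf 105619456) (.leaf 0)))))))) (.node (.node (.node (.node (.node (.node (.node (.leaf 1269760) (.leaf 156344320)) (.node (.leaf 47759360) (.leaf 0))) (.node (.node (.leaf 52854784)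 (.leaf 0)) (.node (.leaf 116228940) (.leaf 0)))) (.node (.node (.node (.leaf 28852224) (.leaf 131047424)) (.node (.leaf 61333504) (.leaf 0))) (.node (.node (.leaf 74891264) (.leaf 0)) (.node (.leaf 144662528) (.leaf 0))))) (.node (.node (.node (.node (.leaf 16252928) (.leaf 138026128)) (.node (.leaf 54460416) (.leaf 0))) (.node (.node (.leaf 64184320) (.leaf 0)) (.node (.leaf 137764864) (.leaf 0)))) (.node (.node (.node (.leaf 41041920) (.leaf 165325971)) (.node (.leaf 122396672) (.leaf 0))) (.node (.node (.leaf 53740976) (.leaf 0)) (.node (.leaf 99860480) (.leaf 0)))))) (.node (.node (.node (.node (.node (.leaf 9805824) (.leaf 114386035)) (.node (.leaf 51142656) (.leaf 0))) (.node (.node (.leaf 58474496) (.leaf 0)) (.node (.leaf 128945111) (.leaf 0)))) (.node (.node (.node (.leaf 14860288) (.leaf 137805824)) (.node (.leaf 90118643) (.leaf 0))) (.node (.node (.leaf 39611983) (.leaf 0)) (.node (.leaf 125672380) (.leaf 0))))) (.node (.node (.node (.node (.leaf 22634496) (.leaf 143135822)) (.node (.leaf 78512567)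 (.leaf 0))) (.node (.node (.leaf 32219136) (.leaf 0)) (.node (.leaf 110691101) (.leaf 0)))) (.node (.node (.node (.leaf 47022080) (.leaf 167502957)) (.node (.leaf 72040448) (.leaf 0))) (.node (.node (.leaf 44589056) (.leaf 0)) (.node (.leaf 119677044) (.leaf 0))))))) (.node (.node (.node (.node (.node (.node (.leaf 6512640) (.leaf 111804416)) (.node (.leaf 67951215) (.leaf 0))) (.node (.node (.leaf 55607296) (.leaf 0)) (.node (.leaf 77676544) (.leaf 0)))) (.node (.node (.node (.leaf 21364781) (.leaf 139490976)) (.node (.leaf 116039680) (.leaf 0))) (.node (.node (.leaf 77529088) (.leaf 0)) (.node (.leaf 146317312) (.leaf 0))))) (.node (.node (.node (.node (.leaf 7995392) (.leaf 150423154)) (.node (.leaf 56131584) (.leaf 0))) (.node (.node (.leaf 55940411) (.leaf 0)) (.node (.leaf 139616256) (.leaf 0)))) (.node (.node (.node (.leaf 44032000) (.leaf 167380727)) (.node (.leaf 78452030) (.leaf 0))) (.node (.node (.leaf 42958848) (.leaf 0)) (.node (.leaf 102088704) (.leaf 0)))))) (.node (.node (.node (.node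 (.node (.leaf 5283840) (.leaf 123083411)) (.node (.leaf 102367232) (.leaf 0))) (.node (.node (.leaf 27795456) (.leaf 0)) (.node (.leaf 136036352) (.leaf 0)))) (.node (.node (.node (.leaf 38068224) (.leaf 141787136)) (.node (.leaf 116089722) (.leaf 0))) (.node (.node (.leaf 39903232) (.leaf 0)) (.node (.leaf 97640448) (.leaf 0))))) (.node (.node (.node (.node (.leaf 10706944) (.leaf 127803392)) (.node (.leaf 111640576) (.leaf 0))) (.node (.node (.leaf 72253440) (.leaf 0)) (.node (.leaf 114240134) (.leaf 0)))) (.node (.node (.node (.leaf 21921792) (.leaf 163577856)) (.node (.leaf 73867264) (.leaf 0))) (.node (.node (.leaf 57647764) (.leaf 0)) (.node (.leaf 155049984) (.leaf 0))))))))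

def e1T121 : NT := .node (.node (.node (.node (.node (.node (.node (.node (.leaf 1589248) (.leaf 155738112)) (.node (.leaf 46915584) (.leaf 0))) (.node (.node (.leaf 51396608) (.leaf 0)) (.node (.leaf 74784768) (.leaf 0)))) (.node (.node (.node (.leaf 27295744) (.leaf 129359872)) (.node (.leaf 60358656) (.leaf 0))) (.node (.node (.leaf 73572352) (.leaf 0)) (.node (.leaf 90308608) (.leaf 0))))) (.node (.node (.node (.node (.leaf 14630912) (.leaf 158608846)) (.node (.leaf 103464960) (.leaf 0))) (.node (.node (.leaf 45381843) (.leaf 0)) (.node (.leaf 136912896) (.leaf 0)))) (.node (.node (.node (.leaf 39542784) (.leaf 167116800)) (.node (.leaf 119866778) (.leaf 0))) (.node (.node (.leaf 84058112) (.leaf 0)) (.node (.leaf 106125361) (.leaf 0)))))) (.node (.node (.node (.node (.node (.leaf 8192000) (.leaf 112984064)) (.node (.leaf 97449293) (.leaf 0))) (.node (.node (.leaf 56942592) (.leaf 0)) (.node (.leaf 114853282) (.leaf 0)))) (.node (.node (.node (.leaf 14163968) (.leaf 157099309)) (.node (.leaf 63930368)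 (.leaf 0))) (.node (.node (.leaf 78831616) (.leaf 0)) (.node (.leaf 132250005) (.leaf 0))))) (.node (.node (.node (.node (.leaf 8691712) (.leaf 123568128)) (.node (.leaf 108339200) (.leaf 0))) (.node (.node (.leaf 68403200) (.leaf 0)) (.node (.leaf 117376328) (.leaf 0)))) (.node (.node (.node (.leaf 30353250) (.leaf 163542041)) (.node (.leaf 125542400) (.leaf 0))) (.node (.node (.leaf 89038848) (.leaf 0)) (.node (.leaf 153001984) (.leaf 0))))))) (.node (.node (.node (.node (.node (.node (.leaf 4907008) (.leaf 110551040)) (.node (.leaf 48652288) (.leaf 0))) (.node (.node (.leaf 54247424) (.leaf 0)) (.node (.leaf 100969088) (.leaf 0)))) (.node (.node (.node (.leaf 12730368) (.leaf 142848649)) (.node (.leaf 62234624) (.leaf 0))) (.node (.node (.leaf 36036608) (.leaf 0)) (.node (.leaf 125273975) (.leaf 0))))) (.node (.node (.node (.node (.leaf 7315456) (.leaf 120799232)) (.node (.leaf 105938944) (.leaf 0))) (.node (.node (.leaf 44071078) (.leaf 0)) (.node (.leaf 84295680) (.leaf 0)))) (.node (.node (.node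 (.leaf 42524672) (.leaf 161940272)) (.node (.leaf 117075415) (.leaf 0))) (.node (.node (.leaf 42180608) (.leaf 0)) (.node (.leaf 109502922) (.leaf 0)))))) (.node (.node (.node (.node (.node (.leaf 4612096) (.leaf 142252797)) (.node (.leaf 51994624) (.leaf 0))) (.node (.node (.leaf 59940864) (.leaf 0)) (.node (.leaf 80355328) (.leaf 0)))) (.node (.node (.node (.leaf 15556608) (.leaf 143401157)) (.node (.leaf 119259136) (.leaf 0))) (.node (.node (.leaf 39190528) (.leaf 0)) (.node (.leaf 96657408) (.leaf 0))))) (.node (.node (.node (.node (.leaf 10043392) (.leaf 128347539)) (.node (.leaf 82516575) (.leaf 0))) (.node (.node (.leaf 70909952) (.leaf 0)) (.node (.leaf 88293376) (.leaf 0)))) (.node (.node (.node (.leaf 48488448) (.leaf 158711808)) (.node (.leaf 94325566) (.leaf 0))) (.node (.node (.leaf 45359104) (.leaf 0)) (.node (.leaf 154419200) (.leaf 0)))))))) (.node (.node (.node (.node (.node (.node (.node (.leaf 3252224) (.leaf 156352512)) (.node (.leaf 47775744) (.leaf 0))) (.node (.node (.leaf 23396352)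 (.leaf 0)) (.node (.leaf 75751424) (.leaf 0)))) (.node (.node (.node (.leaf 22785608) (.leaf 164659200)) (.node (.leaf 113852416) (.leaf 0))) (.node (.node (.leaf 35258368) (.leaf 0)) (.node (.leaf 91422720) (.leaf 0))))) (.node (.node (.node (.node (.leaf 6627328) (.leaf 119463936)) (.node (.leaf 54468608) (.leaf 0))) (.node (.node (.leaf 64200704) (.leaf 0)) (.node (.leaf 137781248) (.leaf 0)))) (.node (.node (.node (.leaf 17702912) (.leaf 145973248)) (.node (.leaf 68321280) (.leaf 0))) (.node (.node (.leaf 43058630) (.leaf 0)) (.node (.leaf 99868672) (.leaf 0)))))) (.node (.node (.node (.node (.node (.leaf 6127616) (.leaf 114081792)) (.node (.leaf 99983360) (.leaf 0))) (.node (.node (.leaf 58482688) (.leaf 0)) (.node (.leaf 109642759) (.leaf 0)))) (.node (.node (.node (.leaf 35028992) (.leaf 162641604)) (.node (.leaf 64790528) (.leaf 0))) (.node (.node (.leaf 38436864) (.leaf 0)) (.node (.leaf 95551488) (.leaf 0))))) (.node (.node (.node (.node (.leaf 22650880) (.leaf 155479244)) (.node (.leaf 84894224)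 (.leaf 0))) (.node (.node (.leaf 69599232) (.leaf 0)) (.node (.leaf 87302144) (.leaf 0)))) (.node (.node (.node (.leaf 47038464) (.leaf 165619366)) (.node (.leaf 111243256) (.leaf 0))) (.node (.node (.leaf 75148343) (.leaf 0)) (.node (.leaf 118745164) (.leaf 0))))))) (.node (.node (.node (.node (.node (.node (.leaf 6529024) (.leaf 138177186)) (.node (.leaf 49487872) (.leaf 0))) (.node (.node (.leaf 24805376) (.leaf 0)) (.node (.leaf 132399104) (.leaf 0)))) (.node (.node (.node (.leaf 13418496) (.leaf 165478400)) (.node (.leaf 97219073) (.leaf 0))) (.node (.node (.leaf 77537280) (.leaf 0)) (.node (.leaf 93437952) (.leaf 0))))) (.node (.node (.node (.node (.leaf 19546112) (.leaf 122044416)) (.node (.leaf 70357033) (.leaf 0))) (.node (.node (.leaf 30728192) (.leaf 0)) (.node (.leaf 85278720) (.leaf 0)))) (.node (.node (.node (.leaf 44048384) (.leaf 150724608)) (.node (.leaf 70180864) (.leaf 0))) (.node (.node (.leaf 87769088) (.leaf 0)) (.node (.leaf 152354816) (.leaf 0)))))) (.node (.node (.node (.node (.node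 (.leaf 13017088) (.leaf 159678464)) (.node (.leaf 52797440) (.leaf 0))) (.node (.node (.leaf 54188313) (.leaf 0)) (.node (.leaf 94524695) (.leaf 0)))) (.node (.node (.node (.leaf 38084608) (.leaf 141811712)) (.node (.leaf 66609152) (.leaf 0))) (.node (.node (.leaf 59148331) (.leaf 0)) (.node (.leaf 97665024) (.leaf 0))))) (.node (.node (.node (.node (.leaf 25755648) (.leaf 159158420)) (.node (.leaf 59506688) (.leaf 0))) (.node (.node (.leaf 33751040) (.leaf 0)) (.node (.leaf 89325568) (.leaf 0)))) (.node (.node (.node (.leaf 49930240) (.leaf 167907966)) (.node (.leaf 128606208) (.leaf 0))) (.node (.node (.leaf 92733440) (.leaf 0)) (.node (.leaf 153790879) (.leaf 0))))))))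

def e1T122 : NT := .node (.node (.node (.node (.node (.node (.node (.node (.leaf 622592) (.leaf 155746304)) (.node (.leaf 51417647) (.leaf 0))) (.node (.node (.leaf 22683648) (.leaf 0)) (.node (.leaf 120503052) (.leaf 0)))) (.node (.node (.node (.leaf 13772106) (.leaf 156518590)) (.node (.leaf 60375040) (.leaf 0))) (.node (.node (.leaf 34496512) (.leaf 0)) (.node (.leaf 123945854) (.leaf 0))))) (.node (.node (.node (.node (.leaf 14647296) (.leaf 118120448)) (.node (.leaf 53633024) (.leaf 0))) (.node (.node (.leaf 28549120) (.leaf 0)) (.node (.leaf 82288640) (.leaf 0)))) (.node (.node (.node (.leaf 39559168) (.leaf 152982119)) (.node (.leaf 67428352) (.leaf 0))) (.node (.node (.leaf 40673280) (.leaf 0)) (.node (.leaf 98754560) (.leaf 0)))))) (.node (.node (.node (.node (.node (.leaf 3276800) (.leaf 139147175)) (.node (.leaf 98803712) (.leaf 0))) (.node (.node (.leaf 56958976) (.leaf 0)) (.node (.leaf 78520320) (.leaf 0)))) (.node (.node (.node (.leaf 33554432) (.leaf 157655521)) (.node (.leaf 117137408)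 (.leaf 0))) (.node (.node (.leaf 37617664) (.leaf 0)) (.node (.leaf 147161088) (.leaf 0))))) (.node (.node (.node (.node (.leaf 21143552) (.leaf 153274677)) (.node (.leaf 108355584) (.leaf 0))) (.node (.node (.leaf 31465472) (.leaf 0)) (.node (.leaf 140599296) (.leaf 0)))) (.node (.node (.node (.leaf 19832832) (.leaf 152879104)) (.node (.leaf 125558784) (.leaf 0))) (.node (.node (.leaf 89047040) (.leaf 0)) (.node (.leaf 103317504) (.leaf 0))))))) (.node (.node (.node (.node (.node (.node (.leaf 4923392) (.leaf 128789389)) (.node (.leaf 96452608) (.leaf 0))) (.node (.node (.leaf 24092672) (.leaf 0)) (.node (.leaf 96742397) (.leaf 0)))) (.node (.node (.node (.leaf 30425088) (.leaf 132603904)) (.node (.leaf 114941952) (.leaf 0))) (.node (.node (.leaf 76275712) (.leaf 0)) (.node (.leaf 92495872) (.leaf 0))))) (.node (.node (.node (.node (.leaf 17932288) (.leaf 161275904)) (.node (.leaf 105955328) (.leaf 0))) (.node (.node (.leaf 65576960) (.leaf 0)) (.node (.leaf 120179341) (.leaf 0)))) (.node (.node (.node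 (.leaf 18423808) (.leaf 148461649)) (.node (.leaf 123486208) (.leaf 0))) (.node (.node (.leaf 86466560) (.leaf 0)) (.node (.leaf 101056512) (.leaf 0)))))) (.node (.node (.node (.node (.node (.leaf 11436032) (.leaf 159186944)) (.node (.leaf 94539525) (.leaf 0))) (.node (.node (.leaf 27066368) (.leaf 0)) (.node (.leaf 102841092) (.leaf 0)))) (.node (.node (.node (.leaf 36618240) (.leaf 139878400)) (.node (.leaf 94210000) (.leaf 0))) (.node (.node (.leaf 75856158) (.leaf 0)) (.node (.leaf 112260197) (.leaf 0))))) (.node (.node (.node (.node (.leaf 24248320) (.leaf 158330615)) (.node (.leaf 58898112) (.leaf 0))) (.node (.node (.leaf 32964608) (.leaf 0)) (.node (.leaf 142295040) (.leaf 0)))) (.node (.node (.node (.leaf 48504832) (.leaf 161440671)) (.node (.leaf 72957952) (.leaf 0))) (.node (.node (.leaf 91512832) (.leaf 0)) (.node (.leaf 154427392) (.leaf 0)))))))) (.node (.node (.node (.node (.node (.node (.node (.leaf 3268608) (.leaf 109346816)) (.node (.leaf 95232000) (.leaf 0))) (.node (.node (.leaf 52879360)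 (.leaf 0)) (.node (.leaf 75759616) (.leaf 0)))) (.node (.node (.node (.leaf 12058624) (.leaf 161884410)) (.node (.leaf 113860608) (.leaf 0))) (.node (.node (.leaf 74915840) (.leaf 0)) (.node (.leaf 144670720) (.leaf 0))))) (.node (.node (.node (.node (.leaf 16277504) (.leaf 160858112)) (.node (.leaf 104636416) (.leaf 0))) (.node (.node (.leaf 29261824) (.leaf 0)) (.node (.leaf 130801880) (.leaf 0)))) (.node (.node (.node (.leaf 41066496) (.leaf 157478909)) (.node (.leaf 99563190) (.leaf 0))) (.node (.node (.leaf 41402368) (.leaf 0)) (.node (.leaf 99876864) (.leaf 0)))))) (.node (.node (.node (.node (.node (.leaf 3948544) (.leaf 151126075)) (.node (.leaf 99999744) (.leaf 0))) (.node (.node (.leaf 58499072) (.leaf 0)) (.node (.leaf 106907490) (.leaf 0)))) (.node (.node (.node (.leaf 35045376) (.leaf 156000320)) (.node (.leaf 118243328) (.leaf 0))) (.node (.node (.leaf 80175104) (.leaf 0)) (.node (.leaf 147865600) (.leaf 0))))) (.node (.node (.node (.node (.leaf 9379840) (.leaf 144359905)) (.node (.leaf 109445120)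 (.leaf 0))) (.node (.node (.leaf 32227328) (.leaf 0)) (.node (.leaf 141426688) (.leaf 0)))) (.node (.node (.node (.leaf 20520960) (.leaf 155779072)) (.node (.leaf 126566400) (.leaf 0))) (.node (.node (.leaf 44597248) (.leaf 0)) (.node (.leaf 153747456) (.leaf 0))))))) (.node (.node (.node (.node (.node (.node (.leaf 2605056) (.leaf 122352406)) (.node (.leaf 88191103) (.leaf 0))) (.node (.node (.leaf 55623680) (.leaf 0)) (.node (.leaf 77684736) (.leaf 0)))) (.node (.node (.node (.leaf 13545014) (.leaf 161704894)) (.node (.leaf 63086592) (.leaf 0))) (.node (.node (.leaf 47798801) (.leaf 0)) (.node (.leaf 117059302) (.leaf 0))))) (.node (.node (.node (.node (.leaf 19562496) (.leaf 161816576)) (.node (.leaf 107126784) (.leaf 0))) (.node (.node (.leaf 30736384) (.leaf 0)) (.node (.leaf 139624448) (.leaf 0)))) (.node (.node (.node (.leaf 19128320) (.leaf 162189757)) (.node (.leaf 124493824) (.leaf 0))) (.node (.node (.leaf 87785472) (.leaf 0)) (.node (.leaf 146650126) (.leaf 0)))))) (.node (.node (.node (.node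 (.node (.leaf 5292032) (.leaf 147470563)) (.node (.leaf 102383616) (.leaf 0))) (.node (.node (.leaf 61390848) (.leaf 0)) (.node (.leaf 132037270) (.leaf 0)))) (.node (.node (.node (.leaf 16261120) (.leaf 161687465)) (.node (.leaf 120209408) (.leaf 0))) (.node (.node (.leaf 82829312) (.leaf 0)) (.node (.leaf 149446656) (.leaf 0))))) (.node (.node (.node (.node (.leaf 10715136) (.leaf 127819776)) (.node (.leaf 79940208) (.leaf 0))) (.node (.node (.leaf 72269824) (.leaf 0)) (.node (.leaf 132596087) (.leaf 0)))) (.node (.node (.node (.leaf 49946624) (.leaf 163725312)) (.node (.leaf 128614400) (.leaf 0))) (.node (.node (.leaf 46153728) (.leaf 0)) (.node (.leaf 155066368) (.leaf 0))))))))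

def e1T123 : NT := .node (.node (.node (.node (.node (.node (.node (.node (.leaf 1613824) (.leaf 129877056)) (.node (.leaf 92364800) (.leaf 0))) (.node (.node (.leaf 41584588) (.leaf 0)) (.node (.leaf 74801152) (.leaf 0)))) (.node (.node (.node (.leaf 11378688) (.leaf 129384448)) (.node (.leaf 81734954) (.leaf 0))) (.node (.node (.leaf 34504704) (.leaf 0)) (.node (.leaf 90316800) (.leaf 0))))) (.node (.node (.node (.node (.leaf 5963776) (.leaf 118128640)) (.node (.leaf 84797484) (.leaf 0))) (.node (.node (.leaf 62832640) (.leaf 0)) (.node (.leaf 136929280) (.leaf 0)))) (.node (.node (.node (.leaf 17014784) (.leaf 143785984)) (.node (.leaf 121405440) (.leaf 0))) (.node (.node (.leaf 48981141) (.leaf 0)) (.node (.leaf 131307102) (.leaf 0)))))) (.node (.node (.node (.node (.node (.leaf 8208384) (.leaf 112992256)) (.node (.leaf 98811904) (.leaf 0))) (.node (.node (.leaf 25567232) (.leaf 0)) (.node (.leaf 82893668) (.leaf 0)))) (.node (.node (.node (.leaf 33570816) (.leaf 136028160)) (.node (.leaf 117145600)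 (.leaf 0))) (.node (.node (.leaf 37634048) (.leaf 0)) (.node (.leaf 147169280) (.leaf 0))))) (.node (.node (.node (.node (.leaf 8699904) (.leaf 129217971)) (.node (.leaf 57016320) (.leaf 0))) (.node (.node (.leaf 68427776) (.leaf 0)) (.node (.leaf 86351872) (.leaf 0)))) (.node (.node (.node (.leaf 45547520) (.leaf 160750470)) (.node (.leaf 71139328) (.leaf 0))) (.node (.node (.leaf 43769856) (.leaf 0)) (.node (.leaf 153010176) (.leaf 0))))))) (.node (.node (.node (.node (.node (.node (.leaf 1941504) (.leaf 150755828)) (.node (.leaf 48660480) (.leaf 0))) (.node (.node (.leaf 54272000) (.leaf 0)) (.node (.leaf 76783616) (.leaf 0)))) (.node (.node (.node (.leaf 12738560) (.leaf 145720081)) (.node (.leaf 62242816) (.leaf 0))) (.node (.node (.leaf 76292096) (.leaf 0)) (.node (.leaf 145448960) (.leaf 0))))) (.node (.node (.node (.node (.leaf 17948672) (.leaf 126085584)) (.node (.leaf 55345152) (.leaf 0))) (.node (.node (.leaf 30015488) (.leaf 0)) (.node (.leaf 84320256) (.leaf 0)))) (.node (.node (.node (.leaf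 42541056) (.leaf 164113151)) (.node (.leaf 69279744) (.leaf 0))) (.node (.node (.leaf 86482944) (.leaf 0)) (.node (.leaf 151707648) (.leaf 0)))))) (.node (.node (.node (.node (.node (.leaf 4620288) (.leaf 115417088)) (.node (.leaf 52002816) (.leaf 0))) (.node (.node (.leaf 59965440) (.leaf 0)) (.node (.leaf 91321415) (.leaf 0)))) (.node (.node (.node (.leaf 15564800) (.leaf 166543360)) (.node (.leaf 68226799) (.leaf 0))) (.node (.node (.leaf 70887838) (.leaf 0)) (.node (.leaf 148733952) (.leaf 0))))) (.node (.node (.node (.node (.leaf 10051584) (.leaf 126369792)) (.node (.leaf 58646528) (.leaf 0))) (.node (.node (.leaf 70926336) (.leaf 0)) (.node (.leaf 95260591) (.leaf 0)))) (.node (.node (.node (.leaf 21233664) (.leaf 158728192)) (.node (.leaf 127598592) (.leaf 0))) (.node (.node (.leaf 91521024) (.leaf 0)) (.node (.leaf 105635840) (.leaf 0)))))))) (.node (.node (.node (.node (.node (.node (.node (.leaf 1286144) (.leaf 109355008)) (.node (.leaf 95240192) (.leaf 0))) (.node (.node (.leaf 52895744) (.leaf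 0)) (.node (.leaf 124923152) (.leaf 0)))) (.node (.node (.node (.leaf 15161786) (.leaf 164667392)) (.node (.leaf 61349888) (.leaf 0))) (.node (.node (.leaf 74932224) (.leaf 0)) (.node (.leaf 144687104) (.leaf 0))))) (.node (.node (.node (.node (.leaf 16293888) (.leaf 119472128)) (.node (.leaf 104644608) (.leaf 0))) (.node (.node (.leaf 50825630) (.leaf 0)) (.node (.leaf 83279872) (.leaf 0)))) (.node (.node (.node (.leaf 17711104) (.leaf 166679425)) (.node (.leaf 122413056) (.leaf 0))) (.node (.node (.leaf 85270528) (.leaf 0)) (.node (.leaf 108134427) (.leaf 0)))))) (.node (.node (.node (.node (.node (.leaf 9838592) (.leaf 142157319)) (.node (.leaf 51159040) (.leaf 0))) (.node (.node (.leaf 58515456) (.leaf 0)) (.node (.leaf 79421440) (.leaf 0)))) (.node (.node (.node (.leaf 14876672) (.leaf 166150144)) (.node (.leaf 117340709) (.leaf 0))) (.node (.node (.leaf 38445056) (.leaf 0)) (.node (.leaf 95567872) (.leaf 0))))) (.node (.node (.node (.node (.leaf 22675456) (.leaf 127097247)) (.node (.leaf 57868288)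 (.leaf 0))) (.node (.node (.leaf 69623808) (.leaf 0)) (.node (.leaf 87318528) (.leaf 0)))) (.node (.node (.node (.leaf 47063040) (.leaf 166557992)) (.node (.leaf 72056832) (.leaf 0))) (.node (.node (.leaf 90374144) (.leaf 0)) (.node (.leaf 104349696) (.leaf 0))))))) (.node (.node (.node (.node (.node (.node (.leaf 6545408) (.leaf 146667179)) (.node (.leaf 49504256) (.leaf 0))) (.node (.node (.leaf 55640064) (.leaf 0)) (.node (.leaf 95255387) (.leaf 0)))) (.node (.node (.node (.leaf 32006144) (.leaf 160242720)) (.node (.leaf 63094784) (.leaf 0))) (.node (.node (.leaf 36823040) (.leaf 0)) (.node (.leaf 93454336) (.leaf 0))))) (.node (.node (.node (.node (.leaf 8011776) (.leaf 122077184)) (.node (.leaf 107143168) (.leaf 0))) (.node (.node (.leaf 56591874) (.leaf 0)) (.node (.leaf 128400416) (.leaf 0)))) (.node (.node (.node (.leaf 44056576) (.leaf 164569977)) (.node (.leaf 70189056) (.leaf 0))) (.node (.node (.leaf 42975232) (.leaf 0)) (.node (.leaf 108729508) (.leaf 0)))))) (.node (.node (.node (.node (.node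 (.leaf 13041664) (.leaf 116686848)) (.node (.leaf 52813824) (.leaf 0))) (.node (.node (.leaf 27811840) (.leaf 0)) (.node (.leaf 81321984) (.leaf 0)))) (.node (.node (.node (.leaf 16269312) (.leaf 141844480)) (.node (.leaf 66625536) (.leaf 0))) (.node (.node (.leaf 39919616) (.leaf 0)) (.node (.leaf 137563409) (.leaf 0))))) (.node (.node (.node (.node (.leaf 25780224) (.leaf 127836160)) (.node (.leaf 59523072) (.leaf 0))) (.node (.node (.leaf 33759232) (.leaf 0)) (.node (.leaf 95693950) (.leaf 0)))) (.node (.node (.node (.leaf 21938176) (.leaf 164779654)) (.node (.leaf 73883648) (.leaf 0))) (.node (.node (.leaf 92758016) (.leaf 0)) (.node (.leaf 155074560) (.leaf 0))))))))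

def e1T124 : NT := .node (.node (.node (.node (.node (.node (.node (.node (.leaf 1630208) (.leaf 108068864)) (.node (.leaf 46931968) (.leaf 0))) (.node (.node (.leaf 22691840) (.leaf 0)) (.node (.leaf 129548288) (.leaf 0)))) (.node (.node (.node (.leaf 27328512) (.leaf 129409024)) (.node (.leaf 79515151) (.leaf 0))) (.node (.node (.leaf 73605120) (.leaf 0)) (.node (.leaf 133801455) (.leaf 0))))) (.node (.node (.node (.node (.leaf 14671872) (.leaf 160284672)) (.node (.leaf 96708136) (.leaf 0))) (.node (.node (.leaf 62849024) (.leaf 0)) (.node (.leaf 136945664) (.leaf 0)))) (.node (.node (.node (.leaf 39575552) (.leaf 152295118)) (.node (.leaf 93315751) (.leaf 0))) (.node (.node (.leaf 84082688) (.leaf 0)) (.node (.leaf 150233088) (.leaf 0)))))) (.node (.node (.node (.node (.node (.leaf 3284992) (.leaf 113000448)) (.node (.leaf 50323456) (.leaf 0))) (.node (.node (.leaf 56983552) (.leaf 0)) (.node (.leaf 111039806) (.leaf 0)))) (.node (.node (.node (.leaf 14180352) (.leaf 165838848)) (.node (.leaf 117161984)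 (.leaf 0))) (.node (.node (.leaf 78864384) (.leaf 0)) (.node (.leaf 94552064) (.leaf 0))))) (.node (.node (.node (.node (.leaf 21168128) (.leaf 123592704)) (.node (.leaf 108371968) (.leaf 0))) (.node (.node (.leaf 68444160) (.leaf 0)) (.node (.leaf 140615680) (.leaf 0)))) (.node (.node (.node (.leaf 45563904) (.leaf 152952832)) (.node (.leaf 71147520) (.leaf 0))) (.node (.node (.leaf 89071616) (.leaf 0)) (.node (.leaf 103325696) (.leaf 0))))))) (.node (.node (.node (.node (.node (.node (.leaf 4947968) (.leaf 156958720)) (.node (.leaf 72579906) (.leaf 0))) (.node (.node (.leaf 54288384) (.leaf 0)) (.node (.leaf 131506176) (.leaf 0)))) (.node (.node (.node (.leaf 30449664) (.leaf 154113510)) (.node (.leaf 114966528) (.leaf 0))) (.node (.node (.leaf 36052992) (.leaf 0)) (.node (.leaf 92512256) (.leaf 0))))) (.node (.node (.node (.node (.leaf 7331840) (.leaf 154099955)) (.node (.leaf 55353344) (.leaf 0))) (.node (.node (.leaf 65601536) (.leaf 0)) (.node (.leaf 84328448) (.leaf 0)))) (.node (.node (.node (.leaf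 18432000) (.leaf 148103168)) (.node (.leaf 69287936) (.leaf 0))) (.node (.node (.leaf 42196992) (.leaf 0)) (.node (.leaf 106893586) (.leaf 0)))))) (.node (.node (.node (.node (.node (.leaf 11460608) (.leaf 115425280)) (.node (.leaf 62159485) (.leaf 0))) (.node (.node (.leaf 59981824) (.leaf 0)) (.node (.leaf 80371712) (.leaf 0)))) (.node (.node (.node (.leaf 36634624) (.leaf 158869741)) (.node (.leaf 65724416) (.leaf 0))) (.node (.node (.leaf 39206912) (.leaf 0)) (.node (.leaf 96681984) (.leaf 0))))) (.node (.node (.node (.node (.leaf 24272896) (.leaf 152582329)) (.node (.leaf 110583808) (.leaf 0))) (.node (.node (.leaf 70942720) (.leaf 0)) (.node (.leaf 114059922) (.leaf 0)))) (.node (.node (.node (.leaf 48521216) (.leaf 163063008)) (.node (.leaf 72974336) (.leaf 0))) (.node (.node (.leaf 91537408) (.leaf 0)) (.node (.leaf 105644032) (.leaf 0)))))))) (.node (.node (.node (.node (.node (.node (.node (.leaf 3293184) (.leaf 151614204)) (.node (.leaf 83147495) (.leaf 0))) (.node (.node (.leaf 23412736) (.leaf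 0)) (.node (.leaf 75776000) (.leaf 0)))) (.node (.node (.node (.leaf 12066816) (.leaf 164675584)) (.node (.leaf 113868800) (.leaf 0))) (.node (.node (.leaf 35274752) (.leaf 0)) (.node (.leaf 91455488) (.leaf 0))))) (.node (.node (.node (.node (.leaf 16310272) (.leaf 119488512)) (.node (.leaf 104660992) (.leaf 0))) (.node (.node (.leaf 29270016) (.leaf 0)) (.node (.leaf 137797632) (.leaf 0)))) (.node (.node (.node (.leaf 41091072) (.leaf 146030592)) (.node (.leaf 68337664) (.leaf 0))) (.node (.node (.leaf 41410560) (.leaf 0)) (.node (.leaf 99893248) (.leaf 0)))))) (.node (.node (.node (.node (.node (.leaf 6259962) (.leaf 129450391)) (.node (.leaf 100024320) (.leaf 0))) (.node (.node (.leaf 26353664) (.leaf 0)) (.node (.leaf 134193152) (.leaf 0)))) (.node (.node (.node (.leaf 35061760) (.leaf 166158336)) (.node (.leaf 64806912) (.leaf 0))) (.node (.node (.leaf 46101194) (.leaf 0)) (.node (.leaf 145746272) (.leaf 0))))) (.node (.node (.node (.node (.leaf 9388032) (.leaf 162799616)) (.node (.leaf 73207651)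 (.leaf 0))) (.node (.node (.leaf 69640192) (.leaf 0)) (.node (.leaf 96590848) (.leaf 0)))) (.node (.node (.node (.leaf 20529152) (.leaf 160099938)) (.node (.leaf 126590976) (.leaf 0))) (.node (.node (.leaf 90390528) (.leaf 0)) (.node (.leaf 153755648) (.leaf 0))))))) (.node (.node (.node (.node (.node (.node (.leaf 2613248) (.leaf 120105719)) (.node (.leaf 49512448) (.leaf 0))) (.node (.node (.leaf 24821760) (.leaf 0)) (.node (.leaf 77692928) (.leaf 0)))) (.node (.node (.node (.leaf 13434880) (.leaf 138865569)) (.node (.leaf 115373530) (.leaf 0))) (.node (.node (.leaf 77570048) (.leaf 0)) (.node (.leaf 103868451) (.leaf 0))))) (.node (.node (.node (.node (.leaf 19578880) (.leaf 124458030)) (.node (.leaf 56156160) (.leaf 0))) (.node (.node (.leaf 30744576) (.leaf 0)) (.node (.leaf 85303296) (.leaf 0)))) (.node (.node (.node (.leaf 19136512) (.leaf 166247372)) (.node (.leaf 124510208) (.leaf 0))) (.node (.node (.leaf 87793664) (.leaf 0)) (.node (.leaf 102121472) (.leaf 0)))))) (.node (.node (.node (.node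 (.node (.leaf 13049856) (.leaf 116695040)) (.node (.leaf 102400000) (.leaf 0))) (.node (.node (.leaf 61407232) (.leaf 0)) (.node (.leaf 136069120) (.leaf 0)))) (.node (.node (.node (.leaf 38117376) (.leaf 141860864)) (.node (.leaf 75663109) (.leaf 0))) (.node (.node (.leaf 82845696) (.leaf 0)) (.node (.leaf 97697792) (.leaf 0))))) (.node (.node (.node (.node (.leaf 25796608) (.leaf 163643392)) (.node (.leaf 59531264) (.leaf 0))) (.node (.node (.leaf 72286208) (.leaf 0)) (.node (.leaf 89366528) (.leaf 0)))) (.node (.node (.node (.leaf 49971200) (.leaf 163856384)) (.node (.leaf 116879846) (.leaf 0))) (.node (.node (.leaf 46161920) (.leaf 0)) (.node (.leaf 106872832) (.leaf 0))))))))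

def e1T125 : NT := .node (.node (.node (.node (.node (.node (.node (.node (.leaf 638976) (.leaf 125762690)) (.node (.leaf 94117888) (.leaf 0))) (.node (.node (.leaf 51429376) (.leaf 0)) (.node (.leaf 129556480) (.leaf 0)))) (.node (.node (.node (.leaf 11386880) (.leaf 129639210)) (.node (.leaf 60399616) (.leaf 0))) (.node (.node (.leaf 34521088) (.leaf 0)) (.node (.leaf 127378571) (.leaf 0))))) (.node (.node (.node (.node (.leaf 5971968) (.leaf 156016981)) (.node (.leaf 103489536) (.leaf 0))) (.node (.node (.leaf 28565504) (.leaf 0)) (.node (.leaf 121645816) (.leaf 0)))) (.node (.node (.node (.leaf 17022976) (.leaf 167141376)) (.node (.leaf 67452928) (.leaf 0))) (.node (.node (.leaf 40689664) (.leaf 0)) (.node (.leaf 125131139) (.leaf 0)))))) (.node (.node (.node (.node (.node (.leaf 8232960) (.leaf 131365434)) (.node (.leaf 98836480) (.leaf 0))) (.node (.node (.leaf 25575424) (.leaf 0)) (.node (.leaf 89772913) (.leaf 0)))) (.node (.node (.node (.leaf 33595392) (.leaf 136060928)) (.node (.leaf 110022177)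 (.leaf 0))) (.node (.node (.leaf 37642240) (.leaf 0)) (.node (.leaf 94560256) (.leaf 0))))) (.node (.node (.node (.node (.leaf 21184512) (.leaf 162349056)) (.node (.leaf 108388352) (.leaf 0))) (.node (.node (.leaf 31490048) (.leaf 0)) (.node (.leaf 140632064) (.leaf 0)))) (.node (.node (.node (.leaf 19849216) (.leaf 158710947)) (.node (.leaf 125575168) (.leaf 0))) (.node (.node (.leaf 43786240) (.leaf 0)) (.node (.leaf 153026560) (.leaf 0))))))) (.node (.node (.node (.node (.node (.node (.leaf 4956160) (.leaf 156975104)) (.node (.leaf 48668672) (.leaf 0))) (.node (.node (.leaf 24109056) (.leaf 0)) (.node (.leaf 121762874) (.leaf 0)))) (.node (.node (.node (.leaf 30466048) (.leaf 153926708)) (.node (.leaf 90760519) (.leaf 0))) (.node (.node (.leaf 68735234) (.leaf 0)) (.node (.leaf 138053984) (.leaf 0))))) (.node (.node (.node (.node (.leaf 17973248) (.leaf 156443993)) (.node (.leaf 92155784) (.leaf 0))) (.node (.node (.leaf 30023680) (.leaf 0)) (.node (.leaf 101199001) (.leaf 0)))) (.node (.node (.node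 (.leaf 42565632) (.leaf 154418213)) (.node (.leaf 123518976) (.leaf 0))) (.node (.node (.leaf 86507520) (.leaf 0)) (.node (.leaf 105044375) (.leaf 0)))))) (.node (.node (.node (.node (.node (.leaf 11476992) (.leaf 115441664)) (.node (.leaf 101261312) (.leaf 0))) (.node (.node (.leaf 27082752) (.leaf 0)) (.node (.leaf 135151616) (.leaf 0)))) (.node (.node (.node (.leaf 36651008) (.leaf 155866238)) (.node (.leaf 119300096) (.leaf 0))) (.node (.node (.leaf 67047087) (.leaf 0)) (.node (.leaf 148758528) (.leaf 0))))) (.node (.node (.node (.node (.leaf 10059776) (.leaf 145184992)) (.node (.leaf 110600192) (.leaf 0))) (.node (.node (.leaf 32980992) (.leaf 0)) (.node (.leaf 142303232) (.leaf 0)))) (.node (.node (.node (.leaf 21241856) (.leaf 160329011)) (.node (.leaf 99125535) (.leaf 0))) (.node (.node (.leaf 45383680) (.leaf 0)) (.node (.leaf 135147947) (.leaf 0)))))))) (.node (.node (.node (.node (.node (.node (.node (.leaf 1294336) (.leaf 109371392)) (.node (.leaf 47800320) (.leaf 0))) (.node (.node (.leaf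 52912128) (.leaf 0)) (.node (.leaf 75792384) (.leaf 0)))) (.node (.node (.node (.leaf 28901376) (.leaf 131121152)) (.node (.leaf 61366272) (.leaf 0))) (.node (.node (.leaf 35282944) (.leaf 0)) (.node (.leaf 144695296) (.leaf 0))))) (.node (.node (.node (.node (.leaf 6651904) (.leaf 141693342)) (.node (.leaf 54493184) (.leaf 0))) (.node (.node (.leaf 64233472) (.leaf 0)) (.node (.leaf 137814016) (.leaf 0)))) (.node (.node (.node (.leaf 41107456) (.leaf 146046976)) (.node (.leaf 90221725) (.leaf 0))) (.node (.node (.leaf 85286912) (.leaf 0)) (.node (.leaf 142112709) (.leaf 0)))))) (.node (.node (.node (.node (.node (.leaf 3964928) (.leaf 114106368)) (.node (.leaf 77508912) (.leaf 0))) (.node (.node (.leaf 58540032) (.leaf 0)) (.node (.leaf 79429632) (.leaf 0)))) (.node (.node (.node (.leaf 14884864) (.leaf 155283022)) (.node (.leaf 118267904) (.leaf 0))) (.node (.node (.leaf 38461440) (.leaf 0)) (.node (.leaf 147890176) (.leaf 0))))) (.node (.node (.node (.node (.leaf 22700032) (.leaf 162807808)) (.node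 (.leaf 109469696) (.leaf 0))) (.node (.node (.leaf 69656576) (.leaf 0)) (.node (.leaf 87334912) (.leaf 0)))) (.node (.node (.node (.leaf 47087616) (.leaf 155836416)) (.node (.leaf 125010315) (.leaf 0))) (.node (.node (.leaf 76081932) (.leaf 0)) (.node (.leaf 104366080) (.leaf 0))))))) (.node (.node (.node (.node (.node (.node (.leaf 6569984) (.leaf 113227034)) (.node (.leaf 64319246) (.leaf 0))) (.node (.node (.leaf 55656448) (.leaf 0)) (.node (.leaf 132423680) (.leaf 0)))) (.node (.node (.node (.leaf 32030720) (.leaf 134373376)) (.node (.leaf 116080640) (.leaf 0))) (.node (.node (.leaf 77586432) (.leaf 0)) (.node (.leaf 146358272) (.leaf 0))))) (.node (.node (.node (.node (.leaf 8019968) (.leaf 161841152)) (.node (.leaf 107151360) (.leaf 0))) (.node (.node (.leaf 67035136) (.leaf 0)) (.node (.leaf 138387919) (.leaf 0)))) (.node (.node (.node (.leaf 44072960) (.leaf 167698432)) (.node (.leaf 124526592) (.leaf 0))) (.node (.node (.leaf 87801856) (.leaf 0)) (.node (.leaf 152371200) (.leaf 0)))))) (.node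 (.node (.node (.node (.node (.leaf 5308416) (.leaf 159694848)) (.node (.leaf 96785958) (.leaf 0))) (.node (.node (.leaf 27820032) (.leaf 0)) (.node (.leaf 81330176) (.leaf 0)))) (.node (.node (.node (.leaf 38133760) (.leaf 166887424)) (.node (.leaf 66641920) (.leaf 0))) (.node (.node (.leaf 82853888) (.leaf 0)) (.node (.leaf 106194465) (.leaf 0))))) (.node (.node (.node (.node (.leaf 10731520) (.leaf 150445156)) (.node (.leaf 65123263) (.leaf 0))) (.node (.node (.leaf 65838099) (.leaf 0)) (.node (.leaf 118838128) (.leaf 0)))) (.node (.node (.node (.leaf 49987584) (.leaf 163897344)) (.node (.leaf 73891840) (.leaf 0))) (.node (.node (.leaf 92782592) (.leaf 0)) (.node (.leaf 106921984) (.leaf 0))))))))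

def e1T126 : NT := .node (.node (.node (.node (.node (.node (.node (.node (.leaf 1654784) (.leaf 108077056)) (.node (.leaf 94126080) (.leaf 0))) (.node (.node (.leaf 51445760) (.leaf 0)) (.node (.leaf 74817536) (.leaf 0)))) (.node (.node (.node (.leaf 27353088) (.leaf 129417216)) (.node (.leaf 112754688) (.leaf 0))) (.node (.node (.leaf 73629696) (.leaf 0)) (.node (.leaf 90333184) (.leaf 0))))) (.node (.node (.node (.node (.leaf 14696448) (.leaf 118509076)) (.node (.leaf 53665792) (.leaf 0))) (.node (.node (.leaf 62873600) (.leaf 0)) (.node (.leaf 82321408) (.leaf 0)))) (.node (.node (.node (.leaf 39600128) (.leaf 148078775)) (.node (.leaf 121438208) (.leaf 0))) (.node (.node (.leaf 84090880) (.leaf 0)) (.node (.leaf 98787328) (.leaf 0)))))) (.node (.node (.node (.node (.node (.leaf 5066930) (.leaf 135986064)) (.node (.leaf 65696917) (.leaf 0))) (.node (.node (.leaf 57008128) (.leaf 0)) (.node (.leaf 133357568) (.leaf 0)))) (.node (.node (.node (.leaf 14188544) (.leaf 165794495)) (.node (.leaf 77792254)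 (.leaf 0))) (.node (.node (.leaf 78880768) (.leaf 0)) (.node (.leaf 147185664) (.leaf 0))))) (.node (.node (.node (.node (.leaf 8716288) (.leaf 162357248)) (.node (.leaf 108404736) (.leaf 0))) (.node (.node (.leaf 57558593) (.leaf 0)) (.node (.leaf 140648448) (.leaf 0)))) (.node (.node (.node (.leaf 45588480) (.leaf 156366290)) (.node (.leaf 125591552) (.leaf 0))) (.node (.node (.leaf 70821263) (.leaf 0)) (.node (.leaf 103333888) (.leaf 0))))))) (.node (.node (.node (.node (.node (.node (.leaf 1957888) (.leaf 121527141)) (.node (.leaf 96468992) (.leaf 0))) (.node (.node (.leaf 54304768) (.leaf 0)) (.node (.leaf 117276679) (.leaf 0)))) (.node (.node (.node (.leaf 12754944) (.leaf 156452470)) (.node (.leaf 62259200) (.leaf 0))) (.node (.node (.leaf 36061184) (.leaf 0)) (.node (.leaf 145473536) (.leaf 0))))) (.node (.node (.node (.node (.leaf 7340032) (.leaf 120872960)) (.node (.leaf 75994202) (.leaf 0))) (.node (.node (.leaf 65617920) (.leaf 0)) (.node (.leaf 84336640) (.leaf 0)))) (.node (.node (.node (.leaf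 42573824) (.leaf 159443758)) (.node (.leaf 123527168) (.leaf 0))) (.node (.node (.leaf 86523904) (.leaf 0)) (.node (.leaf 101089280) (.leaf 0)))))) (.node (.node (.node (.node (.node (.leaf 4636672) (.leaf 155725410)) (.node (.leaf 52019200) (.leaf 0))) (.node (.node (.leaf 60006400) (.leaf 0)) (.node (.leaf 135168000) (.leaf 0)))) (.node (.node (.node (.leaf 15581184) (.leaf 164346803)) (.node (.leaf 65732608) (.leaf 0))) (.node (.node (.leaf 81485824) (.leaf 0)) (.node (.leaf 96698368) (.leaf 0))))) (.node (.node (.node (.node (.leaf 24297472) (.leaf 126435328)) (.node (.leaf 110608384) (.leaf 0))) (.node (.node (.leaf 56355645) (.leaf 0)) (.node (.leaf 88367104) (.leaf 0)))) (.node (.node (.node (.leaf 48545792) (.leaf 158818304)) (.node (.leaf 127614976) (.leaf 0))) (.node (.node (.leaf 45391872) (.leaf 0)) (.node (.leaf 105660416) (.leaf 0)))))))) (.node (.node (.node (.node (.node (.node (.node (.leaf 3317760) (.leaf 133974222)) (.node (.leaf 95264768) (.leaf 0))) (.node (.node (.leaf 23420928) (.leaf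 0)) (.node (.leaf 130433024) (.leaf 0)))) (.node (.node (.node (.leaf 28917760) (.leaf 141634686)) (.node (.leaf 113885184) (.leaf 0))) (.node (.node (.leaf 74956800) (.leaf 0)) (.node (.leaf 91463680) (.leaf 0))))) (.node (.node (.node (.node (.leaf 16334848) (.leaf 119496704)) (.node (.leaf 104685568) (.leaf 0))) (.node (.node (.leaf 29286400) (.leaf 0)) (.node (.leaf 87477108) (.leaf 0)))) (.node (.node (.node (.leaf 17727488) (.leaf 146055168)) (.node (.leaf 68354048) (.leaf 0))) (.node (.node (.leaf 47260854) (.leaf 0)) (.node (.leaf 119754472) (.leaf 0)))))) (.node (.node (.node (.node (.node (.leaf 9871360) (.leaf 144724758)) (.node (.leaf 51175424) (.leaf 0))) (.node (.node (.leaf 58556416) (.leaf 0)) (.node (.leaf 132941682) (.leaf 0)))) (.node (.node (.node (.leaf 35078144) (.leaf 138494819)) (.node (.leaf 64815104) (.leaf 0))) (.node (.node (.leaf 38477824) (.leaf 0)) (.node (.leaf 95592448) (.leaf 0))))) (.node (.node (.node (.node (.leaf 22716416) (.leaf 124960768)) (.node (.leaf 57884672)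 (.leaf 0))) (.node (.node (.leaf 32251904) (.leaf 0)) (.node (.leaf 141467648) (.leaf 0)))) (.node (.node (.node (.leaf 47104000) (.leaf 163914752)) (.node (.leaf 126615552) (.leaf 0))) (.node (.node (.leaf 52310845) (.leaf 0)) (.node (.leaf 137105225) (.leaf 0))))))) (.node (.node (.node (.node (.node (.node (.leaf 6586368) (.leaf 114831745)) (.node (.leaf 49528832) (.leaf 0))) (.node (.node (.leaf 24829952) (.leaf 0)) (.node (.leaf 114177782) (.leaf 0)))) (.node (.node (.node (.leaf 13443072) (.leaf 153327966)) (.node (.leaf 63111168) (.leaf 0))) (.node (.node (.leaf 36839424) (.leaf 0)) (.node (.leaf 143282869) (.leaf 0))))) (.node (.node (.node (.node (.leaf 8036352) (.leaf 131949127)) (.node (.leaf 107167744) (.leaf 0))) (.node (.node (.leaf 53048235) (.leaf 0)) (.node (.leaf 85344256) (.leaf 0)))) (.node (.node (.node (.leaf 44089344) (.leaf 155807801)) (.node (.leaf 70205440) (.leaf 0))) (.node (.node (.leaf 42991616) (.leaf 0)) (.node (.leaf 137472159) (.leaf 0)))))) (.node (.node (.node (.node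 (.node (.leaf 13074432) (.leaf 159703040)) (.node (.leaf 52830208) (.leaf 0))) (.node (.node (.leaf 61431808) (.leaf 0)) (.node (.leaf 136085504) (.leaf 0)))) (.node (.node (.node (.leaf 38150144) (.leaf 156878184)) (.node (.leaf 120242176) (.leaf 0))) (.node (.node (.leaf 61584816) (.leaf 0)) (.node (.leaf 149463040) (.leaf 0))))) (.node (.node (.node (.node (.leaf 16854549) (.leaf 157787657)) (.node (.leaf 111673344) (.leaf 0))) (.node (.node (.leaf 33775616) (.leaf 0)) (.node (.leaf 93764275) (.leaf 0)))) (.node (.node (.node (.leaf 21954560) (.leaf 167622743)) (.node (.leaf 128647168) (.leaf 0))) (.node (.node (.leaf 92798976) (.leaf 0)) (.node (.leaf 137176684) (.leaf 0))))))))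

def e1T127 : NT := .node (.node (.node (.node (.node (.node (.node (.node (.leaf 1671168) (.leaf 135301346)) (.node (.leaf 46948352) (.leaf 0))) (.node (.node (.leaf 22708224) (.leaf 0)) (.node (.leaf 77449550) (.leaf 0)))) (.node (.node (.node (.leaf 27369472) (.leaf 152825839)) (.node (.leaf 60424192) (.leaf 0))) (.node (.node (.leaf 73646080) (.leaf 0)) (.node (.leaf 90357760) (.leaf 0))))) (.node (.node (.node (.node (.leaf 14712832) (.leaf 118169600)) (.node (.leaf 58303239) (.leaf 0))) (.node (.node (.leaf 28573696) (.leaf 0)) (.node (.leaf 82329600) (.leaf 0)))) (.node (.node (.node (.leaf 39616512) (.leaf 143835136)) (.node (.leaf 93290676) (.leaf 0))) (.node (.node (.leaf 84107264) (.leaf 0)) (.node (.leaf 150257664) (.leaf 0)))))) (.node (.node (.node (.node (.node (.leaf 3301376) (.leaf 137750733)) (.node (.leaf 86701163) (.leaf 0))) (.node (.node (.leaf 25591808) (.leaf 0)) (.node (.leaf 78553088) (.leaf 0)))) (.node (.node (.node (.leaf 33619968) (.leaf 136077312)) (.node (.leaf 63971328)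 (.leaf 0))) (.node (.node (.leaf 37658624) (.leaf 0)) (.node (.leaf 94576640) (.leaf 0))))) (.node (.node (.node (.node (.leaf 21209088) (.leaf 158474340)) (.node (.leaf 104235602) (.leaf 0))) (.node (.node (.leaf 48817442) (.leaf 0)) (.node (.leaf 99761104) (.leaf 0)))) (.node (.node (.node (.leaf 19857408) (.leaf 152993792)) (.node (.leaf 125607936) (.leaf 0))) (.node (.node (.leaf 62518281) (.leaf 0)) (.node (.leaf 103342080) (.leaf 0))))))) (.node (.node (.node (.node (.node (.node (.leaf 4980736) (.leaf 118192818)) (.node (.leaf 48676864) (.leaf 0))) (.node (.node (.leaf 24117248) (.leaf 0)) (.node (.leaf 76824576) (.leaf 0)))) (.node (.node (.node (.leaf 30490624) (.leaf 132644864)) (.node (.leaf 90296939) (.leaf 0))) (.node (.node (.leaf 49775588) (.leaf 0)) (.node (.leaf 145489920) (.leaf 0))))) (.node (.node (.node (.node (.leaf 17997824) (.leaf 123700492)) (.node (.leaf 55369728) (.leaf 0))) (.node (.node (.leaf 65634304) (.leaf 0)) (.node (.leaf 108218541) (.leaf 0)))) (.node (.node (.node (.leaf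 18448384) (.leaf 148217856)) (.node (.leaf 110275225) (.leaf 0))) (.node (.node (.leaf 86540288) (.leaf 0)) (.node (.leaf 136121692) (.leaf 0)))))) (.node (.node (.node (.node (.node (.leaf 11501568) (.leaf 115449856)) (.node (.leaf 101285888) (.leaf 0))) (.node (.node (.leaf 27090944) (.leaf 0)) (.node (.leaf 80388096) (.leaf 0)))) (.node (.node (.node (.leaf 36675584) (.leaf 149899634)) (.node (.leaf 119324672) (.leaf 0))) (.node (.node (.leaf 39223296) (.leaf 0)) (.node (.leaf 148774912) (.leaf 0))))) (.node (.node (.node (.node (.leaf 10076160) (.leaf 163266560)) (.node (.leaf 58671104) (.leaf 0))) (.node (.node (.leaf 70967296) (.leaf 0)) (.node (.leaf 142319616) (.leaf 0)))) (.node (.node (.node (.leaf 48562176) (.leaf 165859478)) (.node (.leaf 127631360) (.leaf 0))) (.node (.node (.leaf 91561984) (.leaf 0)) (.node (.leaf 105668608) (.leaf 0)))))))) (.node (.node (.node (.node (.node (.node (.node (.leaf 3334144) (.leaf 109387776)) (.node (.leaf 47816704) (.leaf 0))) (.node (.node (.leaf 52936704)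 (.leaf 0)) (.node (.leaf 75800576) (.leaf 0)))) (.node (.node (.node (.leaf 12083200) (.leaf 131145728)) (.node (.leaf 61374464) (.leaf 0))) (.node (.node (.leaf 74973184) (.leaf 0)) (.node (.leaf 137867756) (.leaf 0))))) (.node (.node (.node (.node (.leaf 16351232) (.leaf 119513088)) (.node (.leaf 54501376) (.leaf 0))) (.node (.node (.leaf 29294592) (.leaf 0)) (.node (.leaf 83312640) (.leaf 0)))) (.node (.node (.node (.leaf 27408376) (.leaf 163820221)) (.node (.leaf 122445824) (.leaf 0))) (.node (.node (.leaf 41426944) (.leaf 0)) (.node (.leaf 151019520) (.leaf 0)))))) (.node (.node (.node (.node (.node (.leaf 3973120) (.leaf 114122752)) (.node (.leaf 51183616) (.leaf 0))) (.node (.node (.leaf 26370048) (.leaf 0)) (.node (.leaf 79446016) (.leaf 0)))) (.node (.node (.node (.leaf 35086336) (.leaf 137928704)) (.node (.leaf 118284288) (.leaf 0))) (.node (.node (.leaf 38486016) (.leaf 0)) (.node (.leaf 147898368) (.leaf 0))))) (.node (.node (.node (.node (.leaf 9404416) (.leaf 162816000)) (.node (.leaf 109494272)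 (.leaf 0))) (.node (.node (.leaf 69672960) (.leaf 0)) (.node (.leaf 87343104) (.leaf 0)))) (.node (.node (.node (.leaf 20545536) (.leaf 165124600)) (.node (.leaf 92851555) (.leaf 0))) (.node (.node (.leaf 44630016) (.leaf 0)) (.node (.leaf 149762584) (.leaf 0))))))) (.node (.node (.node (.node (.node (.node (.leaf 2629632) (.leaf 111861760)) (.node (.leaf 94467928) (.leaf 0))) (.node (.node (.leaf 55672832) (.leaf 0)) (.node (.leaf 77717504) (.leaf 0)))) (.node (.node (.node (.leaf 24003557) (.leaf 134397952)) (.node (.leaf 76143562) (.leaf 0))) (.node (.node (.leaf 36847616) (.leaf 0)) (.node (.leaf 93503488) (.leaf 0))))) (.node (.node (.node (.node (.leaf 19611648) (.leaf 148185515)) (.node (.leaf 56172544) (.leaf 0))) (.node (.node (.leaf 30760960) (.leaf 0)) (.node (.leaf 120162215) (.leaf 0)))) (.node (.node (.node (.leaf 19152896) (.leaf 150839296)) (.node (.leaf 124542976) (.leaf 0))) (.node (.node (.leaf 87818240) (.leaf 0)) (.node (.leaf 102154240) (.leaf 0)))))) (.node (.node (.node (.node (.node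 (.leaf 13090816) (.leaf 116711424)) (.node (.leaf 102432768) (.leaf 0))) (.node (.node (.leaf 61440000) (.leaf 0)) (.node (.leaf 131450215) (.leaf 0)))) (.node (.node (.node (.leaf 16302080) (.leaf 166339970)) (.node (.leaf 120250368) (.leaf 0))) (.node (.node (.leaf 39944192) (.leaf 0)) (.node (.leaf 97714176) (.leaf 0))))) (.node (.node (.node (.node (.leaf 10739712) (.leaf 160037286)) (.node (.leaf 111689728) (.leaf 0))) (.node (.node (.leaf 72318976) (.leaf 0)) (.node (.leaf 110957842) (.leaf 0)))) (.node (.node (.node (.leaf 50012160) (.leaf 163938304)) (.node (.leaf 73908224) (.leaf 0))) (.node (.node (.leaf 46178304) (.leaf 0)) (.node (.leaf 137834547) (.leaf 0))))))))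

def e1T : NT := .node (.node (.node (.node (.node (.node (.node (e1T0) (e1T64)) (.node (e1T32) (e1T96))) (.node (.node (e1T16) (e1T80)) (.node (e1T48) (e1T112)))) (.node (.node (.node (e1T8) (e1T72)) (.node (e1T40) (e1T104))) (.node (.node (e1T24) (e1T88)) (.node (e1T56) (e1T120))))) (.node (.node (.node (.node (e1T4) (e1T68)) (.node (e1T36) (e1T100))) (.node (.node (e1T20) (e1T84)) (.node (e1T52) (e1T116)))) (.node (.node (.node (e1T12) (e1T76)) (.node (e1T44) (e1T108))) (.node (.node (e1T28) (e1T92)) (.node (e1T60) (e1T124)))))) (.node (.node (.node (.node (.node (e1T2) (e1T66)) (.node (e1T34) (e1T98))) (.node (.node (e1T18) (e1T82)) (.node (e1T50) (e1T114)))) (.node (.node (.node (e1T10) (e1T74)) (.node (e1T42) (e1T106))) (.node (.node (e1T26) (e1T90)) (.node (e1T58) (e1T122))))) (.node (.node (.node (.node (e1T6) (e1T70)) (.node (e1T38) (e1T102))) (.node (.node (e1T22) (e1T86)) (.node (e1T54) (e1T118)))) (.node (.node (.node (e1T14) (e1T78)) (.node (e1T46) (e1T110))) (.node (.node (e1T30) (e1T94))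 (.node (e1T62) (e1T126))))))) (.node (.node (.node (.node (.node (.node (e1T1) (e1T65)) (.node (e1T33) (e1T97))) (.node (.node (e1T17) (e1T81)) (.node (e1T49) (e1T113)))) (.node (.node (.node (e1T9) (e1T73)) (.node (e1T41) (e1T105))) (.node (.node (e1T25) (e1T89)) (.node (e1T57) (e1T121))))) (.node (.node (.node (.node (e1T5) (e1T69)) (.node (e1T37) (e1T101))) (.node (.node (e1T21) (e1T85)) (.node (e1T53) (e1T117)))) (.node (.node (.node (e1T13) (e1T77)) (.node (e1T45) (e1T109))) (.node (.node (e1T29) (e1T93)) (.node (e1T61) (e1T125)))))) (.node (.node (.node (.node (.node (e1T3) (e1T67)) (.node (e1T35) (e1T99))) (.node (.node (e1T19) (e1T83)) (.node (e1T51) (e1T115)))) (.node (.node (.node (e1T11) (e1T75)) (.node (e1T43) (e1T107))) (.node (.node (e1T27) (e1T91)) (.node (e1T59) (e1T123))))) (.node (.node (.node (.node (e1T7) (e1T71)) (.node (e1T39) (e1T103))) (.node (.node (e1T23) (e1T87)) (.node (e1T55) (e1T119)))) (.node (.node (.node (e1T15) (e1T79)) (.node (e1T47) (e1T111))) (.node (.node (e1T31) (e1T95))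 (.node (e1T63) (e1T127)))))))

def pT0 : NT := .node (.node (.node (.node (.node (.node (.node (.node (.leaf 0) (.leaf 26112)) (.node (.leaf 11276) (.leaf 0))) (.node (.node (.leaf 5365) (.leaf 40032)) (.node (.leaf 18046) (.leaf 0)))) (.node (.node (.node (.leaf 2624) (.leaf 31224)) (.node (.leaf 14542) (.leaf 0))) (.node (.node (.leaf 8251) (.leaf 0)) (.node (.leaf 21827) (.leaf 0))))) (.node (.node (.node (.node (.leaf 1301) (.leaf 28501)) (.node (.leaf 12904) (.leaf 0))) (.node (.node (.leaf 6797) (.leaf 0)) (.node (.leaf 19865) (.leaf 0)))) (.node (.node (.node (.leaf 3982) (.leaf 34653)) (.node (.leaf 16277) (.leaf 0))) (.node (.node (.leaf 9754) (.leaf 0)) (.node (.leaf 23858) (.leaf 0)))))) (.node (.node (.node (.node (.node (.leaf 646) (.leaf 27312)) (.node (.leaf 12095) (.leaf 0))) (.node (.node (.leaf 6067) (.leaf 0)) (.node (.leaf 18978) (.leaf 0)))) (.node (.node (.node (.leaf 3287) (.leaf 32815)) (.node (.leaf 15411) (.leaf 0))) (.node (.node (.leaf 8998) (.leaf 0)) (.node (.leaf 22830) (.leaf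 0))))) (.node (.node (.node (.node (.leaf 1966) (.leaf 29830)) (.node (.leaf 13717) (.leaf 0))) (.node (.node (.leaf 7512) (.leaf 0)) (.node (.leaf 20840) (.leaf 0)))) (.node (.node (.node (.leaf 4678) (.leaf 36828)) (.node (.leaf 17149) (.leaf 0))) (.node (.node (.leaf 10499) (.leaf 0)) (.node (.leaf 24944) (.leaf 0))))))) (.node (.node (.node (.node (.node (.node (.leaf 321) (.leaf 26708)) (.node (.leaf 11678) (.leaf 0))) (.node (.node (.leaf 5721) (.leaf 0)) (.node (.leaf 18508) (.leaf 0)))) (.node (.node (.node (.leaf 2952) (.leaf 32020)) (.node (.leaf 14986) (.leaf 0))) (.node (.node (.leaf 8619) (.leaf 0)) (.node (.leaf 22335) (.leaf 0))))) (.node (.node (.node (.node (.leaf 1629) (.leaf 29180)) (.node (.leaf 13308) (.leaf 0))) (.node (.node (.leaf 7154) (.leaf 0)) (.node (.leaf 20346) (.leaf 0)))) (.node (.node (.node (.leaf 4331) (.leaf 35666)) (.node (.leaf 16696) (.leaf 0))) (.node (.node (.leaf 10116) (.leaf 0)) (.node (.leaf 24396) (.leaf 0)))))) (.node (.node (.node (.node (.node (.leaf 972)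 (.leaf 27864)) (.node (.leaf 12498) (.leaf 0))) (.node (.node (.leaf 6440) (.leaf 0)) (.node (.leaf 19398) (.leaf 0)))) (.node (.node (.node (.leaf 3640) (.leaf 33678)) (.node (.leaf 15827) (.leaf 0))) (.node (.node (.leaf 9398) (.leaf 0)) (.node (.leaf 23342) (.leaf 0))))) (.node (.node (.node (.node (.leaf 2298) (.leaf 30517)) (.node (.leaf 14136) (.leaf 0))) (.node (.node (.leaf 7877) (.leaf 0)) (.node (.leaf 21326) (.leaf 0)))) (.node (.node (.node (.leaf 5018) (.leaf 38067)) (.node (.leaf 17601) (.leaf 0))) (.node (.node (.leaf 10898) (.leaf 0)) (.node (.leaf 25493) (.leaf 0)))))))) (.node (.node (.node (.node (.node (.node (.node (.leaf 161) (.leaf 26390)) (.node (.leaf 11466) (.leaf 0))) (.node (.node (.leaf 5546) (.leaf 0)) (.node (.leaf 18269) (.leaf 0)))) (.node (.node (.node (.leaf 2785) (.leaf 31600)) (.node (.leaf 14754) (.leaf 0))) (.node (.node (.leaf 8433) (.leaf 0)) (.node (.leaf 22062) (.leaf 0))))) (.node (.node (.node (.node (.leaf 1463) (.leaf 28852)) (.node (.leaf 13106) (.leaf 0)))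 (.node (.node (.leaf 6978) (.leaf 0)) (.node (.leaf 20102) (.leaf 0)))) (.node (.node (.node (.leaf 4161) (.leaf 35118)) (.node (.leaf 16477) (.leaf 0))) (.node (.node (.leaf 9940) (.leaf 0)) (.node (.leaf 24121) (.leaf 0)))))) (.node (.node (.node (.node (.node (.leaf 808) (.leaf 27600)) (.node (.leaf 12295) (.leaf 0))) (.node (.node (.leaf 6250) (.leaf 0)) (.node (.leaf 19180) (.leaf 0)))) (.node (.node (.node (.leaf 3469) (.leaf 33226)) (.node (.leaf 15620) (.leaf 0))) (.node (.node (.leaf 9196) (.leaf 0)) (.node (.leaf 23092) (.leaf 0))))) (.node (.node (.node (.node (.leaf 2132) (.leaf 30189)) (.node (.leaf 13933) (.leaf 0))) (.node (.node (.leaf 7697) (.leaf 0)) (.node (.leaf 21094) (.leaf 0)))) (.node (.node (.node (.leaf 4850) (.leaf 37354)) (.node (.leaf 17378) (.leaf 0))) (.node (.node (.leaf 10697) (.leaf 0)) (.node (.leaf 25233) (.leaf 0))))))) (.node (.node (.node (.node (.node (.node (.leaf 483) (.leaf 27013)) (.node (.leaf 11888) (.leaf 0))) (.node (.node (.leaf 5890) (.leaf 0)) (.node (.leaf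 18758) (.leaf 0)))) (.node (.node (.node (.leaf 3118) (.leaf 32388)) (.node (.leaf 15204) (.leaf 0))) (.node (.node (.leaf 8808) (.leaf 0)) (.node (.leaf 22595) (.leaf 0))))) (.node (.node (.node (.node (.leaf 1796) (.leaf 29513)) (.node (.leaf 13520) (.leaf 0))) (.node (.node (.leaf 7335) (.leaf 0)) (.node (.leaf 20595) (.leaf 0)))) (.node (.node (.node (.leaf 4506) (.leaf 36188)) (.node (.leaf 16925) (.leaf 0))) (.node (.node (.leaf 10310) (.leaf 0)) (.node (.leaf 24685) (.leaf 0)))))) (.node (.node (.node (.node (.node (.leaf 1136) (.leaf 28188)) (.node (.leaf 12704) (.leaf 0))) (.node (.node (.leaf 6616) (.leaf 0)) (.node (.leaf 19628) (.leaf 0)))) (.node (.node (.node (.leaf 3808) (.leaf 34188)) (.node (.leaf 16054) (.leaf 0))) (.node (.node (.leaf 9578) (.leaf 0)) (.node (.leaf 23615) (.leaf 0))))) (.node (.node (.node (.node (.leaf 2462) (.leaf 30873)) (.node (.leaf 14328) (.leaf 0))) (.node (.node (.leaf 8057) (.leaf 0)) (.node (.leaf 21579) (.leaf 0)))) (.node (.node (.node (.leaf 5191) (.leaf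 38778)) (.node (.leaf 17824) (.leaf 0))) (.node (.node (.leaf 11085) (.leaf 0)) (.node (.leaf 25800) (.leaf 0))))))))

def pT1 : NT := .node (.node (.node (.node (.node (.node (.node (.node (.leaf 0) (.leaf 26113)) (.node (.leaf 11278) (.leaf 0))) (.node (.node (.leaf 5366) (.leaf 40049)) (.node (.leaf 18047) (.leaf 0)))) (.node (.node (.node (.leaf 2626) (.leaf 31226)) (.node (.leaf 14544) (.leaf 0))) (.node (.node (.leaf 8252) (.leaf 0)) (.node (.leaf 21828) (.leaf 0))))) (.node (.node (.node (.node (.leaf 1302) (.leaf 28507)) (.node (.leaf 12906) (.leaf 0))) (.node (.node (.leaf 6798) (.leaf 0)) (.node (.leaf 19866) (.leaf 0)))) (.node (.node (.node (.leaf 3984) (.leaf 34656)) (.node (.leaf 16278) (.leaf 0))) (.node (.node (.leaf 9756) (.leaf 0)) (.node (.leaf 23859) (.leaf 0)))))) (.node (.node (.node (.node (.node (.leaf 647) (.leaf 27313)) (.node (.leaf 12096) (.leaf 0))) (.node (.node (.leaf 6070) (.leaf 0)) (.node (.leaf 18980) (.leaf 0)))) (.node (.node (.node (.leaf 3288) (.leaf 32828)) (.node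 (.leaf 15412) (.leaf 0))) (.node (.node (.leaf 8999) (.leaf 0)) (.node (.leaf 22836) (.leaf 0))))) (.node (.node (.node (.node (.leaf 1968) (.leaf 29832)) (.node (.leaf 13718) (.leaf 0))) (.node (.node (.leaf 7515) (.leaf 0)) (.node (.leaf 20843) (.leaf 0)))) (.node (.node (.node (.leaf 4679) (.leaf 36830)) (.node (.leaf 17150) (.leaf 0))) (.node (.node (.leaf 10502) (.leaf 0)) (.node (.leaf 24949) (.leaf 0))))))) (.node (.node (.node (.node (.node (.node (.leaf 322) (.leaf 26709)) (.node (.leaf 11679) (.leaf 0))) (.node (.node (.leaf 5722) (.leaf 0)) (.node (.leaf 18510) (.leaf 0)))) (.node (.node (.node (.leaf 2954) (.leaf 32031)) (.node (.leaf 14987) (.leaf 0))) (.node (.node (.leaf 8620) (.leaf 0)) (.node (.leaf 22340) (.leaf 0))))) (.node (.node (.node (.node (.leaf 1630) (.leaf 29187)) (.node (.leaf 13310) (.leaf 0))) (.node (.node (.leaf 7155) (.leaf 0)) (.node (.leaf 20348) (.leaf 0)))) (.node (.node (.node (.leaf 4332) (.leaf 35670)) (.node (.leaf 16697) (.leaf 0))) (.node (.node (.leaf 10117)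 (.leaf 0)) (.node (.leaf 24397) (.leaf 0)))))) (.node (.node (.node (.node (.node (.leaf 974) (.leaf 27866)) (.node (.leaf 12500) (.leaf 0))) (.node (.node (.leaf 6441) (.leaf 0)) (.node (.leaf 19399) (.leaf 0)))) (.node (.node (.node (.leaf 3641) (.leaf 33679)) (.node (.leaf 15828) (.leaf 0))) (.node (.node (.leaf 9399) (.leaf 0)) (.node (.leaf 23344) (.leaf 0))))) (.node (.node (.node (.node (.leaf 2300) (.leaf 30518)) (.node (.leaf 14137) (.leaf 0))) (.node (.node (.leaf 7880) (.leaf 0)) (.node (.leaf 21328) (.leaf 0)))) (.node (.node (.node (.leaf 5020) (.leaf 38076)) (.node (.leaf 17602) (.leaf 0))) (.node (.node (.leaf 10899) (.leaf 0)) (.node (.leaf 25496) (.leaf 0)))))))) (.node (.node (.node (.node (.node (.node (.node (.leaf 162) (.leaf 26391)) (.node (.leaf 11467) (.leaf 0))) (.node (.node (.leaf 5548) (.leaf 0)) (.node (.leaf 18272) (.leaf 0)))) (.node (.node (.node (.leaf 2786) (.leaf 31606)) (.node (.leaf 14757) (.leaf 0))) (.node (.node (.leaf 8434) (.leaf 0)) (.node (.leaf 22064) (.leaf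 0))))) (.node (.node (.node (.node (.leaf 1464) (.leaf 28854)) (.node (.leaf 13107) (.leaf 0))) (.node (.node (.leaf 6980) (.leaf 0)) (.node (.leaf 20103) (.leaf 0)))) (.node (.node (.node (.leaf 4163) (.leaf 35119)) (.node (.leaf 16478) (.leaf 0))) (.node (.node (.leaf 9941) (.leaf 0)) (.node (.leaf 24122) (.leaf 0)))))) (.node (.node (.node (.node (.node (.leaf 809) (.leaf 27602)) (.node (.leaf 12296) (.leaf 0))) (.node (.node (.leaf 6252) (.leaf 0)) (.node (.leaf 19181) (.leaf 0)))) (.node (.node (.node (.leaf 3470) (.leaf 33234)) (.node (.leaf 15623) (.leaf 0))) (.node (.node (.leaf 9197) (.leaf 0)) (.node (.leaf 23093) (.leaf 0))))) (.node (.node (.node (.node (.leaf 2133) (.leaf 30190)) (.node (.leaf 13934) (.leaf 0))) (.node (.node (.leaf 7698) (.leaf 0)) (.node (.leaf 21095) (.leaf 0)))) (.node (.node (.node (.leaf 4852) (.leaf 37358)) (.node (.leaf 17379) (.leaf 0))) (.node (.node (.leaf 10698) (.leaf 0)) (.node (.leaf 25234) (.leaf 0))))))) (.node (.node (.node (.node (.node (.node (.leaf 484)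 (.leaf 27014)) (.node (.leaf 11889) (.leaf 0))) (.node (.node (.leaf 5891) (.leaf 0)) (.node (.leaf 18759) (.leaf 0)))) (.node (.node (.node (.leaf 3119) (.leaf 32391)) (.node (.leaf 15205) (.leaf 0))) (.node (.node (.leaf 8809) (.leaf 0)) (.node (.leaf 22596) (.leaf 0))))) (.node (.node (.node (.node (.leaf 1797) (.leaf 29515)) (.node (.leaf 13521) (.leaf 0))) (.node (.node (.leaf 7336) (.leaf 0)) (.node (.leaf 20596) (.leaf 0)))) (.node (.node (.node (.leaf 4507) (.leaf 36199)) (.node (.leaf 16926) (.leaf 0))) (.node (.node (.leaf 10313) (.leaf 0)) (.node (.leaf 24690) (.leaf 0)))))) (.node (.node (.node (.node (.node (.leaf 1137) (.leaf 28192)) (.node (.leaf 12706) (.leaf 0))) (.node (.node (.leaf 6619) (.leaf 0)) (.node (.leaf 19629) (.leaf 0)))) (.node (.node (.node (.leaf 3810) (.leaf 34196)) (.node (.leaf 16056) (.leaf 0))) (.node (.node (.leaf 9580) (.leaf 0)) (.node (.leaf 23616) (.leaf 0))))) (.node (.node (.node (.node (.leaf 2464) (.leaf 30876)) (.node (.leaf 14329) (.leaf 0))) (.node (.node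 (.leaf 8058) (.leaf 0)) (.node (.leaf 21582) (.leaf 0)))) (.node (.node (.node (.leaf 5192) (.leaf 38781)) (.node (.leaf 17826) (.leaf 0))) (.node (.node (.leaf 11086) (.leaf 0)) (.node (.leaf 25805) (.leaf 0))))))))

def pT2 : NT := .node (.node (.node (.node (.node (.node (.node (.node (.leaf 2) (.leaf 26118)) (.node (.leaf 11280) (.leaf 0))) (.node (.node (.leaf 5367) (.leaf 40050)) (.node (.leaf 18049) (.leaf 0)))) (.node (.node (.node (.leaf 2627) (.leaf 31228)) (.node (.leaf 14546) (.leaf 0))) (.node (.node (.leaf 8253) (.leaf 0)) (.node (.leaf 21831) (.leaf 0))))) (.node (.node (.node (.node (.leaf 1303) (.leaf 28510)) (.node (.leaf 12907) (.leaf 0))) (.node (.node (.leaf 6800) (.leaf 0)) (.node (.leaf 19868) (.leaf 0)))) (.node (.node (.node (.leaf 3985) (.leaf 34658)) (.node (.leaf 16280) (.leaf 0))) (.node (.node (.leaf 9757) (.leaf 0)) (.node (.leaf 23861) (.leaf 0)))))) (.node (.node (.node (.node (.node (.leaf 648) (.leaf 27316)) (.node (.leaf 12098) (.leaf 0))) (.node (.node (.leaf 6071)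 (.leaf 0)) (.node (.leaf 18982) (.leaf 0)))) (.node (.node (.node (.leaf 3290) (.leaf 32830)) (.node (.leaf 15414) (.leaf 0))) (.node (.node (.leaf 9000) (.leaf 0)) (.node (.leaf 22837) (.leaf 0))))) (.node (.node (.node (.node (.leaf 1969) (.leaf 29834)) (.node (.leaf 13720) (.leaf 0))) (.node (.node (.leaf 7516) (.leaf 0)) (.node (.leaf 20844) (.leaf 0)))) (.node (.node (.node (.leaf 4680) (.leaf 36831)) (.node (.leaf 17152) (.leaf 0))) (.node (.node (.leaf 10504) (.leaf 0)) (.node (.leaf 24950) (.leaf 0))))))) (.node (.node (.node (.node (.node (.node (.leaf 323) (.leaf 26710)) (.node (.leaf 11680) (.leaf 0))) (.node (.node (.leaf 5723) (.leaf 0)) (.node (.leaf 18511) (.leaf 0)))) (.node (.node (.node (.leaf 2955) (.leaf 32032)) (.node (.leaf 14988) (.leaf 0))) (.node (.node (.leaf 8622) (.leaf 0)) (.node (.leaf 22341) (.leaf 0))))) (.node (.node (.node (.node (.leaf 1632) (.leaf 29188)) (.node (.leaf 13312) (.leaf 0))) (.node (.node (.leaf 7159) (.leaf 0)) (.node (.leaf 20351) (.leaf 0)))) (.node (.node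 (.node (.leaf 4335) (.leaf 35671)) (.node (.leaf 16702) (.leaf 0))) (.node (.node (.leaf 10118) (.leaf 0)) (.node (.leaf 24400) (.leaf 0)))))) (.node (.node (.node (.node (.node (.leaf 975) (.leaf 27869)) (.node (.leaf 12503) (.leaf 0))) (.node (.node (.leaf 6442) (.leaf 0)) (.node (.leaf 19400) (.leaf 0)))) (.node (.node (.node (.leaf 3642) (.leaf 33680)) (.node (.leaf 15830) (.leaf 0))) (.node (.node (.leaf 9400) (.leaf 0)) (.node (.leaf 23346) (.leaf 0))))) (.node (.node (.node (.node (.leaf 2301) (.leaf 30522)) (.node (.leaf 14138) (.leaf 0))) (.node (.node (.leaf 7881) (.leaf 0)) (.node (.leaf 21329) (.leaf 0)))) (.node (.node (.node (.leaf 5021) (.leaf 38077)) (.node (.leaf 17604) (.leaf 0))) (.node (.node (.leaf 10900) (.leaf 0)) (.node (.leaf 25499) (.leaf 0)))))))) (.node (.node (.node (.node (.node (.node (.node (.leaf 163) (.leaf 26392)) (.node (.leaf 11468) (.leaf 0))) (.node (.node (.leaf 5549) (.leaf 0)) (.node (.leaf 18274) (.leaf 0)))) (.node (.node (.node (.leaf 2788) (.leaf 31609)) (.node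 (.leaf 14758) (.leaf 0))) (.node (.node (.leaf 8435) (.leaf 0)) (.node (.leaf 22066) (.leaf 0))))) (.node (.node (.node (.node (.leaf 1466) (.leaf 28856)) (.node (.leaf 13108) (.leaf 0))) (.node (.node (.leaf 6981) (.leaf 0)) (.node (.leaf 20106) (.leaf 0)))) (.node (.node (.node (.leaf 4164) (.leaf 35122)) (.node (.leaf 16479) (.leaf 0))) (.node (.node (.leaf 9942) (.leaf 0)) (.node (.leaf 24126) (.leaf 0)))))) (.node (.node (.node (.node (.node (.leaf 810) (.leaf 27603)) (.node (.leaf 12300) (.leaf 0))) (.node (.node (.leaf 6256) (.leaf 0)) (.node (.leaf 19184) (.leaf 0)))) (.node (.node (.node (.leaf 3473) (.leaf 33236)) (.node (.leaf 15624) (.leaf 0))) (.node (.node (.leaf 9198) (.leaf 0)) (.node (.leaf 23096) (.leaf 0))))) (.node (.node (.node (.node (.leaf 2134) (.leaf 30197)) (.node (.leaf 13936) (.leaf 0))) (.node (.node (.leaf 7699) (.leaf 0)) (.node (.leaf 21096) (.leaf 0)))) (.node (.node (.node (.leaf 4853) (.leaf 37359)) (.node (.leaf 17380) (.leaf 0))) (.node (.node (.leaf 10699) (.leaf 0))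 (.node (.leaf 25236) (.leaf 0))))))) (.node (.node (.node (.node (.node (.node (.leaf 485) (.leaf 27017)) (.node (.leaf 11890) (.leaf 0))) (.node (.node (.leaf 5892) (.leaf 0)) (.node (.leaf 18760) (.leaf 0)))) (.node (.node (.node (.leaf 3120) (.leaf 32395)) (.node (.leaf 15206) (.leaf 0))) (.node (.node (.leaf 8810) (.leaf 0)) (.node (.leaf 22598) (.leaf 0))))) (.node (.node (.node (.node (.leaf 1798) (.leaf 29523)) (.node (.leaf 13522) (.leaf 0))) (.node (.node (.leaf 7337) (.leaf 0)) (.node (.leaf 20598) (.leaf 0)))) (.node (.node (.node (.leaf 4508) (.leaf 36205)) (.node (.leaf 16928) (.leaf 0))) (.node (.node (.leaf 10316) (.leaf 0)) (.node (.leaf 24693) (.leaf 0)))))) (.node (.node (.node (.node (.node (.leaf 1138) (.leaf 28193)) (.node (.leaf 12707) (.leaf 0))) (.node (.node (.leaf 6620) (.leaf 0)) (.node (.leaf 19632) (.leaf 0)))) (.node (.node (.node (.leaf 3812) (.leaf 34197)) (.node (.leaf 16057) (.leaf 0))) (.node (.node (.leaf 9582) (.leaf 0)) (.node (.leaf 23618) (.leaf 0))))) (.node (.node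 (.node (.node (.leaf 2465) (.leaf 30884)) (.node (.leaf 14331) (.leaf 0))) (.node (.node (.leaf 8060) (.leaf 0)) (.node (.leaf 21583) (.leaf 0)))) (.node (.node (.node (.leaf 5193) (.leaf 38784)) (.node (.leaf 17828) (.leaf 0))) (.node (.node (.leaf 11090) (.leaf 0)) (.node (.leaf 25809) (.leaf 0))))))))

def pT3 : NT := .node (.node (.node (.node (.node (.node (.node (.node (.leaf 3) (.leaf 26119)) (.node (.leaf 11281) (.leaf 0))) (.node (.node (.leaf 5368) (.leaf 40054)) (.node (.leaf 18050) (.leaf 0)))) (.node (.node (.node (.leaf 2628) (.leaf 31231)) (.node (.leaf 14547) (.leaf 0))) (.node (.node (.leaf 8254) (.leaf 0)) (.node (.leaf 21832) (.leaf 0))))) (.node (.node (.node (.node (.leaf 1304) (.leaf 28512)) (.node (.leaf 12908) (.leaf 0))) (.node (.node (.leaf 6802) (.leaf 0)) (.node (.leaf 19869) (.leaf 0)))) (.node (.node (.node (.leaf 3986) (.leaf 34661)) (.node (.leaf 16281) (.leaf 0))) (.node (.node (.leaf 9758) (.leaf 0)) (.node (.leaf 23865) (.leaf 0)))))) (.node (.node (.node (.node (.node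 (.leaf 649) (.leaf 27319)) (.node (.leaf 12100) (.leaf 0))) (.node (.node (.leaf 6072) (.leaf 0)) (.node (.leaf 18983) (.leaf 0)))) (.node (.node (.node (.leaf 3291) (.leaf 32832)) (.node (.leaf 15420) (.leaf 0))) (.node (.node (.leaf 9002) (.leaf 0)) (.node (.leaf 22840) (.leaf 0))))) (.node (.node (.node (.node (.leaf 1970) (.leaf 29836)) (.node (.leaf 13721) (.leaf 0))) (.node (.node (.leaf 7518) (.leaf 0)) (.node (.leaf 20847) (.leaf 0)))) (.node (.node (.node (.leaf 4682) (.leaf 36832)) (.node (.leaf 17156) (.leaf 0))) (.node (.node (.leaf 10505) (.leaf 0)) (.node (.leaf 24955) (.leaf 0))))))) (.node (.node (.node (.node (.node (.node (.leaf 324) (.leaf 26712)) (.node (.leaf 11683) (.leaf 0))) (.node (.node (.leaf 5724) (.leaf 0)) (.node (.leaf 18512) (.leaf 0)))) (.node (.node (.node (.leaf 2956) (.leaf 32038)) (.node (.leaf 14990) (.leaf 0))) (.node (.node (.leaf 8623) (.leaf 0)) (.node (.leaf 22342) (.leaf 0))))) (.node (.node (.node (.node (.leaf 1634) (.leaf 29192)) (.node (.leaf 13313) (.leaf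 0))) (.node (.node (.leaf 7160) (.leaf 0)) (.node (.leaf 20355) (.leaf 0)))) (.node (.node (.node (.leaf 4338) (.leaf 35673)) (.node (.leaf 16704) (.leaf 0))) (.node (.node (.leaf 10120) (.leaf 0)) (.node (.leaf 24402) (.leaf 0)))))) (.node (.node (.node (.node (.node (.leaf 976) (.leaf 27871)) (.node (.leaf 12504) (.leaf 0))) (.node (.node (.leaf 6444) (.leaf 0)) (.node (.leaf 19404) (.leaf 0)))) (.node (.node (.node (.leaf 3644) (.leaf 33685)) (.node (.leaf 15832) (.leaf 0))) (.node (.node (.leaf 9402) (.leaf 0)) (.node (.leaf 23349) (.leaf 0))))) (.node (.node (.node (.node (.leaf 2302) (.leaf 30528)) (.node (.leaf 14139) (.leaf 0))) (.node (.node (.leaf 7882) (.leaf 0)) (.node (.leaf 21330) (.leaf 0)))) (.node (.node (.node (.leaf 5022) (.leaf 38084)) (.node (.leaf 17605) (.leaf 0))) (.node (.node (.leaf 10902) (.leaf 0)) (.node (.leaf 25500) (.leaf 0)))))))) (.node (.node (.node (.node (.node (.node (.node (.leaf 164) (.leaf 26394)) (.node (.leaf 11470) (.leaf 0))) (.node (.node (.leaf 5552) (.leaf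 0)) (.node (.leaf 18275) (.leaf 0)))) (.node (.node (.node (.leaf 2789) (.leaf 31611)) (.node (.leaf 14760) (.leaf 0))) (.node (.node (.leaf 8436) (.leaf 0)) (.node (.leaf 22068) (.leaf 0))))) (.node (.node (.node (.node (.leaf 1468) (.leaf 28859)) (.node (.leaf 13110) (.leaf 0))) (.node (.node (.leaf 6982) (.leaf 0)) (.node (.leaf 20107) (.leaf 0)))) (.node (.node (.node (.leaf 4166) (.leaf 35125)) (.node (.leaf 16480) (.leaf 0))) (.node (.node (.leaf 9943) (.leaf 0)) (.node (.leaf 24127) (.leaf 0)))))) (.node (.node (.node (.node (.node (.leaf 812) (.leaf 27606)) (.node (.leaf 12301) (.leaf 0))) (.node (.node (.leaf 6258) (.leaf 0)) (.node (.leaf 19186) (.leaf 0)))) (.node (.node (.node (.leaf 3474) (.leaf 33238)) (.node (.leaf 15625) (.leaf 0))) (.node (.node (.leaf 9200) (.leaf 0)) (.node (.leaf 23098) (.leaf 0))))) (.node (.node (.node (.node (.leaf 2135) (.leaf 30198)) (.node (.leaf 13937) (.leaf 0))) (.node (.node (.leaf 7700) (.leaf 0)) (.node (.leaf 21098) (.leaf 0)))) (.node (.node (.node (.leaf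 4854) (.leaf 37360)) (.node (.leaf 17382) (.leaf 0))) (.node (.node (.leaf 10700) (.leaf 0)) (.node (.leaf 25237) (.leaf 0))))))) (.node (.node (.node (.node (.node (.node (.leaf 486) (.leaf 27020)) (.node (.leaf 11891) (.leaf 0))) (.node (.node (.leaf 5893) (.leaf 0)) (.node (.leaf 18764) (.leaf 0)))) (.node (.node (.node (.leaf 3121) (.leaf 32396)) (.node (.leaf 15207) (.leaf 0))) (.node (.node (.leaf 8812) (.leaf 0)) (.node (.leaf 22600) (.leaf 0))))) (.node (.node (.node (.node (.leaf 1800) (.leaf 29527)) (.node (.leaf 13525) (.leaf 0))) (.node (.node (.leaf 7338) (.leaf 0)) (.node (.leaf 20601) (.leaf 0)))) (.node (.node (.node (.leaf 4509) (.leaf 36207)) (.node (.leaf 16929) (.leaf 0))) (.node (.node (.leaf 10317) (.leaf 0)) (.node (.leaf 24694) (.leaf 0)))))) (.node (.node (.node (.node (.node (.leaf 1139) (.leaf 28198)) (.node (.leaf 12708) (.leaf 0))) (.node (.node (.leaf 6622) (.leaf 0)) (.node (.leaf 19633) (.leaf 0)))) (.node (.node (.node (.leaf 3813) (.leaf 34206)) (.node (.leaf 16060) (.leaf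 0))) (.node (.node (.leaf 9583) (.leaf 0)) (.node (.leaf 23620) (.leaf 0))))) (.node (.node (.node (.node (.leaf 2466) (.leaf 30885)) (.node (.leaf 14334) (.leaf 0))) (.node (.node (.leaf 8061) (.leaf 0)) (.node (.leaf 21584) (.leaf 0)))) (.node (.node (.node (.leaf 5194) (.leaf 38785)) (.node (.leaf 17830) (.leaf 0))) (.node (.node (.leaf 11091) (.leaf 0)) (.node (.leaf 25810) (.leaf 0))))))))

def pT4 : NT := .node (.node (.node (.node (.node (.node (.node (.node (.leaf 4) (.leaf 26122)) (.node (.leaf 11282) (.leaf 0))) (.node (.node (.leaf 5370) (.leaf 40102)) (.node (.leaf 18052) (.leaf 0)))) (.node (.node (.node (.leaf 2630) (.leaf 31234)) (.node (.leaf 14548) (.leaf 0))) (.node (.node (.leaf 8256) (.leaf 0)) (.node (.leaf 21833) (.leaf 0))))) (.node (.node (.node (.node (.leaf 1306) (.leaf 28513)) (.node (.leaf 12909) (.leaf 0))) (.node (.node (.leaf 6804) (.leaf 0)) (.node (.leaf 19872) (.leaf 0)))) (.node (.node (.node (.leaf 3987) (.leaf 34664)) (.node (.leaf 16282) (.leaf 0))) (.node (.node (.leaf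 9759) (.leaf 0)) (.node (.leaf 23866) (.leaf 0)))))) (.node (.node (.node (.node (.node (.leaf 650) (.leaf 27324)) (.node (.leaf 12101) (.leaf 0))) (.node (.node (.leaf 6075) (.leaf 0)) (.node (.leaf 18984) (.leaf 0)))) (.node (.node (.node (.leaf 3292) (.leaf 32833)) (.node (.leaf 15421) (.leaf 0))) (.node (.node (.leaf 9006) (.leaf 0)) (.node (.leaf 22843) (.leaf 0))))) (.node (.node (.node (.node (.leaf 1972) (.leaf 29837)) (.node (.leaf 13722) (.leaf 0))) (.node (.node (.leaf 7519) (.leaf 0)) (.node (.leaf 20848) (.leaf 0)))) (.node (.node (.node (.leaf 4684) (.leaf 36836)) (.node (.leaf 17157) (.leaf 0))) (.node (.node (.leaf 10506) (.leaf 0)) (.node (.leaf 24956) (.leaf 0))))))) (.node (.node (.node (.node (.node (.node (.leaf 326) (.leaf 26713)) (.node (.leaf 11684) (.leaf 0))) (.node (.node (.leaf 5726) (.leaf 0)) (.node (.leaf 18515) (.leaf 0)))) (.node (.node (.node (.leaf 2957) (.leaf 32043)) (.node (.leaf 14991) (.leaf 0))) (.node (.node (.leaf 8624) (.leaf 0)) (.node (.leaf 22344) (.leaf 0)))))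 (.node (.node (.node (.node (.leaf 1635) (.leaf 29194)) (.node (.leaf 13314) (.leaf 0))) (.node (.node (.leaf 7163) (.leaf 0)) (.node (.leaf 20356) (.leaf 0)))) (.node (.node (.node (.leaf 4339) (.leaf 35682)) (.node (.leaf 16705) (.leaf 0))) (.node (.node (.leaf 10121) (.leaf 0)) (.node (.leaf 24404) (.leaf 0)))))) (.node (.node (.node (.node (.node (.leaf 978) (.leaf 27878)) (.node (.leaf 12506) (.leaf 0))) (.node (.node (.leaf 6446) (.leaf 0)) (.node (.leaf 19406) (.leaf 0)))) (.node (.node (.node (.leaf 3645) (.leaf 33686)) (.node (.leaf 15833) (.leaf 0))) (.node (.node (.leaf 9404) (.leaf 0)) (.node (.leaf 23350) (.leaf 0))))) (.node (.node (.node (.node (.leaf 2303) (.leaf 30529)) (.node (.leaf 14140) (.leaf 0))) (.node (.node (.leaf 7884) (.leaf 0)) (.node (.leaf 21334) (.leaf 0)))) (.node (.node (.node (.leaf 5024) (.leaf 38086)) (.node (.leaf 17606) (.leaf 0))) (.node (.node (.leaf 10903) (.leaf 0)) (.node (.leaf 25503) (.leaf 0)))))))) (.node (.node (.node (.node (.node (.node (.node (.leaf 166)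 (.leaf 26398)) (.node (.leaf 11471) (.leaf 0))) (.node (.node (.leaf 5553) (.leaf 0)) (.node (.leaf 18278) (.leaf 0)))) (.node (.node (.node (.leaf 2790) (.leaf 31612)) (.node (.leaf 14761) (.leaf 0))) (.node (.node (.leaf 8440) (.leaf 0)) (.node (.leaf 22071) (.leaf 0))))) (.node (.node (.node (.node (.leaf 1469) (.leaf 28860)) (.node (.leaf 13112) (.leaf 0))) (.node (.node (.leaf 6984) (.leaf 0)) (.node (.leaf 20108) (.leaf 0)))) (.node (.node (.node (.leaf 4167) (.leaf 35126)) (.node (.leaf 16482) (.leaf 0))) (.node (.node (.leaf 9944) (.leaf 0)) (.node (.leaf 24129) (.leaf 0)))))) (.node (.node (.node (.node (.node (.leaf 813) (.leaf 27608)) (.node (.leaf 12302) (.leaf 0))) (.node (.node (.leaf 6260) (.leaf 0)) (.node (.leaf 19187) (.leaf 0)))) (.node (.node (.node (.leaf 3475) (.leaf 33241)) (.node (.leaf 15626) (.leaf 0))) (.node (.node (.leaf 9201) (.leaf 0)) (.node (.leaf 23099) (.leaf 0))))) (.node (.node (.node (.node (.leaf 2136) (.leaf 30200)) (.node (.leaf 13938) (.leaf 0))) (.node (.node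 (.leaf 7702) (.leaf 0)) (.node (.leaf 21100) (.leaf 0)))) (.node (.node (.node (.leaf 4856) (.leaf 37363)) (.node (.leaf 17383) (.leaf 0))) (.node (.node (.leaf 10702) (.leaf 0)) (.node (.leaf 25238) (.leaf 0))))))) (.node (.node (.node (.node (.node (.node (.leaf 488) (.leaf 27022)) (.node (.leaf 11892) (.leaf 0))) (.node (.node (.leaf 5894) (.leaf 0)) (.node (.leaf 18765) (.leaf 0)))) (.node (.node (.node (.leaf 3122) (.leaf 32400)) (.node (.leaf 15209) (.leaf 0))) (.node (.node (.leaf 8813) (.leaf 0)) (.node (.leaf 22603) (.leaf 0))))) (.node (.node (.node (.node (.leaf 1801) (.leaf 29528)) (.node (.leaf 13526) (.leaf 0))) (.node (.node (.leaf 7340) (.leaf 0)) (.node (.leaf 20605) (.leaf 0)))) (.node (.node (.node (.leaf 4510) (.leaf 36210)) (.node (.leaf 16930) (.leaf 0))) (.node (.node (.leaf 10318) (.leaf 0)) (.node (.leaf 24698) (.leaf 0)))))) (.node (.node (.node (.node (.node (.leaf 1140) (.leaf 28201)) (.node (.leaf 12709) (.leaf 0))) (.node (.node (.leaf 6623) (.leaf 0)) (.node (.leaf 19634)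 (.leaf 0)))) (.node (.node (.node (.leaf 3814) (.leaf 34212)) (.node (.leaf 16061) (.leaf 0))) (.node (.node (.leaf 9584) (.leaf 0)) (.node (.leaf 23621) (.leaf 0))))) (.node (.node (.node (.node (.leaf 2467) (.leaf 30886)) (.node (.leaf 14336) (.leaf 0))) (.node (.node (.leaf 8062) (.leaf 0)) (.node (.leaf 21586) (.leaf 0)))) (.node (.node (.node (.leaf 5196) (.leaf 38786)) (.node (.leaf 17831) (.leaf 0))) (.node (.node (.leaf 11092) (.leaf 0)) (.node (.leaf 25816) (.leaf 0))))))))

def pT5 : NT := .node (.node (.node (.node (.node (.node (.node (.node (.leaf 5) (.leaf 26124)) (.node (.leaf 11284) (.leaf 0))) (.node (.node (.leaf 5371) (.leaf 40134)) (.node (.leaf 18054) (.leaf 0)))) (.node (.node (.node (.leaf 2631) (.leaf 31238)) (.node (.leaf 14549) (.leaf 0))) (.node (.node (.leaf 8257) (.leaf 0)) (.node (.leaf 21834) (.leaf 0))))) (.node (.node (.node (.node (.leaf 1307) (.leaf 28518)) (.node (.leaf 12912) (.leaf 0))) (.node (.node (.leaf 6806) (.leaf 0)) (.node (.leaf 19874) (.leaf 0)))) (.node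 (.node (.node (.leaf 3990) (.leaf 34666)) (.node (.leaf 16283) (.leaf 0))) (.node (.node (.leaf 9760) (.leaf 0)) (.node (.leaf 23868) (.leaf 0)))))) (.node (.node (.node (.node (.node (.leaf 652) (.leaf 27326)) (.node (.leaf 12102) (.leaf 0))) (.node (.node (.leaf 6076) (.leaf 0)) (.node (.leaf 18985) (.leaf 0)))) (.node (.node (.node (.leaf 3293) (.leaf 32834)) (.node (.leaf 15422) (.leaf 0))) (.node (.node (.leaf 9007) (.leaf 0)) (.node (.leaf 22844) (.leaf 0))))) (.node (.node (.node (.node (.leaf 1973) (.leaf 29842)) (.node (.leaf 13723) (.leaf 0))) (.node (.node (.leaf 7520) (.leaf 0)) (.node (.leaf 20849) (.leaf 0)))) (.node (.node (.node (.leaf 4685) (.leaf 36840)) (.node (.leaf 17161) (.leaf 0))) (.node (.node (.leaf 10508) (.leaf 0)) (.node (.leaf 24961) (.leaf 0))))))) (.node (.node (.node (.node (.node (.node (.leaf 327) (.leaf 26714)) (.node (.leaf 11686) (.leaf 0))) (.node (.node (.leaf 5727) (.leaf 0)) (.node (.leaf 18516) (.leaf 0)))) (.node (.node (.node (.leaf 2958) (.leaf 32046)) (.node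 (.leaf 14994) (.leaf 0))) (.node (.node (.leaf 8625) (.leaf 0)) (.node (.leaf 22347) (.leaf 0))))) (.node (.node (.node (.node (.leaf 1636) (.leaf 29197)) (.node (.leaf 13316) (.leaf 0))) (.node (.node (.leaf 7164) (.leaf 0)) (.node (.leaf 20358) (.leaf 0)))) (.node (.node (.node (.leaf 4340) (.leaf 35683)) (.node (.leaf 16710) (.leaf 0))) (.node (.node (.leaf 10122) (.leaf 0)) (.node (.leaf 24408) (.leaf 0)))))) (.node (.node (.node (.node (.node (.leaf 979) (.leaf 27879)) (.node (.leaf 12507) (.leaf 0))) (.node (.node (.leaf 6447) (.leaf 0)) (.node (.leaf 19407) (.leaf 0)))) (.node (.node (.node (.leaf 3647) (.leaf 33687)) (.node (.leaf 15834) (.leaf 0))) (.node (.node (.leaf 9407) (.leaf 0)) (.node (.leaf 23356) (.leaf 0))))) (.node (.node (.node (.node (.leaf 2304) (.leaf 30530)) (.node (.leaf 14142) (.leaf 0))) (.node (.node (.leaf 7886) (.leaf 0)) (.node (.leaf 21336) (.leaf 0)))) (.node (.node (.node (.leaf 5025) (.leaf 38088)) (.node (.leaf 17608) (.leaf 0))) (.node (.node (.leaf 10906) (.leaf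 0)) (.node (.leaf 25504) (.leaf 0)))))))) (.node (.node (.node (.node (.node (.node (.node (.leaf 167) (.leaf 26402)) (.node (.leaf 11472) (.leaf 0))) (.node (.node (.leaf 5554) (.leaf 0)) (.node (.leaf 18279) (.leaf 0)))) (.node (.node (.node (.leaf 2791) (.leaf 31616)) (.node (.leaf 14762) (.leaf 0))) (.node (.node (.leaf 8442) (.leaf 0)) (.node (.leaf 22072) (.leaf 0))))) (.node (.node (.node (.node (.leaf 1470) (.leaf 28862)) (.node (.leaf 13113) (.leaf 0))) (.node (.node (.leaf 6985) (.leaf 0)) (.node (.leaf 20110) (.leaf 0)))) (.node (.node (.node (.leaf 4168) (.leaf 35138)) (.node (.leaf 16483) (.leaf 0))) (.node (.node (.leaf 9946) (.leaf 0)) (.node (.leaf 24130) (.leaf 0)))))) (.node (.node (.node (.node (.node (.leaf 814) (.leaf 27609)) (.node (.leaf 12305) (.leaf 0))) (.node (.node (.leaf 6262) (.leaf 0)) (.node (.leaf 19188) (.leaf 0)))) (.node (.node (.node (.leaf 3476) (.leaf 33244)) (.node (.leaf 15627) (.leaf 0))) (.node (.node (.leaf 9204) (.leaf 0)) (.node (.leaf 23100) (.leaf 0)))))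 (.node (.node (.node (.node (.leaf 2138) (.leaf 30203)) (.node (.leaf 13940) (.leaf 0))) (.node (.node (.leaf 7703) (.leaf 0)) (.node (.leaf 21101) (.leaf 0)))) (.node (.node (.node (.leaf 4857) (.leaf 37367)) (.node (.leaf 17384) (.leaf 0))) (.node (.node (.leaf 10704) (.leaf 0)) (.node (.leaf 25239) (.leaf 0))))))) (.node (.node (.node (.node (.node (.node (.leaf 489) (.leaf 27024)) (.node (.leaf 11894) (.leaf 0))) (.node (.node (.leaf 5896) (.leaf 0)) (.node (.leaf 18766) (.leaf 0)))) (.node (.node (.node (.leaf 3124) (.leaf 32401)) (.node (.leaf 15210) (.leaf 0))) (.node (.node (.leaf 8816) (.leaf 0)) (.node (.leaf 22604) (.leaf 0))))) (.node (.node (.node (.node (.leaf 1802) (.leaf 29530)) (.node (.leaf 13527) (.leaf 0))) (.node (.node (.leaf 7341) (.leaf 0)) (.node (.leaf 20608) (.leaf 0)))) (.node (.node (.node (.leaf 4512) (.leaf 36211)) (.node (.leaf 16932) (.leaf 0))) (.node (.node (.leaf 10320) (.leaf 0)) (.node (.leaf 24699) (.leaf 0)))))) (.node (.node (.node (.node (.node (.leaf 1142) (.leaf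 28203)) (.node (.leaf 12710) (.leaf 0))) (.node (.node (.leaf 6624) (.leaf 0)) (.node (.leaf 19636) (.leaf 0)))) (.node (.node (.node (.leaf 3815) (.leaf 34218)) (.node (.leaf 16063) (.leaf 0))) (.node (.node (.leaf 9586) (.leaf 0)) (.node (.leaf 23622) (.leaf 0))))) (.node (.node (.node (.node (.leaf 2468) (.leaf 30887)) (.node (.leaf 14337) (.leaf 0))) (.node (.node (.leaf 8064) (.leaf 0)) (.node (.leaf 21588) (.leaf 0)))) (.node (.node (.node (.leaf 5198) (.leaf 38797)) (.node (.leaf 17832) (.leaf 0))) (.node (.node (.leaf 11094) (.leaf 0)) (.node (.leaf 25817) (.leaf 0))))))))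

def pT6 : NT := .node (.node (.node (.node (.node (.node (.node (.node (.leaf 6) (.leaf 26126)) (.node (.leaf 11285) (.leaf 0))) (.node (.node (.leaf 5372) (.leaf 40147)) (.node (.leaf 18055) (.leaf 0)))) (.node (.node (.node (.leaf 2632) (.leaf 31240)) (.node (.leaf 14550) (.leaf 0))) (.node (.node (.leaf 8258) (.leaf 0)) (.node (.leaf 21835) (.leaf 0))))) (.node (.node (.node (.node (.leaf 1308) (.leaf 28519)) (.node (.leaf 12913) (.leaf 0))) (.node (.node (.leaf 6807) (.leaf 0)) (.node (.leaf 19876) (.leaf 0)))) (.node (.node (.node (.leaf 3991) (.leaf 34667)) (.node (.leaf 16284) (.leaf 0))) (.node (.node (.leaf 9762) (.leaf 0)) (.node (.leaf 23869) (.leaf 0)))))) (.node (.node (.node (.node (.node (.leaf 653) (.leaf 27327)) (.node (.leaf 12105) (.leaf 0))) (.node (.node (.leaf 6078) (.leaf 0)) (.node (.leaf 18989) (.leaf 0)))) (.node (.node (.node (.leaf 3294) (.leaf 32835)) (.node (.leaf 15423) (.leaf 0))) (.node (.node (.leaf 9008) (.leaf 0)) (.node (.leaf 22846) (.leaf 0))))) (.node (.node (.node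 (.node (.leaf 1974) (.leaf 29846)) (.node (.leaf 13726) (.leaf 0))) (.node (.node (.leaf 7521) (.leaf 0)) (.node (.leaf 20852) (.leaf 0)))) (.node (.node (.node (.leaf 4686) (.leaf 36841)) (.node (.leaf 17162) (.leaf 0))) (.node (.node (.leaf 10509) (.leaf 0)) (.node (.leaf 24967) (.leaf 0))))))) (.node (.node (.node (.node (.node (.node (.leaf 328) (.leaf 26716)) (.node (.leaf 11687) (.leaf 0))) (.node (.node (.leaf 5728) (.leaf 0)) (.node (.leaf 18520) (.leaf 0)))) (.node (.node (.node (.leaf 2960) (.leaf 32054)) (.node (.leaf 14995) (.leaf 0))) (.node (.node (.leaf 8626) (.leaf 0)) (.node (.leaf 22350) (.leaf 0))))) (.node (.node (.node (.node (.leaf 1638) (.leaf 29198)) (.node (.leaf 13317) (.leaf 0))) (.node (.node (.leaf 7165) (.leaf 0)) (.node (.leaf 20362) (.leaf 0)))) (.node (.node (.node (.leaf 4342) (.leaf 35687)) (.node (.leaf 16712) (.leaf 0))) (.node (.node (.leaf 10124) (.leaf 0)) (.node (.leaf 24409) (.leaf 0)))))) (.node (.node (.node (.node (.node (.leaf 980) (.leaf 27880)) (.node (.leaf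 12508) (.leaf 0))) (.node (.node (.leaf 6452) (.leaf 0)) (.node (.leaf 19410) (.leaf 0)))) (.node (.node (.node (.leaf 3648) (.leaf 33688)) (.node (.leaf 15836) (.leaf 0))) (.node (.node (.leaf 9408) (.leaf 0)) (.node (.leaf 23358) (.leaf 0))))) (.node (.node (.node (.node (.leaf 2306) (.leaf 30531)) (.node (.leaf 14144) (.leaf 0))) (.node (.node (.leaf 7888) (.leaf 0)) (.node (.leaf 21340) (.leaf 0)))) (.node (.node (.node (.leaf 5026) (.leaf 38089)) (.node (.leaf 17610) (.leaf 0))) (.node (.node (.leaf 10907) (.leaf 0)) (.node (.leaf 25505) (.leaf 0)))))))) (.node (.node (.node (.node (.node (.node (.node (.leaf 168) (.leaf 26404)) (.node (.leaf 11473) (.leaf 0))) (.node (.node (.leaf 5556) (.leaf 0)) (.node (.leaf 18281) (.leaf 0)))) (.node (.node (.node (.leaf 2792) (.leaf 31617)) (.node (.leaf 14764) (.leaf 0))) (.node (.node (.leaf 8443) (.leaf 0)) (.node (.leaf 22077) (.leaf 0))))) (.node (.node (.node (.node (.leaf 1471) (.leaf 28864)) (.node (.leaf 13114) (.leaf 0))) (.node (.node (.leaf 6986)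 (.leaf 0)) (.node (.leaf 20111) (.leaf 0)))) (.node (.node (.node (.leaf 4170) (.leaf 35144)) (.node (.leaf 16484) (.leaf 0))) (.node (.node (.leaf 9948) (.leaf 0)) (.node (.leaf 24132) (.leaf 0)))))) (.node (.node (.node (.node (.node (.leaf 816) (.leaf 27610)) (.node (.leaf 12306) (.leaf 0))) (.node (.node (.leaf 6264) (.leaf 0)) (.node (.leaf 19189) (.leaf 0)))) (.node (.node (.node (.leaf 3478) (.leaf 33250)) (.node (.leaf 15628) (.leaf 0))) (.node (.node (.leaf 9205) (.leaf 0)) (.node (.leaf 23101) (.leaf 0))))) (.node (.node (.node (.node (.leaf 2139) (.leaf 30207)) (.node (.leaf 13941) (.leaf 0))) (.node (.node (.leaf 7705) (.leaf 0)) (.node (.leaf 21102) (.leaf 0)))) (.node (.node (.node (.leaf 4858) (.leaf 37369)) (.node (.leaf 17385) (.leaf 0))) (.node (.node (.leaf 10706) (.leaf 0)) (.node (.leaf 25240) (.leaf 0))))))) (.node (.node (.node (.node (.node (.node (.leaf 490) (.leaf 27026)) (.node (.leaf 11896) (.leaf 0))) (.node (.node (.leaf 5897) (.leaf 0)) (.node (.leaf 18768) (.leaf 0)))) (.node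 (.node (.node (.leaf 3125) (.leaf 32404)) (.node (.leaf 15212) (.leaf 0))) (.node (.node (.leaf 8817) (.leaf 0)) (.node (.leaf 22606) (.leaf 0))))) (.node (.node (.node (.node (.leaf 1803) (.leaf 29532)) (.node (.leaf 13528) (.leaf 0))) (.node (.node (.leaf 7342) (.leaf 0)) (.node (.leaf 20609) (.leaf 0)))) (.node (.node (.node (.leaf 4513) (.leaf 36215)) (.node (.leaf 16934) (.leaf 0))) (.node (.node (.leaf 10321) (.leaf 0)) (.node (.leaf 24700) (.leaf 0)))))) (.node (.node (.node (.node (.node (.leaf 1143) (.leaf 28204)) (.node (.leaf 12712) (.leaf 0))) (.node (.node (.leaf 6626) (.leaf 0)) (.node (.leaf 19637) (.leaf 0)))) (.node (.node (.node (.leaf 3816) (.leaf 34222)) (.node (.leaf 16066) (.leaf 0))) (.node (.node (.leaf 9587) (.leaf 0)) (.node (.leaf 23623) (.leaf 0))))) (.node (.node (.node (.node (.leaf 2470) (.leaf 30892)) (.node (.leaf 14338) (.leaf 0))) (.node (.node (.leaf 8065) (.leaf 0)) (.node (.leaf 21589) (.leaf 0)))) (.node (.node (.node (.leaf 5199) (.leaf 38800)) (.node (.leaf 17833)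 (.leaf 0))) (.node (.node (.leaf 11096) (.leaf 0)) (.node (.leaf 25818) (.leaf 0))))))))

def pT7 : NT := .node (.node (.node (.node (.node (.node (.node (.node (.leaf 8) (.leaf 26127)) (.node (.leaf 11288) (.leaf 0))) (.node (.node (.leaf 5374) (.leaf 40157)) (.node (.leaf 18056) (.leaf 0)))) (.node (.node (.node (.leaf 2633) (.leaf 31241)) (.node (.leaf 14552) (.leaf 0))) (.node (.node (.leaf 8259) (.leaf 0)) (.node (.leaf 21837) (.leaf 0))))) (.node (.node (.node (.node (.leaf 1310) (.leaf 28523)) (.node (.leaf 12916) (.leaf 0))) (.node (.node (.leaf 6808) (.leaf 0)) (.node (.leaf 19877) (.leaf 0)))) (.node (.node (.node (.leaf 3992) (.leaf 34668)) (.node (.leaf 16286) (.leaf 0))) (.node (.node (.leaf 9764) (.leaf 0)) (.node (.leaf 23870) (.leaf 0)))))) (.node (.node (.node (.node (.node (.leaf 654) (.leaf 27329)) (.node (.leaf 12106) (.leaf 0))) (.node (.node (.leaf 6079) (.leaf 0)) (.node (.leaf 18990) (.leaf 0)))) (.node (.node (.node (.leaf 3296) (.leaf 32836)) (.node (.leaf 15424) (.leaf 0))) (.node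 (.node (.leaf 9009) (.leaf 0)) (.node (.leaf 22847) (.leaf 0))))) (.node (.node (.node (.node (.leaf 1976) (.leaf 29848)) (.node (.leaf 13727) (.leaf 0))) (.node (.node (.leaf 7522) (.leaf 0)) (.node (.leaf 20854) (.leaf 0)))) (.node (.node (.node (.leaf 4689) (.leaf 36845)) (.node (.leaf 17163) (.leaf 0))) (.node (.node (.leaf 10510) (.leaf 0)) (.node (.leaf 24973) (.leaf 0))))))) (.node (.node (.node (.node (.node (.node (.leaf 330) (.leaf 26718)) (.node (.leaf 11688) (.leaf 0))) (.node (.node (.leaf 5730) (.leaf 0)) (.node (.leaf 18522) (.leaf 0)))) (.node (.node (.node (.leaf 2961) (.leaf 32058)) (.node (.leaf 14997) (.leaf 0))) (.node (.node (.leaf 8627) (.leaf 0)) (.node (.leaf 22351) (.leaf 0))))) (.node (.node (.node (.node (.leaf 1639) (.leaf 29200)) (.node (.leaf 13318) (.leaf 0))) (.node (.node (.leaf 7168) (.leaf 0)) (.node (.leaf 20363) (.leaf 0)))) (.node (.node (.node (.leaf 4344) (.leaf 35706)) (.node (.leaf 16713) (.leaf 0))) (.node (.node (.leaf 10125) (.leaf 0)) (.node (.leaf 24412)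 (.leaf 0)))))) (.node (.node (.node (.node (.node (.leaf 982) (.leaf 27883)) (.node (.leaf 12511) (.leaf 0))) (.node (.node (.leaf 6454) (.leaf 0)) (.node (.leaf 19414) (.leaf 0)))) (.node (.node (.node (.leaf 3650) (.leaf 33693)) (.node (.leaf 15837) (.leaf 0))) (.node (.node (.leaf 9409) (.leaf 0)) (.node (.leaf 23362) (.leaf 0))))) (.node (.node (.node (.node (.leaf 2307) (.leaf 30534)) (.node (.leaf 14145) (.leaf 0))) (.node (.node (.leaf 7889) (.leaf 0)) (.node (.leaf 21342) (.leaf 0)))) (.node (.node (.node (.leaf 5027) (.leaf 38090)) (.node (.leaf 17611) (.leaf 0))) (.node (.node (.leaf 10908) (.leaf 0)) (.node (.leaf 25506) (.leaf 0)))))))) (.node (.node (.node (.node (.node (.node (.node (.leaf 169) (.leaf 26408)) (.node (.leaf 11474) (.leaf 0))) (.node (.node (.leaf 5557) (.leaf 0)) (.node (.leaf 18282) (.leaf 0)))) (.node (.node (.node (.leaf 2794) (.leaf 31620)) (.node (.leaf 14766) (.leaf 0))) (.node (.node (.leaf 8444) (.leaf 0)) (.node (.leaf 22082) (.leaf 0))))) (.node (.node (.node (.node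 (.leaf 1472) (.leaf 28867)) (.node (.leaf 13117) (.leaf 0))) (.node (.node (.leaf 6987) (.leaf 0)) (.node (.leaf 20113) (.leaf 0)))) (.node (.node (.node (.leaf 4171) (.leaf 35147)) (.node (.leaf 16485) (.leaf 0))) (.node (.node (.leaf 9950) (.leaf 0)) (.node (.leaf 24134) (.leaf 0)))))) (.node (.node (.node (.node (.node (.leaf 817) (.leaf 27612)) (.node (.leaf 12307) (.leaf 0))) (.node (.node (.leaf 6266) (.leaf 0)) (.node (.leaf 19190) (.leaf 0)))) (.node (.node (.node (.leaf 3479) (.leaf 33252)) (.node (.leaf 15629) (.leaf 0))) (.node (.node (.leaf 9206) (.leaf 0)) (.node (.leaf 23104) (.leaf 0))))) (.node (.node (.node (.node (.leaf 2140) (.leaf 30210)) (.node (.leaf 13942) (.leaf 0))) (.node (.node (.leaf 7706) (.leaf 0)) (.node (.leaf 21103) (.leaf 0)))) (.node (.node (.node (.leaf 4859) (.leaf 37372)) (.node (.leaf 17386) (.leaf 0))) (.node (.node (.leaf 10707) (.leaf 0)) (.node (.leaf 25241) (.leaf 0))))))) (.node (.node (.node (.node (.node (.node (.leaf 492) (.leaf 27028)) (.node (.leaf 11897)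 (.leaf 0))) (.node (.node (.leaf 5898) (.leaf 0)) (.node (.leaf 18770) (.leaf 0)))) (.node (.node (.node (.leaf 3126) (.leaf 32410)) (.node (.leaf 15213) (.leaf 0))) (.node (.node (.leaf 8818) (.leaf 0)) (.node (.leaf 22608) (.leaf 0))))) (.node (.node (.node (.node (.leaf 1804) (.leaf 29535)) (.node (.leaf 13530) (.leaf 0))) (.node (.node (.leaf 7343) (.leaf 0)) (.node (.leaf 20610) (.leaf 0)))) (.node (.node (.node (.leaf 4514) (.leaf 36220)) (.node (.leaf 16936) (.leaf 0))) (.node (.node (.leaf 10322) (.leaf 0)) (.node (.leaf 24702) (.leaf 0)))))) (.node (.node (.node (.node (.node (.leaf 1144) (.leaf 28208)) (.node (.leaf 12714) (.leaf 0))) (.node (.node (.leaf 6628) (.leaf 0)) (.node (.leaf 19639) (.leaf 0)))) (.node (.node (.node (.leaf 3818) (.leaf 34225)) (.node (.leaf 16068) (.leaf 0))) (.node (.node (.leaf 9588) (.leaf 0)) (.node (.leaf 23624) (.leaf 0))))) (.node (.node (.node (.node (.leaf 2471) (.leaf 30893)) (.node (.leaf 14339) (.leaf 0))) (.node (.node (.leaf 8066) (.leaf 0)) (.node (.leaf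 21590) (.leaf 0)))) (.node (.node (.node (.leaf 5203) (.leaf 38817)) (.node (.leaf 17834) (.leaf 0))) (.node (.node (.leaf 11097) (.leaf 0)) (.node (.leaf 25820) (.leaf 0))))))))

def pT8 : NT := .node (.node (.node (.node (.node (.node (.node (.node (.leaf 9) (.leaf 26130)) (.node (.leaf 11290) (.leaf 0))) (.node (.node (.leaf 5375) (.leaf 40164)) (.node (.leaf 18058) (.leaf 0)))) (.node (.node (.node (.leaf 2634) (.leaf 31243)) (.node (.leaf 14555) (.leaf 0))) (.node (.node (.leaf 8260) (.leaf 0)) (.node (.leaf 21838) (.leaf 0))))) (.node (.node (.node (.node (.leaf 1311) (.leaf 28525)) (.node (.leaf 12917) (.leaf 0))) (.node (.node (.leaf 6810) (.leaf 0)) (.node (.leaf 19878) (.leaf 0)))) (.node (.node (.node (.leaf 3994) (.leaf 34670)) (.node (.leaf 16287) (.leaf 0))) (.node (.node (.leaf 9765) (.leaf 0)) (.node (.leaf 23872) (.leaf 0)))))) (.node (.node (.node (.node (.node (.leaf 655) (.leaf 27337)) (.node (.leaf 12107) (.leaf 0))) (.node (.node (.leaf 6083) (.leaf 0)) (.node (.leaf 18992) (.leaf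 0)))) (.node (.node (.node (.leaf 3297) (.leaf 32840)) (.node (.leaf 15425) (.leaf 0))) (.node (.node (.leaf 9010) (.leaf 0)) (.node (.leaf 22852) (.leaf 0))))) (.node (.node (.node (.node (.leaf 1977) (.leaf 29849)) (.node (.leaf 13728) (.leaf 0))) (.node (.node (.leaf 7524) (.leaf 0)) (.node (.leaf 20857) (.leaf 0)))) (.node (.node (.node (.leaf 4690) (.leaf 36857)) (.node (.leaf 17164) (.leaf 0))) (.node (.node (.leaf 10512) (.leaf 0)) (.node (.leaf 24974) (.leaf 0))))))) (.node (.node (.node (.node (.node (.node (.leaf 331) (.leaf 26722)) (.node (.leaf 11689) (.leaf 0))) (.node (.node (.leaf 5731) (.leaf 0)) (.node (.leaf 18523) (.leaf 0)))) (.node (.node (.node (.leaf 2962) (.leaf 32059)) (.node (.leaf 14998) (.leaf 0))) (.node (.node (.leaf 8628) (.leaf 0)) (.node (.leaf 22352) (.leaf 0))))) (.node (.node (.node (.node (.leaf 1640) (.leaf 29202)) (.node (.leaf 13320) (.leaf 0))) (.node (.node (.leaf 7169) (.leaf 0)) (.node (.leaf 20372) (.leaf 0)))) (.node (.node (.node (.leaf 4345) (.leaf 35710))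 (.node (.leaf 16714) (.leaf 0))) (.node (.node (.leaf 10126) (.leaf 0)) (.node (.leaf 24413) (.leaf 0)))))) (.node (.node (.node (.node (.node (.leaf 983) (.leaf 27884)) (.node (.leaf 12512) (.leaf 0))) (.node (.node (.leaf 6455) (.leaf 0)) (.node (.leaf 19416) (.leaf 0)))) (.node (.node (.node (.leaf 3651) (.leaf 33696)) (.node (.leaf 15838) (.leaf 0))) (.node (.node (.leaf 9412) (.leaf 0)) (.node (.leaf 23365) (.leaf 0))))) (.node (.node (.node (.node (.leaf 2308) (.leaf 30535)) (.node (.leaf 14146) (.leaf 0))) (.node (.node (.leaf 7892) (.leaf 0)) (.node (.leaf 21343) (.leaf 0)))) (.node (.node (.node (.leaf 5028) (.leaf 38092)) (.node (.leaf 17612) (.leaf 0))) (.node (.node (.leaf 10910) (.leaf 0)) (.node (.leaf 25516) (.leaf 0)))))))) (.node (.node (.node (.node (.node (.node (.node (.leaf 170) (.leaf 26411)) (.node (.leaf 11476) (.leaf 0))) (.node (.node (.leaf 5558) (.leaf 0)) (.node (.leaf 18284) (.leaf 0)))) (.node (.node (.node (.leaf 2795) (.leaf 31622)) (.node (.leaf 14768) (.leaf 0))) (.node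 (.node (.leaf 8445) (.leaf 0)) (.node (.leaf 22084) (.leaf 0))))) (.node (.node (.node (.node (.leaf 1474) (.leaf 28870)) (.node (.leaf 13119) (.leaf 0))) (.node (.node (.leaf 6988) (.leaf 0)) (.node (.leaf 20114) (.leaf 0)))) (.node (.node (.node (.leaf 4172) (.leaf 35148)) (.node (.leaf 16486) (.leaf 0))) (.node (.node (.leaf 9951) (.leaf 0)) (.node (.leaf 24135) (.leaf 0)))))) (.node (.node (.node (.node (.node (.leaf 818) (.leaf 27613)) (.node (.leaf 12308) (.leaf 0))) (.node (.node (.leaf 6267) (.leaf 0)) (.node (.leaf 19198) (.leaf 0)))) (.node (.node (.node (.leaf 3480) (.leaf 33254)) (.node (.leaf 15630) (.leaf 0))) (.node (.node (.leaf 9207) (.leaf 0)) (.node (.leaf 23108) (.leaf 0))))) (.node (.node (.node (.node (.leaf 2142) (.leaf 30211)) (.node (.leaf 13944) (.leaf 0))) (.node (.node (.leaf 7708) (.leaf 0)) (.node (.leaf 21104) (.leaf 0)))) (.node (.node (.node (.leaf 4860) (.leaf 37374)) (.node (.leaf 17388) (.leaf 0))) (.node (.node (.leaf 10708) (.leaf 0)) (.node (.leaf 25242) (.leaf 0)))))))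 (.node (.node (.node (.node (.node (.node (.leaf 493) (.leaf 27032)) (.node (.leaf 11898) (.leaf 0))) (.node (.node (.leaf 5900) (.leaf 0)) (.node (.leaf 18772) (.leaf 0)))) (.node (.node (.node (.leaf 3127) (.leaf 32411)) (.node (.leaf 15214) (.leaf 0))) (.node (.node (.leaf 8819) (.leaf 0)) (.node (.leaf 22611) (.leaf 0))))) (.node (.node (.node (.node (.leaf 1806) (.leaf 29536)) (.node (.leaf 13531) (.leaf 0))) (.node (.node (.leaf 7344) (.leaf 0)) (.node (.leaf 20611) (.leaf 0)))) (.node (.node (.node (.leaf 4515) (.leaf 36222)) (.node (.leaf 16939) (.leaf 0))) (.node (.node (.leaf 10325) (.leaf 0)) (.node (.leaf 24704) (.leaf 0)))))) (.node (.node (.node (.node (.node (.leaf 1146) (.leaf 28211)) (.node (.leaf 12715) (.leaf 0))) (.node (.node (.leaf 6629) (.leaf 0)) (.node (.leaf 19640) (.leaf 0)))) (.node (.node (.node (.leaf 3819) (.leaf 34226)) (.node (.leaf 16070) (.leaf 0))) (.node (.node (.leaf 9591) (.leaf 0)) (.node (.leaf 23626) (.leaf 0))))) (.node (.node (.node (.node (.leaf 2472) (.leaf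 30900)) (.node (.leaf 14340) (.leaf 0))) (.node (.node (.leaf 8068) (.leaf 0)) (.node (.leaf 21593) (.leaf 0)))) (.node (.node (.node (.leaf 5206) (.leaf 38829)) (.node (.leaf 17836) (.leaf 0))) (.node (.node (.leaf 11098) (.leaf 0)) (.node (.leaf 25822) (.leaf 0))))))))

def pT9 : NT := .node (.node (.node (.node (.node (.node (.node (.node (.leaf 10) (.leaf 26132)) (.node (.leaf 11292) (.leaf 0))) (.node (.node (.leaf 5376) (.leaf 40169)) (.node (.leaf 18060) (.leaf 0)))) (.node (.node (.node (.leaf 2636) (.leaf 31248)) (.node (.leaf 14556) (.leaf 0))) (.node (.node (.leaf 8262) (.leaf 0)) (.node (.leaf 21841) (.leaf 0))))) (.node (.node (.node (.node (.leaf 1312) (.leaf 28526)) (.node (.leaf 12918) (.leaf 0))) (.node (.node (.leaf 6811) (.leaf 0)) (.node (.leaf 19880) (.leaf 0)))) (.node (.node (.node (.leaf 3995) (.leaf 34673)) (.node (.leaf 16288) (.leaf 0))) (.node (.node (.leaf 9766) (.leaf 0)) (.node (.leaf 23875) (.leaf 0)))))) (.node (.node (.node (.node (.node (.leaf 656) (.leaf 27339)) (.node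 (.leaf 12108) (.leaf 0))) (.node (.node (.leaf 6085) (.leaf 0)) (.node (.leaf 18995) (.leaf 0)))) (.node (.node (.node (.leaf 3298) (.leaf 32847)) (.node (.leaf 15426) (.leaf 0))) (.node (.node (.leaf 9013) (.leaf 0)) (.node (.leaf 22854) (.leaf 0))))) (.node (.node (.node (.node (.leaf 1978) (.leaf 29850)) (.node (.leaf 13730) (.leaf 0))) (.node (.node (.leaf 7525) (.leaf 0)) (.node (.leaf 20860) (.leaf 0)))) (.node (.node (.node (.leaf 4692) (.leaf 36864)) (.node (.leaf 17165) (.leaf 0))) (.node (.node (.leaf 10515) (.leaf 0)) (.node (.leaf 24975) (.leaf 0))))))) (.node (.node (.node (.node (.node (.node (.leaf 332) (.leaf 26723)) (.node (.leaf 11690) (.leaf 0))) (.node (.node (.leaf 5732) (.leaf 0)) (.node (.leaf 18524) (.leaf 0)))) (.node (.node (.node (.leaf 2963) (.leaf 32060)) (.node (.leaf 15000) (.leaf 0))) (.node (.node (.leaf 8630) (.leaf 0)) (.node (.leaf 22353) (.leaf 0))))) (.node (.node (.node (.node (.leaf 1641) (.leaf 29204)) (.node (.leaf 13321) (.leaf 0))) (.node (.node (.leaf 7170)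 (.leaf 0)) (.node (.leaf 20374) (.leaf 0)))) (.node (.node (.node (.leaf 4346) (.leaf 35716)) (.node (.leaf 16715) (.leaf 0))) (.node (.node (.leaf 10128) (.leaf 0)) (.node (.leaf 24414) (.leaf 0)))))) (.node (.node (.node (.node (.node (.leaf 984) (.leaf 27888)) (.node (.leaf 12514) (.leaf 0))) (.node (.node (.leaf 6456) (.leaf 0)) (.node (.leaf 19420) (.leaf 0)))) (.node (.node (.node (.leaf 3652) (.leaf 33704)) (.node (.leaf 15839) (.leaf 0))) (.node (.node (.leaf 9413) (.leaf 0)) (.node (.leaf 23367) (.leaf 0))))) (.node (.node (.node (.node (.leaf 2309) (.leaf 30540)) (.node (.leaf 14149) (.leaf 0))) (.node (.node (.leaf 7893) (.leaf 0)) (.node (.leaf 21344) (.leaf 0)))) (.node (.node (.node (.leaf 5030) (.leaf 38093)) (.node (.leaf 17614) (.leaf 0))) (.node (.node (.leaf 10913) (.leaf 0)) (.node (.leaf 25522) (.leaf 0)))))))) (.node (.node (.node (.node (.node (.node (.node (.leaf 172) (.leaf 26412)) (.node (.leaf 11477) (.leaf 0))) (.node (.node (.leaf 5559) (.leaf 0)) (.node (.leaf 18286) (.leaf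 0)))) (.node (.node (.node (.leaf 2797) (.leaf 31630)) (.node (.leaf 14769) (.leaf 0))) (.node (.node (.leaf 8448) (.leaf 0)) (.node (.leaf 22085) (.leaf 0))))) (.node (.node (.node (.node (.leaf 1475) (.leaf 28872)) (.node (.leaf 13120) (.leaf 0))) (.node (.node (.leaf 6990) (.leaf 0)) (.node (.leaf 20116) (.leaf 0)))) (.node (.node (.node (.leaf 4173) (.leaf 35151)) (.node (.leaf 16488) (.leaf 0))) (.node (.node (.leaf 9954) (.leaf 0)) (.node (.leaf 24136) (.leaf 0)))))) (.node (.node (.node (.node (.node (.leaf 819) (.leaf 27614)) (.node (.leaf 12310) (.leaf 0))) (.node (.node (.leaf 6268) (.leaf 0)) (.node (.leaf 19200) (.leaf 0)))) (.node (.node (.node (.leaf 3481) (.leaf 33257)) (.node (.leaf 15632) (.leaf 0))) (.node (.node (.leaf 9208) (.leaf 0)) (.node (.leaf 23110) (.leaf 0))))) (.node (.node (.node (.node (.leaf 2143) (.leaf 30212)) (.node (.leaf 13945) (.leaf 0))) (.node (.node (.leaf 7710) (.leaf 0)) (.node (.leaf 21106) (.leaf 0)))) (.node (.node (.node (.leaf 4862) (.leaf 37377)) (.node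 (.leaf 17389) (.leaf 0))) (.node (.node (.leaf 10710) (.leaf 0)) (.node (.leaf 25246) (.leaf 0))))))) (.node (.node (.node (.node (.node (.node (.leaf 494) (.leaf 27035)) (.node (.leaf 11899) (.leaf 0))) (.node (.node (.leaf 5901) (.leaf 0)) (.node (.leaf 18774) (.leaf 0)))) (.node (.node (.node (.leaf 3128) (.leaf 32412)) (.node (.leaf 15215) (.leaf 0))) (.node (.node (.leaf 8820) (.leaf 0)) (.node (.leaf 22612) (.leaf 0))))) (.node (.node (.node (.node (.leaf 1807) (.leaf 29538)) (.node (.leaf 13533) (.leaf 0))) (.node (.node (.leaf 7346) (.leaf 0)) (.node (.leaf 20612) (.leaf 0)))) (.node (.node (.node (.leaf 4516) (.leaf 36225)) (.node (.leaf 16940) (.leaf 0))) (.node (.node (.leaf 10326) (.leaf 0)) (.node (.leaf 24706) (.leaf 0)))))) (.node (.node (.node (.node (.node (.leaf 1147) (.leaf 28212)) (.node (.leaf 12716) (.leaf 0))) (.node (.node (.leaf 6630) (.leaf 0)) (.node (.leaf 19642) (.leaf 0)))) (.node (.node (.node (.leaf 3820) (.leaf 34228)) (.node (.leaf 16075) (.leaf 0))) (.node (.node (.leaf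 9592) (.leaf 0)) (.node (.leaf 23627) (.leaf 0))))) (.node (.node (.node (.node (.leaf 2473) (.leaf 30902)) (.node (.leaf 14342) (.leaf 0))) (.node (.node (.leaf 8069) (.leaf 0)) (.node (.leaf 21594) (.leaf 0)))) (.node (.node (.node (.leaf 5207) (.leaf 38832)) (.node (.leaf 17837) (.leaf 0))) (.node (.node (.leaf 11100) (.leaf 0)) (.node (.leaf 25823) (.leaf 0))))))))

def pT10 : NT := .node (.node (.node (.node (.node (.node (.node (.node (.leaf 12) (.leaf 26134)) (.node (.leaf 11293) (.leaf 0))) (.node (.node (.leaf 5378) (.leaf 40186)) (.node (.leaf 18061) (.leaf 0)))) (.node (.node (.node (.leaf 2637) (.leaf 31250)) (.node (.leaf 14560) (.leaf 0))) (.node (.node (.leaf 8263) (.leaf 0)) (.node (.leaf 21842) (.leaf 0))))) (.node (.node (.node (.node (.leaf 1314) (.leaf 28528)) (.node (.leaf 12920) (.leaf 0))) (.node (.node (.leaf 6813) (.leaf 0)) (.node (.leaf 19881) (.leaf 0)))) (.node (.node (.node (.leaf 3996) (.leaf 34677)) (.node (.leaf 16290) (.leaf 0))) (.node (.node (.leaf 9768) (.leaf 0)) (.node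 (.leaf 23880) (.leaf 0)))))) (.node (.node (.node (.node (.node (.leaf 659) (.leaf 27340)) (.node (.leaf 12110) (.leaf 0))) (.node (.node (.leaf 6086) (.leaf 0)) (.node (.leaf 18996) (.leaf 0)))) (.node (.node (.node (.leaf 3300) (.leaf 32848)) (.node (.leaf 15428) (.leaf 0))) (.node (.node (.leaf 9014) (.leaf 0)) (.node (.leaf 22855) (.leaf 0))))) (.node (.node (.node (.node (.leaf 1979) (.leaf 29851)) (.node (.leaf 13731) (.leaf 0))) (.node (.node (.leaf 7526) (.leaf 0)) (.node (.leaf 20861) (.leaf 0)))) (.node (.node (.node (.leaf 4693) (.leaf 36868)) (.node (.leaf 17168) (.leaf 0))) (.node (.node (.leaf 10516) (.leaf 0)) (.node (.leaf 24976) (.leaf 0))))))) (.node (.node (.node (.node (.node (.node (.leaf 333) (.leaf 26725)) (.node (.leaf 11692) (.leaf 0))) (.node (.node (.leaf 5733) (.leaf 0)) (.node (.leaf 18525) (.leaf 0)))) (.node (.node (.node (.leaf 2964) (.leaf 32061)) (.node (.leaf 15002) (.leaf 0))) (.node (.node (.leaf 8632) (.leaf 0)) (.node (.leaf 22354) (.leaf 0))))) (.node (.node (.node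 (.node (.leaf 1642) (.leaf 29206)) (.node (.leaf 13322) (.leaf 0))) (.node (.node (.leaf 7172) (.leaf 0)) (.node (.leaf 20375) (.leaf 0)))) (.node (.node (.node (.leaf 4348) (.leaf 35718)) (.node (.leaf 16717) (.leaf 0))) (.node (.node (.leaf 10129) (.leaf 0)) (.node (.leaf 24418) (.leaf 0)))))) (.node (.node (.node (.node (.node (.leaf 985) (.leaf 27890)) (.node (.leaf 12515) (.leaf 0))) (.node (.node (.leaf 6457) (.leaf 0)) (.node (.leaf 19422) (.leaf 0)))) (.node (.node (.node (.leaf 3653) (.leaf 33706)) (.node (.leaf 15840) (.leaf 0))) (.node (.node (.leaf 9414) (.leaf 0)) (.node (.leaf 23368) (.leaf 0))))) (.node (.node (.node (.node (.leaf 2310) (.leaf 30541)) (.node (.leaf 14152) (.leaf 0))) (.node (.node (.leaf 7894) (.leaf 0)) (.node (.leaf 21346) (.leaf 0)))) (.node (.node (.node (.leaf 5031) (.leaf 38101)) (.node (.leaf 17615) (.leaf 0))) (.node (.node (.leaf 10914) (.leaf 0)) (.node (.leaf 25524) (.leaf 0)))))))) (.node (.node (.node (.node (.node (.node (.node (.leaf 173) (.leaf 26413)) (.node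 (.leaf 11479) (.leaf 0))) (.node (.node (.leaf 5560) (.leaf 0)) (.node (.leaf 18287) (.leaf 0)))) (.node (.node (.node (.leaf 2801) (.leaf 31633)) (.node (.leaf 14770) (.leaf 0))) (.node (.node (.leaf 8449) (.leaf 0)) (.node (.leaf 22086) (.leaf 0))))) (.node (.node (.node (.node (.leaf 1476) (.leaf 28878)) (.node (.leaf 13122) (.leaf 0))) (.node (.node (.leaf 6991) (.leaf 0)) (.node (.leaf 20117) (.leaf 0)))) (.node (.node (.node (.leaf 4174) (.leaf 35156)) (.node (.leaf 16489) (.leaf 0))) (.node (.node (.leaf 9955) (.leaf 0)) (.node (.leaf 24137) (.leaf 0)))))) (.node (.node (.node (.node (.node (.leaf 820) (.leaf 27618)) (.node (.leaf 12311) (.leaf 0))) (.node (.node (.leaf 6270) (.leaf 0)) (.node (.leaf 19201) (.leaf 0)))) (.node (.node (.node (.leaf 3482) (.leaf 33258)) (.node (.leaf 15633) (.leaf 0))) (.node (.node (.leaf 9211) (.leaf 0)) (.node (.leaf 23113) (.leaf 0))))) (.node (.node (.node (.node (.leaf 2144) (.leaf 30213)) (.node (.leaf 13946) (.leaf 0))) (.node (.node (.leaf 7711) (.leaf 0))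 (.node (.leaf 21107) (.leaf 0)))) (.node (.node (.node (.leaf 4863) (.leaf 37387)) (.node (.leaf 17390) (.leaf 0))) (.node (.node (.leaf 10711) (.leaf 0)) (.node (.leaf 25248) (.leaf 0))))))) (.node (.node (.node (.node (.node (.node (.leaf 495) (.leaf 27039)) (.node (.leaf 11902) (.leaf 0))) (.node (.node (.leaf 5902) (.leaf 0)) (.node (.leaf 18776) (.leaf 0)))) (.node (.node (.node (.leaf 3130) (.leaf 32416)) (.node (.leaf 15216) (.leaf 0))) (.node (.node (.leaf 8823) (.leaf 0)) (.node (.leaf 22613) (.leaf 0))))) (.node (.node (.node (.node (.leaf 1808) (.leaf 29542)) (.node (.leaf 13534) (.leaf 0))) (.node (.node (.leaf 7347) (.leaf 0)) (.node (.leaf 20616) (.leaf 0)))) (.node (.node (.node (.leaf 4519) (.leaf 36231)) (.node (.leaf 16941) (.leaf 0))) (.node (.node (.leaf 10329) (.leaf 0)) (.node (.leaf 24709) (.leaf 0)))))) (.node (.node (.node (.node (.node (.leaf 1148) (.leaf 28214)) (.node (.leaf 12718) (.leaf 0))) (.node (.node (.leaf 6632) (.leaf 0)) (.node (.leaf 19643) (.leaf 0)))) (.node (.node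 (.node (.leaf 3822) (.leaf 34229)) (.node (.leaf 16078) (.leaf 0))) (.node (.node (.leaf 9593) (.leaf 0)) (.node (.leaf 23628) (.leaf 0))))) (.node (.node (.node (.node (.leaf 2476) (.leaf 30905)) (.node (.leaf 14343) (.leaf 0))) (.node (.node (.leaf 8070) (.leaf 0)) (.node (.leaf 21595) (.leaf 0)))) (.node (.node (.node (.leaf 5208) (.leaf 38833)) (.node (.leaf 17838) (.leaf 0))) (.node (.node (.leaf 11102) (.leaf 0)) (.node (.leaf 25824) (.leaf 0))))))))

def pT11 : NT := .node (.node (.node (.node (.node (.node (.node (.node (.leaf 14) (.leaf 26136)) (.node (.leaf 11294) (.leaf 0))) (.node (.node (.leaf 5379) (.leaf 40190)) (.node (.leaf 18062) (.leaf 0)))) (.node (.node (.node (.leaf 2638) (.leaf 31253)) (.node (.leaf 14563) (.leaf 0))) (.node (.node (.leaf 8264) (.leaf 0)) (.node (.leaf 21844) (.leaf 0))))) (.node (.node (.node (.node (.leaf 1315) (.leaf 28530)) (.node (.leaf 12921) (.leaf 0))) (.node (.node (.leaf 6814) (.leaf 0)) (.node (.leaf 19882) (.leaf 0)))) (.node (.node (.node (.leaf 3997)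 (.leaf 34678)) (.node (.leaf 16296) (.leaf 0))) (.node (.node (.leaf 9769) (.leaf 0)) (.node (.leaf 23884) (.leaf 0)))))) (.node (.node (.node (.node (.node (.leaf 660) (.leaf 27344)) (.node (.leaf 12112) (.leaf 0))) (.node (.node (.leaf 6088) (.leaf 0)) (.node (.leaf 18998) (.leaf 0)))) (.node (.node (.node (.leaf 3301) (.leaf 32850)) (.node (.leaf 15429) (.leaf 0))) (.node (.node (.leaf 9016) (.leaf 0)) (.node (.leaf 22856) (.leaf 0))))) (.node (.node (.node (.node (.leaf 1980) (.leaf 29854)) (.node (.leaf 13732) (.leaf 0))) (.node (.node (.leaf 7528) (.leaf 0)) (.node (.leaf 20862) (.leaf 0)))) (.node (.node (.node (.leaf 4694) (.leaf 36870)) (.node (.leaf 17170) (.leaf 0))) (.node (.node (.leaf 10518) (.leaf 0)) (.node (.leaf 24980) (.leaf 0))))))) (.node (.node (.node (.node (.node (.node (.leaf 334) (.leaf 26726)) (.node (.leaf 11693) (.leaf 0))) (.node (.node (.leaf 5734) (.leaf 0)) (.node (.leaf 18526) (.leaf 0)))) (.node (.node (.node (.leaf 2967) (.leaf 32062)) (.node (.leaf 15004) (.leaf 0)))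 (.node (.node (.leaf 8633) (.leaf 0)) (.node (.leaf 22356) (.leaf 0))))) (.node (.node (.node (.node (.leaf 1644) (.leaf 29207)) (.node (.leaf 13324) (.leaf 0))) (.node (.node (.leaf 7174) (.leaf 0)) (.node (.leaf 20378) (.leaf 0)))) (.node (.node (.node (.leaf 4349) (.leaf 35724)) (.node (.leaf 16718) (.leaf 0))) (.node (.node (.leaf 10131) (.leaf 0)) (.node (.leaf 24420) (.leaf 0)))))) (.node (.node (.node (.node (.node (.leaf 986) (.leaf 27893)) (.node (.leaf 12516) (.leaf 0))) (.node (.node (.leaf 6458) (.leaf 0)) (.node (.leaf 19425) (.leaf 0)))) (.node (.node (.node (.leaf 3655) (.leaf 33710)) (.node (.leaf 15843) (.leaf 0))) (.node (.node (.leaf 9416) (.leaf 0)) (.node (.leaf 23372) (.leaf 0))))) (.node (.node (.node (.node (.leaf 2311) (.leaf 30543)) (.node (.leaf 14153) (.leaf 0))) (.node (.node (.leaf 7895) (.leaf 0)) (.node (.leaf 21347) (.leaf 0)))) (.node (.node (.node (.leaf 5032) (.leaf 38105)) (.node (.leaf 17616) (.leaf 0))) (.node (.node (.leaf 10915) (.leaf 0)) (.node (.leaf 25525) (.leaf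 0)))))))) (.node (.node (.node (.node (.node (.node (.node (.leaf 174) (.leaf 26414)) (.node (.leaf 11480) (.leaf 0))) (.node (.node (.leaf 5562) (.leaf 0)) (.node (.leaf 18288) (.leaf 0)))) (.node (.node (.node (.leaf 2802) (.leaf 31638)) (.node (.leaf 14772) (.leaf 0))) (.node (.node (.leaf 8450) (.leaf 0)) (.node (.leaf 22090) (.leaf 0))))) (.node (.node (.node (.node (.leaf 1478) (.leaf 28880)) (.node (.leaf 13124) (.leaf 0))) (.node (.node (.leaf 6992) (.leaf 0)) (.node (.leaf 20118) (.leaf 0)))) (.node (.node (.node (.leaf 4176) (.leaf 35164)) (.node (.leaf 16490) (.leaf 0))) (.node (.node (.leaf 9956) (.leaf 0)) (.node (.leaf 24138) (.leaf 0)))))) (.node (.node (.node (.node (.node (.leaf 822) (.leaf 27621)) (.node (.leaf 12312) (.leaf 0))) (.node (.node (.leaf 6274) (.leaf 0)) (.node (.leaf 19202) (.leaf 0)))) (.node (.node (.node (.leaf 3485) (.leaf 33260)) (.node (.leaf 15634) (.leaf 0))) (.node (.node (.leaf 9212) (.leaf 0)) (.node (.leaf 23114) (.leaf 0))))) (.node (.node (.node (.node (.leaf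 2146) (.leaf 30214)) (.node (.leaf 13948) (.leaf 0))) (.node (.node (.leaf 7712) (.leaf 0)) (.node (.leaf 21108) (.leaf 0)))) (.node (.node (.node (.leaf 4864) (.leaf 37391)) (.node (.leaf 17394) (.leaf 0))) (.node (.node (.leaf 10712) (.leaf 0)) (.node (.leaf 25249) (.leaf 0))))))) (.node (.node (.node (.node (.node (.node (.leaf 496) (.leaf 27042)) (.node (.leaf 11903) (.leaf 0))) (.node (.node (.leaf 5903) (.leaf 0)) (.node (.leaf 18778) (.leaf 0)))) (.node (.node (.node (.leaf 3131) (.leaf 32426)) (.node (.leaf 15218) (.leaf 0))) (.node (.node (.leaf 8824) (.leaf 0)) (.node (.leaf 22614) (.leaf 0))))) (.node (.node (.node (.node (.leaf 1809) (.leaf 29544)) (.node (.leaf 13537) (.leaf 0))) (.node (.node (.leaf 7348) (.leaf 0)) (.node (.leaf 20618) (.leaf 0)))) (.node (.node (.node (.leaf 4523) (.leaf 36232)) (.node (.leaf 16942) (.leaf 0))) (.node (.node (.leaf 10333) (.leaf 0)) (.node (.leaf 24710) (.leaf 0)))))) (.node (.node (.node (.node (.node (.leaf 1149) (.leaf 28219)) (.node (.leaf 12720) (.leaf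 0))) (.node (.node (.leaf 6633) (.leaf 0)) (.node (.leaf 19644) (.leaf 0)))) (.node (.node (.node (.leaf 3823) (.leaf 34230)) (.node (.leaf 16082) (.leaf 0))) (.node (.node (.leaf 9594) (.leaf 0)) (.node (.leaf 23633) (.leaf 0))))) (.node (.node (.node (.node (.leaf 2477) (.leaf 30909)) (.node (.leaf 14344) (.leaf 0))) (.node (.node (.leaf 8075) (.leaf 0)) (.node (.leaf 21597) (.leaf 0)))) (.node (.node (.node (.leaf 5209) (.leaf 38848)) (.node (.leaf 17839) (.leaf 0))) (.node (.node (.leaf 11103) (.leaf 0)) (.node (.leaf 25827) (.leaf 0))))))))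

def pT12 : NT := .node (.node (.node (.node (.node (.node (.node (.node (.leaf 15) (.leaf 26137)) (.node (.leaf 11298) (.leaf 0))) (.node (.node (.leaf 5380) (.leaf 40206)) (.node (.leaf 18064) (.leaf 0)))) (.node (.node (.node (.leaf 2639) (.leaf 31263)) (.node (.leaf 14566) (.leaf 0))) (.node (.node (.leaf 8266) (.leaf 0)) (.node (.leaf 21847) (.leaf 0))))) (.node (.node (.node (.node (.leaf 1316) (.leaf 28532)) (.node (.leaf 12922) (.leaf 0))) (.node (.node (.leaf 6818) (.leaf 0)) (.node (.leaf 19885) (.leaf 0)))) (.node (.node (.node (.leaf 3998) (.leaf 34679)) (.node (.leaf 16297) (.leaf 0))) (.node (.node (.leaf 9770) (.leaf 0)) (.node (.leaf 23886) (.leaf 0)))))) (.node (.node (.node (.node (.node (.leaf 662) (.leaf 27345)) (.node (.leaf 12113) (.leaf 0))) (.node (.node (.leaf 6089) (.leaf 0)) (.node (.leaf 18999) (.leaf 0)))) (.node (.node (.node (.leaf 3302) (.leaf 32858)) (.node (.leaf 15430) (.leaf 0))) (.node (.node (.leaf 9017) (.leaf 0)) (.node (.leaf 22858) (.leaf 0))))) (.node (.node (.node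 (.node (.leaf 1983) (.leaf 29857)) (.node (.leaf 13733) (.leaf 0))) (.node (.node (.leaf 7529) (.leaf 0)) (.node (.leaf 20864) (.leaf 0)))) (.node (.node (.node (.leaf 4695) (.leaf 36872)) (.node (.leaf 17172) (.leaf 0))) (.node (.node (.leaf 10519) (.leaf 0)) (.node (.leaf 24983) (.leaf 0))))))) (.node (.node (.node (.node (.node (.node (.leaf 336) (.leaf 26729)) (.node (.leaf 11697) (.leaf 0))) (.node (.node (.leaf 5737) (.leaf 0)) (.node (.leaf 18528) (.leaf 0)))) (.node (.node (.node (.leaf 2968) (.leaf 32064)) (.node (.leaf 15006) (.leaf 0))) (.node (.node (.leaf 8634) (.leaf 0)) (.node (.leaf 22357) (.leaf 0))))) (.node (.node (.node (.node (.leaf 1645) (.leaf 29214)) (.node (.leaf 13326) (.leaf 0))) (.node (.node (.leaf 7175) (.leaf 0)) (.node (.leaf 20380) (.leaf 0)))) (.node (.node (.node (.leaf 4350) (.leaf 35725)) (.node (.leaf 16720) (.leaf 0))) (.node (.node (.leaf 10133) (.leaf 0)) (.node (.leaf 24422) (.leaf 0)))))) (.node (.node (.node (.node (.node (.leaf 988) (.leaf 27894)) (.node (.leaf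 12518) (.leaf 0))) (.node (.node (.leaf 6460) (.leaf 0)) (.node (.leaf 19426) (.leaf 0)))) (.node (.node (.node (.leaf 3656) (.leaf 33711)) (.node (.leaf 15844) (.leaf 0))) (.node (.node (.leaf 9417) (.leaf 0)) (.node (.leaf 23373) (.leaf 0))))) (.node (.node (.node (.node (.leaf 2312) (.leaf 30544)) (.node (.leaf 14154) (.leaf 0))) (.node (.node (.leaf 7896) (.leaf 0)) (.node (.leaf 21348) (.leaf 0)))) (.node (.node (.node (.leaf 5034) (.leaf 38106)) (.node (.leaf 17620) (.leaf 0))) (.node (.node (.leaf 10916) (.leaf 0)) (.node (.leaf 25526) (.leaf 0)))))))) (.node (.node (.node (.node (.node (.node (.node (.leaf 176) (.leaf 26415)) (.node (.leaf 11482) (.leaf 0))) (.node (.node (.leaf 5564) (.leaf 0)) (.node (.leaf 18289) (.leaf 0)))) (.node (.node (.node (.leaf 2804) (.leaf 31641)) (.node (.leaf 14774) (.leaf 0))) (.node (.node (.leaf 8451) (.leaf 0)) (.node (.leaf 22092) (.leaf 0))))) (.node (.node (.node (.node (.leaf 1479) (.leaf 28885)) (.node (.leaf 13125) (.leaf 0))) (.node (.node (.leaf 6993)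 (.leaf 0)) (.node (.leaf 20120) (.leaf 0)))) (.node (.node (.node (.leaf 4177) (.leaf 35179)) (.node (.leaf 16492) (.leaf 0))) (.node (.node (.leaf 9957) (.leaf 0)) (.node (.leaf 24141) (.leaf 0)))))) (.node (.node (.node (.node (.node (.leaf 823) (.leaf 27622)) (.node (.leaf 12314) (.leaf 0))) (.node (.node (.leaf 6275) (.leaf 0)) (.node (.leaf 19204) (.leaf 0)))) (.node (.node (.node (.leaf 3486) (.leaf 33262)) (.node (.leaf 15635) (.leaf 0))) (.node (.node (.leaf 9215) (.leaf 0)) (.node (.leaf 23115) (.leaf 0))))) (.node (.node (.node (.node (.leaf 2147) (.leaf 30219)) (.node (.leaf 13951) (.leaf 0))) (.node (.node (.leaf 7714) (.leaf 0)) (.node (.leaf 21109) (.leaf 0)))) (.node (.node (.node (.leaf 4865) (.leaf 37395)) (.node (.leaf 17400) (.leaf 0))) (.node (.node (.leaf 10714) (.leaf 0)) (.node (.leaf 25250) (.leaf 0))))))) (.node (.node (.node (.node (.node (.node (.leaf 498) (.leaf 27044)) (.node (.leaf 11904) (.leaf 0))) (.node (.node (.leaf 5904) (.leaf 0)) (.node (.leaf 18779) (.leaf 0)))) (.node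 (.node (.node (.leaf 3132) (.leaf 32427)) (.node (.leaf 15220) (.leaf 0))) (.node (.node (.leaf 8827) (.leaf 0)) (.node (.leaf 22615) (.leaf 0))))) (.node (.node (.node (.node (.leaf 1810) (.leaf 29546)) (.node (.leaf 13538) (.leaf 0))) (.node (.node (.leaf 7351) (.leaf 0)) (.node (.leaf 20619) (.leaf 0)))) (.node (.node (.node (.leaf 4524) (.leaf 36234)) (.node (.leaf 16944) (.leaf 0))) (.node (.node (.leaf 10334) (.leaf 0)) (.node (.leaf 24711) (.leaf 0)))))) (.node (.node (.node (.node (.node (.leaf 1150) (.leaf 28220)) (.node (.leaf 12721) (.leaf 0))) (.node (.node (.leaf 6634) (.leaf 0)) (.node (.leaf 19646) (.leaf 0)))) (.node (.node (.node (.leaf 3824) (.leaf 34232)) (.node (.leaf 16083) (.leaf 0))) (.node (.node (.leaf 9596) (.leaf 0)) (.node (.leaf 23634) (.leaf 0))))) (.node (.node (.node (.node (.leaf 2478) (.leaf 30910)) (.node (.leaf 14346) (.leaf 0))) (.node (.node (.leaf 8076) (.leaf 0)) (.node (.leaf 21598) (.leaf 0)))) (.node (.node (.node (.leaf 5210) (.leaf 38861)) (.node (.leaf 17840)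 (.leaf 0))) (.node (.node (.leaf 11104) (.leaf 0)) (.node (.leaf 25830) (.leaf 0))))))))

def pT13 : NT := .node (.node (.node (.node (.node (.node (.node (.node (.leaf 16) (.leaf 26142)) (.node (.leaf 11299) (.leaf 0))) (.node (.node (.leaf 5383) (.leaf 40243)) (.node (.leaf 18065) (.leaf 0)))) (.node (.node (.node (.leaf 2640) (.leaf 31266)) (.node (.leaf 14568) (.leaf 0))) (.node (.node (.leaf 8267) (.leaf 0)) (.node (.leaf 21848) (.leaf 0))))) (.node (.node (.node (.node (.leaf 1317) (.leaf 28538)) (.node (.leaf 12923) (.leaf 0))) (.node (.node (.leaf 6820) (.leaf 0)) (.node (.leaf 19886) (.leaf 0)))) (.node (.node (.node (.leaf 4000) (.leaf 34684)) (.node (.leaf 16298) (.leaf 0))) (.node (.node (.leaf 9771) (.leaf 0)) (.node (.leaf 23889) (.leaf 0)))))) (.node (.node (.node (.node (.node (.leaf 663) (.leaf 27348)) (.node (.leaf 12114) (.leaf 0))) (.node (.node (.leaf 6090) (.leaf 0)) (.node (.leaf 19000) (.leaf 0)))) (.node (.node (.node (.leaf 3303) (.leaf 32862)) (.node (.leaf 15432) (.leaf 0)))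 (.node (.node (.leaf 9018) (.leaf 0)) (.node (.leaf 22859) (.leaf 0))))) (.node (.node (.node (.node (.leaf 1984) (.leaf 29859)) (.node (.leaf 13734) (.leaf 0))) (.node (.node (.leaf 7531) (.leaf 0)) (.node (.leaf 20865) (.leaf 0)))) (.node (.node (.node (.leaf 4696) (.leaf 36875)) (.node (.leaf 17173) (.leaf 0))) (.node (.node (.leaf 10520) (.leaf 0)) (.node (.leaf 24986) (.leaf 0))))))) (.node (.node (.node (.node (.node (.node (.leaf 337) (.leaf 26730)) (.node (.leaf 11698) (.leaf 0))) (.node (.node (.leaf 5738) (.leaf 0)) (.node (.leaf 18529) (.leaf 0)))) (.node (.node (.node (.leaf 2970) (.leaf 32067)) (.node (.leaf 15011) (.leaf 0))) (.node (.node (.leaf 8637) (.leaf 0)) (.node (.leaf 22358) (.leaf 0))))) (.node (.node (.node (.node (.leaf 1646) (.leaf 29216)) (.node (.leaf 13328) (.leaf 0))) (.node (.node (.leaf 7176) (.leaf 0)) (.node (.leaf 20382) (.leaf 0)))) (.node (.node (.node (.leaf 4351) (.leaf 35727)) (.node (.leaf 16721) (.leaf 0))) (.node (.node (.leaf 10134) (.leaf 0)) (.node (.leaf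 24424) (.leaf 0)))))) (.node (.node (.node (.node (.node (.leaf 989) (.leaf 27897)) (.node (.leaf 12520) (.leaf 0))) (.node (.node (.leaf 6461) (.leaf 0)) (.node (.leaf 19429) (.leaf 0)))) (.node (.node (.node (.leaf 3658) (.leaf 33714)) (.node (.leaf 15847) (.leaf 0))) (.node (.node (.leaf 9418) (.leaf 0)) (.node (.leaf 23374) (.leaf 0))))) (.node (.node (.node (.node (.leaf 2314) (.leaf 30546)) (.node (.leaf 14155) (.leaf 0))) (.node (.node (.leaf 7898) (.leaf 0)) (.node (.leaf 21350) (.leaf 0)))) (.node (.node (.node (.leaf 5035) (.leaf 38109)) (.node (.leaf 17622) (.leaf 0))) (.node (.node (.leaf 10918) (.leaf 0)) (.node (.leaf 25534) (.leaf 0)))))))) (.node (.node (.node (.node (.node (.node (.node (.leaf 177) (.leaf 26416)) (.node (.leaf 11483) (.leaf 0))) (.node (.node (.leaf 5565) (.leaf 0)) (.node (.leaf 18290) (.leaf 0)))) (.node (.node (.node (.leaf 2805) (.leaf 31646)) (.node (.leaf 14776) (.leaf 0))) (.node (.node (.leaf 8452) (.leaf 0)) (.node (.leaf 22096) (.leaf 0))))) (.node (.node (.node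 (.node (.leaf 1480) (.leaf 28888)) (.node (.leaf 13126) (.leaf 0))) (.node (.node (.leaf 6994) (.leaf 0)) (.node (.leaf 20122) (.leaf 0)))) (.node (.node (.node (.leaf 4178) (.leaf 35180)) (.node (.leaf 16493) (.leaf 0))) (.node (.node (.leaf 9958) (.leaf 0)) (.node (.leaf 24144) (.leaf 0)))))) (.node (.node (.node (.node (.node (.leaf 824) (.leaf 27623)) (.node (.leaf 12316) (.leaf 0))) (.node (.node (.leaf 6277) (.leaf 0)) (.node (.leaf 19205) (.leaf 0)))) (.node (.node (.node (.leaf 3488) (.leaf 33265)) (.node (.leaf 15636) (.leaf 0))) (.node (.node (.leaf 9216) (.leaf 0)) (.node (.leaf 23116) (.leaf 0))))) (.node (.node (.node (.node (.leaf 2148) (.leaf 30221)) (.node (.leaf 13952) (.leaf 0))) (.node (.node (.leaf 7716) (.leaf 0)) (.node (.leaf 21112) (.leaf 0)))) (.node (.node (.node (.leaf 4866) (.leaf 37396)) (.node (.leaf 17402) (.leaf 0))) (.node (.node (.leaf 10718) (.leaf 0)) (.node (.leaf 25252) (.leaf 0))))))) (.node (.node (.node (.node (.node (.node (.leaf 499) (.leaf 27046)) (.node (.leaf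 11907) (.leaf 0))) (.node (.node (.leaf 5906) (.leaf 0)) (.node (.leaf 18780) (.leaf 0)))) (.node (.node (.node (.leaf 3133) (.leaf 32432)) (.node (.leaf 15222) (.leaf 0))) (.node (.node (.leaf 8828) (.leaf 0)) (.node (.leaf 22616) (.leaf 0))))) (.node (.node (.node (.node (.leaf 1813) (.leaf 29548)) (.node (.leaf 13540) (.leaf 0))) (.node (.node (.leaf 7352) (.leaf 0)) (.node (.leaf 20620) (.leaf 0)))) (.node (.node (.node (.leaf 4525) (.leaf 36244)) (.node (.leaf 16946) (.leaf 0))) (.node (.node (.leaf 10335) (.leaf 0)) (.node (.leaf 24714) (.leaf 0)))))) (.node (.node (.node (.node (.node (.leaf 1152) (.leaf 28222)) (.node (.leaf 12722) (.leaf 0))) (.node (.node (.leaf 6635) (.leaf 0)) (.node (.leaf 19648) (.leaf 0)))) (.node (.node (.node (.leaf 3825) (.leaf 34235)) (.node (.leaf 16084) (.leaf 0))) (.node (.node (.leaf 9597) (.leaf 0)) (.node (.leaf 23639) (.leaf 0))))) (.node (.node (.node (.node (.leaf 2480) (.leaf 30912)) (.node (.leaf 14347) (.leaf 0))) (.node (.node (.leaf 8078) (.leaf 0)) (.node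 (.leaf 21600) (.leaf 0)))) (.node (.node (.node (.leaf 5212) (.leaf 38862)) (.node (.leaf 17841) (.leaf 0))) (.node (.node (.leaf 11106) (.leaf 0)) (.node (.leaf 25834) (.leaf 0))))))))

def pT14 : NT := .node (.node (.node (.node (.node (.node (.node (.node (.leaf 18) (.leaf 26143)) (.node (.leaf 11300) (.leaf 0))) (.node (.node (.leaf 5384) (.leaf 40295)) (.node (.leaf 18066) (.leaf 0)))) (.node (.node (.node (.leaf 2643) (.leaf 31268)) (.node (.leaf 14569) (.leaf 0))) (.node (.node (.leaf 8268) (.leaf 0)) (.node (.leaf 21849) (.leaf 0))))) (.node (.node (.node (.node (.leaf 1318) (.leaf 28539)) (.node (.leaf 12924) (.leaf 0))) (.node (.node (.leaf 6821) (.leaf 0)) (.node (.leaf 19887) (.leaf 0)))) (.node (.node (.node (.leaf 4002) (.leaf 34690)) (.node (.leaf 16300) (.leaf 0))) (.node (.node (.leaf 9773) (.leaf 0)) (.node (.leaf 23892) (.leaf 0)))))) (.node (.node (.node (.node (.node (.leaf 664) (.leaf 27350)) (.node (.leaf 12116) (.leaf 0))) (.node (.node (.leaf 6092) (.leaf 0)) (.node (.leaf 19002)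 (.leaf 0)))) (.node (.node (.node (.leaf 3304) (.leaf 32864)) (.node (.leaf 15433) (.leaf 0))) (.node (.node (.leaf 9020) (.leaf 0)) (.node (.leaf 22862) (.leaf 0))))) (.node (.node (.node (.node (.leaf 1985) (.leaf 29862)) (.node (.leaf 13735) (.leaf 0))) (.node (.node (.leaf 7532) (.leaf 0)) (.node (.leaf 20866) (.leaf 0)))) (.node (.node (.node (.leaf 4698) (.leaf 36884)) (.node (.leaf 17174) (.leaf 0))) (.node (.node (.leaf 10522) (.leaf 0)) (.node (.leaf 24989) (.leaf 0))))))) (.node (.node (.node (.node (.node (.node (.leaf 338) (.leaf 26734)) (.node (.leaf 11700) (.leaf 0))) (.node (.node (.leaf 5740) (.leaf 0)) (.node (.leaf 18533) (.leaf 0)))) (.node (.node (.node (.leaf 2971) (.leaf 32068)) (.node (.leaf 15012) (.leaf 0))) (.node (.node (.leaf 8638) (.leaf 0)) (.node (.leaf 22362) (.leaf 0))))) (.node (.node (.node (.node (.leaf 1648) (.leaf 29218)) (.node (.leaf 13329) (.leaf 0))) (.node (.node (.leaf 7177) (.leaf 0)) (.node (.leaf 20385) (.leaf 0)))) (.node (.node (.node (.leaf 4352) (.leaf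 35728)) (.node (.leaf 16722) (.leaf 0))) (.node (.node (.leaf 10136) (.leaf 0)) (.node (.leaf 24425) (.leaf 0)))))) (.node (.node (.node (.node (.node (.leaf 990) (.leaf 27898)) (.node (.leaf 12521) (.leaf 0))) (.node (.node (.leaf 6462) (.leaf 0)) (.node (.leaf 19430) (.leaf 0)))) (.node (.node (.node (.leaf 3659) (.leaf 33718)) (.node (.leaf 15848) (.leaf 0))) (.node (.node (.leaf 9420) (.leaf 0)) (.node (.leaf 23376) (.leaf 0))))) (.node (.node (.node (.node (.leaf 2315) (.leaf 30548)) (.node (.leaf 14158) (.leaf 0))) (.node (.node (.leaf 7899) (.leaf 0)) (.node (.leaf 21353) (.leaf 0)))) (.node (.node (.node (.leaf 5037) (.leaf 38110)) (.node (.leaf 17623) (.leaf 0))) (.node (.node (.leaf 10919) (.leaf 0)) (.node (.leaf 25536) (.leaf 0)))))))) (.node (.node (.node (.node (.node (.node (.node (.leaf 178) (.leaf 26418)) (.node (.leaf 11484) (.leaf 0))) (.node (.node (.leaf 5566) (.leaf 0)) (.node (.leaf 18292) (.leaf 0)))) (.node (.node (.node (.leaf 2806) (.leaf 31648)) (.node (.leaf 14782) (.leaf 0)))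 (.node (.node (.leaf 8454) (.leaf 0)) (.node (.leaf 22097) (.leaf 0))))) (.node (.node (.node (.node (.leaf 1481) (.leaf 28892)) (.node (.leaf 13127) (.leaf 0))) (.node (.node (.leaf 6997) (.leaf 0)) (.node (.leaf 20124) (.leaf 0)))) (.node (.node (.node (.leaf 4179) (.leaf 35188)) (.node (.leaf 16498) (.leaf 0))) (.node (.node (.leaf 9961) (.leaf 0)) (.node (.leaf 24146) (.leaf 0)))))) (.node (.node (.node (.node (.node (.leaf 825) (.leaf 27626)) (.node (.leaf 12317) (.leaf 0))) (.node (.node (.leaf 6278) (.leaf 0)) (.node (.leaf 19206) (.leaf 0)))) (.node (.node (.node (.leaf 3489) (.leaf 33267)) (.node (.leaf 15639) (.leaf 0))) (.node (.node (.leaf 9218) (.leaf 0)) (.node (.leaf 23119) (.leaf 0))))) (.node (.node (.node (.node (.leaf 2149) (.leaf 30222)) (.node (.leaf 13955) (.leaf 0))) (.node (.node (.leaf 7718) (.leaf 0)) (.node (.leaf 21113) (.leaf 0)))) (.node (.node (.node (.leaf 4868) (.leaf 37404)) (.node (.leaf 17404) (.leaf 0))) (.node (.node (.leaf 10720) (.leaf 0)) (.node (.leaf 25255) (.leaf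 0))))))) (.node (.node (.node (.node (.node (.node (.leaf 500) (.leaf 27048)) (.node (.leaf 11908) (.leaf 0))) (.node (.node (.leaf 5907) (.leaf 0)) (.node (.leaf 18782) (.leaf 0)))) (.node (.node (.node (.leaf 3134) (.leaf 32433)) (.node (.leaf 15225) (.leaf 0))) (.node (.node (.leaf 8829) (.leaf 0)) (.node (.leaf 22618) (.leaf 0))))) (.node (.node (.node (.node (.leaf 1814) (.leaf 29549)) (.node (.leaf 13542) (.leaf 0))) (.node (.node (.leaf 7354) (.leaf 0)) (.node (.leaf 20622) (.leaf 0)))) (.node (.node (.node (.leaf 4526) (.leaf 36246)) (.node (.leaf 16948) (.leaf 0))) (.node (.node (.leaf 10336) (.leaf 0)) (.node (.leaf 24715) (.leaf 0)))))) (.node (.node (.node (.node (.node (.leaf 1153) (.leaf 28224)) (.node (.leaf 12723) (.leaf 0))) (.node (.node (.leaf 6636) (.leaf 0)) (.node (.leaf 19649) (.leaf 0)))) (.node (.node (.node (.leaf 3826) (.leaf 34237)) (.node (.leaf 16086) (.leaf 0))) (.node (.node (.leaf 9598) (.leaf 0)) (.node (.leaf 23640) (.leaf 0))))) (.node (.node (.node (.node (.leaf 2481)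 (.leaf 30914)) (.node (.leaf 14349) (.leaf 0))) (.node (.node (.leaf 8079) (.leaf 0)) (.node (.leaf 21601) (.leaf 0)))) (.node (.node (.node (.leaf 5213) (.leaf 38863)) (.node (.leaf 17844) (.leaf 0))) (.node (.node (.leaf 11108) (.leaf 0)) (.node (.leaf 25835) (.leaf 0))))))))

def pT15 : NT := .node (.node (.node (.node (.node (.node (.node (.node (.leaf 19) (.leaf 26145)) (.node (.leaf 11301) (.leaf 0))) (.node (.node (.leaf 5386) (.leaf 40310)) (.node (.leaf 18068) (.leaf 0)))) (.node (.node (.node (.leaf 2644) (.leaf 31272)) (.node (.leaf 14570) (.leaf 0))) (.node (.node (.leaf 8269) (.leaf 0)) (.node (.leaf 21850) (.leaf 0))))) (.node (.node (.node (.node (.leaf 1320) (.leaf 28540)) (.node (.leaf 12926) (.leaf 0))) (.node (.node (.leaf 6822) (.leaf 0)) (.node (.leaf 19888) (.leaf 0)))) (.node (.node (.node (.leaf 4004) (.leaf 34691)) (.node (.leaf 16301) (.leaf 0))) (.node (.node (.leaf 9774) (.leaf 0)) (.node (.leaf 23893) (.leaf 0)))))) (.node (.node (.node (.node (.node (.leaf 665) (.leaf 27356))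 (.node (.leaf 12117) (.leaf 0))) (.node (.node (.leaf 6093) (.leaf 0)) (.node (.leaf 19003) (.leaf 0)))) (.node (.node (.node (.leaf 3308) (.leaf 32865)) (.node (.leaf 15434) (.leaf 0))) (.node (.node (.leaf 9021) (.leaf 0)) (.node (.leaf 22864) (.leaf 0))))) (.node (.node (.node (.node (.leaf 1986) (.leaf 29863)) (.node (.leaf 13736) (.leaf 0))) (.node (.node (.leaf 7533) (.leaf 0)) (.node (.leaf 20869) (.leaf 0)))) (.node (.node (.node (.leaf 4699) (.leaf 36886)) (.node (.leaf 17176) (.leaf 0))) (.node (.node (.leaf 10523) (.leaf 0)) (.node (.leaf 24992) (.leaf 0))))))) (.node (.node (.node (.node (.node (.node (.leaf 340) (.leaf 26736)) (.node (.leaf 11703) (.leaf 0))) (.node (.node (.leaf 5741) (.leaf 0)) (.node (.leaf 18536) (.leaf 0)))) (.node (.node (.node (.leaf 2972) (.leaf 32073)) (.node (.leaf 15014) (.leaf 0))) (.node (.node (.leaf 8639) (.leaf 0)) (.node (.leaf 22363) (.leaf 0))))) (.node (.node (.node (.node (.leaf 1650) (.leaf 29222)) (.node (.leaf 13330) (.leaf 0))) (.node (.node (.leaf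 7178) (.leaf 0)) (.node (.leaf 20386) (.leaf 0)))) (.node (.node (.node (.leaf 4354) (.leaf 35729)) (.node (.leaf 16726) (.leaf 0))) (.node (.node (.leaf 10137) (.leaf 0)) (.node (.leaf 24426) (.leaf 0)))))) (.node (.node (.node (.node (.node (.leaf 992) (.leaf 27899)) (.node (.leaf 12522) (.leaf 0))) (.node (.node (.leaf 6464) (.leaf 0)) (.node (.leaf 19432) (.leaf 0)))) (.node (.node (.node (.leaf 3660) (.leaf 33719)) (.node (.leaf 15849) (.leaf 0))) (.node (.node (.leaf 9421) (.leaf 0)) (.node (.leaf 23380) (.leaf 0))))) (.node (.node (.node (.node (.leaf 2316) (.leaf 30550)) (.node (.leaf 14159) (.leaf 0))) (.node (.node (.leaf 7900) (.leaf 0)) (.node (.leaf 21354) (.leaf 0)))) (.node (.node (.node (.leaf 5038) (.leaf 38112)) (.node (.leaf 17628) (.leaf 0))) (.node (.node (.leaf 10920) (.leaf 0)) (.node (.leaf 25538) (.leaf 0)))))))) (.node (.node (.node (.node (.node (.node (.node (.leaf 179) (.leaf 26419)) (.node (.leaf 11486) (.leaf 0))) (.node (.node (.leaf 5568) (.leaf 0)) (.node (.leaf 18293)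 (.leaf 0)))) (.node (.node (.node (.leaf 2807) (.leaf 31650)) (.node (.leaf 14784) (.leaf 0))) (.node (.node (.leaf 8455) (.leaf 0)) (.node (.leaf 22098) (.leaf 0))))) (.node (.node (.node (.node (.leaf 1482) (.leaf 28893)) (.node (.leaf 13128) (.leaf 0))) (.node (.node (.leaf 6998) (.leaf 0)) (.node (.leaf 20126) (.leaf 0)))) (.node (.node (.node (.leaf 4180) (.leaf 35190)) (.node (.leaf 16501) (.leaf 0))) (.node (.node (.leaf 9962) (.leaf 0)) (.node (.leaf 24147) (.leaf 0)))))) (.node (.node (.node (.node (.node (.leaf 826) (.leaf 27627)) (.node (.leaf 12318) (.leaf 0))) (.node (.node (.leaf 6280) (.leaf 0)) (.node (.leaf 19208) (.leaf 0)))) (.node (.node (.node (.leaf 3490) (.leaf 33268)) (.node (.leaf 15640) (.leaf 0))) (.node (.node (.leaf 9219) (.leaf 0)) (.node (.leaf 23123) (.leaf 0))))) (.node (.node (.node (.node (.leaf 2150) (.leaf 30226)) (.node (.leaf 13956) (.leaf 0))) (.node (.node (.leaf 7719) (.leaf 0)) (.node (.leaf 21114) (.leaf 0)))) (.node (.node (.node (.leaf 4869) (.leaf 37410))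 (.node (.leaf 17408) (.leaf 0))) (.node (.node (.leaf 10721) (.leaf 0)) (.node (.leaf 25256) (.leaf 0))))))) (.node (.node (.node (.node (.node (.node (.leaf 501) (.leaf 27049)) (.node (.leaf 11909) (.leaf 0))) (.node (.node (.leaf 5908) (.leaf 0)) (.node (.leaf 18783) (.leaf 0)))) (.node (.node (.node (.leaf 3136) (.leaf 32434)) (.node (.leaf 15226) (.leaf 0))) (.node (.node (.leaf 8832) (.leaf 0)) (.node (.leaf 22620) (.leaf 0))))) (.node (.node (.node (.node (.leaf 1816) (.leaf 29550)) (.node (.leaf 13544) (.leaf 0))) (.node (.node (.leaf 7355) (.leaf 0)) (.node (.leaf 20631) (.leaf 0)))) (.node (.node (.node (.leaf 4528) (.leaf 36247)) (.node (.leaf 16949) (.leaf 0))) (.node (.node (.leaf 10338) (.leaf 0)) (.node (.leaf 24717) (.leaf 0)))))) (.node (.node (.node (.node (.node (.leaf 1154) (.leaf 28228)) (.node (.leaf 12724) (.leaf 0))) (.node (.node (.leaf 6638) (.leaf 0)) (.node (.leaf 19657) (.leaf 0)))) (.node (.node (.node (.leaf 3828) (.leaf 34242)) (.node (.leaf 16087) (.leaf 0))) (.node (.node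 (.leaf 9599) (.leaf 0)) (.node (.leaf 23641) (.leaf 0))))) (.node (.node (.node (.node (.leaf 2482) (.leaf 30918)) (.node (.leaf 14350) (.leaf 0))) (.node (.node (.leaf 8080) (.leaf 0)) (.node (.leaf 21602) (.leaf 0)))) (.node (.node (.node (.leaf 5214) (.leaf 38877)) (.node (.leaf 17847) (.leaf 0))) (.node (.node (.leaf 11109) (.leaf 0)) (.node (.leaf 25836) (.leaf 0))))))))

def pT16 : NT := .node (.node (.node (.node (.node (.node (.node (.node (.leaf 20) (.leaf 26147)) (.node (.leaf 11302) (.leaf 0))) (.node (.node (.leaf 5387) (.leaf 40322)) (.node (.leaf 18072) (.leaf 0)))) (.node (.node (.node (.leaf 2645) (.leaf 31276)) (.node (.leaf 14572) (.leaf 0))) (.node (.node (.leaf 8270) (.leaf 0)) (.node (.leaf 21852) (.leaf 0))))) (.node (.node (.node (.node (.leaf 1321) (.leaf 28544)) (.node (.leaf 12927) (.leaf 0))) (.node (.node (.leaf 6824) (.leaf 0)) (.node (.leaf 19889) (.leaf 0)))) (.node (.node (.node (.leaf 4005) (.leaf 34702)) (.node (.leaf 16302) (.leaf 0))) (.node (.node (.leaf 9776) (.leaf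 0)) (.node (.leaf 23894) (.leaf 0)))))) (.node (.node (.node (.node (.node (.leaf 666) (.leaf 27358)) (.node (.leaf 12118) (.leaf 0))) (.node (.node (.leaf 6094) (.leaf 0)) (.node (.leaf 19004) (.leaf 0)))) (.node (.node (.node (.leaf 3309) (.leaf 32866)) (.node (.leaf 15437) (.leaf 0))) (.node (.node (.leaf 9023) (.leaf 0)) (.node (.leaf 22865) (.leaf 0))))) (.node (.node (.node (.node (.leaf 1988) (.leaf 29864)) (.node (.leaf 13737) (.leaf 0))) (.node (.node (.leaf 7535) (.leaf 0)) (.node (.leaf 20871) (.leaf 0)))) (.node (.node (.node (.leaf 4701) (.leaf 36888)) (.node (.leaf 17178) (.leaf 0))) (.node (.node (.leaf 10524) (.leaf 0)) (.node (.leaf 24994) (.leaf 0))))))) (.node (.node (.node (.node (.node (.node (.leaf 341) (.leaf 26737)) (.node (.leaf 11704) (.leaf 0))) (.node (.node (.leaf 5742) (.leaf 0)) (.node (.leaf 18538) (.leaf 0)))) (.node (.node (.node (.leaf 2973) (.leaf 32074)) (.node (.leaf 15015) (.leaf 0))) (.node (.node (.leaf 8640) (.leaf 0)) (.node (.leaf 22364) (.leaf 0))))) (.node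 (.node (.node (.node (.leaf 1651) (.leaf 29227)) (.node (.leaf 13332) (.leaf 0))) (.node (.node (.leaf 7180) (.leaf 0)) (.node (.leaf 20387) (.leaf 0)))) (.node (.node (.node (.leaf 4355) (.leaf 35731)) (.node (.leaf 16727) (.leaf 0))) (.node (.node (.leaf 10138) (.leaf 0)) (.node (.leaf 24431) (.leaf 0)))))) (.node (.node (.node (.node (.node (.leaf 993) (.leaf 27900)) (.node (.leaf 12523) (.leaf 0))) (.node (.node (.leaf 6465) (.leaf 0)) (.node (.leaf 19434) (.leaf 0)))) (.node (.node (.node (.leaf 3662) (.leaf 33720)) (.node (.leaf 15850) (.leaf 0))) (.node (.node (.leaf 9422) (.leaf 0)) (.node (.leaf 23381) (.leaf 0))))) (.node (.node (.node (.node (.leaf 2318) (.leaf 30552)) (.node (.leaf 14160) (.leaf 0))) (.node (.node (.leaf 7902) (.leaf 0)) (.node (.leaf 21356) (.leaf 0)))) (.node (.node (.node (.leaf 5040) (.leaf 38117)) (.node (.leaf 17629) (.leaf 0))) (.node (.node (.leaf 10922) (.leaf 0)) (.node (.leaf 25539) (.leaf 0)))))))) (.node (.node (.node (.node (.node (.node (.node (.leaf 180) (.leaf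 26422)) (.node (.leaf 11487) (.leaf 0))) (.node (.node (.leaf 5569) (.leaf 0)) (.node (.leaf 18294) (.leaf 0)))) (.node (.node (.node (.leaf 2808) (.leaf 31654)) (.node (.leaf 14785) (.leaf 0))) (.node (.node (.leaf 8456) (.leaf 0)) (.node (.leaf 22100) (.leaf 0))))) (.node (.node (.node (.node (.leaf 1484) (.leaf 28894)) (.node (.leaf 13132) (.leaf 0))) (.node (.node (.leaf 7000) (.leaf 0)) (.node (.leaf 20127) (.leaf 0)))) (.node (.node (.node (.leaf 4181) (.leaf 35194)) (.node (.leaf 16502) (.leaf 0))) (.node (.node (.leaf 9965) (.leaf 0)) (.node (.leaf 24148) (.leaf 0)))))) (.node (.node (.node (.node (.node (.leaf 829) (.leaf 27629)) (.node (.leaf 12321) (.leaf 0))) (.node (.node (.leaf 6281) (.leaf 0)) (.node (.leaf 19209) (.leaf 0)))) (.node (.node (.node (.leaf 3491) (.leaf 33270)) (.node (.leaf 15641) (.leaf 0))) (.node (.node (.leaf 9220) (.leaf 0)) (.node (.leaf 23124) (.leaf 0))))) (.node (.node (.node (.node (.leaf 2152) (.leaf 30229)) (.node (.leaf 13958) (.leaf 0))) (.node (.node (.leaf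 7720) (.leaf 0)) (.node (.leaf 21116) (.leaf 0)))) (.node (.node (.node (.leaf 4870) (.leaf 37412)) (.node (.leaf 17410) (.leaf 0))) (.node (.node (.leaf 10722) (.leaf 0)) (.node (.leaf 25259) (.leaf 0))))))) (.node (.node (.node (.node (.node (.node (.leaf 502) (.leaf 27050)) (.node (.leaf 11912) (.leaf 0))) (.node (.node (.leaf 5909) (.leaf 0)) (.node (.leaf 18784) (.leaf 0)))) (.node (.node (.node (.leaf 3137) (.leaf 32435)) (.node (.leaf 15229) (.leaf 0))) (.node (.node (.leaf 8833) (.leaf 0)) (.node (.leaf 22621) (.leaf 0))))) (.node (.node (.node (.node (.leaf 1817) (.leaf 29552)) (.node (.leaf 13545) (.leaf 0))) (.node (.node (.leaf 7356) (.leaf 0)) (.node (.leaf 20632) (.leaf 0)))) (.node (.node (.node (.leaf 4529) (.leaf 36250)) (.node (.leaf 16950) (.leaf 0))) (.node (.node (.leaf 10339) (.leaf 0)) (.node (.leaf 24719) (.leaf 0)))))) (.node (.node (.node (.node (.node (.leaf 1155) (.leaf 28232)) (.node (.leaf 12726) (.leaf 0))) (.node (.node (.leaf 6639) (.leaf 0)) (.node (.leaf 19660) (.leaf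 0)))) (.node (.node (.node (.leaf 3829) (.leaf 34243)) (.node (.leaf 16088) (.leaf 0))) (.node (.node (.leaf 9600) (.leaf 0)) (.node (.leaf 23642) (.leaf 0))))) (.node (.node (.node (.node (.leaf 2484) (.leaf 30920)) (.node (.leaf 14352) (.leaf 0))) (.node (.node (.leaf 8081) (.leaf 0)) (.node (.leaf 21606) (.leaf 0)))) (.node (.node (.node (.leaf 5216) (.leaf 38880)) (.node (.leaf 17851) (.leaf 0))) (.node (.node (.leaf 11110) (.leaf 0)) (.node (.leaf 25837) (.leaf 0))))))))

def pT17 : NT := .node (.node (.node (.node (.node (.node (.node (.node (.leaf 21) (.leaf 26148)) (.node (.leaf 11304) (.leaf 0))) (.node (.node (.leaf 5388) (.leaf 40324)) (.node (.leaf 18073) (.leaf 0)))) (.node (.node (.node (.leaf 2646) (.leaf 31278)) (.node (.leaf 14573) (.leaf 0))) (.node (.node (.leaf 8272) (.leaf 0)) (.node (.leaf 21854) (.leaf 0))))) (.node (.node (.node (.node (.leaf 1322) (.leaf 28545)) (.node (.leaf 12928) (.leaf 0))) (.node (.node (.leaf 6826) (.leaf 0)) (.node (.leaf 19890) (.leaf 0)))) (.node (.node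 (.node (.leaf 4006) (.leaf 34711)) (.node (.leaf 16303) (.leaf 0))) (.node (.node (.leaf 9777) (.leaf 0)) (.node (.leaf 23897) (.leaf 0)))))) (.node (.node (.node (.node (.node (.leaf 668) (.leaf 27359)) (.node (.leaf 12120) (.leaf 0))) (.node (.node (.leaf 6095) (.leaf 0)) (.node (.leaf 19006) (.leaf 0)))) (.node (.node (.node (.leaf 3310) (.leaf 32867)) (.node (.leaf 15438) (.leaf 0))) (.node (.node (.leaf 9027) (.leaf 0)) (.node (.leaf 22866) (.leaf 0))))) (.node (.node (.node (.node (.leaf 1989) (.leaf 29866)) (.node (.leaf 13738) (.leaf 0))) (.node (.node (.leaf 7536) (.leaf 0)) (.node (.leaf 20872) (.leaf 0)))) (.node (.node (.node (.leaf 4702) (.leaf 36892)) (.node (.leaf 17180) (.leaf 0))) (.node (.node (.leaf 10526) (.leaf 0)) (.node (.leaf 24995) (.leaf 0))))))) (.node (.node (.node (.node (.node (.node (.leaf 342) (.leaf 26738)) (.node (.leaf 11707) (.leaf 0))) (.node (.node (.leaf 5743) (.leaf 0)) (.node (.leaf 18539) (.leaf 0)))) (.node (.node (.node (.leaf 2974) (.leaf 32077)) (.node (.leaf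 15016) (.leaf 0))) (.node (.node (.leaf 8642) (.leaf 0)) (.node (.leaf 22368) (.leaf 0))))) (.node (.node (.node (.node (.leaf 1652) (.leaf 29228)) (.node (.leaf 13333) (.leaf 0))) (.node (.node (.leaf 7182) (.leaf 0)) (.node (.leaf 20388) (.leaf 0)))) (.node (.node (.node (.leaf 4356) (.leaf 35734)) (.node (.leaf 16729) (.leaf 0))) (.node (.node (.leaf 10139) (.leaf 0)) (.node (.leaf 24434) (.leaf 0)))))) (.node (.node (.node (.node (.node (.leaf 994) (.leaf 27901)) (.node (.leaf 12524) (.leaf 0))) (.node (.node (.leaf 6466) (.leaf 0)) (.node (.leaf 19436) (.leaf 0)))) (.node (.node (.node (.leaf 3663) (.leaf 33721)) (.node (.leaf 15852) (.leaf 0))) (.node (.node (.leaf 9425) (.leaf 0)) (.node (.leaf 23382) (.leaf 0))))) (.node (.node (.node (.node (.leaf 2319) (.leaf 30554)) (.node (.leaf 14161) (.leaf 0))) (.node (.node (.leaf 7903) (.leaf 0)) (.node (.leaf 21359) (.leaf 0)))) (.node (.node (.node (.leaf 5041) (.leaf 38123)) (.node (.leaf 17630) (.leaf 0))) (.node (.node (.leaf 10923) (.leaf 0)) (.node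 (.leaf 25541) (.leaf 0)))))))) (.node (.node (.node (.node (.node (.node (.node (.leaf 182) (.leaf 26426)) (.node (.leaf 11488) (.leaf 0))) (.node (.node (.leaf 5570) (.leaf 0)) (.node (.leaf 18296) (.leaf 0)))) (.node (.node (.node (.leaf 2810) (.leaf 31655)) (.node (.leaf 14786) (.leaf 0))) (.node (.node (.leaf 8458) (.leaf 0)) (.node (.leaf 22101) (.leaf 0))))) (.node (.node (.node (.node (.leaf 1485) (.leaf 28898)) (.node (.leaf 13133) (.leaf 0))) (.node (.node (.leaf 7001) (.leaf 0)) (.node (.leaf 20133) (.leaf 0)))) (.node (.node (.node (.leaf 4182) (.leaf 35195)) (.node (.leaf 16504) (.leaf 0))) (.node (.node (.leaf 9966) (.leaf 0)) (.node (.leaf 24152) (.leaf 0)))))) (.node (.node (.node (.node (.node (.leaf 830) (.leaf 27630)) (.node (.leaf 12322) (.leaf 0))) (.node (.node (.leaf 6282) (.leaf 0)) (.node (.leaf 19210) (.leaf 0)))) (.node (.node (.node (.leaf 3494) (.leaf 33274)) (.node (.leaf 15642) (.leaf 0))) (.node (.node (.leaf 9222) (.leaf 0)) (.node (.leaf 23126) (.leaf 0))))) (.node (.node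 (.node (.node (.leaf 2154) (.leaf 30235)) (.node (.leaf 13960) (.leaf 0))) (.node (.node (.leaf 7721) (.leaf 0)) (.node (.leaf 21117) (.leaf 0)))) (.node (.node (.node (.leaf 4872) (.leaf 37416)) (.node (.leaf 17411) (.leaf 0))) (.node (.node (.leaf 10723) (.leaf 0)) (.node (.leaf 25260) (.leaf 0))))))) (.node (.node (.node (.node (.node (.node (.leaf 504) (.leaf 27051)) (.node (.leaf 11914) (.leaf 0))) (.node (.node (.leaf 5910) (.leaf 0)) (.node (.leaf 18789) (.leaf 0)))) (.node (.node (.node (.leaf 3140) (.leaf 32437)) (.node (.leaf 15230) (.leaf 0))) (.node (.node (.leaf 8836) (.leaf 0)) (.node (.leaf 22622) (.leaf 0))))) (.node (.node (.node (.node (.leaf 1819) (.leaf 29553)) (.node (.leaf 13548) (.leaf 0))) (.node (.node (.leaf 7357) (.leaf 0)) (.node (.leaf 20633) (.leaf 0)))) (.node (.node (.node (.leaf 4530) (.leaf 36256)) (.node (.leaf 16953) (.leaf 0))) (.node (.node (.leaf 10340) (.leaf 0)) (.node (.leaf 24721) (.leaf 0)))))) (.node (.node (.node (.node (.node (.leaf 1156) (.leaf 28235)) (.node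 (.leaf 12727) (.leaf 0))) (.node (.node (.leaf 6640) (.leaf 0)) (.node (.leaf 19661) (.leaf 0)))) (.node (.node (.node (.leaf 3830) (.leaf 34246)) (.node (.leaf 16089) (.leaf 0))) (.node (.node (.leaf 9603) (.leaf 0)) (.node (.leaf 23648) (.leaf 0))))) (.node (.node (.node (.node (.leaf 2485) (.leaf 30922)) (.node (.leaf 14354) (.leaf 0))) (.node (.node (.leaf 8082) (.leaf 0)) (.node (.leaf 21608) (.leaf 0)))) (.node (.node (.node (.leaf 5218) (.leaf 38882)) (.node (.leaf 17852) (.leaf 0))) (.node (.node (.leaf 11112) (.leaf 0)) (.node (.leaf 25838) (.leaf 0))))))))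

def pT18 : NT := .node (.node (.node (.node (.node (.node (.node (.node (.leaf 22) (.leaf 26149)) (.node (.leaf 11305) (.leaf 0))) (.node (.node (.leaf 5389) (.leaf 40392)) (.node (.leaf 18074) (.leaf 0)))) (.node (.node (.node (.leaf 2648) (.leaf 31280)) (.node (.leaf 14574) (.leaf 0))) (.node (.node (.leaf 8273) (.leaf 0)) (.node (.leaf 21856) (.leaf 0))))) (.node (.node (.node (.node (.leaf 1324) (.leaf 28546)) (.node (.leaf 12929) (.leaf 0))) (.node (.node (.leaf 6827) (.leaf 0)) (.node (.leaf 19892) (.leaf 0)))) (.node (.node (.node (.leaf 4008) (.leaf 34712)) (.node (.leaf 16304) (.leaf 0))) (.node (.node (.leaf 9778) (.leaf 0)) (.node (.leaf 23898) (.leaf 0)))))) (.node (.node (.node (.node (.node (.leaf 669) (.leaf 27362)) (.node (.leaf 12121) (.leaf 0))) (.node (.node (.leaf 6096) (.leaf 0)) (.node (.leaf 19007) (.leaf 0)))) (.node (.node (.node (.leaf 3312) (.leaf 32868)) (.node (.leaf 15439) (.leaf 0))) (.node (.node (.leaf 9028) (.leaf 0)) (.node (.leaf 22867) (.leaf 0))))) (.node (.node (.node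 (.node (.leaf 1990) (.leaf 29868)) (.node (.leaf 13740) (.leaf 0))) (.node (.node (.leaf 7538) (.leaf 0)) (.node (.leaf 20874) (.leaf 0)))) (.node (.node (.node (.leaf 4705) (.leaf 36898)) (.node (.leaf 17181) (.leaf 0))) (.node (.node (.leaf 10527) (.leaf 0)) (.node (.leaf 25002) (.leaf 0))))))) (.node (.node (.node (.node (.node (.node (.leaf 344) (.leaf 26744)) (.node (.leaf 11708) (.leaf 0))) (.node (.node (.leaf 5744) (.leaf 0)) (.node (.leaf 18540) (.leaf 0)))) (.node (.node (.node (.leaf 2976) (.leaf 32081)) (.node (.leaf 15017) (.leaf 0))) (.node (.node (.leaf 8644) (.leaf 0)) (.node (.leaf 22373) (.leaf 0))))) (.node (.node (.node (.node (.leaf 1654) (.leaf 29229)) (.node (.leaf 13334) (.leaf 0))) (.node (.node (.leaf 7185) (.leaf 0)) (.node (.leaf 20389) (.leaf 0)))) (.node (.node (.node (.leaf 4357) (.leaf 35735)) (.node (.leaf 16732) (.leaf 0))) (.node (.node (.leaf 10140) (.leaf 0)) (.node (.leaf 24436) (.leaf 0)))))) (.node (.node (.node (.node (.node (.leaf 995) (.leaf 27902)) (.node (.leaf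 12527) (.leaf 0))) (.node (.node (.leaf 6468) (.leaf 0)) (.node (.leaf 19438) (.leaf 0)))) (.node (.node (.node (.leaf 3664) (.leaf 33724)) (.node (.leaf 15853) (.leaf 0))) (.node (.node (.leaf 9426) (.leaf 0)) (.node (.leaf 23385) (.leaf 0))))) (.node (.node (.node (.node (.leaf 2320) (.leaf 30556)) (.node (.leaf 14162) (.leaf 0))) (.node (.node (.leaf 7904) (.leaf 0)) (.node (.leaf 21360) (.leaf 0)))) (.node (.node (.node (.leaf 5043) (.leaf 38125)) (.node (.leaf 17634) (.leaf 0))) (.node (.node (.leaf 10924) (.leaf 0)) (.node (.leaf 25542) (.leaf 0)))))))) (.node (.node (.node (.node (.node (.node (.node (.leaf 183) (.leaf 26427)) (.node (.leaf 11489) (.leaf 0))) (.node (.node (.leaf 5572) (.leaf 0)) (.node (.leaf 18298) (.leaf 0)))) (.node (.node (.node (.leaf 2811) (.leaf 31656)) (.node (.leaf 14787) (.leaf 0))) (.node (.node (.leaf 8459) (.leaf 0)) (.node (.leaf 22103) (.leaf 0))))) (.node (.node (.node (.node (.leaf 1486) (.leaf 28899)) (.node (.leaf 13134) (.leaf 0))) (.node (.node (.leaf 7002)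 (.leaf 0)) (.node (.leaf 20134) (.leaf 0)))) (.node (.node (.node (.leaf 4183) (.leaf 35201)) (.node (.leaf 16506) (.leaf 0))) (.node (.node (.leaf 9967) (.leaf 0)) (.node (.leaf 24154) (.leaf 0)))))) (.node (.node (.node (.node (.node (.leaf 832) (.leaf 27631)) (.node (.leaf 12324) (.leaf 0))) (.node (.node (.leaf 6284) (.leaf 0)) (.node (.leaf 19213) (.leaf 0)))) (.node (.node (.node (.leaf 3495) (.leaf 33276)) (.node (.leaf 15643) (.leaf 0))) (.node (.node (.leaf 9223) (.leaf 0)) (.node (.leaf 23128) (.leaf 0))))) (.node (.node (.node (.node (.leaf 2155) (.leaf 30236)) (.node (.leaf 13961) (.leaf 0))) (.node (.node (.leaf 7722) (.leaf 0)) (.node (.leaf 21119) (.leaf 0)))) (.node (.node (.node (.leaf 4873) (.leaf 37420)) (.node (.leaf 17412) (.leaf 0))) (.node (.node (.leaf 10724) (.leaf 0)) (.node (.leaf 25263) (.leaf 0))))))) (.node (.node (.node (.node (.node (.node (.leaf 505) (.leaf 27052)) (.node (.leaf 11916) (.leaf 0))) (.node (.node (.leaf 5914) (.leaf 0)) (.node (.leaf 18790) (.leaf 0)))) (.node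 (.node (.node (.leaf 3141) (.leaf 32442)) (.node (.leaf 15232) (.leaf 0))) (.node (.node (.leaf 8837) (.leaf 0)) (.node (.leaf 22624) (.leaf 0))))) (.node (.node (.node (.node (.leaf 1820) (.leaf 29558)) (.node (.leaf 13549) (.leaf 0))) (.node (.node (.leaf 7358) (.leaf 0)) (.node (.leaf 20634) (.leaf 0)))) (.node (.node (.node (.leaf 4531) (.leaf 36263)) (.node (.leaf 16956) (.leaf 0))) (.node (.node (.leaf 10341) (.leaf 0)) (.node (.leaf 24722) (.leaf 0)))))) (.node (.node (.node (.node (.node (.leaf 1158) (.leaf 28236)) (.node (.leaf 12728) (.leaf 0))) (.node (.node (.leaf 6641) (.leaf 0)) (.node (.leaf 19662) (.leaf 0)))) (.node (.node (.node (.leaf 3832) (.leaf 34248)) (.node (.leaf 16092) (.leaf 0))) (.node (.node (.leaf 9604) (.leaf 0)) (.node (.leaf 23652) (.leaf 0))))) (.node (.node (.node (.node (.leaf 2487) (.leaf 30925)) (.node (.leaf 14355) (.leaf 0))) (.node (.node (.leaf 8084) (.leaf 0)) (.node (.leaf 21610) (.leaf 0)))) (.node (.node (.node (.leaf 5219) (.leaf 38885)) (.node (.leaf 17855)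 (.leaf 0))) (.node (.node (.leaf 11113) (.leaf 0)) (.node (.leaf 25840) (.leaf 0))))))))

def pT19 : NT := .node (.node (.node (.node (.node (.node (.node (.node (.leaf 23) (.leaf 26150)) (.node (.leaf 11307) (.leaf 0))) (.node (.node (.leaf 5390) (.leaf 40420)) (.node (.leaf 18075) (.leaf 0)))) (.node (.node (.node (.leaf 2650) (.leaf 31286)) (.node (.leaf 14577) (.leaf 0))) (.node (.node (.leaf 8276) (.leaf 0)) (.node (.leaf 21857) (.leaf 0))))) (.node (.node (.node (.node (.leaf 1325) (.leaf 28550)) (.node (.leaf 12930) (.leaf 0))) (.node (.node (.leaf 6828) (.leaf 0)) (.node (.leaf 19894) (.leaf 0)))) (.node (.node (.node (.leaf 4009) (.leaf 34726)) (.node (.leaf 16308) (.leaf 0))) (.node (.node (.leaf 9779) (.leaf 0)) (.node (.leaf 23902) (.leaf 0)))))) (.node (.node (.node (.node (.node (.leaf 670) (.leaf 27363)) (.node (.leaf 12122) (.leaf 0))) (.node (.node (.leaf 6097) (.leaf 0)) (.node (.leaf 19012) (.leaf 0)))) (.node (.node (.node (.leaf 3314) (.leaf 32869)) (.node (.leaf 15440) (.leaf 0)))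 (.node (.node (.leaf 9030) (.leaf 0)) (.node (.leaf 22869) (.leaf 0))))) (.node (.node (.node (.node (.leaf 1992) (.leaf 29869)) (.node (.leaf 13741) (.leaf 0))) (.node (.node (.leaf 7539) (.leaf 0)) (.node (.leaf 20876) (.leaf 0)))) (.node (.node (.node (.leaf 4706) (.leaf 36900)) (.node (.leaf 17182) (.leaf 0))) (.node (.node (.leaf 10528) (.leaf 0)) (.node (.leaf 25005) (.leaf 0))))))) (.node (.node (.node (.node (.node (.node (.leaf 345) (.leaf 26746)) (.node (.leaf 11710) (.leaf 0))) (.node (.node (.leaf 5747) (.leaf 0)) (.node (.leaf 18542) (.leaf 0)))) (.node (.node (.node (.leaf 2977) (.leaf 32082)) (.node (.leaf 15018) (.leaf 0))) (.node (.node (.leaf 8646) (.leaf 0)) (.node (.leaf 22376) (.leaf 0))))) (.node (.node (.node (.node (.leaf 1655) (.leaf 29233)) (.node (.leaf 13336) (.leaf 0))) (.node (.node (.leaf 7186) (.leaf 0)) (.node (.leaf 20392) (.leaf 0)))) (.node (.node (.node (.leaf 4360) (.leaf 35736)) (.node (.leaf 16734) (.leaf 0))) (.node (.node (.leaf 10142) (.leaf 0)) (.node (.leaf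 24438) (.leaf 0)))))) (.node (.node (.node (.node (.node (.leaf 996) (.leaf 27909)) (.node (.leaf 12528) (.leaf 0))) (.node (.node (.leaf 6469) (.leaf 0)) (.node (.leaf 19440) (.leaf 0)))) (.node (.node (.node (.leaf 3666) (.leaf 33737)) (.node (.leaf 15854) (.leaf 0))) (.node (.node (.leaf 9429) (.leaf 0)) (.node (.leaf 23391) (.leaf 0))))) (.node (.node (.node (.node (.leaf 2321) (.leaf 30557)) (.node (.leaf 14166) (.leaf 0))) (.node (.node (.leaf 7905) (.leaf 0)) (.node (.leaf 21361) (.leaf 0)))) (.node (.node (.node (.leaf 5044) (.leaf 38134)) (.node (.leaf 17636) (.leaf 0))) (.node (.node (.leaf 10925) (.leaf 0)) (.node (.leaf 25543) (.leaf 0)))))))) (.node (.node (.node (.node (.node (.node (.node (.leaf 184) (.leaf 26428)) (.node (.leaf 11490) (.leaf 0))) (.node (.node (.leaf 5573) (.leaf 0)) (.node (.leaf 18299) (.leaf 0)))) (.node (.node (.node (.leaf 2812) (.leaf 31663)) (.node (.leaf 14788) (.leaf 0))) (.node (.node (.leaf 8460) (.leaf 0)) (.node (.leaf 22105) (.leaf 0))))) (.node (.node (.node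 (.node (.leaf 1487) (.leaf 28902)) (.node (.leaf 13135) (.leaf 0))) (.node (.node (.leaf 7003) (.leaf 0)) (.node (.leaf 20135) (.leaf 0)))) (.node (.node (.node (.leaf 4184) (.leaf 35205)) (.node (.leaf 16507) (.leaf 0))) (.node (.node (.leaf 9968) (.leaf 0)) (.node (.leaf 24156) (.leaf 0)))))) (.node (.node (.node (.node (.node (.leaf 833) (.leaf 27633)) (.node (.leaf 12326) (.leaf 0))) (.node (.node (.leaf 6286) (.leaf 0)) (.node (.leaf 19214) (.leaf 0)))) (.node (.node (.node (.leaf 3496) (.leaf 33284)) (.node (.leaf 15644) (.leaf 0))) (.node (.node (.leaf 9224) (.leaf 0)) (.node (.leaf 23130) (.leaf 0))))) (.node (.node (.node (.node (.leaf 2156) (.leaf 30237)) (.node (.leaf 13962) (.leaf 0))) (.node (.node (.leaf 7724) (.leaf 0)) (.node (.leaf 21120) (.leaf 0)))) (.node (.node (.node (.leaf 4874) (.leaf 37438)) (.node (.leaf 17414) (.leaf 0))) (.node (.node (.leaf 10726) (.leaf 0)) (.node (.leaf 25264) (.leaf 0))))))) (.node (.node (.node (.node (.node (.node (.leaf 506) (.leaf 27053)) (.node (.leaf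 11918) (.leaf 0))) (.node (.node (.leaf 5916) (.leaf 0)) (.node (.leaf 18792) (.leaf 0)))) (.node (.node (.node (.leaf 3142) (.leaf 32452)) (.node (.leaf 15233) (.leaf 0))) (.node (.node (.leaf 8838) (.leaf 0)) (.node (.leaf 22625) (.leaf 0))))) (.node (.node (.node (.node (.leaf 1822) (.leaf 29559)) (.node (.leaf 13550) (.leaf 0))) (.node (.node (.leaf 7360) (.leaf 0)) (.node (.leaf 20636) (.leaf 0)))) (.node (.node (.node (.leaf 4532) (.leaf 36266)) (.node (.leaf 16957) (.leaf 0))) (.node (.node (.leaf 10342) (.leaf 0)) (.node (.leaf 24726) (.leaf 0)))))) (.node (.node (.node (.node (.node (.leaf 1159) (.leaf 28238)) (.node (.leaf 12730) (.leaf 0))) (.node (.node (.leaf 6642) (.leaf 0)) (.node (.leaf 19664) (.leaf 0)))) (.node (.node (.node (.leaf 3833) (.leaf 34250)) (.node (.leaf 16093) (.leaf 0))) (.node (.node (.leaf 9606) (.leaf 0)) (.node (.leaf 23653) (.leaf 0))))) (.node (.node (.node (.node (.leaf 2488) (.leaf 30929)) (.node (.leaf 14356) (.leaf 0))) (.node (.node (.leaf 8085) (.leaf 0)) (.node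 (.leaf 21611) (.leaf 0)))) (.node (.node (.node (.leaf 5220) (.leaf 38896)) (.node (.leaf 17856) (.leaf 0))) (.node (.node (.leaf 11114) (.leaf 0)) (.node (.leaf 25842) (.leaf 0))))))))

def pT20 : NT := .node (.node (.node (.node (.node (.node (.node (.node (.leaf 24) (.leaf 26151)) (.node (.leaf 11308) (.leaf 0))) (.node (.node (.leaf 5392) (.leaf 40436)) (.node (.leaf 18079) (.leaf 0)))) (.node (.node (.node (.leaf 2651) (.leaf 31288)) (.node (.leaf 14578) (.leaf 0))) (.node (.node (.leaf 8277) (.leaf 0)) (.node (.leaf 21860) (.leaf 0))))) (.node (.node (.node (.node (.leaf 1326) (.leaf 28552)) (.node (.leaf 12932) (.leaf 0))) (.node (.node (.leaf 6830) (.leaf 0)) (.node (.leaf 19898) (.leaf 0)))) (.node (.node (.node (.leaf 4010) (.leaf 34727)) (.node (.leaf 16310) (.leaf 0))) (.node (.node (.leaf 9780) (.leaf 0)) (.node (.leaf 23904) (.leaf 0)))))) (.node (.node (.node (.node (.node (.leaf 672) (.leaf 27365)) (.node (.leaf 12123) (.leaf 0))) (.node (.node (.leaf 6098) (.leaf 0)) (.node (.leaf 19013)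 (.leaf 0)))) (.node (.node (.node (.leaf 3316) (.leaf 32870)) (.node (.leaf 15443) (.leaf 0))) (.node (.node (.leaf 9032) (.leaf 0)) (.node (.leaf 22870) (.leaf 0))))) (.node (.node (.node (.node (.leaf 1993) (.leaf 29874)) (.node (.leaf 13744) (.leaf 0))) (.node (.node (.leaf 7540) (.leaf 0)) (.node (.leaf 20877) (.leaf 0)))) (.node (.node (.node (.leaf 4708) (.leaf 36901)) (.node (.leaf 17185) (.leaf 0))) (.node (.node (.leaf 10529) (.leaf 0)) (.node (.leaf 25007) (.leaf 0))))))) (.node (.node (.node (.node (.node (.node (.leaf 346) (.leaf 26750)) (.node (.leaf 11711) (.leaf 0))) (.node (.node (.leaf 5748) (.leaf 0)) (.node (.leaf 18543) (.leaf 0)))) (.node (.node (.node (.leaf 2978) (.leaf 32083)) (.node (.leaf 15020) (.leaf 0))) (.node (.node (.leaf 8647) (.leaf 0)) (.node (.leaf 22377) (.leaf 0))))) (.node (.node (.node (.node (.leaf 1656) (.leaf 29236)) (.node (.leaf 13338) (.leaf 0))) (.node (.node (.leaf 7187) (.leaf 0)) (.node (.leaf 20393) (.leaf 0)))) (.node (.node (.node (.leaf 4361) (.leaf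 35742)) (.node (.leaf 16736) (.leaf 0))) (.node (.node (.leaf 10143) (.leaf 0)) (.node (.leaf 24441) (.leaf 0)))))) (.node (.node (.node (.node (.node (.leaf 998) (.leaf 27910)) (.node (.leaf 12530) (.leaf 0))) (.node (.node (.leaf 6470) (.leaf 0)) (.node (.leaf 19442) (.leaf 0)))) (.node (.node (.node (.leaf 3667) (.leaf 33738)) (.node (.leaf 15855) (.leaf 0))) (.node (.node (.leaf 9430) (.leaf 0)) (.node (.leaf 23394) (.leaf 0))))) (.node (.node (.node (.node (.leaf 2322) (.leaf 30562)) (.node (.leaf 14168) (.leaf 0))) (.node (.node (.leaf 7906) (.leaf 0)) (.node (.leaf 21362) (.leaf 0)))) (.node (.node (.node (.leaf 5046) (.leaf 38137)) (.node (.leaf 17638) (.leaf 0))) (.node (.node (.leaf 10926) (.leaf 0)) (.node (.leaf 25545) (.leaf 0)))))))) (.node (.node (.node (.node (.node (.node (.node (.leaf 186) (.leaf 26430)) (.node (.leaf 11492) (.leaf 0))) (.node (.node (.leaf 5574) (.leaf 0)) (.node (.leaf 18300) (.leaf 0)))) (.node (.node (.node (.leaf 2814) (.leaf 31667)) (.node (.leaf 14791) (.leaf 0)))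 (.node (.node (.leaf 8461) (.leaf 0)) (.node (.leaf 22110) (.leaf 0))))) (.node (.node (.node (.node (.leaf 1488) (.leaf 28903)) (.node (.leaf 13136) (.leaf 0))) (.node (.node (.leaf 7004) (.leaf 0)) (.node (.leaf 20136) (.leaf 0)))) (.node (.node (.node (.leaf 4186) (.leaf 35217)) (.node (.leaf 16508) (.leaf 0))) (.node (.node (.leaf 9970) (.leaf 0)) (.node (.leaf 24159) (.leaf 0)))))) (.node (.node (.node (.node (.node (.leaf 834) (.leaf 27637)) (.node (.leaf 12327) (.leaf 0))) (.node (.node (.leaf 6288) (.leaf 0)) (.node (.leaf 19215) (.leaf 0)))) (.node (.node (.node (.leaf 3497) (.leaf 33285)) (.node (.leaf 15645) (.leaf 0))) (.node (.node (.leaf 9226) (.leaf 0)) (.node (.leaf 23134) (.leaf 0))))) (.node (.node (.node (.node (.leaf 2157) (.leaf 30238)) (.node (.leaf 13963) (.leaf 0))) (.node (.node (.leaf 7725) (.leaf 0)) (.node (.leaf 21122) (.leaf 0)))) (.node (.node (.node (.leaf 4875) (.leaf 37442)) (.node (.leaf 17415) (.leaf 0))) (.node (.node (.leaf 10727) (.leaf 0)) (.node (.leaf 25265) (.leaf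 0))))))) (.node (.node (.node (.node (.node (.node (.leaf 508) (.leaf 27056)) (.node (.leaf 11920) (.leaf 0))) (.node (.node (.leaf 5917) (.leaf 0)) (.node (.leaf 18793) (.leaf 0)))) (.node (.node (.node (.leaf 3143) (.leaf 32454)) (.node (.leaf 15234) (.leaf 0))) (.node (.node (.leaf 8839) (.leaf 0)) (.node (.leaf 22626) (.leaf 0))))) (.node (.node (.node (.node (.leaf 1823) (.leaf 29560)) (.node (.leaf 13552) (.leaf 0))) (.node (.node (.leaf 7362) (.leaf 0)) (.node (.leaf 20638) (.leaf 0)))) (.node (.node (.node (.leaf 4534) (.leaf 36267)) (.node (.leaf 16959) (.leaf 0))) (.node (.node (.leaf 10343) (.leaf 0)) (.node (.leaf 24728) (.leaf 0)))))) (.node (.node (.node (.node (.node (.leaf 1160) (.leaf 28240)) (.node (.leaf 12731) (.leaf 0))) (.node (.node (.leaf 6644) (.leaf 0)) (.node (.leaf 19665) (.leaf 0)))) (.node (.node (.node (.leaf 3834) (.leaf 34252)) (.node (.leaf 16094) (.leaf 0))) (.node (.node (.leaf 9607) (.leaf 0)) (.node (.leaf 23654) (.leaf 0))))) (.node (.node (.node (.node (.leaf 2490)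 (.leaf 30930)) (.node (.leaf 14358) (.leaf 0))) (.node (.node (.leaf 8086) (.leaf 0)) (.node (.leaf 21612) (.leaf 0)))) (.node (.node (.node (.leaf 5222) (.leaf 38907)) (.node (.leaf 17858) (.leaf 0))) (.node (.node (.leaf 11115) (.leaf 0)) (.node (.leaf 25844) (.leaf 0))))))))

def pT21 : NT := .node (.node (.node (.node (.node (.node (.node (.node (.leaf 26) (.leaf 26153)) (.node (.leaf 11310) (.leaf 0))) (.node (.node (.leaf 5393) (.leaf 40501)) (.node (.leaf 18080) (.leaf 0)))) (.node (.node (.node (.leaf 2652) (.leaf 31289)) (.node (.leaf 14579) (.leaf 0))) (.node (.node (.leaf 8278) (.leaf 0)) (.node (.leaf 21862) (.leaf 0))))) (.node (.node (.node (.node (.leaf 1327) (.leaf 28554)) (.node (.leaf 12933) (.leaf 0))) (.node (.node (.leaf 6832) (.leaf 0)) (.node (.leaf 19899) (.leaf 0)))) (.node (.node (.node (.leaf 4011) (.leaf 34728)) (.node (.leaf 16315) (.leaf 0))) (.node (.node (.leaf 9782) (.leaf 0)) (.node (.leaf 23906) (.leaf 0)))))) (.node (.node (.node (.node (.node (.leaf 673) (.leaf 27372))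 (.node (.leaf 12124) (.leaf 0))) (.node (.node (.leaf 6099) (.leaf 0)) (.node (.leaf 19014) (.leaf 0)))) (.node (.node (.node (.leaf 3317) (.leaf 32874)) (.node (.leaf 15445) (.leaf 0))) (.node (.node (.leaf 9034) (.leaf 0)) (.node (.leaf 22871) (.leaf 0))))) (.node (.node (.node (.node (.leaf 1994) (.leaf 29877)) (.node (.leaf 13745) (.leaf 0))) (.node (.node (.leaf 7542) (.leaf 0)) (.node (.leaf 20879) (.leaf 0)))) (.node (.node (.node (.leaf 4709) (.leaf 36903)) (.node (.leaf 17188) (.leaf 0))) (.node (.node (.leaf 10530) (.leaf 0)) (.node (.leaf 25008) (.leaf 0))))))) (.node (.node (.node (.node (.node (.node (.leaf 347) (.leaf 26753)) (.node (.leaf 11714) (.leaf 0))) (.node (.node (.leaf 5749) (.leaf 0)) (.node (.leaf 18546) (.leaf 0)))) (.node (.node (.node (.leaf 2980) (.leaf 32088)) (.node (.leaf 15021) (.leaf 0))) (.node (.node (.leaf 8648) (.leaf 0)) (.node (.leaf 22378) (.leaf 0))))) (.node (.node (.node (.node (.leaf 1657) (.leaf 29238)) (.node (.leaf 13339) (.leaf 0))) (.node (.node (.leaf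 7188) (.leaf 0)) (.node (.leaf 20394) (.leaf 0)))) (.node (.node (.node (.leaf 4362) (.leaf 35744)) (.node (.leaf 16737) (.leaf 0))) (.node (.node (.leaf 10146) (.leaf 0)) (.node (.leaf 24442) (.leaf 0)))))) (.node (.node (.node (.node (.node (.leaf 1000) (.leaf 27912)) (.node (.leaf 12531) (.leaf 0))) (.node (.node (.leaf 6472) (.leaf 0)) (.node (.leaf 19445) (.leaf 0)))) (.node (.node (.node (.leaf 3668) (.leaf 33739)) (.node (.leaf 15856) (.leaf 0))) (.node (.node (.leaf 9431) (.leaf 0)) (.node (.leaf 23400) (.leaf 0))))) (.node (.node (.node (.node (.leaf 2325) (.leaf 30563)) (.node (.leaf 14170) (.leaf 0))) (.node (.node (.leaf 7908) (.leaf 0)) (.node (.leaf 21364) (.leaf 0)))) (.node (.node (.node (.leaf 5047) (.leaf 38146)) (.node (.leaf 17639) (.leaf 0))) (.node (.node (.leaf 10928) (.leaf 0)) (.node (.leaf 25546) (.leaf 0)))))))) (.node (.node (.node (.node (.node (.node (.node (.leaf 187) (.leaf 26431)) (.node (.leaf 11493) (.leaf 0))) (.node (.node (.leaf 5575) (.leaf 0)) (.node (.leaf 18303)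 (.leaf 0)))) (.node (.node (.node (.leaf 2815) (.leaf 31670)) (.node (.leaf 14794) (.leaf 0))) (.node (.node (.leaf 8462) (.leaf 0)) (.node (.leaf 22115) (.leaf 0))))) (.node (.node (.node (.node (.leaf 1490) (.leaf 28907)) (.node (.leaf 13139) (.leaf 0))) (.node (.node (.leaf 7006) (.leaf 0)) (.node (.leaf 20138) (.leaf 0)))) (.node (.node (.node (.leaf 4187) (.leaf 35218)) (.node (.leaf 16510) (.leaf 0))) (.node (.node (.leaf 9971) (.leaf 0)) (.node (.leaf 24160) (.leaf 0)))))) (.node (.node (.node (.node (.node (.leaf 835) (.leaf 27638)) (.node (.leaf 12328) (.leaf 0))) (.node (.node (.leaf 6290) (.leaf 0)) (.node (.leaf 19216) (.leaf 0)))) (.node (.node (.node (.leaf 3498) (.leaf 33287)) (.node (.leaf 15646) (.leaf 0))) (.node (.node (.leaf 9227) (.leaf 0)) (.node (.leaf 23135) (.leaf 0))))) (.node (.node (.node (.node (.leaf 2158) (.leaf 30239)) (.node (.leaf 13966) (.leaf 0))) (.node (.node (.leaf 7726) (.leaf 0)) (.node (.leaf 21123) (.leaf 0)))) (.node (.node (.node (.leaf 4876) (.leaf 37450))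 (.node (.leaf 17416) (.leaf 0))) (.node (.node (.leaf 10728) (.leaf 0)) (.node (.leaf 25266) (.leaf 0))))))) (.node (.node (.node (.node (.node (.node (.leaf 509) (.leaf 27058)) (.node (.leaf 11923) (.leaf 0))) (.node (.node (.leaf 5918) (.leaf 0)) (.node (.leaf 18799) (.leaf 0)))) (.node (.node (.node (.leaf 3144) (.leaf 32460)) (.node (.leaf 15235) (.leaf 0))) (.node (.node (.leaf 8840) (.leaf 0)) (.node (.leaf 22629) (.leaf 0))))) (.node (.node (.node (.node (.leaf 1824) (.leaf 29561)) (.node (.leaf 13553) (.leaf 0))) (.node (.node (.leaf 7365) (.leaf 0)) (.node (.leaf 20641) (.leaf 0)))) (.node (.node (.node (.leaf 4537) (.leaf 36273)) (.node (.leaf 16962) (.leaf 0))) (.node (.node (.leaf 10344) (.leaf 0)) (.node (.leaf 24730) (.leaf 0)))))) (.node (.node (.node (.node (.node (.leaf 1162) (.leaf 28242)) (.node (.leaf 12733) (.leaf 0))) (.node (.node (.leaf 6645) (.leaf 0)) (.node (.leaf 19666) (.leaf 0)))) (.node (.node (.node (.leaf 3836) (.leaf 34253)) (.node (.leaf 16095) (.leaf 0))) (.node (.node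 (.leaf 9608) (.leaf 0)) (.node (.leaf 23659) (.leaf 0))))) (.node (.node (.node (.node (.leaf 2491) (.leaf 30933)) (.node (.leaf 14360) (.leaf 0))) (.node (.node (.leaf 8087) (.leaf 0)) (.node (.leaf 21614) (.leaf 0)))) (.node (.node (.node (.leaf 5223) (.leaf 38914)) (.node (.leaf 17859) (.leaf 0))) (.node (.node (.leaf 11116) (.leaf 0)) (.node (.leaf 25848) (.leaf 0))))))))

def pT22 : NT := .node (.node (.node (.node (.node (.node (.node (.node (.leaf 27) (.leaf 26154)) (.node (.leaf 11311) (.leaf 0))) (.node (.node (.leaf 5396) (.leaf 40506)) (.node (.leaf 18082) (.leaf 0)))) (.node (.node (.node (.leaf 2654) (.leaf 31292)) (.node (.leaf 14580) (.leaf 0))) (.node (.node (.leaf 8280) (.leaf 0)) (.node (.leaf 21863) (.leaf 0))))) (.node (.node (.node (.node (.leaf 1328) (.leaf 28558)) (.node (.leaf 12937) (.leaf 0))) (.node (.node (.leaf 6833) (.leaf 0)) (.node (.leaf 19902) (.leaf 0)))) (.node (.node (.node (.leaf 4012) (.leaf 34738)) (.node (.leaf 16318) (.leaf 0))) (.node (.node (.leaf 9783) (.leaf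 0)) (.node (.leaf 23908) (.leaf 0)))))) (.node (.node (.node (.node (.node (.leaf 674) (.leaf 27374)) (.node (.leaf 12127) (.leaf 0))) (.node (.node (.leaf 6100) (.leaf 0)) (.node (.leaf 19016) (.leaf 0)))) (.node (.node (.node (.leaf 3318) (.leaf 32875)) (.node (.leaf 15446) (.leaf 0))) (.node (.node (.leaf 9036) (.leaf 0)) (.node (.leaf 22872) (.leaf 0))))) (.node (.node (.node (.node (.leaf 1995) (.leaf 29882)) (.node (.leaf 13746) (.leaf 0))) (.node (.node (.leaf 7543) (.leaf 0)) (.node (.leaf 20880) (.leaf 0)))) (.node (.node (.node (.leaf 4710) (.leaf 36913)) (.node (.leaf 17189) (.leaf 0))) (.node (.node (.leaf 10532) (.leaf 0)) (.node (.leaf 25010) (.leaf 0))))))) (.node (.node (.node (.node (.node (.node (.leaf 348) (.leaf 26754)) (.node (.leaf 11720) (.leaf 0))) (.node (.node (.leaf 5750) (.leaf 0)) (.node (.leaf 18547) (.leaf 0)))) (.node (.node (.node (.leaf 2981) (.leaf 32092)) (.node (.leaf 15022) (.leaf 0))) (.node (.node (.leaf 8651) (.leaf 0)) (.node (.leaf 22384) (.leaf 0))))) (.node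 (.node (.node (.node (.leaf 1658) (.leaf 29240)) (.node (.leaf 13340) (.leaf 0))) (.node (.node (.leaf 7191) (.leaf 0)) (.node (.leaf 20396) (.leaf 0)))) (.node (.node (.node (.leaf 4364) (.leaf 35745)) (.node (.leaf 16738) (.leaf 0))) (.node (.node (.leaf 10147) (.leaf 0)) (.node (.leaf 24445) (.leaf 0)))))) (.node (.node (.node (.node (.node (.leaf 1001) (.leaf 27914)) (.node (.leaf 12532) (.leaf 0))) (.node (.node (.leaf 6474) (.leaf 0)) (.node (.leaf 19446) (.leaf 0)))) (.node (.node (.node (.leaf 3669) (.leaf 33740)) (.node (.leaf 15858) (.leaf 0))) (.node (.node (.leaf 9432) (.leaf 0)) (.node (.leaf 23402) (.leaf 0))))) (.node (.node (.node (.node (.leaf 2326) (.leaf 30567)) (.node (.leaf 14174) (.leaf 0))) (.node (.node (.leaf 7909) (.leaf 0)) (.node (.leaf 21365) (.leaf 0)))) (.node (.node (.node (.leaf 5048) (.leaf 38152)) (.node (.leaf 17640) (.leaf 0))) (.node (.node (.leaf 10929) (.leaf 0)) (.node (.leaf 25551) (.leaf 0)))))))) (.node (.node (.node (.node (.node (.node (.node (.leaf 188) (.leaf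 26434)) (.node (.leaf 11494) (.leaf 0))) (.node (.node (.leaf 5576) (.leaf 0)) (.node (.leaf 18307) (.leaf 0)))) (.node (.node (.node (.leaf 2816) (.leaf 31674)) (.node (.leaf 14795) (.leaf 0))) (.node (.node (.leaf 8465) (.leaf 0)) (.node (.leaf 22116) (.leaf 0))))) (.node (.node (.node (.node (.leaf 1491) (.leaf 28908)) (.node (.leaf 13140) (.leaf 0))) (.node (.node (.leaf 7011) (.leaf 0)) (.node (.leaf 20139) (.leaf 0)))) (.node (.node (.node (.leaf 4188) (.leaf 35220)) (.node (.leaf 16512) (.leaf 0))) (.node (.node (.leaf 9972) (.leaf 0)) (.node (.leaf 24164) (.leaf 0)))))) (.node (.node (.node (.node (.node (.leaf 836) (.leaf 27644)) (.node (.leaf 12331) (.leaf 0))) (.node (.node (.leaf 6291) (.leaf 0)) (.node (.leaf 19218) (.leaf 0)))) (.node (.node (.node (.leaf 3500) (.leaf 33288)) (.node (.leaf 15648) (.leaf 0))) (.node (.node (.leaf 9228) (.leaf 0)) (.node (.leaf 23136) (.leaf 0))))) (.node (.node (.node (.node (.leaf 2160) (.leaf 30242)) (.node (.leaf 13968) (.leaf 0))) (.node (.node (.leaf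 7727) (.leaf 0)) (.node (.leaf 21124) (.leaf 0)))) (.node (.node (.node (.leaf 4878) (.leaf 37455)) (.node (.leaf 17418) (.leaf 0))) (.node (.node (.leaf 10730) (.leaf 0)) (.node (.leaf 25268) (.leaf 0))))))) (.node (.node (.node (.node (.node (.node (.leaf 510) (.leaf 27060)) (.node (.leaf 11925) (.leaf 0))) (.node (.node (.leaf 5919) (.leaf 0)) (.node (.leaf 18800) (.leaf 0)))) (.node (.node (.node (.leaf 3146) (.leaf 32464)) (.node (.leaf 15236) (.leaf 0))) (.node (.node (.leaf 8843) (.leaf 0)) (.node (.leaf 22635) (.leaf 0))))) (.node (.node (.node (.node (.leaf 1826) (.leaf 29568)) (.node (.leaf 13554) (.leaf 0))) (.node (.node (.leaf 7366) (.leaf 0)) (.node (.leaf 20642) (.leaf 0)))) (.node (.node (.node (.leaf 4538) (.leaf 36274)) (.node (.leaf 16963) (.leaf 0))) (.node (.node (.leaf 10345) (.leaf 0)) (.node (.leaf 24731) (.leaf 0)))))) (.node (.node (.node (.node (.node (.leaf 1163) (.leaf 28244)) (.node (.leaf 12735) (.leaf 0))) (.node (.node (.leaf 6646) (.leaf 0)) (.node (.leaf 19668) (.leaf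 0)))) (.node (.node (.node (.leaf 3837) (.leaf 34256)) (.node (.leaf 16096) (.leaf 0))) (.node (.node (.leaf 9609) (.leaf 0)) (.node (.leaf 23664) (.leaf 0))))) (.node (.node (.node (.node (.leaf 2492) (.leaf 30941)) (.node (.leaf 14361) (.leaf 0))) (.node (.node (.leaf 8088) (.leaf 0)) (.node (.leaf 21616) (.leaf 0)))) (.node (.node (.node (.leaf 5224) (.leaf 38917)) (.node (.leaf 17860) (.leaf 0))) (.node (.node (.leaf 11117) (.leaf 0)) (.node (.leaf 25852) (.leaf 0))))))))

def pT23 : NT := .node (.node (.node (.node (.node (.node (.node (.node (.leaf 28) (.leaf 26158)) (.node (.leaf 11315) (.leaf 0))) (.node (.node (.leaf 5397) (.leaf 40524)) (.node (.leaf 18083) (.leaf 0)))) (.node (.node (.node (.leaf 2655) (.leaf 31293)) (.node (.leaf 14582) (.leaf 0))) (.node (.node (.leaf 8282) (.leaf 0)) (.node (.leaf 21869) (.leaf 0))))) (.node (.node (.node (.node (.leaf 1330) (.leaf 28559)) (.node (.leaf 12938) (.leaf 0))) (.node (.node (.leaf 6834) (.leaf 0)) (.node (.leaf 19903) (.leaf 0)))) (.node (.node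 (.node (.leaf 4014) (.leaf 34752)) (.node (.leaf 16319) (.leaf 0))) (.node (.node (.leaf 9784) (.leaf 0)) (.node (.leaf 23909) (.leaf 0)))))) (.node (.node (.node (.node (.node (.leaf 675) (.leaf 27375)) (.node (.leaf 12129) (.leaf 0))) (.node (.node (.leaf 6103) (.leaf 0)) (.node (.leaf 19017) (.leaf 0)))) (.node (.node (.node (.leaf 3320) (.leaf 32879)) (.node (.leaf 15448) (.leaf 0))) (.node (.node (.leaf 9037) (.leaf 0)) (.node (.leaf 22874) (.leaf 0))))) (.node (.node (.node (.node (.leaf 1996) (.leaf 29885)) (.node (.leaf 13747) (.leaf 0))) (.node (.node (.leaf 7544) (.leaf 0)) (.node (.leaf 20881) (.leaf 0)))) (.node (.node (.node (.leaf 4711) (.leaf 36918)) (.node (.leaf 17190) (.leaf 0))) (.node (.node (.leaf 10533) (.leaf 0)) (.node (.leaf 25011) (.leaf 0))))))) (.node (.node (.node (.node (.node (.node (.leaf 350) (.leaf 26756)) (.node (.leaf 11721) (.leaf 0))) (.node (.node (.leaf 5752) (.leaf 0)) (.node (.leaf 18548) (.leaf 0)))) (.node (.node (.node (.leaf 2982) (.leaf 32095)) (.node (.leaf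 15023) (.leaf 0))) (.node (.node (.leaf 8652) (.leaf 0)) (.node (.leaf 22389) (.leaf 0))))) (.node (.node (.node (.node (.leaf 1660) (.leaf 29246)) (.node (.leaf 13341) (.leaf 0))) (.node (.node (.leaf 7192) (.leaf 0)) (.node (.leaf 20397) (.leaf 0)))) (.node (.node (.node (.leaf 4365) (.leaf 35749)) (.node (.leaf 16740) (.leaf 0))) (.node (.node (.leaf 10149) (.leaf 0)) (.node (.leaf 24446) (.leaf 0)))))) (.node (.node (.node (.node (.node (.leaf 1002) (.leaf 27916)) (.node (.leaf 12534) (.leaf 0))) (.node (.node (.leaf 6475) (.leaf 0)) (.node (.leaf 19447) (.leaf 0)))) (.node (.node (.node (.leaf 3670) (.leaf 33744)) (.node (.leaf 15860) (.leaf 0))) (.node (.node (.leaf 9434) (.leaf 0)) (.node (.leaf 23406) (.leaf 0))))) (.node (.node (.node (.node (.leaf 2327) (.leaf 30568)) (.node (.leaf 14176) (.leaf 0))) (.node (.node (.leaf 7910) (.leaf 0)) (.node (.leaf 21366) (.leaf 0)))) (.node (.node (.node (.leaf 5050) (.leaf 38181)) (.node (.leaf 17642) (.leaf 0))) (.node (.node (.leaf 10930) (.leaf 0)) (.node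 (.leaf 25552) (.leaf 0)))))))) (.node (.node (.node (.node (.node (.node (.node (.leaf 189) (.leaf 26440)) (.node (.leaf 11495) (.leaf 0))) (.node (.node (.leaf 5578) (.leaf 0)) (.node (.leaf 18308) (.leaf 0)))) (.node (.node (.node (.leaf 2817) (.leaf 31675)) (.node (.leaf 14796) (.leaf 0))) (.node (.node (.leaf 8466) (.leaf 0)) (.node (.leaf 22118) (.leaf 0))))) (.node (.node (.node (.node (.leaf 1492) (.leaf 28910)) (.node (.leaf 13143) (.leaf 0))) (.node (.node (.leaf 7012) (.leaf 0)) (.node (.leaf 20140) (.leaf 0)))) (.node (.node (.node (.leaf 4190) (.leaf 35221)) (.node (.leaf 16513) (.leaf 0))) (.node (.node (.leaf 9974) (.leaf 0)) (.node (.leaf 24165) (.leaf 0)))))) (.node (.node (.node (.node (.node (.leaf 838) (.leaf 27646)) (.node (.leaf 12332) (.leaf 0))) (.node (.node (.leaf 6292) (.leaf 0)) (.node (.leaf 19220) (.leaf 0)))) (.node (.node (.node (.leaf 3501) (.leaf 33291)) (.node (.leaf 15650) (.leaf 0))) (.node (.node (.leaf 9229) (.leaf 0)) (.node (.leaf 23137) (.leaf 0))))) (.node (.node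 (.node (.node (.leaf 2161) (.leaf 30244)) (.node (.leaf 13969) (.leaf 0))) (.node (.node (.leaf 7728) (.leaf 0)) (.node (.leaf 21126) (.leaf 0)))) (.node (.node (.node (.leaf 4879) (.leaf 37461)) (.node (.leaf 17419) (.leaf 0))) (.node (.node (.leaf 10731) (.leaf 0)) (.node (.leaf 25272) (.leaf 0))))))) (.node (.node (.node (.node (.node (.node (.leaf 511) (.leaf 27064)) (.node (.leaf 11928) (.leaf 0))) (.node (.node (.leaf 5920) (.leaf 0)) (.node (.leaf 18803) (.leaf 0)))) (.node (.node (.node (.leaf 3148) (.leaf 32465)) (.node (.leaf 15239) (.leaf 0))) (.node (.node (.leaf 8844) (.leaf 0)) (.node (.leaf 22636) (.leaf 0))))) (.node (.node (.node (.node (.leaf 1827) (.leaf 29570)) (.node (.leaf 13555) (.leaf 0))) (.node (.node (.leaf 7367) (.leaf 0)) (.node (.leaf 20644) (.leaf 0)))) (.node (.node (.node (.leaf 4539) (.leaf 36282)) (.node (.leaf 16964) (.leaf 0))) (.node (.node (.leaf 10346) (.leaf 0)) (.node (.leaf 24734) (.leaf 0)))))) (.node (.node (.node (.node (.node (.leaf 1164) (.leaf 28246)) (.node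 (.leaf 12736) (.leaf 0))) (.node (.node (.leaf 6648) (.leaf 0)) (.node (.leaf 19670) (.leaf 0)))) (.node (.node (.node (.leaf 3838) (.leaf 34260)) (.node (.leaf 16097) (.leaf 0))) (.node (.node (.leaf 9610) (.leaf 0)) (.node (.leaf 23666) (.leaf 0))))) (.node (.node (.node (.node (.leaf 2493) (.leaf 30943)) (.node (.leaf 14362) (.leaf 0))) (.node (.node (.leaf 8091) (.leaf 0)) (.node (.leaf 21617) (.leaf 0)))) (.node (.node (.node (.leaf 5225) (.leaf 38923)) (.node (.leaf 17861) (.leaf 0))) (.node (.node (.leaf 11118) (.leaf 0)) (.node (.leaf 25853) (.leaf 0))))))))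

def pT24 : NT := .node (.node (.node (.node (.node (.node (.node (.node (.leaf 29) (.leaf 26160)) (.node (.leaf 11316) (.leaf 0))) (.node (.node (.leaf 5398) (.leaf 40546)) (.node (.leaf 18085) (.leaf 0)))) (.node (.node (.node (.leaf 2656) (.leaf 31296)) (.node (.leaf 14585) (.leaf 0))) (.node (.node (.leaf 8283) (.leaf 0)) (.node (.leaf 21870) (.leaf 0))))) (.node (.node (.node (.node (.leaf 1331) (.leaf 28560)) (.node (.leaf 12939) (.leaf 0))) (.node (.node (.leaf 6836) (.leaf 0)) (.node (.leaf 19904) (.leaf 0)))) (.node (.node (.node (.leaf 4015) (.leaf 34758)) (.node (.leaf 16320) (.leaf 0))) (.node (.node (.leaf 9787) (.leaf 0)) (.node (.leaf 23910) (.leaf 0)))))) (.node (.node (.node (.node (.node (.leaf 676) (.leaf 27376)) (.node (.leaf 12130) (.leaf 0))) (.node (.node (.leaf 6104) (.leaf 0)) (.node (.leaf 19018) (.leaf 0)))) (.node (.node (.node (.leaf 3321) (.leaf 32885)) (.node (.leaf 15450) (.leaf 0))) (.node (.node (.leaf 9040) (.leaf 0)) (.node (.leaf 22879) (.leaf 0))))) (.node (.node (.node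 (.node (.leaf 1998) (.leaf 29890)) (.node (.leaf 13749) (.leaf 0))) (.node (.node (.leaf 7545) (.leaf 0)) (.node (.leaf 20882) (.leaf 0)))) (.node (.node (.node (.leaf 4712) (.leaf 36921)) (.node (.leaf 17192) (.leaf 0))) (.node (.node (.leaf 10534) (.leaf 0)) (.node (.leaf 25016) (.leaf 0))))))) (.node (.node (.node (.node (.node (.node (.leaf 351) (.leaf 26760)) (.node (.leaf 11724) (.leaf 0))) (.node (.node (.leaf 5753) (.leaf 0)) (.node (.leaf 18549) (.leaf 0)))) (.node (.node (.node (.leaf 2983) (.leaf 32096)) (.node (.leaf 15027) (.leaf 0))) (.node (.node (.leaf 8654) (.leaf 0)) (.node (.leaf 22392) (.leaf 0))))) (.node (.node (.node (.node (.leaf 1661) (.leaf 29248)) (.node (.leaf 13342) (.leaf 0))) (.node (.node (.leaf 7194) (.leaf 0)) (.node (.leaf 20398) (.leaf 0)))) (.node (.node (.node (.leaf 4366) (.leaf 35755)) (.node (.leaf 16741) (.leaf 0))) (.node (.node (.leaf 10150) (.leaf 0)) (.node (.leaf 24448) (.leaf 0)))))) (.node (.node (.node (.node (.node (.leaf 1005) (.leaf 27917)) (.node (.leaf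 12536) (.leaf 0))) (.node (.node (.leaf 6476) (.leaf 0)) (.node (.leaf 19451) (.leaf 0)))) (.node (.node (.node (.leaf 3672) (.leaf 33748)) (.node (.leaf 15863) (.leaf 0))) (.node (.node (.leaf 9435) (.leaf 0)) (.node (.leaf 23411) (.leaf 0))))) (.node (.node (.node (.node (.leaf 2328) (.leaf 30572)) (.node (.leaf 14177) (.leaf 0))) (.node (.node (.leaf 7911) (.leaf 0)) (.node (.leaf 21367) (.leaf 0)))) (.node (.node (.node (.leaf 5051) (.leaf 38183)) (.node (.leaf 17643) (.leaf 0))) (.node (.node (.leaf 10931) (.leaf 0)) (.node (.leaf 25555) (.leaf 0)))))))) (.node (.node (.node (.node (.node (.node (.node (.leaf 190) (.leaf 26442)) (.node (.leaf 11496) (.leaf 0))) (.node (.node (.leaf 5579) (.leaf 0)) (.node (.leaf 18309) (.leaf 0)))) (.node (.node (.node (.leaf 2818) (.leaf 31679)) (.node (.leaf 14798) (.leaf 0))) (.node (.node (.leaf 8469) (.leaf 0)) (.node (.leaf 22120) (.leaf 0))))) (.node (.node (.node (.node (.leaf 1494) (.leaf 28911)) (.node (.leaf 13145) (.leaf 0))) (.node (.node (.leaf 7013)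 (.leaf 0)) (.node (.leaf 20143) (.leaf 0)))) (.node (.node (.node (.leaf 4191) (.leaf 35222)) (.node (.leaf 16514) (.leaf 0))) (.node (.node (.leaf 9975) (.leaf 0)) (.node (.leaf 24168) (.leaf 0)))))) (.node (.node (.node (.node (.node (.leaf 839) (.leaf 27649)) (.node (.leaf 12333) (.leaf 0))) (.node (.node (.leaf 6293) (.leaf 0)) (.node (.leaf 19221) (.leaf 0)))) (.node (.node (.node (.leaf 3502) (.leaf 33303)) (.node (.leaf 15652) (.leaf 0))) (.node (.node (.leaf 9232) (.leaf 0)) (.node (.leaf 23142) (.leaf 0))))) (.node (.node (.node (.node (.leaf 2162) (.leaf 30249)) (.node (.leaf 13970) (.leaf 0))) (.node (.node (.leaf 7731) (.leaf 0)) (.node (.leaf 21127) (.leaf 0)))) (.node (.node (.node (.leaf 4880) (.leaf 37464)) (.node (.leaf 17420) (.leaf 0))) (.node (.node (.leaf 10732) (.leaf 0)) (.node (.leaf 25273) (.leaf 0))))))) (.node (.node (.node (.node (.node (.node (.leaf 512) (.leaf 27068)) (.node (.leaf 11929) (.leaf 0))) (.node (.node (.leaf 5922) (.leaf 0)) (.node (.leaf 18804) (.leaf 0)))) (.node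 (.node (.node (.leaf 3149) (.leaf 32466)) (.node (.leaf 15240) (.leaf 0))) (.node (.node (.leaf 8845) (.leaf 0)) (.node (.leaf 22637) (.leaf 0))))) (.node (.node (.node (.node (.leaf 1828) (.leaf 29574)) (.node (.leaf 13556) (.leaf 0))) (.node (.node (.leaf 7368) (.leaf 0)) (.node (.leaf 20646) (.leaf 0)))) (.node (.node (.node (.leaf 4540) (.leaf 36286)) (.node (.leaf 16966) (.leaf 0))) (.node (.node (.leaf 10347) (.leaf 0)) (.node (.leaf 24737) (.leaf 0)))))) (.node (.node (.node (.node (.node (.leaf 1165) (.leaf 28247)) (.node (.leaf 12739) (.leaf 0))) (.node (.node (.leaf 6649) (.leaf 0)) (.node (.leaf 19671) (.leaf 0)))) (.node (.node (.node (.leaf 3840) (.leaf 34262)) (.node (.leaf 16098) (.leaf 0))) (.node (.node (.leaf 9612) (.leaf 0)) (.node (.leaf 23669) (.leaf 0))))) (.node (.node (.node (.node (.leaf 2494) (.leaf 30945)) (.node (.leaf 14364) (.leaf 0))) (.node (.node (.leaf 8092) (.leaf 0)) (.node (.leaf 21620) (.leaf 0)))) (.node (.node (.node (.leaf 5228) (.leaf 38926)) (.node (.leaf 17862)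 (.leaf 0))) (.node (.node (.leaf 11119) (.leaf 0)) (.node (.leaf 25854) (.leaf 0))))))))

def pT25 : NT := .node (.node (.node (.node (.node (.node (.node (.node (.leaf 30) (.leaf 26162)) (.node (.leaf 11318) (.leaf 0))) (.node (.node (.leaf 5400) (.leaf 40558)) (.node (.leaf 18086) (.leaf 0)))) (.node (.node (.node (.leaf 2657) (.leaf 31304)) (.node (.leaf 14589) (.leaf 0))) (.node (.node (.leaf 8284) (.leaf 0)) (.node (.leaf 21871) (.leaf 0))))) (.node (.node (.node (.node (.leaf 1332) (.leaf 28562)) (.node (.leaf 12940) (.leaf 0))) (.node (.node (.leaf 6837) (.leaf 0)) (.node (.leaf 19906) (.leaf 0)))) (.node (.node (.node (.leaf 4016) (.leaf 34762)) (.node (.leaf 16321) (.leaf 0))) (.node (.node (.leaf 9788) (.leaf 0)) (.node (.leaf 23911) (.leaf 0)))))) (.node (.node (.node (.node (.node (.leaf 678) (.leaf 27377)) (.node (.leaf 12132) (.leaf 0))) (.node (.node (.leaf 6106) (.leaf 0)) (.node (.leaf 19019) (.leaf 0)))) (.node (.node (.node (.leaf 3322) (.leaf 32887)) (.node (.leaf 15451) (.leaf 0)))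 (.node (.node (.leaf 9041) (.leaf 0)) (.node (.leaf 22880) (.leaf 0))))) (.node (.node (.node (.node (.leaf 1999) (.leaf 29891)) (.node (.leaf 13750) (.leaf 0))) (.node (.node (.leaf 7546) (.leaf 0)) (.node (.leaf 20884) (.leaf 0)))) (.node (.node (.node (.leaf 4714) (.leaf 36923)) (.node (.leaf 17193) (.leaf 0))) (.node (.node (.leaf 10536) (.leaf 0)) (.node (.leaf 25023) (.leaf 0))))))) (.node (.node (.node (.node (.node (.node (.leaf 352) (.leaf 26765)) (.node (.leaf 11725) (.leaf 0))) (.node (.node (.leaf 5754) (.leaf 0)) (.node (.leaf 18550) (.leaf 0)))) (.node (.node (.node (.leaf 2984) (.leaf 32099)) (.node (.leaf 15028) (.leaf 0))) (.node (.node (.leaf 8655) (.leaf 0)) (.node (.leaf 22396) (.leaf 0))))) (.node (.node (.node (.node (.leaf 1662) (.leaf 29249)) (.node (.leaf 13344) (.leaf 0))) (.node (.node (.leaf 7195) (.leaf 0)) (.node (.leaf 20399) (.leaf 0)))) (.node (.node (.node (.leaf 4367) (.leaf 35758)) (.node (.leaf 16742) (.leaf 0))) (.node (.node (.leaf 10152) (.leaf 0)) (.node (.leaf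 24449) (.leaf 0)))))) (.node (.node (.node (.node (.node (.leaf 1006) (.leaf 27923)) (.node (.leaf 12537) (.leaf 0))) (.node (.node (.leaf 6478) (.leaf 0)) (.node (.leaf 19452) (.leaf 0)))) (.node (.node (.node (.leaf 3673) (.leaf 33749)) (.node (.leaf 15864) (.leaf 0))) (.node (.node (.leaf 9436) (.leaf 0)) (.node (.leaf 23412) (.leaf 0))))) (.node (.node (.node (.node (.leaf 2330) (.leaf 30573)) (.node (.leaf 14178) (.leaf 0))) (.node (.node (.leaf 7912) (.leaf 0)) (.node (.leaf 21368) (.leaf 0)))) (.node (.node (.node (.leaf 5052) (.leaf 38190)) (.node (.leaf 17644) (.leaf 0))) (.node (.node (.leaf 10933) (.leaf 0)) (.node (.leaf 25558) (.leaf 0)))))))) (.node (.node (.node (.node (.node (.node (.node (.leaf 192) (.leaf 26446)) (.node (.leaf 11498) (.leaf 0))) (.node (.node (.leaf 5580) (.leaf 0)) (.node (.leaf 18312) (.leaf 0)))) (.node (.node (.node (.leaf 2820) (.leaf 31688)) (.node (.leaf 14800) (.leaf 0))) (.node (.node (.leaf 8470) (.leaf 0)) (.node (.leaf 22122) (.leaf 0))))) (.node (.node (.node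 (.node (.leaf 1495) (.leaf 28914)) (.node (.leaf 13146) (.leaf 0))) (.node (.node (.leaf 7014) (.leaf 0)) (.node (.leaf 20146) (.leaf 0)))) (.node (.node (.node (.leaf 4192) (.leaf 35228)) (.node (.leaf 16515) (.leaf 0))) (.node (.node (.leaf 9976) (.leaf 0)) (.node (.leaf 24169) (.leaf 0)))))) (.node (.node (.node (.node (.node (.leaf 840) (.leaf 27650)) (.node (.leaf 12334) (.leaf 0))) (.node (.node (.leaf 6296) (.leaf 0)) (.node (.leaf 19225) (.leaf 0)))) (.node (.node (.node (.leaf 3503) (.leaf 33304)) (.node (.leaf 15653) (.leaf 0))) (.node (.node (.leaf 9234) (.leaf 0)) (.node (.leaf 23145) (.leaf 0))))) (.node (.node (.node (.node (.leaf 2163) (.leaf 30250)) (.node (.leaf 13971) (.leaf 0))) (.node (.node (.leaf 7732) (.leaf 0)) (.node (.leaf 21128) (.leaf 0)))) (.node (.node (.node (.leaf 4882) (.leaf 37480)) (.node (.leaf 17422) (.leaf 0))) (.node (.node (.leaf 10733) (.leaf 0)) (.node (.leaf 25276) (.leaf 0))))))) (.node (.node (.node (.node (.node (.node (.leaf 514) (.leaf 27069)) (.node (.leaf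 11930) (.leaf 0))) (.node (.node (.leaf 5923) (.leaf 0)) (.node (.leaf 18805) (.leaf 0)))) (.node (.node (.node (.leaf 3150) (.leaf 32468)) (.node (.leaf 15242) (.leaf 0))) (.node (.node (.leaf 8846) (.leaf 0)) (.node (.leaf 22638) (.leaf 0))))) (.node (.node (.node (.node (.leaf 1829) (.leaf 29577)) (.node (.leaf 13558) (.leaf 0))) (.node (.node (.leaf 7370) (.leaf 0)) (.node (.leaf 20650) (.leaf 0)))) (.node (.node (.node (.leaf 4542) (.leaf 36295)) (.node (.leaf 16967) (.leaf 0))) (.node (.node (.leaf 10348) (.leaf 0)) (.node (.leaf 24738) (.leaf 0)))))) (.node (.node (.node (.node (.node (.leaf 1166) (.leaf 28248)) (.node (.leaf 12740) (.leaf 0))) (.node (.node (.leaf 6650) (.leaf 0)) (.node (.leaf 19672) (.leaf 0)))) (.node (.node (.node (.leaf 3841) (.leaf 34268)) (.node (.leaf 16101) (.leaf 0))) (.node (.node (.leaf 9613) (.leaf 0)) (.node (.leaf 23671) (.leaf 0))))) (.node (.node (.node (.node (.leaf 2496) (.leaf 30946)) (.node (.leaf 14368) (.leaf 0))) (.node (.node (.leaf 8094) (.leaf 0)) (.node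 (.leaf 21624) (.leaf 0)))) (.node (.node (.node (.leaf 5229) (.leaf 38944)) (.node (.leaf 17863) (.leaf 0))) (.node (.node (.leaf 11120) (.leaf 0)) (.node (.leaf 25860) (.leaf 0))))))))

def pT26 : NT := .node (.node (.node (.node (.node (.node (.node (.node (.leaf 32) (.leaf 26163)) (.node (.leaf 11320) (.leaf 0))) (.node (.node (.leaf 5401) (.leaf 40560)) (.node (.leaf 18088) (.leaf 0)))) (.node (.node (.node (.leaf 2659) (.leaf 31306)) (.node (.leaf 14590) (.leaf 0))) (.node (.node (.leaf 8286) (.leaf 0)) (.node (.leaf 21872) (.leaf 0))))) (.node (.node (.node (.node (.leaf 1333) (.leaf 28564)) (.node (.leaf 12944) (.leaf 0))) (.node (.node (.leaf 6838) (.leaf 0)) (.node (.leaf 19910) (.leaf 0)))) (.node (.node (.node (.leaf 4018) (.leaf 34765)) (.node (.leaf 16322) (.leaf 0))) (.node (.node (.leaf 9789) (.leaf 0)) (.node (.leaf 23912) (.leaf 0)))))) (.node (.node (.node (.node (.node (.leaf 679) (.leaf 27380)) (.node (.leaf 12134) (.leaf 0))) (.node (.node (.leaf 6107) (.leaf 0)) (.node (.leaf 19020)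 (.leaf 0)))) (.node (.node (.node (.leaf 3323) (.leaf 32890)) (.node (.leaf 15452) (.leaf 0))) (.node (.node (.leaf 9042) (.leaf 0)) (.node (.leaf 22883) (.leaf 0))))) (.node (.node (.node (.node (.leaf 2000) (.leaf 29892)) (.node (.leaf 13752) (.leaf 0))) (.node (.node (.leaf 7548) (.leaf 0)) (.node (.leaf 20885) (.leaf 0)))) (.node (.node (.node (.leaf 4715) (.leaf 36930)) (.node (.leaf 17198) (.leaf 0))) (.node (.node (.leaf 10537) (.leaf 0)) (.node (.leaf 25027) (.leaf 0))))))) (.node (.node (.node (.node (.node (.node (.leaf 354) (.leaf 26766)) (.node (.leaf 11728) (.leaf 0))) (.node (.node (.leaf 5756) (.leaf 0)) (.node (.leaf 18554) (.leaf 0)))) (.node (.node (.node (.leaf 2986) (.leaf 32104)) (.node (.leaf 15030) (.leaf 0))) (.node (.node (.leaf 8656) (.leaf 0)) (.node (.leaf 22398) (.leaf 0))))) (.node (.node (.node (.node (.leaf 1663) (.leaf 29250)) (.node (.leaf 13346) (.leaf 0))) (.node (.node (.leaf 7196) (.leaf 0)) (.node (.leaf 20400) (.leaf 0)))) (.node (.node (.node (.leaf 4368) (.leaf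 35766)) (.node (.leaf 16744) (.leaf 0))) (.node (.node (.leaf 10156) (.leaf 0)) (.node (.leaf 24458) (.leaf 0)))))) (.node (.node (.node (.node (.node (.leaf 1008) (.leaf 27930)) (.node (.leaf 12538) (.leaf 0))) (.node (.node (.leaf 6479) (.leaf 0)) (.node (.leaf 19453) (.leaf 0)))) (.node (.node (.node (.leaf 3674) (.leaf 33750)) (.node (.leaf 15865) (.leaf 0))) (.node (.node (.leaf 9439) (.leaf 0)) (.node (.leaf 23414) (.leaf 0))))) (.node (.node (.node (.node (.leaf 2331) (.leaf 30574)) (.node (.leaf 14180) (.leaf 0))) (.node (.node (.leaf 7914) (.leaf 0)) (.node (.leaf 21369) (.leaf 0)))) (.node (.node (.node (.leaf 5054) (.leaf 38204)) (.node (.leaf 17647) (.leaf 0))) (.node (.node (.leaf 10934) (.leaf 0)) (.node (.leaf 25560) (.leaf 0)))))))) (.node (.node (.node (.node (.node (.node (.node (.leaf 193) (.leaf 26447)) (.node (.leaf 11502) (.leaf 0))) (.node (.node (.leaf 5582) (.leaf 0)) (.node (.leaf 18314) (.leaf 0)))) (.node (.node (.node (.leaf 2821) (.leaf 31692)) (.node (.leaf 14803) (.leaf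 0))) (.node (.node (.leaf 8471) (.leaf 0)) (.node (.leaf 22125) (.leaf 0))))) (.node (.node (.node (.node (.leaf 1496) (.leaf 28922)) (.node (.leaf 13148) (.leaf 0))) (.node (.node (.leaf 7016) (.leaf 0)) (.node (.leaf 20148) (.leaf 0)))) (.node (.node (.node (.leaf 4193) (.leaf 35230)) (.node (.leaf 16516) (.leaf 0))) (.node (.node (.leaf 9977) (.leaf 0)) (.node (.leaf 24172) (.leaf 0)))))) (.node (.node (.node (.node (.node (.leaf 842) (.leaf 27653)) (.node (.leaf 12335) (.leaf 0))) (.node (.node (.leaf 6297) (.leaf 0)) (.node (.leaf 19226) (.leaf 0)))) (.node (.node (.node (.leaf 3504) (.leaf 33308)) (.node (.leaf 15654) (.leaf 0))) (.node (.node (.leaf 9236) (.leaf 0)) (.node (.leaf 23148) (.leaf 0))))) (.node (.node (.node (.node (.leaf 2164) (.leaf 30251)) (.node (.leaf 13972) (.leaf 0))) (.node (.node (.leaf 7733) (.leaf 0)) (.node (.leaf 21132) (.leaf 0)))) (.node (.node (.node (.leaf 4883) (.leaf 37483)) (.node (.leaf 17426) (.leaf 0))) (.node (.node (.leaf 10736) (.leaf 0)) (.node (.leaf 25277)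 (.leaf 0))))))) (.node (.node (.node (.node (.node (.node (.leaf 515) (.leaf 27072)) (.node (.leaf 11932) (.leaf 0))) (.node (.node (.leaf 5924) (.leaf 0)) (.node (.leaf 18806) (.leaf 0)))) (.node (.node (.node (.leaf 3152) (.leaf 32469)) (.node (.leaf 15243) (.leaf 0))) (.node (.node (.leaf 8849) (.leaf 0)) (.node (.leaf 22642) (.leaf 0))))) (.node (.node (.node (.node (.leaf 1830) (.leaf 29580)) (.node (.leaf 13560) (.leaf 0))) (.node (.node (.leaf 7371) (.leaf 0)) (.node (.leaf 20652) (.leaf 0)))) (.node (.node (.node (.leaf 4543) (.leaf 36297)) (.node (.leaf 16968) (.leaf 0))) (.node (.node (.leaf 10349) (.leaf 0)) (.node (.leaf 24741) (.leaf 0)))))) (.node (.node (.node (.node (.node (.leaf 1168) (.leaf 28250)) (.node (.leaf 12741) (.leaf 0))) (.node (.node (.leaf 6651) (.leaf 0)) (.node (.leaf 19674) (.leaf 0)))) (.node (.node (.node (.leaf 3842) (.leaf 34270)) (.node (.leaf 16102) (.leaf 0))) (.node (.node (.leaf 9614) (.leaf 0)) (.node (.leaf 23674) (.leaf 0))))) (.node (.node (.node (.node (.leaf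 2497) (.leaf 30948)) (.node (.leaf 14369) (.leaf 0))) (.node (.node (.leaf 8095) (.leaf 0)) (.node (.leaf 21625) (.leaf 0)))) (.node (.node (.node (.leaf 5230) (.leaf 38948)) (.node (.leaf 17866) (.leaf 0))) (.node (.node (.leaf 11124) (.leaf 0)) (.node (.leaf 25861) (.leaf 0))))))))

def pT27 : NT := .node (.node (.node (.node (.node (.node (.node (.node (.leaf 33) (.leaf 26168)) (.node (.leaf 11321) (.leaf 0))) (.node (.node (.leaf 5402) (.leaf 40614)) (.node (.leaf 18089) (.leaf 0)))) (.node (.node (.node (.leaf 2660) (.leaf 31313)) (.node (.leaf 14591) (.leaf 0))) (.node (.node (.leaf 8287) (.leaf 0)) (.node (.leaf 21873) (.leaf 0))))) (.node (.node (.node (.node (.leaf 1334) (.leaf 28567)) (.node (.leaf 12945) (.leaf 0))) (.node (.node (.leaf 6839) (.leaf 0)) (.node (.leaf 19913) (.leaf 0)))) (.node (.node (.node (.leaf 4019) (.leaf 34766)) (.node (.leaf 16324) (.leaf 0))) (.node (.node (.leaf 9790) (.leaf 0)) (.node (.leaf 23914) (.leaf 0)))))) (.node (.node (.node (.node (.node (.leaf 680) (.leaf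 27382)) (.node (.leaf 12135) (.leaf 0))) (.node (.node (.leaf 6109) (.leaf 0)) (.node (.leaf 19022) (.leaf 0)))) (.node (.node (.node (.leaf 3324) (.leaf 32898)) (.node (.leaf 15455) (.leaf 0))) (.node (.node (.leaf 9045) (.leaf 0)) (.node (.leaf 22884) (.leaf 0))))) (.node (.node (.node (.node (.leaf 2002) (.leaf 29893)) (.node (.leaf 13753) (.leaf 0))) (.node (.node (.leaf 7549) (.leaf 0)) (.node (.leaf 20888) (.leaf 0)))) (.node (.node (.node (.leaf 4716) (.leaf 36934)) (.node (.leaf 17199) (.leaf 0))) (.node (.node (.leaf 10538) (.leaf 0)) (.node (.leaf 25028) (.leaf 0))))))) (.node (.node (.node (.node (.node (.node (.leaf 355) (.leaf 26768)) (.node (.leaf 11729) (.leaf 0))) (.node (.node (.leaf 5758) (.leaf 0)) (.node (.leaf 18556) (.leaf 0)))) (.node (.node (.node (.leaf 2987) (.leaf 32105)) (.node (.leaf 15031) (.leaf 0))) (.node (.node (.leaf 8657) (.leaf 0)) (.node (.leaf 22401) (.leaf 0))))) (.node (.node (.node (.node (.leaf 1664) (.leaf 29252)) (.node (.leaf 13348) (.leaf 0))) (.node (.node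 (.leaf 7197) (.leaf 0)) (.node (.leaf 20401) (.leaf 0)))) (.node (.node (.node (.leaf 4370) (.leaf 35768)) (.node (.leaf 16746) (.leaf 0))) (.node (.node (.leaf 10157) (.leaf 0)) (.node (.leaf 24460) (.leaf 0)))))) (.node (.node (.node (.node (.node (.leaf 1009) (.leaf 27931)) (.node (.leaf 12540) (.leaf 0))) (.node (.node (.leaf 6480) (.leaf 0)) (.node (.leaf 19454) (.leaf 0)))) (.node (.node (.node (.leaf 3676) (.leaf 33751)) (.node (.leaf 15868) (.leaf 0))) (.node (.node (.leaf 9443) (.leaf 0)) (.node (.leaf 23416) (.leaf 0))))) (.node (.node (.node (.node (.leaf 2335) (.leaf 30576)) (.node (.leaf 14181) (.leaf 0))) (.node (.node (.leaf 7915) (.leaf 0)) (.node (.leaf 21372) (.leaf 0)))) (.node (.node (.node (.leaf 5055) (.leaf 38210)) (.node (.leaf 17648) (.leaf 0))) (.node (.node (.leaf 10936) (.leaf 0)) (.node (.leaf 25561) (.leaf 0)))))))) (.node (.node (.node (.node (.node (.node (.node (.leaf 194) (.leaf 26448)) (.node (.leaf 11503) (.leaf 0))) (.node (.node (.leaf 5583) (.leaf 0)) (.node (.leaf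 18315) (.leaf 0)))) (.node (.node (.node (.leaf 2822) (.leaf 31695)) (.node (.leaf 14804) (.leaf 0))) (.node (.node (.leaf 8473) (.leaf 0)) (.node (.leaf 22128) (.leaf 0))))) (.node (.node (.node (.node (.leaf 1498) (.leaf 28924)) (.node (.leaf 13150) (.leaf 0))) (.node (.node (.leaf 7018) (.leaf 0)) (.node (.leaf 20149) (.leaf 0)))) (.node (.node (.node (.leaf 4194) (.leaf 35233)) (.node (.leaf 16518) (.leaf 0))) (.node (.node (.leaf 9978) (.leaf 0)) (.node (.leaf 24173) (.leaf 0)))))) (.node (.node (.node (.node (.node (.leaf 843) (.leaf 27654)) (.node (.leaf 12336) (.leaf 0))) (.node (.node (.leaf 6298) (.leaf 0)) (.node (.leaf 19228) (.leaf 0)))) (.node (.node (.node (.leaf 3506) (.leaf 33310)) (.node (.leaf 15655) (.leaf 0))) (.node (.node (.leaf 9237) (.leaf 0)) (.node (.leaf 23149) (.leaf 0))))) (.node (.node (.node (.node (.leaf 2167) (.leaf 30253)) (.node (.leaf 13974) (.leaf 0))) (.node (.node (.leaf 7737) (.leaf 0)) (.node (.leaf 21134) (.leaf 0)))) (.node (.node (.node (.leaf 4884) (.leaf 37488))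 (.node (.leaf 17427) (.leaf 0))) (.node (.node (.leaf 10737) (.leaf 0)) (.node (.leaf 25278) (.leaf 0))))))) (.node (.node (.node (.node (.node (.node (.leaf 516) (.leaf 27076)) (.node (.leaf 11935) (.leaf 0))) (.node (.node (.leaf 5929) (.leaf 0)) (.node (.leaf 18807) (.leaf 0)))) (.node (.node (.node (.leaf 3153) (.leaf 32470)) (.node (.leaf 15244) (.leaf 0))) (.node (.node (.leaf 8853) (.leaf 0)) (.node (.leaf 22643) (.leaf 0))))) (.node (.node (.node (.node (.leaf 1833) (.leaf 29582)) (.node (.leaf 13561) (.leaf 0))) (.node (.node (.leaf 7372) (.leaf 0)) (.node (.leaf 20653) (.leaf 0)))) (.node (.node (.node (.leaf 4544) (.leaf 36303)) (.node (.leaf 16969) (.leaf 0))) (.node (.node (.leaf 10350) (.leaf 0)) (.node (.leaf 24742) (.leaf 0)))))) (.node (.node (.node (.node (.node (.leaf 1169) (.leaf 28253)) (.node (.leaf 12742) (.leaf 0))) (.node (.node (.leaf 6652) (.leaf 0)) (.node (.leaf 19675) (.leaf 0)))) (.node (.node (.node (.leaf 3843) (.leaf 34271)) (.node (.leaf 16103) (.leaf 0))) (.node (.node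 (.leaf 9615) (.leaf 0)) (.node (.leaf 23677) (.leaf 0))))) (.node (.node (.node (.node (.leaf 2498) (.leaf 30949)) (.node (.leaf 14370) (.leaf 0))) (.node (.node (.leaf 8098) (.leaf 0)) (.node (.leaf 21626) (.leaf 0)))) (.node (.node (.node (.leaf 5233) (.leaf 38952)) (.node (.leaf 17868) (.leaf 0))) (.node (.node (.leaf 11126) (.leaf 0)) (.node (.leaf 25863) (.leaf 0))))))))

def pT28 : NT := .node (.node (.node (.node (.node (.node (.node (.node (.leaf 34) (.leaf 26169)) (.node (.leaf 11322) (.leaf 0))) (.node (.node (.leaf 5403) (.leaf 40628)) (.node (.leaf 18090) (.leaf 0)))) (.node (.node (.node (.leaf 2661) (.leaf 31314)) (.node (.leaf 14592) (.leaf 0))) (.node (.node (.leaf 8288) (.leaf 0)) (.node (.leaf 21874) (.leaf 0))))) (.node (.node (.node (.node (.leaf 1336) (.leaf 28570)) (.node (.leaf 12946) (.leaf 0))) (.node (.node (.leaf 6840) (.leaf 0)) (.node (.leaf 19915) (.leaf 0)))) (.node (.node (.node (.leaf 4021) (.leaf 34770)) (.node (.leaf 16325) (.leaf 0))) (.node (.node (.leaf 9794) (.leaf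 0)) (.node (.leaf 23916) (.leaf 0)))))) (.node (.node (.node (.node (.node (.leaf 681) (.leaf 27384)) (.node (.leaf 12136) (.leaf 0))) (.node (.node (.leaf 6112) (.leaf 0)) (.node (.leaf 19023) (.leaf 0)))) (.node (.node (.node (.leaf 3326) (.leaf 32899)) (.node (.leaf 15456) (.leaf 0))) (.node (.node (.leaf 9046) (.leaf 0)) (.node (.leaf 22885) (.leaf 0))))) (.node (.node (.node (.node (.leaf 2003) (.leaf 29898)) (.node (.leaf 13754) (.leaf 0))) (.node (.node (.leaf 7550) (.leaf 0)) (.node (.leaf 20890) (.leaf 0)))) (.node (.node (.node (.leaf 4718) (.leaf 36944)) (.node (.leaf 17200) (.leaf 0))) (.node (.node (.leaf 10539) (.leaf 0)) (.node (.leaf 25030) (.leaf 0))))))) (.node (.node (.node (.node (.node (.node (.leaf 356) (.leaf 26770)) (.node (.leaf 11730) (.leaf 0))) (.node (.node (.leaf 5759) (.leaf 0)) (.node (.leaf 18558) (.leaf 0)))) (.node (.node (.node (.leaf 2988) (.leaf 32110)) (.node (.leaf 15032) (.leaf 0))) (.node (.node (.leaf 8658) (.leaf 0)) (.node (.leaf 22402) (.leaf 0))))) (.node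 (.node (.node (.node (.leaf 1666) (.leaf 29254)) (.node (.leaf 13349) (.leaf 0))) (.node (.node (.leaf 7198) (.leaf 0)) (.node (.leaf 20404) (.leaf 0)))) (.node (.node (.node (.leaf 4372) (.leaf 35777)) (.node (.leaf 16747) (.leaf 0))) (.node (.node (.leaf 10158) (.leaf 0)) (.node (.leaf 24462) (.leaf 0)))))) (.node (.node (.node (.node (.node (.leaf 1010) (.leaf 27942)) (.node (.leaf 12541) (.leaf 0))) (.node (.node (.leaf 6481) (.leaf 0)) (.node (.leaf 19456) (.leaf 0)))) (.node (.node (.node (.leaf 3677) (.leaf 33752)) (.node (.leaf 15872) (.leaf 0))) (.node (.node (.leaf 9444) (.leaf 0)) (.node (.leaf 23419) (.leaf 0))))) (.node (.node (.node (.node (.leaf 2336) (.leaf 30580)) (.node (.leaf 14182) (.leaf 0))) (.node (.node (.leaf 7916) (.leaf 0)) (.node (.leaf 21373) (.leaf 0)))) (.node (.node (.node (.leaf 5056) (.leaf 38222)) (.node (.leaf 17652) (.leaf 0))) (.node (.node (.leaf 10937) (.leaf 0)) (.node (.leaf 25567) (.leaf 0)))))))) (.node (.node (.node (.node (.node (.node (.node (.leaf 195) (.leaf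 26449)) (.node (.leaf 11504) (.leaf 0))) (.node (.node (.leaf 5584) (.leaf 0)) (.node (.leaf 18316) (.leaf 0)))) (.node (.node (.node (.leaf 2823) (.leaf 31698)) (.node (.leaf 14806) (.leaf 0))) (.node (.node (.leaf 8474) (.leaf 0)) (.node (.leaf 22129) (.leaf 0))))) (.node (.node (.node (.node (.leaf 1500) (.leaf 28926)) (.node (.leaf 13151) (.leaf 0))) (.node (.node (.leaf 7019) (.leaf 0)) (.node (.leaf 20150) (.leaf 0)))) (.node (.node (.node (.leaf 4196) (.leaf 35234)) (.node (.leaf 16519) (.leaf 0))) (.node (.node (.leaf 9980) (.leaf 0)) (.node (.leaf 24177) (.leaf 0)))))) (.node (.node (.node (.node (.node (.leaf 844) (.leaf 27656)) (.node (.leaf 12340) (.leaf 0))) (.node (.node (.leaf 6300) (.leaf 0)) (.node (.leaf 19229) (.leaf 0)))) (.node (.node (.node (.leaf 3507) (.leaf 33314)) (.node (.leaf 15656) (.leaf 0))) (.node (.node (.leaf 9238) (.leaf 0)) (.node (.leaf 23151) (.leaf 0))))) (.node (.node (.node (.node (.leaf 2168) (.leaf 30260)) (.node (.leaf 13975) (.leaf 0))) (.node (.node (.leaf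 7738) (.leaf 0)) (.node (.leaf 21136) (.leaf 0)))) (.node (.node (.node (.leaf 4885) (.leaf 37489)) (.node (.leaf 17428) (.leaf 0))) (.node (.node (.leaf 10738) (.leaf 0)) (.node (.leaf 25280) (.leaf 0))))))) (.node (.node (.node (.node (.node (.node (.leaf 518) (.leaf 27078)) (.node (.leaf 11936) (.leaf 0))) (.node (.node (.leaf 5930) (.leaf 0)) (.node (.leaf 18808) (.leaf 0)))) (.node (.node (.node (.leaf 3154) (.leaf 32476)) (.node (.leaf 15247) (.leaf 0))) (.node (.node (.leaf 8854) (.leaf 0)) (.node (.leaf 22644) (.leaf 0))))) (.node (.node (.node (.node (.leaf 1834) (.leaf 29583)) (.node (.leaf 13562) (.leaf 0))) (.node (.node (.leaf 7374) (.leaf 0)) (.node (.leaf 20654) (.leaf 0)))) (.node (.node (.node (.leaf 4545) (.leaf 36305)) (.node (.leaf 16971) (.leaf 0))) (.node (.node (.leaf 10352) (.leaf 0)) (.node (.leaf 24743) (.leaf 0)))))) (.node (.node (.node (.node (.node (.leaf 1170) (.leaf 28256)) (.node (.leaf 12744) (.leaf 0))) (.node (.node (.leaf 6654) (.leaf 0)) (.node (.leaf 19676) (.leaf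 0)))) (.node (.node (.node (.leaf 3844) (.leaf 34272)) (.node (.leaf 16104) (.leaf 0))) (.node (.node (.leaf 9616) (.leaf 0)) (.node (.leaf 23680) (.leaf 0))))) (.node (.node (.node (.node (.leaf 2500) (.leaf 30950)) (.node (.leaf 14372) (.leaf 0))) (.node (.node (.leaf 8100) (.leaf 0)) (.node (.leaf 21627) (.leaf 0)))) (.node (.node (.node (.leaf 5234) (.leaf 38962)) (.node (.leaf 17869) (.leaf 0))) (.node (.node (.leaf 11127) (.leaf 0)) (.node (.leaf 25864) (.leaf 0))))))))

def pT29 : NT := .node (.node (.node (.node (.node (.node (.node (.node (.leaf 36) (.leaf 26171)) (.node (.leaf 11323) (.leaf 0))) (.node (.node (.leaf 5404) (.leaf 40648)) (.node (.leaf 18091) (.leaf 0)))) (.node (.node (.node (.leaf 2662) (.leaf 31316)) (.node (.leaf 14594) (.leaf 0))) (.node (.node (.leaf 8290) (.leaf 0)) (.node (.leaf 21876) (.leaf 0))))) (.node (.node (.node (.node (.leaf 1337) (.leaf 28572)) (.node (.leaf 12948) (.leaf 0))) (.node (.node (.leaf 6842) (.leaf 0)) (.node (.leaf 19916) (.leaf 0)))) (.node (.node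 (.node (.leaf 4022) (.leaf 34773)) (.node (.leaf 16326) (.leaf 0))) (.node (.node (.leaf 9796) (.leaf 0)) (.node (.leaf 23918) (.leaf 0)))))) (.node (.node (.node (.node (.node (.leaf 682) (.leaf 27386)) (.node (.leaf 12137) (.leaf 0))) (.node (.node (.leaf 6114) (.leaf 0)) (.node (.leaf 19024) (.leaf 0)))) (.node (.node (.node (.leaf 3327) (.leaf 32904)) (.node (.leaf 15457) (.leaf 0))) (.node (.node (.leaf 9047) (.leaf 0)) (.node (.leaf 22886) (.leaf 0))))) (.node (.node (.node (.node (.leaf 2004) (.leaf 29901)) (.node (.leaf 13762) (.leaf 0))) (.node (.node (.leaf 7552) (.leaf 0)) (.node (.leaf 20892) (.leaf 0)))) (.node (.node (.node (.leaf 4719) (.leaf 36948)) (.node (.leaf 17202) (.leaf 0))) (.node (.node (.leaf 10540) (.leaf 0)) (.node (.leaf 25031) (.leaf 0))))))) (.node (.node (.node (.node (.node (.node (.leaf 357) (.leaf 26771)) (.node (.leaf 11731) (.leaf 0))) (.node (.node (.leaf 5760) (.leaf 0)) (.node (.leaf 18561) (.leaf 0)))) (.node (.node (.node (.leaf 2990) (.leaf 32120)) (.node (.leaf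 15034) (.leaf 0))) (.node (.node (.leaf 8660) (.leaf 0)) (.node (.leaf 22404) (.leaf 0))))) (.node (.node (.node (.node (.leaf 1667) (.leaf 29255)) (.node (.leaf 13350) (.leaf 0))) (.node (.node (.leaf 7200) (.leaf 0)) (.node (.leaf 20405) (.leaf 0)))) (.node (.node (.node (.leaf 4374) (.leaf 35780)) (.node (.leaf 16750) (.leaf 0))) (.node (.node (.leaf 10159) (.leaf 0)) (.node (.leaf 24463) (.leaf 0)))))) (.node (.node (.node (.node (.node (.leaf 1011) (.leaf 27943)) (.node (.leaf 12542) (.leaf 0))) (.node (.node (.leaf 6482) (.leaf 0)) (.node (.leaf 19458) (.leaf 0)))) (.node (.node (.node (.leaf 3678) (.leaf 33754)) (.node (.leaf 15873) (.leaf 0))) (.node (.node (.leaf 9445) (.leaf 0)) (.node (.leaf 23420) (.leaf 0))))) (.node (.node (.node (.node (.leaf 2337) (.leaf 30581)) (.node (.leaf 14183) (.leaf 0))) (.node (.node (.leaf 7917) (.leaf 0)) (.node (.leaf 21374) (.leaf 0)))) (.node (.node (.node (.leaf 5057) (.leaf 38226)) (.node (.leaf 17653) (.leaf 0))) (.node (.node (.leaf 10938) (.leaf 0)) (.node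 (.leaf 25568) (.leaf 0)))))))) (.node (.node (.node (.node (.node (.node (.node (.leaf 196) (.leaf 26450)) (.node (.leaf 11506) (.leaf 0))) (.node (.node (.leaf 5585) (.leaf 0)) (.node (.leaf 18318) (.leaf 0)))) (.node (.node (.node (.leaf 2824) (.leaf 31699)) (.node (.leaf 14809) (.leaf 0))) (.node (.node (.leaf 8476) (.leaf 0)) (.node (.leaf 22130) (.leaf 0))))) (.node (.node (.node (.node (.leaf 1501) (.leaf 28928)) (.node (.leaf 13152) (.leaf 0))) (.node (.node (.leaf 7020) (.leaf 0)) (.node (.leaf 20151) (.leaf 0)))) (.node (.node (.node (.leaf 4197) (.leaf 35238)) (.node (.leaf 16520) (.leaf 0))) (.node (.node (.leaf 9981) (.leaf 0)) (.node (.leaf 24180) (.leaf 0)))))) (.node (.node (.node (.node (.node (.leaf 845) (.leaf 27657)) (.node (.leaf 12341) (.leaf 0))) (.node (.node (.leaf 6301) (.leaf 0)) (.node (.leaf 19231) (.leaf 0)))) (.node (.node (.node (.leaf 3508) (.leaf 33315)) (.node (.leaf 15658) (.leaf 0))) (.node (.node (.leaf 9239) (.leaf 0)) (.node (.leaf 23152) (.leaf 0))))) (.node (.node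 (.node (.node (.leaf 2170) (.leaf 30262)) (.node (.leaf 13979) (.leaf 0))) (.node (.node (.leaf 7740) (.leaf 0)) (.node (.leaf 21137) (.leaf 0)))) (.node (.node (.node (.leaf 4886) (.leaf 37491)) (.node (.leaf 17429) (.leaf 0))) (.node (.node (.leaf 10739) (.leaf 0)) (.node (.leaf 25282) (.leaf 0))))))) (.node (.node (.node (.node (.node (.node (.leaf 519) (.leaf 27080)) (.node (.leaf 11938) (.leaf 0))) (.node (.node (.leaf 5931) (.leaf 0)) (.node (.leaf 18809) (.leaf 0)))) (.node (.node (.node (.leaf 3155) (.leaf 32481)) (.node (.leaf 15248) (.leaf 0))) (.node (.node (.leaf 8855) (.leaf 0)) (.node (.leaf 22645) (.leaf 0))))) (.node (.node (.node (.node (.leaf 1835) (.leaf 29584)) (.node (.leaf 13565) (.leaf 0))) (.node (.node (.leaf 7377) (.leaf 0)) (.node (.leaf 20656) (.leaf 0)))) (.node (.node (.node (.leaf 4546) (.leaf 36307)) (.node (.leaf 16972) (.leaf 0))) (.node (.node (.leaf 10354) (.leaf 0)) (.node (.leaf 24744) (.leaf 0)))))) (.node (.node (.node (.node (.node (.leaf 1171) (.leaf 28259)) (.node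 (.leaf 12745) (.leaf 0))) (.node (.node (.leaf 6656) (.leaf 0)) (.node (.leaf 19678) (.leaf 0)))) (.node (.node (.node (.leaf 3847) (.leaf 34273)) (.node (.leaf 16106) (.leaf 0))) (.node (.node (.leaf 9618) (.leaf 0)) (.node (.leaf 23681) (.leaf 0))))) (.node (.node (.node (.node (.leaf 2501) (.leaf 30953)) (.node (.leaf 14373) (.leaf 0))) (.node (.node (.leaf 8101) (.leaf 0)) (.node (.leaf 21630) (.leaf 0)))) (.node (.node (.node (.leaf 5236) (.leaf 38972)) (.node (.leaf 17870) (.leaf 0))) (.node (.node (.leaf 11128) (.leaf 0)) (.node (.leaf 25867) (.leaf 0))))))))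

def pT30 : NT := .node (.node (.node (.node (.node (.node (.node (.node (.leaf 37) (.leaf 26175)) (.node (.leaf 11324) (.leaf 0))) (.node (.node (.leaf 5406) (.leaf 40658)) (.node (.leaf 18092) (.leaf 0)))) (.node (.node (.node (.leaf 2664) (.leaf 31320)) (.node (.leaf 14596) (.leaf 0))) (.node (.node (.leaf 8291) (.leaf 0)) (.node (.leaf 21878) (.leaf 0))))) (.node (.node (.node (.node (.leaf 1338) (.leaf 28573)) (.node (.leaf 12949) (.leaf 0))) (.node (.node (.leaf 6843) (.leaf 0)) (.node (.leaf 19919) (.leaf 0)))) (.node (.node (.node (.leaf 4024) (.leaf 34776)) (.node (.leaf 16327) (.leaf 0))) (.node (.node (.leaf 9797) (.leaf 0)) (.node (.leaf 23920) (.leaf 0)))))) (.node (.node (.node (.node (.node (.leaf 684) (.leaf 27388)) (.node (.leaf 12139) (.leaf 0))) (.node (.node (.leaf 6117) (.leaf 0)) (.node (.leaf 19025) (.leaf 0)))) (.node (.node (.node (.leaf 3328) (.leaf 32906)) (.node (.leaf 15460) (.leaf 0))) (.node (.node (.leaf 9048) (.leaf 0)) (.node (.leaf 22888) (.leaf 0))))) (.node (.node (.node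 (.node (.leaf 2006) (.leaf 29903)) (.node (.leaf 13764) (.leaf 0))) (.node (.node (.leaf 7553) (.leaf 0)) (.node (.leaf 20894) (.leaf 0)))) (.node (.node (.node (.leaf 4720) (.leaf 36954)) (.node (.leaf 17203) (.leaf 0))) (.node (.node (.leaf 10542) (.leaf 0)) (.node (.leaf 25032) (.leaf 0))))))) (.node (.node (.node (.node (.node (.node (.leaf 358) (.leaf 26772)) (.node (.leaf 11732) (.leaf 0))) (.node (.node (.leaf 5762) (.leaf 0)) (.node (.leaf 18562) (.leaf 0)))) (.node (.node (.node (.leaf 2991) (.leaf 32121)) (.node (.leaf 15036) (.leaf 0))) (.node (.node (.leaf 8661) (.leaf 0)) (.node (.leaf 22405) (.leaf 0))))) (.node (.node (.node (.node (.leaf 1668) (.leaf 29261)) (.node (.leaf 13351) (.leaf 0))) (.node (.node (.leaf 7202) (.leaf 0)) (.node (.leaf 20408) (.leaf 0)))) (.node (.node (.node (.leaf 4375) (.leaf 35782)) (.node (.leaf 16752) (.leaf 0))) (.node (.node (.leaf 10160) (.leaf 0)) (.node (.leaf 24464) (.leaf 0)))))) (.node (.node (.node (.node (.node (.leaf 1014) (.leaf 27946)) (.node (.leaf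 12543) (.leaf 0))) (.node (.node (.leaf 6484) (.leaf 0)) (.node (.leaf 19459) (.leaf 0)))) (.node (.node (.node (.leaf 3680) (.leaf 33755)) (.node (.leaf 15878) (.leaf 0))) (.node (.node (.leaf 9446) (.leaf 0)) (.node (.leaf 23426) (.leaf 0))))) (.node (.node (.node (.node (.leaf 2338) (.leaf 30586)) (.node (.leaf 14184) (.leaf 0))) (.node (.node (.leaf 7918) (.leaf 0)) (.node (.leaf 21376) (.leaf 0)))) (.node (.node (.node (.leaf 5058) (.leaf 38231)) (.node (.leaf 17655) (.leaf 0))) (.node (.node (.leaf 10940) (.leaf 0)) (.node (.leaf 25570) (.leaf 0)))))))) (.node (.node (.node (.node (.node (.node (.node (.leaf 198) (.leaf 26454)) (.node (.leaf 11507) (.leaf 0))) (.node (.node (.leaf 5586) (.leaf 0)) (.node (.leaf 18320) (.leaf 0)))) (.node (.node (.node (.leaf 2826) (.leaf 31708)) (.node (.leaf 14810) (.leaf 0))) (.node (.node (.leaf 8477) (.leaf 0)) (.node (.leaf 22132) (.leaf 0))))) (.node (.node (.node (.node (.leaf 1502) (.leaf 28929)) (.node (.leaf 13153) (.leaf 0))) (.node (.node (.leaf 7023)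 (.leaf 0)) (.node (.leaf 20152) (.leaf 0)))) (.node (.node (.node (.leaf 4198) (.leaf 35239)) (.node (.leaf 16523) (.leaf 0))) (.node (.node (.leaf 9982) (.leaf 0)) (.node (.leaf 24181) (.leaf 0)))))) (.node (.node (.node (.node (.node (.leaf 846) (.leaf 27658)) (.node (.leaf 12342) (.leaf 0))) (.node (.node (.leaf 6302) (.leaf 0)) (.node (.leaf 19232) (.leaf 0)))) (.node (.node (.node (.leaf 3510) (.leaf 33316)) (.node (.leaf 15659) (.leaf 0))) (.node (.node (.leaf 9240) (.leaf 0)) (.node (.leaf 23153) (.leaf 0))))) (.node (.node (.node (.node (.leaf 2171) (.leaf 30267)) (.node (.leaf 13980) (.leaf 0))) (.node (.node (.leaf 7741) (.leaf 0)) (.node (.leaf 21140) (.leaf 0)))) (.node (.node (.node (.leaf 4889) (.leaf 37500)) (.node (.leaf 17430) (.leaf 0))) (.node (.node (.leaf 10740) (.leaf 0)) (.node (.leaf 25284) (.leaf 0))))))) (.node (.node (.node (.node (.node (.node (.leaf 520) (.leaf 27081)) (.node (.leaf 11941) (.leaf 0))) (.node (.node (.leaf 5932) (.leaf 0)) (.node (.leaf 18813) (.leaf 0)))) (.node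 (.node (.node (.leaf 3156) (.leaf 32487)) (.node (.leaf 15250) (.leaf 0))) (.node (.node (.leaf 8856) (.leaf 0)) (.node (.leaf 22646) (.leaf 0))))) (.node (.node (.node (.node (.leaf 1836) (.leaf 29585)) (.node (.leaf 13569) (.leaf 0))) (.node (.node (.leaf 7378) (.leaf 0)) (.node (.leaf 20657) (.leaf 0)))) (.node (.node (.node (.leaf 4547) (.leaf 36315)) (.node (.leaf 16975) (.leaf 0))) (.node (.node (.leaf 10355) (.leaf 0)) (.node (.leaf 24746) (.leaf 0)))))) (.node (.node (.node (.node (.node (.leaf 1172) (.leaf 28261)) (.node (.leaf 12746) (.leaf 0))) (.node (.node (.leaf 6658) (.leaf 0)) (.node (.leaf 19681) (.leaf 0)))) (.node (.node (.node (.leaf 3848) (.leaf 34275)) (.node (.leaf 16107) (.leaf 0))) (.node (.node (.leaf 9619) (.leaf 0)) (.node (.leaf 23682) (.leaf 0))))) (.node (.node (.node (.node (.leaf 2502) (.leaf 30956)) (.node (.leaf 14374) (.leaf 0))) (.node (.node (.leaf 8102) (.leaf 0)) (.node (.leaf 21633) (.leaf 0)))) (.node (.node (.node (.leaf 5238) (.leaf 38975)) (.node (.leaf 17872)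 (.leaf 0))) (.node (.node (.leaf 11130) (.leaf 0)) (.node (.leaf 25870) (.leaf 0))))))))

def pT31 : NT := .node (.node (.node (.node (.node (.node (.node (.node (.leaf 38) (.leaf 26177)) (.node (.leaf 11326) (.leaf 0))) (.node (.node (.leaf 5407) (.leaf 40674)) (.node (.leaf 18093) (.leaf 0)))) (.node (.node (.node (.leaf 2665) (.leaf 31323)) (.node (.leaf 14597) (.leaf 0))) (.node (.node (.leaf 8294) (.leaf 0)) (.node (.leaf 21879) (.leaf 0))))) (.node (.node (.node (.node (.leaf 1340) (.leaf 28575)) (.node (.leaf 12950) (.leaf 0))) (.node (.node (.leaf 6844) (.leaf 0)) (.node (.leaf 19922) (.leaf 0)))) (.node (.node (.node (.leaf 4025) (.leaf 34784)) (.node (.leaf 16331) (.leaf 0))) (.node (.node (.leaf 9798) (.leaf 0)) (.node (.leaf 23922) (.leaf 0)))))) (.node (.node (.node (.node (.node (.leaf 685) (.leaf 27390)) (.node (.leaf 12140) (.leaf 0))) (.node (.node (.leaf 6118) (.leaf 0)) (.node (.leaf 19026) (.leaf 0)))) (.node (.node (.node (.leaf 3329) (.leaf 32908)) (.node (.leaf 15461) (.leaf 0)))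 (.node (.node (.leaf 9050) (.leaf 0)) (.node (.leaf 22889) (.leaf 0))))) (.node (.node (.node (.node (.leaf 2007) (.leaf 29904)) (.node (.leaf 13765) (.leaf 0))) (.node (.node (.leaf 7554) (.leaf 0)) (.node (.leaf 20896) (.leaf 0)))) (.node (.node (.node (.leaf 4722) (.leaf 36959)) (.node (.leaf 17204) (.leaf 0))) (.node (.node (.leaf 10544) (.leaf 0)) (.node (.leaf 25036) (.leaf 0))))))) (.node (.node (.node (.node (.node (.node (.leaf 360) (.leaf 26774)) (.node (.leaf 11734) (.leaf 0))) (.node (.node (.leaf 5763) (.leaf 0)) (.node (.leaf 18564) (.leaf 0)))) (.node (.node (.node (.leaf 2992) (.leaf 32123)) (.node (.leaf 15038) (.leaf 0))) (.node (.node (.leaf 8662) (.leaf 0)) (.node (.leaf 22407) (.leaf 0))))) (.node (.node (.node (.node (.leaf 1670) (.leaf 29264)) (.node (.leaf 13352) (.leaf 0))) (.node (.node (.leaf 7203) (.leaf 0)) (.node (.leaf 20409) (.leaf 0)))) (.node (.node (.node (.leaf 4376) (.leaf 35789)) (.node (.leaf 16753) (.leaf 0))) (.node (.node (.leaf 10162) (.leaf 0)) (.node (.leaf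 24466) (.leaf 0)))))) (.node (.node (.node (.node (.node (.leaf 1015) (.leaf 27948)) (.node (.leaf 12544) (.leaf 0))) (.node (.node (.leaf 6485) (.leaf 0)) (.node (.leaf 19460) (.leaf 0)))) (.node (.node (.node (.leaf 3681) (.leaf 33757)) (.node (.leaf 15879) (.leaf 0))) (.node (.node (.leaf 9448) (.leaf 0)) (.node (.leaf 23427) (.leaf 0))))) (.node (.node (.node (.node (.leaf 2340) (.leaf 30590)) (.node (.leaf 14186) (.leaf 0))) (.node (.node (.leaf 7923) (.leaf 0)) (.node (.leaf 21377) (.leaf 0)))) (.node (.node (.node (.leaf 5060) (.leaf 38232)) (.node (.leaf 17656) (.leaf 0))) (.node (.node (.leaf 10941) (.leaf 0)) (.node (.leaf 25578) (.leaf 0)))))))) (.node (.node (.node (.node (.node (.node (.node (.leaf 199) (.leaf 26457)) (.node (.leaf 11508) (.leaf 0))) (.node (.node (.leaf 5588) (.leaf 0)) (.node (.leaf 18323) (.leaf 0)))) (.node (.node (.node (.leaf 2827) (.leaf 31712)) (.node (.leaf 14812) (.leaf 0))) (.node (.node (.leaf 8478) (.leaf 0)) (.node (.leaf 22134) (.leaf 0))))) (.node (.node (.node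 (.node (.leaf 1504) (.leaf 28931)) (.node (.leaf 13154) (.leaf 0))) (.node (.node (.leaf 7024) (.leaf 0)) (.node (.leaf 20153) (.leaf 0)))) (.node (.node (.node (.leaf 4199) (.leaf 35242)) (.node (.leaf 16524) (.leaf 0))) (.node (.node (.leaf 9984) (.leaf 0)) (.node (.leaf 24182) (.leaf 0)))))) (.node (.node (.node (.node (.node (.leaf 848) (.leaf 27660)) (.node (.leaf 12344) (.leaf 0))) (.node (.node (.leaf 6303) (.leaf 0)) (.node (.leaf 19234) (.leaf 0)))) (.node (.node (.node (.leaf 3511) (.leaf 33324)) (.node (.leaf 15660) (.leaf 0))) (.node (.node (.leaf 9245) (.leaf 0)) (.node (.leaf 23154) (.leaf 0))))) (.node (.node (.node (.node (.leaf 2172) (.leaf 30268)) (.node (.leaf 13982) (.leaf 0))) (.node (.node (.leaf 7742) (.leaf 0)) (.node (.leaf 21141) (.leaf 0)))) (.node (.node (.node (.leaf 4890) (.leaf 37502)) (.node (.leaf 17431) (.leaf 0))) (.node (.node (.leaf 10744) (.leaf 0)) (.node (.leaf 25285) (.leaf 0))))))) (.node (.node (.node (.node (.node (.node (.leaf 521) (.leaf 27082)) (.node (.leaf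 11942) (.leaf 0))) (.node (.node (.leaf 5934) (.leaf 0)) (.node (.leaf 18814) (.leaf 0)))) (.node (.node (.node (.leaf 3158) (.leaf 32492)) (.node (.leaf 15251) (.leaf 0))) (.node (.node (.leaf 8858) (.leaf 0)) (.node (.leaf 22649) (.leaf 0))))) (.node (.node (.node (.node (.leaf 1838) (.leaf 29591)) (.node (.leaf 13573) (.leaf 0))) (.node (.node (.leaf 7380) (.leaf 0)) (.node (.leaf 20660) (.leaf 0)))) (.node (.node (.node (.leaf 4548) (.leaf 36334)) (.node (.leaf 16977) (.leaf 0))) (.node (.node (.leaf 10356) (.leaf 0)) (.node (.leaf 24748) (.leaf 0)))))) (.node (.node (.node (.node (.node (.leaf 1175) (.leaf 28262)) (.node (.leaf 12748) (.leaf 0))) (.node (.node (.leaf 6659) (.leaf 0)) (.node (.leaf 19682) (.leaf 0)))) (.node (.node (.node (.leaf 3850) (.leaf 34282)) (.node (.leaf 16110) (.leaf 0))) (.node (.node (.leaf 9621) (.leaf 0)) (.node (.leaf 23683) (.leaf 0))))) (.node (.node (.node (.node (.leaf 2503) (.leaf 30960)) (.node (.leaf 14376) (.leaf 0))) (.node (.node (.leaf 8106) (.leaf 0)) (.node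 (.leaf 21634) (.leaf 0)))) (.node (.node (.node (.leaf 5239) (.leaf 38976)) (.node (.leaf 17874) (.leaf 0))) (.node (.node (.leaf 11132) (.leaf 0)) (.node (.leaf 25873) (.leaf 0))))))))

def pT32 : NT := .node (.node (.node (.node (.node (.node (.node (.node (.leaf 40) (.leaf 26178)) (.node (.leaf 11327) (.leaf 0))) (.node (.node (.leaf 5408) (.leaf 40720)) (.node (.leaf 18094) (.leaf 0)))) (.node (.node (.node (.leaf 2666) (.leaf 31324)) (.node (.leaf 14598) (.leaf 0))) (.node (.node (.leaf 8295) (.leaf 0)) (.node (.leaf 21880) (.leaf 0))))) (.node (.node (.node (.node (.leaf 1341) (.leaf 28576)) (.node (.leaf 12952) (.leaf 0))) (.node (.node (.leaf 6845) (.leaf 0)) (.node (.leaf 19924) (.leaf 0)))) (.node (.node (.node (.leaf 4026) (.leaf 34786)) (.node (.leaf 16332) (.leaf 0))) (.node (.node (.leaf 9799) (.leaf 0)) (.node (.leaf 23924) (.leaf 0)))))) (.node (.node (.node (.node (.node (.leaf 686) (.leaf 27392)) (.node (.leaf 12142) (.leaf 0))) (.node (.node (.leaf 6119) (.leaf 0)) (.node (.leaf 19027)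 (.leaf 0)))) (.node (.node (.node (.leaf 3330) (.leaf 32909)) (.node (.leaf 15462) (.leaf 0))) (.node (.node (.leaf 9051) (.leaf 0)) (.node (.leaf 22890) (.leaf 0))))) (.node (.node (.node (.node (.leaf 2008) (.leaf 29911)) (.node (.leaf 13770) (.leaf 0))) (.node (.node (.leaf 7557) (.leaf 0)) (.node (.leaf 20898) (.leaf 0)))) (.node (.node (.node (.leaf 4723) (.leaf 36960)) (.node (.leaf 17205) (.leaf 0))) (.node (.node (.leaf 10546) (.leaf 0)) (.node (.leaf 25037) (.leaf 0))))))) (.node (.node (.node (.node (.node (.node (.leaf 361) (.leaf 26777)) (.node (.leaf 11735) (.leaf 0))) (.node (.node (.leaf 5764) (.leaf 0)) (.node (.leaf 18565) (.leaf 0)))) (.node (.node (.node (.leaf 2994) (.leaf 32126)) (.node (.leaf 15039) (.leaf 0))) (.node (.node (.leaf 8664) (.leaf 0)) (.node (.leaf 22408) (.leaf 0))))) (.node (.node (.node (.node (.leaf 1671) (.leaf 29268)) (.node (.leaf 13354) (.leaf 0))) (.node (.node (.leaf 7204) (.leaf 0)) (.node (.leaf 20410) (.leaf 0)))) (.node (.node (.node (.leaf 4377) (.leaf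 35790)) (.node (.leaf 16754) (.leaf 0))) (.node (.node (.leaf 10164) (.leaf 0)) (.node (.leaf 24468) (.leaf 0)))))) (.node (.node (.node (.node (.node (.leaf 1016) (.leaf 27955)) (.node (.leaf 12547) (.leaf 0))) (.node (.node (.leaf 6486) (.leaf 0)) (.node (.leaf 19462) (.leaf 0)))) (.node (.node (.node (.leaf 3682) (.leaf 33761)) (.node (.leaf 15882) (.leaf 0))) (.node (.node (.leaf 9450) (.leaf 0)) (.node (.leaf 23428) (.leaf 0))))) (.node (.node (.node (.node (.leaf 2341) (.leaf 30591)) (.node (.leaf 14187) (.leaf 0))) (.node (.node (.leaf 7924) (.leaf 0)) (.node (.leaf 21380) (.leaf 0)))) (.node (.node (.node (.leaf 5062) (.leaf 38243)) (.node (.leaf 17658) (.leaf 0))) (.node (.node (.leaf 10942) (.leaf 0)) (.node (.leaf 25581) (.leaf 0)))))))) (.node (.node (.node (.node (.node (.node (.node (.leaf 200) (.leaf 26460)) (.node (.leaf 11510) (.leaf 0))) (.node (.node (.leaf 5589) (.leaf 0)) (.node (.leaf 18324) (.leaf 0)))) (.node (.node (.node (.leaf 2828) (.leaf 31716)) (.node (.leaf 14814) (.leaf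 0))) (.node (.node (.leaf 8479) (.leaf 0)) (.node (.leaf 22136) (.leaf 0))))) (.node (.node (.node (.node (.leaf 1505) (.leaf 28939)) (.node (.leaf 13156) (.leaf 0))) (.node (.node (.leaf 7026) (.leaf 0)) (.node (.leaf 20154) (.leaf 0)))) (.node (.node (.node (.leaf 4200) (.leaf 35247)) (.node (.leaf 16525) (.leaf 0))) (.node (.node (.leaf 9985) (.leaf 0)) (.node (.leaf 24184) (.leaf 0)))))) (.node (.node (.node (.node (.node (.leaf 849) (.leaf 27661)) (.node (.leaf 12345) (.leaf 0))) (.node (.node (.leaf 6304) (.leaf 0)) (.node (.leaf 19235) (.leaf 0)))) (.node (.node (.node (.leaf 3512) (.leaf 33325)) (.node (.leaf 15662) (.leaf 0))) (.node (.node (.leaf 9246) (.leaf 0)) (.node (.leaf 23157) (.leaf 0))))) (.node (.node (.node (.node (.leaf 2173) (.leaf 30269)) (.node (.leaf 13983) (.leaf 0))) (.node (.node (.leaf 7743) (.leaf 0)) (.node (.leaf 21142) (.leaf 0)))) (.node (.node (.node (.leaf 4892) (.leaf 37506)) (.node (.leaf 17432) (.leaf 0))) (.node (.node (.leaf 10746) (.leaf 0)) (.node (.leaf 25287)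 (.leaf 0))))))) (.node (.node (.node (.node (.node (.node (.leaf 522) (.leaf 27084)) (.node (.leaf 11944) (.leaf 0))) (.node (.node (.leaf 5935) (.leaf 0)) (.node (.leaf 18816) (.leaf 0)))) (.node (.node (.node (.leaf 3159) (.leaf 32493)) (.node (.leaf 15252) (.leaf 0))) (.node (.node (.leaf 8862) (.leaf 0)) (.node (.leaf 22650) (.leaf 0))))) (.node (.node (.node (.node (.leaf 1839) (.leaf 29592)) (.node (.leaf 13574) (.leaf 0))) (.node (.node (.leaf 7381) (.leaf 0)) (.node (.leaf 20662) (.leaf 0)))) (.node (.node (.node (.leaf 4550) (.leaf 36338)) (.node (.leaf 16978) (.leaf 0))) (.node (.node (.leaf 10358) (.leaf 0)) (.node (.leaf 24749) (.leaf 0)))))) (.node (.node (.node (.node (.node (.leaf 1176) (.leaf 28263)) (.node (.leaf 12749) (.leaf 0))) (.node (.node (.leaf 6660) (.leaf 0)) (.node (.leaf 19683) (.leaf 0)))) (.node (.node (.node (.leaf 3851) (.leaf 34284)) (.node (.leaf 16111) (.leaf 0))) (.node (.node (.leaf 9622) (.leaf 0)) (.node (.leaf 23686) (.leaf 0))))) (.node (.node (.node (.node (.leaf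 2504) (.leaf 30961)) (.node (.leaf 14377) (.leaf 0))) (.node (.node (.leaf 8108) (.leaf 0)) (.node (.leaf 21636) (.leaf 0)))) (.node (.node (.node (.leaf 5240) (.leaf 38993)) (.node (.leaf 17876) (.leaf 0))) (.node (.node (.leaf 11133) (.leaf 0)) (.node (.leaf 25878) (.leaf 0))))))))

def pT33 : NT := .node (.node (.node (.node (.node (.node (.node (.node (.leaf 41) (.leaf 26180)) (.node (.leaf 11328) (.leaf 0))) (.node (.node (.leaf 5410) (.leaf 40731)) (.node (.leaf 18097) (.leaf 0)))) (.node (.node (.node (.leaf 2668) (.leaf 31329)) (.node (.leaf 14601) (.leaf 0))) (.node (.node (.leaf 8296) (.leaf 0)) (.node (.leaf 21882) (.leaf 0))))) (.node (.node (.node (.node (.leaf 1342) (.leaf 28577)) (.node (.leaf 12955) (.leaf 0))) (.node (.node (.leaf 6846) (.leaf 0)) (.node (.leaf 19928) (.leaf 0)))) (.node (.node (.node (.leaf 4028) (.leaf 34787)) (.node (.leaf 16334) (.leaf 0))) (.node (.node (.leaf 9800) (.leaf 0)) (.node (.leaf 23926) (.leaf 0)))))) (.node (.node (.node (.node (.node (.leaf 688) (.leaf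 27394)) (.node (.leaf 12143) (.leaf 0))) (.node (.node (.leaf 6120) (.leaf 0)) (.node (.leaf 19028) (.leaf 0)))) (.node (.node (.node (.leaf 3332) (.leaf 32910)) (.node (.leaf 15463) (.leaf 0))) (.node (.node (.leaf 9052) (.leaf 0)) (.node (.leaf 22892) (.leaf 0))))) (.node (.node (.node (.node (.leaf 2009) (.leaf 29912)) (.node (.leaf 13771) (.leaf 0))) (.node (.node (.leaf 7558) (.leaf 0)) (.node (.leaf 20899) (.leaf 0)))) (.node (.node (.node (.leaf 4724) (.leaf 36963)) (.node (.leaf 17206) (.leaf 0))) (.node (.node (.leaf 10547) (.leaf 0)) (.node (.leaf 25038) (.leaf 0))))))) (.node (.node (.node (.node (.node (.node (.leaf 362) (.leaf 26778)) (.node (.leaf 11736) (.leaf 0))) (.node (.node (.leaf 5765) (.leaf 0)) (.node (.leaf 18566) (.leaf 0)))) (.node (.node (.node (.leaf 2995) (.leaf 32127)) (.node (.leaf 15043) (.leaf 0))) (.node (.node (.leaf 8665) (.leaf 0)) (.node (.leaf 22410) (.leaf 0))))) (.node (.node (.node (.node (.leaf 1672) (.leaf 29271)) (.node (.leaf 13356) (.leaf 0))) (.node (.node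 (.leaf 7206) (.leaf 0)) (.node (.leaf 20411) (.leaf 0)))) (.node (.node (.node (.leaf 4378) (.leaf 35792)) (.node (.leaf 16755) (.leaf 0))) (.node (.node (.leaf 10165) (.leaf 0)) (.node (.leaf 24469) (.leaf 0)))))) (.node (.node (.node (.node (.node (.leaf 1018) (.leaf 27957)) (.node (.leaf 12548) (.leaf 0))) (.node (.node (.leaf 6487) (.leaf 0)) (.node (.leaf 19465) (.leaf 0)))) (.node (.node (.node (.leaf 3683) (.leaf 33763)) (.node (.leaf 15883) (.leaf 0))) (.node (.node (.leaf 9452) (.leaf 0)) (.node (.leaf 23430) (.leaf 0))))) (.node (.node (.node (.node (.leaf 2342) (.leaf 30597)) (.node (.leaf 14188) (.leaf 0))) (.node (.node (.leaf 7925) (.leaf 0)) (.node (.leaf 21381) (.leaf 0)))) (.node (.node (.node (.leaf 5063) (.leaf 38244)) (.node (.leaf 17659) (.leaf 0))) (.node (.node (.leaf 10944) (.leaf 0)) (.node (.leaf 25584) (.leaf 0)))))))) (.node (.node (.node (.node (.node (.node (.node (.leaf 202) (.leaf 26466)) (.node (.leaf 11511) (.leaf 0))) (.node (.node (.leaf 5590) (.leaf 0)) (.node (.leaf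 18326) (.leaf 0)))) (.node (.node (.node (.leaf 2830) (.leaf 31718)) (.node (.leaf 14820) (.leaf 0))) (.node (.node (.leaf 8480) (.leaf 0)) (.node (.leaf 22137) (.leaf 0))))) (.node (.node (.node (.node (.leaf 1506) (.leaf 28942)) (.node (.leaf 13157) (.leaf 0))) (.node (.node (.leaf 7027) (.leaf 0)) (.node (.leaf 20155) (.leaf 0)))) (.node (.node (.node (.leaf 4203) (.leaf 35248)) (.node (.leaf 16526) (.leaf 0))) (.node (.node (.leaf 9986) (.leaf 0)) (.node (.leaf 24186) (.leaf 0)))))) (.node (.node (.node (.node (.node (.leaf 850) (.leaf 27663)) (.node (.leaf 12346) (.leaf 0))) (.node (.node (.leaf 6305) (.leaf 0)) (.node (.leaf 19238) (.leaf 0)))) (.node (.node (.node (.leaf 3513) (.leaf 33334)) (.node (.leaf 15664) (.leaf 0))) (.node (.node (.leaf 9248) (.leaf 0)) (.node (.leaf 23160) (.leaf 0))))) (.node (.node (.node (.node (.leaf 2176) (.leaf 30272)) (.node (.leaf 13984) (.leaf 0))) (.node (.node (.leaf 7745) (.leaf 0)) (.node (.leaf 21143) (.leaf 0)))) (.node (.node (.node (.leaf 4893) (.leaf 37511))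 (.node (.leaf 17434) (.leaf 0))) (.node (.node (.leaf 10747) (.leaf 0)) (.node (.leaf 25290) (.leaf 0))))))) (.node (.node (.node (.node (.node (.node (.leaf 524) (.leaf 27085)) (.node (.leaf 11945) (.leaf 0))) (.node (.node (.leaf 5936) (.leaf 0)) (.node (.leaf 18817) (.leaf 0)))) (.node (.node (.node (.leaf 3160) (.leaf 32496)) (.node (.leaf 15254) (.leaf 0))) (.node (.node (.leaf 8863) (.leaf 0)) (.node (.leaf 22651) (.leaf 0))))) (.node (.node (.node (.node (.leaf 1840) (.leaf 29593)) (.node (.leaf 13576) (.leaf 0))) (.node (.node (.leaf 7382) (.leaf 0)) (.node (.leaf 20664) (.leaf 0)))) (.node (.node (.node (.leaf 4551) (.leaf 36345)) (.node (.leaf 16980) (.leaf 0))) (.node (.node (.leaf 10359) (.leaf 0)) (.node (.leaf 24754) (.leaf 0)))))) (.node (.node (.node (.node (.node (.leaf 1178) (.leaf 28264)) (.node (.leaf 12751) (.leaf 0))) (.node (.node (.leaf 6664) (.leaf 0)) (.node (.leaf 19684) (.leaf 0)))) (.node (.node (.node (.leaf 3852) (.leaf 34290)) (.node (.leaf 16112) (.leaf 0))) (.node (.node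 (.leaf 9623) (.leaf 0)) (.node (.leaf 23688) (.leaf 0))))) (.node (.node (.node (.node (.leaf 2506) (.leaf 30964)) (.node (.leaf 14378) (.leaf 0))) (.node (.node (.leaf 8109) (.leaf 0)) (.node (.leaf 21637) (.leaf 0)))) (.node (.node (.node (.leaf 5241) (.leaf 39002)) (.node (.leaf 17879) (.leaf 0))) (.node (.node (.leaf 11134) (.leaf 0)) (.node (.leaf 25879) (.leaf 0))))))))

def pT34 : NT := .node (.node (.node (.node (.node (.node (.node (.node (.leaf 42) (.leaf 26181)) (.node (.leaf 11330) (.leaf 0))) (.node (.node (.leaf 5411) (.leaf 40761)) (.node (.leaf 18098) (.leaf 0)))) (.node (.node (.node (.leaf 2669) (.leaf 31334)) (.node (.leaf 14602) (.leaf 0))) (.node (.node (.leaf 8298) (.leaf 0)) (.node (.leaf 21883) (.leaf 0))))) (.node (.node (.node (.node (.leaf 1343) (.leaf 28580)) (.node (.leaf 12956) (.leaf 0))) (.node (.node (.leaf 6847) (.leaf 0)) (.node (.leaf 19929) (.leaf 0)))) (.node (.node (.node (.leaf 4029) (.leaf 34788)) (.node (.leaf 16335) (.leaf 0))) (.node (.node (.leaf 9801) (.leaf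 0)) (.node (.leaf 23928) (.leaf 0)))))) (.node (.node (.node (.node (.node (.leaf 689) (.leaf 27395)) (.node (.leaf 12144) (.leaf 0))) (.node (.node (.leaf 6122) (.leaf 0)) (.node (.leaf 19030) (.leaf 0)))) (.node (.node (.node (.leaf 3333) (.leaf 32912)) (.node (.leaf 15464) (.leaf 0))) (.node (.node (.leaf 9053) (.leaf 0)) (.node (.leaf 22896) (.leaf 0))))) (.node (.node (.node (.node (.leaf 2010) (.leaf 29914)) (.node (.leaf 13772) (.leaf 0))) (.node (.node (.leaf 7559) (.leaf 0)) (.node (.leaf 20902) (.leaf 0)))) (.node (.node (.node (.leaf 4726) (.leaf 36964)) (.node (.leaf 17208) (.leaf 0))) (.node (.node (.leaf 10548) (.leaf 0)) (.node (.leaf 25041) (.leaf 0))))))) (.node (.node (.node (.node (.node (.node (.leaf 363) (.leaf 26784)) (.node (.leaf 11737) (.leaf 0))) (.node (.node (.leaf 5766) (.leaf 0)) (.node (.leaf 18569) (.leaf 0)))) (.node (.node (.node (.leaf 2996) (.leaf 32131)) (.node (.leaf 15046) (.leaf 0))) (.node (.node (.leaf 8666) (.leaf 0)) (.node (.leaf 22411) (.leaf 0))))) (.node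 (.node (.node (.node (.leaf 1673) (.leaf 29274)) (.node (.leaf 13360) (.leaf 0))) (.node (.node (.leaf 7207) (.leaf 0)) (.node (.leaf 20414) (.leaf 0)))) (.node (.node (.node (.leaf 4380) (.leaf 35795)) (.node (.leaf 16756) (.leaf 0))) (.node (.node (.leaf 10166) (.leaf 0)) (.node (.leaf 24470) (.leaf 0)))))) (.node (.node (.node (.node (.node (.leaf 1019) (.leaf 27958)) (.node (.leaf 12550) (.leaf 0))) (.node (.node (.leaf 6488) (.leaf 0)) (.node (.leaf 19466) (.leaf 0)))) (.node (.node (.node (.leaf 3684) (.leaf 33769)) (.node (.leaf 15884) (.leaf 0))) (.node (.node (.leaf 9453) (.leaf 0)) (.node (.leaf 23435) (.leaf 0))))) (.node (.node (.node (.node (.leaf 2344) (.leaf 30607)) (.node (.leaf 14189) (.leaf 0))) (.node (.node (.leaf 7926) (.leaf 0)) (.node (.leaf 21383) (.leaf 0)))) (.node (.node (.node (.leaf 5064) (.leaf 38246)) (.node (.leaf 17660) (.leaf 0))) (.node (.node (.leaf 10946) (.leaf 0)) (.node (.leaf 25587) (.leaf 0)))))))) (.node (.node (.node (.node (.node (.node (.node (.leaf 203) (.leaf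 26468)) (.node (.leaf 11512) (.leaf 0))) (.node (.node (.leaf 5592) (.leaf 0)) (.node (.leaf 18327) (.leaf 0)))) (.node (.node (.node (.leaf 2831) (.leaf 31720)) (.node (.leaf 14822) (.leaf 0))) (.node (.node (.leaf 8483) (.leaf 0)) (.node (.leaf 22138) (.leaf 0))))) (.node (.node (.node (.node (.leaf 1507) (.leaf 28943)) (.node (.leaf 13158) (.leaf 0))) (.node (.node (.leaf 7028) (.leaf 0)) (.node (.leaf 20157) (.leaf 0)))) (.node (.node (.node (.leaf 4204) (.leaf 35254)) (.node (.leaf 16529) (.leaf 0))) (.node (.node (.leaf 9988) (.leaf 0)) (.node (.leaf 24189) (.leaf 0)))))) (.node (.node (.node (.node (.node (.leaf 851) (.leaf 27667)) (.node (.leaf 12347) (.leaf 0))) (.node (.node (.leaf 6306) (.leaf 0)) (.node (.leaf 19239) (.leaf 0)))) (.node (.node (.node (.leaf 3514) (.leaf 33336)) (.node (.leaf 15665) (.leaf 0))) (.node (.node (.leaf 9249) (.leaf 0)) (.node (.leaf 23161) (.leaf 0))))) (.node (.node (.node (.node (.leaf 2177) (.leaf 30275)) (.node (.leaf 13986) (.leaf 0))) (.node (.node (.leaf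 7748) (.leaf 0)) (.node (.leaf 21144) (.leaf 0)))) (.node (.node (.node (.leaf 4894) (.leaf 37523)) (.node (.leaf 17435) (.leaf 0))) (.node (.node (.leaf 10748) (.leaf 0)) (.node (.leaf 25291) (.leaf 0))))))) (.node (.node (.node (.node (.node (.node (.leaf 525) (.leaf 27088)) (.node (.leaf 11946) (.leaf 0))) (.node (.node (.leaf 5937) (.leaf 0)) (.node (.leaf 18818) (.leaf 0)))) (.node (.node (.node (.leaf 3162) (.leaf 32499)) (.node (.leaf 15257) (.leaf 0))) (.node (.node (.leaf 8864) (.leaf 0)) (.node (.leaf 22652) (.leaf 0))))) (.node (.node (.node (.node (.leaf 1842) (.leaf 29594)) (.node (.leaf 13578) (.leaf 0))) (.node (.node (.leaf 7383) (.leaf 0)) (.node (.leaf 20666) (.leaf 0)))) (.node (.node (.node (.leaf 4552) (.leaf 36347)) (.node (.leaf 16982) (.leaf 0))) (.node (.node (.leaf 10360) (.leaf 0)) (.node (.leaf 24755) (.leaf 0)))))) (.node (.node (.node (.node (.node (.leaf 1179) (.leaf 28269)) (.node (.leaf 12752) (.leaf 0))) (.node (.node (.leaf 6666) (.leaf 0)) (.node (.leaf 19689) (.leaf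 0)))) (.node (.node (.node (.leaf 3853) (.leaf 34292)) (.node (.leaf 16114) (.leaf 0))) (.node (.node (.leaf 9624) (.leaf 0)) (.node (.leaf 23689) (.leaf 0))))) (.node (.node (.node (.node (.leaf 2507) (.leaf 30966)) (.node (.leaf 14380) (.leaf 0))) (.node (.node (.leaf 8110) (.leaf 0)) (.node (.leaf 21638) (.leaf 0)))) (.node (.node (.node (.leaf 5242) (.leaf 39014)) (.node (.leaf 17880) (.leaf 0))) (.node (.node (.leaf 11136) (.leaf 0)) (.node (.leaf 25881) (.leaf 0))))))))

def pT35 : NT := .node (.node (.node (.node (.node (.node (.node (.node (.leaf 43) (.leaf 26185)) (.node (.leaf 11331) (.leaf 0))) (.node (.node (.leaf 5412) (.leaf 40813)) (.node (.leaf 18099) (.leaf 0)))) (.node (.node (.node (.leaf 2670) (.leaf 31338)) (.node (.leaf 14604) (.leaf 0))) (.node (.node (.leaf 8300) (.leaf 0)) (.node (.leaf 21884) (.leaf 0))))) (.node (.node (.node (.node (.leaf 1344) (.leaf 28584)) (.node (.leaf 12957) (.leaf 0))) (.node (.node (.leaf 6848) (.leaf 0)) (.node (.leaf 19930) (.leaf 0)))) (.node (.node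 (.node (.leaf 4030) (.leaf 34802)) (.node (.leaf 16336) (.leaf 0))) (.node (.node (.leaf 9802) (.leaf 0)) (.node (.leaf 23929) (.leaf 0)))))) (.node (.node (.node (.node (.node (.leaf 690) (.leaf 27397)) (.node (.leaf 12145) (.leaf 0))) (.node (.node (.leaf 6123) (.leaf 0)) (.node (.leaf 19031) (.leaf 0)))) (.node (.node (.node (.leaf 3334) (.leaf 32914)) (.node (.leaf 15466) (.leaf 0))) (.node (.node (.leaf 9056) (.leaf 0)) (.node (.leaf 22900) (.leaf 0))))) (.node (.node (.node (.node (.leaf 2012) (.leaf 29916)) (.node (.leaf 13773) (.leaf 0))) (.node (.node (.leaf 7560) (.leaf 0)) (.node (.leaf 20903) (.leaf 0)))) (.node (.node (.node (.leaf 4727) (.leaf 36967)) (.node (.leaf 17210) (.leaf 0))) (.node (.node (.leaf 10549) (.leaf 0)) (.node (.leaf 25046) (.leaf 0))))))) (.node (.node (.node (.node (.node (.node (.leaf 364) (.leaf 26786)) (.node (.leaf 11738) (.leaf 0))) (.node (.node (.leaf 5768) (.leaf 0)) (.node (.leaf 18571) (.leaf 0)))) (.node (.node (.node (.leaf 2998) (.leaf 32132)) (.node (.leaf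 15047) (.leaf 0))) (.node (.node (.leaf 8667) (.leaf 0)) (.node (.leaf 22412) (.leaf 0))))) (.node (.node (.node (.node (.leaf 1674) (.leaf 29278)) (.node (.leaf 13361) (.leaf 0))) (.node (.node (.leaf 7208) (.leaf 0)) (.node (.leaf 20415) (.leaf 0)))) (.node (.node (.node (.leaf 4381) (.leaf 35798)) (.node (.leaf 16758) (.leaf 0))) (.node (.node (.leaf 10168) (.leaf 0)) (.node (.leaf 24474) (.leaf 0)))))) (.node (.node (.node (.node (.node (.leaf 1020) (.leaf 27960)) (.node (.leaf 12551) (.leaf 0))) (.node (.node (.leaf 6490) (.leaf 0)) (.node (.leaf 19468) (.leaf 0)))) (.node (.node (.node (.leaf 3687) (.leaf 33772)) (.node (.leaf 15887) (.leaf 0))) (.node (.node (.leaf 9454) (.leaf 0)) (.node (.leaf 23436) (.leaf 0))))) (.node (.node (.node (.node (.leaf 2346) (.leaf 30610)) (.node (.leaf 14190) (.leaf 0))) (.node (.node (.leaf 7929) (.leaf 0)) (.node (.leaf 21384) (.leaf 0)))) (.node (.node (.node (.leaf 5066) (.leaf 38261)) (.node (.leaf 17662) (.leaf 0))) (.node (.node (.leaf 10947) (.leaf 0)) (.node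 (.leaf 25588) (.leaf 0)))))))) (.node (.node (.node (.node (.node (.node (.node (.leaf 204) (.leaf 26469)) (.node (.leaf 11513) (.leaf 0))) (.node (.node (.leaf 5594) (.leaf 0)) (.node (.leaf 18328) (.leaf 0)))) (.node (.node (.node (.leaf 2832) (.leaf 31722)) (.node (.leaf 14823) (.leaf 0))) (.node (.node (.leaf 8484) (.leaf 0)) (.node (.leaf 22140) (.leaf 0))))) (.node (.node (.node (.node (.leaf 1508) (.leaf 28945)) (.node (.leaf 13160) (.leaf 0))) (.node (.node (.leaf 7029) (.leaf 0)) (.node (.leaf 20158) (.leaf 0)))) (.node (.node (.node (.leaf 4206) (.leaf 35259)) (.node (.leaf 16530) (.leaf 0))) (.node (.node (.leaf 9989) (.leaf 0)) (.node (.leaf 24192) (.leaf 0)))))) (.node (.node (.node (.node (.node (.leaf 852) (.leaf 27670)) (.node (.leaf 12348) (.leaf 0))) (.node (.node (.leaf 6308) (.leaf 0)) (.node (.leaf 19240) (.leaf 0)))) (.node (.node (.node (.leaf 3516) (.leaf 33341)) (.node (.leaf 15666) (.leaf 0))) (.node (.node (.leaf 9250) (.leaf 0)) (.node (.leaf 23163) (.leaf 0))))) (.node (.node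 (.node (.node (.leaf 2178) (.leaf 30281)) (.node (.leaf 13987) (.leaf 0))) (.node (.node (.leaf 7749) (.leaf 0)) (.node (.leaf 21149) (.leaf 0)))) (.node (.node (.node (.leaf 4895) (.leaf 37525)) (.node (.leaf 17436) (.leaf 0))) (.node (.node (.leaf 10750) (.leaf 0)) (.node (.leaf 25292) (.leaf 0))))))) (.node (.node (.node (.node (.node (.node (.leaf 526) (.leaf 27090)) (.node (.leaf 11947) (.leaf 0))) (.node (.node (.leaf 5938) (.leaf 0)) (.node (.leaf 18819) (.leaf 0)))) (.node (.node (.node (.leaf 3163) (.leaf 32501)) (.node (.leaf 15260) (.leaf 0))) (.node (.node (.leaf 8866) (.leaf 0)) (.node (.leaf 22654) (.leaf 0))))) (.node (.node (.node (.node (.leaf 1843) (.leaf 29596)) (.node (.leaf 13579) (.leaf 0))) (.node (.node (.leaf 7384) (.leaf 0)) (.node (.leaf 20667) (.leaf 0)))) (.node (.node (.node (.leaf 4553) (.leaf 36351)) (.node (.leaf 16984) (.leaf 0))) (.node (.node (.leaf 10362) (.leaf 0)) (.node (.leaf 24758) (.leaf 0)))))) (.node (.node (.node (.node (.node (.leaf 1180) (.leaf 28270)) (.node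 (.leaf 12754) (.leaf 0))) (.node (.node (.leaf 6667) (.leaf 0)) (.node (.leaf 19690) (.leaf 0)))) (.node (.node (.node (.leaf 3854) (.leaf 34298)) (.node (.leaf 16117) (.leaf 0))) (.node (.node (.leaf 9625) (.leaf 0)) (.node (.leaf 23690) (.leaf 0))))) (.node (.node (.node (.node (.leaf 2508) (.leaf 30969)) (.node (.leaf 14382) (.leaf 0))) (.node (.node (.leaf 8111) (.leaf 0)) (.node (.leaf 21640) (.leaf 0)))) (.node (.node (.node (.leaf 5243) (.leaf 39059)) (.node (.leaf 17882) (.leaf 0))) (.node (.node (.leaf 11137) (.leaf 0)) (.node (.leaf 25882) (.leaf 0))))))))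

def pT36 : NT := .node (.node (.node (.node (.node (.node (.node (.node (.leaf 44) (.leaf 26188)) (.node (.leaf 11332) (.leaf 0))) (.node (.node (.leaf 5414) (.leaf 40832)) (.node (.leaf 18101) (.leaf 0)))) (.node (.node (.node (.leaf 2671) (.leaf 31339)) (.node (.leaf 14606) (.leaf 0))) (.node (.node (.leaf 8302) (.leaf 0)) (.node (.leaf 21885) (.leaf 0))))) (.node (.node (.node (.node (.leaf 1346) (.leaf 28587)) (.node (.leaf 12958) (.leaf 0))) (.node (.node (.leaf 6850) (.leaf 0)) (.node (.leaf 19932) (.leaf 0)))) (.node (.node (.node (.leaf 4032) (.leaf 34803)) (.node (.leaf 16337) (.leaf 0))) (.node (.node (.leaf 9804) (.leaf 0)) (.node (.leaf 23930) (.leaf 0)))))) (.node (.node (.node (.node (.node (.leaf 691) (.leaf 27398)) (.node (.leaf 12146) (.leaf 0))) (.node (.node (.leaf 6125) (.leaf 0)) (.node (.leaf 19032) (.leaf 0)))) (.node (.node (.node (.leaf 3336) (.leaf 32919)) (.node (.leaf 15467) (.leaf 0))) (.node (.node (.leaf 9057) (.leaf 0)) (.node (.leaf 22901) (.leaf 0))))) (.node (.node (.node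 (.node (.leaf 2013) (.leaf 29917)) (.node (.leaf 13774) (.leaf 0))) (.node (.node (.leaf 7562) (.leaf 0)) (.node (.leaf 20904) (.leaf 0)))) (.node (.node (.node (.leaf 4728) (.leaf 36968)) (.node (.leaf 17211) (.leaf 0))) (.node (.node (.leaf 10550) (.leaf 0)) (.node (.leaf 25049) (.leaf 0))))))) (.node (.node (.node (.node (.node (.node (.leaf 366) (.leaf 26789)) (.node (.leaf 11742) (.leaf 0))) (.node (.node (.leaf 5769) (.leaf 0)) (.node (.leaf 18574) (.leaf 0)))) (.node (.node (.node (.leaf 2999) (.leaf 32134)) (.node (.leaf 15048) (.leaf 0))) (.node (.node (.leaf 8668) (.leaf 0)) (.node (.leaf 22413) (.leaf 0))))) (.node (.node (.node (.node (.leaf 1676) (.leaf 29279)) (.node (.leaf 13362) (.leaf 0))) (.node (.node (.leaf 7209) (.leaf 0)) (.node (.leaf 20417) (.leaf 0)))) (.node (.node (.node (.leaf 4382) (.leaf 35808)) (.node (.leaf 16760) (.leaf 0))) (.node (.node (.leaf 10169) (.leaf 0)) (.node (.leaf 24475) (.leaf 0)))))) (.node (.node (.node (.node (.node (.leaf 1021) (.leaf 27961)) (.node (.leaf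 12552) (.leaf 0))) (.node (.node (.leaf 6492) (.leaf 0)) (.node (.leaf 19472) (.leaf 0)))) (.node (.node (.node (.leaf 3688) (.leaf 33775)) (.node (.leaf 15888) (.leaf 0))) (.node (.node (.leaf 9455) (.leaf 0)) (.node (.leaf 23438) (.leaf 0))))) (.node (.node (.node (.node (.leaf 2347) (.leaf 30614)) (.node (.leaf 14192) (.leaf 0))) (.node (.node (.leaf 7930) (.leaf 0)) (.node (.leaf 21385) (.leaf 0)))) (.node (.node (.node (.leaf 5067) (.leaf 38266)) (.node (.leaf 17664) (.leaf 0))) (.node (.node (.leaf 10948) (.leaf 0)) (.node (.leaf 25594) (.leaf 0)))))))) (.node (.node (.node (.node (.node (.node (.node (.leaf 205) (.leaf 26470)) (.node (.leaf 11514) (.leaf 0))) (.node (.node (.leaf 5596) (.leaf 0)) (.node (.leaf 18337) (.leaf 0)))) (.node (.node (.node (.leaf 2833) (.leaf 31724)) (.node (.leaf 14828) (.leaf 0))) (.node (.node (.leaf 8485) (.leaf 0)) (.node (.leaf 22143) (.leaf 0))))) (.node (.node (.node (.node (.leaf 1510) (.leaf 28946)) (.node (.leaf 13163) (.leaf 0))) (.node (.node (.leaf 7030)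 (.leaf 0)) (.node (.leaf 20160) (.leaf 0)))) (.node (.node (.node (.leaf 4207) (.leaf 35260)) (.node (.leaf 16531) (.leaf 0))) (.node (.node (.leaf 9990) (.leaf 0)) (.node (.leaf 24195) (.leaf 0)))))) (.node (.node (.node (.node (.node (.leaf 854) (.leaf 27672)) (.node (.leaf 12350) (.leaf 0))) (.node (.node (.leaf 6309) (.leaf 0)) (.node (.leaf 19241) (.leaf 0)))) (.node (.node (.node (.leaf 3517) (.leaf 33342)) (.node (.leaf 15668) (.leaf 0))) (.node (.node (.leaf 9252) (.leaf 0)) (.node (.leaf 23166) (.leaf 0))))) (.node (.node (.node (.node (.leaf 2180) (.leaf 30282)) (.node (.leaf 13988) (.leaf 0))) (.node (.node (.leaf 7750) (.leaf 0)) (.node (.leaf 21151) (.leaf 0)))) (.node (.node (.node (.leaf 4896) (.leaf 37529)) (.node (.leaf 17437) (.leaf 0))) (.node (.node (.leaf 10753) (.leaf 0)) (.node (.leaf 25296) (.leaf 0))))))) (.node (.node (.node (.node (.node (.node (.leaf 527) (.leaf 27092)) (.node (.leaf 11949) (.leaf 0))) (.node (.node (.leaf 5941) (.leaf 0)) (.node (.leaf 18820) (.leaf 0)))) (.node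 (.node (.node (.leaf 3164) (.leaf 32506)) (.node (.leaf 15261) (.leaf 0))) (.node (.node (.leaf 8867) (.leaf 0)) (.node (.leaf 22656) (.leaf 0))))) (.node (.node (.node (.node (.leaf 1844) (.leaf 29600)) (.node (.leaf 13582) (.leaf 0))) (.node (.node (.leaf 7386) (.leaf 0)) (.node (.leaf 20670) (.leaf 0)))) (.node (.node (.node (.leaf 4554) (.leaf 36352)) (.node (.leaf 16986) (.leaf 0))) (.node (.node (.leaf 10363) (.leaf 0)) (.node (.leaf 24759) (.leaf 0)))))) (.node (.node (.node (.node (.node (.leaf 1181) (.leaf 28275)) (.node (.leaf 12755) (.leaf 0))) (.node (.node (.leaf 6668) (.leaf 0)) (.node (.leaf 19691) (.leaf 0)))) (.node (.node (.node (.leaf 3856) (.leaf 34300)) (.node (.leaf 16119) (.leaf 0))) (.node (.node (.leaf 9626) (.leaf 0)) (.node (.leaf 23691) (.leaf 0))))) (.node (.node (.node (.node (.leaf 2509) (.leaf 30972)) (.node (.leaf 14383) (.leaf 0))) (.node (.node (.leaf 8112) (.leaf 0)) (.node (.leaf 21642) (.leaf 0)))) (.node (.node (.node (.leaf 5244) (.leaf 39062)) (.node (.leaf 17886)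 (.leaf 0))) (.node (.node (.leaf 11138) (.leaf 0)) (.node (.leaf 25884) (.leaf 0))))))))

def pT37 : NT := .node (.node (.node (.node (.node (.node (.node (.node (.leaf 46) (.leaf 26190)) (.node (.leaf 11334) (.leaf 0))) (.node (.node (.leaf 5416) (.leaf 40869)) (.node (.leaf 18102) (.leaf 0)))) (.node (.node (.node (.leaf 2672) (.leaf 31341)) (.node (.leaf 14608) (.leaf 0))) (.node (.node (.leaf 8304) (.leaf 0)) (.node (.leaf 21886) (.leaf 0))))) (.node (.node (.node (.node (.leaf 1348) (.leaf 28589)) (.node (.leaf 12960) (.leaf 0))) (.node (.node (.leaf 6851) (.leaf 0)) (.node (.leaf 19934) (.leaf 0)))) (.node (.node (.node (.leaf 4033) (.leaf 34806)) (.node (.leaf 16340) (.leaf 0))) (.node (.node (.leaf 9805) (.leaf 0)) (.node (.leaf 23936) (.leaf 0)))))) (.node (.node (.node (.node (.node (.leaf 692) (.leaf 27400)) (.node (.leaf 12147) (.leaf 0))) (.node (.node (.leaf 6126) (.leaf 0)) (.node (.leaf 19033) (.leaf 0)))) (.node (.node (.node (.leaf 3337) (.leaf 32920)) (.node (.leaf 15468) (.leaf 0)))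 (.node (.node (.leaf 9058) (.leaf 0)) (.node (.leaf 22904) (.leaf 0))))) (.node (.node (.node (.node (.leaf 2015) (.leaf 29920)) (.node (.leaf 13776) (.leaf 0))) (.node (.node (.leaf 7563) (.leaf 0)) (.node (.leaf 20906) (.leaf 0)))) (.node (.node (.node (.leaf 4729) (.leaf 36972)) (.node (.leaf 17212) (.leaf 0))) (.node (.node (.leaf 10551) (.leaf 0)) (.node (.leaf 25050) (.leaf 0))))))) (.node (.node (.node (.node (.node (.node (.leaf 367) (.leaf 26791)) (.node (.leaf 11744) (.leaf 0))) (.node (.node (.leaf 5770) (.leaf 0)) (.node (.leaf 18576) (.leaf 0)))) (.node (.node (.node (.leaf 3001) (.leaf 32135)) (.node (.leaf 15050) (.leaf 0))) (.node (.node (.leaf 8672) (.leaf 0)) (.node (.leaf 22414) (.leaf 0))))) (.node (.node (.node (.node (.leaf 1677) (.leaf 29283)) (.node (.leaf 13368) (.leaf 0))) (.node (.node (.leaf 7210) (.leaf 0)) (.node (.leaf 20418) (.leaf 0)))) (.node (.node (.node (.leaf 4384) (.leaf 35810)) (.node (.leaf 16764) (.leaf 0))) (.node (.node (.leaf 10172) (.leaf 0)) (.node (.leaf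 24477) (.leaf 0)))))) (.node (.node (.node (.node (.node (.leaf 1022) (.leaf 27966)) (.node (.leaf 12554) (.leaf 0))) (.node (.node (.leaf 6495) (.leaf 0)) (.node (.leaf 19473) (.leaf 0)))) (.node (.node (.node (.leaf 3691) (.leaf 33782)) (.node (.leaf 15890) (.leaf 0))) (.node (.node (.leaf 9456) (.leaf 0)) (.node (.leaf 23439) (.leaf 0))))) (.node (.node (.node (.node (.leaf 2348) (.leaf 30616)) (.node (.leaf 14193) (.leaf 0))) (.node (.node (.leaf 7932) (.leaf 0)) (.node (.leaf 21386) (.leaf 0)))) (.node (.node (.node (.leaf 5068) (.leaf 38267)) (.node (.leaf 17667) (.leaf 0))) (.node (.node (.leaf 10950) (.leaf 0)) (.node (.leaf 25595) (.leaf 0)))))))) (.node (.node (.node (.node (.node (.node (.node (.leaf 206) (.leaf 26474)) (.node (.leaf 11516) (.leaf 0))) (.node (.node (.leaf 5598) (.leaf 0)) (.node (.leaf 18338) (.leaf 0)))) (.node (.node (.node (.leaf 2834) (.leaf 31730)) (.node (.leaf 14829) (.leaf 0))) (.node (.node (.leaf 8488) (.leaf 0)) (.node (.leaf 22144) (.leaf 0))))) (.node (.node (.node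 (.node (.leaf 1511) (.leaf 28950)) (.node (.leaf 13164) (.leaf 0))) (.node (.node (.leaf 7033) (.leaf 0)) (.node (.leaf 20162) (.leaf 0)))) (.node (.node (.node (.leaf 4208) (.leaf 35261)) (.node (.leaf 16534) (.leaf 0))) (.node (.node (.leaf 9991) (.leaf 0)) (.node (.leaf 24197) (.leaf 0)))))) (.node (.node (.node (.node (.node (.leaf 855) (.leaf 27676)) (.node (.leaf 12351) (.leaf 0))) (.node (.node (.leaf 6310) (.leaf 0)) (.node (.leaf 19242) (.leaf 0)))) (.node (.node (.node (.leaf 3518) (.leaf 33348)) (.node (.leaf 15670) (.leaf 0))) (.node (.node (.leaf 9253) (.leaf 0)) (.node (.leaf 23168) (.leaf 0))))) (.node (.node (.node (.node (.leaf 2181) (.leaf 30284)) (.node (.leaf 13990) (.leaf 0))) (.node (.node (.leaf 7751) (.leaf 0)) (.node (.leaf 21154) (.leaf 0)))) (.node (.node (.node (.leaf 4898) (.leaf 37530)) (.node (.leaf 17440) (.leaf 0))) (.node (.node (.leaf 10754) (.leaf 0)) (.node (.leaf 25297) (.leaf 0))))))) (.node (.node (.node (.node (.node (.node (.leaf 528) (.leaf 27095)) (.node (.leaf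 11950) (.leaf 0))) (.node (.node (.leaf 5945) (.leaf 0)) (.node (.leaf 18822) (.leaf 0)))) (.node (.node (.node (.leaf 3165) (.leaf 32508)) (.node (.leaf 15262) (.leaf 0))) (.node (.node (.leaf 8869) (.leaf 0)) (.node (.leaf 22658) (.leaf 0))))) (.node (.node (.node (.node (.leaf 1845) (.leaf 29602)) (.node (.leaf 13584) (.leaf 0))) (.node (.node (.leaf 7388) (.leaf 0)) (.node (.leaf 20671) (.leaf 0)))) (.node (.node (.node (.leaf 4556) (.leaf 36354)) (.node (.leaf 16987) (.leaf 0))) (.node (.node (.leaf 10364) (.leaf 0)) (.node (.leaf 24761) (.leaf 0)))))) (.node (.node (.node (.node (.node (.leaf 1182) (.leaf 28276)) (.node (.leaf 12756) (.leaf 0))) (.node (.node (.leaf 6669) (.leaf 0)) (.node (.leaf 19693) (.leaf 0)))) (.node (.node (.node (.leaf 3857) (.leaf 34302)) (.node (.leaf 16120) (.leaf 0))) (.node (.node (.leaf 9628) (.leaf 0)) (.node (.leaf 23695) (.leaf 0))))) (.node (.node (.node (.node (.leaf 2510) (.leaf 30974)) (.node (.leaf 14384) (.leaf 0))) (.node (.node (.leaf 8114) (.leaf 0)) (.node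 (.leaf 21644) (.leaf 0)))) (.node (.node (.node (.leaf 5246) (.leaf 39076)) (.node (.leaf 17889) (.leaf 0))) (.node (.node (.leaf 11140) (.leaf 0)) (.node (.leaf 25885) (.leaf 0))))))))

def pT38 : NT := .node (.node (.node (.node (.node (.node (.node (.node (.leaf 47) (.leaf 26191)) (.node (.leaf 11335) (.leaf 0))) (.node (.node (.leaf 5418) (.leaf 40898)) (.node (.leaf 18106) (.leaf 0)))) (.node (.node (.node (.leaf 2674) (.leaf 31342)) (.node (.leaf 14610) (.leaf 0))) (.node (.node (.leaf 8306) (.leaf 0)) (.node (.leaf 21887) (.leaf 0))))) (.node (.node (.node (.node (.leaf 1350) (.leaf 28590)) (.node (.leaf 12961) (.leaf 0))) (.node (.node (.leaf 6852) (.leaf 0)) (.node (.leaf 19935) (.leaf 0)))) (.node (.node (.node (.leaf 4034) (.leaf 34811)) (.node (.leaf 16341) (.leaf 0))) (.node (.node (.leaf 9806) (.leaf 0)) (.node (.leaf 23937) (.leaf 0)))))) (.node (.node (.node (.node (.node (.leaf 694) (.leaf 27402)) (.node (.leaf 12151) (.leaf 0))) (.node (.node (.leaf 6128) (.leaf 0)) (.node (.leaf 19034)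 (.leaf 0)))) (.node (.node (.node (.leaf 3339) (.leaf 32924)) (.node (.leaf 15469) (.leaf 0))) (.node (.node (.leaf 9060) (.leaf 0)) (.node (.leaf 22905) (.leaf 0))))) (.node (.node (.node (.node (.leaf 2016) (.leaf 29923)) (.node (.leaf 13777) (.leaf 0))) (.node (.node (.leaf 7564) (.leaf 0)) (.node (.leaf 20907) (.leaf 0)))) (.node (.node (.node (.leaf 4730) (.leaf 36978)) (.node (.leaf 17216) (.leaf 0))) (.node (.node (.leaf 10552) (.leaf 0)) (.node (.leaf 25051) (.leaf 0))))))) (.node (.node (.node (.node (.node (.node (.leaf 368) (.leaf 26796)) (.node (.leaf 11745) (.leaf 0))) (.node (.node (.leaf 5771) (.leaf 0)) (.node (.leaf 18577) (.leaf 0)))) (.node (.node (.node (.leaf 3002) (.leaf 32136)) (.node (.leaf 15052) (.leaf 0))) (.node (.node (.leaf 8673) (.leaf 0)) (.node (.leaf 22416) (.leaf 0))))) (.node (.node (.node (.node (.leaf 1678) (.leaf 29286)) (.node (.leaf 13369) (.leaf 0))) (.node (.node (.leaf 7212) (.leaf 0)) (.node (.leaf 20420) (.leaf 0)))) (.node (.node (.node (.leaf 4385) (.leaf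 35811)) (.node (.leaf 16765) (.leaf 0))) (.node (.node (.leaf 10175) (.leaf 0)) (.node (.leaf 24481) (.leaf 0)))))) (.node (.node (.node (.node (.node (.leaf 1024) (.leaf 27972)) (.node (.leaf 12555) (.leaf 0))) (.node (.node (.leaf 6496) (.leaf 0)) (.node (.leaf 19474) (.leaf 0)))) (.node (.node (.node (.leaf 3694) (.leaf 33784)) (.node (.leaf 15892) (.leaf 0))) (.node (.node (.leaf 9458) (.leaf 0)) (.node (.leaf 23440) (.leaf 0))))) (.node (.node (.node (.node (.leaf 2351) (.leaf 30617)) (.node (.leaf 14194) (.leaf 0))) (.node (.node (.leaf 7933) (.leaf 0)) (.node (.leaf 21388) (.leaf 0)))) (.node (.node (.node (.leaf 5069) (.leaf 38268)) (.node (.leaf 17668) (.leaf 0))) (.node (.node (.leaf 10951) (.leaf 0)) (.node (.leaf 25601) (.leaf 0)))))))) (.node (.node (.node (.node (.node (.node (.node (.leaf 208) (.leaf 26477)) (.node (.leaf 11518) (.leaf 0))) (.node (.node (.leaf 5599) (.leaf 0)) (.node (.leaf 18340) (.leaf 0)))) (.node (.node (.node (.leaf 2836) (.leaf 31731)) (.node (.leaf 14830) (.leaf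 0))) (.node (.node (.leaf 8489) (.leaf 0)) (.node (.leaf 22146) (.leaf 0))))) (.node (.node (.node (.node (.leaf 1512) (.leaf 28951)) (.node (.leaf 13166) (.leaf 0))) (.node (.node (.leaf 7034) (.leaf 0)) (.node (.leaf 20167) (.leaf 0)))) (.node (.node (.node (.leaf 4209) (.leaf 35266)) (.node (.leaf 16536) (.leaf 0))) (.node (.node (.leaf 9992) (.leaf 0)) (.node (.leaf 24198) (.leaf 0)))))) (.node (.node (.node (.node (.node (.leaf 856) (.leaf 27677)) (.node (.leaf 12352) (.leaf 0))) (.node (.node (.leaf 6312) (.leaf 0)) (.node (.leaf 19244) (.leaf 0)))) (.node (.node (.node (.leaf 3519) (.leaf 33349)) (.node (.leaf 15672) (.leaf 0))) (.node (.node (.leaf 9254) (.leaf 0)) (.node (.leaf 23170) (.leaf 0))))) (.node (.node (.node (.node (.leaf 2182) (.leaf 30290)) (.node (.leaf 13991) (.leaf 0))) (.node (.node (.leaf 7752) (.leaf 0)) (.node (.leaf 21156) (.leaf 0)))) (.node (.node (.node (.leaf 4899) (.leaf 37532)) (.node (.leaf 17441) (.leaf 0))) (.node (.node (.leaf 10756) (.leaf 0)) (.node (.leaf 25298)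 (.leaf 0))))))) (.node (.node (.node (.node (.node (.node (.leaf 530) (.leaf 27096)) (.node (.leaf 11952) (.leaf 0))) (.node (.node (.leaf 5948) (.leaf 0)) (.node (.leaf 18825) (.leaf 0)))) (.node (.node (.node (.leaf 3166) (.leaf 32522)) (.node (.leaf 15264) (.leaf 0))) (.node (.node (.leaf 8870) (.leaf 0)) (.node (.leaf 22661) (.leaf 0))))) (.node (.node (.node (.node (.leaf 1846) (.leaf 29604)) (.node (.leaf 13586) (.leaf 0))) (.node (.node (.leaf 7390) (.leaf 0)) (.node (.leaf 20672) (.leaf 0)))) (.node (.node (.node (.leaf 4557) (.leaf 36356)) (.node (.leaf 16988) (.leaf 0))) (.node (.node (.leaf 10365) (.leaf 0)) (.node (.leaf 24762) (.leaf 0)))))) (.node (.node (.node (.node (.node (.leaf 1184) (.leaf 28277)) (.node (.leaf 12758) (.leaf 0))) (.node (.node (.leaf 6670) (.leaf 0)) (.node (.leaf 19695) (.leaf 0)))) (.node (.node (.node (.leaf 3858) (.leaf 34305)) (.node (.leaf 16121) (.leaf 0))) (.node (.node (.leaf 9629) (.leaf 0)) (.node (.leaf 23696) (.leaf 0))))) (.node (.node (.node (.node (.leaf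 2512) (.leaf 30975)) (.node (.leaf 14386) (.leaf 0))) (.node (.node (.leaf 8115) (.leaf 0)) (.node (.leaf 21646) (.leaf 0)))) (.node (.node (.node (.leaf 5247) (.leaf 39078)) (.node (.leaf 17892) (.leaf 0))) (.node (.node (.leaf 11141) (.leaf 0)) (.node (.leaf 25887) (.leaf 0))))))))

def pT39 : NT := .node (.node (.node (.node (.node (.node (.node (.node (.leaf 48) (.leaf 26192)) (.node (.leaf 11336) (.leaf 0))) (.node (.node (.leaf 5419) (.leaf 40926)) (.node (.leaf 18109) (.leaf 0)))) (.node (.node (.node (.leaf 2675) (.leaf 31348)) (.node (.leaf 14611) (.leaf 0))) (.node (.node (.leaf 8307) (.leaf 0)) (.node (.leaf 21891) (.leaf 0))))) (.node (.node (.node (.node (.leaf 1351) (.leaf 28592)) (.node (.leaf 12962) (.leaf 0))) (.node (.node (.leaf 6854) (.leaf 0)) (.node (.leaf 19936) (.leaf 0)))) (.node (.node (.node (.leaf 4035) (.leaf 34813)) (.node (.leaf 16342) (.leaf 0))) (.node (.node (.leaf 9807) (.leaf 0)) (.node (.leaf 23938) (.leaf 0)))))) (.node (.node (.node (.node (.node (.leaf 695) (.leaf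 27403)) (.node (.leaf 12152) (.leaf 0))) (.node (.node (.leaf 6129) (.leaf 0)) (.node (.leaf 19037) (.leaf 0)))) (.node (.node (.node (.leaf 3340) (.leaf 32925)) (.node (.leaf 15470) (.leaf 0))) (.node (.node (.leaf 9061) (.leaf 0)) (.node (.leaf 22909) (.leaf 0))))) (.node (.node (.node (.node (.leaf 2017) (.leaf 29926)) (.node (.leaf 13778) (.leaf 0))) (.node (.node (.leaf 7566) (.leaf 0)) (.node (.leaf 20908) (.leaf 0)))) (.node (.node (.node (.leaf 4732) (.leaf 36980)) (.node (.leaf 17217) (.leaf 0))) (.node (.node (.leaf 10554) (.leaf 0)) (.node (.leaf 25052) (.leaf 0))))))) (.node (.node (.node (.node (.node (.node (.leaf 370) (.leaf 26798)) (.node (.leaf 11746) (.leaf 0))) (.node (.node (.leaf 5772) (.leaf 0)) (.node (.leaf 18578) (.leaf 0)))) (.node (.node (.node (.leaf 3003) (.leaf 32140)) (.node (.leaf 15055) (.leaf 0))) (.node (.node (.leaf 8674) (.leaf 0)) (.node (.leaf 22417) (.leaf 0))))) (.node (.node (.node (.node (.leaf 1680) (.leaf 29287)) (.node (.leaf 13370) (.leaf 0))) (.node (.node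 (.leaf 7213) (.leaf 0)) (.node (.leaf 20422) (.leaf 0)))) (.node (.node (.node (.leaf 4386) (.leaf 35813)) (.node (.leaf 16766) (.leaf 0))) (.node (.node (.leaf 10176) (.leaf 0)) (.node (.leaf 24482) (.leaf 0)))))) (.node (.node (.node (.node (.node (.leaf 1025) (.leaf 27973)) (.node (.leaf 12559) (.leaf 0))) (.node (.node (.leaf 6498) (.leaf 0)) (.node (.leaf 19476) (.leaf 0)))) (.node (.node (.node (.leaf 3695) (.leaf 33792)) (.node (.leaf 15893) (.leaf 0))) (.node (.node (.leaf 9459) (.leaf 0)) (.node (.leaf 23442) (.leaf 0))))) (.node (.node (.node (.node (.leaf 2352) (.leaf 30621)) (.node (.leaf 14196) (.leaf 0))) (.node (.node (.leaf 7934) (.leaf 0)) (.node (.leaf 21389) (.leaf 0)))) (.node (.node (.node (.leaf 5070) (.leaf 38276)) (.node (.leaf 17669) (.leaf 0))) (.node (.node (.leaf 10954) (.leaf 0)) (.node (.leaf 25603) (.leaf 0)))))))) (.node (.node (.node (.node (.node (.node (.node (.leaf 209) (.leaf 26482)) (.node (.leaf 11524) (.leaf 0))) (.node (.node (.leaf 5600) (.leaf 0)) (.node (.leaf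 18342) (.leaf 0)))) (.node (.node (.node (.leaf 2837) (.leaf 31732)) (.node (.leaf 14832) (.leaf 0))) (.node (.node (.leaf 8490) (.leaf 0)) (.node (.leaf 22148) (.leaf 0))))) (.node (.node (.node (.node (.leaf 1513) (.leaf 28954)) (.node (.leaf 13168) (.leaf 0))) (.node (.node (.leaf 7036) (.leaf 0)) (.node (.leaf 20168) (.leaf 0)))) (.node (.node (.node (.leaf 4210) (.leaf 35267)) (.node (.leaf 16537) (.leaf 0))) (.node (.node (.leaf 9994) (.leaf 0)) (.node (.leaf 24200) (.leaf 0)))))) (.node (.node (.node (.node (.node (.leaf 858) (.leaf 27678)) (.node (.leaf 12354) (.leaf 0))) (.node (.node (.leaf 6313) (.leaf 0)) (.node (.leaf 19245) (.leaf 0)))) (.node (.node (.node (.leaf 3520) (.leaf 33350)) (.node (.leaf 15673) (.leaf 0))) (.node (.node (.leaf 9256) (.leaf 0)) (.node (.leaf 23171) (.leaf 0))))) (.node (.node (.node (.node (.leaf 2183) (.leaf 30293)) (.node (.leaf 13992) (.leaf 0))) (.node (.node (.leaf 7754) (.leaf 0)) (.node (.leaf 21157) (.leaf 0)))) (.node (.node (.node (.leaf 4900) (.leaf 37533))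 (.node (.leaf 17443) (.leaf 0))) (.node (.node (.leaf 10760) (.leaf 0)) (.node (.leaf 25299) (.leaf 0))))))) (.node (.node (.node (.node (.node (.node (.leaf 531) (.leaf 27100)) (.node (.leaf 11953) (.leaf 0))) (.node (.node (.leaf 5949) (.leaf 0)) (.node (.leaf 18826) (.leaf 0)))) (.node (.node (.node (.leaf 3169) (.leaf 32528)) (.node (.leaf 15266) (.leaf 0))) (.node (.node (.leaf 8872) (.leaf 0)) (.node (.leaf 22665) (.leaf 0))))) (.node (.node (.node (.node (.leaf 1848) (.leaf 29605)) (.node (.leaf 13587) (.leaf 0))) (.node (.node (.leaf 7391) (.leaf 0)) (.node (.leaf 20675) (.leaf 0)))) (.node (.node (.node (.leaf 4558) (.leaf 36357)) (.node (.leaf 16990) (.leaf 0))) (.node (.node (.leaf 10366) (.leaf 0)) (.node (.leaf 24765) (.leaf 0)))))) (.node (.node (.node (.node (.node (.leaf 1185) (.leaf 28278)) (.node (.leaf 12759) (.leaf 0))) (.node (.node (.leaf 6671) (.leaf 0)) (.node (.leaf 19696) (.leaf 0)))) (.node (.node (.node (.leaf 3860) (.leaf 34307)) (.node (.leaf 16122) (.leaf 0))) (.node (.node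 (.leaf 9630) (.leaf 0)) (.node (.leaf 23698) (.leaf 0))))) (.node (.node (.node (.node (.leaf 2513) (.leaf 30976)) (.node (.leaf 14388) (.leaf 0))) (.node (.node (.leaf 8116) (.leaf 0)) (.node (.leaf 21648) (.leaf 0)))) (.node (.node (.node (.leaf 5248) (.leaf 39083)) (.node (.leaf 17893) (.leaf 0))) (.node (.node (.leaf 11142) (.leaf 0)) (.node (.leaf 25890) (.leaf 0))))))))

def pT40 : NT := .node (.node (.node (.node (.node (.node (.node (.node (.leaf 50) (.leaf 26194)) (.node (.leaf 11337) (.leaf 0))) (.node (.node (.leaf 5420) (.leaf 0)) (.node (.leaf 18112) (.leaf 0)))) (.node (.node (.node (.leaf 2676) (.leaf 31352)) (.node (.leaf 14612) (.leaf 0))) (.node (.node (.leaf 8310) (.leaf 0)) (.node (.leaf 21892) (.leaf 0))))) (.node (.node (.node (.node (.leaf 1352) (.leaf 28594)) (.node (.leaf 12963) (.leaf 0))) (.node (.node (.leaf 6856) (.leaf 0)) (.node (.leaf 19941) (.leaf 0)))) (.node (.node (.node (.leaf 4036) (.leaf 34820)) (.node (.leaf 16343) (.leaf 0))) (.node (.node (.leaf 9808) (.leaf 0))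 (.node (.leaf 23939) (.leaf 0)))))) (.node (.node (.node (.node (.node (.leaf 696) (.leaf 27406)) (.node (.leaf 12154) (.leaf 0))) (.node (.node (.leaf 6130) (.leaf 0)) (.node (.leaf 19039) (.leaf 0)))) (.node (.node (.node (.leaf 3342) (.leaf 32926)) (.node (.leaf 15473) (.leaf 0))) (.node (.node (.leaf 9062) (.leaf 0)) (.node (.leaf 22910) (.leaf 0))))) (.node (.node (.node (.node (.leaf 2018) (.leaf 29927)) (.node (.leaf 13779) (.leaf 0))) (.node (.node (.leaf 7567) (.leaf 0)) (.node (.leaf 20910) (.leaf 0)))) (.node (.node (.node (.leaf 4733) (.leaf 36985)) (.node (.leaf 17218) (.leaf 0))) (.node (.node (.leaf 10555) (.leaf 0)) (.node (.leaf 25053) (.leaf 0))))))) (.node (.node (.node (.node (.node (.node (.leaf 371) (.leaf 26800)) (.node (.leaf 11748) (.leaf 0))) (.node (.node (.leaf 5774) (.leaf 0)) (.node (.leaf 18583) (.leaf 0)))) (.node (.node (.node (.leaf 3004) (.leaf 32142)) (.node (.leaf 15056) (.leaf 0))) (.node (.node (.leaf 8676) (.leaf 0)) (.node (.leaf 22418) (.leaf 0))))) (.node (.node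 (.node (.node (.leaf 1681) (.leaf 29288)) (.node (.leaf 13372) (.leaf 0))) (.node (.node (.leaf 7214) (.leaf 0)) (.node (.leaf 20423) (.leaf 0)))) (.node (.node (.node (.leaf 4387) (.leaf 35823)) (.node (.leaf 16767) (.leaf 0))) (.node (.node (.leaf 10178) (.leaf 0)) (.node (.leaf 24484) (.leaf 0)))))) (.node (.node (.node (.node (.node (.leaf 1026) (.leaf 27974)) (.node (.leaf 12560) (.leaf 0))) (.node (.node (.leaf 6499) (.leaf 0)) (.node (.leaf 19478) (.leaf 0)))) (.node (.node (.node (.leaf 3696) (.leaf 33797)) (.node (.leaf 15894) (.leaf 0))) (.node (.node (.leaf 9460) (.leaf 0)) (.node (.leaf 23443) (.leaf 0))))) (.node (.node (.node (.node (.leaf 2353) (.leaf 30625)) (.node (.leaf 14197) (.leaf 0))) (.node (.node (.leaf 7935) (.leaf 0)) (.node (.leaf 21390) (.leaf 0)))) (.node (.node (.node (.leaf 5071) (.leaf 38277)) (.node (.leaf 17670) (.leaf 0))) (.node (.node (.leaf 10955) (.leaf 0)) (.node (.leaf 25605) (.leaf 0)))))))) (.node (.node (.node (.node (.node (.node (.node (.leaf 210) (.leaf 26488))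 (.node (.leaf 11526) (.leaf 0))) (.node (.node (.leaf 5602) (.leaf 0)) (.node (.leaf 18343) (.leaf 0)))) (.node (.node (.node (.leaf 2838) (.leaf 31739)) (.node (.leaf 14838) (.leaf 0))) (.node (.node (.leaf 8492) (.leaf 0)) (.node (.leaf 22149) (.leaf 0))))) (.node (.node (.node (.node (.leaf 1514) (.leaf 28956)) (.node (.leaf 13171) (.leaf 0))) (.node (.node (.leaf 7037) (.leaf 0)) (.node (.leaf 20171) (.leaf 0)))) (.node (.node (.node (.leaf 4212) (.leaf 35275)) (.node (.leaf 16538) (.leaf 0))) (.node (.node (.leaf 9995) (.leaf 0)) (.node (.leaf 24202) (.leaf 0)))))) (.node (.node (.node (.node (.node (.leaf 860) (.leaf 27682)) (.node (.leaf 12355) (.leaf 0))) (.node (.node (.leaf 6314) (.leaf 0)) (.node (.leaf 19246) (.leaf 0)))) (.node (.node (.node (.leaf 3522) (.leaf 33351)) (.node (.leaf 15674) (.leaf 0))) (.node (.node (.leaf 9257) (.leaf 0)) (.node (.leaf 23174) (.leaf 0))))) (.node (.node (.node (.node (.leaf 2184) (.leaf 30296)) (.node (.leaf 13993) (.leaf 0))) (.node (.node (.leaf 7755) (.leaf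 0)) (.node (.leaf 21159) (.leaf 0)))) (.node (.node (.node (.leaf 4904) (.leaf 37541)) (.node (.leaf 17450) (.leaf 0))) (.node (.node (.leaf 10763) (.leaf 0)) (.node (.leaf 25300) (.leaf 0))))))) (.node (.node (.node (.node (.node (.node (.leaf 532) (.leaf 27102)) (.node (.leaf 11954) (.leaf 0))) (.node (.node (.leaf 5950) (.leaf 0)) (.node (.leaf 18827) (.leaf 0)))) (.node (.node (.node (.leaf 3170) (.leaf 32529)) (.node (.leaf 15268) (.leaf 0))) (.node (.node (.leaf 8873) (.leaf 0)) (.node (.leaf 22666) (.leaf 0))))) (.node (.node (.node (.node (.leaf 1849) (.leaf 29606)) (.node (.leaf 13588) (.leaf 0))) (.node (.node (.leaf 7392) (.leaf 0)) (.node (.leaf 20676) (.leaf 0)))) (.node (.node (.node (.leaf 4560) (.leaf 36359)) (.node (.leaf 16991) (.leaf 0))) (.node (.node (.leaf 10368) (.leaf 0)) (.node (.leaf 24767) (.leaf 0)))))) (.node (.node (.node (.node (.node (.leaf 1186) (.leaf 28280)) (.node (.leaf 12760) (.leaf 0))) (.node (.node (.leaf 6672) (.leaf 0)) (.node (.leaf 19698) (.leaf 0)))) (.node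 (.node (.node (.leaf 3861) (.leaf 34310)) (.node (.leaf 16124) (.leaf 0))) (.node (.node (.leaf 9632) (.leaf 0)) (.node (.leaf 23699) (.leaf 0))))) (.node (.node (.node (.node (.leaf 2514) (.leaf 30978)) (.node (.leaf 14390) (.leaf 0))) (.node (.node (.leaf 8118) (.leaf 0)) (.node (.leaf 21652) (.leaf 0)))) (.node (.node (.node (.leaf 5250) (.leaf 39084)) (.node (.leaf 17894) (.leaf 0))) (.node (.node (.leaf 11144) (.leaf 0)) (.node (.leaf 25895) (.leaf 0))))))))

def pT41 : NT := .node (.node (.node (.node (.node (.node (.node (.node (.leaf 51) (.leaf 26196)) (.node (.leaf 11338) (.leaf 0))) (.node (.node (.leaf 5421) (.leaf 0)) (.node (.leaf 18113) (.leaf 0)))) (.node (.node (.node (.leaf 2678) (.leaf 31353)) (.node (.leaf 14614) (.leaf 0))) (.node (.node (.leaf 8311) (.leaf 0)) (.node (.leaf 21893) (.leaf 0))))) (.node (.node (.node (.node (.leaf 1353) (.leaf 28596)) (.node (.leaf 12964) (.leaf 0))) (.node (.node (.leaf 6857) (.leaf 0)) (.node (.leaf 19942) (.leaf 0)))) (.node (.node (.node (.leaf 4038)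 (.leaf 34821)) (.node (.leaf 16344) (.leaf 0))) (.node (.node (.leaf 9810) (.leaf 0)) (.node (.leaf 23940) (.leaf 0)))))) (.node (.node (.node (.node (.node (.leaf 698) (.leaf 27408)) (.node (.leaf 12160) (.leaf 0))) (.node (.node (.leaf 6131) (.leaf 0)) (.node (.leaf 19040) (.leaf 0)))) (.node (.node (.node (.leaf 3344) (.leaf 32930)) (.node (.leaf 15474) (.leaf 0))) (.node (.node (.leaf 9064) (.leaf 0)) (.node (.leaf 22912) (.leaf 0))))) (.node (.node (.node (.node (.leaf 2020) (.leaf 29931)) (.node (.leaf 13780) (.leaf 0))) (.node (.node (.leaf 7568) (.leaf 0)) (.node (.leaf 20912) (.leaf 0)))) (.node (.node (.node (.leaf 4734) (.leaf 36996)) (.node (.leaf 17220) (.leaf 0))) (.node (.node (.leaf 10556) (.leaf 0)) (.node (.leaf 25054) (.leaf 0))))))) (.node (.node (.node (.node (.node (.node (.leaf 372) (.leaf 26801)) (.node (.leaf 11749) (.leaf 0))) (.node (.node (.leaf 5775) (.leaf 0)) (.node (.leaf 18590) (.leaf 0)))) (.node (.node (.node (.leaf 3005) (.leaf 32147)) (.node (.leaf 15058) (.leaf 0)))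 (.node (.node (.leaf 8677) (.leaf 0)) (.node (.leaf 22422) (.leaf 0))))) (.node (.node (.node (.node (.leaf 1682) (.leaf 29294)) (.node (.leaf 13374) (.leaf 0))) (.node (.node (.leaf 7216) (.leaf 0)) (.node (.leaf 20424) (.leaf 0)))) (.node (.node (.node (.leaf 4388) (.leaf 35829)) (.node (.leaf 16768) (.leaf 0))) (.node (.node (.leaf 10181) (.leaf 0)) (.node (.leaf 24486) (.leaf 0)))))) (.node (.node (.node (.node (.node (.leaf 1028) (.leaf 27978)) (.node (.leaf 12563) (.leaf 0))) (.node (.node (.leaf 6500) (.leaf 0)) (.node (.leaf 19479) (.leaf 0)))) (.node (.node (.node (.leaf 3697) (.leaf 33798)) (.node (.leaf 15896) (.leaf 0))) (.node (.node (.leaf 9461) (.leaf 0)) (.node (.leaf 23449) (.leaf 0))))) (.node (.node (.node (.node (.leaf 2354) (.leaf 30627)) (.node (.leaf 14198) (.leaf 0))) (.node (.node (.leaf 7936) (.leaf 0)) (.node (.leaf 21392) (.leaf 0)))) (.node (.node (.node (.leaf 5072) (.leaf 38288)) (.node (.leaf 17672) (.leaf 0))) (.node (.node (.leaf 10956) (.leaf 0)) (.node (.leaf 25606)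 (.leaf 0)))))))) (.node (.node (.node (.node (.node (.node (.node (.leaf 211) (.leaf 26490)) (.node (.leaf 11527) (.leaf 0))) (.node (.node (.leaf 5604) (.leaf 0)) (.node (.leaf 18346) (.leaf 0)))) (.node (.node (.node (.leaf 2840) (.leaf 31740)) (.node (.leaf 14839) (.leaf 0))) (.node (.node (.leaf 8493) (.leaf 0)) (.node (.leaf 22151) (.leaf 0))))) (.node (.node (.node (.node (.leaf 1516) (.leaf 28961)) (.node (.leaf 13174) (.leaf 0))) (.node (.node (.leaf 7038) (.leaf 0)) (.node (.leaf 20172) (.leaf 0)))) (.node (.node (.node (.leaf 4213) (.leaf 35278)) (.node (.leaf 16540) (.leaf 0))) (.node (.node (.leaf 9996) (.leaf 0)) (.node (.leaf 24203) (.leaf 0)))))) (.node (.node (.node (.node (.node (.leaf 861) (.leaf 27685)) (.node (.leaf 12356) (.leaf 0))) (.node (.node (.leaf 6315) (.leaf 0)) (.node (.leaf 19248) (.leaf 0)))) (.node (.node (.node (.leaf 3523) (.leaf 33352)) (.node (.leaf 15677) (.leaf 0))) (.node (.node (.leaf 9258) (.leaf 0)) (.node (.leaf 23175) (.leaf 0))))) (.node (.node (.node (.node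 (.leaf 2186) (.leaf 30298)) (.node (.leaf 13994) (.leaf 0))) (.node (.node (.leaf 7756) (.leaf 0)) (.node (.leaf 21160) (.leaf 0)))) (.node (.node (.node (.leaf 4906) (.leaf 37545)) (.node (.leaf 17451) (.leaf 0))) (.node (.node (.leaf 10764) (.leaf 0)) (.node (.leaf 25302) (.leaf 0))))))) (.node (.node (.node (.node (.node (.node (.leaf 536) (.leaf 27104)) (.node (.leaf 11956) (.leaf 0))) (.node (.node (.leaf 5951) (.leaf 0)) (.node (.leaf 18828) (.leaf 0)))) (.node (.node (.node (.leaf 3171) (.leaf 32530)) (.node (.leaf 15270) (.leaf 0))) (.node (.node (.leaf 8874) (.leaf 0)) (.node (.leaf 22668) (.leaf 0))))) (.node (.node (.node (.node (.leaf 1850) (.leaf 29610)) (.node (.leaf 13590) (.leaf 0))) (.node (.node (.leaf 7394) (.leaf 0)) (.node (.leaf 20678) (.leaf 0)))) (.node (.node (.node (.leaf 4561) (.leaf 36366)) (.node (.leaf 16992) (.leaf 0))) (.node (.node (.leaf 10369) (.leaf 0)) (.node (.leaf 24769) (.leaf 0)))))) (.node (.node (.node (.node (.node (.leaf 1188) (.leaf 28282)) (.node (.leaf 12762)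 (.leaf 0))) (.node (.node (.leaf 6674) (.leaf 0)) (.node (.leaf 19699) (.leaf 0)))) (.node (.node (.node (.leaf 3862) (.leaf 34312)) (.node (.leaf 16127) (.leaf 0))) (.node (.node (.leaf 9633) (.leaf 0)) (.node (.leaf 23701) (.leaf 0))))) (.node (.node (.node (.node (.leaf 2515) (.leaf 30981)) (.node (.leaf 14391) (.leaf 0))) (.node (.node (.leaf 8119) (.leaf 0)) (.node (.leaf 21653) (.leaf 0)))) (.node (.node (.node (.leaf 5251) (.leaf 39105)) (.node (.leaf 17899) (.leaf 0))) (.node (.node (.leaf 11146) (.leaf 0)) (.node (.leaf 25896) (.leaf 0))))))))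

def pT42 : NT := .node (.node (.node (.node (.node (.node (.node (.node (.leaf 52) (.leaf 26198)) (.node (.leaf 11340) (.leaf 0))) (.node (.node (.leaf 5422) (.leaf 0)) (.node (.leaf 18114) (.leaf 0)))) (.node (.node (.node (.leaf 2680) (.leaf 31357)) (.node (.leaf 14615) (.leaf 0))) (.node (.node (.leaf 8312) (.leaf 0)) (.node (.leaf 21894) (.leaf 0))))) (.node (.node (.node (.node (.leaf 1354) (.leaf 28597)) (.node (.leaf 12965) (.leaf 0))) (.node (.node (.leaf 6858) (.leaf 0)) (.node (.leaf 19944) (.leaf 0)))) (.node (.node (.node (.leaf 4040) (.leaf 34822)) (.node (.leaf 16348) (.leaf 0))) (.node (.node (.leaf 9812) (.leaf 0)) (.node (.leaf 23944) (.leaf 0)))))) (.node (.node (.node (.node (.node (.leaf 699) (.leaf 27410)) (.node (.leaf 12161) (.leaf 0))) (.node (.node (.leaf 6132) (.leaf 0)) (.node (.leaf 19041) (.leaf 0)))) (.node (.node (.node (.leaf 3345) (.leaf 32932)) (.node (.leaf 15476) (.leaf 0))) (.node (.node (.leaf 9065) (.leaf 0)) (.node (.leaf 22914) (.leaf 0))))) (.node (.node (.node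 (.node (.leaf 2021) (.leaf 29932)) (.node (.leaf 13782) (.leaf 0))) (.node (.node (.leaf 7569) (.leaf 0)) (.node (.leaf 20914) (.leaf 0)))) (.node (.node (.node (.leaf 4736) (.leaf 37002)) (.node (.leaf 17221) (.leaf 0))) (.node (.node (.leaf 10558) (.leaf 0)) (.node (.leaf 25055) (.leaf 0))))))) (.node (.node (.node (.node (.node (.node (.leaf 373) (.leaf 26802)) (.node (.leaf 11750) (.leaf 0))) (.node (.node (.leaf 5776) (.leaf 0)) (.node (.leaf 18592) (.leaf 0)))) (.node (.node (.node (.leaf 3006) (.leaf 32148)) (.node (.leaf 15059) (.leaf 0))) (.node (.node (.leaf 8678) (.leaf 0)) (.node (.leaf 22424) (.leaf 0))))) (.node (.node (.node (.node (.leaf 1684) (.leaf 29296)) (.node (.leaf 13375) (.leaf 0))) (.node (.node (.leaf 7217) (.leaf 0)) (.node (.leaf 20425) (.leaf 0)))) (.node (.node (.node (.leaf 4390) (.leaf 35830)) (.node (.leaf 16770) (.leaf 0))) (.node (.node (.leaf 10182) (.leaf 0)) (.node (.leaf 24488) (.leaf 0)))))) (.node (.node (.node (.node (.node (.leaf 1029) (.leaf 27979)) (.node (.leaf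 12564) (.leaf 0))) (.node (.node (.leaf 6501) (.leaf 0)) (.node (.leaf 19480) (.leaf 0)))) (.node (.node (.node (.leaf 3698) (.leaf 33814)) (.node (.leaf 15900) (.leaf 0))) (.node (.node (.leaf 9462) (.leaf 0)) (.node (.leaf 23450) (.leaf 0))))) (.node (.node (.node (.node (.leaf 2356) (.leaf 30630)) (.node (.leaf 14199) (.leaf 0))) (.node (.node (.leaf 7938) (.leaf 0)) (.node (.leaf 21393) (.leaf 0)))) (.node (.node (.node (.leaf 5074) (.leaf 38292)) (.node (.leaf 17673) (.leaf 0))) (.node (.node (.leaf 10959) (.leaf 0)) (.node (.leaf 25608) (.leaf 0)))))))) (.node (.node (.node (.node (.node (.node (.node (.leaf 212) (.leaf 26492)) (.node (.leaf 11529) (.leaf 0))) (.node (.node (.leaf 5606) (.leaf 0)) (.node (.leaf 18350) (.leaf 0)))) (.node (.node (.node (.leaf 2841) (.leaf 31745)) (.node (.leaf 14842) (.leaf 0))) (.node (.node (.leaf 8494) (.leaf 0)) (.node (.leaf 22152) (.leaf 0))))) (.node (.node (.node (.node (.leaf 1517) (.leaf 28964)) (.node (.leaf 13177) (.leaf 0))) (.node (.node (.leaf 7040)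 (.leaf 0)) (.node (.leaf 20174) (.leaf 0)))) (.node (.node (.node (.leaf 4214) (.leaf 35283)) (.node (.leaf 16542) (.leaf 0))) (.node (.node (.leaf 9997) (.leaf 0)) (.node (.leaf 24206) (.leaf 0)))))) (.node (.node (.node (.node (.node (.leaf 862) (.leaf 27686)) (.node (.leaf 12357) (.leaf 0))) (.node (.node (.leaf 6316) (.leaf 0)) (.node (.leaf 19250) (.leaf 0)))) (.node (.node (.node (.leaf 3524) (.leaf 33354)) (.node (.leaf 15681) (.leaf 0))) (.node (.node (.leaf 9260) (.leaf 0)) (.node (.leaf 23177) (.leaf 0))))) (.node (.node (.node (.node (.leaf 2187) (.leaf 30300)) (.node (.leaf 13996) (.leaf 0))) (.node (.node (.leaf 7758) (.leaf 0)) (.node (.leaf 21161) (.leaf 0)))) (.node (.node (.node (.leaf 4907) (.leaf 37548)) (.node (.leaf 17452) (.leaf 0))) (.node (.node (.leaf 10771) (.leaf 0)) (.node (.leaf 25306) (.leaf 0))))))) (.node (.node (.node (.node (.node (.node (.leaf 537) (.leaf 27107)) (.node (.leaf 11957) (.leaf 0))) (.node (.node (.leaf 5952) (.leaf 0)) (.node (.leaf 18830) (.leaf 0)))) (.node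 (.node (.node (.leaf 3172) (.leaf 32533)) (.node (.leaf 15271) (.leaf 0))) (.node (.node (.leaf 8875) (.leaf 0)) (.node (.leaf 22670) (.leaf 0))))) (.node (.node (.node (.node (.leaf 1853) (.leaf 29612)) (.node (.leaf 13591) (.leaf 0))) (.node (.node (.leaf 7396) (.leaf 0)) (.node (.leaf 20680) (.leaf 0)))) (.node (.node (.node (.leaf 4562) (.leaf 36370)) (.node (.leaf 16994) (.leaf 0))) (.node (.node (.leaf 10370) (.leaf 0)) (.node (.leaf 24771) (.leaf 0)))))) (.node (.node (.node (.node (.node (.leaf 1189) (.leaf 28284)) (.node (.leaf 12763) (.leaf 0))) (.node (.node (.leaf 6675) (.leaf 0)) (.node (.leaf 19700) (.leaf 0)))) (.node (.node (.node (.leaf 3864) (.leaf 34317)) (.node (.leaf 16128) (.leaf 0))) (.node (.node (.leaf 9634) (.leaf 0)) (.node (.leaf 23702) (.leaf 0))))) (.node (.node (.node (.node (.leaf 2516) (.leaf 30986)) (.node (.leaf 14392) (.leaf 0))) (.node (.node (.leaf 8120) (.leaf 0)) (.node (.leaf 21654) (.leaf 0)))) (.node (.node (.node (.leaf 5252) (.leaf 39108)) (.node (.leaf 17901)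 (.leaf 0))) (.node (.node (.leaf 11148) (.leaf 0)) (.node (.leaf 25899) (.leaf 0))))))))

def pT43 : NT := .node (.node (.node (.node (.node (.node (.node (.node (.leaf 53) (.leaf 26201)) (.node (.leaf 11341) (.leaf 0))) (.node (.node (.leaf 5424) (.leaf 0)) (.node (.leaf 18116) (.leaf 0)))) (.node (.node (.node (.leaf 2682) (.leaf 31360)) (.node (.leaf 14616) (.leaf 0))) (.node (.node (.leaf 8314) (.leaf 0)) (.node (.leaf 21896) (.leaf 0))))) (.node (.node (.node (.node (.leaf 1356) (.leaf 28598)) (.node (.leaf 12966) (.leaf 0))) (.node (.node (.leaf 6859) (.leaf 0)) (.node (.leaf 19946) (.leaf 0)))) (.node (.node (.node (.leaf 4041) (.leaf 34823)) (.node (.leaf 16350) (.leaf 0))) (.node (.node (.leaf 9814) (.leaf 0)) (.node (.leaf 23946) (.leaf 0)))))) (.node (.node (.node (.node (.node (.leaf 700) (.leaf 27411)) (.node (.leaf 12164) (.leaf 0))) (.node (.node (.leaf 6134) (.leaf 0)) (.node (.leaf 19043) (.leaf 0)))) (.node (.node (.node (.leaf 3346) (.leaf 32933)) (.node (.leaf 15477) (.leaf 0))) (.node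 (.node (.leaf 9066) (.leaf 0)) (.node (.leaf 22917) (.leaf 0))))) (.node (.node (.node (.node (.leaf 2022) (.leaf 29935)) (.node (.leaf 13783) (.leaf 0))) (.node (.node (.leaf 7570) (.leaf 0)) (.node (.leaf 20918) (.leaf 0)))) (.node (.node (.node (.leaf 4737) (.leaf 37005)) (.node (.leaf 17222) (.leaf 0))) (.node (.node (.leaf 10559) (.leaf 0)) (.node (.leaf 25058) (.leaf 0))))))) (.node (.node (.node (.node (.node (.node (.leaf 374) (.leaf 26804)) (.node (.leaf 11751) (.leaf 0))) (.node (.node (.leaf 5777) (.leaf 0)) (.node (.leaf 18594) (.leaf 0)))) (.node (.node (.node (.leaf 3008) (.leaf 32150)) (.node (.leaf 15060) (.leaf 0))) (.node (.node (.leaf 8679) (.leaf 0)) (.node (.leaf 22430) (.leaf 0))))) (.node (.node (.node (.node (.leaf 1686) (.leaf 29298)) (.node (.leaf 13376) (.leaf 0))) (.node (.node (.leaf 7218) (.leaf 0)) (.node (.leaf 20426) (.leaf 0)))) (.node (.node (.node (.leaf 4391) (.leaf 35832)) (.node (.leaf 16771) (.leaf 0))) (.node (.node (.leaf 10183) (.leaf 0)) (.node (.leaf 24489)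 (.leaf 0)))))) (.node (.node (.node (.node (.node (.leaf 1030) (.leaf 27980)) (.node (.leaf 12566) (.leaf 0))) (.node (.node (.leaf 6502) (.leaf 0)) (.node (.leaf 19483) (.leaf 0)))) (.node (.node (.node (.leaf 3700) (.leaf 33815)) (.node (.leaf 15902) (.leaf 0))) (.node (.node (.leaf 9464) (.leaf 0)) (.node (.leaf 23451) (.leaf 0))))) (.node (.node (.node (.node (.leaf 2357) (.leaf 30634)) (.node (.leaf 14200) (.leaf 0))) (.node (.node (.leaf 7939) (.leaf 0)) (.node (.leaf 21394) (.leaf 0)))) (.node (.node (.node (.leaf 5075) (.leaf 38293)) (.node (.leaf 17674) (.leaf 0))) (.node (.node (.leaf 10960) (.leaf 0)) (.node (.leaf 25610) (.leaf 0)))))))) (.node (.node (.node (.node (.node (.node (.node (.leaf 215) (.leaf 26493)) (.node (.leaf 11532) (.leaf 0))) (.node (.node (.leaf 5607) (.leaf 0)) (.node (.leaf 18353) (.leaf 0)))) (.node (.node (.node (.leaf 2842) (.leaf 31750)) (.node (.leaf 14843) (.leaf 0))) (.node (.node (.leaf 8495) (.leaf 0)) (.node (.leaf 22154) (.leaf 0))))) (.node (.node (.node (.node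 (.leaf 1518) (.leaf 28968)) (.node (.leaf 13180) (.leaf 0))) (.node (.node (.leaf 7041) (.leaf 0)) (.node (.leaf 20178) (.leaf 0)))) (.node (.node (.node (.leaf 4216) (.leaf 35284)) (.node (.leaf 16546) (.leaf 0))) (.node (.node (.leaf 9998) (.leaf 0)) (.node (.leaf 24211) (.leaf 0)))))) (.node (.node (.node (.node (.node (.leaf 864) (.leaf 27687)) (.node (.leaf 12359) (.leaf 0))) (.node (.node (.leaf 6318) (.leaf 0)) (.node (.leaf 19251) (.leaf 0)))) (.node (.node (.node (.leaf 3526) (.leaf 33356)) (.node (.leaf 15682) (.leaf 0))) (.node (.node (.leaf 9261) (.leaf 0)) (.node (.leaf 23180) (.leaf 0))))) (.node (.node (.node (.node (.leaf 2188) (.leaf 30301)) (.node (.leaf 13997) (.leaf 0))) (.node (.node (.leaf 7760) (.leaf 0)) (.node (.leaf 21162) (.leaf 0)))) (.node (.node (.node (.leaf 4908) (.leaf 37554)) (.node (.leaf 17454) (.leaf 0))) (.node (.node (.leaf 10772) (.leaf 0)) (.node (.leaf 25308) (.leaf 0))))))) (.node (.node (.node (.node (.node (.node (.leaf 538) (.leaf 27108)) (.node (.leaf 11962)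 (.leaf 0))) (.node (.node (.leaf 5954) (.leaf 0)) (.node (.leaf 18832) (.leaf 0)))) (.node (.node (.node (.leaf 3174) (.leaf 32539)) (.node (.leaf 15272) (.leaf 0))) (.node (.node (.leaf 8876) (.leaf 0)) (.node (.leaf 22672) (.leaf 0))))) (.node (.node (.node (.node (.leaf 1854) (.leaf 29622)) (.node (.leaf 13592) (.leaf 0))) (.node (.node (.leaf 7397) (.leaf 0)) (.node (.leaf 20682) (.leaf 0)))) (.node (.node (.node (.leaf 4563) (.leaf 36376)) (.node (.leaf 16998) (.leaf 0))) (.node (.node (.leaf 10371) (.leaf 0)) (.node (.leaf 24773) (.leaf 0)))))) (.node (.node (.node (.node (.node (.leaf 1190) (.leaf 28285)) (.node (.leaf 12764) (.leaf 0))) (.node (.node (.leaf 6676) (.leaf 0)) (.node (.leaf 19701) (.leaf 0)))) (.node (.node (.node (.leaf 3865) (.leaf 34321)) (.node (.leaf 16131) (.leaf 0))) (.node (.node (.leaf 9635) (.leaf 0)) (.node (.leaf 23704) (.leaf 0))))) (.node (.node (.node (.node (.leaf 2518) (.leaf 30988)) (.node (.leaf 14396) (.leaf 0))) (.node (.node (.leaf 8121) (.leaf 0)) (.node (.leaf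 21656) (.leaf 0)))) (.node (.node (.node (.leaf 5253) (.leaf 39116)) (.node (.leaf 17904) (.leaf 0))) (.node (.node (.leaf 11149) (.leaf 0)) (.node (.leaf 25900) (.leaf 0))))))))

def pT44 : NT := .node (.node (.node (.node (.node (.node (.node (.node (.leaf 54) (.leaf 26205)) (.node (.leaf 11342) (.leaf 0))) (.node (.node (.leaf 5425) (.leaf 0)) (.node (.leaf 18117) (.leaf 0)))) (.node (.node (.node (.leaf 2683) (.leaf 31363)) (.node (.leaf 14618) (.leaf 0))) (.node (.node (.leaf 8316) (.leaf 0)) (.node (.leaf 21900) (.leaf 0))))) (.node (.node (.node (.node (.leaf 1357) (.leaf 28602)) (.node (.leaf 12969) (.leaf 0))) (.node (.node (.leaf 6860) (.leaf 0)) (.node (.leaf 19950) (.leaf 0)))) (.node (.node (.node (.leaf 4042) (.leaf 34835)) (.node (.leaf 16351) (.leaf 0))) (.node (.node (.leaf 9815) (.leaf 0)) (.node (.leaf 23950) (.leaf 0)))))) (.node (.node (.node (.node (.node (.leaf 702) (.leaf 27413)) (.node (.leaf 12166) (.leaf 0))) (.node (.node (.leaf 6136) (.leaf 0)) (.node (.leaf 19044) (.leaf 0))))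 (.node (.node (.node (.leaf 3348) (.leaf 32934)) (.node (.leaf 15478) (.leaf 0))) (.node (.node (.leaf 9068) (.leaf 0)) (.node (.leaf 22918) (.leaf 0))))) (.node (.node (.node (.node (.leaf 2023) (.leaf 29941)) (.node (.leaf 13784) (.leaf 0))) (.node (.node (.leaf 7572) (.leaf 0)) (.node (.leaf 20920) (.leaf 0)))) (.node (.node (.node (.leaf 4738) (.leaf 37014)) (.node (.leaf 17226) (.leaf 0))) (.node (.node (.leaf 10561) (.leaf 0)) (.node (.leaf 25060) (.leaf 0))))))) (.node (.node (.node (.node (.node (.node (.leaf 376) (.leaf 26807)) (.node (.leaf 11752) (.leaf 0))) (.node (.node (.leaf 5778) (.leaf 0)) (.node (.leaf 18597) (.leaf 0)))) (.node (.node (.node (.leaf 3009) (.leaf 32151)) (.node (.leaf 15061) (.leaf 0))) (.node (.node (.leaf 8680) (.leaf 0)) (.node (.leaf 22431) (.leaf 0))))) (.node (.node (.node (.node (.leaf 1687) (.leaf 29299)) (.node (.leaf 13378) (.leaf 0))) (.node (.node (.leaf 7219) (.leaf 0)) (.node (.leaf 20427) (.leaf 0)))) (.node (.node (.node (.leaf 4392) (.leaf 35835)) (.node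 (.leaf 16773) (.leaf 0))) (.node (.node (.leaf 10184) (.leaf 0)) (.node (.leaf 24490) (.leaf 0)))))) (.node (.node (.node (.node (.node (.leaf 1032) (.leaf 27984)) (.node (.leaf 12567) (.leaf 0))) (.node (.node (.leaf 6503) (.leaf 0)) (.node (.leaf 19484) (.leaf 0)))) (.node (.node (.node (.leaf 3702) (.leaf 33823)) (.node (.leaf 15904) (.leaf 0))) (.node (.node (.leaf 9465) (.leaf 0)) (.node (.leaf 23453) (.leaf 0))))) (.node (.node (.node (.node (.leaf 2358) (.leaf 30638)) (.node (.leaf 14202) (.leaf 0))) (.node (.node (.leaf 7940) (.leaf 0)) (.node (.leaf 21396) (.leaf 0)))) (.node (.node (.node (.leaf 5076) (.leaf 38299)) (.node (.leaf 17677) (.leaf 0))) (.node (.node (.leaf 10962) (.leaf 0)) (.node (.leaf 25612) (.leaf 0)))))))) (.node (.node (.node (.node (.node (.node (.node (.leaf 216) (.leaf 26494)) (.node (.leaf 11534) (.leaf 0))) (.node (.node (.leaf 5608) (.leaf 0)) (.node (.leaf 18354) (.leaf 0)))) (.node (.node (.node (.leaf 2844) (.leaf 31760)) (.node (.leaf 14846) (.leaf 0))) (.node (.node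 (.leaf 8498) (.leaf 0)) (.node (.leaf 22155) (.leaf 0))))) (.node (.node (.node (.node (.leaf 1520) (.leaf 28972)) (.node (.leaf 13182) (.leaf 0))) (.node (.node (.leaf 7042) (.leaf 0)) (.node (.leaf 20179) (.leaf 0)))) (.node (.node (.node (.leaf 4217) (.leaf 35286)) (.node (.leaf 16547) (.leaf 0))) (.node (.node (.leaf 9999) (.leaf 0)) (.node (.leaf 24213) (.leaf 0)))))) (.node (.node (.node (.node (.node (.leaf 865) (.leaf 27688)) (.node (.leaf 12360) (.leaf 0))) (.node (.node (.leaf 6319) (.leaf 0)) (.node (.leaf 19252) (.leaf 0)))) (.node (.node (.node (.leaf 3527) (.leaf 33360)) (.node (.leaf 15684) (.leaf 0))) (.node (.node (.leaf 9262) (.leaf 0)) (.node (.leaf 23181) (.leaf 0))))) (.node (.node (.node (.node (.leaf 2189) (.leaf 30302)) (.node (.leaf 13999) (.leaf 0))) (.node (.node (.leaf 7762) (.leaf 0)) (.node (.leaf 21164) (.leaf 0)))) (.node (.node (.node (.leaf 4909) (.leaf 37558)) (.node (.leaf 17456) (.leaf 0))) (.node (.node (.leaf 10773) (.leaf 0)) (.node (.leaf 25312) (.leaf 0)))))))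 (.node (.node (.node (.node (.node (.node (.leaf 540) (.leaf 27110)) (.node (.leaf 11963) (.leaf 0))) (.node (.node (.leaf 5955) (.leaf 0)) (.node (.leaf 18836) (.leaf 0)))) (.node (.node (.node (.leaf 3175) (.leaf 32542)) (.node (.leaf 15273) (.leaf 0))) (.node (.node (.leaf 8878) (.leaf 0)) (.node (.leaf 22673) (.leaf 0))))) (.node (.node (.node (.node (.leaf 1856) (.leaf 29624)) (.node (.leaf 13594) (.leaf 0))) (.node (.node (.leaf 7398) (.leaf 0)) (.node (.leaf 20684) (.leaf 0)))) (.node (.node (.node (.leaf 4564) (.leaf 36378)) (.node (.leaf 17000) (.leaf 0))) (.node (.node (.leaf 10376) (.leaf 0)) (.node (.leaf 24774) (.leaf 0)))))) (.node (.node (.node (.node (.node (.leaf 1191) (.leaf 28287)) (.node (.leaf 12765) (.leaf 0))) (.node (.node (.leaf 6677) (.leaf 0)) (.node (.leaf 19704) (.leaf 0)))) (.node (.node (.node (.leaf 3866) (.leaf 34322)) (.node (.leaf 16133) (.leaf 0))) (.node (.node (.leaf 9637) (.leaf 0)) (.node (.leaf 23705) (.leaf 0))))) (.node (.node (.node (.node (.leaf 2519) (.leaf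 30989)) (.node (.leaf 14398) (.leaf 0))) (.node (.node (.leaf 8122) (.leaf 0)) (.node (.leaf 21657) (.leaf 0)))) (.node (.node (.node (.leaf 5254) (.leaf 39131)) (.node (.leaf 17906) (.leaf 0))) (.node (.node (.leaf 11152) (.leaf 0)) (.node (.leaf 25904) (.leaf 0))))))))

def pT45 : NT := .node (.node (.node (.node (.node (.node (.node (.node (.leaf 56) (.leaf 26206)) (.node (.leaf 11343) (.leaf 0))) (.node (.node (.leaf 5428) (.leaf 0)) (.node (.leaf 18118) (.leaf 0)))) (.node (.node (.node (.leaf 2684) (.leaf 31364)) (.node (.leaf 14622) (.leaf 0))) (.node (.node (.leaf 8318) (.leaf 0)) (.node (.leaf 21903) (.leaf 0))))) (.node (.node (.node (.node (.leaf 1358) (.leaf 28604)) (.node (.leaf 12970) (.leaf 0))) (.node (.node (.leaf 6863) (.leaf 0)) (.node (.leaf 19951) (.leaf 0)))) (.node (.node (.node (.leaf 4044) (.leaf 34839)) (.node (.leaf 16355) (.leaf 0))) (.node (.node (.leaf 9816) (.leaf 0)) (.node (.leaf 23952) (.leaf 0)))))) (.node (.node (.node (.node (.node (.leaf 703) (.leaf 27414)) (.node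 (.leaf 12168) (.leaf 0))) (.node (.node (.leaf 6137) (.leaf 0)) (.node (.leaf 19047) (.leaf 0)))) (.node (.node (.node (.leaf 3349) (.leaf 32937)) (.node (.leaf 15480) (.leaf 0))) (.node (.node (.leaf 9069) (.leaf 0)) (.node (.leaf 22919) (.leaf 0))))) (.node (.node (.node (.node (.leaf 2024) (.leaf 29943)) (.node (.leaf 13790) (.leaf 0))) (.node (.node (.leaf 7573) (.leaf 0)) (.node (.leaf 20922) (.leaf 0)))) (.node (.node (.node (.leaf 4740) (.leaf 37024)) (.node (.leaf 17227) (.leaf 0))) (.node (.node (.leaf 10562) (.leaf 0)) (.node (.leaf 25061) (.leaf 0))))))) (.node (.node (.node (.node (.node (.node (.leaf 377) (.leaf 26810)) (.node (.leaf 11758) (.leaf 0))) (.node (.node (.leaf 5780) (.leaf 0)) (.node (.leaf 18604) (.leaf 0)))) (.node (.node (.node (.leaf 3010) (.leaf 32155)) (.node (.leaf 15062) (.leaf 0))) (.node (.node (.leaf 8682) (.leaf 0)) (.node (.leaf 22433) (.leaf 0))))) (.node (.node (.node (.node (.leaf 1688) (.leaf 29300)) (.node (.leaf 13379) (.leaf 0))) (.node (.node (.leaf 7220)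 (.leaf 0)) (.node (.leaf 20432) (.leaf 0)))) (.node (.node (.node (.leaf 4393) (.leaf 35838)) (.node (.leaf 16774) (.leaf 0))) (.node (.node (.leaf 10185) (.leaf 0)) (.node (.leaf 24492) (.leaf 0)))))) (.node (.node (.node (.node (.node (.leaf 1033) (.leaf 27986)) (.node (.leaf 12570) (.leaf 0))) (.node (.node (.leaf 6504) (.leaf 0)) (.node (.leaf 19487) (.leaf 0)))) (.node (.node (.node (.leaf 3704) (.leaf 33824)) (.node (.leaf 15905) (.leaf 0))) (.node (.node (.leaf 9466) (.leaf 0)) (.node (.leaf 23455) (.leaf 0))))) (.node (.node (.node (.node (.leaf 2359) (.leaf 30643)) (.node (.leaf 14203) (.leaf 0))) (.node (.node (.leaf 7942) (.leaf 0)) (.node (.leaf 21398) (.leaf 0)))) (.node (.node (.node (.leaf 5077) (.leaf 38306)) (.node (.leaf 17678) (.leaf 0))) (.node (.node (.leaf 10963) (.leaf 0)) (.node (.leaf 25615) (.leaf 0)))))))) (.node (.node (.node (.node (.node (.node (.node (.leaf 218) (.leaf 26495)) (.node (.leaf 11535) (.leaf 0))) (.node (.node (.leaf 5609) (.leaf 0)) (.node (.leaf 18355) (.leaf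 0)))) (.node (.node (.node (.leaf 2845) (.leaf 31768)) (.node (.leaf 14848) (.leaf 0))) (.node (.node (.leaf 8499) (.leaf 0)) (.node (.leaf 22158) (.leaf 0))))) (.node (.node (.node (.node (.leaf 1521) (.leaf 28975)) (.node (.leaf 13184) (.leaf 0))) (.node (.node (.leaf 7043) (.leaf 0)) (.node (.leaf 20181) (.leaf 0)))) (.node (.node (.node (.leaf 4219) (.leaf 35287)) (.node (.leaf 16548) (.leaf 0))) (.node (.node (.leaf 10000) (.leaf 0)) (.node (.leaf 24216) (.leaf 0)))))) (.node (.node (.node (.node (.node (.leaf 866) (.leaf 27692)) (.node (.leaf 12361) (.leaf 0))) (.node (.node (.leaf 6322) (.leaf 0)) (.node (.leaf 19253) (.leaf 0)))) (.node (.node (.node (.leaf 3528) (.leaf 33361)) (.node (.leaf 15685) (.leaf 0))) (.node (.node (.leaf 9264) (.leaf 0)) (.node (.leaf 23182) (.leaf 0))))) (.node (.node (.node (.node (.leaf 2190) (.leaf 30304)) (.node (.leaf 14000) (.leaf 0))) (.node (.node (.leaf 7763) (.leaf 0)) (.node (.leaf 21166) (.leaf 0)))) (.node (.node (.node (.leaf 4910) (.leaf 37560)) (.node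 (.leaf 17457) (.leaf 0))) (.node (.node (.leaf 10774) (.leaf 0)) (.node (.leaf 25316) (.leaf 0))))))) (.node (.node (.node (.node (.node (.node (.leaf 541) (.leaf 27112)) (.node (.leaf 11964) (.leaf 0))) (.node (.node (.leaf 5956) (.leaf 0)) (.node (.leaf 18837) (.leaf 0)))) (.node (.node (.node (.leaf 3176) (.leaf 32543)) (.node (.leaf 15275) (.leaf 0))) (.node (.node (.leaf 8879) (.leaf 0)) (.node (.leaf 22676) (.leaf 0))))) (.node (.node (.node (.node (.leaf 1857) (.leaf 29625)) (.node (.leaf 13596) (.leaf 0))) (.node (.node (.leaf 7400) (.leaf 0)) (.node (.leaf 20685) (.leaf 0)))) (.node (.node (.node (.leaf 4566) (.leaf 36379)) (.node (.leaf 17001) (.leaf 0))) (.node (.node (.leaf 10378) (.leaf 0)) (.node (.leaf 24777) (.leaf 0)))))) (.node (.node (.node (.node (.node (.leaf 1192) (.leaf 28289)) (.node (.leaf 12766) (.leaf 0))) (.node (.node (.leaf 6678) (.leaf 0)) (.node (.leaf 19705) (.leaf 0)))) (.node (.node (.node (.leaf 3867) (.leaf 34330)) (.node (.leaf 16134) (.leaf 0))) (.node (.node (.leaf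 9638) (.leaf 0)) (.node (.leaf 23707) (.leaf 0))))) (.node (.node (.node (.node (.leaf 2520) (.leaf 30991)) (.node (.leaf 14399) (.leaf 0))) (.node (.node (.leaf 8124) (.leaf 0)) (.node (.leaf 21658) (.leaf 0)))) (.node (.node (.node (.leaf 5256) (.leaf 39132)) (.node (.leaf 17907) (.leaf 0))) (.node (.node (.leaf 11153) (.leaf 0)) (.node (.leaf 25906) (.leaf 0))))))))

def pT46 : NT := .node (.node (.node (.node (.node (.node (.node (.node (.leaf 57) (.leaf 26207)) (.node (.leaf 11344) (.leaf 0))) (.node (.node (.leaf 5429) (.leaf 0)) (.node (.leaf 18120) (.leaf 0)))) (.node (.node (.node (.leaf 2685) (.leaf 31366)) (.node (.leaf 14623) (.leaf 0))) (.node (.node (.leaf 8319) (.leaf 0)) (.node (.leaf 21905) (.leaf 0))))) (.node (.node (.node (.node (.leaf 1359) (.leaf 28608)) (.node (.leaf 12972) (.leaf 0))) (.node (.node (.leaf 6864) (.leaf 0)) (.node (.leaf 19952) (.leaf 0)))) (.node (.node (.node (.leaf 4045) (.leaf 34840)) (.node (.leaf 16356) (.leaf 0))) (.node (.node (.leaf 9818) (.leaf 0)) (.node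 (.leaf 23954) (.leaf 0)))))) (.node (.node (.node (.node (.node (.leaf 704) (.leaf 27415)) (.node (.leaf 12172) (.leaf 0))) (.node (.node (.leaf 6138) (.leaf 0)) (.node (.leaf 19049) (.leaf 0)))) (.node (.node (.node (.leaf 3350) (.leaf 32938)) (.node (.leaf 15482) (.leaf 0))) (.node (.node (.leaf 9070) (.leaf 0)) (.node (.leaf 22920) (.leaf 0))))) (.node (.node (.node (.node (.leaf 2026) (.leaf 29946)) (.node (.leaf 13792) (.leaf 0))) (.node (.node (.leaf 7574) (.leaf 0)) (.node (.leaf 20924) (.leaf 0)))) (.node (.node (.node (.leaf 4741) (.leaf 37040)) (.node (.leaf 17228) (.leaf 0))) (.node (.node (.leaf 10565) (.leaf 0)) (.node (.leaf 25062) (.leaf 0))))))) (.node (.node (.node (.node (.node (.node (.leaf 378) (.leaf 26814)) (.node (.leaf 11759) (.leaf 0))) (.node (.node (.leaf 5781) (.leaf 0)) (.node (.leaf 18605) (.leaf 0)))) (.node (.node (.node (.leaf 3012) (.leaf 32156)) (.node (.leaf 15065) (.leaf 0))) (.node (.node (.leaf 8683) (.leaf 0)) (.node (.leaf 22434) (.leaf 0))))) (.node (.node (.node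 (.node (.leaf 1689) (.leaf 29301)) (.node (.leaf 13380) (.leaf 0))) (.node (.node (.leaf 7222) (.leaf 0)) (.node (.leaf 20433) (.leaf 0)))) (.node (.node (.node (.leaf 4397) (.leaf 35840)) (.node (.leaf 16776) (.leaf 0))) (.node (.node (.leaf 10186) (.leaf 0)) (.node (.leaf 24494) (.leaf 0)))))) (.node (.node (.node (.node (.node (.leaf 1034) (.leaf 27991)) (.node (.leaf 12571) (.leaf 0))) (.node (.node (.leaf 6506) (.leaf 0)) (.node (.leaf 19488) (.leaf 0)))) (.node (.node (.node (.leaf 3705) (.leaf 33826)) (.node (.leaf 15906) (.leaf 0))) (.node (.node (.leaf 9468) (.leaf 0)) (.node (.leaf 23456) (.leaf 0))))) (.node (.node (.node (.node (.leaf 2360) (.leaf 30645)) (.node (.leaf 14204) (.leaf 0))) (.node (.node (.leaf 7943) (.leaf 0)) (.node (.leaf 21402) (.leaf 0)))) (.node (.node (.node (.leaf 5078) (.leaf 38329)) (.node (.leaf 17680) (.leaf 0))) (.node (.node (.leaf 10964) (.leaf 0)) (.node (.leaf 25620) (.leaf 0)))))))) (.node (.node (.node (.node (.node (.node (.node (.leaf 219) (.leaf 26496)) (.node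 (.leaf 11537) (.leaf 0))) (.node (.node (.leaf 5610) (.leaf 0)) (.node (.leaf 18358) (.leaf 0)))) (.node (.node (.node (.leaf 2846) (.leaf 31772)) (.node (.leaf 14849) (.leaf 0))) (.node (.node (.leaf 8500) (.leaf 0)) (.node (.leaf 22160) (.leaf 0))))) (.node (.node (.node (.node (.leaf 1522) (.leaf 28978)) (.node (.leaf 13185) (.leaf 0))) (.node (.node (.leaf 7044) (.leaf 0)) (.node (.leaf 20184) (.leaf 0)))) (.node (.node (.node (.leaf 4220) (.leaf 35297)) (.node (.leaf 16549) (.leaf 0))) (.node (.node (.leaf 10002) (.leaf 0)) (.node (.leaf 24217) (.leaf 0)))))) (.node (.node (.node (.node (.node (.leaf 867) (.leaf 27693)) (.node (.leaf 12362) (.leaf 0))) (.node (.node (.leaf 6323) (.leaf 0)) (.node (.leaf 19258) (.leaf 0)))) (.node (.node (.node (.leaf 3529) (.leaf 33362)) (.node (.leaf 15686) (.leaf 0))) (.node (.node (.leaf 9265) (.leaf 0)) (.node (.leaf 23183) (.leaf 0))))) (.node (.node (.node (.node (.leaf 2192) (.leaf 30307)) (.node (.leaf 14002) (.leaf 0))) (.node (.node (.leaf 7764) (.leaf 0))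 (.node (.leaf 21168) (.leaf 0)))) (.node (.node (.node (.leaf 4911) (.leaf 37595)) (.node (.leaf 17458) (.leaf 0))) (.node (.node (.leaf 10775) (.leaf 0)) (.node (.leaf 25318) (.leaf 0))))))) (.node (.node (.node (.node (.node (.node (.leaf 542) (.leaf 27115)) (.node (.leaf 11966) (.leaf 0))) (.node (.node (.leaf 5958) (.leaf 0)) (.node (.leaf 18840) (.leaf 0)))) (.node (.node (.node (.leaf 3177) (.leaf 32548)) (.node (.leaf 15276) (.leaf 0))) (.node (.node (.leaf 8881) (.leaf 0)) (.node (.leaf 22677) (.leaf 0))))) (.node (.node (.node (.node (.leaf 1858) (.leaf 29626)) (.node (.leaf 13597) (.leaf 0))) (.node (.node (.leaf 7401) (.leaf 0)) (.node (.leaf 20686) (.leaf 0)))) (.node (.node (.node (.leaf 4567) (.leaf 36388)) (.node (.leaf 17002) (.leaf 0))) (.node (.node (.leaf 10380) (.leaf 0)) (.node (.leaf 24778) (.leaf 0)))))) (.node (.node (.node (.node (.node (.leaf 1194) (.leaf 28290)) (.node (.leaf 12768) (.leaf 0))) (.node (.node (.leaf 6681) (.leaf 0)) (.node (.leaf 19706) (.leaf 0)))) (.node (.node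 (.node (.leaf 3868) (.leaf 34332)) (.node (.leaf 16137) (.leaf 0))) (.node (.node (.leaf 9639) (.leaf 0)) (.node (.leaf 23708) (.leaf 0))))) (.node (.node (.node (.node (.leaf 2522) (.leaf 30994)) (.node (.leaf 14402) (.leaf 0))) (.node (.node (.leaf 8125) (.leaf 0)) (.node (.leaf 21659) (.leaf 0)))) (.node (.node (.node (.leaf 5257) (.leaf 39142)) (.node (.leaf 17908) (.leaf 0))) (.node (.node (.leaf 11154) (.leaf 0)) (.node (.leaf 25910) (.leaf 0))))))))

def pT47 : NT := .node (.node (.node (.node (.node (.node (.node (.node (.leaf 59) (.leaf 26215)) (.node (.leaf 11346) (.leaf 0))) (.node (.node (.leaf 5430) (.leaf 0)) (.node (.leaf 18122) (.leaf 0)))) (.node (.node (.node (.leaf 2686) (.leaf 31370)) (.node (.leaf 14626) (.leaf 0))) (.node (.node (.leaf 8320) (.leaf 0)) (.node (.leaf 21907) (.leaf 0))))) (.node (.node (.node (.node (.leaf 1360) (.leaf 28610)) (.node (.leaf 12973) (.leaf 0))) (.node (.node (.leaf 6866) (.leaf 0)) (.node (.leaf 19956) (.leaf 0)))) (.node (.node (.node (.leaf 4046) (.leaf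 34842)) (.node (.leaf 16357) (.leaf 0))) (.node (.node (.leaf 9819) (.leaf 0)) (.node (.leaf 23955) (.leaf 0)))))) (.node (.node (.node (.node (.node (.leaf 705) (.leaf 27418)) (.node (.leaf 12174) (.leaf 0))) (.node (.node (.leaf 6139) (.leaf 0)) (.node (.leaf 19050) (.leaf 0)))) (.node (.node (.node (.leaf 3351) (.leaf 32940)) (.node (.leaf 15483) (.leaf 0))) (.node (.node (.leaf 9072) (.leaf 0)) (.node (.leaf 22922) (.leaf 0))))) (.node (.node (.node (.node (.leaf 2027) (.leaf 29949)) (.node (.leaf 13793) (.leaf 0))) (.node (.node (.leaf 7576) (.leaf 0)) (.node (.leaf 20925) (.leaf 0)))) (.node (.node (.node (.leaf 4742) (.leaf 37043)) (.node (.leaf 17229) (.leaf 0))) (.node (.node (.leaf 10566) (.leaf 0)) (.node (.leaf 25063) (.leaf 0))))))) (.node (.node (.node (.node (.node (.node (.leaf 380) (.leaf 26816)) (.node (.leaf 11762) (.leaf 0))) (.node (.node (.leaf 5782) (.leaf 0)) (.node (.leaf 18606) (.leaf 0)))) (.node (.node (.node (.leaf 3013) (.leaf 32158)) (.node (.leaf 15068) (.leaf 0))) (.node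 (.node (.leaf 8684) (.leaf 0)) (.node (.leaf 22448) (.leaf 0))))) (.node (.node (.node (.node (.leaf 1690) (.leaf 29303)) (.node (.leaf 13382) (.leaf 0))) (.node (.node (.leaf 7223) (.leaf 0)) (.node (.leaf 20436) (.leaf 0)))) (.node (.node (.node (.leaf 4398) (.leaf 35842)) (.node (.leaf 16780) (.leaf 0))) (.node (.node (.leaf 10189) (.leaf 0)) (.node (.leaf 24495) (.leaf 0)))))) (.node (.node (.node (.node (.node (.leaf 1035) (.leaf 27992)) (.node (.leaf 12572) (.leaf 0))) (.node (.node (.leaf 6507) (.leaf 0)) (.node (.leaf 19490) (.leaf 0)))) (.node (.node (.node (.leaf 3706) (.leaf 33829)) (.node (.leaf 15913) (.leaf 0))) (.node (.node (.leaf 9469) (.leaf 0)) (.node (.leaf 23457) (.leaf 0))))) (.node (.node (.node (.node (.leaf 2361) (.leaf 30648)) (.node (.leaf 14205) (.leaf 0))) (.node (.node (.leaf 7944) (.leaf 0)) (.node (.leaf 21403) (.leaf 0)))) (.node (.node (.node (.leaf 5081) (.leaf 38333)) (.node (.leaf 17682) (.leaf 0))) (.node (.node (.leaf 10965) (.leaf 0)) (.node (.leaf 25623) (.leaf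 0)))))))) (.node (.node (.node (.node (.node (.node (.node (.leaf 220) (.leaf 26499)) (.node (.leaf 11538) (.leaf 0))) (.node (.node (.leaf 5612) (.leaf 0)) (.node (.leaf 18361) (.leaf 0)))) (.node (.node (.node (.leaf 2847) (.leaf 31780)) (.node (.leaf 14853) (.leaf 0))) (.node (.node (.leaf 8501) (.leaf 0)) (.node (.leaf 22162) (.leaf 0))))) (.node (.node (.node (.node (.leaf 1524) (.leaf 28982)) (.node (.leaf 13186) (.leaf 0))) (.node (.node (.leaf 7047) (.leaf 0)) (.node (.leaf 20187) (.leaf 0)))) (.node (.node (.node (.leaf 4222) (.leaf 35299)) (.node (.leaf 16550) (.leaf 0))) (.node (.node (.leaf 10004) (.leaf 0)) (.node (.leaf 24218) (.leaf 0)))))) (.node (.node (.node (.node (.node (.leaf 868) (.leaf 27694)) (.node (.leaf 12363) (.leaf 0))) (.node (.node (.leaf 6324) (.leaf 0)) (.node (.leaf 19265) (.leaf 0)))) (.node (.node (.node (.leaf 3530) (.leaf 33365)) (.node (.leaf 15687) (.leaf 0))) (.node (.node (.leaf 9267) (.leaf 0)) (.node (.leaf 23184) (.leaf 0))))) (.node (.node (.node (.node (.leaf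 2194) (.leaf 30309)) (.node (.leaf 14003) (.leaf 0))) (.node (.node (.leaf 7765) (.leaf 0)) (.node (.leaf 21170) (.leaf 0)))) (.node (.node (.node (.leaf 4912) (.leaf 37610)) (.node (.leaf 17459) (.leaf 0))) (.node (.node (.leaf 10776) (.leaf 0)) (.node (.leaf 25320) (.leaf 0))))))) (.node (.node (.node (.node (.node (.node (.leaf 543) (.leaf 27118)) (.node (.leaf 11967) (.leaf 0))) (.node (.node (.leaf 5959) (.leaf 0)) (.node (.leaf 18841) (.leaf 0)))) (.node (.node (.node (.leaf 3178) (.leaf 32549)) (.node (.leaf 15278) (.leaf 0))) (.node (.node (.leaf 8882) (.leaf 0)) (.node (.leaf 22680) (.leaf 0))))) (.node (.node (.node (.node (.leaf 1859) (.leaf 29638)) (.node (.leaf 13598) (.leaf 0))) (.node (.node (.leaf 7402) (.leaf 0)) (.node (.leaf 20688) (.leaf 0)))) (.node (.node (.node (.leaf 4568) (.leaf 36389)) (.node (.leaf 17004) (.leaf 0))) (.node (.node (.leaf 10381) (.leaf 0)) (.node (.leaf 24780) (.leaf 0)))))) (.node (.node (.node (.node (.node (.leaf 1195) (.leaf 28292)) (.node (.leaf 12772) (.leaf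 0))) (.node (.node (.leaf 6682) (.leaf 0)) (.node (.leaf 19707) (.leaf 0)))) (.node (.node (.node (.leaf 3870) (.leaf 34334)) (.node (.leaf 16138) (.leaf 0))) (.node (.node (.leaf 9640) (.leaf 0)) (.node (.leaf 23709) (.leaf 0))))) (.node (.node (.node (.node (.leaf 2523) (.leaf 30995)) (.node (.leaf 14403) (.leaf 0))) (.node (.node (.leaf 8126) (.leaf 0)) (.node (.leaf 21660) (.leaf 0)))) (.node (.node (.node (.leaf 5258) (.leaf 39144)) (.node (.leaf 17909) (.leaf 0))) (.node (.node (.leaf 11156) (.leaf 0)) (.node (.leaf 25911) (.leaf 0))))))))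

def pT48 : NT := .node (.node (.node (.node (.node (.node (.node (.node (.leaf 60) (.leaf 26216)) (.node (.leaf 11347) (.leaf 0))) (.node (.node (.leaf 5431) (.leaf 0)) (.node (.leaf 18124) (.leaf 0)))) (.node (.node (.node (.leaf 2688) (.leaf 31373)) (.node (.leaf 14627) (.leaf 0))) (.node (.node (.leaf 8321) (.leaf 0)) (.node (.leaf 21908) (.leaf 0))))) (.node (.node (.node (.node (.leaf 1361) (.leaf 28612)) (.node (.leaf 12974) (.leaf 0))) (.node (.node (.leaf 6867) (.leaf 0)) (.node (.leaf 19957) (.leaf 0)))) (.node (.node (.node (.leaf 4047) (.leaf 34855)) (.node (.leaf 16358) (.leaf 0))) (.node (.node (.leaf 9820) (.leaf 0)) (.node (.leaf 23957) (.leaf 0)))))) (.node (.node (.node (.node (.node (.leaf 706) (.leaf 27428)) (.node (.leaf 12175) (.leaf 0))) (.node (.node (.leaf 6140) (.leaf 0)) (.node (.leaf 19052) (.leaf 0)))) (.node (.node (.node (.leaf 3352) (.leaf 32946)) (.node (.leaf 15484) (.leaf 0))) (.node (.node (.leaf 9074) (.leaf 0)) (.node (.leaf 22923) (.leaf 0))))) (.node (.node (.node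 (.node (.leaf 2028) (.leaf 29953)) (.node (.leaf 13794) (.leaf 0))) (.node (.node (.leaf 7577) (.leaf 0)) (.node (.leaf 20927) (.leaf 0)))) (.node (.node (.node (.leaf 4744) (.leaf 37053)) (.node (.leaf 17233) (.leaf 0))) (.node (.node (.leaf 10568) (.leaf 0)) (.node (.leaf 25071) (.leaf 0))))))) (.node (.node (.node (.node (.node (.node (.leaf 381) (.leaf 26817)) (.node (.leaf 11763) (.leaf 0))) (.node (.node (.leaf 5783) (.leaf 0)) (.node (.leaf 18607) (.leaf 0)))) (.node (.node (.node (.leaf 3014) (.leaf 32159)) (.node (.leaf 15069) (.leaf 0))) (.node (.node (.leaf 8685) (.leaf 0)) (.node (.leaf 22449) (.leaf 0))))) (.node (.node (.node (.node (.leaf 1692) (.leaf 29308)) (.node (.leaf 13384) (.leaf 0))) (.node (.node (.leaf 7224) (.leaf 0)) (.node (.leaf 20437) (.leaf 0)))) (.node (.node (.node (.leaf 4400) (.leaf 35844)) (.node (.leaf 16782) (.leaf 0))) (.node (.node (.leaf 10190) (.leaf 0)) (.node (.leaf 24496) (.leaf 0)))))) (.node (.node (.node (.node (.node (.leaf 1036) (.leaf 27993)) (.node (.leaf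 12573) (.leaf 0))) (.node (.node (.leaf 6508) (.leaf 0)) (.node (.leaf 19492) (.leaf 0)))) (.node (.node (.node (.leaf 3707) (.leaf 33832)) (.node (.leaf 15915) (.leaf 0))) (.node (.node (.leaf 9470) (.leaf 0)) (.node (.leaf 23458) (.leaf 0))))) (.node (.node (.node (.node (.leaf 2362) (.leaf 30649)) (.node (.leaf 14206) (.leaf 0))) (.node (.node (.leaf 7945) (.leaf 0)) (.node (.leaf 21405) (.leaf 0)))) (.node (.node (.node (.leaf 5082) (.leaf 38334)) (.node (.leaf 17683) (.leaf 0))) (.node (.node (.leaf 10966) (.leaf 0)) (.node (.leaf 25624) (.leaf 0)))))))) (.node (.node (.node (.node (.node (.node (.node (.leaf 221) (.leaf 26501)) (.node (.leaf 11540) (.leaf 0))) (.node (.node (.leaf 5614) (.leaf 0)) (.node (.leaf 18362) (.leaf 0)))) (.node (.node (.node (.leaf 2848) (.leaf 31781)) (.node (.leaf 14854) (.leaf 0))) (.node (.node (.leaf 8502) (.leaf 0)) (.node (.leaf 22164) (.leaf 0))))) (.node (.node (.node (.node (.leaf 1526) (.leaf 28983)) (.node (.leaf 13188) (.leaf 0))) (.node (.node (.leaf 7048)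 (.leaf 0)) (.node (.leaf 20189) (.leaf 0)))) (.node (.node (.node (.leaf 4223) (.leaf 35304)) (.node (.leaf 16553) (.leaf 0))) (.node (.node (.leaf 10005) (.leaf 0)) (.node (.leaf 24222) (.leaf 0)))))) (.node (.node (.node (.node (.node (.leaf 870) (.leaf 27697)) (.node (.leaf 12364) (.leaf 0))) (.node (.node (.leaf 6326) (.leaf 0)) (.node (.leaf 19266) (.leaf 0)))) (.node (.node (.node (.leaf 3532) (.leaf 33368)) (.node (.leaf 15690) (.leaf 0))) (.node (.node (.leaf 9268) (.leaf 0)) (.node (.leaf 23186) (.leaf 0))))) (.node (.node (.node (.node (.leaf 2196) (.leaf 30311)) (.node (.leaf 14005) (.leaf 0))) (.node (.node (.leaf 7766) (.leaf 0)) (.node (.leaf 21171) (.leaf 0)))) (.node (.node (.node (.leaf 4914) (.leaf 37611)) (.node (.leaf 17460) (.leaf 0))) (.node (.node (.leaf 10778) (.leaf 0)) (.node (.leaf 25323) (.leaf 0))))))) (.node (.node (.node (.node (.node (.node (.leaf 544) (.leaf 27120)) (.node (.leaf 11968) (.leaf 0))) (.node (.node (.leaf 5960) (.leaf 0)) (.node (.leaf 18842) (.leaf 0))))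 (.node (.node (.node (.leaf 3180) (.leaf 32551)) (.node (.leaf 15279) (.leaf 0))) (.node (.node (.leaf 8884) (.leaf 0)) (.node (.leaf 22681) (.leaf 0))))) (.node (.node (.node (.node (.leaf 1860) (.leaf 29643)) (.node (.leaf 13600) (.leaf 0))) (.node (.node (.leaf 7403) (.leaf 0)) (.node (.leaf 20690) (.leaf 0)))) (.node (.node (.node (.leaf 4569) (.leaf 36400)) (.node (.leaf 17005) (.leaf 0))) (.node (.node (.leaf 10384) (.leaf 0)) (.node (.leaf 24781) (.leaf 0)))))) (.node (.node (.node (.node (.node (.leaf 1196) (.leaf 28293)) (.node (.leaf 12773) (.leaf 0))) (.node (.node (.leaf 6684) (.leaf 0)) (.node (.leaf 19708) (.leaf 0)))) (.node (.node (.node (.leaf 3871) (.leaf 34336)) (.node (.leaf 16139) (.leaf 0))) (.node (.node (.leaf 9642) (.leaf 0)) (.node (.leaf 23710) (.leaf 0))))) (.node (.node (.node (.node (.leaf 2524) (.leaf 30998)) (.node (.leaf 14404) (.leaf 0))) (.node (.node (.leaf 8128) (.leaf 0)) (.node (.leaf 21662) (.leaf 0)))) (.node (.node (.node (.leaf 5260) (.leaf 39155)) (.node (.leaf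 17910) (.leaf 0))) (.node (.node (.leaf 11157) (.leaf 0)) (.node (.leaf 25912) (.leaf 0))))))))

def pT49 : NT := .node (.node (.node (.node (.node (.node (.node (.node (.leaf 62) (.leaf 26218)) (.node (.leaf 11348) (.leaf 0))) (.node (.node (.leaf 5434) (.leaf 0)) (.node (.leaf 18125) (.leaf 0)))) (.node (.node (.node (.leaf 2689) (.leaf 31376)) (.node (.leaf 14628) (.leaf 0))) (.node (.node (.leaf 8322) (.leaf 0)) (.node (.leaf 21910) (.leaf 0))))) (.node (.node (.node (.node (.leaf 1362) (.leaf 28617)) (.node (.leaf 12975) (.leaf 0))) (.node (.node (.leaf 6868) (.leaf 0)) (.node (.leaf 19960) (.leaf 0)))) (.node (.node (.node (.leaf 4048) (.leaf 34860)) (.node (.leaf 16359) (.leaf 0))) (.node (.node (.leaf 9824) (.leaf 0)) (.node (.leaf 23959) (.leaf 0)))))) (.node (.node (.node (.node (.node (.leaf 708) (.leaf 27429)) (.node (.leaf 12176) (.leaf 0))) (.node (.node (.leaf 6141) (.leaf 0)) (.node (.leaf 19055) (.leaf 0)))) (.node (.node (.node (.leaf 3354) (.leaf 32948)) (.node (.leaf 15485) (.leaf 0)))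 (.node (.node (.leaf 9075) (.leaf 0)) (.node (.leaf 22924) (.leaf 0))))) (.node (.node (.node (.node (.leaf 2030) (.leaf 29954)) (.node (.leaf 13796) (.leaf 0))) (.node (.node (.leaf 7578) (.leaf 0)) (.node (.leaf 20928) (.leaf 0)))) (.node (.node (.node (.leaf 4745) (.leaf 37055)) (.node (.leaf 17235) (.leaf 0))) (.node (.node (.leaf 10569) (.leaf 0)) (.node (.leaf 25072) (.leaf 0))))))) (.node (.node (.node (.node (.node (.node (.leaf 382) (.leaf 26818)) (.node (.leaf 11764) (.leaf 0))) (.node (.node (.leaf 5784) (.leaf 0)) (.node (.leaf 18608) (.leaf 0)))) (.node (.node (.node (.leaf 3015) (.leaf 32161)) (.node (.leaf 15070) (.leaf 0))) (.node (.node (.leaf 8686) (.leaf 0)) (.node (.leaf 22452) (.leaf 0))))) (.node (.node (.node (.node (.leaf 1694) (.leaf 29312)) (.node (.leaf 13388) (.leaf 0))) (.node (.node (.leaf 7225) (.leaf 0)) (.node (.leaf 20438) (.leaf 0)))) (.node (.node (.node (.leaf 4401) (.leaf 35846)) (.node (.leaf 16783) (.leaf 0))) (.node (.node (.leaf 10191) (.leaf 0)) (.node (.leaf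 24498) (.leaf 0)))))) (.node (.node (.node (.node (.node (.leaf 1038) (.leaf 27995)) (.node (.leaf 12576) (.leaf 0))) (.node (.node (.leaf 6509) (.leaf 0)) (.node (.leaf 19493) (.leaf 0)))) (.node (.node (.node (.leaf 3708) (.leaf 33838)) (.node (.leaf 15916) (.leaf 0))) (.node (.node (.leaf 9472) (.leaf 0)) (.node (.leaf 23460) (.leaf 0))))) (.node (.node (.node (.node (.leaf 2364) (.leaf 30650)) (.node (.leaf 14208) (.leaf 0))) (.node (.node (.leaf 7947) (.leaf 0)) (.node (.leaf 21412) (.leaf 0)))) (.node (.node (.node (.leaf 5084) (.leaf 38337)) (.node (.leaf 17684) (.leaf 0))) (.node (.node (.leaf 10968) (.leaf 0)) (.node (.leaf 25628) (.leaf 0)))))))) (.node (.node (.node (.node (.node (.node (.node (.leaf 222) (.leaf 26505)) (.node (.leaf 11543) (.leaf 0))) (.node (.node (.leaf 5615) (.leaf 0)) (.node (.leaf 18364) (.leaf 0)))) (.node (.node (.node (.leaf 2850) (.leaf 31782)) (.node (.leaf 14861) (.leaf 0))) (.node (.node (.leaf 8504) (.leaf 0)) (.node (.leaf 22166) (.leaf 0))))) (.node (.node (.node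 (.node (.leaf 1527) (.leaf 28986)) (.node (.leaf 13189) (.leaf 0))) (.node (.node (.leaf 7049) (.leaf 0)) (.node (.leaf 20192) (.leaf 0)))) (.node (.node (.node (.leaf 4224) (.leaf 35309)) (.node (.leaf 16554) (.leaf 0))) (.node (.node (.leaf 10006) (.leaf 0)) (.node (.leaf 24223) (.leaf 0)))))) (.node (.node (.node (.node (.node (.leaf 871) (.leaf 27699)) (.node (.leaf 12368) (.leaf 0))) (.node (.node (.leaf 6327) (.leaf 0)) (.node (.leaf 19268) (.leaf 0)))) (.node (.node (.node (.leaf 3533) (.leaf 33374)) (.node (.leaf 15693) (.leaf 0))) (.node (.node (.leaf 9270) (.leaf 0)) (.node (.leaf 23187) (.leaf 0))))) (.node (.node (.node (.node (.leaf 2197) (.leaf 30317)) (.node (.leaf 14006) (.leaf 0))) (.node (.node (.leaf 7768) (.leaf 0)) (.node (.leaf 21172) (.leaf 0)))) (.node (.node (.node (.leaf 4915) (.leaf 37620)) (.node (.leaf 17461) (.leaf 0))) (.node (.node (.leaf 10779) (.leaf 0)) (.node (.leaf 25324) (.leaf 0))))))) (.node (.node (.node (.node (.node (.node (.leaf 546) (.leaf 27121)) (.node (.leaf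 11969) (.leaf 0))) (.node (.node (.leaf 5961) (.leaf 0)) (.node (.leaf 18844) (.leaf 0)))) (.node (.node (.node (.leaf 3181) (.leaf 32555)) (.node (.leaf 15280) (.leaf 0))) (.node (.node (.leaf 8885) (.leaf 0)) (.node (.leaf 22684) (.leaf 0))))) (.node (.node (.node (.node (.leaf 1862) (.leaf 29644)) (.node (.leaf 13601) (.leaf 0))) (.node (.node (.leaf 7404) (.leaf 0)) (.node (.leaf 20693) (.leaf 0)))) (.node (.node (.node (.leaf 4570) (.leaf 36402)) (.node (.leaf 17006) (.leaf 0))) (.node (.node (.leaf 10385) (.leaf 0)) (.node (.leaf 24783) (.leaf 0)))))) (.node (.node (.node (.node (.node (.leaf 1197) (.leaf 28297)) (.node (.leaf 12774) (.leaf 0))) (.node (.node (.leaf 6685) (.leaf 0)) (.node (.leaf 19709) (.leaf 0)))) (.node (.node (.node (.leaf 3872) (.leaf 34338)) (.node (.leaf 16141) (.leaf 0))) (.node (.node (.leaf 9643) (.leaf 0)) (.node (.leaf 23712) (.leaf 0))))) (.node (.node (.node (.node (.leaf 2525) (.leaf 31000)) (.node (.leaf 14408) (.leaf 0))) (.node (.node (.leaf 8129) (.leaf 0)) (.node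 (.leaf 21664) (.leaf 0)))) (.node (.node (.node (.leaf 5261) (.leaf 39156)) (.node (.leaf 17912) (.leaf 0))) (.node (.node (.leaf 11158) (.leaf 0)) (.node (.leaf 25914) (.leaf 0))))))))

def pT50 : NT := .node (.node (.node (.node (.node (.node (.node (.node (.leaf 63) (.leaf 26220)) (.node (.leaf 11350) (.leaf 0))) (.node (.node (.leaf 5435) (.leaf 0)) (.node (.leaf 18128) (.leaf 0)))) (.node (.node (.node (.leaf 2690) (.leaf 31380)) (.node (.leaf 14630) (.leaf 0))) (.node (.node (.leaf 8325) (.leaf 0)) (.node (.leaf 21912) (.leaf 0))))) (.node (.node (.node (.node (.leaf 1364) (.leaf 28626)) (.node (.leaf 12976) (.leaf 0))) (.node (.node (.leaf 6870) (.leaf 0)) (.node (.leaf 19962) (.leaf 0)))) (.node (.node (.node (.leaf 4050) (.leaf 34861)) (.node (.leaf 16360) (.leaf 0))) (.node (.node (.leaf 9825) (.leaf 0)) (.node (.leaf 23963) (.leaf 0)))))) (.node (.node (.node (.node (.node (.leaf 709) (.leaf 27430)) (.node (.leaf 12177) (.leaf 0))) (.node (.node (.leaf 6142) (.leaf 0)) (.node (.leaf 19056) (.leaf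 0)))) (.node (.node (.node (.leaf 3355) (.leaf 32950)) (.node (.leaf 15486) (.leaf 0))) (.node (.node (.leaf 9078) (.leaf 0)) (.node (.leaf 22926) (.leaf 0))))) (.node (.node (.node (.node (.leaf 2031) (.leaf 29956)) (.node (.leaf 13798) (.leaf 0))) (.node (.node (.leaf 7579) (.leaf 0)) (.node (.leaf 20930) (.leaf 0)))) (.node (.node (.node (.leaf 4746) (.leaf 37066)) (.node (.leaf 17236) (.leaf 0))) (.node (.node (.leaf 10572) (.leaf 0)) (.node (.leaf 25085) (.leaf 0))))))) (.node (.node (.node (.node (.node (.node (.leaf 384) (.leaf 26820)) (.node (.leaf 11766) (.leaf 0))) (.node (.node (.leaf 5786) (.leaf 0)) (.node (.leaf 18610) (.leaf 0)))) (.node (.node (.node (.leaf 3016) (.leaf 32162)) (.node (.leaf 15071) (.leaf 0))) (.node (.node (.leaf 8687) (.leaf 0)) (.node (.leaf 22453) (.leaf 0))))) (.node (.node (.node (.node (.leaf 1696) (.leaf 29314)) (.node (.leaf 13389) (.leaf 0))) (.node (.node (.leaf 7226) (.leaf 0)) (.node (.leaf 20439) (.leaf 0)))) (.node (.node (.node (.leaf 4402) (.leaf 35859))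 (.node (.leaf 16786) (.leaf 0))) (.node (.node (.leaf 10192) (.leaf 0)) (.node (.leaf 24501) (.leaf 0)))))) (.node (.node (.node (.node (.node (.leaf 1039) (.leaf 27997)) (.node (.leaf 12577) (.leaf 0))) (.node (.node (.leaf 6510) (.leaf 0)) (.node (.leaf 19494) (.leaf 0)))) (.node (.node (.node (.leaf 3710) (.leaf 33842)) (.node (.leaf 15918) (.leaf 0))) (.node (.node (.leaf 9473) (.leaf 0)) (.node (.leaf 23462) (.leaf 0))))) (.node (.node (.node (.node (.leaf 2365) (.leaf 30652)) (.node (.leaf 14211) (.leaf 0))) (.node (.node (.leaf 7948) (.leaf 0)) (.node (.leaf 21414) (.leaf 0)))) (.node (.node (.node (.leaf 5085) (.leaf 38338)) (.node (.leaf 17686) (.leaf 0))) (.node (.node (.leaf 10969) (.leaf 0)) (.node (.leaf 25629) (.leaf 0)))))))) (.node (.node (.node (.node (.node (.node (.node (.leaf 224) (.leaf 26506)) (.node (.leaf 11544) (.leaf 0))) (.node (.node (.leaf 5616) (.leaf 0)) (.node (.leaf 18366) (.leaf 0)))) (.node (.node (.node (.leaf 2852) (.leaf 31786)) (.node (.leaf 14862) (.leaf 0))) (.node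 (.node (.leaf 8506) (.leaf 0)) (.node (.leaf 22169) (.leaf 0))))) (.node (.node (.node (.node (.leaf 1528) (.leaf 28988)) (.node (.leaf 13190) (.leaf 0))) (.node (.node (.leaf 7050) (.leaf 0)) (.node (.leaf 20193) (.leaf 0)))) (.node (.node (.node (.leaf 4226) (.leaf 35312)) (.node (.leaf 16556) (.leaf 0))) (.node (.node (.leaf 10008) (.leaf 0)) (.node (.leaf 24225) (.leaf 0)))))) (.node (.node (.node (.node (.node (.leaf 872) (.leaf 27700)) (.node (.leaf 12374) (.leaf 0))) (.node (.node (.leaf 6328) (.leaf 0)) (.node (.leaf 19269) (.leaf 0)))) (.node (.node (.node (.leaf 3536) (.leaf 33379)) (.node (.leaf 15695) (.leaf 0))) (.node (.node (.leaf 9272) (.leaf 0)) (.node (.leaf 23188) (.leaf 0))))) (.node (.node (.node (.node (.leaf 2198) (.leaf 30318)) (.node (.leaf 14008) (.leaf 0))) (.node (.node (.leaf 7770) (.leaf 0)) (.node (.leaf 21173) (.leaf 0)))) (.node (.node (.node (.leaf 4916) (.leaf 37624)) (.node (.leaf 17462) (.leaf 0))) (.node (.node (.leaf 10783) (.leaf 0)) (.node (.leaf 25325) (.leaf 0)))))))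 (.node (.node (.node (.node (.node (.node (.leaf 547) (.leaf 27122)) (.node (.leaf 11970) (.leaf 0))) (.node (.node (.leaf 5964) (.leaf 0)) (.node (.leaf 18848) (.leaf 0)))) (.node (.node (.node (.leaf 3182) (.leaf 32558)) (.node (.leaf 15281) (.leaf 0))) (.node (.node (.leaf 8886) (.leaf 0)) (.node (.leaf 22688) (.leaf 0))))) (.node (.node (.node (.node (.leaf 1863) (.leaf 29645)) (.node (.leaf 13602) (.leaf 0))) (.node (.node (.leaf 7406) (.leaf 0)) (.node (.leaf 20694) (.leaf 0)))) (.node (.node (.node (.leaf 4572) (.leaf 36405)) (.node (.leaf 17008) (.leaf 0))) (.node (.node (.leaf 10386) (.leaf 0)) (.node (.leaf 24784) (.leaf 0)))))) (.node (.node (.node (.node (.node (.leaf 1198) (.leaf 28298)) (.node (.leaf 12775) (.leaf 0))) (.node (.node (.leaf 6686) (.leaf 0)) (.node (.leaf 19710) (.leaf 0)))) (.node (.node (.node (.leaf 3873) (.leaf 34340)) (.node (.leaf 16144) (.leaf 0))) (.node (.node (.leaf 9644) (.leaf 0)) (.node (.leaf 23713) (.leaf 0))))) (.node (.node (.node (.node (.leaf 2526) (.leaf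 31002)) (.node (.leaf 14409) (.leaf 0))) (.node (.node (.leaf 8130) (.leaf 0)) (.node (.leaf 21665) (.leaf 0)))) (.node (.node (.node (.leaf 5262) (.leaf 39158)) (.node (.leaf 17913) (.leaf 0))) (.node (.node (.leaf 11160) (.leaf 0)) (.node (.leaf 25916) (.leaf 0))))))))

def pT51 : NT := .node (.node (.node (.node (.node (.node (.node (.node (.leaf 64) (.leaf 26224)) (.node (.leaf 11351) (.leaf 0))) (.node (.node (.leaf 5436) (.leaf 0)) (.node (.leaf 18129) (.leaf 0)))) (.node (.node (.node (.leaf 2692) (.leaf 31382)) (.node (.leaf 14631) (.leaf 0))) (.node (.node (.leaf 8326) (.leaf 0)) (.node (.leaf 21913) (.leaf 0))))) (.node (.node (.node (.node (.leaf 1365) (.leaf 28629)) (.node (.leaf 12978) (.leaf 0))) (.node (.node (.leaf 6872) (.leaf 0)) (.node (.leaf 19963) (.leaf 0)))) (.node (.node (.node (.leaf 4051) (.leaf 34866)) (.node (.leaf 16361) (.leaf 0))) (.node (.node (.leaf 9826) (.leaf 0)) (.node (.leaf 23966) (.leaf 0)))))) (.node (.node (.node (.node (.node (.leaf 710) (.leaf 27431)) (.node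 (.leaf 12178) (.leaf 0))) (.node (.node (.leaf 6144) (.leaf 0)) (.node (.leaf 19057) (.leaf 0)))) (.node (.node (.node (.leaf 3356) (.leaf 32959)) (.node (.leaf 15487) (.leaf 0))) (.node (.node (.leaf 9085) (.leaf 0)) (.node (.leaf 22932) (.leaf 0))))) (.node (.node (.node (.node (.leaf 2032) (.leaf 29957)) (.node (.leaf 13801) (.leaf 0))) (.node (.node (.leaf 7580) (.leaf 0)) (.node (.leaf 20937) (.leaf 0)))) (.node (.node (.node (.leaf 4748) (.leaf 37070)) (.node (.leaf 17238) (.leaf 0))) (.node (.node (.leaf 10574) (.leaf 0)) (.node (.leaf 25086) (.leaf 0))))))) (.node (.node (.node (.node (.node (.node (.leaf 385) (.leaf 26822)) (.node (.leaf 11767) (.leaf 0))) (.node (.node (.leaf 5787) (.leaf 0)) (.node (.leaf 18614) (.leaf 0)))) (.node (.node (.node (.leaf 3018) (.leaf 32165)) (.node (.leaf 15072) (.leaf 0))) (.node (.node (.leaf 8688) (.leaf 0)) (.node (.leaf 22454) (.leaf 0))))) (.node (.node (.node (.node (.leaf 1697) (.leaf 29316)) (.node (.leaf 13390) (.leaf 0))) (.node (.node (.leaf 7228)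 (.leaf 0)) (.node (.leaf 20443) (.leaf 0)))) (.node (.node (.node (.leaf 4403) (.leaf 35860)) (.node (.leaf 16788) (.leaf 0))) (.node (.node (.leaf 10194) (.leaf 0)) (.node (.leaf 24502) (.leaf 0)))))) (.node (.node (.node (.node (.node (.leaf 1040) (.leaf 28000)) (.node (.leaf 12578) (.leaf 0))) (.node (.node (.leaf 6511) (.leaf 0)) (.node (.leaf 19496) (.leaf 0)))) (.node (.node (.node (.leaf 3711) (.leaf 33847)) (.node (.leaf 15919) (.leaf 0))) (.node (.node (.leaf 9477) (.leaf 0)) (.node (.leaf 23464) (.leaf 0))))) (.node (.node (.node (.node (.leaf 2366) (.leaf 30653)) (.node (.leaf 14212) (.leaf 0))) (.node (.node (.leaf 7950) (.leaf 0)) (.node (.leaf 21418) (.leaf 0)))) (.node (.node (.node (.leaf 5086) (.leaf 38346)) (.node (.leaf 17687) (.leaf 0))) (.node (.node (.leaf 10970) (.leaf 0)) (.node (.leaf 25632) (.leaf 0)))))))) (.node (.node (.node (.node (.node (.node (.node (.leaf 225) (.leaf 26509)) (.node (.leaf 11545) (.leaf 0))) (.node (.node (.leaf 5618) (.leaf 0)) (.node (.leaf 18367) (.leaf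 0)))) (.node (.node (.node (.leaf 2853) (.leaf 31787)) (.node (.leaf 14864) (.leaf 0))) (.node (.node (.leaf 8509) (.leaf 0)) (.node (.leaf 22170) (.leaf 0))))) (.node (.node (.node (.node (.leaf 1530) (.leaf 28992)) (.node (.leaf 13191) (.leaf 0))) (.node (.node (.leaf 7051) (.leaf 0)) (.node (.leaf 20197) (.leaf 0)))) (.node (.node (.node (.leaf 4228) (.leaf 35314)) (.node (.leaf 16557) (.leaf 0))) (.node (.node (.leaf 10009) (.leaf 0)) (.node (.leaf 24227) (.leaf 0)))))) (.node (.node (.node (.node (.node (.leaf 874) (.leaf 27702)) (.node (.leaf 12375) (.leaf 0))) (.node (.node (.leaf 6329) (.leaf 0)) (.node (.leaf 19272) (.leaf 0)))) (.node (.node (.node (.leaf 3537) (.leaf 33380)) (.node (.leaf 15696) (.leaf 0))) (.node (.node (.leaf 9273) (.leaf 0)) (.node (.leaf 23191) (.leaf 0))))) (.node (.node (.node (.node (.leaf 2200) (.leaf 30320)) (.node (.leaf 14009) (.leaf 0))) (.node (.node (.leaf 7772) (.leaf 0)) (.node (.leaf 21176) (.leaf 0)))) (.node (.node (.node (.leaf 4917) (.leaf 37634)) (.node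 (.leaf 17464) (.leaf 0))) (.node (.node (.leaf 10784) (.leaf 0)) (.node (.leaf 25327) (.leaf 0))))))) (.node (.node (.node (.node (.node (.node (.leaf 548) (.leaf 27123)) (.node (.leaf 11972) (.leaf 0))) (.node (.node (.leaf 5965) (.leaf 0)) (.node (.leaf 18849) (.leaf 0)))) (.node (.node (.node (.leaf 3183) (.leaf 32562)) (.node (.leaf 15282) (.leaf 0))) (.node (.node (.leaf 8888) (.leaf 0)) (.node (.leaf 22689) (.leaf 0))))) (.node (.node (.node (.node (.leaf 1864) (.leaf 29646)) (.node (.leaf 13603) (.leaf 0))) (.node (.node (.leaf 7407) (.leaf 0)) (.node (.leaf 20696) (.leaf 0)))) (.node (.node (.node (.leaf 4573) (.leaf 36412)) (.node (.leaf 17009) (.leaf 0))) (.node (.node (.leaf 10388) (.leaf 0)) (.node (.leaf 24786) (.leaf 0)))))) (.node (.node (.node (.node (.node (.leaf 1200) (.leaf 28299)) (.node (.leaf 12776) (.leaf 0))) (.node (.node (.leaf 6687) (.leaf 0)) (.node (.leaf 19712) (.leaf 0)))) (.node (.node (.node (.leaf 3874) (.leaf 34342)) (.node (.leaf 16145) (.leaf 0))) (.node (.node (.leaf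 9646) (.leaf 0)) (.node (.leaf 23716) (.leaf 0))))) (.node (.node (.node (.node (.leaf 2528) (.leaf 31003)) (.node (.leaf 14412) (.leaf 0))) (.node (.node (.leaf 8132) (.leaf 0)) (.node (.leaf 21670) (.leaf 0)))) (.node (.node (.node (.leaf 5264) (.leaf 39163)) (.node (.leaf 17914) (.leaf 0))) (.node (.node (.leaf 11161) (.leaf 0)) (.node (.leaf 25918) (.leaf 0))))))))

def pT52 : NT := .node (.node (.node (.node (.node (.node (.node (.node (.leaf 65) (.leaf 26227)) (.node (.leaf 11352) (.leaf 0))) (.node (.node (.leaf 5437) (.leaf 0)) (.node (.leaf 18130) (.leaf 0)))) (.node (.node (.node (.leaf 2693) (.leaf 31383)) (.node (.leaf 14632) (.leaf 0))) (.node (.node (.leaf 8328) (.leaf 0)) (.node (.leaf 21914) (.leaf 0))))) (.node (.node (.node (.node (.leaf 1367) (.leaf 28637)) (.node (.leaf 12979) (.leaf 0))) (.node (.node (.leaf 6874) (.leaf 0)) (.node (.leaf 19964) (.leaf 0)))) (.node (.node (.node (.leaf 4052) (.leaf 34867)) (.node (.leaf 16363) (.leaf 0))) (.node (.node (.leaf 9828) (.leaf 0)) (.node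 (.leaf 23967) (.leaf 0)))))) (.node (.node (.node (.node (.node (.leaf 712) (.leaf 27436)) (.node (.leaf 12181) (.leaf 0))) (.node (.node (.leaf 6145) (.leaf 0)) (.node (.leaf 19058) (.leaf 0)))) (.node (.node (.node (.leaf 3358) (.leaf 32960)) (.node (.leaf 15488) (.leaf 0))) (.node (.node (.leaf 9086) (.leaf 0)) (.node (.leaf 22938) (.leaf 0))))) (.node (.node (.node (.node (.leaf 2034) (.leaf 29958)) (.node (.leaf 13802) (.leaf 0))) (.node (.node (.leaf 7582) (.leaf 0)) (.node (.leaf 20938) (.leaf 0)))) (.node (.node (.node (.leaf 4749) (.leaf 37071)) (.node (.leaf 17239) (.leaf 0))) (.node (.node (.leaf 10575) (.leaf 0)) (.node (.leaf 25088) (.leaf 0))))))) (.node (.node (.node (.node (.node (.node (.leaf 386) (.leaf 26823)) (.node (.leaf 11768) (.leaf 0))) (.node (.node (.leaf 5788) (.leaf 0)) (.node (.leaf 18616) (.leaf 0)))) (.node (.node (.node (.leaf 3019) (.leaf 32171)) (.node (.leaf 15074) (.leaf 0))) (.node (.node (.leaf 8689) (.leaf 0)) (.node (.leaf 22456) (.leaf 0))))) (.node (.node (.node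 (.node (.leaf 1698) (.leaf 29336)) (.node (.leaf 13392) (.leaf 0))) (.node (.node (.leaf 7229) (.leaf 0)) (.node (.leaf 20446) (.leaf 0)))) (.node (.node (.node (.leaf 4404) (.leaf 35864)) (.node (.leaf 16790) (.leaf 0))) (.node (.node (.leaf 10195) (.leaf 0)) (.node (.leaf 24508) (.leaf 0)))))) (.node (.node (.node (.node (.node (.leaf 1042) (.leaf 28003)) (.node (.leaf 12579) (.leaf 0))) (.node (.node (.leaf 6512) (.leaf 0)) (.node (.leaf 19498) (.leaf 0)))) (.node (.node (.node (.leaf 3712) (.leaf 33848)) (.node (.leaf 15925) (.leaf 0))) (.node (.node (.leaf 9478) (.leaf 0)) (.node (.leaf 23465) (.leaf 0))))) (.node (.node (.node (.node (.leaf 2367) (.leaf 30654)) (.node (.leaf 14214) (.leaf 0))) (.node (.node (.leaf 7952) (.leaf 0)) (.node (.leaf 21419) (.leaf 0)))) (.node (.node (.node (.leaf 5087) (.leaf 38348)) (.node (.leaf 17688) (.leaf 0))) (.node (.node (.leaf 10971) (.leaf 0)) (.node (.leaf 25633) (.leaf 0)))))))) (.node (.node (.node (.node (.node (.node (.node (.leaf 226) (.leaf 26510)) (.node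 (.leaf 11546) (.leaf 0))) (.node (.node (.leaf 5619) (.leaf 0)) (.node (.leaf 18368) (.leaf 0)))) (.node (.node (.node (.leaf 2854) (.leaf 31794)) (.node (.leaf 14865) (.leaf 0))) (.node (.node (.leaf 8510) (.leaf 0)) (.node (.leaf 22172) (.leaf 0))))) (.node (.node (.node (.node (.leaf 1532) (.leaf 28993)) (.node (.leaf 13192) (.leaf 0))) (.node (.node (.leaf 7052) (.leaf 0)) (.node (.leaf 20198) (.leaf 0)))) (.node (.node (.node (.leaf 4229) (.leaf 35317)) (.node (.leaf 16558) (.leaf 0))) (.node (.node (.leaf 10010) (.leaf 0)) (.node (.leaf 24230) (.leaf 0)))))) (.node (.node (.node (.node (.node (.leaf 875) (.leaf 27703)) (.node (.leaf 12376) (.leaf 0))) (.node (.node (.leaf 6330) (.leaf 0)) (.node (.leaf 19273) (.leaf 0)))) (.node (.node (.node (.leaf 3538) (.leaf 33382)) (.node (.leaf 15698) (.leaf 0))) (.node (.node (.leaf 9274) (.leaf 0)) (.node (.leaf 23192) (.leaf 0))))) (.node (.node (.node (.node (.leaf 2201) (.leaf 30321)) (.node (.leaf 14010) (.leaf 0))) (.node (.node (.leaf 7773) (.leaf 0))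 (.node (.leaf 21178) (.leaf 0)))) (.node (.node (.node (.leaf 4918) (.leaf 37636)) (.node (.leaf 17465) (.leaf 0))) (.node (.node (.leaf 10785) (.leaf 0)) (.node (.leaf 25336) (.leaf 0))))))) (.node (.node (.node (.node (.node (.node (.leaf 549) (.leaf 27126)) (.node (.leaf 11973) (.leaf 0))) (.node (.node (.leaf 5966) (.leaf 0)) (.node (.leaf 18850) (.leaf 0)))) (.node (.node (.node (.leaf 3184) (.leaf 32572)) (.node (.leaf 15284) (.leaf 0))) (.node (.node (.leaf 8889) (.leaf 0)) (.node (.leaf 22690) (.leaf 0))))) (.node (.node (.node (.node (.leaf 1866) (.leaf 29648)) (.node (.leaf 13606) (.leaf 0))) (.node (.node (.leaf 7408) (.leaf 0)) (.node (.leaf 20697) (.leaf 0)))) (.node (.node (.node (.leaf 4574) (.leaf 36415)) (.node (.leaf 17010) (.leaf 0))) (.node (.node (.leaf 10390) (.leaf 0)) (.node (.leaf 24787) (.leaf 0)))))) (.node (.node (.node (.node (.node (.leaf 1201) (.leaf 28300)) (.node (.leaf 12782) (.leaf 0))) (.node (.node (.leaf 6688) (.leaf 0)) (.node (.leaf 19714) (.leaf 0)))) (.node (.node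 (.node (.leaf 3876) (.leaf 34347)) (.node (.leaf 16146) (.leaf 0))) (.node (.node (.leaf 9647) (.leaf 0)) (.node (.leaf 23718) (.leaf 0))))) (.node (.node (.node (.node (.leaf 2529) (.leaf 31004)) (.node (.leaf 14413) (.leaf 0))) (.node (.node (.leaf 8134) (.leaf 0)) (.node (.leaf 21672) (.leaf 0)))) (.node (.node (.node (.leaf 5265) (.leaf 39173)) (.node (.leaf 17916) (.leaf 0))) (.node (.node (.leaf 11162) (.leaf 0)) (.node (.leaf 25919) (.leaf 0))))))))

def pT53 : NT := .node (.node (.node (.node (.node (.node (.node (.node (.leaf 66) (.leaf 26228)) (.node (.leaf 11353) (.leaf 0))) (.node (.node (.leaf 5438) (.leaf 0)) (.node (.leaf 18131) (.leaf 0)))) (.node (.node (.node (.leaf 2694) (.leaf 31385)) (.node (.leaf 14634) (.leaf 0))) (.node (.node (.leaf 8329) (.leaf 0)) (.node (.leaf 21916) (.leaf 0))))) (.node (.node (.node (.node (.leaf 1368) (.leaf 28639)) (.node (.leaf 12980) (.leaf 0))) (.node (.node (.leaf 6876) (.leaf 0)) (.node (.leaf 19966) (.leaf 0)))) (.node (.node (.node (.leaf 4054) (.leaf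 34870)) (.node (.leaf 16364) (.leaf 0))) (.node (.node (.leaf 9829) (.leaf 0)) (.node (.leaf 23971) (.leaf 0)))))) (.node (.node (.node (.node (.node (.leaf 713) (.leaf 27437)) (.node (.leaf 12182) (.leaf 0))) (.node (.node (.leaf 6146) (.leaf 0)) (.node (.leaf 19060) (.leaf 0)))) (.node (.node (.node (.leaf 3359) (.leaf 32963)) (.node (.leaf 15490) (.leaf 0))) (.node (.node (.leaf 9088) (.leaf 0)) (.node (.leaf 22939) (.leaf 0))))) (.node (.node (.node (.node (.leaf 2035) (.leaf 29959)) (.node (.leaf 13804) (.leaf 0))) (.node (.node (.leaf 7583) (.leaf 0)) (.node (.leaf 20939) (.leaf 0)))) (.node (.node (.node (.leaf 4750) (.leaf 37079)) (.node (.leaf 17240) (.leaf 0))) (.node (.node (.leaf 10576) (.leaf 0)) (.node (.leaf 25089) (.leaf 0))))))) (.node (.node (.node (.node (.node (.node (.leaf 387) (.leaf 26824)) (.node (.leaf 11769) (.leaf 0))) (.node (.node (.leaf 5791) (.leaf 0)) (.node (.leaf 18618) (.leaf 0)))) (.node (.node (.node (.leaf 3020) (.leaf 32172)) (.node (.leaf 15075) (.leaf 0))) (.node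 (.node (.leaf 8690) (.leaf 0)) (.node (.leaf 22458) (.leaf 0))))) (.node (.node (.node (.node (.leaf 1699) (.leaf 29340)) (.node (.leaf 13393) (.leaf 0))) (.node (.node (.leaf 7230) (.leaf 0)) (.node (.leaf 20448) (.leaf 0)))) (.node (.node (.node (.leaf 4406) (.leaf 35866)) (.node (.leaf 16792) (.leaf 0))) (.node (.node (.leaf 10196) (.leaf 0)) (.node (.leaf 24510) (.leaf 0)))))) (.node (.node (.node (.node (.node (.leaf 1043) (.leaf 28008)) (.node (.leaf 12580) (.leaf 0))) (.node (.node (.leaf 6514) (.leaf 0)) (.node (.leaf 19500) (.leaf 0)))) (.node (.node (.node (.leaf 3713) (.leaf 33849)) (.node (.leaf 15928) (.leaf 0))) (.node (.node (.leaf 9479) (.leaf 0)) (.node (.leaf 23466) (.leaf 0))))) (.node (.node (.node (.node (.leaf 2368) (.leaf 30656)) (.node (.leaf 14215) (.leaf 0))) (.node (.node (.leaf 7954) (.leaf 0)) (.node (.leaf 21420) (.leaf 0)))) (.node (.node (.node (.leaf 5088) (.leaf 38350)) (.node (.leaf 17689) (.leaf 0))) (.node (.node (.leaf 10974) (.leaf 0)) (.node (.leaf 25635) (.leaf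 0)))))))) (.node (.node (.node (.node (.node (.node (.node (.leaf 228) (.leaf 26514)) (.node (.leaf 11548) (.leaf 0))) (.node (.node (.leaf 5620) (.leaf 0)) (.node (.leaf 18369) (.leaf 0)))) (.node (.node (.node (.leaf 2855) (.leaf 31800)) (.node (.leaf 14866) (.leaf 0))) (.node (.node (.leaf 8512) (.leaf 0)) (.node (.leaf 22174) (.leaf 0))))) (.node (.node (.node (.node (.leaf 1533) (.leaf 28994)) (.node (.leaf 13194) (.leaf 0))) (.node (.node (.leaf 7053) (.leaf 0)) (.node (.leaf 20200) (.leaf 0)))) (.node (.node (.node (.leaf 4230) (.leaf 35330)) (.node (.leaf 16560) (.leaf 0))) (.node (.node (.leaf 10012) (.leaf 0)) (.node (.leaf 24234) (.leaf 0)))))) (.node (.node (.node (.node (.node (.leaf 876) (.leaf 27704)) (.node (.leaf 12377) (.leaf 0))) (.node (.node (.leaf 6332) (.leaf 0)) (.node (.leaf 19276) (.leaf 0)))) (.node (.node (.node (.leaf 3539) (.leaf 33384)) (.node (.leaf 15699) (.leaf 0))) (.node (.node (.leaf 9275) (.leaf 0)) (.node (.leaf 23195) (.leaf 0))))) (.node (.node (.node (.node (.leaf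 2202) (.leaf 30325)) (.node (.leaf 14013) (.leaf 0))) (.node (.node (.leaf 7776) (.leaf 0)) (.node (.leaf 21179) (.leaf 0)))) (.node (.node (.node (.leaf 4920) (.leaf 37639)) (.node (.leaf 17466) (.leaf 0))) (.node (.node (.leaf 10786) (.leaf 0)) (.node (.leaf 25337) (.leaf 0))))))) (.node (.node (.node (.node (.node (.node (.leaf 550) (.leaf 27129)) (.node (.leaf 11974) (.leaf 0))) (.node (.node (.leaf 5967) (.leaf 0)) (.node (.leaf 18852) (.leaf 0)))) (.node (.node (.node (.leaf 3186) (.leaf 32573)) (.node (.leaf 15285) (.leaf 0))) (.node (.node (.leaf 8890) (.leaf 0)) (.node (.leaf 22693) (.leaf 0))))) (.node (.node (.node (.node (.leaf 1867) (.leaf 29651)) (.node (.leaf 13607) (.leaf 0))) (.node (.node (.leaf 7410) (.leaf 0)) (.node (.leaf 20698) (.leaf 0)))) (.node (.node (.node (.leaf 4576) (.leaf 36416)) (.node (.leaf 17013) (.leaf 0))) (.node (.node (.leaf 10391) (.leaf 0)) (.node (.leaf 24788) (.leaf 0)))))) (.node (.node (.node (.node (.node (.leaf 1202) (.leaf 28302)) (.node (.leaf 12784) (.leaf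 0))) (.node (.node (.leaf 6690) (.leaf 0)) (.node (.leaf 19715) (.leaf 0)))) (.node (.node (.node (.leaf 3878) (.leaf 34350)) (.node (.leaf 16148) (.leaf 0))) (.node (.node (.leaf 9648) (.leaf 0)) (.node (.leaf 23719) (.leaf 0))))) (.node (.node (.node (.node (.leaf 2530) (.leaf 31005)) (.node (.leaf 14414) (.leaf 0))) (.node (.node (.leaf 8136) (.leaf 0)) (.node (.leaf 21676) (.leaf 0)))) (.node (.node (.node (.leaf 5266) (.leaf 39174)) (.node (.leaf 17918) (.leaf 0))) (.node (.node (.leaf 11163) (.leaf 0)) (.node (.leaf 25924) (.leaf 0))))))))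

def pT54 : NT := .node (.node (.node (.node (.node (.node (.node (.node (.leaf 68) (.leaf 26229)) (.node (.leaf 11354) (.leaf 0))) (.node (.node (.leaf 5440) (.leaf 0)) (.node (.leaf 18132) (.leaf 0)))) (.node (.node (.node (.leaf 2695) (.leaf 31392)) (.node (.leaf 14636) (.leaf 0))) (.node (.node (.leaf 8330) (.leaf 0)) (.node (.leaf 21918) (.leaf 0))))) (.node (.node (.node (.node (.leaf 1370) (.leaf 28641)) (.node (.leaf 12981) (.leaf 0))) (.node (.node (.leaf 6878) (.leaf 0)) (.node (.leaf 19967) (.leaf 0)))) (.node (.node (.node (.leaf 4055) (.leaf 34892)) (.node (.leaf 16366) (.leaf 0))) (.node (.node (.leaf 9830) (.leaf 0)) (.node (.leaf 23972) (.leaf 0)))))) (.node (.node (.node (.node (.node (.leaf 714) (.leaf 27441)) (.node (.leaf 12183) (.leaf 0))) (.node (.node (.leaf 6147) (.leaf 0)) (.node (.leaf 19061) (.leaf 0)))) (.node (.node (.node (.leaf 3360) (.leaf 32964)) (.node (.leaf 15491) (.leaf 0))) (.node (.node (.leaf 9090) (.leaf 0)) (.node (.leaf 22940) (.leaf 0))))) (.node (.node (.node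 (.node (.leaf 2036) (.leaf 29960)) (.node (.leaf 13806) (.leaf 0))) (.node (.node (.leaf 7584) (.leaf 0)) (.node (.leaf 20942) (.leaf 0)))) (.node (.node (.node (.leaf 4751) (.leaf 37084)) (.node (.leaf 17243) (.leaf 0))) (.node (.node (.leaf 10578) (.leaf 0)) (.node (.leaf 25090) (.leaf 0))))))) (.node (.node (.node (.node (.node (.node (.leaf 388) (.leaf 26825)) (.node (.leaf 11770) (.leaf 0))) (.node (.node (.leaf 5792) (.leaf 0)) (.node (.leaf 18619) (.leaf 0)))) (.node (.node (.node (.leaf 3021) (.leaf 32174)) (.node (.leaf 15076) (.leaf 0))) (.node (.node (.leaf 8692) (.leaf 0)) (.node (.leaf 22462) (.leaf 0))))) (.node (.node (.node (.node (.leaf 1700) (.leaf 29345)) (.node (.leaf 13395) (.leaf 0))) (.node (.node (.leaf 7231) (.leaf 0)) (.node (.leaf 20451) (.leaf 0)))) (.node (.node (.node (.leaf 4407) (.leaf 35873)) (.node (.leaf 16794) (.leaf 0))) (.node (.node (.leaf 10201) (.leaf 0)) (.node (.leaf 24512) (.leaf 0)))))) (.node (.node (.node (.node (.node (.leaf 1044) (.leaf 28009)) (.node (.leaf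 12582) (.leaf 0))) (.node (.node (.leaf 6515) (.leaf 0)) (.node (.leaf 19507) (.leaf 0)))) (.node (.node (.node (.leaf 3714) (.leaf 33850)) (.node (.leaf 15932) (.leaf 0))) (.node (.node (.leaf 9480) (.leaf 0)) (.node (.leaf 23468) (.leaf 0))))) (.node (.node (.node (.node (.leaf 2371) (.leaf 30660)) (.node (.leaf 14216) (.leaf 0))) (.node (.node (.leaf 7956) (.leaf 0)) (.node (.leaf 21422) (.leaf 0)))) (.node (.node (.node (.leaf 5090) (.leaf 38363)) (.node (.leaf 17690) (.leaf 0))) (.node (.node (.leaf 10976) (.leaf 0)) (.node (.leaf 25636) (.leaf 0)))))))) (.node (.node (.node (.node (.node (.node (.node (.leaf 229) (.leaf 26515)) (.node (.leaf 11549) (.leaf 0))) (.node (.node (.leaf 5621) (.leaf 0)) (.node (.leaf 18372) (.leaf 0)))) (.node (.node (.node (.leaf 2856) (.leaf 31801)) (.node (.leaf 14867) (.leaf 0))) (.node (.node (.leaf 8514) (.leaf 0)) (.node (.leaf 22175) (.leaf 0))))) (.node (.node (.node (.node (.leaf 1534) (.leaf 28999)) (.node (.leaf 13195) (.leaf 0))) (.node (.node (.leaf 7054)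 (.leaf 0)) (.node (.leaf 20201) (.leaf 0)))) (.node (.node (.node (.leaf 4232) (.leaf 35334)) (.node (.leaf 16561) (.leaf 0))) (.node (.node (.leaf 10014) (.leaf 0)) (.node (.leaf 24235) (.leaf 0)))))) (.node (.node (.node (.node (.node (.leaf 877) (.leaf 27705)) (.node (.leaf 12379) (.leaf 0))) (.node (.node (.leaf 6333) (.leaf 0)) (.node (.leaf 19277) (.leaf 0)))) (.node (.node (.node (.leaf 3540) (.leaf 33394)) (.node (.leaf 15700) (.leaf 0))) (.node (.node (.leaf 9276) (.leaf 0)) (.node (.leaf 23196) (.leaf 0))))) (.node (.node (.node (.node (.leaf 2203) (.leaf 30328)) (.node (.leaf 14014) (.leaf 0))) (.node (.node (.leaf 7777) (.leaf 0)) (.node (.leaf 21182) (.leaf 0)))) (.node (.node (.node (.leaf 4922) (.leaf 37641)) (.node (.leaf 17471) (.leaf 0))) (.node (.node (.leaf 10790) (.leaf 0)) (.node (.leaf 25342) (.leaf 0))))))) (.node (.node (.node (.node (.node (.node (.leaf 552) (.leaf 27130)) (.node (.leaf 11977) (.leaf 0))) (.node (.node (.leaf 5968) (.leaf 0)) (.node (.leaf 18853) (.leaf 0))))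 (.node (.node (.node (.leaf 3188) (.leaf 32577)) (.node (.leaf 15286) (.leaf 0))) (.node (.node (.leaf 8891) (.leaf 0)) (.node (.leaf 22694) (.leaf 0))))) (.node (.node (.node (.node (.leaf 1868) (.leaf 29652)) (.node (.leaf 13608) (.leaf 0))) (.node (.node (.leaf 7412) (.leaf 0)) (.node (.leaf 20699) (.leaf 0)))) (.node (.node (.node (.leaf 4577) (.leaf 36423)) (.node (.leaf 17014) (.leaf 0))) (.node (.node (.leaf 10392) (.leaf 0)) (.node (.leaf 24790) (.leaf 0)))))) (.node (.node (.node (.node (.node (.leaf 1204) (.leaf 28304)) (.node (.leaf 12785) (.leaf 0))) (.node (.node (.leaf 6692) (.leaf 0)) (.node (.leaf 19716) (.leaf 0)))) (.node (.node (.node (.leaf 3880) (.leaf 34357)) (.node (.leaf 16149) (.leaf 0))) (.node (.node (.leaf 9650) (.leaf 0)) (.node (.leaf 23720) (.leaf 0))))) (.node (.node (.node (.node (.leaf 2531) (.leaf 31006)) (.node (.leaf 14416) (.leaf 0))) (.node (.node (.leaf 8137) (.leaf 0)) (.node (.leaf 21678) (.leaf 0)))) (.node (.node (.node (.leaf 5268) (.leaf 39178)) (.node (.leaf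 17921) (.leaf 0))) (.node (.node (.leaf 11164) (.leaf 0)) (.node (.leaf 25926) (.leaf 0))))))))

def pT55 : NT := .node (.node (.node (.node (.node (.node (.node (.node (.leaf 69) (.leaf 26230)) (.node (.leaf 11357) (.leaf 0))) (.node (.node (.leaf 5441) (.leaf 0)) (.node (.leaf 18133) (.leaf 0)))) (.node (.node (.node (.leaf 2696) (.leaf 31393)) (.node (.leaf 14638) (.leaf 0))) (.node (.node (.leaf 8331) (.leaf 0)) (.node (.leaf 21919) (.leaf 0))))) (.node (.node (.node (.node (.leaf 1371) (.leaf 28645)) (.node (.leaf 12982) (.leaf 0))) (.node (.node (.leaf 6880) (.leaf 0)) (.node (.leaf 19968) (.leaf 0)))) (.node (.node (.node (.leaf 4056) (.leaf 34895)) (.node (.leaf 16368) (.leaf 0))) (.node (.node (.leaf 9832) (.leaf 0)) (.node (.leaf 23976) (.leaf 0)))))) (.node (.node (.node (.node (.node (.leaf 715) (.leaf 27442)) (.node (.leaf 12184) (.leaf 0))) (.node (.node (.leaf 6148) (.leaf 0)) (.node (.leaf 19064) (.leaf 0)))) (.node (.node (.node (.leaf 3361) (.leaf 32966)) (.node (.leaf 15493) (.leaf 0)))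 (.node (.node (.leaf 9091) (.leaf 0)) (.node (.leaf 22942) (.leaf 0))))) (.node (.node (.node (.node (.leaf 2038) (.leaf 29966)) (.node (.leaf 13807) (.leaf 0))) (.node (.node (.leaf 7586) (.leaf 0)) (.node (.leaf 20943) (.leaf 0)))) (.node (.node (.node (.leaf 4752) (.leaf 37085)) (.node (.leaf 17245) (.leaf 0))) (.node (.node (.leaf 10579) (.leaf 0)) (.node (.leaf 25092) (.leaf 0))))))) (.node (.node (.node (.node (.node (.node (.leaf 390) (.leaf 26827)) (.node (.leaf 11771) (.leaf 0))) (.node (.node (.leaf 5793) (.leaf 0)) (.node (.leaf 18620) (.leaf 0)))) (.node (.node (.node (.leaf 3024) (.leaf 32175)) (.node (.leaf 15078) (.leaf 0))) (.node (.node (.leaf 8693) (.leaf 0)) (.node (.leaf 22465) (.leaf 0))))) (.node (.node (.node (.node (.leaf 1702) (.leaf 29348)) (.node (.leaf 13396) (.leaf 0))) (.node (.node (.leaf 7232) (.leaf 0)) (.node (.leaf 20456) (.leaf 0)))) (.node (.node (.node (.leaf 4408) (.leaf 35876)) (.node (.leaf 16798) (.leaf 0))) (.node (.node (.leaf 10202) (.leaf 0)) (.node (.leaf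 24514) (.leaf 0)))))) (.node (.node (.node (.node (.node (.leaf 1046) (.leaf 28010)) (.node (.leaf 12583) (.leaf 0))) (.node (.node (.leaf 6516) (.leaf 0)) (.node (.leaf 19508) (.leaf 0)))) (.node (.node (.node (.leaf 3716) (.leaf 33853)) (.node (.leaf 15933) (.leaf 0))) (.node (.node (.leaf 9481) (.leaf 0)) (.node (.leaf 23469) (.leaf 0))))) (.node (.node (.node (.node (.leaf 2372) (.leaf 30661)) (.node (.leaf 14218) (.leaf 0))) (.node (.node (.leaf 7957) (.leaf 0)) (.node (.leaf 21425) (.leaf 0)))) (.node (.node (.node (.leaf 5091) (.leaf 38369)) (.node (.leaf 17691) (.leaf 0))) (.node (.node (.leaf 10977) (.leaf 0)) (.node (.leaf 25638) (.leaf 0)))))))) (.node (.node (.node (.node (.node (.node (.node (.leaf 230) (.leaf 26518)) (.node (.leaf 11550) (.leaf 0))) (.node (.node (.leaf 5622) (.leaf 0)) (.node (.leaf 18373) (.leaf 0)))) (.node (.node (.node (.leaf 2858) (.leaf 31802)) (.node (.leaf 14868) (.leaf 0))) (.node (.node (.leaf 8515) (.leaf 0)) (.node (.leaf 22176) (.leaf 0))))) (.node (.node (.node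 (.node (.leaf 1536) (.leaf 29002)) (.node (.leaf 13196) (.leaf 0))) (.node (.node (.leaf 7055) (.leaf 0)) (.node (.leaf 20202) (.leaf 0)))) (.node (.node (.node (.leaf 4234) (.leaf 35336)) (.node (.leaf 16562) (.leaf 0))) (.node (.node (.leaf 10015) (.leaf 0)) (.node (.leaf 24236) (.leaf 0)))))) (.node (.node (.node (.node (.node (.leaf 878) (.leaf 27710)) (.node (.leaf 12382) (.leaf 0))) (.node (.node (.leaf 6334) (.leaf 0)) (.node (.leaf 19280) (.leaf 0)))) (.node (.node (.node (.leaf 3542) (.leaf 33409)) (.node (.leaf 15704) (.leaf 0))) (.node (.node (.leaf 9278) (.leaf 0)) (.node (.leaf 23198) (.leaf 0))))) (.node (.node (.node (.node (.leaf 2204) (.leaf 30330)) (.node (.leaf 14015) (.leaf 0))) (.node (.node (.leaf 7778) (.leaf 0)) (.node (.leaf 21183) (.leaf 0)))) (.node (.node (.node (.leaf 4924) (.leaf 37647)) (.node (.leaf 17472) (.leaf 0))) (.node (.node (.leaf 10791) (.leaf 0)) (.node (.leaf 25344) (.leaf 0))))))) (.node (.node (.node (.node (.node (.node (.leaf 553) (.leaf 27131)) (.node (.leaf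 11979) (.leaf 0))) (.node (.node (.leaf 5970) (.leaf 0)) (.node (.leaf 18854) (.leaf 0)))) (.node (.node (.node (.leaf 3189) (.leaf 32580)) (.node (.leaf 15288) (.leaf 0))) (.node (.node (.leaf 8894) (.leaf 0)) (.node (.leaf 22695) (.leaf 0))))) (.node (.node (.node (.node (.leaf 1869) (.leaf 29653)) (.node (.leaf 13609) (.leaf 0))) (.node (.node (.leaf 7414) (.leaf 0)) (.node (.leaf 20700) (.leaf 0)))) (.node (.node (.node (.leaf 4578) (.leaf 36441)) (.node (.leaf 17016) (.leaf 0))) (.node (.node (.leaf 10394) (.leaf 0)) (.node (.leaf 24791) (.leaf 0)))))) (.node (.node (.node (.node (.node (.leaf 1205) (.leaf 28306)) (.node (.leaf 12786) (.leaf 0))) (.node (.node (.leaf 6694) (.leaf 0)) (.node (.leaf 19718) (.leaf 0)))) (.node (.node (.node (.leaf 3882) (.leaf 34358)) (.node (.leaf 16150) (.leaf 0))) (.node (.node (.leaf 9651) (.leaf 0)) (.node (.leaf 23722) (.leaf 0))))) (.node (.node (.node (.node (.leaf 2532) (.leaf 31010)) (.node (.leaf 14417) (.leaf 0))) (.node (.node (.leaf 8138) (.leaf 0)) (.node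 (.leaf 21679) (.leaf 0)))) (.node (.node (.node (.leaf 5269) (.leaf 39189)) (.node (.leaf 17922) (.leaf 0))) (.node (.node (.leaf 11166) (.leaf 0)) (.node (.leaf 25930) (.leaf 0))))))))

def pT56 : NT := .node (.node (.node (.node (.node (.node (.node (.node (.leaf 70) (.leaf 26234)) (.node (.leaf 11358) (.leaf 0))) (.node (.node (.leaf 5442) (.leaf 0)) (.node (.leaf 18134) (.leaf 0)))) (.node (.node (.node (.leaf 2698) (.leaf 31395)) (.node (.leaf 14639) (.leaf 0))) (.node (.node (.leaf 8332) (.leaf 0)) (.node (.leaf 21920) (.leaf 0))))) (.node (.node (.node (.node (.leaf 1372) (.leaf 28646)) (.node (.leaf 12984) (.leaf 0))) (.node (.node (.leaf 6881) (.leaf 0)) (.node (.leaf 19970) (.leaf 0)))) (.node (.node (.node (.leaf 4057) (.leaf 34896)) (.node (.leaf 16371) (.leaf 0))) (.node (.node (.leaf 9833) (.leaf 0)) (.node (.leaf 23978) (.leaf 0)))))) (.node (.node (.node (.node (.node (.leaf 716) (.leaf 27443)) (.node (.leaf 12186) (.leaf 0))) (.node (.node (.leaf 6150) (.leaf 0)) (.node (.leaf 19066) (.leaf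 0)))) (.node (.node (.node (.leaf 3362) (.leaf 32970)) (.node (.leaf 15496) (.leaf 0))) (.node (.node (.leaf 9092) (.leaf 0)) (.node (.leaf 22945) (.leaf 0))))) (.node (.node (.node (.node (.leaf 2039) (.leaf 29972)) (.node (.leaf 13808) (.leaf 0))) (.node (.node (.leaf 7587) (.leaf 0)) (.node (.leaf 20944) (.leaf 0)))) (.node (.node (.node (.leaf 4754) (.leaf 37092)) (.node (.leaf 17246) (.leaf 0))) (.node (.node (.leaf 10580) (.leaf 0)) (.node (.leaf 25094) (.leaf 0))))))) (.node (.node (.node (.node (.node (.node (.leaf 391) (.leaf 26828)) (.node (.leaf 11772) (.leaf 0))) (.node (.node (.leaf 5794) (.leaf 0)) (.node (.leaf 18621) (.leaf 0)))) (.node (.node (.node (.leaf 3025) (.leaf 32176)) (.node (.leaf 15083) (.leaf 0))) (.node (.node (.leaf 8694) (.leaf 0)) (.node (.leaf 22466) (.leaf 0))))) (.node (.node (.node (.node (.leaf 1703) (.leaf 29350)) (.node (.leaf 13398) (.leaf 0))) (.node (.node (.leaf 7234) (.leaf 0)) (.node (.leaf 20459) (.leaf 0)))) (.node (.node (.node (.leaf 4410) (.leaf 35878))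 (.node (.leaf 16802) (.leaf 0))) (.node (.node (.leaf 10204) (.leaf 0)) (.node (.leaf 24515) (.leaf 0)))))) (.node (.node (.node (.node (.node (.leaf 1047) (.leaf 28012)) (.node (.leaf 12584) (.leaf 0))) (.node (.node (.leaf 6517) (.leaf 0)) (.node (.leaf 19509) (.leaf 0)))) (.node (.node (.node (.leaf 3717) (.leaf 33854)) (.node (.leaf 15936) (.leaf 0))) (.node (.node (.leaf 9482) (.leaf 0)) (.node (.leaf 23470) (.leaf 0))))) (.node (.node (.node (.node (.leaf 2374) (.leaf 30664)) (.node (.leaf 14219) (.leaf 0))) (.node (.node (.leaf 7958) (.leaf 0)) (.node (.leaf 21427) (.leaf 0)))) (.node (.node (.node (.leaf 5092) (.leaf 38375)) (.node (.leaf 17692) (.leaf 0))) (.node (.node (.leaf 10978) (.leaf 0)) (.node (.leaf 25639) (.leaf 0)))))))) (.node (.node (.node (.node (.node (.node (.node (.leaf 231) (.leaf 26523)) (.node (.leaf 11552) (.leaf 0))) (.node (.node (.leaf 5625) (.leaf 0)) (.node (.leaf 18375) (.leaf 0)))) (.node (.node (.node (.leaf 2859) (.leaf 31804)) (.node (.leaf 14870) (.leaf 0))) (.node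 (.node (.leaf 8516) (.leaf 0)) (.node (.leaf 22178) (.leaf 0))))) (.node (.node (.node (.node (.leaf 1537) (.leaf 29004)) (.node (.leaf 13197) (.leaf 0))) (.node (.node (.leaf 7058) (.leaf 0)) (.node (.leaf 20204) (.leaf 0)))) (.node (.node (.node (.leaf 4235) (.leaf 35337)) (.node (.leaf 16563) (.leaf 0))) (.node (.node (.leaf 10016) (.leaf 0)) (.node (.leaf 24237) (.leaf 0)))))) (.node (.node (.node (.node (.node (.leaf 880) (.leaf 27712)) (.node (.leaf 12383) (.leaf 0))) (.node (.node (.leaf 6335) (.leaf 0)) (.node (.leaf 19281) (.leaf 0)))) (.node (.node (.node (.leaf 3543) (.leaf 33411)) (.node (.leaf 15706) (.leaf 0))) (.node (.node (.leaf 9280) (.leaf 0)) (.node (.leaf 23199) (.leaf 0))))) (.node (.node (.node (.node (.leaf 2207) (.leaf 30336)) (.node (.leaf 14018) (.leaf 0))) (.node (.node (.leaf 7779) (.leaf 0)) (.node (.leaf 21185) (.leaf 0)))) (.node (.node (.node (.leaf 4925) (.leaf 37653)) (.node (.leaf 17473) (.leaf 0))) (.node (.node (.leaf 10792) (.leaf 0)) (.node (.leaf 25348) (.leaf 0)))))))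 (.node (.node (.node (.node (.node (.node (.leaf 554) (.leaf 27132)) (.node (.leaf 11980) (.leaf 0))) (.node (.node (.leaf 5971) (.leaf 0)) (.node (.leaf 18855) (.leaf 0)))) (.node (.node (.node (.leaf 3190) (.leaf 32583)) (.node (.leaf 15290) (.leaf 0))) (.node (.node (.leaf 8895) (.leaf 0)) (.node (.leaf 22696) (.leaf 0))))) (.node (.node (.node (.node (.leaf 1870) (.leaf 29654)) (.node (.leaf 13612) (.leaf 0))) (.node (.node (.leaf 7415) (.leaf 0)) (.node (.leaf 20702) (.leaf 0)))) (.node (.node (.node (.leaf 4579) (.leaf 36447)) (.node (.leaf 17017) (.leaf 0))) (.node (.node (.leaf 10396) (.leaf 0)) (.node (.leaf 24792) (.leaf 0)))))) (.node (.node (.node (.node (.node (.leaf 1206) (.leaf 28308)) (.node (.leaf 12788) (.leaf 0))) (.node (.node (.leaf 6695) (.leaf 0)) (.node (.leaf 19720) (.leaf 0)))) (.node (.node (.node (.leaf 3884) (.leaf 34361)) (.node (.leaf 16152) (.leaf 0))) (.node (.node (.leaf 9652) (.leaf 0)) (.node (.leaf 23724) (.leaf 0))))) (.node (.node (.node (.node (.leaf 2534) (.leaf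 31016)) (.node (.leaf 14420) (.leaf 0))) (.node (.node (.leaf 8142) (.leaf 0)) (.node (.leaf 21680) (.leaf 0)))) (.node (.node (.node (.leaf 5270) (.leaf 39191)) (.node (.leaf 17923) (.leaf 0))) (.node (.node (.leaf 11167) (.leaf 0)) (.node (.leaf 25931) (.leaf 0))))))))

def pT57 : NT := .node (.node (.node (.node (.node (.node (.node (.node (.leaf 72) (.leaf 26235)) (.node (.leaf 11359) (.leaf 0))) (.node (.node (.leaf 5444) (.leaf 0)) (.node (.leaf 18137) (.leaf 0)))) (.node (.node (.node (.leaf 2699) (.leaf 31397)) (.node (.leaf 14640) (.leaf 0))) (.node (.node (.leaf 8333) (.leaf 0)) (.node (.leaf 21922) (.leaf 0))))) (.node (.node (.node (.node (.leaf 1374) (.leaf 28672)) (.node (.leaf 12986) (.leaf 0))) (.node (.node (.leaf 6882) (.leaf 0)) (.node (.leaf 19972) (.leaf 0)))) (.node (.node (.node (.leaf 4060) (.leaf 34898)) (.node (.leaf 16372) (.leaf 0))) (.node (.node (.leaf 9834) (.leaf 0)) (.node (.leaf 23988) (.leaf 0)))))) (.node (.node (.node (.node (.node (.leaf 718) (.leaf 27445)) (.node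 (.leaf 12188) (.leaf 0))) (.node (.node (.leaf 6151) (.leaf 0)) (.node (.leaf 19068) (.leaf 0)))) (.node (.node (.node (.leaf 3364) (.leaf 32976)) (.node (.leaf 15497) (.leaf 0))) (.node (.node (.leaf 9093) (.leaf 0)) (.node (.leaf 22949) (.leaf 0))))) (.node (.node (.node (.node (.leaf 2041) (.leaf 29974)) (.node (.leaf 13810) (.leaf 0))) (.node (.node (.leaf 7588) (.leaf 0)) (.node (.leaf 20949) (.leaf 0)))) (.node (.node (.node (.leaf 4755) (.leaf 37093)) (.node (.leaf 17249) (.leaf 0))) (.node (.node (.leaf 10581) (.leaf 0)) (.node (.leaf 25095) (.leaf 0))))))) (.node (.node (.node (.node (.node (.node (.leaf 392) (.leaf 26829)) (.node (.leaf 11775) (.leaf 0))) (.node (.node (.leaf 5796) (.leaf 0)) (.node (.leaf 18624) (.leaf 0)))) (.node (.node (.node (.leaf 3026) (.leaf 32178)) (.node (.leaf 15084) (.leaf 0))) (.node (.node (.leaf 8695) (.leaf 0)) (.node (.leaf 22468) (.leaf 0))))) (.node (.node (.node (.node (.leaf 1704) (.leaf 29351)) (.node (.leaf 13399) (.leaf 0))) (.node (.node (.leaf 7235)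 (.leaf 0)) (.node (.leaf 20460) (.leaf 0)))) (.node (.node (.node (.leaf 4411) (.leaf 35881)) (.node (.leaf 16803) (.leaf 0))) (.node (.node (.leaf 10207) (.leaf 0)) (.node (.leaf 24516) (.leaf 0)))))) (.node (.node (.node (.node (.node (.leaf 1048) (.leaf 28013)) (.node (.leaf 12586) (.leaf 0))) (.node (.node (.leaf 6518) (.leaf 0)) (.node (.leaf 19512) (.leaf 0)))) (.node (.node (.node (.leaf 3718) (.leaf 33868)) (.node (.leaf 15938) (.leaf 0))) (.node (.node (.leaf 9483) (.leaf 0)) (.node (.leaf 23473) (.leaf 0))))) (.node (.node (.node (.node (.leaf 2375) (.leaf 30674)) (.node (.leaf 14220) (.leaf 0))) (.node (.node (.leaf 7960) (.leaf 0)) (.node (.leaf 21428) (.leaf 0)))) (.node (.node (.node (.leaf 5094) (.leaf 38376)) (.node (.leaf 17694) (.leaf 0))) (.node (.node (.leaf 10980) (.leaf 0)) (.node (.leaf 25643) (.leaf 0)))))))) (.node (.node (.node (.node (.node (.node (.node (.leaf 232) (.leaf 26524)) (.node (.leaf 11556) (.leaf 0))) (.node (.node (.leaf 5628) (.leaf 0)) (.node (.leaf 18379) (.leaf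 0)))) (.node (.node (.node (.leaf 2860) (.leaf 31806)) (.node (.leaf 14872) (.leaf 0))) (.node (.node (.leaf 8517) (.leaf 0)) (.node (.leaf 22179) (.leaf 0))))) (.node (.node (.node (.node (.leaf 1538) (.leaf 29005)) (.node (.leaf 13198) (.leaf 0))) (.node (.node (.leaf 7060) (.leaf 0)) (.node (.leaf 20207) (.leaf 0)))) (.node (.node (.node (.leaf 4236) (.leaf 35338)) (.node (.leaf 16567) (.leaf 0))) (.node (.node (.leaf 10018) (.leaf 0)) (.node (.leaf 24238) (.leaf 0)))))) (.node (.node (.node (.node (.node (.leaf 882) (.leaf 27713)) (.node (.leaf 12384) (.leaf 0))) (.node (.node (.leaf 6336) (.leaf 0)) (.node (.leaf 19282) (.leaf 0)))) (.node (.node (.node (.leaf 3544) (.leaf 33412)) (.node (.leaf 15707) (.leaf 0))) (.node (.node (.leaf 9283) (.leaf 0)) (.node (.leaf 23203) (.leaf 0))))) (.node (.node (.node (.node (.leaf 2208) (.leaf 30340)) (.node (.leaf 14019) (.leaf 0))) (.node (.node (.leaf 7780) (.leaf 0)) (.node (.leaf 21186) (.leaf 0)))) (.node (.node (.node (.leaf 4926) (.leaf 37659)) (.node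 (.leaf 17476) (.leaf 0))) (.node (.node (.leaf 10794) (.leaf 0)) (.node (.leaf 25349) (.leaf 0))))))) (.node (.node (.node (.node (.node (.node (.leaf 556) (.leaf 27134)) (.node (.leaf 11981) (.leaf 0))) (.node (.node (.leaf 5972) (.leaf 0)) (.node (.leaf 18856) (.leaf 0)))) (.node (.node (.node (.leaf 3191) (.leaf 32584)) (.node (.leaf 15291) (.leaf 0))) (.node (.node (.leaf 8896) (.leaf 0)) (.node (.leaf 22698) (.leaf 0))))) (.node (.node (.node (.node (.leaf 1872) (.leaf 29655)) (.node (.leaf 13613) (.leaf 0))) (.node (.node (.leaf 7416) (.leaf 0)) (.node (.leaf 20708) (.leaf 0)))) (.node (.node (.node (.leaf 4580) (.leaf 36450)) (.node (.leaf 17018) (.leaf 0))) (.node (.node (.leaf 10397) (.leaf 0)) (.node (.leaf 24795) (.leaf 0)))))) (.node (.node (.node (.node (.node (.leaf 1207) (.leaf 28311)) (.node (.leaf 12789) (.leaf 0))) (.node (.node (.leaf 6696) (.leaf 0)) (.node (.leaf 19721) (.leaf 0)))) (.node (.node (.node (.leaf 3885) (.leaf 34362)) (.node (.leaf 16153) (.leaf 0))) (.node (.node (.leaf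 9653) (.leaf 0)) (.node (.leaf 23725) (.leaf 0))))) (.node (.node (.node (.node (.leaf 2535) (.leaf 31018)) (.node (.leaf 14423) (.leaf 0))) (.node (.node (.leaf 8144) (.leaf 0)) (.node (.leaf 21682) (.leaf 0)))) (.node (.node (.node (.leaf 5271) (.leaf 39198)) (.node (.leaf 17924) (.leaf 0))) (.node (.node (.leaf 11168) (.leaf 0)) (.node (.leaf 25932) (.leaf 0))))))))

def pT58 : NT := .node (.node (.node (.node (.node (.node (.node (.node (.leaf 73) (.leaf 26236)) (.node (.leaf 11360) (.leaf 0))) (.node (.node (.leaf 5445) (.leaf 0)) (.node (.leaf 18138) (.leaf 0)))) (.node (.node (.node (.leaf 2700) (.leaf 31398)) (.node (.leaf 14642) (.leaf 0))) (.node (.node (.leaf 8334) (.leaf 0)) (.node (.leaf 21924) (.leaf 0))))) (.node (.node (.node (.node (.leaf 1375) (.leaf 28674)) (.node (.leaf 12988) (.leaf 0))) (.node (.node (.leaf 6883) (.leaf 0)) (.node (.leaf 19973) (.leaf 0)))) (.node (.node (.node (.leaf 4061) (.leaf 34899)) (.node (.leaf 16374) (.leaf 0))) (.node (.node (.leaf 9835) (.leaf 0)) (.node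 (.leaf 23990) (.leaf 0)))))) (.node (.node (.node (.node (.node (.leaf 719) (.leaf 27446)) (.node (.leaf 12189) (.leaf 0))) (.node (.node (.leaf 6154) (.leaf 0)) (.node (.leaf 19069) (.leaf 0)))) (.node (.node (.node (.leaf 3367) (.leaf 32977)) (.node (.leaf 15498) (.leaf 0))) (.node (.node (.leaf 9094) (.leaf 0)) (.node (.leaf 22953) (.leaf 0))))) (.node (.node (.node (.node (.leaf 2042) (.leaf 29978)) (.node (.leaf 13812) (.leaf 0))) (.node (.node (.leaf 7591) (.leaf 0)) (.node (.leaf 20950) (.leaf 0)))) (.node (.node (.node (.leaf 4756) (.leaf 37096)) (.node (.leaf 17250) (.leaf 0))) (.node (.node (.leaf 10584) (.leaf 0)) (.node (.leaf 25096) (.leaf 0))))))) (.node (.node (.node (.node (.node (.node (.leaf 393) (.leaf 26830)) (.node (.leaf 11776) (.leaf 0))) (.node (.node (.leaf 5797) (.leaf 0)) (.node (.leaf 18625) (.leaf 0)))) (.node (.node (.node (.leaf 3027) (.leaf 32186)) (.node (.leaf 15092) (.leaf 0))) (.node (.node (.leaf 8696) (.leaf 0)) (.node (.leaf 22470) (.leaf 0))))) (.node (.node (.node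 (.node (.leaf 1705) (.leaf 29352)) (.node (.leaf 13400) (.leaf 0))) (.node (.node (.leaf 7236) (.leaf 0)) (.node (.leaf 20461) (.leaf 0)))) (.node (.node (.node (.leaf 4413) (.leaf 35884)) (.node (.leaf 16804) (.leaf 0))) (.node (.node (.leaf 10208) (.leaf 0)) (.node (.leaf 24517) (.leaf 0)))))) (.node (.node (.node (.node (.node (.leaf 1049) (.leaf 28022)) (.node (.leaf 12587) (.leaf 0))) (.node (.node (.leaf 6520) (.leaf 0)) (.node (.leaf 19514) (.leaf 0)))) (.node (.node (.node (.leaf 3720) (.leaf 33876)) (.node (.leaf 15939) (.leaf 0))) (.node (.node (.leaf 9484) (.leaf 0)) (.node (.leaf 23474) (.leaf 0))))) (.node (.node (.node (.node (.leaf 2376) (.leaf 30675)) (.node (.leaf 14223) (.leaf 0))) (.node (.node (.leaf 7962) (.leaf 0)) (.node (.leaf 21430) (.leaf 0)))) (.node (.node (.node (.leaf 5095) (.leaf 38391)) (.node (.leaf 17696) (.leaf 0))) (.node (.node (.leaf 10981) (.leaf 0)) (.node (.leaf 25646) (.leaf 0)))))))) (.node (.node (.node (.node (.node (.node (.node (.leaf 234) (.leaf 26526)) (.node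 (.leaf 11557) (.leaf 0))) (.node (.node (.leaf 5629) (.leaf 0)) (.node (.leaf 18380) (.leaf 0)))) (.node (.node (.node (.leaf 2861) (.leaf 31807)) (.node (.leaf 14874) (.leaf 0))) (.node (.node (.leaf 8518) (.leaf 0)) (.node (.leaf 22180) (.leaf 0))))) (.node (.node (.node (.node (.leaf 1539) (.leaf 29007)) (.node (.leaf 13200) (.leaf 0))) (.node (.node (.leaf 7062) (.leaf 0)) (.node (.leaf 20210) (.leaf 0)))) (.node (.node (.node (.leaf 4238) (.leaf 35345)) (.node (.leaf 16568) (.leaf 0))) (.node (.node (.leaf 10019) (.leaf 0)) (.node (.leaf 24240) (.leaf 0)))))) (.node (.node (.node (.node (.node (.leaf 883) (.leaf 27714)) (.node (.leaf 12386) (.leaf 0))) (.node (.node (.leaf 6337) (.leaf 0)) (.node (.leaf 19283) (.leaf 0)))) (.node (.node (.node (.leaf 3545) (.leaf 33414)) (.node (.leaf 15708) (.leaf 0))) (.node (.node (.leaf 9284) (.leaf 0)) (.node (.leaf 23204) (.leaf 0))))) (.node (.node (.node (.node (.leaf 2210) (.leaf 30341)) (.node (.leaf 14021) (.leaf 0))) (.node (.node (.leaf 7782) (.leaf 0))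 (.node (.leaf 21188) (.leaf 0)))) (.node (.node (.node (.leaf 4927) (.leaf 37663)) (.node (.leaf 17480) (.leaf 0))) (.node (.node (.leaf 10795) (.leaf 0)) (.node (.leaf 25350) (.leaf 0))))))) (.node (.node (.node (.node (.node (.node (.leaf 557) (.leaf 27136)) (.node (.leaf 11984) (.leaf 0))) (.node (.node (.leaf 5973) (.leaf 0)) (.node (.leaf 18858) (.leaf 0)))) (.node (.node (.node (.leaf 3192) (.leaf 32586)) (.node (.leaf 15292) (.leaf 0))) (.node (.node (.leaf 8898) (.leaf 0)) (.node (.leaf 22699) (.leaf 0))))) (.node (.node (.node (.node (.leaf 1873) (.leaf 29656)) (.node (.leaf 13614) (.leaf 0))) (.node (.node (.leaf 7417) (.leaf 0)) (.node (.leaf 20709) (.leaf 0)))) (.node (.node (.node (.leaf 4582) (.leaf 36456)) (.node (.leaf 17019) (.leaf 0))) (.node (.node (.leaf 10399) (.leaf 0)) (.node (.leaf 24798) (.leaf 0)))))) (.node (.node (.node (.node (.node (.leaf 1208) (.leaf 28312)) (.node (.leaf 12790) (.leaf 0))) (.node (.node (.leaf 6698) (.leaf 0)) (.node (.leaf 19722) (.leaf 0)))) (.node (.node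 (.node (.leaf 3886) (.leaf 34365)) (.node (.leaf 16156) (.leaf 0))) (.node (.node (.leaf 9654) (.leaf 0)) (.node (.leaf 23726) (.leaf 0))))) (.node (.node (.node (.node (.leaf 2536) (.leaf 31020)) (.node (.leaf 14424) (.leaf 0))) (.node (.node (.leaf 8145) (.leaf 0)) (.node (.leaf 21683) (.leaf 0)))) (.node (.node (.node (.leaf 5272) (.leaf 39204)) (.node (.leaf 17927) (.leaf 0))) (.node (.node (.leaf 11169) (.leaf 0)) (.node (.leaf 25933) (.leaf 0))))))))

def pT59 : NT := .node (.node (.node (.node (.node (.node (.node (.node (.leaf 74) (.leaf 26238)) (.node (.leaf 11363) (.leaf 0))) (.node (.node (.leaf 5446) (.leaf 0)) (.node (.leaf 18140) (.leaf 0)))) (.node (.node (.node (.leaf 2701) (.leaf 31403)) (.node (.leaf 14644) (.leaf 0))) (.node (.node (.leaf 8338) (.leaf 0)) (.node (.leaf 21925) (.leaf 0))))) (.node (.node (.node (.node (.leaf 1376) (.leaf 28675)) (.node (.leaf 12990) (.leaf 0))) (.node (.node (.leaf 6884) (.leaf 0)) (.node (.leaf 19974) (.leaf 0)))) (.node (.node (.node (.leaf 4062) (.leaf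 34902)) (.node (.leaf 16375) (.leaf 0))) (.node (.node (.leaf 9836) (.leaf 0)) (.node (.leaf 23991) (.leaf 0)))))) (.node (.node (.node (.node (.node (.leaf 720) (.leaf 27448)) (.node (.leaf 12190) (.leaf 0))) (.node (.node (.leaf 6158) (.leaf 0)) (.node (.leaf 19070) (.leaf 0)))) (.node (.node (.node (.leaf 3368) (.leaf 32979)) (.node (.leaf 15499) (.leaf 0))) (.node (.node (.leaf 9095) (.leaf 0)) (.node (.leaf 22955) (.leaf 0))))) (.node (.node (.node (.node (.leaf 2044) (.leaf 29986)) (.node (.leaf 13813) (.leaf 0))) (.node (.node (.leaf 7592) (.leaf 0)) (.node (.leaf 20956) (.leaf 0)))) (.node (.node (.node (.leaf 4757) (.leaf 37099)) (.node (.leaf 17252) (.leaf 0))) (.node (.node (.leaf 10585) (.leaf 0)) (.node (.leaf 25098) (.leaf 0))))))) (.node (.node (.node (.node (.node (.node (.leaf 394) (.leaf 26833)) (.node (.leaf 11779) (.leaf 0))) (.node (.node (.leaf 5798) (.leaf 0)) (.node (.leaf 18628) (.leaf 0)))) (.node (.node (.node (.leaf 3028) (.leaf 32193)) (.node (.leaf 15093) (.leaf 0))) (.node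 (.node (.leaf 8699) (.leaf 0)) (.node (.leaf 22472) (.leaf 0))))) (.node (.node (.node (.node (.leaf 1706) (.leaf 29355)) (.node (.leaf 13401) (.leaf 0))) (.node (.node (.leaf 7237) (.leaf 0)) (.node (.leaf 20464) (.leaf 0)))) (.node (.node (.node (.leaf 4414) (.leaf 35886)) (.node (.leaf 16808) (.leaf 0))) (.node (.node (.leaf 10209) (.leaf 0)) (.node (.leaf 24519) (.leaf 0)))))) (.node (.node (.node (.node (.node (.leaf 1050) (.leaf 28023)) (.node (.leaf 12588) (.leaf 0))) (.node (.node (.leaf 6521) (.leaf 0)) (.node (.leaf 19515) (.leaf 0)))) (.node (.node (.node (.leaf 3721) (.leaf 33878)) (.node (.leaf 15940) (.leaf 0))) (.node (.node (.leaf 9485) (.leaf 0)) (.node (.leaf 23475) (.leaf 0))))) (.node (.node (.node (.node (.leaf 2377) (.leaf 30676)) (.node (.leaf 14224) (.leaf 0))) (.node (.node (.leaf 7963) (.leaf 0)) (.node (.leaf 21431) (.leaf 0)))) (.node (.node (.node (.leaf 5098) (.leaf 38393)) (.node (.leaf 17698) (.leaf 0))) (.node (.node (.leaf 10982) (.leaf 0)) (.node (.leaf 25650) (.leaf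 0)))))))) (.node (.node (.node (.node (.node (.node (.node (.leaf 235) (.leaf 26527)) (.node (.leaf 11558) (.leaf 0))) (.node (.node (.leaf 5631) (.leaf 0)) (.node (.leaf 18381) (.leaf 0)))) (.node (.node (.node (.leaf 2862) (.leaf 31808)) (.node (.leaf 14875) (.leaf 0))) (.node (.node (.leaf 8519) (.leaf 0)) (.node (.leaf 22183) (.leaf 0))))) (.node (.node (.node (.node (.leaf 1540) (.leaf 29008)) (.node (.leaf 13202) (.leaf 0))) (.node (.node (.leaf 7063) (.leaf 0)) (.node (.leaf 20217) (.leaf 0)))) (.node (.node (.node (.leaf 4239) (.leaf 35354)) (.node (.leaf 16569) (.leaf 0))) (.node (.node (.leaf 10020) (.leaf 0)) (.node (.leaf 24244) (.leaf 0)))))) (.node (.node (.node (.node (.node (.leaf 884) (.leaf 27716)) (.node (.leaf 12387) (.leaf 0))) (.node (.node (.leaf 6338) (.leaf 0)) (.node (.leaf 19284) (.leaf 0)))) (.node (.node (.node (.leaf 3548) (.leaf 33415)) (.node (.leaf 15710) (.leaf 0))) (.node (.node (.leaf 9285) (.leaf 0)) (.node (.leaf 23206) (.leaf 0))))) (.node (.node (.node (.node (.leaf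 2211) (.leaf 30342)) (.node (.leaf 14022) (.leaf 0))) (.node (.node (.leaf 7783) (.leaf 0)) (.node (.leaf 21192) (.leaf 0)))) (.node (.node (.node (.leaf 4928) (.leaf 37664)) (.node (.leaf 17481) (.leaf 0))) (.node (.node (.leaf 10796) (.leaf 0)) (.node (.leaf 25351) (.leaf 0))))))) (.node (.node (.node (.node (.node (.node (.leaf 558) (.leaf 27138)) (.node (.leaf 11986) (.leaf 0))) (.node (.node (.leaf 5974) (.leaf 0)) (.node (.leaf 18861) (.leaf 0)))) (.node (.node (.node (.leaf 3194) (.leaf 32590)) (.node (.leaf 15294) (.leaf 0))) (.node (.node (.leaf 8899) (.leaf 0)) (.node (.leaf 22700) (.leaf 0))))) (.node (.node (.node (.node (.leaf 1874) (.leaf 29659)) (.node (.leaf 13617) (.leaf 0))) (.node (.node (.leaf 7418) (.leaf 0)) (.node (.leaf 20714) (.leaf 0)))) (.node (.node (.node (.leaf 4583) (.leaf 36457)) (.node (.leaf 17022) (.leaf 0))) (.node (.node (.leaf 10400) (.leaf 0)) (.node (.leaf 24800) (.leaf 0)))))) (.node (.node (.node (.node (.node (.leaf 1210) (.leaf 28314)) (.node (.leaf 12791) (.leaf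 0))) (.node (.node (.leaf 6699) (.leaf 0)) (.node (.leaf 19724) (.leaf 0)))) (.node (.node (.node (.leaf 3888) (.leaf 34366)) (.node (.leaf 16157) (.leaf 0))) (.node (.node (.leaf 9656) (.leaf 0)) (.node (.leaf 23727) (.leaf 0))))) (.node (.node (.node (.node (.leaf 2538) (.leaf 31024)) (.node (.leaf 14427) (.leaf 0))) (.node (.node (.leaf 8146) (.leaf 0)) (.node (.leaf 21684) (.leaf 0)))) (.node (.node (.node (.leaf 5273) (.leaf 39270)) (.node (.leaf 17928) (.leaf 0))) (.node (.node (.leaf 11170) (.leaf 0)) (.node (.leaf 25936) (.leaf 0))))))))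

def pT60 : NT := .node (.node (.node (.node (.node (.node (.node (.node (.leaf 75) (.leaf 26239)) (.node (.leaf 11364) (.leaf 0))) (.node (.node (.leaf 5448) (.leaf 0)) (.node (.leaf 18141) (.leaf 0)))) (.node (.node (.node (.leaf 2702) (.leaf 31404)) (.node (.leaf 14646) (.leaf 0))) (.node (.node (.leaf 8340) (.leaf 0)) (.node (.leaf 21926) (.leaf 0))))) (.node (.node (.node (.node (.leaf 1377) (.leaf 28676)) (.node (.leaf 12994) (.leaf 0))) (.node (.node (.leaf 6885) (.leaf 0)) (.node (.leaf 19977) (.leaf 0)))) (.node (.node (.node (.leaf 4063) (.leaf 34904)) (.node (.leaf 16376) (.leaf 0))) (.node (.node (.leaf 9838) (.leaf 0)) (.node (.leaf 23996) (.leaf 0)))))) (.node (.node (.node (.node (.node (.leaf 721) (.leaf 27449)) (.node (.leaf 12192) (.leaf 0))) (.node (.node (.leaf 6159) (.leaf 0)) (.node (.leaf 19071) (.leaf 0)))) (.node (.node (.node (.leaf 3370) (.leaf 32987)) (.node (.leaf 15500) (.leaf 0))) (.node (.node (.leaf 9096) (.leaf 0)) (.node (.leaf 22957) (.leaf 0))))) (.node (.node (.node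 (.node (.leaf 2045) (.leaf 29987)) (.node (.leaf 13814) (.leaf 0))) (.node (.node (.leaf 7593) (.leaf 0)) (.node (.leaf 20957) (.leaf 0)))) (.node (.node (.node (.leaf 4758) (.leaf 37100)) (.node (.leaf 17254) (.leaf 0))) (.node (.node (.leaf 10589) (.leaf 0)) (.node (.leaf 25099) (.leaf 0))))))) (.node (.node (.node (.node (.node (.node (.leaf 396) (.leaf 26836)) (.node (.leaf 11780) (.leaf 0))) (.node (.node (.leaf 5799) (.leaf 0)) (.node (.leaf 18629) (.leaf 0)))) (.node (.node (.node (.leaf 3030) (.leaf 32198)) (.node (.leaf 15094) (.leaf 0))) (.node (.node (.leaf 8700) (.leaf 0)) (.node (.leaf 22474) (.leaf 0))))) (.node (.node (.node (.node (.leaf 1709) (.leaf 29356)) (.node (.leaf 13402) (.leaf 0))) (.node (.node (.leaf 7238) (.leaf 0)) (.node (.leaf 20465) (.leaf 0)))) (.node (.node (.node (.leaf 4416) (.leaf 35893)) (.node (.leaf 16810) (.leaf 0))) (.node (.node (.leaf 10212) (.leaf 0)) (.node (.leaf 24520) (.leaf 0)))))) (.node (.node (.node (.node (.node (.leaf 1052) (.leaf 28024)) (.node (.leaf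 12590) (.leaf 0))) (.node (.node (.leaf 6522) (.leaf 0)) (.node (.leaf 19518) (.leaf 0)))) (.node (.node (.node (.leaf 3722) (.leaf 33888)) (.node (.leaf 15942) (.leaf 0))) (.node (.node (.leaf 9486) (.leaf 0)) (.node (.leaf 23477) (.leaf 0))))) (.node (.node (.node (.node (.leaf 2378) (.leaf 30678)) (.node (.leaf 14225) (.leaf 0))) (.node (.node (.leaf 7964) (.leaf 0)) (.node (.leaf 21434) (.leaf 0)))) (.node (.node (.node (.leaf 5099) (.leaf 38401)) (.node (.leaf 17699) (.leaf 0))) (.node (.node (.leaf 10985) (.leaf 0)) (.node (.leaf 25653) (.leaf 0)))))))) (.node (.node (.node (.node (.node (.node (.node (.leaf 236) (.leaf 26528)) (.node (.leaf 11560) (.leaf 0))) (.node (.node (.leaf 5632) (.leaf 0)) (.node (.leaf 18382) (.leaf 0)))) (.node (.node (.node (.leaf 2864) (.leaf 31810)) (.node (.leaf 14876) (.leaf 0))) (.node (.node (.leaf 8520) (.leaf 0)) (.node (.leaf 22186) (.leaf 0))))) (.node (.node (.node (.node (.leaf 1542) (.leaf 29010)) (.node (.leaf 13206) (.leaf 0))) (.node (.node (.leaf 7066)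 (.leaf 0)) (.node (.leaf 20218) (.leaf 0)))) (.node (.node (.node (.leaf 4240) (.leaf 35359)) (.node (.leaf 16570) (.leaf 0))) (.node (.node (.leaf 10022) (.leaf 0)) (.node (.leaf 24248) (.leaf 0)))))) (.node (.node (.node (.node (.node (.leaf 886) (.leaf 27718)) (.node (.leaf 12388) (.leaf 0))) (.node (.node (.leaf 6340) (.leaf 0)) (.node (.leaf 19286) (.leaf 0)))) (.node (.node (.node (.leaf 3549) (.leaf 33416)) (.node (.leaf 15711) (.leaf 0))) (.node (.node (.leaf 9286) (.leaf 0)) (.node (.leaf 23208) (.leaf 0))))) (.node (.node (.node (.node (.leaf 2212) (.leaf 30344)) (.node (.leaf 14024) (.leaf 0))) (.node (.node (.leaf 7784) (.leaf 0)) (.node (.leaf 21194) (.leaf 0)))) (.node (.node (.node (.leaf 4930) (.leaf 37670)) (.node (.leaf 17484) (.leaf 0))) (.node (.node (.leaf 10798) (.leaf 0)) (.node (.leaf 25352) (.leaf 0))))))) (.node (.node (.node (.node (.node (.node (.leaf 559) (.leaf 27139)) (.node (.leaf 11987) (.leaf 0))) (.node (.node (.leaf 5976) (.leaf 0)) (.node (.leaf 18862) (.leaf 0))))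 (.node (.node (.node (.leaf 3195) (.leaf 32592)) (.node (.leaf 15296) (.leaf 0))) (.node (.node (.leaf 8900) (.leaf 0)) (.node (.leaf 22702) (.leaf 0))))) (.node (.node (.node (.node (.leaf 1875) (.leaf 29661)) (.node (.leaf 13618) (.leaf 0))) (.node (.node (.leaf 7420) (.leaf 0)) (.node (.leaf 20715) (.leaf 0)))) (.node (.node (.node (.leaf 4584) (.leaf 36461)) (.node (.leaf 17023) (.leaf 0))) (.node (.node (.leaf 10402) (.leaf 0)) (.node (.leaf 24802) (.leaf 0)))))) (.node (.node (.node (.node (.node (.leaf 1212) (.leaf 28321)) (.node (.leaf 12794) (.leaf 0))) (.node (.node (.leaf 6700) (.leaf 0)) (.node (.leaf 19727) (.leaf 0)))) (.node (.node (.node (.leaf 3889) (.leaf 34374)) (.node (.leaf 16162) (.leaf 0))) (.node (.node (.leaf 9657) (.leaf 0)) (.node (.leaf 23728) (.leaf 0))))) (.node (.node (.node (.node (.leaf 2539) (.leaf 31026)) (.node (.leaf 14428) (.leaf 0))) (.node (.node (.leaf 8148) (.leaf 0)) (.node (.leaf 21687) (.leaf 0)))) (.node (.node (.node (.leaf 5274) (.leaf 39278)) (.node (.leaf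 17930) (.leaf 0))) (.node (.node (.leaf 11173) (.leaf 0)) (.node (.leaf 25937) (.leaf 0))))))))

def pT61 : NT := .node (.node (.node (.node (.node (.node (.node (.node (.leaf 76) (.leaf 26240)) (.node (.leaf 11366) (.leaf 0))) (.node (.node (.leaf 5450) (.leaf 0)) (.node (.leaf 18142) (.leaf 0)))) (.node (.node (.node (.leaf 2704) (.leaf 31406)) (.node (.leaf 14647) (.leaf 0))) (.node (.node (.leaf 8342) (.leaf 0)) (.node (.leaf 21928) (.leaf 0))))) (.node (.node (.node (.node (.leaf 1378) (.leaf 28678)) (.node (.leaf 12995) (.leaf 0))) (.node (.node (.leaf 6886) (.leaf 0)) (.node (.leaf 19978) (.leaf 0)))) (.node (.node (.node (.leaf 4064) (.leaf 34906)) (.node (.leaf 16378) (.leaf 0))) (.node (.node (.leaf 9839) (.leaf 0)) (.node (.leaf 23997) (.leaf 0)))))) (.node (.node (.node (.node (.node (.leaf 722) (.leaf 27451)) (.node (.leaf 12193) (.leaf 0))) (.node (.node (.leaf 6160) (.leaf 0)) (.node (.leaf 19072) (.leaf 0)))) (.node (.node (.node (.leaf 3372) (.leaf 32992)) (.node (.leaf 15502) (.leaf 0)))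 (.node (.node (.leaf 9098) (.leaf 0)) (.node (.leaf 22960) (.leaf 0))))) (.node (.node (.node (.node (.leaf 2046) (.leaf 29989)) (.node (.leaf 13816) (.leaf 0))) (.node (.node (.leaf 7596) (.leaf 0)) (.node (.leaf 20958) (.leaf 0)))) (.node (.node (.node (.leaf 4761) (.leaf 37105)) (.node (.leaf 17255) (.leaf 0))) (.node (.node (.leaf 10590) (.leaf 0)) (.node (.leaf 25100) (.leaf 0))))))) (.node (.node (.node (.node (.node (.node (.leaf 397) (.leaf 26840)) (.node (.leaf 11782) (.leaf 0))) (.node (.node (.leaf 5800) (.leaf 0)) (.node (.leaf 18630) (.leaf 0)))) (.node (.node (.node (.leaf 3031) (.leaf 32199)) (.node (.leaf 15095) (.leaf 0))) (.node (.node (.leaf 8702) (.leaf 0)) (.node (.leaf 22475) (.leaf 0))))) (.node (.node (.node (.node (.leaf 1710) (.leaf 29360)) (.node (.leaf 13407) (.leaf 0))) (.node (.node (.leaf 7241) (.leaf 0)) (.node (.leaf 20470) (.leaf 0)))) (.node (.node (.node (.leaf 4417) (.leaf 35894)) (.node (.leaf 16812) (.leaf 0))) (.node (.node (.leaf 10214) (.leaf 0)) (.node (.leaf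 24521) (.leaf 0)))))) (.node (.node (.node (.node (.node (.leaf 1053) (.leaf 28025)) (.node (.leaf 12591) (.leaf 0))) (.node (.node (.leaf 6524) (.leaf 0)) (.node (.leaf 19520) (.leaf 0)))) (.node (.node (.node (.leaf 3723) (.leaf 33894)) (.node (.leaf 15945) (.leaf 0))) (.node (.node (.leaf 9487) (.leaf 0)) (.node (.leaf 23478) (.leaf 0))))) (.node (.node (.node (.node (.leaf 2380) (.leaf 30680)) (.node (.leaf 14226) (.leaf 0))) (.node (.node (.leaf 7966) (.leaf 0)) (.node (.leaf 21439) (.leaf 0)))) (.node (.node (.node (.leaf 5100) (.leaf 38405)) (.node (.leaf 17700) (.leaf 0))) (.node (.node (.leaf 10986) (.leaf 0)) (.node (.leaf 25654) (.leaf 0)))))))) (.node (.node (.node (.node (.node (.node (.node (.leaf 237) (.leaf 26530)) (.node (.leaf 11563) (.leaf 0))) (.node (.node (.leaf 5633) (.leaf 0)) (.node (.leaf 18386) (.leaf 0)))) (.node (.node (.node (.leaf 2865) (.leaf 31811)) (.node (.leaf 14877) (.leaf 0))) (.node (.node (.leaf 8521) (.leaf 0)) (.node (.leaf 22187) (.leaf 0))))) (.node (.node (.node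 (.node (.leaf 1543) (.leaf 29014)) (.node (.leaf 13207) (.leaf 0))) (.node (.node (.leaf 7068) (.leaf 0)) (.node (.leaf 20219) (.leaf 0)))) (.node (.node (.node (.leaf 4241) (.leaf 35362)) (.node (.leaf 16573) (.leaf 0))) (.node (.node (.leaf 10023) (.leaf 0)) (.node (.leaf 24250) (.leaf 0)))))) (.node (.node (.node (.node (.node (.leaf 887) (.leaf 27722)) (.node (.leaf 12391) (.leaf 0))) (.node (.node (.leaf 6341) (.leaf 0)) (.node (.leaf 19287) (.leaf 0)))) (.node (.node (.node (.leaf 3550) (.leaf 33426)) (.node (.leaf 15712) (.leaf 0))) (.node (.node (.leaf 9292) (.leaf 0)) (.node (.leaf 23209) (.leaf 0))))) (.node (.node (.node (.node (.leaf 2215) (.leaf 30346)) (.node (.leaf 14025) (.leaf 0))) (.node (.node (.leaf 7786) (.leaf 0)) (.node (.leaf 21195) (.leaf 0)))) (.node (.node (.node (.leaf 4931) (.leaf 37671)) (.node (.leaf 17486) (.leaf 0))) (.node (.node (.leaf 10799) (.leaf 0)) (.node (.leaf 25354) (.leaf 0))))))) (.node (.node (.node (.node (.node (.node (.leaf 560) (.leaf 27142)) (.node (.leaf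 11988) (.leaf 0))) (.node (.node (.leaf 5977) (.leaf 0)) (.node (.leaf 18863) (.leaf 0)))) (.node (.node (.node (.leaf 3196) (.leaf 32594)) (.node (.leaf 15299) (.leaf 0))) (.node (.node (.leaf 8901) (.leaf 0)) (.node (.leaf 22703) (.leaf 0))))) (.node (.node (.node (.node (.leaf 1876) (.leaf 29664)) (.node (.leaf 13619) (.leaf 0))) (.node (.node (.leaf 7421) (.leaf 0)) (.node (.leaf 20716) (.leaf 0)))) (.node (.node (.node (.leaf 4585) (.leaf 36464)) (.node (.leaf 17024) (.leaf 0))) (.node (.node (.leaf 10403) (.leaf 0)) (.node (.leaf 24804) (.leaf 0)))))) (.node (.node (.node (.node (.node (.leaf 1213) (.leaf 28323)) (.node (.leaf 12796) (.leaf 0))) (.node (.node (.leaf 6701) (.leaf 0)) (.node (.leaf 19728) (.leaf 0)))) (.node (.node (.node (.leaf 3890) (.leaf 34375)) (.node (.leaf 16163) (.leaf 0))) (.node (.node (.leaf 9658) (.leaf 0)) (.node (.leaf 23730) (.leaf 0))))) (.node (.node (.node (.node (.leaf 2540) (.leaf 31032)) (.node (.leaf 14429) (.leaf 0))) (.node (.node (.leaf 8149) (.leaf 0)) (.node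 (.leaf 21688) (.leaf 0)))) (.node (.node (.node (.leaf 5275) (.leaf 39282)) (.node (.leaf 17933) (.leaf 0))) (.node (.node (.leaf 11177) (.leaf 0)) (.node (.leaf 25942) (.leaf 0))))))))

def pT62 : NT := .node (.node (.node (.node (.node (.node (.node (.node (.leaf 78) (.leaf 26244)) (.node (.leaf 11368) (.leaf 0))) (.node (.node (.leaf 5451) (.leaf 0)) (.node (.leaf 18144) (.leaf 0)))) (.node (.node (.node (.leaf 2705) (.leaf 31408)) (.node (.leaf 14648) (.leaf 0))) (.node (.node (.leaf 8343) (.leaf 0)) (.node (.leaf 21932) (.leaf 0))))) (.node (.node (.node (.node (.leaf 1380) (.leaf 28680)) (.node (.leaf 12997) (.leaf 0))) (.node (.node (.leaf 6888) (.leaf 0)) (.node (.leaf 19981) (.leaf 0)))) (.node (.node (.node (.leaf 4066) (.leaf 34908)) (.node (.leaf 16379) (.leaf 0))) (.node (.node (.leaf 9842) (.leaf 0)) (.node (.leaf 23998) (.leaf 0)))))) (.node (.node (.node (.node (.node (.leaf 724) (.leaf 27452)) (.node (.leaf 12194) (.leaf 0))) (.node (.node (.leaf 6161) (.leaf 0)) (.node (.leaf 19073) (.leaf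 0)))) (.node (.node (.node (.leaf 3373) (.leaf 32996)) (.node (.leaf 15503) (.leaf 0))) (.node (.node (.leaf 9099) (.leaf 0)) (.node (.leaf 22961) (.leaf 0))))) (.node (.node (.node (.node (.leaf 2047) (.leaf 29991)) (.node (.leaf 13818) (.leaf 0))) (.node (.node (.leaf 7597) (.leaf 0)) (.node (.leaf 20960) (.leaf 0)))) (.node (.node (.node (.leaf 4762) (.leaf 37106)) (.node (.leaf 17256) (.leaf 0))) (.node (.node (.leaf 10592) (.leaf 0)) (.node (.leaf 25101) (.leaf 0))))))) (.node (.node (.node (.node (.node (.node (.leaf 398) (.leaf 26842)) (.node (.leaf 11785) (.leaf 0))) (.node (.node (.leaf 5802) (.leaf 0)) (.node (.leaf 18632) (.leaf 0)))) (.node (.node (.node (.leaf 3032) (.leaf 32200)) (.node (.leaf 15096) (.leaf 0))) (.node (.node (.leaf 8703) (.leaf 0)) (.node (.leaf 22476) (.leaf 0))))) (.node (.node (.node (.node (.leaf 1712) (.leaf 29361)) (.node (.leaf 13408) (.leaf 0))) (.node (.node (.leaf 7242) (.leaf 0)) (.node (.leaf 20474) (.leaf 0)))) (.node (.node (.node (.leaf 4418) (.leaf 35902))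 (.node (.leaf 16813) (.leaf 0))) (.node (.node (.leaf 10215) (.leaf 0)) (.node (.leaf 24522) (.leaf 0)))))) (.node (.node (.node (.node (.node (.leaf 1054) (.leaf 28031)) (.node (.leaf 12592) (.leaf 0))) (.node (.node (.leaf 6525) (.leaf 0)) (.node (.leaf 19521) (.leaf 0)))) (.node (.node (.node (.leaf 3724) (.leaf 33908)) (.node (.leaf 15947) (.leaf 0))) (.node (.node (.leaf 9491) (.leaf 0)) (.node (.leaf 23480) (.leaf 0))))) (.node (.node (.node (.node (.leaf 2381) (.leaf 30687)) (.node (.leaf 14228) (.leaf 0))) (.node (.node (.leaf 7967) (.leaf 0)) (.node (.leaf 21440) (.leaf 0)))) (.node (.node (.node (.leaf 5101) (.leaf 38416)) (.node (.leaf 17702) (.leaf 0))) (.node (.node (.leaf 10987) (.leaf 0)) (.node (.leaf 25655) (.leaf 0)))))))) (.node (.node (.node (.node (.node (.node (.node (.leaf 238) (.leaf 26532)) (.node (.leaf 11564) (.leaf 0))) (.node (.node (.leaf 5634) (.leaf 0)) (.node (.leaf 18388) (.leaf 0)))) (.node (.node (.node (.leaf 2866) (.leaf 31812)) (.node (.leaf 14880) (.leaf 0))) (.node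 (.node (.leaf 8522) (.leaf 0)) (.node (.leaf 22188) (.leaf 0))))) (.node (.node (.node (.node (.leaf 1544) (.leaf 29015)) (.node (.leaf 13208) (.leaf 0))) (.node (.node (.leaf 7069) (.leaf 0)) (.node (.leaf 20221) (.leaf 0)))) (.node (.node (.node (.leaf 4242) (.leaf 35370)) (.node (.leaf 16574) (.leaf 0))) (.node (.node (.leaf 10024) (.leaf 0)) (.node (.leaf 24253) (.leaf 0)))))) (.node (.node (.node (.node (.node (.leaf 888) (.leaf 27723)) (.node (.leaf 12392) (.leaf 0))) (.node (.node (.leaf 6342) (.leaf 0)) (.node (.leaf 19288) (.leaf 0)))) (.node (.node (.node (.leaf 3552) (.leaf 33439)) (.node (.leaf 15714) (.leaf 0))) (.node (.node (.leaf 9293) (.leaf 0)) (.node (.leaf 23210) (.leaf 0))))) (.node (.node (.node (.node (.leaf 2216) (.leaf 30348)) (.node (.leaf 14026) (.leaf 0))) (.node (.node (.leaf 7787) (.leaf 0)) (.node (.leaf 21196) (.leaf 0)))) (.node (.node (.node (.leaf 4932) (.leaf 37672)) (.node (.leaf 17488) (.leaf 0))) (.node (.node (.leaf 10800) (.leaf 0)) (.node (.leaf 25357) (.leaf 0)))))))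 (.node (.node (.node (.node (.node (.node (.leaf 562) (.leaf 27144)) (.node (.leaf 11990) (.leaf 0))) (.node (.node (.leaf 5978) (.leaf 0)) (.node (.leaf 18864) (.leaf 0)))) (.node (.node (.node (.leaf 3198) (.leaf 32596)) (.node (.leaf 15302) (.leaf 0))) (.node (.node (.leaf 8902) (.leaf 0)) (.node (.leaf 22704) (.leaf 0))))) (.node (.node (.node (.node (.leaf 1878) (.leaf 29665)) (.node (.leaf 13621) (.leaf 0))) (.node (.node (.leaf 7424) (.leaf 0)) (.node (.leaf 20717) (.leaf 0)))) (.node (.node (.node (.leaf 4586) (.leaf 36480)) (.node (.leaf 17027) (.leaf 0))) (.node (.node (.leaf 10404) (.leaf 0)) (.node (.leaf 24805) (.leaf 0)))))) (.node (.node (.node (.node (.node (.leaf 1214) (.leaf 28324)) (.node (.leaf 12797) (.leaf 0))) (.node (.node (.leaf 6702) (.leaf 0)) (.node (.leaf 19730) (.leaf 0)))) (.node (.node (.node (.leaf 3891) (.leaf 34378)) (.node (.leaf 16166) (.leaf 0))) (.node (.node (.leaf 9660) (.leaf 0)) (.node (.leaf 23736) (.leaf 0))))) (.node (.node (.node (.node (.leaf 2541) (.leaf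 31041)) (.node (.leaf 14433) (.leaf 0))) (.node (.node (.leaf 8150) (.leaf 0)) (.node (.leaf 21690) (.leaf 0)))) (.node (.node (.node (.leaf 5278) (.leaf 39287)) (.node (.leaf 17934) (.leaf 0))) (.node (.node (.leaf 11178) (.leaf 0)) (.node (.leaf 25945) (.leaf 0))))))))

def pT63 : NT := .node (.node (.node (.node (.node (.node (.node (.node (.leaf 79) (.leaf 26247)) (.node (.leaf 11369) (.leaf 0))) (.node (.node (.leaf 5452) (.leaf 0)) (.node (.leaf 18146) (.leaf 0)))) (.node (.node (.node (.leaf 2706) (.leaf 31413)) (.node (.leaf 14649) (.leaf 0))) (.node (.node (.leaf 8344) (.leaf 0)) (.node (.leaf 21933) (.leaf 0))))) (.node (.node (.node (.node (.leaf 1381) (.leaf 28682)) (.node (.leaf 12998) (.leaf 0))) (.node (.node (.leaf 6889) (.leaf 0)) (.node (.leaf 19982) (.leaf 0)))) (.node (.node (.node (.leaf 4067) (.leaf 34909)) (.node (.leaf 16380) (.leaf 0))) (.node (.node (.leaf 9843) (.leaf 0)) (.node (.leaf 24000) (.leaf 0)))))) (.node (.node (.node (.node (.node (.leaf 725) (.leaf 27457)) (.node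 (.leaf 12196) (.leaf 0))) (.node (.node (.leaf 6164) (.leaf 0)) (.node (.leaf 19076) (.leaf 0)))) (.node (.node (.node (.leaf 3374) (.leaf 32998)) (.node (.leaf 15505) (.leaf 0))) (.node (.node (.leaf 9100) (.leaf 0)) (.node (.leaf 22962) (.leaf 0))))) (.node (.node (.node (.node (.leaf 2048) (.leaf 29993)) (.node (.leaf 13820) (.leaf 0))) (.node (.node (.leaf 7598) (.leaf 0)) (.node (.leaf 20961) (.leaf 0)))) (.node (.node (.node (.leaf 4763) (.leaf 37112)) (.node (.leaf 17259) (.leaf 0))) (.node (.node (.leaf 10596) (.leaf 0)) (.node (.leaf 25103) (.leaf 0))))))) (.node (.node (.node (.node (.node (.node (.leaf 400) (.leaf 26843)) (.node (.leaf 11786) (.leaf 0))) (.node (.node (.leaf 5803) (.leaf 0)) (.node (.leaf 18634) (.leaf 0)))) (.node (.node (.node (.leaf 3033) (.leaf 32201)) (.node (.leaf 15098) (.leaf 0))) (.node (.node (.leaf 8704) (.leaf 0)) (.node (.leaf 22479) (.leaf 0))))) (.node (.node (.node (.node (.leaf 1713) (.leaf 29367)) (.node (.leaf 13410) (.leaf 0))) (.node (.node (.leaf 7244)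 (.leaf 0)) (.node (.leaf 20476) (.leaf 0)))) (.node (.node (.node (.leaf 4419) (.leaf 35903)) (.node (.leaf 16816) (.leaf 0))) (.node (.node (.leaf 10216) (.leaf 0)) (.node (.leaf 24525) (.leaf 0)))))) (.node (.node (.node (.node (.node (.leaf 1056) (.leaf 28033)) (.node (.leaf 12594) (.leaf 0))) (.node (.node (.leaf 6526) (.leaf 0)) (.node (.leaf 19522) (.leaf 0)))) (.node (.node (.node (.leaf 3726) (.leaf 33909)) (.node (.leaf 15948) (.leaf 0))) (.node (.node (.leaf 9492) (.leaf 0)) (.node (.leaf 23482) (.leaf 0))))) (.node (.node (.node (.node (.leaf 2382) (.leaf 30690)) (.node (.leaf 14229) (.leaf 0))) (.node (.node (.leaf 7968) (.leaf 0)) (.node (.leaf 21446) (.leaf 0)))) (.node (.node (.node (.leaf 5102) (.leaf 38417)) (.node (.leaf 17703) (.leaf 0))) (.node (.node (.leaf 10988) (.leaf 0)) (.node (.leaf 25656) (.leaf 0)))))))) (.node (.node (.node (.node (.node (.node (.node (.leaf 239) (.leaf 26537)) (.node (.leaf 11566) (.leaf 0))) (.node (.node (.leaf 5636) (.leaf 0)) (.node (.leaf 18389) (.leaf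 0)))) (.node (.node (.node (.leaf 2868) (.leaf 31816)) (.node (.leaf 14881) (.leaf 0))) (.node (.node (.leaf 8523) (.leaf 0)) (.node (.leaf 22189) (.leaf 0))))) (.node (.node (.node (.node (.leaf 1545) (.leaf 29019)) (.node (.leaf 13209) (.leaf 0))) (.node (.node (.leaf 7070) (.leaf 0)) (.node (.leaf 20222) (.leaf 0)))) (.node (.node (.node (.leaf 4245) (.leaf 35372)) (.node (.leaf 16577) (.leaf 0))) (.node (.node (.leaf 10025) (.leaf 0)) (.node (.leaf 24255) (.leaf 0)))))) (.node (.node (.node (.node (.node (.leaf 890) (.leaf 27724)) (.node (.leaf 12393) (.leaf 0))) (.node (.node (.leaf 6344) (.leaf 0)) (.node (.leaf 19290) (.leaf 0)))) (.node (.node (.node (.leaf 3553) (.leaf 33443)) (.node (.leaf 15718) (.leaf 0))) (.node (.node (.leaf 9294) (.leaf 0)) (.node (.leaf 23211) (.leaf 0))))) (.node (.node (.node (.node (.leaf 2218) (.leaf 30350)) (.node (.leaf 14029) (.leaf 0))) (.node (.node (.leaf 7788) (.leaf 0)) (.node (.leaf 21198) (.leaf 0)))) (.node (.node (.node (.leaf 4933) (.leaf 37682)) (.node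 (.leaf 17491) (.leaf 0))) (.node (.node (.leaf 10801) (.leaf 0)) (.node (.leaf 25358) (.leaf 0))))))) (.node (.node (.node (.node (.node (.node (.leaf 563) (.leaf 27148)) (.node (.leaf 11991) (.leaf 0))) (.node (.node (.leaf 5980) (.leaf 0)) (.node (.leaf 18866) (.leaf 0)))) (.node (.node (.node (.leaf 3200) (.leaf 32598)) (.node (.leaf 15303) (.leaf 0))) (.node (.node (.leaf 8905) (.leaf 0)) (.node (.leaf 22706) (.leaf 0))))) (.node (.node (.node (.node (.leaf 1879) (.leaf 29668)) (.node (.leaf 13622) (.leaf 0))) (.node (.node (.leaf 7425) (.leaf 0)) (.node (.leaf 20718) (.leaf 0)))) (.node (.node (.node (.leaf 4589) (.leaf 36486)) (.node (.leaf 17028) (.leaf 0))) (.node (.node (.leaf 10405) (.leaf 0)) (.node (.leaf 24807) (.leaf 0)))))) (.node (.node (.node (.node (.node (.leaf 1215) (.leaf 28328)) (.node (.leaf 12798) (.leaf 0))) (.node (.node (.leaf 6704) (.leaf 0)) (.node (.leaf 19732) (.leaf 0)))) (.node (.node (.node (.leaf 3892) (.leaf 34379)) (.node (.leaf 16168) (.leaf 0))) (.node (.node (.leaf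 9661) (.leaf 0)) (.node (.leaf 23738) (.leaf 0))))) (.node (.node (.node (.node (.leaf 2542) (.leaf 31044)) (.node (.leaf 14434) (.leaf 0))) (.node (.node (.leaf 8153) (.leaf 0)) (.node (.leaf 21691) (.leaf 0)))) (.node (.node (.node (.leaf 5279) (.leaf 39324)) (.node (.leaf 17937) (.leaf 0))) (.node (.node (.leaf 11179) (.leaf 0)) (.node (.leaf 25952) (.leaf 0))))))))

def pT64 : NT := .node (.node (.node (.node (.node (.node (.node (.node (.leaf 80) (.leaf 26251)) (.node (.leaf 11370) (.leaf 0))) (.node (.node (.leaf 5454) (.leaf 0)) (.node (.leaf 18147) (.leaf 0)))) (.node (.node (.node (.leaf 2708) (.leaf 31415)) (.node (.leaf 14650) (.leaf 0))) (.node (.node (.leaf 8346) (.leaf 0)) (.node (.leaf 21934) (.leaf 0))))) (.node (.node (.node (.node (.leaf 1382) (.leaf 28690)) (.node (.leaf 13000) (.leaf 0))) (.node (.node (.leaf 6890) (.leaf 0)) (.node (.leaf 19984) (.leaf 0)))) (.node (.node (.node (.leaf 4068) (.leaf 34913)) (.node (.leaf 16381) (.leaf 0))) (.node (.node (.leaf 9844) (.leaf 0)) (.node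 (.leaf 24001) (.leaf 0)))))) (.node (.node (.node (.node (.node (.leaf 726) (.leaf 27459)) (.node (.leaf 12197) (.leaf 0))) (.node (.node (.leaf 6165) (.leaf 0)) (.node (.leaf 19078) (.leaf 0)))) (.node (.node (.node (.leaf 3376) (.leaf 33005)) (.node (.leaf 15506) (.leaf 0))) (.node (.node (.leaf 9102) (.leaf 0)) (.node (.leaf 22964) (.leaf 0))))) (.node (.node (.node (.node (.leaf 2050) (.leaf 29996)) (.node (.leaf 13822) (.leaf 0))) (.node (.node (.leaf 7600) (.leaf 0)) (.node (.leaf 20962) (.leaf 0)))) (.node (.node (.node (.leaf 4764) (.leaf 37118)) (.node (.leaf 17260) (.leaf 0))) (.node (.node (.leaf 10597) (.leaf 0)) (.node (.leaf 25106) (.leaf 0))))))) (.node (.node (.node (.node (.node (.node (.leaf 401) (.leaf 26844)) (.node (.leaf 11787) (.leaf 0))) (.node (.node (.leaf 5804) (.leaf 0)) (.node (.leaf 18635) (.leaf 0)))) (.node (.node (.node (.leaf 3034) (.leaf 32203)) (.node (.leaf 15099) (.leaf 0))) (.node (.node (.leaf 8706) (.leaf 0)) (.node (.leaf 22480) (.leaf 0))))) (.node (.node (.node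 (.node (.leaf 1714) (.leaf 29375)) (.node (.leaf 13412) (.leaf 0))) (.node (.node (.leaf 7245) (.leaf 0)) (.node (.leaf 20477) (.leaf 0)))) (.node (.node (.node (.leaf 4420) (.leaf 35904)) (.node (.leaf 16817) (.leaf 0))) (.node (.node (.leaf 10217) (.leaf 0)) (.node (.leaf 24529) (.leaf 0)))))) (.node (.node (.node (.node (.node (.leaf 1057) (.leaf 28036)) (.node (.leaf 12596) (.leaf 0))) (.node (.node (.leaf 6528) (.leaf 0)) (.node (.leaf 19524) (.leaf 0)))) (.node (.node (.node (.leaf 3727) (.leaf 33910)) (.node (.leaf 15950) (.leaf 0))) (.node (.node (.leaf 9493) (.leaf 0)) (.node (.leaf 23483) (.leaf 0))))) (.node (.node (.node (.node (.leaf 2384) (.leaf 30694)) (.node (.leaf 14230) (.leaf 0))) (.node (.node (.leaf 7969) (.leaf 0)) (.node (.leaf 21448) (.leaf 0)))) (.node (.node (.node (.leaf 5104) (.leaf 38423)) (.node (.leaf 17704) (.leaf 0))) (.node (.node (.leaf 10990) (.leaf 0)) (.node (.leaf 25658) (.leaf 0)))))))) (.node (.node (.node (.node (.node (.node (.node (.leaf 240) (.leaf 26538)) (.node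 (.leaf 11567) (.leaf 0))) (.node (.node (.leaf 5637) (.leaf 0)) (.node (.leaf 18390) (.leaf 0)))) (.node (.node (.node (.leaf 2869) (.leaf 31819)) (.node (.leaf 14884) (.leaf 0))) (.node (.node (.leaf 8524) (.leaf 0)) (.node (.leaf 22190) (.leaf 0))))) (.node (.node (.node (.node (.leaf 1546) (.leaf 29020)) (.node (.leaf 13210) (.leaf 0))) (.node (.node (.leaf 7072) (.leaf 0)) (.node (.leaf 20225) (.leaf 0)))) (.node (.node (.node (.leaf 4246) (.leaf 35373)) (.node (.leaf 16578) (.leaf 0))) (.node (.node (.leaf 10026) (.leaf 0)) (.node (.leaf 24256) (.leaf 0)))))) (.node (.node (.node (.node (.node (.leaf 891) (.leaf 27727)) (.node (.leaf 12394) (.leaf 0))) (.node (.node (.leaf 6345) (.leaf 0)) (.node (.leaf 19291) (.leaf 0)))) (.node (.node (.node (.leaf 3554) (.leaf 33444)) (.node (.leaf 15719) (.leaf 0))) (.node (.node (.leaf 9296) (.leaf 0)) (.node (.leaf 23212) (.leaf 0))))) (.node (.node (.node (.node (.leaf 2219) (.leaf 30352)) (.node (.leaf 14030) (.leaf 0))) (.node (.node (.leaf 7790) (.leaf 0))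 (.node (.leaf 21200) (.leaf 0)))) (.node (.node (.node (.leaf 4934) (.leaf 37692)) (.node (.leaf 17492) (.leaf 0))) (.node (.node (.leaf 10804) (.leaf 0)) (.node (.leaf 25361) (.leaf 0))))))) (.node (.node (.node (.node (.node (.node (.leaf 564) (.leaf 27150)) (.node (.leaf 11992) (.leaf 0))) (.node (.node (.leaf 5981) (.leaf 0)) (.node (.leaf 18867) (.leaf 0)))) (.node (.node (.node (.leaf 3201) (.leaf 32602)) (.node (.leaf 15304) (.leaf 0))) (.node (.node (.leaf 8906) (.leaf 0)) (.node (.leaf 22707) (.leaf 0))))) (.node (.node (.node (.node (.leaf 1880) (.leaf 29671)) (.node (.leaf 13625) (.leaf 0))) (.node (.node (.leaf 7426) (.leaf 0)) (.node (.leaf 20722) (.leaf 0)))) (.node (.node (.node (.leaf 4590) (.leaf 36488)) (.node (.leaf 17029) (.leaf 0))) (.node (.node (.leaf 10406) (.leaf 0)) (.node (.leaf 24808) (.leaf 0)))))) (.node (.node (.node (.node (.node (.leaf 1216) (.leaf 28334)) (.node (.leaf 12799) (.leaf 0))) (.node (.node (.leaf 6705) (.leaf 0)) (.node (.leaf 19734) (.leaf 0)))) (.node (.node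 (.node (.leaf 3894) (.leaf 34382)) (.node (.leaf 16170) (.leaf 0))) (.node (.node (.leaf 9662) (.leaf 0)) (.node (.leaf 23739) (.leaf 0))))) (.node (.node (.node (.node (.leaf 2545) (.leaf 31046)) (.node (.leaf 14435) (.leaf 0))) (.node (.node (.leaf 8154) (.leaf 0)) (.node (.leaf 21696) (.leaf 0)))) (.node (.node (.node (.leaf 5282) (.leaf 39328)) (.node (.leaf 17940) (.leaf 0))) (.node (.node (.leaf 11182) (.leaf 0)) (.node (.leaf 25953) (.leaf 0))))))))

def pT65 : NT := .node (.node (.node (.node (.node (.node (.node (.node (.leaf 81) (.leaf 26252)) (.node (.leaf 11372) (.leaf 0))) (.node (.node (.leaf 5455) (.leaf 0)) (.node (.leaf 18148) (.leaf 0)))) (.node (.node (.node (.leaf 2709) (.leaf 31422)) (.node (.leaf 14652) (.leaf 0))) (.node (.node (.leaf 8347) (.leaf 0)) (.node (.leaf 21938) (.leaf 0))))) (.node (.node (.node (.node (.leaf 1383) (.leaf 28694)) (.node (.leaf 13003) (.leaf 0))) (.node (.node (.leaf 6892) (.leaf 0)) (.node (.leaf 19985) (.leaf 0)))) (.node (.node (.node (.leaf 4070) (.leaf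 34917)) (.node (.leaf 16382) (.leaf 0))) (.node (.node (.leaf 9845) (.leaf 0)) (.node (.leaf 24004) (.leaf 0)))))) (.node (.node (.node (.node (.node (.leaf 728) (.leaf 27461)) (.node (.leaf 12198) (.leaf 0))) (.node (.node (.leaf 6168) (.leaf 0)) (.node (.leaf 19080) (.leaf 0)))) (.node (.node (.node (.leaf 3378) (.leaf 33006)) (.node (.leaf 15510) (.leaf 0))) (.node (.node (.leaf 9103) (.leaf 0)) (.node (.leaf 22968) (.leaf 0))))) (.node (.node (.node (.node (.leaf 2051) (.leaf 30001)) (.node (.leaf 13826) (.leaf 0))) (.node (.node (.leaf 7602) (.leaf 0)) (.node (.leaf 20964) (.leaf 0)))) (.node (.node (.node (.leaf 4766) (.leaf 37120)) (.node (.leaf 17262) (.leaf 0))) (.node (.node (.leaf 10598) (.leaf 0)) (.node (.leaf 25111) (.leaf 0))))))) (.node (.node (.node (.node (.node (.node (.leaf 402) (.leaf 26846)) (.node (.leaf 11788) (.leaf 0))) (.node (.node (.leaf 5805) (.leaf 0)) (.node (.leaf 18636) (.leaf 0)))) (.node (.node (.node (.leaf 3037) (.leaf 32205)) (.node (.leaf 15100) (.leaf 0))) (.node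 (.node (.leaf 8707) (.leaf 0)) (.node (.leaf 22481) (.leaf 0))))) (.node (.node (.node (.node (.leaf 1715) (.leaf 29382)) (.node (.leaf 13413) (.leaf 0))) (.node (.node (.leaf 7246) (.leaf 0)) (.node (.leaf 20478) (.leaf 0)))) (.node (.node (.node (.leaf 4422) (.leaf 35906)) (.node (.leaf 16818) (.leaf 0))) (.node (.node (.leaf 10222) (.leaf 0)) (.node (.leaf 24530) (.leaf 0)))))) (.node (.node (.node (.node (.node (.leaf 1058) (.leaf 28039)) (.node (.leaf 12602) (.leaf 0))) (.node (.node (.leaf 6530) (.leaf 0)) (.node (.leaf 19525) (.leaf 0)))) (.node (.node (.node (.leaf 3728) (.leaf 33912)) (.node (.leaf 15951) (.leaf 0))) (.node (.node (.leaf 9494) (.leaf 0)) (.node (.leaf 23484) (.leaf 0))))) (.node (.node (.node (.node (.leaf 2385) (.leaf 30697)) (.node (.leaf 14234) (.leaf 0))) (.node (.node (.leaf 7972) (.leaf 0)) (.node (.leaf 21449) (.leaf 0)))) (.node (.node (.node (.leaf 5106) (.leaf 38426)) (.node (.leaf 17706) (.leaf 0))) (.node (.node (.leaf 10991) (.leaf 0)) (.node (.leaf 25659) (.leaf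 0)))))))) (.node (.node (.node (.node (.node (.node (.node (.leaf 242) (.leaf 26539)) (.node (.leaf 11568) (.leaf 0))) (.node (.node (.leaf 5638) (.leaf 0)) (.node (.leaf 18391) (.leaf 0)))) (.node (.node (.node (.leaf 2870) (.leaf 31820)) (.node (.leaf 14885) (.leaf 0))) (.node (.node (.leaf 8526) (.leaf 0)) (.node (.leaf 22193) (.leaf 0))))) (.node (.node (.node (.node (.leaf 1548) (.leaf 29022)) (.node (.leaf 13212) (.leaf 0))) (.node (.node (.leaf 7073) (.leaf 0)) (.node (.leaf 20226) (.leaf 0)))) (.node (.node (.node (.leaf 4248) (.leaf 35375)) (.node (.leaf 16581) (.leaf 0))) (.node (.node (.leaf 10029) (.leaf 0)) (.node (.leaf 24257) (.leaf 0)))))) (.node (.node (.node (.node (.node (.leaf 892) (.leaf 27728)) (.node (.leaf 12396) (.leaf 0))) (.node (.node (.leaf 6346) (.leaf 0)) (.node (.leaf 19292) (.leaf 0)))) (.node (.node (.node (.leaf 3555) (.leaf 33446)) (.node (.leaf 15720) (.leaf 0))) (.node (.node (.leaf 9297) (.leaf 0)) (.node (.leaf 23213) (.leaf 0))))) (.node (.node (.node (.node (.leaf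 2220) (.leaf 30353)) (.node (.leaf 14032) (.leaf 0))) (.node (.node (.leaf 7792) (.leaf 0)) (.node (.leaf 21202) (.leaf 0)))) (.node (.node (.node (.leaf 4937) (.leaf 37704)) (.node (.leaf 17494) (.leaf 0))) (.node (.node (.leaf 10805) (.leaf 0)) (.node (.leaf 25362) (.leaf 0))))))) (.node (.node (.node (.node (.node (.node (.leaf 565) (.leaf 27154)) (.node (.leaf 11993) (.leaf 0))) (.node (.node (.leaf 5982) (.leaf 0)) (.node (.leaf 18868) (.leaf 0)))) (.node (.node (.node (.leaf 3202) (.leaf 32604)) (.node (.leaf 15305) (.leaf 0))) (.node (.node (.leaf 8907) (.leaf 0)) (.node (.leaf 22708) (.leaf 0))))) (.node (.node (.node (.node (.leaf 1882) (.leaf 29673)) (.node (.leaf 13626) (.leaf 0))) (.node (.node (.leaf 7427) (.leaf 0)) (.node (.leaf 20724) (.leaf 0)))) (.node (.node (.node (.leaf 4592) (.leaf 36496)) (.node (.leaf 17030) (.leaf 0))) (.node (.node (.leaf 10408) (.leaf 0)) (.node (.leaf 24810) (.leaf 0)))))) (.node (.node (.node (.node (.node (.leaf 1218) (.leaf 28338)) (.node (.leaf 12800) (.leaf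 0))) (.node (.node (.leaf 6706) (.leaf 0)) (.node (.leaf 19736) (.leaf 0)))) (.node (.node (.node (.leaf 3895) (.leaf 34384)) (.node (.leaf 16171) (.leaf 0))) (.node (.node (.leaf 9664) (.leaf 0)) (.node (.leaf 23741) (.leaf 0))))) (.node (.node (.node (.node (.leaf 2546) (.leaf 31047)) (.node (.leaf 14438) (.leaf 0))) (.node (.node (.leaf 8155) (.leaf 0)) (.node (.leaf 21698) (.leaf 0)))) (.node (.node (.node (.leaf 5283) (.leaf 39332)) (.node (.leaf 17942) (.leaf 0))) (.node (.node (.leaf 11183) (.leaf 0)) (.node (.leaf 25960) (.leaf 0))))))))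

def pT66 : NT := .node (.node (.node (.node (.node (.node (.node (.node (.leaf 82) (.leaf 26255)) (.node (.leaf 11373) (.leaf 0))) (.node (.node (.leaf 5456) (.leaf 0)) (.node (.leaf 18150) (.leaf 0)))) (.node (.node (.node (.leaf 2710) (.leaf 31433)) (.node (.leaf 14653) (.leaf 0))) (.node (.node (.leaf 8348) (.leaf 0)) (.node (.leaf 21940) (.leaf 0))))) (.node (.node (.node (.node (.leaf 1384) (.leaf 28698)) (.node (.leaf 13004) (.leaf 0))) (.node (.node (.leaf 6893) (.leaf 0)) (.node (.leaf 19986) (.leaf 0)))) (.node (.node (.node (.leaf 4072) (.leaf 34918)) (.node (.leaf 16384) (.leaf 0))) (.node (.node (.leaf 9846) (.leaf 0)) (.node (.leaf 24006) (.leaf 0)))))) (.node (.node (.node (.node (.node (.leaf 729) (.leaf 27464)) (.node (.leaf 12200) (.leaf 0))) (.node (.node (.leaf 6169) (.leaf 0)) (.node (.leaf 19083) (.leaf 0)))) (.node (.node (.node (.leaf 3380) (.leaf 33010)) (.node (.leaf 15512) (.leaf 0))) (.node (.node (.leaf 9104) (.leaf 0)) (.node (.leaf 22970) (.leaf 0))))) (.node (.node (.node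 (.node (.leaf 2052) (.leaf 30004)) (.node (.leaf 13828) (.leaf 0))) (.node (.node (.leaf 7603) (.leaf 0)) (.node (.leaf 20966) (.leaf 0)))) (.node (.node (.node (.leaf 4768) (.leaf 37121)) (.node (.leaf 17264) (.leaf 0))) (.node (.node (.leaf 10600) (.leaf 0)) (.node (.leaf 25114) (.leaf 0))))))) (.node (.node (.node (.node (.node (.node (.leaf 403) (.leaf 26847)) (.node (.leaf 11792) (.leaf 0))) (.node (.node (.leaf 5806) (.leaf 0)) (.node (.leaf 18637) (.leaf 0)))) (.node (.node (.node (.leaf 3038) (.leaf 32209)) (.node (.leaf 15101) (.leaf 0))) (.node (.node (.leaf 8710) (.leaf 0)) (.node (.leaf 22483) (.leaf 0))))) (.node (.node (.node (.node (.leaf 1716) (.leaf 29388)) (.node (.leaf 13417) (.leaf 0))) (.node (.node (.leaf 7247) (.leaf 0)) (.node (.leaf 20479) (.leaf 0)))) (.node (.node (.node (.leaf 4423) (.leaf 35911)) (.node (.leaf 16821) (.leaf 0))) (.node (.node (.leaf 10223) (.leaf 0)) (.node (.leaf 24532) (.leaf 0)))))) (.node (.node (.node (.node (.node (.leaf 1059) (.leaf 28040)) (.node (.leaf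 12603) (.leaf 0))) (.node (.node (.leaf 6531) (.leaf 0)) (.node (.leaf 19526) (.leaf 0)))) (.node (.node (.node (.leaf 3730) (.leaf 33917)) (.node (.leaf 15952) (.leaf 0))) (.node (.node (.leaf 9495) (.leaf 0)) (.node (.leaf 23486) (.leaf 0))))) (.node (.node (.node (.node (.leaf 2386) (.leaf 30700)) (.node (.leaf 14236) (.leaf 0))) (.node (.node (.leaf 7974) (.leaf 0)) (.node (.leaf 21450) (.leaf 0)))) (.node (.node (.node (.leaf 5108) (.leaf 38433)) (.node (.leaf 17708) (.leaf 0))) (.node (.node (.leaf 10992) (.leaf 0)) (.node (.leaf 25660) (.leaf 0)))))))) (.node (.node (.node (.node (.node (.node (.node (.leaf 243) (.leaf 26540)) (.node (.leaf 11572) (.leaf 0))) (.node (.node (.leaf 5639) (.leaf 0)) (.node (.leaf 18392) (.leaf 0)))) (.node (.node (.node (.leaf 2872) (.leaf 31823)) (.node (.leaf 14886) (.leaf 0))) (.node (.node (.leaf 8527) (.leaf 0)) (.node (.leaf 22197) (.leaf 0))))) (.node (.node (.node (.node (.leaf 1549) (.leaf 29024)) (.node (.leaf 13214) (.leaf 0))) (.node (.node (.leaf 7074)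 (.leaf 0)) (.node (.leaf 20228) (.leaf 0)))) (.node (.node (.node (.leaf 4249) (.leaf 35377)) (.node (.leaf 16582) (.leaf 0))) (.node (.node (.leaf 10030) (.leaf 0)) (.node (.leaf 24258) (.leaf 0)))))) (.node (.node (.node (.node (.node (.leaf 893) (.leaf 27729)) (.node (.leaf 12397) (.leaf 0))) (.node (.node (.leaf 6347) (.leaf 0)) (.node (.leaf 19294) (.leaf 0)))) (.node (.node (.node (.leaf 3556) (.leaf 33448)) (.node (.leaf 15724) (.leaf 0))) (.node (.node (.leaf 9298) (.leaf 0)) (.node (.leaf 23214) (.leaf 0))))) (.node (.node (.node (.node (.leaf 2221) (.leaf 30355)) (.node (.leaf 14033) (.leaf 0))) (.node (.node (.leaf 7793) (.leaf 0)) (.node (.leaf 21203) (.leaf 0)))) (.node (.node (.node (.leaf 4938) (.leaf 37709)) (.node (.leaf 17495) (.leaf 0))) (.node (.node (.leaf 10806) (.leaf 0)) (.node (.leaf 25364) (.leaf 0))))))) (.node (.node (.node (.node (.node (.node (.leaf 566) (.leaf 27155)) (.node (.leaf 11996) (.leaf 0))) (.node (.node (.leaf 5984) (.leaf 0)) (.node (.leaf 18870) (.leaf 0))))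 (.node (.node (.node (.leaf 3204) (.leaf 32605)) (.node (.leaf 15306) (.leaf 0))) (.node (.node (.leaf 8908) (.leaf 0)) (.node (.leaf 22709) (.leaf 0))))) (.node (.node (.node (.node (.leaf 1883) (.leaf 29676)) (.node (.leaf 13629) (.leaf 0))) (.node (.node (.leaf 7428) (.leaf 0)) (.node (.leaf 20728) (.leaf 0)))) (.node (.node (.node (.leaf 4593) (.leaf 36520)) (.node (.leaf 17032) (.leaf 0))) (.node (.node (.leaf 10409) (.leaf 0)) (.node (.leaf 24812) (.leaf 0)))))) (.node (.node (.node (.node (.node (.leaf 1219) (.leaf 28339)) (.node (.leaf 12802) (.leaf 0))) (.node (.node (.leaf 6708) (.leaf 0)) (.node (.leaf 19738) (.leaf 0)))) (.node (.node (.node (.leaf 3896) (.leaf 34386)) (.node (.leaf 16172) (.leaf 0))) (.node (.node (.leaf 9665) (.leaf 0)) (.node (.leaf 23744) (.leaf 0))))) (.node (.node (.node (.node (.leaf 2548) (.leaf 31053)) (.node (.leaf 14439) (.leaf 0))) (.node (.node (.leaf 8159) (.leaf 0)) (.node (.leaf 21699) (.leaf 0)))) (.node (.node (.node (.leaf 5284) (.leaf 39368)) (.node (.leaf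 17943) (.leaf 0))) (.node (.node (.leaf 11184) (.leaf 0)) (.node (.leaf 25966) (.leaf 0))))))))

def pT67 : NT := .node (.node (.node (.node (.node (.node (.node (.node (.leaf 84) (.leaf 26260)) (.node (.leaf 11374) (.leaf 0))) (.node (.node (.leaf 5457) (.leaf 0)) (.node (.leaf 18160) (.leaf 0)))) (.node (.node (.node (.leaf 2711) (.leaf 31434)) (.node (.leaf 14654) (.leaf 0))) (.node (.node (.leaf 8350) (.leaf 0)) (.node (.leaf 21941) (.leaf 0))))) (.node (.node (.node (.node (.leaf 1386) (.leaf 28702)) (.node (.leaf 13005) (.leaf 0))) (.node (.node (.leaf 6894) (.leaf 0)) (.node (.leaf 19989) (.leaf 0)))) (.node (.node (.node (.leaf 4073) (.leaf 34926)) (.node (.leaf 16385) (.leaf 0))) (.node (.node (.leaf 9848) (.leaf 0)) (.node (.leaf 24009) (.leaf 0)))))) (.node (.node (.node (.node (.node (.leaf 730) (.leaf 27465)) (.node (.leaf 12202) (.leaf 0))) (.node (.node (.leaf 6170) (.leaf 0)) (.node (.leaf 19084) (.leaf 0)))) (.node (.node (.node (.leaf 3381) (.leaf 33011)) (.node (.leaf 15513) (.leaf 0)))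 (.node (.node (.leaf 9106) (.leaf 0)) (.node (.leaf 22973) (.leaf 0))))) (.node (.node (.node (.node (.leaf 2054) (.leaf 30005)) (.node (.leaf 13829) (.leaf 0))) (.node (.node (.leaf 7604) (.leaf 0)) (.node (.leaf 20967) (.leaf 0)))) (.node (.node (.node (.leaf 4769) (.leaf 37131)) (.node (.leaf 17265) (.leaf 0))) (.node (.node (.leaf 10601) (.leaf 0)) (.node (.leaf 25118) (.leaf 0))))))) (.node (.node (.node (.node (.node (.node (.leaf 404) (.leaf 26852)) (.node (.leaf 11793) (.leaf 0))) (.node (.node (.leaf 5808) (.leaf 0)) (.node (.leaf 18638) (.leaf 0)))) (.node (.node (.node (.leaf 3039) (.leaf 32214)) (.node (.leaf 15102) (.leaf 0))) (.node (.node (.leaf 8711) (.leaf 0)) (.node (.leaf 22486) (.leaf 0))))) (.node (.node (.node (.node (.leaf 1718) (.leaf 29390)) (.node (.leaf 13418) (.leaf 0))) (.node (.node (.leaf 7248) (.leaf 0)) (.node (.leaf 20481) (.leaf 0)))) (.node (.node (.node (.leaf 4424) (.leaf 35928)) (.node (.leaf 16822) (.leaf 0))) (.node (.node (.leaf 10224) (.leaf 0)) (.node (.leaf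 24533) (.leaf 0)))))) (.node (.node (.node (.node (.node (.leaf 1060) (.leaf 28045)) (.node (.leaf 12606) (.leaf 0))) (.node (.node (.leaf 6532) (.leaf 0)) (.node (.leaf 19528) (.leaf 0)))) (.node (.node (.node (.leaf 3731) (.leaf 33929)) (.node (.leaf 15954) (.leaf 0))) (.node (.node (.leaf 9496) (.leaf 0)) (.node (.leaf 23487) (.leaf 0))))) (.node (.node (.node (.node (.leaf 2387) (.leaf 30709)) (.node (.leaf 14238) (.leaf 0))) (.node (.node (.leaf 7975) (.leaf 0)) (.node (.leaf 21451) (.leaf 0)))) (.node (.node (.node (.leaf 5111) (.leaf 38436)) (.node (.leaf 17710) (.leaf 0))) (.node (.node (.leaf 10994) (.leaf 0)) (.node (.leaf 25662) (.leaf 0)))))))) (.node (.node (.node (.node (.node (.node (.node (.leaf 244) (.leaf 26544)) (.node (.leaf 11574) (.leaf 0))) (.node (.node (.leaf 5640) (.leaf 0)) (.node (.leaf 18394) (.leaf 0)))) (.node (.node (.node (.leaf 2873) (.leaf 31826)) (.node (.leaf 14888) (.leaf 0))) (.node (.node (.leaf 8528) (.leaf 0)) (.node (.leaf 22200) (.leaf 0))))) (.node (.node (.node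 (.node (.leaf 1550) (.leaf 29026)) (.node (.leaf 13215) (.leaf 0))) (.node (.node (.leaf 7075) (.leaf 0)) (.node (.leaf 20230) (.leaf 0)))) (.node (.node (.node (.leaf 4250) (.leaf 35378)) (.node (.leaf 16584) (.leaf 0))) (.node (.node (.leaf 10031) (.leaf 0)) (.node (.leaf 24265) (.leaf 0)))))) (.node (.node (.node (.node (.node (.leaf 894) (.leaf 27731)) (.node (.leaf 12398) (.leaf 0))) (.node (.node (.leaf 6348) (.leaf 0)) (.node (.leaf 19295) (.leaf 0)))) (.node (.node (.node (.leaf 3558) (.leaf 33453)) (.node (.leaf 15725) (.leaf 0))) (.node (.node (.leaf 9300) (.leaf 0)) (.node (.leaf 23216) (.leaf 0))))) (.node (.node (.node (.node (.leaf 2222) (.leaf 30356)) (.node (.leaf 14034) (.leaf 0))) (.node (.node (.leaf 7794) (.leaf 0)) (.node (.leaf 21204) (.leaf 0)))) (.node (.node (.node (.leaf 4940) (.leaf 37711)) (.node (.leaf 17497) (.leaf 0))) (.node (.node (.leaf 10808) (.leaf 0)) (.node (.leaf 25366) (.leaf 0))))))) (.node (.node (.node (.node (.node (.node (.leaf 568) (.leaf 27156)) (.node (.leaf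 11997) (.leaf 0))) (.node (.node (.leaf 5986) (.leaf 0)) (.node (.leaf 18871) (.leaf 0)))) (.node (.node (.node (.leaf 3205) (.leaf 32608)) (.node (.leaf 15310) (.leaf 0))) (.node (.node (.leaf 8910) (.leaf 0)) (.node (.leaf 22710) (.leaf 0))))) (.node (.node (.node (.node (.leaf 1884) (.leaf 29679)) (.node (.leaf 13630) (.leaf 0))) (.node (.node (.leaf 7431) (.leaf 0)) (.node (.leaf 20732) (.leaf 0)))) (.node (.node (.node (.leaf 4594) (.leaf 36524)) (.node (.leaf 17033) (.leaf 0))) (.node (.node (.leaf 10410) (.leaf 0)) (.node (.leaf 24813) (.leaf 0)))))) (.node (.node (.node (.node (.node (.leaf 1220) (.leaf 28342)) (.node (.leaf 12803) (.leaf 0))) (.node (.node (.leaf 6709) (.leaf 0)) (.node (.leaf 19739) (.leaf 0)))) (.node (.node (.node (.leaf 3897) (.leaf 34390)) (.node (.leaf 16174) (.leaf 0))) (.node (.node (.leaf 9666) (.leaf 0)) (.node (.leaf 23746) (.leaf 0))))) (.node (.node (.node (.node (.leaf 2549) (.leaf 31054)) (.node (.leaf 14444) (.leaf 0))) (.node (.node (.leaf 8160) (.leaf 0)) (.node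 (.leaf 21703) (.leaf 0)))) (.node (.node (.node (.leaf 5286) (.leaf 39377)) (.node (.leaf 17945) (.leaf 0))) (.node (.node (.leaf 11186) (.leaf 0)) (.node (.leaf 25967) (.leaf 0))))))))

def pT68 : NT := .node (.node (.node (.node (.node (.node (.node (.node (.leaf 85) (.leaf 26262)) (.node (.leaf 11375) (.leaf 0))) (.node (.node (.leaf 5458) (.leaf 0)) (.node (.leaf 18161) (.leaf 0)))) (.node (.node (.node (.leaf 2712) (.leaf 31436)) (.node (.leaf 14655) (.leaf 0))) (.node (.node (.leaf 8351) (.leaf 0)) (.node (.leaf 21942) (.leaf 0))))) (.node (.node (.node (.node (.leaf 1387) (.leaf 28704)) (.node (.leaf 13006) (.leaf 0))) (.node (.node (.leaf 6896) (.leaf 0)) (.node (.leaf 19993) (.leaf 0)))) (.node (.node (.node (.leaf 4074) (.leaf 34934)) (.node (.leaf 16386) (.leaf 0))) (.node (.node (.leaf 9851) (.leaf 0)) (.node (.leaf 24010) (.leaf 0)))))) (.node (.node (.node (.node (.node (.leaf 731) (.leaf 27466)) (.node (.leaf 12203) (.leaf 0))) (.node (.node (.leaf 6171) (.leaf 0)) (.node (.leaf 19086) (.leaf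 0)))) (.node (.node (.node (.leaf 3382) (.leaf 33013)) (.node (.leaf 15514) (.leaf 0))) (.node (.node (.leaf 9108) (.leaf 0)) (.node (.leaf 22975) (.leaf 0))))) (.node (.node (.node (.node (.leaf 2055) (.leaf 30006)) (.node (.leaf 13831) (.leaf 0))) (.node (.node (.leaf 7606) (.leaf 0)) (.node (.leaf 20968) (.leaf 0)))) (.node (.node (.node (.leaf 4771) (.leaf 37140)) (.node (.leaf 17266) (.leaf 0))) (.node (.node (.leaf 10602) (.leaf 0)) (.node (.leaf 25119) (.leaf 0))))))) (.node (.node (.node (.node (.node (.node (.leaf 406) (.leaf 26855)) (.node (.leaf 11794) (.leaf 0))) (.node (.node (.leaf 5809) (.leaf 0)) (.node (.leaf 18640) (.leaf 0)))) (.node (.node (.node (.leaf 3040) (.leaf 32217)) (.node (.leaf 15103) (.leaf 0))) (.node (.node (.leaf 8712) (.leaf 0)) (.node (.leaf 22489) (.leaf 0))))) (.node (.node (.node (.node (.leaf 1719) (.leaf 29393)) (.node (.leaf 13419) (.leaf 0))) (.node (.node (.leaf 7250) (.leaf 0)) (.node (.leaf 20482) (.leaf 0)))) (.node (.node (.node (.leaf 4426) (.leaf 35933))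 (.node (.leaf 16824) (.leaf 0))) (.node (.node (.leaf 10226) (.leaf 0)) (.node (.leaf 24534) (.leaf 0)))))) (.node (.node (.node (.node (.node (.leaf 1062) (.leaf 28046)) (.node (.leaf 12607) (.leaf 0))) (.node (.node (.leaf 6534) (.leaf 0)) (.node (.leaf 19529) (.leaf 0)))) (.node (.node (.node (.leaf 3732) (.leaf 33930)) (.node (.leaf 15955) (.leaf 0))) (.node (.node (.leaf 9498) (.leaf 0)) (.node (.leaf 23489) (.leaf 0))))) (.node (.node (.node (.node (.leaf 2388) (.leaf 30710)) (.node (.leaf 14239) (.leaf 0))) (.node (.node (.leaf 7976) (.leaf 0)) (.node (.leaf 21452) (.leaf 0)))) (.node (.node (.node (.leaf 5112) (.leaf 38437)) (.node (.leaf 17712) (.leaf 0))) (.node (.node (.leaf 10996) (.leaf 0)) (.node (.leaf 25667) (.leaf 0)))))))) (.node (.node (.node (.node (.node (.node (.node (.leaf 246) (.leaf 26551)) (.node (.leaf 11578) (.leaf 0))) (.node (.node (.leaf 5642) (.leaf 0)) (.node (.leaf 18395) (.leaf 0)))) (.node (.node (.node (.leaf 2874) (.leaf 31827)) (.node (.leaf 14890) (.leaf 0))) (.node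 (.node (.leaf 8529) (.leaf 0)) (.node (.leaf 22201) (.leaf 0))))) (.node (.node (.node (.node (.leaf 1552) (.leaf 29027)) (.node (.leaf 13216) (.leaf 0))) (.node (.node (.leaf 7076) (.leaf 0)) (.node (.leaf 20232) (.leaf 0)))) (.node (.node (.node (.leaf 4252) (.leaf 35385)) (.node (.leaf 16585) (.leaf 0))) (.node (.node (.leaf 10032) (.leaf 0)) (.node (.leaf 24267) (.leaf 0)))))) (.node (.node (.node (.node (.node (.leaf 896) (.leaf 27733)) (.node (.leaf 12401) (.leaf 0))) (.node (.node (.leaf 6350) (.leaf 0)) (.node (.leaf 19297) (.leaf 0)))) (.node (.node (.node (.leaf 3559) (.leaf 33455)) (.node (.leaf 15726) (.leaf 0))) (.node (.node (.leaf 9302) (.leaf 0)) (.node (.leaf 23218) (.leaf 0))))) (.node (.node (.node (.node (.leaf 2224) (.leaf 30358)) (.node (.leaf 14035) (.leaf 0))) (.node (.node (.leaf 7795) (.leaf 0)) (.node (.leaf 21206) (.leaf 0)))) (.node (.node (.node (.leaf 4941) (.leaf 37718)) (.node (.leaf 17499) (.leaf 0))) (.node (.node (.leaf 10809) (.leaf 0)) (.node (.leaf 25367) (.leaf 0)))))))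 (.node (.node (.node (.node (.node (.node (.leaf 569) (.leaf 27161)) (.node (.leaf 11998) (.leaf 0))) (.node (.node (.leaf 5987) (.leaf 0)) (.node (.leaf 18872) (.leaf 0)))) (.node (.node (.node (.leaf 3206) (.leaf 32610)) (.node (.leaf 15312) (.leaf 0))) (.node (.node (.leaf 8911) (.leaf 0)) (.node (.leaf 22714) (.leaf 0))))) (.node (.node (.node (.node (.leaf 1885) (.leaf 29680)) (.node (.leaf 13634) (.leaf 0))) (.node (.node (.leaf 7432) (.leaf 0)) (.node (.leaf 20733) (.leaf 0)))) (.node (.node (.node (.leaf 4596) (.leaf 36525)) (.node (.leaf 17034) (.leaf 0))) (.node (.node (.leaf 10411) (.leaf 0)) (.node (.leaf 24815) (.leaf 0)))))) (.node (.node (.node (.node (.node (.leaf 1221) (.leaf 28345)) (.node (.leaf 12805) (.leaf 0))) (.node (.node (.leaf 6710) (.leaf 0)) (.node (.leaf 19740) (.leaf 0)))) (.node (.node (.node (.leaf 3898) (.leaf 34391)) (.node (.leaf 16175) (.leaf 0))) (.node (.node (.leaf 9667) (.leaf 0)) (.node (.leaf 23749) (.leaf 0))))) (.node (.node (.node (.node (.leaf 2550) (.leaf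 31057)) (.node (.leaf 14445) (.leaf 0))) (.node (.node (.leaf 8161) (.leaf 0)) (.node (.leaf 21704) (.leaf 0)))) (.node (.node (.node (.leaf 5287) (.leaf 39379)) (.node (.leaf 17946) (.leaf 0))) (.node (.node (.leaf 11187) (.leaf 0)) (.node (.leaf 25971) (.leaf 0))))))))

def pT69 : NT := .node (.node (.node (.node (.node (.node (.node (.node (.leaf 86) (.leaf 26263)) (.node (.leaf 11376) (.leaf 0))) (.node (.node (.leaf 5460) (.leaf 0)) (.node (.leaf 18162) (.leaf 0)))) (.node (.node (.node (.leaf 2714) (.leaf 31437)) (.node (.leaf 14656) (.leaf 0))) (.node (.node (.leaf 8352) (.leaf 0)) (.node (.leaf 21943) (.leaf 0))))) (.node (.node (.node (.node (.leaf 1388) (.leaf 28705)) (.node (.leaf 13008) (.leaf 0))) (.node (.node (.leaf 6897) (.leaf 0)) (.node (.leaf 19994) (.leaf 0)))) (.node (.node (.node (.leaf 4077) (.leaf 34937)) (.node (.leaf 16387) (.leaf 0))) (.node (.node (.leaf 9852) (.leaf 0)) (.node (.leaf 24011) (.leaf 0)))))) (.node (.node (.node (.node (.node (.leaf 732) (.leaf 27469)) (.node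 (.leaf 12204) (.leaf 0))) (.node (.node (.leaf 6172) (.leaf 0)) (.node (.leaf 19087) (.leaf 0)))) (.node (.node (.node (.leaf 3385) (.leaf 33028)) (.node (.leaf 15516) (.leaf 0))) (.node (.node (.leaf 9110) (.leaf 0)) (.node (.leaf 22976) (.leaf 0))))) (.node (.node (.node (.node (.leaf 2056) (.leaf 30010)) (.node (.leaf 13832) (.leaf 0))) (.node (.node (.leaf 7607) (.leaf 0)) (.node (.leaf 20970) (.leaf 0)))) (.node (.node (.node (.leaf 4772) (.leaf 37143)) (.node (.leaf 17268) (.leaf 0))) (.node (.node (.leaf 10604) (.leaf 0)) (.node (.leaf 25121) (.leaf 0))))))) (.node (.node (.node (.node (.node (.node (.leaf 407) (.leaf 26856)) (.node (.leaf 11796) (.leaf 0))) (.node (.node (.leaf 5810) (.leaf 0)) (.node (.leaf 18642) (.leaf 0)))) (.node (.node (.node (.leaf 3041) (.leaf 32218)) (.node (.leaf 15104) (.leaf 0))) (.node (.node (.leaf 8714) (.leaf 0)) (.node (.leaf 22490) (.leaf 0))))) (.node (.node (.node (.node (.leaf 1720) (.leaf 29394)) (.node (.leaf 13420) (.leaf 0))) (.node (.node (.leaf 7251)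 (.leaf 0)) (.node (.leaf 20483) (.leaf 0)))) (.node (.node (.node (.leaf 4427) (.leaf 35934)) (.node (.leaf 16825) (.leaf 0))) (.node (.node (.leaf 10228) (.leaf 0)) (.node (.leaf 24535) (.leaf 0)))))) (.node (.node (.node (.node (.node (.leaf 1063) (.leaf 28050)) (.node (.leaf 12608) (.leaf 0))) (.node (.node (.leaf 6535) (.leaf 0)) (.node (.leaf 19530) (.leaf 0)))) (.node (.node (.node (.leaf 3734) (.leaf 33933)) (.node (.leaf 15956) (.leaf 0))) (.node (.node (.leaf 9500) (.leaf 0)) (.node (.leaf 23492) (.leaf 0))))) (.node (.node (.node (.node (.leaf 2390) (.leaf 30717)) (.node (.leaf 14240) (.leaf 0))) (.node (.node (.leaf 7977) (.leaf 0)) (.node (.leaf 21456) (.leaf 0)))) (.node (.node (.node (.leaf 5114) (.leaf 38440)) (.node (.leaf 17714) (.leaf 0))) (.node (.node (.leaf 10997) (.leaf 0)) (.node (.leaf 25670) (.leaf 0)))))))) (.node (.node (.node (.node (.node (.node (.node (.leaf 247) (.leaf 26552)) (.node (.leaf 11579) (.leaf 0))) (.node (.node (.leaf 5644) (.leaf 0)) (.node (.leaf 18396) (.leaf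 0)))) (.node (.node (.node (.leaf 2876) (.leaf 31830)) (.node (.leaf 14891) (.leaf 0))) (.node (.node (.leaf 8530) (.leaf 0)) (.node (.leaf 22202) (.leaf 0))))) (.node (.node (.node (.node (.leaf 1554) (.leaf 29028)) (.node (.leaf 13218) (.leaf 0))) (.node (.node (.leaf 7078) (.leaf 0)) (.node (.leaf 20233) (.leaf 0)))) (.node (.node (.node (.leaf 4254) (.leaf 35399)) (.node (.leaf 16588) (.leaf 0))) (.node (.node (.leaf 10034) (.leaf 0)) (.node (.leaf 24268) (.leaf 0)))))) (.node (.node (.node (.node (.node (.leaf 897) (.leaf 27734)) (.node (.leaf 12402) (.leaf 0))) (.node (.node (.leaf 6351) (.leaf 0)) (.node (.leaf 19298) (.leaf 0)))) (.node (.node (.node (.leaf 3560) (.leaf 33456)) (.node (.leaf 15728) (.leaf 0))) (.node (.node (.leaf 9303) (.leaf 0)) (.node (.leaf 23219) (.leaf 0))))) (.node (.node (.node (.node (.leaf 2225) (.leaf 30359)) (.node (.leaf 14037) (.leaf 0))) (.node (.node (.leaf 7796) (.leaf 0)) (.node (.leaf 21207) (.leaf 0)))) (.node (.node (.node (.leaf 4944) (.leaf 37720)) (.node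 (.leaf 17501) (.leaf 0))) (.node (.node (.leaf 10810) (.leaf 0)) (.node (.leaf 25371) (.leaf 0))))))) (.node (.node (.node (.node (.node (.node (.leaf 570) (.leaf 27164)) (.node (.leaf 12000) (.leaf 0))) (.node (.node (.leaf 5988) (.leaf 0)) (.node (.leaf 18875) (.leaf 0)))) (.node (.node (.node (.leaf 3207) (.leaf 32611)) (.node (.leaf 15313) (.leaf 0))) (.node (.node (.leaf 8912) (.leaf 0)) (.node (.leaf 22715) (.leaf 0))))) (.node (.node (.node (.node (.leaf 1886) (.leaf 29681)) (.node (.leaf 13635) (.leaf 0))) (.node (.node (.leaf 7433) (.leaf 0)) (.node (.leaf 20734) (.leaf 0)))) (.node (.node (.node (.leaf 4598) (.leaf 36526)) (.node (.leaf 17036) (.leaf 0))) (.node (.node (.leaf 10412) (.leaf 0)) (.node (.leaf 24822) (.leaf 0)))))) (.node (.node (.node (.node (.node (.leaf 1224) (.leaf 28348)) (.node (.leaf 12808) (.leaf 0))) (.node (.node (.leaf 6711) (.leaf 0)) (.node (.leaf 19743) (.leaf 0)))) (.node (.node (.node (.leaf 3900) (.leaf 34399)) (.node (.leaf 16176) (.leaf 0))) (.node (.node (.leaf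 9668) (.leaf 0)) (.node (.leaf 23750) (.leaf 0))))) (.node (.node (.node (.node (.leaf 2551) (.leaf 31058)) (.node (.leaf 14446) (.leaf 0))) (.node (.node (.leaf 8162) (.leaf 0)) (.node (.leaf 21705) (.leaf 0)))) (.node (.node (.node (.leaf 5288) (.leaf 39380)) (.node (.leaf 17947) (.leaf 0))) (.node (.node (.leaf 11188) (.leaf 0)) (.node (.leaf 25972) (.leaf 0))))))))

def pT70 : NT := .node (.node (.node (.node (.node (.node (.node (.node (.leaf 88) (.leaf 26264)) (.node (.leaf 11378) (.leaf 0))) (.node (.node (.leaf 5462) (.leaf 0)) (.node (.leaf 18164) (.leaf 0)))) (.node (.node (.node (.leaf 2715) (.leaf 31438)) (.node (.leaf 14659) (.leaf 0))) (.node (.node (.leaf 8353) (.leaf 0)) (.node (.leaf 21945) (.leaf 0))))) (.node (.node (.node (.node (.leaf 1390) (.leaf 28707)) (.node (.leaf 13009) (.leaf 0))) (.node (.node (.leaf 6898) (.leaf 0)) (.node (.leaf 19996) (.leaf 0)))) (.node (.node (.node (.leaf 4078) (.leaf 34942)) (.node (.leaf 16388) (.leaf 0))) (.node (.node (.leaf 9854) (.leaf 0)) (.node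 (.leaf 24012) (.leaf 0)))))) (.node (.node (.node (.node (.node (.leaf 734) (.leaf 27470)) (.node (.leaf 12206) (.leaf 0))) (.node (.node (.leaf 6173) (.leaf 0)) (.node (.leaf 19088) (.leaf 0)))) (.node (.node (.node (.leaf 3386) (.leaf 33030)) (.node (.leaf 15518) (.leaf 0))) (.node (.node (.leaf 9111) (.leaf 0)) (.node (.leaf 22978) (.leaf 0))))) (.node (.node (.node (.node (.leaf 2057) (.leaf 30018)) (.node (.leaf 13834) (.leaf 0))) (.node (.node (.leaf 7610) (.leaf 0)) (.node (.leaf 20974) (.leaf 0)))) (.node (.node (.node (.leaf 4774) (.leaf 37144)) (.node (.leaf 17269) (.leaf 0))) (.node (.node (.leaf 10605) (.leaf 0)) (.node (.leaf 25124) (.leaf 0))))))) (.node (.node (.node (.node (.node (.node (.leaf 408) (.leaf 26858)) (.node (.leaf 11798) (.leaf 0))) (.node (.node (.leaf 5812) (.leaf 0)) (.node (.leaf 18644) (.leaf 0)))) (.node (.node (.node (.leaf 3042) (.leaf 32221)) (.node (.leaf 15106) (.leaf 0))) (.node (.node (.leaf 8716) (.leaf 0)) (.node (.leaf 22492) (.leaf 0))))) (.node (.node (.node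 (.node (.leaf 1722) (.leaf 29396)) (.node (.leaf 13421) (.leaf 0))) (.node (.node (.leaf 7252) (.leaf 0)) (.node (.leaf 20484) (.leaf 0)))) (.node (.node (.node (.leaf 4428) (.leaf 35936)) (.node (.leaf 16826) (.leaf 0))) (.node (.node (.leaf 10229) (.leaf 0)) (.node (.leaf 24536) (.leaf 0)))))) (.node (.node (.node (.node (.node (.leaf 1064) (.leaf 28052)) (.node (.leaf 12610) (.leaf 0))) (.node (.node (.leaf 6536) (.leaf 0)) (.node (.leaf 19531) (.leaf 0)))) (.node (.node (.node (.leaf 3735) (.leaf 33934)) (.node (.leaf 15959) (.leaf 0))) (.node (.node (.leaf 9501) (.leaf 0)) (.node (.leaf 23493) (.leaf 0))))) (.node (.node (.node (.node (.leaf 2391) (.leaf 30718)) (.node (.leaf 14241) (.leaf 0))) (.node (.node (.leaf 7978) (.leaf 0)) (.node (.leaf 21457) (.leaf 0)))) (.node (.node (.node (.leaf 5115) (.leaf 38444)) (.node (.leaf 17715) (.leaf 0))) (.node (.node (.leaf 10998) (.leaf 0)) (.node (.leaf 25672) (.leaf 0)))))))) (.node (.node (.node (.node (.node (.node (.node (.leaf 248) (.leaf 26554)) (.node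 (.leaf 11580) (.leaf 0))) (.node (.node (.leaf 5645) (.leaf 0)) (.node (.leaf 18398) (.leaf 0)))) (.node (.node (.node (.leaf 2877) (.leaf 31831)) (.node (.leaf 14892) (.leaf 0))) (.node (.node (.leaf 8532) (.leaf 0)) (.node (.leaf 22203) (.leaf 0))))) (.node (.node (.node (.node (.leaf 1555) (.leaf 29030)) (.node (.leaf 13219) (.leaf 0))) (.node (.node (.leaf 7079) (.leaf 0)) (.node (.leaf 20234) (.leaf 0)))) (.node (.node (.node (.leaf 4258) (.leaf 35400)) (.node (.leaf 16590) (.leaf 0))) (.node (.node (.leaf 10035) (.leaf 0)) (.node (.leaf 24269) (.leaf 0)))))) (.node (.node (.node (.node (.node (.leaf 898) (.leaf 27735)) (.node (.leaf 12407) (.leaf 0))) (.node (.node (.leaf 6354) (.leaf 0)) (.node (.leaf 19300) (.leaf 0)))) (.node (.node (.node (.leaf 3561) (.leaf 33464)) (.node (.leaf 15729) (.leaf 0))) (.node (.node (.leaf 9304) (.leaf 0)) (.node (.leaf 23220) (.leaf 0))))) (.node (.node (.node (.node (.leaf 2226) (.leaf 30362)) (.node (.leaf 14038) (.leaf 0))) (.node (.node (.leaf 7798) (.leaf 0))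 (.node (.leaf 21208) (.leaf 0)))) (.node (.node (.node (.leaf 4945) (.leaf 37724)) (.node (.leaf 17503) (.leaf 0))) (.node (.node (.leaf 10811) (.leaf 0)) (.node (.leaf 25372) (.leaf 0))))))) (.node (.node (.node (.node (.node (.node (.leaf 572) (.leaf 27167)) (.node (.leaf 12003) (.leaf 0))) (.node (.node (.leaf 5991) (.leaf 0)) (.node (.leaf 18876) (.leaf 0)))) (.node (.node (.node (.leaf 3208) (.leaf 32613)) (.node (.leaf 15314) (.leaf 0))) (.node (.node (.leaf 8914) (.leaf 0)) (.node (.leaf 22716) (.leaf 0))))) (.node (.node (.node (.node (.leaf 1888) (.leaf 29682)) (.node (.leaf 13636) (.leaf 0))) (.node (.node (.leaf 7434) (.leaf 0)) (.node (.leaf 20736) (.leaf 0)))) (.node (.node (.node (.leaf 4600) (.leaf 36531)) (.node (.leaf 17040) (.leaf 0))) (.node (.node (.leaf 10415) (.leaf 0)) (.node (.leaf 24825) (.leaf 0)))))) (.node (.node (.node (.node (.node (.leaf 1225) (.leaf 28349)) (.node (.leaf 12812) (.leaf 0))) (.node (.node (.leaf 6712) (.leaf 0)) (.node (.leaf 19744) (.leaf 0)))) (.node (.node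 (.node (.leaf 3901) (.leaf 34408)) (.node (.leaf 16178) (.leaf 0))) (.node (.node (.leaf 9670) (.leaf 0)) (.node (.leaf 23751) (.leaf 0))))) (.node (.node (.node (.node (.leaf 2552) (.leaf 31060)) (.node (.leaf 14447) (.leaf 0))) (.node (.node (.leaf 8165) (.leaf 0)) (.node (.leaf 21707) (.leaf 0)))) (.node (.node (.node (.leaf 5289) (.leaf 39388)) (.node (.leaf 17948) (.leaf 0))) (.node (.node (.leaf 11189) (.leaf 0)) (.node (.leaf 25978) (.leaf 0))))))))

def pT71 : NT := .node (.node (.node (.node (.node (.node (.node (.node (.leaf 89) (.leaf 26265)) (.node (.leaf 11379) (.leaf 0))) (.node (.node (.leaf 5463) (.leaf 0)) (.node (.leaf 18166) (.leaf 0)))) (.node (.node (.node (.leaf 2716) (.leaf 31439)) (.node (.leaf 14660) (.leaf 0))) (.node (.node (.leaf 8354) (.leaf 0)) (.node (.leaf 21946) (.leaf 0))))) (.node (.node (.node (.node (.leaf 1391) (.leaf 28713)) (.node (.leaf 13010) (.leaf 0))) (.node (.node (.leaf 6899) (.leaf 0)) (.node (.leaf 19997) (.leaf 0)))) (.node (.node (.node (.leaf 4079) (.leaf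 34943)) (.node (.leaf 16389) (.leaf 0))) (.node (.node (.leaf 9855) (.leaf 0)) (.node (.leaf 24015) (.leaf 0)))))) (.node (.node (.node (.node (.node (.leaf 735) (.leaf 27473)) (.node (.leaf 12207) (.leaf 0))) (.node (.node (.leaf 6175) (.leaf 0)) (.node (.leaf 19089) (.leaf 0)))) (.node (.node (.node (.leaf 3387) (.leaf 33031)) (.node (.leaf 15520) (.leaf 0))) (.node (.node (.leaf 9114) (.leaf 0)) (.node (.leaf 22980) (.leaf 0))))) (.node (.node (.node (.node (.leaf 2058) (.leaf 30019)) (.node (.leaf 13836) (.leaf 0))) (.node (.node (.leaf 7611) (.leaf 0)) (.node (.leaf 20975) (.leaf 0)))) (.node (.node (.node (.leaf 4775) (.leaf 37146)) (.node (.leaf 17270) (.leaf 0))) (.node (.node (.leaf 10606) (.leaf 0)) (.node (.leaf 25127) (.leaf 0))))))) (.node (.node (.node (.node (.node (.node (.leaf 410) (.leaf 26859)) (.node (.leaf 11800) (.leaf 0))) (.node (.node (.leaf 5813) (.leaf 0)) (.node (.leaf 18646) (.leaf 0)))) (.node (.node (.node (.leaf 3044) (.leaf 32223)) (.node (.leaf 15109) (.leaf 0))) (.node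 (.node (.leaf 8717) (.leaf 0)) (.node (.leaf 22494) (.leaf 0))))) (.node (.node (.node (.node (.leaf 1723) (.leaf 29397)) (.node (.leaf 13422) (.leaf 0))) (.node (.node (.leaf 7253) (.leaf 0)) (.node (.leaf 20486) (.leaf 0)))) (.node (.node (.node (.leaf 4429) (.leaf 35941)) (.node (.leaf 16828) (.leaf 0))) (.node (.node (.leaf 10232) (.leaf 0)) (.node (.leaf 24538) (.leaf 0)))))) (.node (.node (.node (.node (.node (.leaf 1065) (.leaf 28054)) (.node (.leaf 12611) (.leaf 0))) (.node (.node (.leaf 6537) (.leaf 0)) (.node (.leaf 19532) (.leaf 0)))) (.node (.node (.node (.leaf 3736) (.leaf 33936)) (.node (.leaf 15960) (.leaf 0))) (.node (.node (.leaf 9502) (.leaf 0)) (.node (.leaf 23495) (.leaf 0))))) (.node (.node (.node (.node (.leaf 2392) (.leaf 30724)) (.node (.leaf 14242) (.leaf 0))) (.node (.node (.leaf 7980) (.leaf 0)) (.node (.leaf 21458) (.leaf 0)))) (.node (.node (.node (.leaf 5116) (.leaf 38449)) (.node (.leaf 17718) (.leaf 0))) (.node (.node (.leaf 11000) (.leaf 0)) (.node (.leaf 25673) (.leaf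 0)))))))) (.node (.node (.node (.node (.node (.node (.node (.leaf 249) (.leaf 26557)) (.node (.leaf 11582) (.leaf 0))) (.node (.node (.leaf 5646) (.leaf 0)) (.node (.leaf 18400) (.leaf 0)))) (.node (.node (.node (.leaf 2878) (.leaf 31834)) (.node (.leaf 14894) (.leaf 0))) (.node (.node (.leaf 8533) (.leaf 0)) (.node (.leaf 22204) (.leaf 0))))) (.node (.node (.node (.node (.leaf 1556) (.leaf 29033)) (.node (.leaf 13220) (.leaf 0))) (.node (.node (.leaf 7080) (.leaf 0)) (.node (.leaf 20236) (.leaf 0)))) (.node (.node (.node (.leaf 4259) (.leaf 35402)) (.node (.leaf 16593) (.leaf 0))) (.node (.node (.leaf 10036) (.leaf 0)) (.node (.leaf 24274) (.leaf 0)))))) (.node (.node (.node (.node (.node (.leaf 900) (.leaf 27737)) (.node (.leaf 12408) (.leaf 0))) (.node (.node (.leaf 6356) (.leaf 0)) (.node (.leaf 19301) (.leaf 0)))) (.node (.node (.node (.leaf 3562) (.leaf 33466)) (.node (.leaf 15730) (.leaf 0))) (.node (.node (.leaf 9306) (.leaf 0)) (.node (.leaf 23221) (.leaf 0))))) (.node (.node (.node (.node (.leaf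 2227) (.leaf 30364)) (.node (.leaf 14040) (.leaf 0))) (.node (.node (.leaf 7799) (.leaf 0)) (.node (.leaf 21209) (.leaf 0)))) (.node (.node (.node (.leaf 4946) (.leaf 37726)) (.node (.leaf 17504) (.leaf 0))) (.node (.node (.leaf 10812) (.leaf 0)) (.node (.leaf 25373) (.leaf 0))))))) (.node (.node (.node (.node (.node (.node (.leaf 573) (.leaf 27176)) (.node (.leaf 12006) (.leaf 0))) (.node (.node (.leaf 5992) (.leaf 0)) (.node (.leaf 18877) (.leaf 0)))) (.node (.node (.node (.leaf 3210) (.leaf 32616)) (.node (.leaf 15315) (.leaf 0))) (.node (.node (.leaf 8915) (.leaf 0)) (.node (.leaf 22718) (.leaf 0))))) (.node (.node (.node (.node (.leaf 1889) (.leaf 29684)) (.node (.leaf 13638) (.leaf 0))) (.node (.node (.leaf 7437) (.leaf 0)) (.node (.leaf 20738) (.leaf 0)))) (.node (.node (.node (.leaf 4602) (.leaf 36536)) (.node (.leaf 17042) (.leaf 0))) (.node (.node (.leaf 10416) (.leaf 0)) (.node (.leaf 24827) (.leaf 0)))))) (.node (.node (.node (.node (.node (.leaf 1226) (.leaf 28353)) (.node (.leaf 12813) (.leaf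 0))) (.node (.node (.leaf 6713) (.leaf 0)) (.node (.leaf 19745) (.leaf 0)))) (.node (.node (.node (.leaf 3902) (.leaf 34415)) (.node (.leaf 16179) (.leaf 0))) (.node (.node (.leaf 9672) (.leaf 0)) (.node (.leaf 23754) (.leaf 0))))) (.node (.node (.node (.node (.leaf 2553) (.leaf 31061)) (.node (.leaf 14448) (.leaf 0))) (.node (.node (.leaf 8166) (.leaf 0)) (.node (.leaf 21708) (.leaf 0)))) (.node (.node (.node (.leaf 5290) (.leaf 39408)) (.node (.leaf 17950) (.leaf 0))) (.node (.node (.leaf 11190) (.leaf 0)) (.node (.leaf 25981) (.leaf 0))))))))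

def pT72 : NT := .node (.node (.node (.node (.node (.node (.node (.node (.leaf 90) (.leaf 26267)) (.node (.leaf 11380) (.leaf 0))) (.node (.node (.leaf 5464) (.leaf 0)) (.node (.leaf 18170) (.leaf 0)))) (.node (.node (.node (.leaf 2718) (.leaf 31446)) (.node (.leaf 14661) (.leaf 0))) (.node (.node (.leaf 8356) (.leaf 0)) (.node (.leaf 21948) (.leaf 0))))) (.node (.node (.node (.node (.leaf 1392) (.leaf 28714)) (.node (.leaf 13014) (.leaf 0))) (.node (.node (.leaf 6900) (.leaf 0)) (.node (.leaf 19998) (.leaf 0)))) (.node (.node (.node (.leaf 4083) (.leaf 34944)) (.node (.leaf 16392) (.leaf 0))) (.node (.node (.leaf 9856) (.leaf 0)) (.node (.leaf 24016) (.leaf 0)))))) (.node (.node (.node (.node (.node (.leaf 736) (.leaf 27475)) (.node (.leaf 12209) (.leaf 0))) (.node (.node (.leaf 6176) (.leaf 0)) (.node (.leaf 19090) (.leaf 0)))) (.node (.node (.node (.leaf 3388) (.leaf 33034)) (.node (.leaf 15522) (.leaf 0))) (.node (.node (.leaf 9115) (.leaf 0)) (.node (.leaf 22982) (.leaf 0))))) (.node (.node (.node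 (.node (.leaf 2060) (.leaf 30020)) (.node (.leaf 13842) (.leaf 0))) (.node (.node (.leaf 7612) (.leaf 0)) (.node (.leaf 20976) (.leaf 0)))) (.node (.node (.node (.leaf 4776) (.leaf 37149)) (.node (.leaf 17271) (.leaf 0))) (.node (.node (.leaf 10608) (.leaf 0)) (.node (.leaf 25128) (.leaf 0))))))) (.node (.node (.node (.node (.node (.node (.leaf 411) (.leaf 26865)) (.node (.leaf 11801) (.leaf 0))) (.node (.node (.leaf 5814) (.leaf 0)) (.node (.leaf 18648) (.leaf 0)))) (.node (.node (.node (.leaf 3045) (.leaf 32225)) (.node (.leaf 15110) (.leaf 0))) (.node (.node (.leaf 8718) (.leaf 0)) (.node (.leaf 22500) (.leaf 0))))) (.node (.node (.node (.node (.leaf 1724) (.leaf 29398)) (.node (.leaf 13424) (.leaf 0))) (.node (.node (.leaf 7254) (.leaf 0)) (.node (.leaf 20488) (.leaf 0)))) (.node (.node (.node (.leaf 4430) (.leaf 35944)) (.node (.leaf 16829) (.leaf 0))) (.node (.node (.leaf 10233) (.leaf 0)) (.node (.leaf 24539) (.leaf 0)))))) (.node (.node (.node (.node (.node (.leaf 1066) (.leaf 28055)) (.node (.leaf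 12612) (.leaf 0))) (.node (.node (.leaf 6538) (.leaf 0)) (.node (.leaf 19536) (.leaf 0)))) (.node (.node (.node (.leaf 3738) (.leaf 33939)) (.node (.leaf 15961) (.leaf 0))) (.node (.node (.leaf 9504) (.leaf 0)) (.node (.leaf 23496) (.leaf 0))))) (.node (.node (.node (.node (.leaf 2393) (.leaf 30726)) (.node (.leaf 14244) (.leaf 0))) (.node (.node (.leaf 7981) (.leaf 0)) (.node (.leaf 21459) (.leaf 0)))) (.node (.node (.node (.leaf 5118) (.leaf 38457)) (.node (.leaf 17721) (.leaf 0))) (.node (.node (.leaf 11001) (.leaf 0)) (.node (.leaf 25674) (.leaf 0)))))))) (.node (.node (.node (.node (.node (.node (.node (.leaf 250) (.leaf 26559)) (.node (.leaf 11583) (.leaf 0))) (.node (.node (.leaf 5647) (.leaf 0)) (.node (.leaf 18403) (.leaf 0)))) (.node (.node (.node (.leaf 2879) (.leaf 31836)) (.node (.leaf 14896) (.leaf 0))) (.node (.node (.leaf 8534) (.leaf 0)) (.node (.leaf 22207) (.leaf 0))))) (.node (.node (.node (.node (.leaf 1558) (.leaf 29034)) (.node (.leaf 13222) (.leaf 0))) (.node (.node (.leaf 7081)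 (.leaf 0)) (.node (.leaf 20238) (.leaf 0)))) (.node (.node (.node (.leaf 4260) (.leaf 35412)) (.node (.leaf 16595) (.leaf 0))) (.node (.node (.leaf 10038) (.leaf 0)) (.node (.leaf 24277) (.leaf 0)))))) (.node (.node (.node (.node (.node (.leaf 901) (.leaf 27738)) (.node (.leaf 12410) (.leaf 0))) (.node (.node (.leaf 6357) (.leaf 0)) (.node (.leaf 19302) (.leaf 0)))) (.node (.node (.node (.leaf 3565) (.leaf 33469)) (.node (.leaf 15732) (.leaf 0))) (.node (.node (.leaf 9309) (.leaf 0)) (.node (.leaf 23225) (.leaf 0))))) (.node (.node (.node (.node (.leaf 2228) (.leaf 30367)) (.node (.leaf 14042) (.leaf 0))) (.node (.node (.leaf 7802) (.leaf 0)) (.node (.leaf 21212) (.leaf 0)))) (.node (.node (.node (.leaf 4948) (.leaf 37733)) (.node (.leaf 17507) (.leaf 0))) (.node (.node (.leaf 10814) (.leaf 0)) (.node (.leaf 25374) (.leaf 0))))))) (.node (.node (.node (.node (.node (.node (.leaf 574) (.leaf 27178)) (.node (.leaf 12007) (.leaf 0))) (.node (.node (.leaf 5993) (.leaf 0)) (.node (.leaf 18881) (.leaf 0))))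 (.node (.node (.node (.leaf 3211) (.leaf 32619)) (.node (.leaf 15318) (.leaf 0))) (.node (.node (.leaf 8916) (.leaf 0)) (.node (.leaf 22720) (.leaf 0))))) (.node (.node (.node (.node (.leaf 1890) (.leaf 29688)) (.node (.leaf 13639) (.leaf 0))) (.node (.node (.leaf 7438) (.leaf 0)) (.node (.leaf 20742) (.leaf 0)))) (.node (.node (.node (.leaf 4603) (.leaf 36537)) (.node (.leaf 17043) (.leaf 0))) (.node (.node (.leaf 10418) (.leaf 0)) (.node (.leaf 24830) (.leaf 0)))))) (.node (.node (.node (.node (.node (.leaf 1227) (.leaf 28357)) (.node (.leaf 12814) (.leaf 0))) (.node (.node (.leaf 6714) (.leaf 0)) (.node (.leaf 19747) (.leaf 0)))) (.node (.node (.node (.leaf 3904) (.leaf 34417)) (.node (.leaf 16180) (.leaf 0))) (.node (.node (.leaf 9674) (.leaf 0)) (.node (.leaf 23755) (.leaf 0))))) (.node (.node (.node (.node (.leaf 2554) (.leaf 31066)) (.node (.leaf 14450) (.leaf 0))) (.node (.node (.leaf 8168) (.leaf 0)) (.node (.leaf 21710) (.leaf 0)))) (.node (.node (.node (.leaf 5292) (.leaf 39414)) (.node (.leaf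 17951) (.leaf 0))) (.node (.node (.leaf 11192) (.leaf 0)) (.node (.leaf 25982) (.leaf 0))))))))

def pT73 : NT := .node (.node (.node (.node (.node (.node (.node (.node (.leaf 91) (.leaf 26272)) (.node (.leaf 11384) (.leaf 0))) (.node (.node (.leaf 5466) (.leaf 0)) (.node (.leaf 18171) (.leaf 0)))) (.node (.node (.node (.leaf 2719) (.leaf 31449)) (.node (.leaf 14664) (.leaf 0))) (.node (.node (.leaf 8357) (.leaf 0)) (.node (.leaf 21949) (.leaf 0))))) (.node (.node (.node (.node (.leaf 1393) (.leaf 28716)) (.node (.leaf 13015) (.leaf 0))) (.node (.node (.leaf 6903) (.leaf 0)) (.node (.leaf 20002) (.leaf 0)))) (.node (.node (.node (.leaf 4084) (.leaf 34946)) (.node (.leaf 16393) (.leaf 0))) (.node (.node (.leaf 9857) (.leaf 0)) (.node (.leaf 24019) (.leaf 0)))))) (.node (.node (.node (.node (.node (.leaf 738) (.leaf 27476)) (.node (.leaf 12210) (.leaf 0))) (.node (.node (.leaf 6178) (.leaf 0)) (.node (.leaf 19091) (.leaf 0)))) (.node (.node (.node (.leaf 3391) (.leaf 33036)) (.node (.leaf 15523) (.leaf 0)))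 (.node (.node (.leaf 9116) (.leaf 0)) (.node (.leaf 22983) (.leaf 0))))) (.node (.node (.node (.node (.leaf 2061) (.leaf 30022)) (.node (.leaf 13844) (.leaf 0))) (.node (.node (.leaf 7613) (.leaf 0)) (.node (.leaf 20978) (.leaf 0)))) (.node (.node (.node (.leaf 4778) (.leaf 37154)) (.node (.leaf 17272) (.leaf 0))) (.node (.node (.leaf 10609) (.leaf 0)) (.node (.leaf 25130) (.leaf 0))))))) (.node (.node (.node (.node (.node (.node (.leaf 412) (.leaf 26867)) (.node (.leaf 11802) (.leaf 0))) (.node (.node (.leaf 5815) (.leaf 0)) (.node (.leaf 18649) (.leaf 0)))) (.node (.node (.node (.leaf 3046) (.leaf 32226)) (.node (.leaf 15112) (.leaf 0))) (.node (.node (.leaf 8719) (.leaf 0)) (.node (.leaf 22501) (.leaf 0))))) (.node (.node (.node (.node (.leaf 1725) (.leaf 29399)) (.node (.leaf 13426) (.leaf 0))) (.node (.node (.leaf 7256) (.leaf 0)) (.node (.leaf 20489) (.leaf 0)))) (.node (.node (.node (.leaf 4432) (.leaf 35945)) (.node (.leaf 16830) (.leaf 0))) (.node (.node (.leaf 10234) (.leaf 0)) (.node (.leaf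 24540) (.leaf 0)))))) (.node (.node (.node (.node (.node (.leaf 1068) (.leaf 28058)) (.node (.leaf 12615) (.leaf 0))) (.node (.node (.leaf 6539) (.leaf 0)) (.node (.leaf 19538) (.leaf 0)))) (.node (.node (.node (.leaf 3739) (.leaf 33940)) (.node (.leaf 15962) (.leaf 0))) (.node (.node (.leaf 9506) (.leaf 0)) (.node (.leaf 23498) (.leaf 0))))) (.node (.node (.node (.node (.leaf 2394) (.leaf 30729)) (.node (.leaf 14245) (.leaf 0))) (.node (.node (.leaf 7982) (.leaf 0)) (.node (.leaf 21462) (.leaf 0)))) (.node (.node (.node (.leaf 5120) (.leaf 38466)) (.node (.leaf 17722) (.leaf 0))) (.node (.node (.leaf 11004) (.leaf 0)) (.node (.leaf 25676) (.leaf 0)))))))) (.node (.node (.node (.node (.node (.node (.node (.leaf 252) (.leaf 26561)) (.node (.leaf 11586) (.leaf 0))) (.node (.node (.leaf 5648) (.leaf 0)) (.node (.leaf 18404) (.leaf 0)))) (.node (.node (.node (.leaf 2880) (.leaf 31837)) (.node (.leaf 14897) (.leaf 0))) (.node (.node (.leaf 8536) (.leaf 0)) (.node (.leaf 22208) (.leaf 0))))) (.node (.node (.node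 (.node (.leaf 1559) (.leaf 29035)) (.node (.leaf 13223) (.leaf 0))) (.node (.node (.leaf 7082) (.leaf 0)) (.node (.leaf 20240) (.leaf 0)))) (.node (.node (.node (.leaf 4261) (.leaf 35414)) (.node (.leaf 16596) (.leaf 0))) (.node (.node (.leaf 10039) (.leaf 0)) (.node (.leaf 24278) (.leaf 0)))))) (.node (.node (.node (.node (.node (.leaf 902) (.leaf 27739)) (.node (.leaf 12411) (.leaf 0))) (.node (.node (.leaf 6358) (.leaf 0)) (.node (.leaf 19308) (.leaf 0)))) (.node (.node (.node (.leaf 3566) (.leaf 33475)) (.node (.leaf 15734) (.leaf 0))) (.node (.node (.leaf 9310) (.leaf 0)) (.node (.leaf 23226) (.leaf 0))))) (.node (.node (.node (.node (.leaf 2230) (.leaf 30368)) (.node (.leaf 14043) (.leaf 0))) (.node (.node (.leaf 7803) (.leaf 0)) (.node (.leaf 21213) (.leaf 0)))) (.node (.node (.node (.leaf 4949) (.leaf 37736)) (.node (.leaf 17510) (.leaf 0))) (.node (.node (.leaf 10816) (.leaf 0)) (.node (.leaf 25378) (.leaf 0))))))) (.node (.node (.node (.node (.node (.node (.leaf 575) (.leaf 27181)) (.node (.leaf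 12008) (.leaf 0))) (.node (.node (.leaf 5994) (.leaf 0)) (.node (.leaf 18883) (.leaf 0)))) (.node (.node (.node (.leaf 3212) (.leaf 32620)) (.node (.leaf 15319) (.leaf 0))) (.node (.node (.leaf 8917) (.leaf 0)) (.node (.leaf 22724) (.leaf 0))))) (.node (.node (.node (.node (.leaf 1892) (.leaf 29690)) (.node (.leaf 13640) (.leaf 0))) (.node (.node (.leaf 7441) (.leaf 0)) (.node (.leaf 20744) (.leaf 0)))) (.node (.node (.node (.leaf 4604) (.leaf 36539)) (.node (.leaf 17046) (.leaf 0))) (.node (.node (.leaf 10420) (.leaf 0)) (.node (.leaf 24832) (.leaf 0)))))) (.node (.node (.node (.node (.node (.leaf 1228) (.leaf 28358)) (.node (.leaf 12816) (.leaf 0))) (.node (.node (.leaf 6716) (.leaf 0)) (.node (.leaf 19748) (.leaf 0)))) (.node (.node (.node (.leaf 3905) (.leaf 34437)) (.node (.leaf 16183) (.leaf 0))) (.node (.node (.leaf 9675) (.leaf 0)) (.node (.leaf 23756) (.leaf 0))))) (.node (.node (.node (.node (.leaf 2556) (.leaf 31068)) (.node (.leaf 14451) (.leaf 0))) (.node (.node (.leaf 8171) (.leaf 0)) (.node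 (.leaf 21711) (.leaf 0)))) (.node (.node (.node (.leaf 5293) (.leaf 39425)) (.node (.leaf 17952) (.leaf 0))) (.node (.node (.leaf 11193) (.leaf 0)) (.node (.leaf 25983) (.leaf 0))))))))

def pT74 : NT := .node (.node (.node (.node (.node (.node (.node (.node (.leaf 92) (.leaf 26276)) (.node (.leaf 11386) (.leaf 0))) (.node (.node (.leaf 5467) (.leaf 0)) (.node (.leaf 18172) (.leaf 0)))) (.node (.node (.node (.leaf 2720) (.leaf 31451)) (.node (.leaf 14665) (.leaf 0))) (.node (.node (.leaf 8358) (.leaf 0)) (.node (.leaf 21950) (.leaf 0))))) (.node (.node (.node (.node (.leaf 1394) (.leaf 28720)) (.node (.leaf 13016) (.leaf 0))) (.node (.node (.leaf 6904) (.leaf 0)) (.node (.leaf 20005) (.leaf 0)))) (.node (.node (.node (.leaf 4086) (.leaf 34947)) (.node (.leaf 16394) (.leaf 0))) (.node (.node (.leaf 9858) (.leaf 0)) (.node (.leaf 24020) (.leaf 0)))))) (.node (.node (.node (.node (.node (.leaf 739) (.leaf 27478)) (.node (.leaf 12213) (.leaf 0))) (.node (.node (.leaf 6180) (.leaf 0)) (.node (.leaf 19092) (.leaf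 0)))) (.node (.node (.node (.leaf 3392) (.leaf 33037)) (.node (.leaf 15524) (.leaf 0))) (.node (.node (.leaf 9119) (.leaf 0)) (.node (.leaf 22984) (.leaf 0))))) (.node (.node (.node (.node (.leaf 2062) (.leaf 30026)) (.node (.leaf 13847) (.leaf 0))) (.node (.node (.leaf 7614) (.leaf 0)) (.node (.leaf 20979) (.leaf 0)))) (.node (.node (.node (.leaf 4779) (.leaf 37164)) (.node (.leaf 17274) (.leaf 0))) (.node (.node (.leaf 10611) (.leaf 0)) (.node (.leaf 25131) (.leaf 0))))))) (.node (.node (.node (.node (.node (.node (.leaf 413) (.leaf 26868)) (.node (.leaf 11803) (.leaf 0))) (.node (.node (.leaf 5816) (.leaf 0)) (.node (.leaf 18650) (.leaf 0)))) (.node (.node (.node (.leaf 3048) (.leaf 32230)) (.node (.leaf 15114) (.leaf 0))) (.node (.node (.leaf 8720) (.leaf 0)) (.node (.leaf 22502) (.leaf 0))))) (.node (.node (.node (.node (.leaf 1726) (.leaf 29400)) (.node (.leaf 13428) (.leaf 0))) (.node (.node (.leaf 7257) (.leaf 0)) (.node (.leaf 20492) (.leaf 0)))) (.node (.node (.node (.leaf 4433) (.leaf 35953))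 (.node (.leaf 16832) (.leaf 0))) (.node (.node (.leaf 10236) (.leaf 0)) (.node (.leaf 24541) (.leaf 0)))))) (.node (.node (.node (.node (.node (.leaf 1069) (.leaf 28059)) (.node (.leaf 12618) (.leaf 0))) (.node (.node (.leaf 6540) (.leaf 0)) (.node (.leaf 19541) (.leaf 0)))) (.node (.node (.node (.leaf 3740) (.leaf 33947)) (.node (.leaf 15964) (.leaf 0))) (.node (.node (.leaf 9507) (.leaf 0)) (.node (.leaf 23499) (.leaf 0))))) (.node (.node (.node (.node (.leaf 2397) (.leaf 30731)) (.node (.leaf 14246) (.leaf 0))) (.node (.node (.leaf 7984) (.leaf 0)) (.node (.leaf 21463) (.leaf 0)))) (.node (.node (.node (.leaf 5122) (.leaf 38484)) (.node (.leaf 17724) (.leaf 0))) (.node (.node (.leaf 11005) (.leaf 0)) (.node (.leaf 25680) (.leaf 0)))))))) (.node (.node (.node (.node (.node (.node (.node (.leaf 253) (.leaf 26565)) (.node (.leaf 11589) (.leaf 0))) (.node (.node (.leaf 5650) (.leaf 0)) (.node (.leaf 18405) (.leaf 0)))) (.node (.node (.node (.leaf 2882) (.leaf 31843)) (.node (.leaf 14898) (.leaf 0))) (.node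 (.node (.leaf 8537) (.leaf 0)) (.node (.leaf 22211) (.leaf 0))))) (.node (.node (.node (.node (.leaf 1560) (.leaf 29036)) (.node (.leaf 13224) (.leaf 0))) (.node (.node (.leaf 7083) (.leaf 0)) (.node (.leaf 20241) (.leaf 0)))) (.node (.node (.node (.leaf 4262) (.leaf 35418)) (.node (.leaf 16599) (.leaf 0))) (.node (.node (.leaf 10040) (.leaf 0)) (.node (.leaf 24279) (.leaf 0)))))) (.node (.node (.node (.node (.node (.leaf 903) (.leaf 27740)) (.node (.leaf 12412) (.leaf 0))) (.node (.node (.leaf 6360) (.leaf 0)) (.node (.leaf 19309) (.leaf 0)))) (.node (.node (.node (.leaf 3568) (.leaf 33482)) (.node (.leaf 15736) (.leaf 0))) (.node (.node (.leaf 9312) (.leaf 0)) (.node (.leaf 23229) (.leaf 0))))) (.node (.node (.node (.node (.leaf 2231) (.leaf 30370)) (.node (.leaf 14044) (.leaf 0))) (.node (.node (.leaf 7804) (.leaf 0)) (.node (.leaf 21215) (.leaf 0)))) (.node (.node (.node (.leaf 4950) (.leaf 37737)) (.node (.leaf 17512) (.leaf 0))) (.node (.node (.leaf 10817) (.leaf 0)) (.node (.leaf 25381) (.leaf 0)))))))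 (.node (.node (.node (.node (.node (.node (.leaf 576) (.leaf 27182)) (.node (.leaf 12009) (.leaf 0))) (.node (.node (.leaf 5995) (.leaf 0)) (.node (.leaf 18884) (.leaf 0)))) (.node (.node (.node (.leaf 3214) (.leaf 32623)) (.node (.leaf 15320) (.leaf 0))) (.node (.node (.leaf 8919) (.leaf 0)) (.node (.leaf 22725) (.leaf 0))))) (.node (.node (.node (.node (.leaf 1893) (.leaf 29691)) (.node (.leaf 13641) (.leaf 0))) (.node (.node (.leaf 7442) (.leaf 0)) (.node (.leaf 20746) (.leaf 0)))) (.node (.node (.node (.leaf 4605) (.leaf 36545)) (.node (.leaf 17047) (.leaf 0))) (.node (.node (.leaf 10421) (.leaf 0)) (.node (.leaf 24834) (.leaf 0)))))) (.node (.node (.node (.node (.node (.leaf 1230) (.leaf 28363)) (.node (.leaf 12817) (.leaf 0))) (.node (.node (.leaf 6718) (.leaf 0)) (.node (.leaf 19750) (.leaf 0)))) (.node (.node (.node (.leaf 3906) (.leaf 34440)) (.node (.leaf 16184) (.leaf 0))) (.node (.node (.leaf 9676) (.leaf 0)) (.node (.leaf 23758) (.leaf 0))))) (.node (.node (.node (.node (.leaf 2557) (.leaf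 31070)) (.node (.leaf 14452) (.leaf 0))) (.node (.node (.leaf 8172) (.leaf 0)) (.node (.leaf 21715) (.leaf 0)))) (.node (.node (.node (.leaf 5294) (.leaf 39433)) (.node (.leaf 17954) (.leaf 0))) (.node (.node (.leaf 11196) (.leaf 0)) (.node (.leaf 25984) (.leaf 0))))))))

def pT75 : NT := .node (.node (.node (.node (.node (.node (.node (.node (.leaf 94) (.leaf 26278)) (.node (.leaf 11387) (.leaf 0))) (.node (.node (.leaf 5468) (.leaf 0)) (.node (.leaf 18174) (.leaf 0)))) (.node (.node (.node (.leaf 2721) (.leaf 31452)) (.node (.leaf 14666) (.leaf 0))) (.node (.node (.leaf 8360) (.leaf 0)) (.node (.leaf 21951) (.leaf 0))))) (.node (.node (.node (.node (.leaf 1395) (.leaf 28722)) (.node (.leaf 13018) (.leaf 0))) (.node (.node (.leaf 6906) (.leaf 0)) (.node (.leaf 20007) (.leaf 0)))) (.node (.node (.node (.leaf 4087) (.leaf 34949)) (.node (.leaf 16395) (.leaf 0))) (.node (.node (.leaf 9859) (.leaf 0)) (.node (.leaf 24021) (.leaf 0)))))) (.node (.node (.node (.node (.node (.leaf 740) (.leaf 27479)) (.node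 (.leaf 12214) (.leaf 0))) (.node (.node (.leaf 6181) (.leaf 0)) (.node (.leaf 19093) (.leaf 0)))) (.node (.node (.node (.leaf 3394) (.leaf 33040)) (.node (.leaf 15527) (.leaf 0))) (.node (.node (.leaf 9120) (.leaf 0)) (.node (.leaf 22985) (.leaf 0))))) (.node (.node (.node (.node (.leaf 2063) (.leaf 30027)) (.node (.leaf 13848) (.leaf 0))) (.node (.node (.leaf 7616) (.leaf 0)) (.node (.leaf 20981) (.leaf 0)))) (.node (.node (.node (.leaf 4782) (.leaf 37168)) (.node (.leaf 17275) (.leaf 0))) (.node (.node (.leaf 10613) (.leaf 0)) (.node (.leaf 25132) (.leaf 0))))))) (.node (.node (.node (.node (.node (.node (.leaf 414) (.leaf 26871)) (.node (.leaf 11804) (.leaf 0))) (.node (.node (.leaf 5818) (.leaf 0)) (.node (.leaf 18652) (.leaf 0)))) (.node (.node (.node (.leaf 3049) (.leaf 32231)) (.node (.leaf 15116) (.leaf 0))) (.node (.node (.leaf 8722) (.leaf 0)) (.node (.leaf 22503) (.leaf 0))))) (.node (.node (.node (.node (.leaf 1728) (.leaf 29401)) (.node (.leaf 13429) (.leaf 0))) (.node (.node (.leaf 7258)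 (.leaf 0)) (.node (.leaf 20493) (.leaf 0)))) (.node (.node (.node (.leaf 4434) (.leaf 35964)) (.node (.leaf 16834) (.leaf 0))) (.node (.node (.leaf 10237) (.leaf 0)) (.node (.leaf 24542) (.leaf 0)))))) (.node (.node (.node (.node (.node (.leaf 1070) (.leaf 28061)) (.node (.leaf 12619) (.leaf 0))) (.node (.node (.leaf 6541) (.leaf 0)) (.node (.leaf 19542) (.leaf 0)))) (.node (.node (.node (.leaf 3742) (.leaf 33948)) (.node (.leaf 15965) (.leaf 0))) (.node (.node (.leaf 9508) (.leaf 0)) (.node (.leaf 23500) (.leaf 0))))) (.node (.node (.node (.node (.leaf 2398) (.leaf 30734)) (.node (.leaf 14247) (.leaf 0))) (.node (.node (.leaf 7985) (.leaf 0)) (.node (.leaf 21464) (.leaf 0)))) (.node (.node (.node (.leaf 5123) (.leaf 38485)) (.node (.leaf 17725) (.leaf 0))) (.node (.node (.leaf 11006) (.leaf 0)) (.node (.leaf 25683) (.leaf 0)))))))) (.node (.node (.node (.node (.node (.node (.node (.leaf 254) (.leaf 26569)) (.node (.leaf 11593) (.leaf 0))) (.node (.node (.leaf 5651) (.leaf 0)) (.node (.leaf 18410) (.leaf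 0)))) (.node (.node (.node (.leaf 2883) (.leaf 31848)) (.node (.leaf 14899) (.leaf 0))) (.node (.node (.leaf 8538) (.leaf 0)) (.node (.leaf 22212) (.leaf 0))))) (.node (.node (.node (.node (.leaf 1562) (.leaf 29038)) (.node (.leaf 13225) (.leaf 0))) (.node (.node (.leaf 7084) (.leaf 0)) (.node (.leaf 20243) (.leaf 0)))) (.node (.node (.node (.leaf 4264) (.leaf 35430)) (.node (.leaf 16600) (.leaf 0))) (.node (.node (.leaf 10042) (.leaf 0)) (.node (.leaf 24282) (.leaf 0)))))) (.node (.node (.node (.node (.node (.leaf 904) (.leaf 27741)) (.node (.leaf 12415) (.leaf 0))) (.node (.node (.leaf 6362) (.leaf 0)) (.node (.leaf 19310) (.leaf 0)))) (.node (.node (.node (.leaf 3569) (.leaf 33483)) (.node (.leaf 15737) (.leaf 0))) (.node (.node (.leaf 9313) (.leaf 0)) (.node (.leaf 23234) (.leaf 0))))) (.node (.node (.node (.node (.leaf 2232) (.leaf 30372)) (.node (.leaf 14047) (.leaf 0))) (.node (.node (.leaf 7806) (.leaf 0)) (.node (.leaf 21216) (.leaf 0)))) (.node (.node (.node (.leaf 4951) (.leaf 37744)) (.node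 (.leaf 17514) (.leaf 0))) (.node (.node (.leaf 10818) (.leaf 0)) (.node (.leaf 25382) (.leaf 0))))))) (.node (.node (.node (.node (.node (.node (.leaf 578) (.leaf 27184)) (.node (.leaf 12010) (.leaf 0))) (.node (.node (.leaf 5996) (.leaf 0)) (.node (.leaf 18886) (.leaf 0)))) (.node (.node (.node (.leaf 3215) (.leaf 32636)) (.node (.leaf 15321) (.leaf 0))) (.node (.node (.leaf 8920) (.leaf 0)) (.node (.leaf 22728) (.leaf 0))))) (.node (.node (.node (.node (.leaf 1894) (.leaf 29692)) (.node (.leaf 13642) (.leaf 0))) (.node (.node (.leaf 7443) (.leaf 0)) (.node (.leaf 20747) (.leaf 0)))) (.node (.node (.node (.leaf 4606) (.leaf 36546)) (.node (.leaf 17049) (.leaf 0))) (.node (.node (.leaf 10422) (.leaf 0)) (.node (.leaf 24838) (.leaf 0)))))) (.node (.node (.node (.node (.node (.leaf 1231) (.leaf 28364)) (.node (.leaf 12818) (.leaf 0))) (.node (.node (.leaf 6719) (.leaf 0)) (.node (.leaf 19751) (.leaf 0)))) (.node (.node (.node (.leaf 3907) (.leaf 34441)) (.node (.leaf 16186) (.leaf 0))) (.node (.node (.leaf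 9677) (.leaf 0)) (.node (.leaf 23759) (.leaf 0))))) (.node (.node (.node (.node (.leaf 2558) (.leaf 31072)) (.node (.leaf 14454) (.leaf 0))) (.node (.node (.leaf 8174) (.leaf 0)) (.node (.leaf 21716) (.leaf 0)))) (.node (.node (.node (.leaf 5296) (.leaf 39447)) (.node (.leaf 17955) (.leaf 0))) (.node (.node (.leaf 11197) (.leaf 0)) (.node (.leaf 25986) (.leaf 0))))))))

def pT76 : NT := .node (.node (.node (.node (.node (.node (.node (.node (.leaf 96) (.leaf 26279)) (.node (.leaf 11388) (.leaf 0))) (.node (.node (.leaf 5471) (.leaf 0)) (.node (.leaf 18175) (.leaf 0)))) (.node (.node (.node (.leaf 2722) (.leaf 31455)) (.node (.leaf 14668) (.leaf 0))) (.node (.node (.leaf 8361) (.leaf 0)) (.node (.leaf 21954) (.leaf 0))))) (.node (.node (.node (.node (.leaf 1396) (.leaf 28724)) (.node (.leaf 13020) (.leaf 0))) (.node (.node (.leaf 6907) (.leaf 0)) (.node (.leaf 20008) (.leaf 0)))) (.node (.node (.node (.leaf 4088) (.leaf 34950)) (.node (.leaf 16396) (.leaf 0))) (.node (.node (.leaf 9860) (.leaf 0)) (.node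 (.leaf 24022) (.leaf 0)))))) (.node (.node (.node (.node (.node (.leaf 741) (.leaf 27480)) (.node (.leaf 12215) (.leaf 0))) (.node (.node (.leaf 6182) (.leaf 0)) (.node (.leaf 19096) (.leaf 0)))) (.node (.node (.node (.leaf 3396) (.leaf 33046)) (.node (.leaf 15528) (.leaf 0))) (.node (.node (.leaf 9122) (.leaf 0)) (.node (.leaf 22986) (.leaf 0))))) (.node (.node (.node (.node (.leaf 2064) (.leaf 30028)) (.node (.leaf 13850) (.leaf 0))) (.node (.node (.leaf 7617) (.leaf 0)) (.node (.leaf 20985) (.leaf 0)))) (.node (.node (.node (.leaf 4783) (.leaf 37174)) (.node (.leaf 17276) (.leaf 0))) (.node (.node (.leaf 10616) (.leaf 0)) (.node (.leaf 25134) (.leaf 0))))))) (.node (.node (.node (.node (.node (.node (.leaf 416) (.leaf 26872)) (.node (.leaf 11806) (.leaf 0))) (.node (.node (.leaf 5819) (.leaf 0)) (.node (.leaf 18660) (.leaf 0)))) (.node (.node (.node (.leaf 3050) (.leaf 32232)) (.node (.leaf 15118) (.leaf 0))) (.node (.node (.leaf 8723) (.leaf 0)) (.node (.leaf 22504) (.leaf 0))))) (.node (.node (.node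 (.node (.leaf 1729) (.leaf 29402)) (.node (.leaf 13430) (.leaf 0))) (.node (.node (.leaf 7259) (.leaf 0)) (.node (.leaf 20494) (.leaf 0)))) (.node (.node (.node (.leaf 4435) (.leaf 35973)) (.node (.leaf 16835) (.leaf 0))) (.node (.node (.leaf 10239) (.leaf 0)) (.node (.leaf 24544) (.leaf 0)))))) (.node (.node (.node (.node (.node (.leaf 1072) (.leaf 28062)) (.node (.leaf 12620) (.leaf 0))) (.node (.node (.leaf 6542) (.leaf 0)) (.node (.leaf 19544) (.leaf 0)))) (.node (.node (.node (.leaf 3743) (.leaf 33951)) (.node (.leaf 15966) (.leaf 0))) (.node (.node (.leaf 9509) (.leaf 0)) (.node (.leaf 23507) (.leaf 0))))) (.node (.node (.node (.node (.leaf 2399) (.leaf 30735)) (.node (.leaf 14248) (.leaf 0))) (.node (.node (.leaf 7986) (.leaf 0)) (.node (.leaf 21468) (.leaf 0)))) (.node (.node (.node (.leaf 5124) (.leaf 38492)) (.node (.leaf 17726) (.leaf 0))) (.node (.node (.leaf 11007) (.leaf 0)) (.node (.leaf 25684) (.leaf 0)))))))) (.node (.node (.node (.node (.node (.node (.node (.leaf 255) (.leaf 26571)) (.node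 (.leaf 11596) (.leaf 0))) (.node (.node (.leaf 5652) (.leaf 0)) (.node (.leaf 18412) (.leaf 0)))) (.node (.node (.node (.leaf 2884) (.leaf 31849)) (.node (.leaf 14900) (.leaf 0))) (.node (.node (.leaf 8540) (.leaf 0)) (.node (.leaf 22213) (.leaf 0))))) (.node (.node (.node (.node (.leaf 1564) (.leaf 29040)) (.node (.leaf 13226) (.leaf 0))) (.node (.node (.leaf 7087) (.leaf 0)) (.node (.leaf 20244) (.leaf 0)))) (.node (.node (.node (.leaf 4265) (.leaf 35431)) (.node (.leaf 16601) (.leaf 0))) (.node (.node (.leaf 10043) (.leaf 0)) (.node (.leaf 24288) (.leaf 0)))))) (.node (.node (.node (.node (.node (.leaf 906) (.leaf 27746)) (.node (.leaf 12416) (.leaf 0))) (.node (.node (.leaf 6364) (.leaf 0)) (.node (.leaf 19312) (.leaf 0)))) (.node (.node (.node (.leaf 3570) (.leaf 33484)) (.node (.leaf 15738) (.leaf 0))) (.node (.node (.leaf 9314) (.leaf 0)) (.node (.leaf 23237) (.leaf 0))))) (.node (.node (.node (.node (.leaf 2234) (.leaf 30374)) (.node (.leaf 14048) (.leaf 0))) (.node (.node (.leaf 7807) (.leaf 0))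 (.node (.leaf 21218) (.leaf 0)))) (.node (.node (.node (.leaf 4952) (.leaf 37767)) (.node (.leaf 17516) (.leaf 0))) (.node (.node (.leaf 10819) (.leaf 0)) (.node (.leaf 25383) (.leaf 0))))))) (.node (.node (.node (.node (.node (.node (.leaf 579) (.leaf 27185)) (.node (.leaf 12013) (.leaf 0))) (.node (.node (.leaf 5997) (.leaf 0)) (.node (.leaf 18887) (.leaf 0)))) (.node (.node (.node (.leaf 3216) (.leaf 32640)) (.node (.leaf 15323) (.leaf 0))) (.node (.node (.leaf 8922) (.leaf 0)) (.node (.leaf 22730) (.leaf 0))))) (.node (.node (.node (.node (.leaf 1895) (.leaf 29696)) (.node (.leaf 13644) (.leaf 0))) (.node (.node (.leaf 7444) (.leaf 0)) (.node (.leaf 20748) (.leaf 0)))) (.node (.node (.node (.leaf 4608) (.leaf 36550)) (.node (.leaf 17050) (.leaf 0))) (.node (.node (.leaf 10424) (.leaf 0)) (.node (.leaf 24840) (.leaf 0)))))) (.node (.node (.node (.node (.node (.leaf 1232) (.leaf 28367)) (.node (.leaf 12819) (.leaf 0))) (.node (.node (.leaf 6720) (.leaf 0)) (.node (.leaf 19752) (.leaf 0)))) (.node (.node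 (.node (.leaf 3910) (.leaf 34447)) (.node (.leaf 16187) (.leaf 0))) (.node (.node (.leaf 9678) (.leaf 0)) (.node (.leaf 23760) (.leaf 0))))) (.node (.node (.node (.node (.leaf 2559) (.leaf 31073)) (.node (.leaf 14455) (.leaf 0))) (.node (.node (.leaf 8175) (.leaf 0)) (.node (.leaf 21718) (.leaf 0)))) (.node (.node (.node (.leaf 5297) (.leaf 39463)) (.node (.leaf 17956) (.leaf 0))) (.node (.node (.leaf 11198) (.leaf 0)) (.node (.leaf 25987) (.leaf 0))))))))

def pT77 : NT := .node (.node (.node (.node (.node (.node (.node (.node (.leaf 97) (.leaf 26280)) (.node (.leaf 11392) (.leaf 0))) (.node (.node (.leaf 5472) (.leaf 0)) (.node (.leaf 18176) (.leaf 0)))) (.node (.node (.node (.leaf 2724) (.leaf 31457)) (.node (.leaf 14669) (.leaf 0))) (.node (.node (.leaf 8362) (.leaf 0)) (.node (.leaf 21955) (.leaf 0))))) (.node (.node (.node (.node (.leaf 1398) (.leaf 28730)) (.node (.leaf 13021) (.leaf 0))) (.node (.node (.leaf 6909) (.leaf 0)) (.node (.leaf 20009) (.leaf 0)))) (.node (.node (.node (.leaf 4089) (.leaf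 34952)) (.node (.leaf 16399) (.leaf 0))) (.node (.node (.leaf 9862) (.leaf 0)) (.node (.leaf 24024) (.leaf 0)))))) (.node (.node (.node (.node (.node (.leaf 742) (.leaf 27482)) (.node (.leaf 12216) (.leaf 0))) (.node (.node (.leaf 6184) (.leaf 0)) (.node (.leaf 19097) (.leaf 0)))) (.node (.node (.node (.leaf 3398) (.leaf 33051)) (.node (.leaf 15530) (.leaf 0))) (.node (.node (.leaf 9123) (.leaf 0)) (.node (.leaf 22988) (.leaf 0))))) (.node (.node (.node (.node (.leaf 2066) (.leaf 30030)) (.node (.leaf 13851) (.leaf 0))) (.node (.node (.leaf 7618) (.leaf 0)) (.node (.leaf 20986) (.leaf 0)))) (.node (.node (.node (.leaf 4784) (.leaf 37191)) (.node (.leaf 17278) (.leaf 0))) (.node (.node (.leaf 10617) (.leaf 0)) (.node (.leaf 25138) (.leaf 0))))))) (.node (.node (.node (.node (.node (.node (.leaf 417) (.leaf 26873)) (.node (.leaf 11808) (.leaf 0))) (.node (.node (.leaf 5820) (.leaf 0)) (.node (.leaf 18663) (.leaf 0)))) (.node (.node (.node (.leaf 3052) (.leaf 32233)) (.node (.leaf 15119) (.leaf 0))) (.node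 (.node (.leaf 8724) (.leaf 0)) (.node (.leaf 22505) (.leaf 0))))) (.node (.node (.node (.node (.leaf 1730) (.leaf 29403)) (.node (.leaf 13432) (.leaf 0))) (.node (.node (.leaf 7260) (.leaf 0)) (.node (.leaf 20498) (.leaf 0)))) (.node (.node (.node (.leaf 4436) (.leaf 35981)) (.node (.leaf 16836) (.leaf 0))) (.node (.node (.leaf 10240) (.leaf 0)) (.node (.leaf 24545) (.leaf 0)))))) (.node (.node (.node (.node (.node (.leaf 1073) (.leaf 28065)) (.node (.leaf 12622) (.leaf 0))) (.node (.node (.leaf 6544) (.leaf 0)) (.node (.leaf 19546) (.leaf 0)))) (.node (.node (.node (.leaf 3744) (.leaf 33957)) (.node (.leaf 15969) (.leaf 0))) (.node (.node (.leaf 9510) (.leaf 0)) (.node (.leaf 23508) (.leaf 0))))) (.node (.node (.node (.node (.leaf 2400) (.leaf 30736)) (.node (.leaf 14250) (.leaf 0))) (.node (.node (.leaf 7988) (.leaf 0)) (.node (.leaf 21471) (.leaf 0)))) (.node (.node (.node (.leaf 5126) (.leaf 38497)) (.node (.leaf 17727) (.leaf 0))) (.node (.node (.leaf 11008) (.leaf 0)) (.node (.leaf 25686) (.leaf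 0)))))))) (.node (.node (.node (.node (.node (.node (.node (.leaf 256) (.leaf 26574)) (.node (.leaf 11597) (.leaf 0))) (.node (.node (.leaf 5654) (.leaf 0)) (.node (.leaf 18413) (.leaf 0)))) (.node (.node (.node (.leaf 2886) (.leaf 31850)) (.node (.leaf 14901) (.leaf 0))) (.node (.node (.leaf 8541) (.leaf 0)) (.node (.leaf 22214) (.leaf 0))))) (.node (.node (.node (.node (.leaf 1565) (.leaf 29041)) (.node (.leaf 13230) (.leaf 0))) (.node (.node (.leaf 7088) (.leaf 0)) (.node (.leaf 20246) (.leaf 0)))) (.node (.node (.node (.leaf 4266) (.leaf 35433)) (.node (.leaf 16604) (.leaf 0))) (.node (.node (.leaf 10044) (.leaf 0)) (.node (.leaf 24289) (.leaf 0)))))) (.node (.node (.node (.node (.node (.leaf 907) (.leaf 27747)) (.node (.leaf 12417) (.leaf 0))) (.node (.node (.leaf 6365) (.leaf 0)) (.node (.leaf 19313) (.leaf 0)))) (.node (.node (.node (.leaf 3571) (.leaf 33490)) (.node (.leaf 15740) (.leaf 0))) (.node (.node (.leaf 9316) (.leaf 0)) (.node (.leaf 23238) (.leaf 0))))) (.node (.node (.node (.node (.leaf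 2235) (.leaf 30375)) (.node (.leaf 14049) (.leaf 0))) (.node (.node (.leaf 7808) (.leaf 0)) (.node (.leaf 21220) (.leaf 0)))) (.node (.node (.node (.leaf 4954) (.leaf 37774)) (.node (.leaf 17518) (.leaf 0))) (.node (.node (.leaf 10822) (.leaf 0)) (.node (.leaf 25386) (.leaf 0))))))) (.node (.node (.node (.node (.node (.node (.leaf 580) (.leaf 27189)) (.node (.leaf 12014) (.leaf 0))) (.node (.node (.leaf 5998) (.leaf 0)) (.node (.leaf 18888) (.leaf 0)))) (.node (.node (.node (.leaf 3217) (.leaf 32651)) (.node (.leaf 15324) (.leaf 0))) (.node (.node (.leaf 8923) (.leaf 0)) (.node (.leaf 22732) (.leaf 0))))) (.node (.node (.node (.node (.leaf 1896) (.leaf 29704)) (.node (.leaf 13645) (.leaf 0))) (.node (.node (.leaf 7446) (.leaf 0)) (.node (.leaf 20749) (.leaf 0)))) (.node (.node (.node (.leaf 4609) (.leaf 36566)) (.node (.leaf 17052) (.leaf 0))) (.node (.node (.leaf 10425) (.leaf 0)) (.node (.leaf 24841) (.leaf 0)))))) (.node (.node (.node (.node (.node (.leaf 1234) (.leaf 28368)) (.node (.leaf 12822) (.leaf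 0))) (.node (.node (.leaf 6722) (.leaf 0)) (.node (.leaf 19754) (.leaf 0)))) (.node (.node (.node (.leaf 3911) (.leaf 34450)) (.node (.leaf 16188) (.leaf 0))) (.node (.node (.leaf 9680) (.leaf 0)) (.node (.leaf 23763) (.leaf 0))))) (.node (.node (.node (.node (.leaf 2560) (.leaf 31081)) (.node (.leaf 14456) (.leaf 0))) (.node (.node (.leaf 8176) (.leaf 0)) (.node (.leaf 21721) (.leaf 0)))) (.node (.node (.node (.leaf 5298) (.leaf 39464)) (.node (.leaf 17960) (.leaf 0))) (.node (.node (.leaf 11200) (.leaf 0)) (.node (.leaf 25988) (.leaf 0))))))))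

def pT78 : NT := .node (.node (.node (.node (.node (.node (.node (.node (.leaf 98) (.leaf 26282)) (.node (.leaf 11393) (.leaf 0))) (.node (.node (.leaf 5473) (.leaf 0)) (.node (.leaf 18177) (.leaf 0)))) (.node (.node (.node (.leaf 2725) (.leaf 31458)) (.node (.leaf 14670) (.leaf 0))) (.node (.node (.leaf 8363) (.leaf 0)) (.node (.leaf 21956) (.leaf 0))))) (.node (.node (.node (.node (.leaf 1399) (.leaf 28731)) (.node (.leaf 13022) (.leaf 0))) (.node (.node (.leaf 6910) (.leaf 0)) (.node (.leaf 20011) (.leaf 0)))) (.node (.node (.node (.leaf 4092) (.leaf 34958)) (.node (.leaf 16400) (.leaf 0))) (.node (.node (.leaf 9863) (.leaf 0)) (.node (.leaf 24027) (.leaf 0)))))) (.node (.node (.node (.node (.node (.leaf 744) (.leaf 27485)) (.node (.leaf 12219) (.leaf 0))) (.node (.node (.leaf 6185) (.leaf 0)) (.node (.leaf 19098) (.leaf 0)))) (.node (.node (.node (.leaf 3399) (.leaf 33052)) (.node (.leaf 15531) (.leaf 0))) (.node (.node (.leaf 9124) (.leaf 0)) (.node (.leaf 22990) (.leaf 0))))) (.node (.node (.node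 (.node (.leaf 2067) (.leaf 30039)) (.node (.leaf 13853) (.leaf 0))) (.node (.node (.leaf 7620) (.leaf 0)) (.node (.leaf 20989) (.leaf 0)))) (.node (.node (.node (.leaf 4786) (.leaf 37195)) (.node (.leaf 17280) (.leaf 0))) (.node (.node (.leaf 10618) (.leaf 0)) (.node (.leaf 25139) (.leaf 0))))))) (.node (.node (.node (.node (.node (.node (.leaf 418) (.leaf 26874)) (.node (.leaf 11809) (.leaf 0))) (.node (.node (.leaf 5821) (.leaf 0)) (.node (.leaf 18664) (.leaf 0)))) (.node (.node (.node (.leaf 3054) (.leaf 32236)) (.node (.leaf 15120) (.leaf 0))) (.node (.node (.leaf 8726) (.leaf 0)) (.node (.leaf 22508) (.leaf 0))))) (.node (.node (.node (.node (.leaf 1731) (.leaf 29405)) (.node (.leaf 13433) (.leaf 0))) (.node (.node (.leaf 7262) (.leaf 0)) (.node (.leaf 20499) (.leaf 0)))) (.node (.node (.node (.leaf 4438) (.leaf 35988)) (.node (.leaf 16837) (.leaf 0))) (.node (.node (.leaf 10243) (.leaf 0)) (.node (.leaf 24548) (.leaf 0)))))) (.node (.node (.node (.node (.node (.leaf 1074) (.leaf 28068)) (.node (.leaf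 12623) (.leaf 0))) (.node (.node (.leaf 6545) (.leaf 0)) (.node (.leaf 19547) (.leaf 0)))) (.node (.node (.node (.leaf 3745) (.leaf 33968)) (.node (.leaf 15971) (.leaf 0))) (.node (.node (.leaf 9511) (.leaf 0)) (.node (.leaf 23509) (.leaf 0))))) (.node (.node (.node (.node (.leaf 2401) (.leaf 30737)) (.node (.leaf 14253) (.leaf 0))) (.node (.node (.leaf 7989) (.leaf 0)) (.node (.leaf 21473) (.leaf 0)))) (.node (.node (.node (.leaf 5128) (.leaf 38501)) (.node (.leaf 17728) (.leaf 0))) (.node (.node (.leaf 11010) (.leaf 0)) (.node (.leaf 25688) (.leaf 0)))))))) (.node (.node (.node (.node (.node (.node (.node (.leaf 258) (.leaf 26576)) (.node (.leaf 11598) (.leaf 0))) (.node (.node (.leaf 5656) (.leaf 0)) (.node (.leaf 18414) (.leaf 0)))) (.node (.node (.node (.leaf 2888) (.leaf 31854)) (.node (.leaf 14902) (.leaf 0))) (.node (.node (.leaf 8542) (.leaf 0)) (.node (.leaf 22218) (.leaf 0))))) (.node (.node (.node (.node (.leaf 1566) (.leaf 29042)) (.node (.leaf 13232) (.leaf 0))) (.node (.node (.leaf 7089)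 (.leaf 0)) (.node (.leaf 20247) (.leaf 0)))) (.node (.node (.node (.leaf 4267) (.leaf 35436)) (.node (.leaf 16605) (.leaf 0))) (.node (.node (.leaf 10045) (.leaf 0)) (.node (.leaf 24291) (.leaf 0)))))) (.node (.node (.node (.node (.node (.leaf 908) (.leaf 27748)) (.node (.leaf 12418) (.leaf 0))) (.node (.node (.leaf 6366) (.leaf 0)) (.node (.leaf 19316) (.leaf 0)))) (.node (.node (.node (.leaf 3572) (.leaf 33494)) (.node (.leaf 15742) (.leaf 0))) (.node (.node (.leaf 9317) (.leaf 0)) (.node (.leaf 23241) (.leaf 0))))) (.node (.node (.node (.node (.leaf 2236) (.leaf 30377)) (.node (.leaf 14050) (.leaf 0))) (.node (.node (.leaf 7809) (.leaf 0)) (.node (.leaf 21234) (.leaf 0)))) (.node (.node (.node (.leaf 4955) (.leaf 37775)) (.node (.leaf 17519) (.leaf 0))) (.node (.node (.leaf 10823) (.leaf 0)) (.node (.leaf 25389) (.leaf 0))))))) (.node (.node (.node (.node (.node (.node (.leaf 582) (.leaf 27192)) (.node (.leaf 12016) (.leaf 0))) (.node (.node (.leaf 5999) (.leaf 0)) (.node (.leaf 18890) (.leaf 0))))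 (.node (.node (.node (.leaf 3220) (.leaf 32652)) (.node (.leaf 15326) (.leaf 0))) (.node (.node (.leaf 8924) (.leaf 0)) (.node (.leaf 22734) (.leaf 0))))) (.node (.node (.node (.node (.leaf 1898) (.leaf 29708)) (.node (.leaf 13646) (.leaf 0))) (.node (.node (.leaf 7447) (.leaf 0)) (.node (.leaf 20750) (.leaf 0)))) (.node (.node (.node (.leaf 4610) (.leaf 36567)) (.node (.leaf 17054) (.leaf 0))) (.node (.node (.leaf 10426) (.leaf 0)) (.node (.leaf 24842) (.leaf 0)))))) (.node (.node (.node (.node (.node (.leaf 1235) (.leaf 28369)) (.node (.leaf 12824) (.leaf 0))) (.node (.node (.leaf 6723) (.leaf 0)) (.node (.leaf 19757) (.leaf 0)))) (.node (.node (.node (.leaf 3912) (.leaf 34451)) (.node (.leaf 16189) (.leaf 0))) (.node (.node (.leaf 9681) (.leaf 0)) (.node (.leaf 23764) (.leaf 0))))) (.node (.node (.node (.node (.leaf 2562) (.leaf 31083)) (.node (.leaf 14457) (.leaf 0))) (.node (.node (.leaf 8178) (.leaf 0)) (.node (.leaf 21722) (.leaf 0)))) (.node (.node (.node (.leaf 5299) (.leaf 39467)) (.node (.leaf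 17962) (.leaf 0))) (.node (.node (.leaf 11201) (.leaf 0)) (.node (.leaf 25990) (.leaf 0))))))))

def pT79 : NT := .node (.node (.node (.node (.node (.node (.node (.node (.leaf 99) (.leaf 26284)) (.node (.leaf 11394) (.leaf 0))) (.node (.node (.leaf 5474) (.leaf 0)) (.node (.leaf 18178) (.leaf 0)))) (.node (.node (.node (.leaf 2726) (.leaf 31459)) (.node (.leaf 14671) (.leaf 0))) (.node (.node (.leaf 8364) (.leaf 0)) (.node (.leaf 21958) (.leaf 0))))) (.node (.node (.node (.node (.leaf 1400) (.leaf 28732)) (.node (.leaf 13023) (.leaf 0))) (.node (.node (.leaf 6912) (.leaf 0)) (.node (.leaf 20013) (.leaf 0)))) (.node (.node (.node (.leaf 4094) (.leaf 34962)) (.node (.leaf 16401) (.leaf 0))) (.node (.node (.leaf 9865) (.leaf 0)) (.node (.leaf 24028) (.leaf 0)))))) (.node (.node (.node (.node (.node (.leaf 745) (.leaf 27486)) (.node (.leaf 12220) (.leaf 0))) (.node (.node (.leaf 6186) (.leaf 0)) (.node (.leaf 19099) (.leaf 0)))) (.node (.node (.node (.leaf 3400) (.leaf 33054)) (.node (.leaf 15533) (.leaf 0)))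 (.node (.node (.leaf 9125) (.leaf 0)) (.node (.leaf 22991) (.leaf 0))))) (.node (.node (.node (.node (.leaf 2068) (.leaf 30042)) (.node (.leaf 13857) (.leaf 0))) (.node (.node (.leaf 7621) (.leaf 0)) (.node (.leaf 20990) (.leaf 0)))) (.node (.node (.node (.leaf 4787) (.leaf 37196)) (.node (.leaf 17281) (.leaf 0))) (.node (.node (.leaf 10619) (.leaf 0)) (.node (.leaf 25141) (.leaf 0))))))) (.node (.node (.node (.node (.node (.node (.leaf 419) (.leaf 26876)) (.node (.leaf 11813) (.leaf 0))) (.node (.node (.leaf 5822) (.leaf 0)) (.node (.leaf 18667) (.leaf 0)))) (.node (.node (.node (.leaf 3055) (.leaf 32242)) (.node (.leaf 15122) (.leaf 0))) (.node (.node (.leaf 8727) (.leaf 0)) (.node (.leaf 22509) (.leaf 0))))) (.node (.node (.node (.node (.leaf 1732) (.leaf 29406)) (.node (.leaf 13434) (.leaf 0))) (.node (.node (.leaf 7263) (.leaf 0)) (.node (.leaf 20500) (.leaf 0)))) (.node (.node (.node (.leaf 4439) (.leaf 35989)) (.node (.leaf 16838) (.leaf 0))) (.node (.node (.leaf 10244) (.leaf 0)) (.node (.leaf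 24550) (.leaf 0)))))) (.node (.node (.node (.node (.node (.leaf 1075) (.leaf 28070)) (.node (.leaf 12624) (.leaf 0))) (.node (.node (.leaf 6546) (.leaf 0)) (.node (.leaf 19548) (.leaf 0)))) (.node (.node (.node (.leaf 3746) (.leaf 33977)) (.node (.leaf 15972) (.leaf 0))) (.node (.node (.leaf 9512) (.leaf 0)) (.node (.leaf 23514) (.leaf 0))))) (.node (.node (.node (.node (.leaf 2402) (.leaf 30738)) (.node (.leaf 14254) (.leaf 0))) (.node (.node (.leaf 7990) (.leaf 0)) (.node (.leaf 21474) (.leaf 0)))) (.node (.node (.node (.leaf 5129) (.leaf 38504)) (.node (.leaf 17730) (.leaf 0))) (.node (.node (.leaf 11011) (.leaf 0)) (.node (.leaf 25695) (.leaf 0)))))))) (.node (.node (.node (.node (.node (.node (.node (.leaf 259) (.leaf 26578)) (.node (.leaf 11599) (.leaf 0))) (.node (.node (.leaf 5657) (.leaf 0)) (.node (.leaf 18416) (.leaf 0)))) (.node (.node (.node (.leaf 2889) (.leaf 31856)) (.node (.leaf 14905) (.leaf 0))) (.node (.node (.leaf 8543) (.leaf 0)) (.node (.leaf 22220) (.leaf 0))))) (.node (.node (.node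 (.node (.leaf 1567) (.leaf 29044)) (.node (.leaf 13234) (.leaf 0))) (.node (.node (.leaf 7090) (.leaf 0)) (.node (.leaf 20254) (.leaf 0)))) (.node (.node (.node (.leaf 4268) (.leaf 35439)) (.node (.leaf 16606) (.leaf 0))) (.node (.node (.leaf 10046) (.leaf 0)) (.node (.leaf 24292) (.leaf 0)))))) (.node (.node (.node (.node (.node (.leaf 909) (.leaf 27752)) (.node (.leaf 12421) (.leaf 0))) (.node (.node (.leaf 6367) (.leaf 0)) (.node (.leaf 19317) (.leaf 0)))) (.node (.node (.node (.leaf 3574) (.leaf 33495)) (.node (.leaf 15744) (.leaf 0))) (.node (.node (.leaf 9318) (.leaf 0)) (.node (.leaf 23242) (.leaf 0))))) (.node (.node (.node (.node (.leaf 2237) (.leaf 30380)) (.node (.leaf 14052) (.leaf 0))) (.node (.node (.leaf 7810) (.leaf 0)) (.node (.leaf 21237) (.leaf 0)))) (.node (.node (.node (.leaf 4958) (.leaf 37776)) (.node (.leaf 17520) (.leaf 0))) (.node (.node (.leaf 10826) (.leaf 0)) (.node (.leaf 25390) (.leaf 0))))))) (.node (.node (.node (.node (.node (.node (.leaf 583) (.leaf 27194)) (.node (.leaf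 12017) (.leaf 0))) (.node (.node (.leaf 6000) (.leaf 0)) (.node (.leaf 18892) (.leaf 0)))) (.node (.node (.node (.leaf 3221) (.leaf 32657)) (.node (.leaf 15328) (.leaf 0))) (.node (.node (.leaf 8926) (.leaf 0)) (.node (.leaf 22736) (.leaf 0))))) (.node (.node (.node (.node (.leaf 1899) (.leaf 29713)) (.node (.leaf 13647) (.leaf 0))) (.node (.node (.leaf 7448) (.leaf 0)) (.node (.leaf 20751) (.leaf 0)))) (.node (.node (.node (.leaf 4611) (.leaf 36576)) (.node (.leaf 17056) (.leaf 0))) (.node (.node (.leaf 10428) (.leaf 0)) (.node (.leaf 24847) (.leaf 0)))))) (.node (.node (.node (.node (.node (.leaf 1236) (.leaf 28372)) (.node (.leaf 12826) (.leaf 0))) (.node (.node (.leaf 6724) (.leaf 0)) (.node (.leaf 19760) (.leaf 0)))) (.node (.node (.node (.leaf 3914) (.leaf 34458)) (.node (.leaf 16190) (.leaf 0))) (.node (.node (.leaf 9682) (.leaf 0)) (.node (.leaf 23767) (.leaf 0))))) (.node (.node (.node (.node (.leaf 2563) (.leaf 31087)) (.node (.leaf 14458) (.leaf 0))) (.node (.node (.leaf 8179) (.leaf 0)) (.node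 (.leaf 21724) (.leaf 0)))) (.node (.node (.node (.leaf 5300) (.leaf 39502)) (.node (.leaf 17965) (.leaf 0))) (.node (.node (.leaf 11202) (.leaf 0)) (.node (.leaf 25992) (.leaf 0))))))))

def pT80 : NT := .node (.node (.node (.node (.node (.node (.node (.node (.leaf 100) (.leaf 26288)) (.node (.leaf 11395) (.leaf 0))) (.node (.node (.leaf 5476) (.leaf 0)) (.node (.leaf 18182) (.leaf 0)))) (.node (.node (.node (.leaf 2727) (.leaf 31460)) (.node (.leaf 14672) (.leaf 0))) (.node (.node (.leaf 8366) (.leaf 0)) (.node (.leaf 21959) (.leaf 0))))) (.node (.node (.node (.node (.leaf 1401) (.leaf 28733)) (.node (.leaf 13024) (.leaf 0))) (.node (.node (.leaf 6913) (.leaf 0)) (.node (.leaf 20014) (.leaf 0)))) (.node (.node (.node (.leaf 4096) (.leaf 34969)) (.node (.leaf 16402) (.leaf 0))) (.node (.node (.leaf 9866) (.leaf 0)) (.node (.leaf 24029) (.leaf 0)))))) (.node (.node (.node (.node (.node (.leaf 746) (.leaf 27489)) (.node (.leaf 12221) (.leaf 0))) (.node (.node (.leaf 6188) (.leaf 0)) (.node (.leaf 19100)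 (.leaf 0)))) (.node (.node (.node (.leaf 3401) (.leaf 33058)) (.node (.leaf 15534) (.leaf 0))) (.node (.node (.leaf 9126) (.leaf 0)) (.node (.leaf 22992) (.leaf 0))))) (.node (.node (.node (.node (.leaf 2069) (.leaf 30044)) (.node (.leaf 13858) (.leaf 0))) (.node (.node (.leaf 7622) (.leaf 0)) (.node (.leaf 20992) (.leaf 0)))) (.node (.node (.node (.leaf 4788) (.leaf 37200)) (.node (.leaf 17282) (.leaf 0))) (.node (.node (.leaf 10622) (.leaf 0)) (.node (.leaf 25144) (.leaf 0))))))) (.node (.node (.node (.node (.node (.node (.leaf 420) (.leaf 26880)) (.node (.leaf 11817) (.leaf 0))) (.node (.node (.leaf 5825) (.leaf 0)) (.node (.leaf 18668) (.leaf 0)))) (.node (.node (.node (.leaf 3056) (.leaf 32245)) (.node (.leaf 15123) (.leaf 0))) (.node (.node (.leaf 8728) (.leaf 0)) (.node (.leaf 22510) (.leaf 0))))) (.node (.node (.node (.node (.leaf 1734) (.leaf 29408)) (.node (.leaf 13436) (.leaf 0))) (.node (.node (.leaf 7264) (.leaf 0)) (.node (.leaf 20502) (.leaf 0)))) (.node (.node (.node (.leaf 4440) (.leaf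 35990)) (.node (.leaf 16839) (.leaf 0))) (.node (.node (.leaf 10245) (.leaf 0)) (.node (.leaf 24554) (.leaf 0)))))) (.node (.node (.node (.node (.node (.leaf 1076) (.leaf 28071)) (.node (.leaf 12625) (.leaf 0))) (.node (.node (.leaf 6548) (.leaf 0)) (.node (.leaf 19549) (.leaf 0)))) (.node (.node (.node (.leaf 3748) (.leaf 33981)) (.node (.leaf 15975) (.leaf 0))) (.node (.node (.leaf 9513) (.leaf 0)) (.node (.leaf 23516) (.leaf 0))))) (.node (.node (.node (.node (.leaf 2404) (.leaf 30741)) (.node (.leaf 14256) (.leaf 0))) (.node (.node (.leaf 7992) (.leaf 0)) (.node (.leaf 21476) (.leaf 0)))) (.node (.node (.node (.leaf 5130) (.leaf 38509)) (.node (.leaf 17732) (.leaf 0))) (.node (.node (.leaf 11012) (.leaf 0)) (.node (.leaf 25700) (.leaf 0)))))))) (.node (.node (.node (.node (.node (.node (.node (.leaf 260) (.leaf 26579)) (.node (.leaf 11600) (.leaf 0))) (.node (.node (.leaf 5658) (.leaf 0)) (.node (.leaf 18417) (.leaf 0)))) (.node (.node (.node (.leaf 2890) (.leaf 31863)) (.node (.leaf 14906) (.leaf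 0))) (.node (.node (.leaf 8545) (.leaf 0)) (.node (.leaf 22221) (.leaf 0))))) (.node (.node (.node (.node (.leaf 1568) (.leaf 29052)) (.node (.leaf 13236) (.leaf 0))) (.node (.node (.leaf 7092) (.leaf 0)) (.node (.leaf 20255) (.leaf 0)))) (.node (.node (.node (.leaf 4270) (.leaf 35442)) (.node (.leaf 16608) (.leaf 0))) (.node (.node (.leaf 10048) (.leaf 0)) (.node (.leaf 24294) (.leaf 0)))))) (.node (.node (.node (.node (.node (.leaf 910) (.leaf 27760)) (.node (.leaf 12422) (.leaf 0))) (.node (.node (.leaf 6368) (.leaf 0)) (.node (.leaf 19318) (.leaf 0)))) (.node (.node (.node (.leaf 3575) (.leaf 33500)) (.node (.leaf 15745) (.leaf 0))) (.node (.node (.leaf 9319) (.leaf 0)) (.node (.leaf 23244) (.leaf 0))))) (.node (.node (.node (.node (.leaf 2238) (.leaf 30381)) (.node (.leaf 14056) (.leaf 0))) (.node (.node (.leaf 7811) (.leaf 0)) (.node (.leaf 21238) (.leaf 0)))) (.node (.node (.node (.leaf 4959) (.leaf 37784)) (.node (.leaf 17521) (.leaf 0))) (.node (.node (.leaf 10827) (.leaf 0)) (.node (.leaf 25396)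 (.leaf 0))))))) (.node (.node (.node (.node (.node (.node (.leaf 584) (.leaf 27198)) (.node (.leaf 12019) (.leaf 0))) (.node (.node (.leaf 6001) (.leaf 0)) (.node (.leaf 18894) (.leaf 0)))) (.node (.node (.node (.leaf 3222) (.leaf 32658)) (.node (.leaf 15329) (.leaf 0))) (.node (.node (.leaf 8927) (.leaf 0)) (.node (.leaf 22742) (.leaf 0))))) (.node (.node (.node (.node (.leaf 1900) (.leaf 29714)) (.node (.leaf 13648) (.leaf 0))) (.node (.node (.leaf 7450) (.leaf 0)) (.node (.leaf 20754) (.leaf 0)))) (.node (.node (.node (.leaf 4612) (.leaf 36578)) (.node (.leaf 17062) (.leaf 0))) (.node (.node (.leaf 10429) (.leaf 0)) (.node (.leaf 24851) (.leaf 0)))))) (.node (.node (.node (.node (.node (.leaf 1238) (.leaf 28376)) (.node (.leaf 12828) (.leaf 0))) (.node (.node (.leaf 6725) (.leaf 0)) (.node (.leaf 19761) (.leaf 0)))) (.node (.node (.node (.leaf 3915) (.leaf 34460)) (.node (.leaf 16194) (.leaf 0))) (.node (.node (.leaf 9684) (.leaf 0)) (.node (.leaf 23768) (.leaf 0))))) (.node (.node (.node (.node (.leaf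 2564) (.leaf 31088)) (.node (.leaf 14460) (.leaf 0))) (.node (.node (.leaf 8180) (.leaf 0)) (.node (.leaf 21726) (.leaf 0)))) (.node (.node (.node (.leaf 5302) (.leaf 39514)) (.node (.leaf 17966) (.leaf 0))) (.node (.node (.leaf 11204) (.leaf 0)) (.node (.leaf 25994) (.leaf 0))))))))

def pT81 : NT := .node (.node (.node (.node (.node (.node (.node (.node (.leaf 102) (.leaf 26289)) (.node (.leaf 11396) (.leaf 0))) (.node (.node (.leaf 5477) (.leaf 0)) (.node (.leaf 18183) (.leaf 0)))) (.node (.node (.node (.leaf 2728) (.leaf 31462)) (.node (.leaf 14675) (.leaf 0))) (.node (.node (.leaf 8368) (.leaf 0)) (.node (.leaf 21964) (.leaf 0))))) (.node (.node (.node (.node (.leaf 1404) (.leaf 28736)) (.node (.leaf 13027) (.leaf 0))) (.node (.node (.leaf 6914) (.leaf 0)) (.node (.leaf 20015) (.leaf 0)))) (.node (.node (.node (.leaf 4097) (.leaf 34971)) (.node (.leaf 16403) (.leaf 0))) (.node (.node (.leaf 9868) (.leaf 0)) (.node (.leaf 24030) (.leaf 0)))))) (.node (.node (.node (.node (.node (.leaf 747) (.leaf 27493))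 (.node (.leaf 12226) (.leaf 0))) (.node (.node (.leaf 6189) (.leaf 0)) (.node (.leaf 19103) (.leaf 0)))) (.node (.node (.node (.leaf 3402) (.leaf 33059)) (.node (.leaf 15536) (.leaf 0))) (.node (.node (.leaf 9128) (.leaf 0)) (.node (.leaf 22998) (.leaf 0))))) (.node (.node (.node (.node (.leaf 2070) (.leaf 30046)) (.node (.leaf 13860) (.leaf 0))) (.node (.node (.leaf 7624) (.leaf 0)) (.node (.leaf 20994) (.leaf 0)))) (.node (.node (.node (.leaf 4790) (.leaf 37203)) (.node (.leaf 17284) (.leaf 0))) (.node (.node (.leaf 10624) (.leaf 0)) (.node (.leaf 25145) (.leaf 0))))))) (.node (.node (.node (.node (.node (.node (.leaf 422) (.leaf 26886)) (.node (.leaf 11818) (.leaf 0))) (.node (.node (.leaf 5826) (.leaf 0)) (.node (.leaf 18670) (.leaf 0)))) (.node (.node (.node (.leaf 3058) (.leaf 32249)) (.node (.leaf 15124) (.leaf 0))) (.node (.node (.leaf 8730) (.leaf 0)) (.node (.leaf 22512) (.leaf 0))))) (.node (.node (.node (.node (.leaf 1735) (.leaf 29409)) (.node (.leaf 13438) (.leaf 0))) (.node (.node (.leaf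 7266) (.leaf 0)) (.node (.leaf 20504) (.leaf 0)))) (.node (.node (.node (.leaf 4441) (.leaf 35992)) (.node (.leaf 16842) (.leaf 0))) (.node (.node (.leaf 10246) (.leaf 0)) (.node (.leaf 24556) (.leaf 0)))))) (.node (.node (.node (.node (.node (.leaf 1078) (.leaf 28077)) (.node (.leaf 12626) (.leaf 0))) (.node (.node (.leaf 6549) (.leaf 0)) (.node (.leaf 19552) (.leaf 0)))) (.node (.node (.node (.leaf 3749) (.leaf 33990)) (.node (.leaf 15976) (.leaf 0))) (.node (.node (.leaf 9514) (.leaf 0)) (.node (.leaf 23520) (.leaf 0))))) (.node (.node (.node (.node (.leaf 2405) (.leaf 30742)) (.node (.leaf 14257) (.leaf 0))) (.node (.node (.leaf 7993) (.leaf 0)) (.node (.leaf 21480) (.leaf 0)))) (.node (.node (.node (.leaf 5132) (.leaf 38514)) (.node (.leaf 17734) (.leaf 0))) (.node (.node (.leaf 11014) (.leaf 0)) (.node (.leaf 25706) (.leaf 0)))))))) (.node (.node (.node (.node (.node (.node (.node (.leaf 262) (.leaf 26580)) (.node (.leaf 11602) (.leaf 0))) (.node (.node (.leaf 5659) (.leaf 0)) (.node (.leaf 18418)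 (.leaf 0)))) (.node (.node (.node (.leaf 2892) (.leaf 31866)) (.node (.leaf 14908) (.leaf 0))) (.node (.node (.leaf 8546) (.leaf 0)) (.node (.leaf 22227) (.leaf 0))))) (.node (.node (.node (.node (.leaf 1570) (.leaf 29054)) (.node (.leaf 13237) (.leaf 0))) (.node (.node (.leaf 7093) (.leaf 0)) (.node (.leaf 20256) (.leaf 0)))) (.node (.node (.node (.leaf 4271) (.leaf 35450)) (.node (.leaf 16609) (.leaf 0))) (.node (.node (.leaf 10049) (.leaf 0)) (.node (.leaf 24295) (.leaf 0)))))) (.node (.node (.node (.node (.node (.leaf 912) (.leaf 27761)) (.node (.leaf 12426) (.leaf 0))) (.node (.node (.leaf 6370) (.leaf 0)) (.node (.leaf 19321) (.leaf 0)))) (.node (.node (.node (.leaf 3576) (.leaf 33503)) (.node (.leaf 15746) (.leaf 0))) (.node (.node (.leaf 9320) (.leaf 0)) (.node (.leaf 23245) (.leaf 0))))) (.node (.node (.node (.node (.leaf 2240) (.leaf 30386)) (.node (.leaf 14057) (.leaf 0))) (.node (.node (.leaf 7812) (.leaf 0)) (.node (.leaf 21240) (.leaf 0)))) (.node (.node (.node (.leaf 4960) (.leaf 37785))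 (.node (.leaf 17522) (.leaf 0))) (.node (.node (.leaf 10828) (.leaf 0)) (.node (.leaf 25397) (.leaf 0))))))) (.node (.node (.node (.node (.node (.node (.leaf 585) (.leaf 27201)) (.node (.leaf 12022) (.leaf 0))) (.node (.node (.leaf 6002) (.leaf 0)) (.node (.leaf 18895) (.leaf 0)))) (.node (.node (.node (.leaf 3224) (.leaf 32660)) (.node (.leaf 15330) (.leaf 0))) (.node (.node (.leaf 8928) (.leaf 0)) (.node (.leaf 22744) (.leaf 0))))) (.node (.node (.node (.node (.leaf 1901) (.leaf 29715)) (.node (.leaf 13650) (.leaf 0))) (.node (.node (.leaf 7451) (.leaf 0)) (.node (.leaf 20756) (.leaf 0)))) (.node (.node (.node (.leaf 4614) (.leaf 36581)) (.node (.leaf 17063) (.leaf 0))) (.node (.node (.leaf 10432) (.leaf 0)) (.node (.leaf 24852) (.leaf 0)))))) (.node (.node (.node (.node (.node (.leaf 1239) (.leaf 28380)) (.node (.leaf 12829) (.leaf 0))) (.node (.node (.leaf 6726) (.leaf 0)) (.node (.leaf 19764) (.leaf 0)))) (.node (.node (.node (.leaf 3916) (.leaf 34466)) (.node (.leaf 16195) (.leaf 0))) (.node (.node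 (.leaf 9685) (.leaf 0)) (.node (.leaf 23770) (.leaf 0))))) (.node (.node (.node (.node (.leaf 2565) (.leaf 31091)) (.node (.leaf 14462) (.leaf 0))) (.node (.node (.leaf 8181) (.leaf 0)) (.node (.leaf 21730) (.leaf 0)))) (.node (.node (.node (.leaf 5303) (.leaf 39521)) (.node (.leaf 17967) (.leaf 0))) (.node (.node (.leaf 11205) (.leaf 0)) (.node (.leaf 25995) (.leaf 0))))))))

def pT82 : NT := .node (.node (.node (.node (.node (.node (.node (.node (.leaf 103) (.leaf 26292)) (.node (.leaf 11398) (.leaf 0))) (.node (.node (.leaf 5478) (.leaf 0)) (.node (.leaf 18184) (.leaf 0)))) (.node (.node (.node (.leaf 2730) (.leaf 31464)) (.node (.leaf 14676) (.leaf 0))) (.node (.node (.leaf 8369) (.leaf 0)) (.node (.leaf 21967) (.leaf 0))))) (.node (.node (.node (.node (.leaf 1405) (.leaf 28740)) (.node (.leaf 13028) (.leaf 0))) (.node (.node (.leaf 6916) (.leaf 0)) (.node (.leaf 20016) (.leaf 0)))) (.node (.node (.node (.leaf 4098) (.leaf 34980)) (.node (.leaf 16404) (.leaf 0))) (.node (.node (.leaf 9869) (.leaf 0))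 (.node (.leaf 24034) (.leaf 0)))))) (.node (.node (.node (.node (.node (.leaf 748) (.leaf 27502)) (.node (.leaf 12228) (.leaf 0))) (.node (.node (.leaf 6190) (.leaf 0)) (.node (.leaf 19104) (.leaf 0)))) (.node (.node (.node (.leaf 3405) (.leaf 33064)) (.node (.leaf 15538) (.leaf 0))) (.node (.node (.leaf 9129) (.leaf 0)) (.node (.leaf 23000) (.leaf 0))))) (.node (.node (.node (.node (.leaf 2073) (.leaf 30048)) (.node (.leaf 13861) (.leaf 0))) (.node (.node (.leaf 7625) (.leaf 0)) (.node (.leaf 20996) (.leaf 0)))) (.node (.node (.node (.leaf 4791) (.leaf 37207)) (.node (.leaf 17285) (.leaf 0))) (.node (.node (.leaf 10625) (.leaf 0)) (.node (.leaf 25146) (.leaf 0))))))) (.node (.node (.node (.node (.node (.node (.leaf 423) (.leaf 26889)) (.node (.leaf 11819) (.leaf 0))) (.node (.node (.leaf 5830) (.leaf 0)) (.node (.leaf 18671) (.leaf 0)))) (.node (.node (.node (.leaf 3059) (.leaf 32252)) (.node (.leaf 15128) (.leaf 0))) (.node (.node (.leaf 8732) (.leaf 0)) (.node (.leaf 22517) (.leaf 0))))) (.node (.node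 (.node (.node (.leaf 1736) (.leaf 29410)) (.node (.leaf 13439) (.leaf 0))) (.node (.node (.leaf 7269) (.leaf 0)) (.node (.leaf 20506) (.leaf 0)))) (.node (.node (.node (.leaf 4442) (.leaf 35995)) (.node (.leaf 16844) (.leaf 0))) (.node (.node (.leaf 10247) (.leaf 0)) (.node (.leaf 24562) (.leaf 0)))))) (.node (.node (.node (.node (.node (.leaf 1079) (.leaf 28078)) (.node (.leaf 12628) (.leaf 0))) (.node (.node (.leaf 6550) (.leaf 0)) (.node (.leaf 19553) (.leaf 0)))) (.node (.node (.node (.leaf 3750) (.leaf 33995)) (.node (.leaf 15979) (.leaf 0))) (.node (.node (.leaf 9515) (.leaf 0)) (.node (.leaf 23521) (.leaf 0))))) (.node (.node (.node (.node (.leaf 2406) (.leaf 30743)) (.node (.leaf 14258) (.leaf 0))) (.node (.node (.leaf 7994) (.leaf 0)) (.node (.leaf 21481) (.leaf 0)))) (.node (.node (.node (.leaf 5133) (.leaf 38531)) (.node (.leaf 17735) (.leaf 0))) (.node (.node (.leaf 11015) (.leaf 0)) (.node (.leaf 25707) (.leaf 0)))))))) (.node (.node (.node (.node (.node (.node (.node (.leaf 263) (.leaf 26587))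 (.node (.leaf 11603) (.leaf 0))) (.node (.node (.leaf 5660) (.leaf 0)) (.node (.leaf 18421) (.leaf 0)))) (.node (.node (.node (.leaf 2893) (.leaf 31872)) (.node (.leaf 14909) (.leaf 0))) (.node (.node (.leaf 8548) (.leaf 0)) (.node (.leaf 22228) (.leaf 0))))) (.node (.node (.node (.node (.leaf 1571) (.leaf 29058)) (.node (.leaf 13238) (.leaf 0))) (.node (.node (.leaf 7094) (.leaf 0)) (.node (.leaf 20257) (.leaf 0)))) (.node (.node (.node (.leaf 4272) (.leaf 35459)) (.node (.leaf 16610) (.leaf 0))) (.node (.node (.leaf 10052) (.leaf 0)) (.node (.leaf 24296) (.leaf 0)))))) (.node (.node (.node (.node (.node (.leaf 913) (.leaf 27767)) (.node (.leaf 12427) (.leaf 0))) (.node (.node (.leaf 6374) (.leaf 0)) (.node (.leaf 19322) (.leaf 0)))) (.node (.node (.node (.leaf 3578) (.leaf 33506)) (.node (.leaf 15748) (.leaf 0))) (.node (.node (.leaf 9322) (.leaf 0)) (.node (.leaf 23246) (.leaf 0))))) (.node (.node (.node (.node (.leaf 2241) (.leaf 30389)) (.node (.leaf 14060) (.leaf 0))) (.node (.node (.leaf 7813) (.leaf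 0)) (.node (.leaf 21241) (.leaf 0)))) (.node (.node (.node (.leaf 4961) (.leaf 37789)) (.node (.leaf 17523) (.leaf 0))) (.node (.node (.leaf 10829) (.leaf 0)) (.node (.leaf 25398) (.leaf 0))))))) (.node (.node (.node (.node (.node (.node (.leaf 586) (.leaf 27204)) (.node (.leaf 12023) (.leaf 0))) (.node (.node (.leaf 6004) (.leaf 0)) (.node (.leaf 18898) (.leaf 0)))) (.node (.node (.node (.leaf 3225) (.leaf 32661)) (.node (.leaf 15333) (.leaf 0))) (.node (.node (.leaf 8929) (.leaf 0)) (.node (.leaf 22746) (.leaf 0))))) (.node (.node (.node (.node (.leaf 1902) (.leaf 29716)) (.node (.leaf 13651) (.leaf 0))) (.node (.node (.leaf 7452) (.leaf 0)) (.node (.leaf 20758) (.leaf 0)))) (.node (.node (.node (.leaf 4615) (.leaf 36582)) (.node (.leaf 17064) (.leaf 0))) (.node (.node (.leaf 10433) (.leaf 0)) (.node (.leaf 24855) (.leaf 0)))))) (.node (.node (.node (.node (.node (.leaf 1240) (.leaf 28381)) (.node (.leaf 12830) (.leaf 0))) (.node (.node (.leaf 6728) (.leaf 0)) (.node (.leaf 19765) (.leaf 0)))) (.node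 (.node (.node (.leaf 3917) (.leaf 34471)) (.node (.leaf 16196) (.leaf 0))) (.node (.node (.leaf 9688) (.leaf 0)) (.node (.leaf 23771) (.leaf 0))))) (.node (.node (.node (.node (.leaf 2566) (.leaf 31093)) (.node (.leaf 14464) (.leaf 0))) (.node (.node (.leaf 8182) (.leaf 0)) (.node (.leaf 21731) (.leaf 0)))) (.node (.node (.node (.leaf 5304) (.leaf 39542)) (.node (.leaf 17969) (.leaf 0))) (.node (.node (.leaf 11206) (.leaf 0)) (.node (.leaf 25996) (.leaf 0))))))))

def pT83 : NT := .node (.node (.node (.node (.node (.node (.node (.node (.leaf 104) (.leaf 26293)) (.node (.leaf 11399) (.leaf 0))) (.node (.node (.leaf 5481) (.leaf 0)) (.node (.leaf 18186) (.leaf 0)))) (.node (.node (.node (.leaf 2731) (.leaf 31469)) (.node (.leaf 14679) (.leaf 0))) (.node (.node (.leaf 8370) (.leaf 0)) (.node (.leaf 21968) (.leaf 0))))) (.node (.node (.node (.node (.leaf 1406) (.leaf 28742)) (.node (.leaf 13029) (.leaf 0))) (.node (.node (.leaf 6917) (.leaf 0)) (.node (.leaf 20018) (.leaf 0)))) (.node (.node (.node (.leaf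 4099) (.leaf 34986)) (.node (.leaf 16406) (.leaf 0))) (.node (.node (.leaf 9872) (.leaf 0)) (.node (.leaf 24036) (.leaf 0)))))) (.node (.node (.node (.node (.node (.leaf 750) (.leaf 27503)) (.node (.leaf 12230) (.leaf 0))) (.node (.node (.leaf 6191) (.leaf 0)) (.node (.leaf 19106) (.leaf 0)))) (.node (.node (.node (.leaf 3406) (.leaf 33066)) (.node (.leaf 15541) (.leaf 0))) (.node (.node (.leaf 9130) (.leaf 0)) (.node (.leaf 23002) (.leaf 0))))) (.node (.node (.node (.node (.leaf 2074) (.leaf 30050)) (.node (.leaf 13864) (.leaf 0))) (.node (.node (.leaf 7626) (.leaf 0)) (.node (.leaf 20999) (.leaf 0)))) (.node (.node (.node (.leaf 4792) (.leaf 37210)) (.node (.leaf 17286) (.leaf 0))) (.node (.node (.leaf 10626) (.leaf 0)) (.node (.leaf 25148) (.leaf 0))))))) (.node (.node (.node (.node (.node (.node (.leaf 424) (.leaf 26890)) (.node (.leaf 11820) (.leaf 0))) (.node (.node (.leaf 5831) (.leaf 0)) (.node (.leaf 18672) (.leaf 0)))) (.node (.node (.node (.leaf 3060) (.leaf 32254)) (.node (.leaf 15130) (.leaf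 0))) (.node (.node (.leaf 8733) (.leaf 0)) (.node (.leaf 22518) (.leaf 0))))) (.node (.node (.node (.node (.leaf 1738) (.leaf 29412)) (.node (.leaf 13440) (.leaf 0))) (.node (.node (.leaf 7270) (.leaf 0)) (.node (.leaf 20507) (.leaf 0)))) (.node (.node (.node (.leaf 4444) (.leaf 35999)) (.node (.leaf 16845) (.leaf 0))) (.node (.node (.leaf 10248) (.leaf 0)) (.node (.leaf 24563) (.leaf 0)))))) (.node (.node (.node (.node (.node (.leaf 1080) (.leaf 28080)) (.node (.leaf 12629) (.leaf 0))) (.node (.node (.leaf 6551) (.leaf 0)) (.node (.leaf 19554) (.leaf 0)))) (.node (.node (.node (.leaf 3752) (.leaf 33996)) (.node (.leaf 15980) (.leaf 0))) (.node (.node (.leaf 9516) (.leaf 0)) (.node (.leaf 23522) (.leaf 0))))) (.node (.node (.node (.node (.leaf 2407) (.leaf 30748)) (.node (.leaf 14260) (.leaf 0))) (.node (.node (.leaf 7995) (.leaf 0)) (.node (.leaf 21484) (.leaf 0)))) (.node (.node (.node (.leaf 5134) (.leaf 38532)) (.node (.leaf 17736) (.leaf 0))) (.node (.node (.leaf 11016) (.leaf 0)) (.node (.leaf 25708)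 (.leaf 0)))))))) (.node (.node (.node (.node (.node (.node (.node (.leaf 264) (.leaf 26590)) (.node (.leaf 11604) (.leaf 0))) (.node (.node (.leaf 5662) (.leaf 0)) (.node (.leaf 18422) (.leaf 0)))) (.node (.node (.node (.leaf 2894) (.leaf 31877)) (.node (.leaf 14910) (.leaf 0))) (.node (.node (.leaf 8549) (.leaf 0)) (.node (.leaf 22232) (.leaf 0))))) (.node (.node (.node (.node (.leaf 1572) (.leaf 29060)) (.node (.leaf 13240) (.leaf 0))) (.node (.node (.leaf 7095) (.leaf 0)) (.node (.leaf 20259) (.leaf 0)))) (.node (.node (.node (.leaf 4274) (.leaf 35460)) (.node (.leaf 16611) (.leaf 0))) (.node (.node (.leaf 10053) (.leaf 0)) (.node (.leaf 24301) (.leaf 0)))))) (.node (.node (.node (.node (.node (.leaf 914) (.leaf 27768)) (.node (.leaf 12428) (.leaf 0))) (.node (.node (.leaf 6376) (.leaf 0)) (.node (.leaf 19324) (.leaf 0)))) (.node (.node (.node (.leaf 3579) (.leaf 33508)) (.node (.leaf 15750) (.leaf 0))) (.node (.node (.leaf 9324) (.leaf 0)) (.node (.leaf 23247) (.leaf 0))))) (.node (.node (.node (.node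 (.leaf 2242) (.leaf 30390)) (.node (.leaf 14062) (.leaf 0))) (.node (.node (.leaf 7814) (.leaf 0)) (.node (.leaf 21242) (.leaf 0)))) (.node (.node (.node (.leaf 4962) (.leaf 37790)) (.node (.leaf 17524) (.leaf 0))) (.node (.node (.leaf 10830) (.leaf 0)) (.node (.leaf 25404) (.leaf 0))))))) (.node (.node (.node (.node (.node (.node (.leaf 588) (.leaf 27206)) (.node (.leaf 12024) (.leaf 0))) (.node (.node (.leaf 6005) (.leaf 0)) (.node (.leaf 18900) (.leaf 0)))) (.node (.node (.node (.leaf 3226) (.leaf 32662)) (.node (.leaf 15337) (.leaf 0))) (.node (.node (.leaf 8930) (.leaf 0)) (.node (.leaf 22749) (.leaf 0))))) (.node (.node (.node (.node (.leaf 1904) (.leaf 29718)) (.node (.leaf 13652) (.leaf 0))) (.node (.node (.leaf 7453) (.leaf 0)) (.node (.leaf 20759) (.leaf 0)))) (.node (.node (.node (.leaf 4616) (.leaf 36583)) (.node (.leaf 17066) (.leaf 0))) (.node (.node (.leaf 10434) (.leaf 0)) (.node (.leaf 24856) (.leaf 0)))))) (.node (.node (.node (.node (.node (.leaf 1242) (.leaf 28384)) (.node (.leaf 12832)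 (.leaf 0))) (.node (.node (.leaf 6729) (.leaf 0)) (.node (.leaf 19767) (.leaf 0)))) (.node (.node (.node (.leaf 3918) (.leaf 34479)) (.node (.leaf 16198) (.leaf 0))) (.node (.node (.leaf 9690) (.leaf 0)) (.node (.leaf 23773) (.leaf 0))))) (.node (.node (.node (.node (.leaf 2567) (.leaf 31095)) (.node (.leaf 14465) (.leaf 0))) (.node (.node (.leaf 8184) (.leaf 0)) (.node (.leaf 21732) (.leaf 0)))) (.node (.node (.node (.leaf 5305) (.leaf 39547)) (.node (.leaf 17973) (.leaf 0))) (.node (.node (.leaf 11208) (.leaf 0)) (.node (.leaf 25998) (.leaf 0))))))))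

def pT84 : NT := .node (.node (.node (.node (.node (.node (.node (.node (.leaf 106) (.leaf 26296)) (.node (.leaf 11400) (.leaf 0))) (.node (.node (.leaf 5482) (.leaf 0)) (.node (.leaf 18187) (.leaf 0)))) (.node (.node (.node (.leaf 2732) (.leaf 31470)) (.node (.leaf 14680) (.leaf 0))) (.node (.node (.leaf 8371) (.leaf 0)) (.node (.leaf 21970) (.leaf 0))))) (.node (.node (.node (.node (.leaf 1407) (.leaf 28746)) (.node (.leaf 13031) (.leaf 0))) (.node (.node (.leaf 6918) (.leaf 0)) (.node (.leaf 20019) (.leaf 0)))) (.node (.node (.node (.leaf 4100) (.leaf 34989)) (.node (.leaf 16407) (.leaf 0))) (.node (.node (.leaf 9874) (.leaf 0)) (.node (.leaf 24038) (.leaf 0)))))) (.node (.node (.node (.node (.node (.leaf 751) (.leaf 27504)) (.node (.leaf 12231) (.leaf 0))) (.node (.node (.leaf 6192) (.leaf 0)) (.node (.leaf 19107) (.leaf 0)))) (.node (.node (.node (.leaf 3408) (.leaf 33072)) (.node (.leaf 15542) (.leaf 0))) (.node (.node (.leaf 9132) (.leaf 0)) (.node (.leaf 23005) (.leaf 0))))) (.node (.node (.node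 (.node (.leaf 2076) (.leaf 30053)) (.node (.leaf 13865) (.leaf 0))) (.node (.node (.leaf 7627) (.leaf 0)) (.node (.leaf 21002) (.leaf 0)))) (.node (.node (.node (.leaf 4794) (.leaf 37213)) (.node (.leaf 17289) (.leaf 0))) (.node (.node (.leaf 10629) (.leaf 0)) (.node (.leaf 25149) (.leaf 0))))))) (.node (.node (.node (.node (.node (.node (.leaf 426) (.leaf 26891)) (.node (.leaf 11822) (.leaf 0))) (.node (.node (.leaf 5832) (.leaf 0)) (.node (.leaf 18673) (.leaf 0)))) (.node (.node (.node (.leaf 3061) (.leaf 32262)) (.node (.leaf 15132) (.leaf 0))) (.node (.node (.leaf 8738) (.leaf 0)) (.node (.leaf 22520) (.leaf 0))))) (.node (.node (.node (.node (.leaf 1739) (.leaf 29414)) (.node (.leaf 13441) (.leaf 0))) (.node (.node (.leaf 7271) (.leaf 0)) (.node (.leaf 20508) (.leaf 0)))) (.node (.node (.node (.leaf 4445) (.leaf 36001)) (.node (.leaf 16846) (.leaf 0))) (.node (.node (.leaf 10250) (.leaf 0)) (.node (.leaf 24565) (.leaf 0)))))) (.node (.node (.node (.node (.node (.leaf 1082) (.leaf 28084)) (.node (.leaf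 12630) (.leaf 0))) (.node (.node (.leaf 6552) (.leaf 0)) (.node (.leaf 19555) (.leaf 0)))) (.node (.node (.node (.leaf 3753) (.leaf 33998)) (.node (.leaf 15981) (.leaf 0))) (.node (.node (.leaf 9518) (.leaf 0)) (.node (.leaf 23526) (.leaf 0))))) (.node (.node (.node (.node (.leaf 2408) (.leaf 30752)) (.node (.leaf 14261) (.leaf 0))) (.node (.node (.leaf 7996) (.leaf 0)) (.node (.leaf 21488) (.leaf 0)))) (.node (.node (.node (.leaf 5135) (.leaf 38540)) (.node (.leaf 17737) (.leaf 0))) (.node (.node (.leaf 11017) (.leaf 0)) (.node (.leaf 25711) (.leaf 0)))))))) (.node (.node (.node (.node (.node (.node (.node (.leaf 265) (.leaf 26591)) (.node (.leaf 11605) (.leaf 0))) (.node (.node (.leaf 5663) (.leaf 0)) (.node (.leaf 18425) (.leaf 0)))) (.node (.node (.node (.leaf 2895) (.leaf 31878)) (.node (.leaf 14911) (.leaf 0))) (.node (.node (.leaf 8551) (.leaf 0)) (.node (.leaf 22234) (.leaf 0))))) (.node (.node (.node (.node (.leaf 1574) (.leaf 29063)) (.node (.leaf 13241) (.leaf 0))) (.node (.node (.leaf 7096)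 (.leaf 0)) (.node (.leaf 20260) (.leaf 0)))) (.node (.node (.node (.leaf 4275) (.leaf 35470)) (.node (.leaf 16612) (.leaf 0))) (.node (.node (.leaf 10054) (.leaf 0)) (.node (.leaf 24302) (.leaf 0)))))) (.node (.node (.node (.node (.node (.leaf 916) (.leaf 27772)) (.node (.leaf 12430) (.leaf 0))) (.node (.node (.leaf 6379) (.leaf 0)) (.node (.leaf 19326) (.leaf 0)))) (.node (.node (.node (.leaf 3580) (.leaf 33515)) (.node (.leaf 15754) (.leaf 0))) (.node (.node (.leaf 9326) (.leaf 0)) (.node (.leaf 23252) (.leaf 0))))) (.node (.node (.node (.node (.leaf 2244) (.leaf 30391)) (.node (.leaf 14064) (.leaf 0))) (.node (.node (.leaf 7816) (.leaf 0)) (.node (.leaf 21249) (.leaf 0)))) (.node (.node (.node (.leaf 4964) (.leaf 37796)) (.node (.leaf 17526) (.leaf 0))) (.node (.node (.leaf 10833) (.leaf 0)) (.node (.leaf 25406) (.leaf 0))))))) (.node (.node (.node (.node (.node (.node (.leaf 589) (.leaf 27208)) (.node (.leaf 12025) (.leaf 0))) (.node (.node (.leaf 6006) (.leaf 0)) (.node (.leaf 18901) (.leaf 0))))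 (.node (.node (.node (.leaf 3227) (.leaf 32676)) (.node (.leaf 15339) (.leaf 0))) (.node (.node (.leaf 8932) (.leaf 0)) (.node (.leaf 22750) (.leaf 0))))) (.node (.node (.node (.node (.leaf 1905) (.leaf 29719)) (.node (.leaf 13653) (.leaf 0))) (.node (.node (.leaf 7454) (.leaf 0)) (.node (.leaf 20760) (.leaf 0)))) (.node (.node (.node (.leaf 4618) (.leaf 36586)) (.node (.leaf 17068) (.leaf 0))) (.node (.node (.leaf 10436) (.leaf 0)) (.node (.leaf 24859) (.leaf 0)))))) (.node (.node (.node (.node (.node (.leaf 1243) (.leaf 28386)) (.node (.leaf 12833) (.leaf 0))) (.node (.node (.leaf 6730) (.leaf 0)) (.node (.leaf 19770) (.leaf 0)))) (.node (.node (.node (.leaf 3920) (.leaf 34482)) (.node (.leaf 16201) (.leaf 0))) (.node (.node (.leaf 9691) (.leaf 0)) (.node (.leaf 23774) (.leaf 0))))) (.node (.node (.node (.node (.leaf 2568) (.leaf 31096)) (.node (.leaf 14468) (.leaf 0))) (.node (.node (.leaf 8185) (.leaf 0)) (.node (.leaf 21735) (.leaf 0)))) (.node (.node (.node (.leaf 5306) (.leaf 39555)) (.node (.leaf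 17974) (.leaf 0))) (.node (.node (.leaf 11210) (.leaf 0)) (.node (.leaf 26001) (.leaf 0))))))))

def pT85 : NT := .node (.node (.node (.node (.node (.node (.node (.node (.leaf 107) (.leaf 26297)) (.node (.leaf 11401) (.leaf 0))) (.node (.node (.leaf 5484) (.leaf 0)) (.node (.leaf 18189) (.leaf 0)))) (.node (.node (.node (.leaf 2734) (.leaf 31474)) (.node (.leaf 14685) (.leaf 0))) (.node (.node (.leaf 8372) (.leaf 0)) (.node (.leaf 21978) (.leaf 0))))) (.node (.node (.node (.node (.leaf 1408) (.leaf 28747)) (.node (.leaf 13033) (.leaf 0))) (.node (.node (.leaf 6920) (.leaf 0)) (.node (.leaf 20021) (.leaf 0)))) (.node (.node (.node (.leaf 4102) (.leaf 34992)) (.node (.leaf 16408) (.leaf 0))) (.node (.node (.leaf 9876) (.leaf 0)) (.node (.leaf 24040) (.leaf 0)))))) (.node (.node (.node (.node (.node (.leaf 752) (.leaf 27505)) (.node (.leaf 12235) (.leaf 0))) (.node (.node (.leaf 6194) (.leaf 0)) (.node (.leaf 19108) (.leaf 0)))) (.node (.node (.node (.leaf 3409) (.leaf 33073)) (.node (.leaf 15544) (.leaf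 0))) (.node (.node (.leaf 9133) (.leaf 0)) (.node (.leaf 23009) (.leaf 0))))) (.node (.node (.node (.node (.leaf 2077) (.leaf 30057)) (.node (.leaf 13866) (.leaf 0))) (.node (.node (.leaf 7628) (.leaf 0)) (.node (.leaf 21004) (.leaf 0)))) (.node (.node (.node (.leaf 4795) (.leaf 37214)) (.node (.leaf 17290) (.leaf 0))) (.node (.node (.leaf 10630) (.leaf 0)) (.node (.leaf 25151) (.leaf 0))))))) (.node (.node (.node (.node (.node (.node (.leaf 427) (.leaf 26894)) (.node (.leaf 11823) (.leaf 0))) (.node (.node (.leaf 5834) (.leaf 0)) (.node (.leaf 18674) (.leaf 0)))) (.node (.node (.node (.leaf 3062) (.leaf 32264)) (.node (.leaf 15133) (.leaf 0))) (.node (.node (.leaf 8741) (.leaf 0)) (.node (.leaf 22522) (.leaf 0))))) (.node (.node (.node (.node (.leaf 1740) (.leaf 29415)) (.node (.leaf 13442) (.leaf 0))) (.node (.node (.leaf 7272) (.leaf 0)) (.node (.leaf 20512) (.leaf 0)))) (.node (.node (.node (.leaf 4448) (.leaf 36007)) (.node (.leaf 16848) (.leaf 0))) (.node (.node (.leaf 10251) (.leaf 0)) (.node (.leaf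 24566) (.leaf 0)))))) (.node (.node (.node (.node (.node (.leaf 1083) (.leaf 28085)) (.node (.leaf 12632) (.leaf 0))) (.node (.node (.leaf 6555) (.leaf 0)) (.node (.leaf 19557) (.leaf 0)))) (.node (.node (.node (.leaf 3754) (.leaf 34000)) (.node (.leaf 15982) (.leaf 0))) (.node (.node (.leaf 9519) (.leaf 0)) (.node (.leaf 23528) (.leaf 0))))) (.node (.node (.node (.node (.leaf 2409) (.leaf 30753)) (.node (.leaf 14262) (.leaf 0))) (.node (.node (.leaf 7998) (.leaf 0)) (.node (.leaf 21489) (.leaf 0)))) (.node (.node (.node (.leaf 5136) (.leaf 38541)) (.node (.leaf 17738) (.leaf 0))) (.node (.node (.leaf 11020) (.leaf 0)) (.node (.leaf 25712) (.leaf 0)))))))) (.node (.node (.node (.node (.node (.node (.node (.leaf 266) (.leaf 26594)) (.node (.leaf 11606) (.leaf 0))) (.node (.node (.leaf 5664) (.leaf 0)) (.node (.leaf 18426) (.leaf 0)))) (.node (.node (.node (.leaf 2896) (.leaf 31882)) (.node (.leaf 14912) (.leaf 0))) (.node (.node (.leaf 8552) (.leaf 0)) (.node (.leaf 22236) (.leaf 0))))) (.node (.node (.node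 (.node (.leaf 1575) (.leaf 29064)) (.node (.leaf 13242) (.leaf 0))) (.node (.node (.leaf 7098) (.leaf 0)) (.node (.leaf 20262) (.leaf 0)))) (.node (.node (.node (.leaf 4276) (.leaf 35478)) (.node (.leaf 16614) (.leaf 0))) (.node (.node (.leaf 10056) (.leaf 0)) (.node (.leaf 24305) (.leaf 0)))))) (.node (.node (.node (.node (.node (.leaf 917) (.leaf 27773)) (.node (.leaf 12431) (.leaf 0))) (.node (.node (.leaf 6380) (.leaf 0)) (.node (.leaf 19328) (.leaf 0)))) (.node (.node (.node (.leaf 3581) (.leaf 33520)) (.node (.leaf 15755) (.leaf 0))) (.node (.node (.leaf 9327) (.leaf 0)) (.node (.leaf 23260) (.leaf 0))))) (.node (.node (.node (.node (.leaf 2245) (.leaf 30392)) (.node (.leaf 14065) (.leaf 0))) (.node (.node (.leaf 7817) (.leaf 0)) (.node (.leaf 21250) (.leaf 0)))) (.node (.node (.node (.leaf 4965) (.leaf 37798)) (.node (.leaf 17527) (.leaf 0))) (.node (.node (.leaf 10834) (.leaf 0)) (.node (.leaf 25408) (.leaf 0))))))) (.node (.node (.node (.node (.node (.node (.leaf 590) (.leaf 27210)) (.node (.leaf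 12026) (.leaf 0))) (.node (.node (.leaf 6007) (.leaf 0)) (.node (.leaf 18902) (.leaf 0)))) (.node (.node (.node (.leaf 3228) (.leaf 32679)) (.node (.leaf 15340) (.leaf 0))) (.node (.node (.leaf 8933) (.leaf 0)) (.node (.leaf 22752) (.leaf 0))))) (.node (.node (.node (.node (.leaf 1906) (.leaf 29724)) (.node (.leaf 13654) (.leaf 0))) (.node (.node (.leaf 7456) (.leaf 0)) (.node (.leaf 20761) (.leaf 0)))) (.node (.node (.node (.leaf 4620) (.leaf 36588)) (.node (.leaf 17069) (.leaf 0))) (.node (.node (.leaf 10438) (.leaf 0)) (.node (.leaf 24865) (.leaf 0)))))) (.node (.node (.node (.node (.node (.leaf 1244) (.leaf 28389)) (.node (.leaf 12834) (.leaf 0))) (.node (.node (.leaf 6731) (.leaf 0)) (.node (.leaf 19772) (.leaf 0)))) (.node (.node (.node (.leaf 3921) (.leaf 34486)) (.node (.leaf 16202) (.leaf 0))) (.node (.node (.leaf 9693) (.leaf 0)) (.node (.leaf 23777) (.leaf 0))))) (.node (.node (.node (.node (.leaf 2570) (.leaf 31100)) (.node (.leaf 14469) (.leaf 0))) (.node (.node (.leaf 8186) (.leaf 0)) (.node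 (.leaf 21740) (.leaf 0)))) (.node (.node (.node (.leaf 5307) (.leaf 39568)) (.node (.leaf 17975) (.leaf 0))) (.node (.node (.leaf 11211) (.leaf 0)) (.node (.leaf 26003) (.leaf 0))))))))

def pT86 : NT := .node (.node (.node (.node (.node (.node (.node (.node (.leaf 108) (.leaf 26300)) (.node (.leaf 11402) (.leaf 0))) (.node (.node (.leaf 5485) (.leaf 0)) (.node (.leaf 18190) (.leaf 0)))) (.node (.node (.node (.leaf 2735) (.leaf 31478)) (.node (.leaf 14686) (.leaf 0))) (.node (.node (.leaf 8374) (.leaf 0)) (.node (.leaf 21980) (.leaf 0))))) (.node (.node (.node (.node (.leaf 1410) (.leaf 28748)) (.node (.leaf 13034) (.leaf 0))) (.node (.node (.leaf 6921) (.leaf 0)) (.node (.leaf 20025) (.leaf 0)))) (.node (.node (.node (.leaf 4103) (.leaf 34994)) (.node (.leaf 16409) (.leaf 0))) (.node (.node (.leaf 9878) (.leaf 0)) (.node (.leaf 24042) (.leaf 0)))))) (.node (.node (.node (.node (.node (.leaf 754) (.leaf 27508)) (.node (.leaf 12236) (.leaf 0))) (.node (.node (.leaf 6195) (.leaf 0)) (.node (.leaf 19110)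 (.leaf 0)))) (.node (.node (.node (.leaf 3410) (.leaf 33074)) (.node (.leaf 15545) (.leaf 0))) (.node (.node (.leaf 9134) (.leaf 0)) (.node (.leaf 23010) (.leaf 0))))) (.node (.node (.node (.node (.leaf 2078) (.leaf 30058)) (.node (.leaf 13868) (.leaf 0))) (.node (.node (.leaf 7630) (.leaf 0)) (.node (.leaf 21006) (.leaf 0)))) (.node (.node (.node (.leaf 4796) (.leaf 37216)) (.node (.leaf 17294) (.leaf 0))) (.node (.node (.leaf 10632) (.leaf 0)) (.node (.leaf 25152) (.leaf 0))))))) (.node (.node (.node (.node (.node (.node (.leaf 428) (.leaf 26896)) (.node (.leaf 11824) (.leaf 0))) (.node (.node (.leaf 5835) (.leaf 0)) (.node (.leaf 18675) (.leaf 0)))) (.node (.node (.node (.leaf 3065) (.leaf 32267)) (.node (.leaf 15135) (.leaf 0))) (.node (.node (.leaf 8742) (.leaf 0)) (.node (.leaf 22525) (.leaf 0))))) (.node (.node (.node (.node (.leaf 1741) (.leaf 29422)) (.node (.leaf 13444) (.leaf 0))) (.node (.node (.leaf 7274) (.leaf 0)) (.node (.leaf 20513) (.leaf 0)))) (.node (.node (.node (.leaf 4449) (.leaf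 36008)) (.node (.leaf 16850) (.leaf 0))) (.node (.node (.leaf 10252) (.leaf 0)) (.node (.leaf 24570) (.leaf 0)))))) (.node (.node (.node (.node (.node (.leaf 1084) (.leaf 28086)) (.node (.leaf 12634) (.leaf 0))) (.node (.node (.leaf 6558) (.leaf 0)) (.node (.leaf 19558) (.leaf 0)))) (.node (.node (.node (.leaf 3756) (.leaf 34005)) (.node (.leaf 15984) (.leaf 0))) (.node (.node (.leaf 9520) (.leaf 0)) (.node (.leaf 23530) (.leaf 0))))) (.node (.node (.node (.node (.leaf 2410) (.leaf 30756)) (.node (.leaf 14263) (.leaf 0))) (.node (.node (.leaf 8000) (.leaf 0)) (.node (.leaf 21490) (.leaf 0)))) (.node (.node (.node (.leaf 5138) (.leaf 38546)) (.node (.leaf 17740) (.leaf 0))) (.node (.node (.leaf 11021) (.leaf 0)) (.node (.leaf 25716) (.leaf 0)))))))) (.node (.node (.node (.node (.node (.node (.node (.leaf 268) (.leaf 26595)) (.node (.leaf 11608) (.leaf 0))) (.node (.node (.leaf 5665) (.leaf 0)) (.node (.leaf 18428) (.leaf 0)))) (.node (.node (.node (.leaf 2898) (.leaf 31890)) (.node (.leaf 14913) (.leaf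 0))) (.node (.node (.leaf 8554) (.leaf 0)) (.node (.leaf 22237) (.leaf 0))))) (.node (.node (.node (.node (.leaf 1576) (.leaf 29066)) (.node (.leaf 13244) (.leaf 0))) (.node (.node (.leaf 7099) (.leaf 0)) (.node (.leaf 20264) (.leaf 0)))) (.node (.node (.node (.leaf 4278) (.leaf 35493)) (.node (.leaf 16616) (.leaf 0))) (.node (.node (.leaf 10057) (.leaf 0)) (.node (.leaf 24306) (.leaf 0)))))) (.node (.node (.node (.node (.node (.leaf 918) (.leaf 27774)) (.node (.leaf 12432) (.leaf 0))) (.node (.node (.leaf 6381) (.leaf 0)) (.node (.leaf 19331) (.leaf 0)))) (.node (.node (.node (.leaf 3584) (.leaf 33521)) (.node (.leaf 15756) (.leaf 0))) (.node (.node (.leaf 9330) (.leaf 0)) (.node (.leaf 23261) (.leaf 0))))) (.node (.node (.node (.node (.leaf 2246) (.leaf 30394)) (.node (.leaf 14066) (.leaf 0))) (.node (.node (.leaf 7818) (.leaf 0)) (.node (.leaf 21252) (.leaf 0)))) (.node (.node (.node (.leaf 4966) (.leaf 37799)) (.node (.leaf 17529) (.leaf 0))) (.node (.node (.leaf 10835) (.leaf 0)) (.node (.leaf 25409)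 (.leaf 0))))))) (.node (.node (.node (.node (.node (.node (.leaf 591) (.leaf 27211)) (.node (.leaf 12030) (.leaf 0))) (.node (.node (.leaf 6008) (.leaf 0)) (.node (.leaf 18903) (.leaf 0)))) (.node (.node (.node (.leaf 3230) (.leaf 32682)) (.node (.leaf 15342) (.leaf 0))) (.node (.node (.leaf 8934) (.leaf 0)) (.node (.leaf 22753) (.leaf 0))))) (.node (.node (.node (.node (.leaf 1909) (.leaf 29725)) (.node (.leaf 13656) (.leaf 0))) (.node (.node (.leaf 7457) (.leaf 0)) (.node (.leaf 20762) (.leaf 0)))) (.node (.node (.node (.leaf 4621) (.leaf 36590)) (.node (.leaf 17070) (.leaf 0))) (.node (.node (.leaf 10439) (.leaf 0)) (.node (.leaf 24867) (.leaf 0)))))) (.node (.node (.node (.node (.node (.leaf 1245) (.leaf 28390)) (.node (.leaf 12835) (.leaf 0))) (.node (.node (.leaf 6732) (.leaf 0)) (.node (.leaf 19774) (.leaf 0)))) (.node (.node (.node (.leaf 3922) (.leaf 34488)) (.node (.leaf 16206) (.leaf 0))) (.node (.node (.leaf 9694) (.leaf 0)) (.node (.leaf 23781) (.leaf 0))))) (.node (.node (.node (.node (.leaf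 2571) (.leaf 31104)) (.node (.leaf 14470) (.leaf 0))) (.node (.node (.leaf 8187) (.leaf 0)) (.node (.leaf 21742) (.leaf 0)))) (.node (.node (.node (.leaf 5308) (.leaf 39600)) (.node (.leaf 17976) (.leaf 0))) (.node (.node (.leaf 11212) (.leaf 0)) (.node (.leaf 26012) (.leaf 0))))))))

def pT87 : NT := .node (.node (.node (.node (.node (.node (.node (.node (.leaf 109) (.leaf 26302)) (.node (.leaf 11405) (.leaf 0))) (.node (.node (.leaf 5486) (.leaf 0)) (.node (.leaf 18194) (.leaf 0)))) (.node (.node (.node (.leaf 2736) (.leaf 31479)) (.node (.leaf 14687) (.leaf 0))) (.node (.node (.leaf 8375) (.leaf 0)) (.node (.leaf 21985) (.leaf 0))))) (.node (.node (.node (.node (.leaf 1411) (.leaf 28756)) (.node (.leaf 13036) (.leaf 0))) (.node (.node (.leaf 6922) (.leaf 0)) (.node (.leaf 20028) (.leaf 0)))) (.node (.node (.node (.leaf 4104) (.leaf 35000)) (.node (.leaf 16410) (.leaf 0))) (.node (.node (.leaf 9880) (.leaf 0)) (.node (.leaf 24044) (.leaf 0)))))) (.node (.node (.node (.node (.node (.leaf 755) (.leaf 27510))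 (.node (.leaf 12238) (.leaf 0))) (.node (.node (.leaf 6196) (.leaf 0)) (.node (.leaf 19111) (.leaf 0)))) (.node (.node (.node (.leaf 3411) (.leaf 33076)) (.node (.leaf 15546) (.leaf 0))) (.node (.node (.leaf 9135) (.leaf 0)) (.node (.leaf 23012) (.leaf 0))))) (.node (.node (.node (.node (.leaf 2079) (.leaf 30066)) (.node (.leaf 13869) (.leaf 0))) (.node (.node (.leaf 7631) (.leaf 0)) (.node (.leaf 21008) (.leaf 0)))) (.node (.node (.node (.leaf 4798) (.leaf 37219)) (.node (.leaf 17296) (.leaf 0))) (.node (.node (.leaf 10633) (.leaf 0)) (.node (.leaf 25158) (.leaf 0))))))) (.node (.node (.node (.node (.node (.node (.leaf 429) (.leaf 26898)) (.node (.leaf 11826) (.leaf 0))) (.node (.node (.leaf 5836) (.leaf 0)) (.node (.leaf 18676) (.leaf 0)))) (.node (.node (.node (.leaf 3066) (.leaf 32270)) (.node (.leaf 15136) (.leaf 0))) (.node (.node (.leaf 8744) (.leaf 0)) (.node (.leaf 22527) (.leaf 0))))) (.node (.node (.node (.node (.leaf 1742) (.leaf 29423)) (.node (.leaf 13445) (.leaf 0))) (.node (.node (.leaf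 7275) (.leaf 0)) (.node (.leaf 20514) (.leaf 0)))) (.node (.node (.node (.leaf 4451) (.leaf 36010)) (.node (.leaf 16852) (.leaf 0))) (.node (.node (.leaf 10254) (.leaf 0)) (.node (.leaf 24572) (.leaf 0)))))) (.node (.node (.node (.node (.node (.leaf 1085) (.leaf 28090)) (.node (.leaf 12637) (.leaf 0))) (.node (.node (.leaf 6559) (.leaf 0)) (.node (.leaf 19563) (.leaf 0)))) (.node (.node (.node (.leaf 3757) (.leaf 34017)) (.node (.leaf 15985) (.leaf 0))) (.node (.node (.leaf 9522) (.leaf 0)) (.node (.leaf 23531) (.leaf 0))))) (.node (.node (.node (.node (.leaf 2412) (.leaf 30759)) (.node (.leaf 14264) (.leaf 0))) (.node (.node (.leaf 8001) (.leaf 0)) (.node (.leaf 21492) (.leaf 0)))) (.node (.node (.node (.leaf 5139) (.leaf 38554)) (.node (.leaf 17741) (.leaf 0))) (.node (.node (.leaf 11022) (.leaf 0)) (.node (.leaf 25718) (.leaf 0)))))))) (.node (.node (.node (.node (.node (.node (.node (.leaf 269) (.leaf 26596)) (.node (.leaf 11609) (.leaf 0))) (.node (.node (.leaf 5666) (.leaf 0)) (.node (.leaf 18430)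 (.leaf 0)))) (.node (.node (.node (.leaf 2899) (.leaf 31891)) (.node (.leaf 14916) (.leaf 0))) (.node (.node (.leaf 8555) (.leaf 0)) (.node (.leaf 22238) (.leaf 0))))) (.node (.node (.node (.node (.leaf 1577) (.leaf 29074)) (.node (.leaf 13246) (.leaf 0))) (.node (.node (.leaf 7100) (.leaf 0)) (.node (.leaf 20265) (.leaf 0)))) (.node (.node (.node (.leaf 4279) (.leaf 35505)) (.node (.leaf 16617) (.leaf 0))) (.node (.node (.leaf 10058) (.leaf 0)) (.node (.leaf 24310) (.leaf 0)))))) (.node (.node (.node (.node (.node (.leaf 919) (.leaf 27776)) (.node (.leaf 12434) (.leaf 0))) (.node (.node (.leaf 6382) (.leaf 0)) (.node (.leaf 19332) (.leaf 0)))) (.node (.node (.node (.leaf 3585) (.leaf 33524)) (.node (.leaf 15758) (.leaf 0))) (.node (.node (.leaf 9333) (.leaf 0)) (.node (.leaf 23264) (.leaf 0))))) (.node (.node (.node (.node (.leaf 2248) (.leaf 30398)) (.node (.leaf 14068) (.leaf 0))) (.node (.node (.leaf 7819) (.leaf 0)) (.node (.leaf 21253) (.leaf 0)))) (.node (.node (.node (.leaf 4968) (.leaf 37800))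 (.node (.leaf 17530) (.leaf 0))) (.node (.node (.leaf 10836) (.leaf 0)) (.node (.leaf 25412) (.leaf 0))))))) (.node (.node (.node (.node (.node (.node (.leaf 592) (.leaf 27214)) (.node (.leaf 12031) (.leaf 0))) (.node (.node (.leaf 6010) (.leaf 0)) (.node (.leaf 18906) (.leaf 0)))) (.node (.node (.node (.leaf 3231) (.leaf 32689)) (.node (.leaf 15343) (.leaf 0))) (.node (.node (.leaf 8936) (.leaf 0)) (.node (.leaf 22754) (.leaf 0))))) (.node (.node (.node (.node (.leaf 1910) (.leaf 29726)) (.node (.leaf 13658) (.leaf 0))) (.node (.node (.leaf 7458) (.leaf 0)) (.node (.leaf 20763) (.leaf 0)))) (.node (.node (.node (.leaf 4622) (.leaf 36593)) (.node (.leaf 17071) (.leaf 0))) (.node (.node (.leaf 10440) (.leaf 0)) (.node (.leaf 24868) (.leaf 0)))))) (.node (.node (.node (.node (.node (.leaf 1246) (.leaf 28392)) (.node (.leaf 12837) (.leaf 0))) (.node (.node (.leaf 6734) (.leaf 0)) (.node (.leaf 19775) (.leaf 0)))) (.node (.node (.node (.leaf 3924) (.leaf 34491)) (.node (.leaf 16207) (.leaf 0))) (.node (.node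 (.leaf 9695) (.leaf 0)) (.node (.leaf 23782) (.leaf 0))))) (.node (.node (.node (.node (.leaf 2572) (.leaf 31108)) (.node (.leaf 14472) (.leaf 0))) (.node (.node (.leaf 8188) (.leaf 0)) (.node (.leaf 21743) (.leaf 0)))) (.node (.node (.node (.leaf 5310) (.leaf 39611)) (.node (.leaf 17978) (.leaf 0))) (.node (.node (.leaf 11214) (.leaf 0)) (.node (.leaf 26014) (.leaf 0))))))))

def pT88 : NT := .node (.node (.node (.node (.node (.node (.node (.node (.leaf 110) (.leaf 26308)) (.node (.leaf 11406) (.leaf 0))) (.node (.node (.leaf 5488) (.leaf 0)) (.node (.leaf 18195) (.leaf 0)))) (.node (.node (.node (.leaf 2737) (.leaf 31488)) (.node (.leaf 14688) (.leaf 0))) (.node (.node (.leaf 8376) (.leaf 0)) (.node (.leaf 21987) (.leaf 0))))) (.node (.node (.node (.node (.leaf 1412) (.leaf 28757)) (.node (.leaf 13037) (.leaf 0))) (.node (.node (.leaf 6923) (.leaf 0)) (.node (.leaf 20030) (.leaf 0)))) (.node (.node (.node (.leaf 4105) (.leaf 35001)) (.node (.leaf 16413) (.leaf 0))) (.node (.node (.leaf 9882) (.leaf 0))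 (.node (.leaf 24047) (.leaf 0)))))) (.node (.node (.node (.node (.node (.leaf 756) (.leaf 27511)) (.node (.leaf 12240) (.leaf 0))) (.node (.node (.leaf 6197) (.leaf 0)) (.node (.leaf 19112) (.leaf 0)))) (.node (.node (.node (.leaf 3412) (.leaf 33078)) (.node (.leaf 15547) (.leaf 0))) (.node (.node (.leaf 9136) (.leaf 0)) (.node (.leaf 23014) (.leaf 0))))) (.node (.node (.node (.node (.leaf 2080) (.leaf 30071)) (.node (.leaf 13870) (.leaf 0))) (.node (.node (.leaf 7632) (.leaf 0)) (.node (.leaf 21010) (.leaf 0)))) (.node (.node (.node (.leaf 4799) (.leaf 37224)) (.node (.leaf 17298) (.leaf 0))) (.node (.node (.leaf 10634) (.leaf 0)) (.node (.leaf 25160) (.leaf 0))))))) (.node (.node (.node (.node (.node (.node (.leaf 430) (.leaf 26899)) (.node (.leaf 11827) (.leaf 0))) (.node (.node (.leaf 5838) (.leaf 0)) (.node (.leaf 18680) (.leaf 0)))) (.node (.node (.node (.leaf 3068) (.leaf 32272)) (.node (.leaf 15139) (.leaf 0))) (.node (.node (.leaf 8745) (.leaf 0)) (.node (.leaf 22528) (.leaf 0))))) (.node (.node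 (.node (.node (.leaf 1744) (.leaf 29424)) (.node (.leaf 13449) (.leaf 0))) (.node (.node (.leaf 7276) (.leaf 0)) (.node (.leaf 20516) (.leaf 0)))) (.node (.node (.node (.leaf 4452) (.leaf 36013)) (.node (.leaf 16857) (.leaf 0))) (.node (.node (.leaf 10255) (.leaf 0)) (.node (.leaf 24573) (.leaf 0)))))) (.node (.node (.node (.node (.node (.leaf 1086) (.leaf 28093)) (.node (.leaf 12638) (.leaf 0))) (.node (.node (.leaf 6560) (.leaf 0)) (.node (.leaf 19564) (.leaf 0)))) (.node (.node (.node (.leaf 3758) (.leaf 34018)) (.node (.leaf 15986) (.leaf 0))) (.node (.node (.leaf 9523) (.leaf 0)) (.node (.leaf 23532) (.leaf 0))))) (.node (.node (.node (.node (.leaf 2413) (.leaf 30761)) (.node (.leaf 14266) (.leaf 0))) (.node (.node (.leaf 8002) (.leaf 0)) (.node (.leaf 21494) (.leaf 0)))) (.node (.node (.node (.leaf 5140) (.leaf 38563)) (.node (.leaf 17742) (.leaf 0))) (.node (.node (.leaf 11024) (.leaf 0)) (.node (.leaf 25720) (.leaf 0)))))))) (.node (.node (.node (.node (.node (.node (.node (.leaf 270) (.leaf 26597))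 (.node (.leaf 11610) (.leaf 0))) (.node (.node (.leaf 5668) (.leaf 0)) (.node (.leaf 18431) (.leaf 0)))) (.node (.node (.node (.leaf 2900) (.leaf 31894)) (.node (.leaf 14917) (.leaf 0))) (.node (.node (.leaf 8556) (.leaf 0)) (.node (.leaf 22240) (.leaf 0))))) (.node (.node (.node (.node (.leaf 1578) (.leaf 29076)) (.node (.leaf 13247) (.leaf 0))) (.node (.node (.leaf 7102) (.leaf 0)) (.node (.leaf 20267) (.leaf 0)))) (.node (.node (.node (.leaf 4280) (.leaf 35507)) (.node (.leaf 16618) (.leaf 0))) (.node (.node (.leaf 10060) (.leaf 0)) (.node (.leaf 24311) (.leaf 0)))))) (.node (.node (.node (.node (.node (.leaf 920) (.leaf 27778)) (.node (.leaf 12436) (.leaf 0))) (.node (.node (.leaf 6383) (.leaf 0)) (.node (.leaf 19334) (.leaf 0)))) (.node (.node (.node (.leaf 3586) (.leaf 33529)) (.node (.leaf 15759) (.leaf 0))) (.node (.node (.leaf 9334) (.leaf 0)) (.node (.leaf 23267) (.leaf 0))))) (.node (.node (.node (.node (.leaf 2249) (.leaf 30400)) (.node (.leaf 14070) (.leaf 0))) (.node (.node (.leaf 7822) (.leaf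 0)) (.node (.leaf 21259) (.leaf 0)))) (.node (.node (.node (.leaf 4969) (.leaf 37801)) (.node (.leaf 17532) (.leaf 0))) (.node (.node (.leaf 10838) (.leaf 0)) (.node (.leaf 25416) (.leaf 0))))))) (.node (.node (.node (.node (.node (.node (.leaf 594) (.leaf 27215)) (.node (.leaf 12032) (.leaf 0))) (.node (.node (.leaf 6011) (.leaf 0)) (.node (.leaf 18910) (.leaf 0)))) (.node (.node (.node (.leaf 3232) (.leaf 32692)) (.node (.leaf 15344) (.leaf 0))) (.node (.node (.leaf 8937) (.leaf 0)) (.node (.leaf 22755) (.leaf 0))))) (.node (.node (.node (.node (.leaf 1911) (.leaf 29728)) (.node (.leaf 13659) (.leaf 0))) (.node (.node (.leaf 7459) (.leaf 0)) (.node (.leaf 20764) (.leaf 0)))) (.node (.node (.node (.leaf 4624) (.leaf 36594)) (.node (.leaf 17072) (.leaf 0))) (.node (.node (.leaf 10442) (.leaf 0)) (.node (.leaf 24870) (.leaf 0)))))) (.node (.node (.node (.node (.node (.leaf 1248) (.leaf 28397)) (.node (.leaf 12838) (.leaf 0))) (.node (.node (.leaf 6735) (.leaf 0)) (.node (.leaf 19776) (.leaf 0)))) (.node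 (.node (.node (.leaf 3925) (.leaf 34496)) (.node (.leaf 16208) (.leaf 0))) (.node (.node (.leaf 9698) (.leaf 0)) (.node (.leaf 23784) (.leaf 0))))) (.node (.node (.node (.node (.leaf 2573) (.leaf 31110)) (.node (.leaf 14474) (.leaf 0))) (.node (.node (.leaf 8190) (.leaf 0)) (.node (.leaf 21744) (.leaf 0)))) (.node (.node (.node (.leaf 5311) (.leaf 39613)) (.node (.leaf 17979) (.leaf 0))) (.node (.node (.leaf 11215) (.leaf 0)) (.node (.leaf 26018) (.leaf 0))))))))

def pT89 : NT := .node (.node (.node (.node (.node (.node (.node (.node (.leaf 112) (.leaf 26309)) (.node (.leaf 11408) (.leaf 0))) (.node (.node (.leaf 5490) (.leaf 0)) (.node (.leaf 18196) (.leaf 0)))) (.node (.node (.node (.leaf 2738) (.leaf 31490)) (.node (.leaf 14693) (.leaf 0))) (.node (.node (.leaf 8377) (.leaf 0)) (.node (.leaf 21992) (.leaf 0))))) (.node (.node (.node (.node (.leaf 1414) (.leaf 28761)) (.node (.leaf 13038) (.leaf 0))) (.node (.node (.leaf 6924) (.leaf 0)) (.node (.leaf 20034) (.leaf 0)))) (.node (.node (.node (.leaf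 4108) (.leaf 35003)) (.node (.leaf 16414) (.leaf 0))) (.node (.node (.leaf 9883) (.leaf 0)) (.node (.leaf 24052) (.leaf 0)))))) (.node (.node (.node (.node (.node (.leaf 757) (.leaf 27514)) (.node (.leaf 12241) (.leaf 0))) (.node (.node (.leaf 6198) (.leaf 0)) (.node (.leaf 19114) (.leaf 0)))) (.node (.node (.node (.leaf 3414) (.leaf 33086)) (.node (.leaf 15550) (.leaf 0))) (.node (.node (.leaf 9138) (.leaf 0)) (.node (.leaf 23015) (.leaf 0))))) (.node (.node (.node (.node (.leaf 2082) (.leaf 30072)) (.node (.leaf 13871) (.leaf 0))) (.node (.node (.leaf 7634) (.leaf 0)) (.node (.leaf 21011) (.leaf 0)))) (.node (.node (.node (.leaf 4800) (.leaf 37225)) (.node (.leaf 17299) (.leaf 0))) (.node (.node (.leaf 10635) (.leaf 0)) (.node (.leaf 25161) (.leaf 0))))))) (.node (.node (.node (.node (.node (.node (.leaf 432) (.leaf 26903)) (.node (.leaf 11828) (.leaf 0))) (.node (.node (.leaf 5839) (.leaf 0)) (.node (.leaf 18683) (.leaf 0)))) (.node (.node (.node (.leaf 3070) (.leaf 32275)) (.node (.leaf 15140) (.leaf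 0))) (.node (.node (.leaf 8746) (.leaf 0)) (.node (.leaf 22532) (.leaf 0))))) (.node (.node (.node (.node (.leaf 1746) (.leaf 29426)) (.node (.leaf 13451) (.leaf 0))) (.node (.node (.leaf 7278) (.leaf 0)) (.node (.leaf 20517) (.leaf 0)))) (.node (.node (.node (.leaf 4453) (.leaf 36022)) (.node (.leaf 16858) (.leaf 0))) (.node (.node (.leaf 10256) (.leaf 0)) (.node (.leaf 24574) (.leaf 0)))))) (.node (.node (.node (.node (.node (.leaf 1088) (.leaf 28098)) (.node (.leaf 12640) (.leaf 0))) (.node (.node (.leaf 6564) (.leaf 0)) (.node (.leaf 19565) (.leaf 0)))) (.node (.node (.node (.leaf 3759) (.leaf 34028)) (.node (.leaf 15987) (.leaf 0))) (.node (.node (.leaf 9524) (.leaf 0)) (.node (.leaf 23533) (.leaf 0))))) (.node (.node (.node (.node (.leaf 2414) (.leaf 30762)) (.node (.leaf 14267) (.leaf 0))) (.node (.node (.leaf 8004) (.leaf 0)) (.node (.leaf 21496) (.leaf 0)))) (.node (.node (.node (.leaf 5141) (.leaf 38566)) (.node (.leaf 17743) (.leaf 0))) (.node (.node (.leaf 11025) (.leaf 0)) (.node (.leaf 25722)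 (.leaf 0)))))))) (.node (.node (.node (.node (.node (.node (.node (.leaf 272) (.leaf 26598)) (.node (.leaf 11613) (.leaf 0))) (.node (.node (.leaf 5670) (.leaf 0)) (.node (.leaf 18432) (.leaf 0)))) (.node (.node (.node (.leaf 2902) (.leaf 31895)) (.node (.leaf 14919) (.leaf 0))) (.node (.node (.leaf 8558) (.leaf 0)) (.node (.leaf 22248) (.leaf 0))))) (.node (.node (.node (.node (.leaf 1579) (.leaf 29078)) (.node (.leaf 13248) (.leaf 0))) (.node (.node (.leaf 7103) (.leaf 0)) (.node (.leaf 20268) (.leaf 0)))) (.node (.node (.node (.leaf 4282) (.leaf 35508)) (.node (.leaf 16619) (.leaf 0))) (.node (.node (.leaf 10061) (.leaf 0)) (.node (.leaf 24312) (.leaf 0)))))) (.node (.node (.node (.node (.node (.leaf 922) (.leaf 27780)) (.node (.leaf 12437) (.leaf 0))) (.node (.node (.leaf 6384) (.leaf 0)) (.node (.leaf 19335) (.leaf 0)))) (.node (.node (.node (.leaf 3587) (.leaf 33530)) (.node (.leaf 15761) (.leaf 0))) (.node (.node (.leaf 9336) (.leaf 0)) (.node (.leaf 23269) (.leaf 0))))) (.node (.node (.node (.node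 (.leaf 2250) (.leaf 30404)) (.node (.leaf 14072) (.leaf 0))) (.node (.node (.leaf 7823) (.leaf 0)) (.node (.leaf 21260) (.leaf 0)))) (.node (.node (.node (.leaf 4970) (.leaf 37802)) (.node (.leaf 17534) (.leaf 0))) (.node (.node (.leaf 10839) (.leaf 0)) (.node (.leaf 25417) (.leaf 0))))))) (.node (.node (.node (.node (.node (.node (.leaf 595) (.leaf 27216)) (.node (.leaf 12034) (.leaf 0))) (.node (.node (.leaf 6012) (.leaf 0)) (.node (.leaf 18913) (.leaf 0)))) (.node (.node (.node (.leaf 3234) (.leaf 32699)) (.node (.leaf 15346) (.leaf 0))) (.node (.node (.leaf 8939) (.leaf 0)) (.node (.leaf 22756) (.leaf 0))))) (.node (.node (.node (.node (.leaf 1912) (.leaf 29730)) (.node (.leaf 13660) (.leaf 0))) (.node (.node (.leaf 7460) (.leaf 0)) (.node (.leaf 20766) (.leaf 0)))) (.node (.node (.node (.leaf 4625) (.leaf 36598)) (.node (.leaf 17074) (.leaf 0))) (.node (.node (.leaf 10443) (.leaf 0)) (.node (.leaf 24872) (.leaf 0)))))) (.node (.node (.node (.node (.node (.leaf 1249) (.leaf 28404)) (.node (.leaf 12840)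 (.leaf 0))) (.node (.node (.leaf 6736) (.leaf 0)) (.node (.leaf 19778) (.leaf 0)))) (.node (.node (.node (.leaf 3926) (.leaf 34502)) (.node (.leaf 16211) (.leaf 0))) (.node (.node (.leaf 9699) (.leaf 0)) (.node (.leaf 23786) (.leaf 0))))) (.node (.node (.node (.node (.leaf 2574) (.leaf 31115)) (.node (.leaf 14475) (.leaf 0))) (.node (.node (.leaf 8191) (.leaf 0)) (.node (.leaf 21745) (.leaf 0)))) (.node (.node (.node (.leaf 5312) (.leaf 39617)) (.node (.leaf 17982) (.leaf 0))) (.node (.node (.leaf 11217) (.leaf 0)) (.node (.leaf 26020) (.leaf 0))))))))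

def pT90 : NT := .node (.node (.node (.node (.node (.node (.node (.node (.leaf 113) (.leaf 26311)) (.node (.leaf 11409) (.leaf 0))) (.node (.node (.leaf 5491) (.leaf 0)) (.node (.leaf 18199) (.leaf 0)))) (.node (.node (.node (.leaf 2739) (.leaf 31494)) (.node (.leaf 14694) (.leaf 0))) (.node (.node (.leaf 8378) (.leaf 0)) (.node (.leaf 21993) (.leaf 0))))) (.node (.node (.node (.node (.leaf 1415) (.leaf 28762)) (.node (.leaf 13039) (.leaf 0))) (.node (.node (.leaf 6926) (.leaf 0)) (.node (.leaf 20035) (.leaf 0)))) (.node (.node (.node (.leaf 4109) (.leaf 35009)) (.node (.leaf 16416) (.leaf 0))) (.node (.node (.leaf 9884) (.leaf 0)) (.node (.leaf 24053) (.leaf 0)))))) (.node (.node (.node (.node (.node (.leaf 758) (.leaf 27515)) (.node (.leaf 12242) (.leaf 0))) (.node (.node (.leaf 6200) (.leaf 0)) (.node (.leaf 19115) (.leaf 0)))) (.node (.node (.node (.leaf 3415) (.leaf 33090)) (.node (.leaf 15551) (.leaf 0))) (.node (.node (.leaf 9139) (.leaf 0)) (.node (.leaf 23016) (.leaf 0))))) (.node (.node (.node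 (.node (.leaf 2083) (.leaf 30073)) (.node (.leaf 13872) (.leaf 0))) (.node (.node (.leaf 7635) (.leaf 0)) (.node (.leaf 21015) (.leaf 0)))) (.node (.node (.node (.leaf 4801) (.leaf 37227)) (.node (.leaf 17300) (.leaf 0))) (.node (.node (.leaf 10638) (.leaf 0)) (.node (.leaf 25163) (.leaf 0))))))) (.node (.node (.node (.node (.node (.node (.leaf 433) (.leaf 26905)) (.node (.leaf 11829) (.leaf 0))) (.node (.node (.leaf 5840) (.leaf 0)) (.node (.leaf 18688) (.leaf 0)))) (.node (.node (.node (.leaf 3071) (.leaf 32276)) (.node (.leaf 15142) (.leaf 0))) (.node (.node (.leaf 8748) (.leaf 0)) (.node (.leaf 22533) (.leaf 0))))) (.node (.node (.node (.node (.leaf 1748) (.leaf 29430)) (.node (.leaf 13452) (.leaf 0))) (.node (.node (.leaf 7280) (.leaf 0)) (.node (.leaf 20521) (.leaf 0)))) (.node (.node (.node (.leaf 4454) (.leaf 36029)) (.node (.leaf 16860) (.leaf 0))) (.node (.node (.leaf 10257) (.leaf 0)) (.node (.leaf 24576) (.leaf 0)))))) (.node (.node (.node (.node (.node (.leaf 1089) (.leaf 28099)) (.node (.leaf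 12642) (.leaf 0))) (.node (.node (.leaf 6565) (.leaf 0)) (.node (.leaf 19566) (.leaf 0)))) (.node (.node (.node (.leaf 3760) (.leaf 34030)) (.node (.leaf 15988) (.leaf 0))) (.node (.node (.leaf 9526) (.leaf 0)) (.node (.leaf 23536) (.leaf 0))))) (.node (.node (.node (.node (.leaf 2415) (.leaf 30764)) (.node (.leaf 14268) (.leaf 0))) (.node (.node (.leaf 8006) (.leaf 0)) (.node (.leaf 21499) (.leaf 0)))) (.node (.node (.node (.leaf 5142) (.leaf 38567)) (.node (.leaf 17744) (.leaf 0))) (.node (.node (.leaf 11026) (.leaf 0)) (.node (.leaf 25724) (.leaf 0)))))))) (.node (.node (.node (.node (.node (.node (.node (.leaf 273) (.leaf 26602)) (.node (.leaf 11614) (.leaf 0))) (.node (.node (.leaf 5671) (.leaf 0)) (.node (.leaf 18433) (.leaf 0)))) (.node (.node (.node (.leaf 2903) (.leaf 31904)) (.node (.leaf 14923) (.leaf 0))) (.node (.node (.leaf 8559) (.leaf 0)) (.node (.leaf 22249) (.leaf 0))))) (.node (.node (.node (.node (.leaf 1580) (.leaf 29080)) (.node (.leaf 13249) (.leaf 0))) (.node (.node (.leaf 7104)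 (.leaf 0)) (.node (.leaf 20270) (.leaf 0)))) (.node (.node (.node (.leaf 4283) (.leaf 35509)) (.node (.leaf 16622) (.leaf 0))) (.node (.node (.leaf 10062) (.leaf 0)) (.node (.leaf 24317) (.leaf 0)))))) (.node (.node (.node (.node (.node (.leaf 923) (.leaf 27782)) (.node (.leaf 12439) (.leaf 0))) (.node (.node (.leaf 6386) (.leaf 0)) (.node (.leaf 19337) (.leaf 0)))) (.node (.node (.node (.leaf 3588) (.leaf 33531)) (.node (.leaf 15762) (.leaf 0))) (.node (.node (.leaf 9338) (.leaf 0)) (.node (.leaf 23270) (.leaf 0))))) (.node (.node (.node (.node (.leaf 2251) (.leaf 30405)) (.node (.leaf 14074) (.leaf 0))) (.node (.node (.leaf 7825) (.leaf 0)) (.node (.leaf 21262) (.leaf 0)))) (.node (.node (.node (.leaf 4971) (.leaf 37806)) (.node (.leaf 17535) (.leaf 0))) (.node (.node (.leaf 10840) (.leaf 0)) (.node (.leaf 25418) (.leaf 0))))))) (.node (.node (.node (.node (.node (.node (.leaf 596) (.leaf 27220)) (.node (.leaf 12035) (.leaf 0))) (.node (.node (.leaf 6014) (.leaf 0)) (.node (.leaf 18914) (.leaf 0))))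 (.node (.node (.node (.leaf 3235) (.leaf 32700)) (.node (.leaf 15347) (.leaf 0))) (.node (.node (.leaf 8940) (.leaf 0)) (.node (.leaf 22757) (.leaf 0))))) (.node (.node (.node (.node (.leaf 1913) (.leaf 29731)) (.node (.leaf 13662) (.leaf 0))) (.node (.node (.leaf 7462) (.leaf 0)) (.node (.leaf 20768) (.leaf 0)))) (.node (.node (.node (.leaf 4626) (.leaf 36607)) (.node (.leaf 17076) (.leaf 0))) (.node (.node (.leaf 10444) (.leaf 0)) (.node (.leaf 24873) (.leaf 0)))))) (.node (.node (.node (.node (.node (.leaf 1250) (.leaf 28405)) (.node (.leaf 12842) (.leaf 0))) (.node (.node (.leaf 6738) (.leaf 0)) (.node (.leaf 19779) (.leaf 0)))) (.node (.node (.node (.leaf 3927) (.leaf 34503)) (.node (.leaf 16212) (.leaf 0))) (.node (.node (.leaf 9700) (.leaf 0)) (.node (.leaf 23788) (.leaf 0))))) (.node (.node (.node (.node (.leaf 2576) (.leaf 31120)) (.node (.leaf 14476) (.leaf 0))) (.node (.node (.leaf 8192) (.leaf 0)) (.node (.leaf 21746) (.leaf 0)))) (.node (.node (.node (.leaf 5315) (.leaf 39618)) (.node (.leaf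 17984) (.leaf 0))) (.node (.node (.leaf 11218) (.leaf 0)) (.node (.leaf 26023) (.leaf 0))))))))

def pT91 : NT := .node (.node (.node (.node (.node (.node (.node (.node (.leaf 114) (.leaf 26312)) (.node (.leaf 11410) (.leaf 0))) (.node (.node (.leaf 5492) (.leaf 0)) (.node (.leaf 18200) (.leaf 0)))) (.node (.node (.node (.leaf 2740) (.leaf 31496)) (.node (.leaf 14696) (.leaf 0))) (.node (.node (.leaf 8379) (.leaf 0)) (.node (.leaf 21994) (.leaf 0))))) (.node (.node (.node (.node (.leaf 1416) (.leaf 28764)) (.node (.leaf 13040) (.leaf 0))) (.node (.node (.leaf 6927) (.leaf 0)) (.node (.leaf 20036) (.leaf 0)))) (.node (.node (.node (.leaf 4110) (.leaf 35012)) (.node (.leaf 16417) (.leaf 0))) (.node (.node (.leaf 9886) (.leaf 0)) (.node (.leaf 24054) (.leaf 0)))))) (.node (.node (.node (.node (.node (.leaf 760) (.leaf 27516)) (.node (.leaf 12243) (.leaf 0))) (.node (.node (.leaf 6202) (.leaf 0)) (.node (.leaf 19116) (.leaf 0)))) (.node (.node (.node (.leaf 3416) (.leaf 33091)) (.node (.leaf 15552) (.leaf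 0))) (.node (.node (.leaf 9140) (.leaf 0)) (.node (.leaf 23022) (.leaf 0))))) (.node (.node (.node (.node (.leaf 2084) (.leaf 30074)) (.node (.leaf 13874) (.leaf 0))) (.node (.node (.leaf 7638) (.leaf 0)) (.node (.leaf 21017) (.leaf 0)))) (.node (.node (.node (.leaf 4802) (.leaf 37231)) (.node (.leaf 17302) (.leaf 0))) (.node (.node (.leaf 10639) (.leaf 0)) (.node (.leaf 25166) (.leaf 0))))))) (.node (.node (.node (.node (.node (.node (.leaf 434) (.leaf 26907)) (.node (.leaf 11830) (.leaf 0))) (.node (.node (.leaf 5841) (.leaf 0)) (.node (.leaf 18689) (.leaf 0)))) (.node (.node (.node (.leaf 3072) (.leaf 32278)) (.node (.leaf 15147) (.leaf 0))) (.node (.node (.leaf 8749) (.leaf 0)) (.node (.leaf 22534) (.leaf 0))))) (.node (.node (.node (.node (.leaf 1749) (.leaf 29431)) (.node (.leaf 13454) (.leaf 0))) (.node (.node (.leaf 7281) (.leaf 0)) (.node (.leaf 20522) (.leaf 0)))) (.node (.node (.node (.leaf 4456) (.leaf 36033)) (.node (.leaf 16861) (.leaf 0))) (.node (.node (.leaf 10258) (.leaf 0)) (.node (.leaf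 24580) (.leaf 0)))))) (.node (.node (.node (.node (.node (.leaf 1090) (.leaf 28100)) (.node (.leaf 12643) (.leaf 0))) (.node (.node (.leaf 6566) (.leaf 0)) (.node (.leaf 19568) (.leaf 0)))) (.node (.node (.node (.leaf 3762) (.leaf 34031)) (.node (.leaf 15991) (.leaf 0))) (.node (.node (.leaf 9527) (.leaf 0)) (.node (.leaf 23538) (.leaf 0))))) (.node (.node (.node (.node (.leaf 2416) (.leaf 30765)) (.node (.leaf 14274) (.leaf 0))) (.node (.node (.leaf 8008) (.leaf 0)) (.node (.leaf 21500) (.leaf 0)))) (.node (.node (.node (.leaf 5144) (.leaf 38578)) (.node (.leaf 17747) (.leaf 0))) (.node (.node (.leaf 11027) (.leaf 0)) (.node (.leaf 25728) (.leaf 0)))))))) (.node (.node (.node (.node (.node (.node (.node (.leaf 274) (.leaf 26603)) (.node (.leaf 11617) (.leaf 0))) (.node (.node (.leaf 5672) (.leaf 0)) (.node (.leaf 18440) (.leaf 0)))) (.node (.node (.node (.leaf 2905) (.leaf 31906)) (.node (.leaf 14924) (.leaf 0))) (.node (.node (.leaf 8560) (.leaf 0)) (.node (.leaf 22255) (.leaf 0))))) (.node (.node (.node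 (.node (.leaf 1582) (.leaf 29085)) (.node (.leaf 13252) (.leaf 0))) (.node (.node (.leaf 7106) (.leaf 0)) (.node (.leaf 20272) (.leaf 0)))) (.node (.node (.node (.leaf 4284) (.leaf 35515)) (.node (.leaf 16623) (.leaf 0))) (.node (.node (.leaf 10064) (.leaf 0)) (.node (.leaf 24318) (.leaf 0)))))) (.node (.node (.node (.node (.node (.leaf 924) (.leaf 27785)) (.node (.leaf 12442) (.leaf 0))) (.node (.node (.leaf 6387) (.leaf 0)) (.node (.leaf 19340) (.leaf 0)))) (.node (.node (.node (.leaf 3590) (.leaf 33532)) (.node (.leaf 15764) (.leaf 0))) (.node (.node (.leaf 9339) (.leaf 0)) (.node (.leaf 23272) (.leaf 0))))) (.node (.node (.node (.node (.leaf 2252) (.leaf 30406)) (.node (.leaf 14077) (.leaf 0))) (.node (.node (.leaf 7826) (.leaf 0)) (.node (.leaf 21264) (.leaf 0)))) (.node (.node (.node (.leaf 4972) (.leaf 37810)) (.node (.leaf 17538) (.leaf 0))) (.node (.node (.leaf 10842) (.leaf 0)) (.node (.leaf 25422) (.leaf 0))))))) (.node (.node (.node (.node (.node (.node (.leaf 598) (.leaf 27226)) (.node (.leaf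 12036) (.leaf 0))) (.node (.node (.leaf 6015) (.leaf 0)) (.node (.leaf 18916) (.leaf 0)))) (.node (.node (.node (.leaf 3238) (.leaf 32701)) (.node (.leaf 15348) (.leaf 0))) (.node (.node (.leaf 8943) (.leaf 0)) (.node (.leaf 22761) (.leaf 0))))) (.node (.node (.node (.node (.leaf 1914) (.leaf 29732)) (.node (.leaf 13665) (.leaf 0))) (.node (.node (.leaf 7464) (.leaf 0)) (.node (.leaf 20770) (.leaf 0)))) (.node (.node (.node (.leaf 4628) (.leaf 36611)) (.node (.leaf 17078) (.leaf 0))) (.node (.node (.leaf 10446) (.leaf 0)) (.node (.leaf 24874) (.leaf 0)))))) (.node (.node (.node (.node (.node (.leaf 1251) (.leaf 28411)) (.node (.leaf 12843) (.leaf 0))) (.node (.node (.leaf 6739) (.leaf 0)) (.node (.leaf 19780) (.leaf 0)))) (.node (.node (.node (.leaf 3928) (.leaf 34509)) (.node (.leaf 16213) (.leaf 0))) (.node (.node (.leaf 9702) (.leaf 0)) (.node (.leaf 23793) (.leaf 0))))) (.node (.node (.node (.node (.leaf 2577) (.leaf 31122)) (.node (.leaf 14477) (.leaf 0))) (.node (.node (.leaf 8194) (.leaf 0)) (.node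 (.leaf 21749) (.leaf 0)))) (.node (.node (.node (.leaf 5316) (.leaf 39627)) (.node (.leaf 17986) (.leaf 0))) (.node (.node (.leaf 11220) (.leaf 0)) (.node (.leaf 26025) (.leaf 0))))))))

def pT92 : NT := .node (.node (.node (.node (.node (.node (.node (.node (.leaf 115) (.leaf 26315)) (.node (.leaf 11412) (.leaf 0))) (.node (.node (.leaf 5494) (.leaf 0)) (.node (.leaf 18202) (.leaf 0)))) (.node (.node (.node (.leaf 2741) (.leaf 31497)) (.node (.leaf 14697) (.leaf 0))) (.node (.node (.leaf 8380) (.leaf 0)) (.node (.leaf 21995) (.leaf 0))))) (.node (.node (.node (.node (.leaf 1417) (.leaf 28766)) (.node (.leaf 13041) (.leaf 0))) (.node (.node (.leaf 6928) (.leaf 0)) (.node (.leaf 20038) (.leaf 0)))) (.node (.node (.node (.leaf 4112) (.leaf 35015)) (.node (.leaf 16418) (.leaf 0))) (.node (.node (.leaf 9887) (.leaf 0)) (.node (.leaf 24056) (.leaf 0)))))) (.node (.node (.node (.node (.node (.leaf 761) (.leaf 27518)) (.node (.leaf 12244) (.leaf 0))) (.node (.node (.leaf 6203) (.leaf 0)) (.node (.leaf 19117)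 (.leaf 0)))) (.node (.node (.node (.leaf 3418) (.leaf 33092)) (.node (.leaf 15553) (.leaf 0))) (.node (.node (.leaf 9141) (.leaf 0)) (.node (.leaf 23023) (.leaf 0))))) (.node (.node (.node (.node (.leaf 2085) (.leaf 30078)) (.node (.leaf 13878) (.leaf 0))) (.node (.node (.leaf 7639) (.leaf 0)) (.node (.leaf 21023) (.leaf 0)))) (.node (.node (.node (.leaf 4805) (.leaf 37233)) (.node (.leaf 17308) (.leaf 0))) (.node (.node (.leaf 10640) (.leaf 0)) (.node (.leaf 25168) (.leaf 0))))))) (.node (.node (.node (.node (.node (.node (.leaf 435) (.leaf 26908)) (.node (.leaf 11832) (.leaf 0))) (.node (.node (.leaf 5842) (.leaf 0)) (.node (.leaf 18692) (.leaf 0)))) (.node (.node (.node (.leaf 3073) (.leaf 32285)) (.node (.leaf 15148) (.leaf 0))) (.node (.node (.leaf 8751) (.leaf 0)) (.node (.leaf 22536) (.leaf 0))))) (.node (.node (.node (.node (.leaf 1750) (.leaf 29432)) (.node (.leaf 13455) (.leaf 0))) (.node (.node (.leaf 7282) (.leaf 0)) (.node (.leaf 20524) (.leaf 0)))) (.node (.node (.node (.leaf 4457) (.leaf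 36035)) (.node (.leaf 16862) (.leaf 0))) (.node (.node (.leaf 10260) (.leaf 0)) (.node (.leaf 24582) (.leaf 0)))))) (.node (.node (.node (.node (.node (.leaf 1091) (.leaf 28103)) (.node (.leaf 12644) (.leaf 0))) (.node (.node (.leaf 6567) (.leaf 0)) (.node (.leaf 19570) (.leaf 0)))) (.node (.node (.node (.leaf 3763) (.leaf 34034)) (.node (.leaf 15992) (.leaf 0))) (.node (.node (.leaf 9528) (.leaf 0)) (.node (.leaf 23540) (.leaf 0))))) (.node (.node (.node (.node (.leaf 2418) (.leaf 30766)) (.node (.leaf 14276) (.leaf 0))) (.node (.node (.leaf 8009) (.leaf 0)) (.node (.leaf 21502) (.leaf 0)))) (.node (.node (.node (.leaf 5145) (.leaf 38579)) (.node (.leaf 17748) (.leaf 0))) (.node (.node (.leaf 11030) (.leaf 0)) (.node (.leaf 25729) (.leaf 0)))))))) (.node (.node (.node (.node (.node (.node (.node (.leaf 275) (.leaf 26604)) (.node (.leaf 11618) (.leaf 0))) (.node (.node (.leaf 5674) (.leaf 0)) (.node (.leaf 18442) (.leaf 0)))) (.node (.node (.node (.leaf 2906) (.leaf 31908)) (.node (.leaf 14926) (.leaf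 0))) (.node (.node (.leaf 8563) (.leaf 0)) (.node (.leaf 22256) (.leaf 0))))) (.node (.node (.node (.node (.leaf 1583) (.leaf 29087)) (.node (.leaf 13253) (.leaf 0))) (.node (.node (.leaf 7107) (.leaf 0)) (.node (.leaf 20275) (.leaf 0)))) (.node (.node (.node (.leaf 4285) (.leaf 35516)) (.node (.leaf 16624) (.leaf 0))) (.node (.node (.leaf 10065) (.leaf 0)) (.node (.leaf 24319) (.leaf 0)))))) (.node (.node (.node (.node (.node (.leaf 925) (.leaf 27786)) (.node (.leaf 12443) (.leaf 0))) (.node (.node (.leaf 6388) (.leaf 0)) (.node (.leaf 19342) (.leaf 0)))) (.node (.node (.node (.leaf 3591) (.leaf 33534)) (.node (.leaf 15766) (.leaf 0))) (.node (.node (.leaf 9340) (.leaf 0)) (.node (.leaf 23273) (.leaf 0))))) (.node (.node (.node (.node (.leaf 2254) (.leaf 30414)) (.node (.leaf 14078) (.leaf 0))) (.node (.node (.leaf 7827) (.leaf 0)) (.node (.leaf 21265) (.leaf 0)))) (.node (.node (.node (.leaf 4973) (.leaf 37816)) (.node (.leaf 17540) (.leaf 0))) (.node (.node (.leaf 10843) (.leaf 0)) (.node (.leaf 25423)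 (.leaf 0))))))) (.node (.node (.node (.node (.node (.node (.leaf 599) (.leaf 27228)) (.node (.leaf 12037) (.leaf 0))) (.node (.node (.leaf 6016) (.leaf 0)) (.node (.leaf 18917) (.leaf 0)))) (.node (.node (.node (.leaf 3239) (.leaf 32706)) (.node (.leaf 15349) (.leaf 0))) (.node (.node (.leaf 8944) (.leaf 0)) (.node (.leaf 22762) (.leaf 0))))) (.node (.node (.node (.node (.leaf 1916) (.leaf 29734)) (.node (.leaf 13667) (.leaf 0))) (.node (.node (.leaf 7466) (.leaf 0)) (.node (.leaf 20771) (.leaf 0)))) (.node (.node (.node (.leaf 4629) (.leaf 36612)) (.node (.leaf 17079) (.leaf 0))) (.node (.node (.leaf 10449) (.leaf 0)) (.node (.leaf 24878) (.leaf 0)))))) (.node (.node (.node (.node (.node (.leaf 1252) (.leaf 28414)) (.node (.leaf 12844) (.leaf 0))) (.node (.node (.leaf 6740) (.leaf 0)) (.node (.leaf 19781) (.leaf 0)))) (.node (.node (.node (.leaf 3931) (.leaf 34512)) (.node (.leaf 16216) (.leaf 0))) (.node (.node (.leaf 9703) (.leaf 0)) (.node (.leaf 23794) (.leaf 0))))) (.node (.node (.node (.node (.leaf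 2578) (.leaf 31124)) (.node (.leaf 14478) (.leaf 0))) (.node (.node (.leaf 8195) (.leaf 0)) (.node (.leaf 21751) (.leaf 0)))) (.node (.node (.node (.leaf 5318) (.leaf 39629)) (.node (.leaf 17987) (.leaf 0))) (.node (.node (.leaf 11221) (.leaf 0)) (.node (.leaf 26031) (.leaf 0))))))))

def pT93 : NT := .node (.node (.node (.node (.node (.node (.node (.node (.leaf 116) (.leaf 26321)) (.node (.leaf 11413) (.leaf 0))) (.node (.node (.leaf 5496) (.leaf 0)) (.node (.leaf 18203) (.leaf 0)))) (.node (.node (.node (.leaf 2742) (.leaf 31504)) (.node (.leaf 14698) (.leaf 0))) (.node (.node (.leaf 8384) (.leaf 0)) (.node (.leaf 21996) (.leaf 0))))) (.node (.node (.node (.node (.leaf 1418) (.leaf 28770)) (.node (.leaf 13042) (.leaf 0))) (.node (.node (.leaf 6931) (.leaf 0)) (.node (.leaf 20039) (.leaf 0)))) (.node (.node (.node (.leaf 4113) (.leaf 35018)) (.node (.leaf 16420) (.leaf 0))) (.node (.node (.leaf 9888) (.leaf 0)) (.node (.leaf 24057) (.leaf 0)))))) (.node (.node (.node (.node (.node (.leaf 763) (.leaf 27520))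 (.node (.leaf 12245) (.leaf 0))) (.node (.node (.leaf 6204) (.leaf 0)) (.node (.leaf 19118) (.leaf 0)))) (.node (.node (.node (.leaf 3420) (.leaf 33093)) (.node (.leaf 15556) (.leaf 0))) (.node (.node (.leaf 9142) (.leaf 0)) (.node (.leaf 23025) (.leaf 0))))) (.node (.node (.node (.node (.leaf 2086) (.leaf 30081)) (.node (.leaf 13880) (.leaf 0))) (.node (.node (.leaf 7640) (.leaf 0)) (.node (.leaf 21024) (.leaf 0)))) (.node (.node (.node (.leaf 4806) (.leaf 37238)) (.node (.leaf 17312) (.leaf 0))) (.node (.node (.leaf 10642) (.leaf 0)) (.node (.leaf 25171) (.leaf 0))))))) (.node (.node (.node (.node (.node (.node (.leaf 436) (.leaf 26911)) (.node (.leaf 11833) (.leaf 0))) (.node (.node (.leaf 5844) (.leaf 0)) (.node (.leaf 18693) (.leaf 0)))) (.node (.node (.node (.leaf 3074) (.leaf 32286)) (.node (.leaf 15150) (.leaf 0))) (.node (.node (.leaf 8752) (.leaf 0)) (.node (.leaf 22537) (.leaf 0))))) (.node (.node (.node (.node (.leaf 1752) (.leaf 29434)) (.node (.leaf 13456) (.leaf 0))) (.node (.node (.leaf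 7285) (.leaf 0)) (.node (.leaf 20525) (.leaf 0)))) (.node (.node (.node (.leaf 4458) (.leaf 36036)) (.node (.leaf 16863) (.leaf 0))) (.node (.node (.leaf 10262) (.leaf 0)) (.node (.leaf 24585) (.leaf 0)))))) (.node (.node (.node (.node (.node (.leaf 1092) (.leaf 28104)) (.node (.leaf 12645) (.leaf 0))) (.node (.node (.leaf 6568) (.leaf 0)) (.node (.leaf 19571) (.leaf 0)))) (.node (.node (.node (.leaf 3764) (.leaf 34040)) (.node (.leaf 15994) (.leaf 0))) (.node (.node (.leaf 9529) (.leaf 0)) (.node (.leaf 23541) (.leaf 0))))) (.node (.node (.node (.node (.leaf 2419) (.leaf 30770)) (.node (.leaf 14278) (.leaf 0))) (.node (.node (.leaf 8010) (.leaf 0)) (.node (.leaf 21504) (.leaf 0)))) (.node (.node (.node (.leaf 5146) (.leaf 38589)) (.node (.leaf 17752) (.leaf 0))) (.node (.node (.leaf 11031) (.leaf 0)) (.node (.leaf 25730) (.leaf 0)))))))) (.node (.node (.node (.node (.node (.node (.node (.leaf 276) (.leaf 26608)) (.node (.leaf 11619) (.leaf 0))) (.node (.node (.leaf 5675) (.leaf 0)) (.node (.leaf 18443)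 (.leaf 0)))) (.node (.node (.node (.leaf 2908) (.leaf 31909)) (.node (.leaf 14927) (.leaf 0))) (.node (.node (.leaf 8564) (.leaf 0)) (.node (.leaf 22257) (.leaf 0))))) (.node (.node (.node (.node (.leaf 1584) (.leaf 29090)) (.node (.leaf 13254) (.leaf 0))) (.node (.node (.leaf 7108) (.leaf 0)) (.node (.leaf 20276) (.leaf 0)))) (.node (.node (.node (.leaf 4286) (.leaf 35523)) (.node (.leaf 16625) (.leaf 0))) (.node (.node (.leaf 10066) (.leaf 0)) (.node (.leaf 24320) (.leaf 0)))))) (.node (.node (.node (.node (.node (.leaf 929) (.leaf 27788)) (.node (.leaf 12446) (.leaf 0))) (.node (.node (.leaf 6389) (.leaf 0)) (.node (.leaf 19343) (.leaf 0)))) (.node (.node (.node (.leaf 3592) (.leaf 33545)) (.node (.leaf 15771) (.leaf 0))) (.node (.node (.leaf 9342) (.leaf 0)) (.node (.leaf 23274) (.leaf 0))))) (.node (.node (.node (.node (.leaf 2255) (.leaf 30418)) (.node (.leaf 14080) (.leaf 0))) (.node (.node (.leaf 7828) (.leaf 0)) (.node (.leaf 21266) (.leaf 0)))) (.node (.node (.node (.leaf 4974) (.leaf 37829))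 (.node (.leaf 17541) (.leaf 0))) (.node (.node (.leaf 10845) (.leaf 0)) (.node (.leaf 25424) (.leaf 0))))))) (.node (.node (.node (.node (.node (.node (.leaf 600) (.leaf 27231)) (.node (.leaf 12038) (.leaf 0))) (.node (.node (.leaf 6017) (.leaf 0)) (.node (.leaf 18918) (.leaf 0)))) (.node (.node (.node (.leaf 3240) (.leaf 32708)) (.node (.leaf 15353) (.leaf 0))) (.node (.node (.leaf 8946) (.leaf 0)) (.node (.leaf 22764) (.leaf 0))))) (.node (.node (.node (.node (.leaf 1918) (.leaf 29738)) (.node (.leaf 13668) (.leaf 0))) (.node (.node (.leaf 7467) (.leaf 0)) (.node (.leaf 20772) (.leaf 0)))) (.node (.node (.node (.leaf 4630) (.leaf 36617)) (.node (.leaf 17080) (.leaf 0))) (.node (.node (.leaf 10450) (.leaf 0)) (.node (.leaf 24880) (.leaf 0)))))) (.node (.node (.node (.node (.node (.leaf 1254) (.leaf 28415)) (.node (.leaf 12847) (.leaf 0))) (.node (.node (.leaf 6741) (.leaf 0)) (.node (.leaf 19782) (.leaf 0)))) (.node (.node (.node (.leaf 3932) (.leaf 34516)) (.node (.leaf 16218) (.leaf 0))) (.node (.node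 (.leaf 9704) (.leaf 0)) (.node (.leaf 23795) (.leaf 0))))) (.node (.node (.node (.node (.leaf 2581) (.leaf 31127)) (.node (.leaf 14480) (.leaf 0))) (.node (.node (.leaf 8196) (.leaf 0)) (.node (.leaf 21752) (.leaf 0)))) (.node (.node (.node (.leaf 5319) (.leaf 39640)) (.node (.leaf 17988) (.leaf 0))) (.node (.node (.leaf 11222) (.leaf 0)) (.node (.leaf 26032) (.leaf 0))))))))

def pT94 : NT := .node (.node (.node (.node (.node (.node (.node (.node (.leaf 118) (.leaf 26322)) (.node (.leaf 11414) (.leaf 0))) (.node (.node (.leaf 5499) (.leaf 0)) (.node (.leaf 18204) (.leaf 0)))) (.node (.node (.node (.leaf 2744) (.leaf 31512)) (.node (.leaf 14699) (.leaf 0))) (.node (.node (.leaf 8386) (.leaf 0)) (.node (.leaf 21997) (.leaf 0))))) (.node (.node (.node (.node (.leaf 1420) (.leaf 28773)) (.node (.leaf 13044) (.leaf 0))) (.node (.node (.leaf 6932) (.leaf 0)) (.node (.leaf 20041) (.leaf 0)))) (.node (.node (.node (.leaf 4114) (.leaf 35020)) (.node (.leaf 16422) (.leaf 0))) (.node (.node (.leaf 9889) (.leaf 0))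 (.node (.leaf 24058) (.leaf 0)))))) (.node (.node (.node (.node (.node (.leaf 764) (.leaf 27524)) (.node (.leaf 12246) (.leaf 0))) (.node (.node (.leaf 6205) (.leaf 0)) (.node (.leaf 19120) (.leaf 0)))) (.node (.node (.node (.leaf 3421) (.leaf 33096)) (.node (.leaf 15557) (.leaf 0))) (.node (.node (.leaf 9145) (.leaf 0)) (.node (.leaf 23026) (.leaf 0))))) (.node (.node (.node (.node (.leaf 2088) (.leaf 30092)) (.node (.leaf 13881) (.leaf 0))) (.node (.node (.leaf 7641) (.leaf 0)) (.node (.leaf 21026) (.leaf 0)))) (.node (.node (.node (.leaf 4808) (.leaf 37244)) (.node (.leaf 17314) (.leaf 0))) (.node (.node (.leaf 10643) (.leaf 0)) (.node (.leaf 25173) (.leaf 0))))))) (.node (.node (.node (.node (.node (.node (.leaf 439) (.leaf 26916)) (.node (.leaf 11836) (.leaf 0))) (.node (.node (.leaf 5845) (.leaf 0)) (.node (.leaf 18694) (.leaf 0)))) (.node (.node (.node (.leaf 3075) (.leaf 32288)) (.node (.leaf 15151) (.leaf 0))) (.node (.node (.leaf 8754) (.leaf 0)) (.node (.leaf 22541) (.leaf 0))))) (.node (.node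 (.node (.node (.leaf 1754) (.leaf 29437)) (.node (.leaf 13458) (.leaf 0))) (.node (.node (.leaf 7286) (.leaf 0)) (.node (.leaf 20527) (.leaf 0)))) (.node (.node (.node (.leaf 4460) (.leaf 36038)) (.node (.leaf 16866) (.leaf 0))) (.node (.node (.leaf 10263) (.leaf 0)) (.node (.leaf 24591) (.leaf 0)))))) (.node (.node (.node (.node (.node (.leaf 1094) (.leaf 28112)) (.node (.leaf 12646) (.leaf 0))) (.node (.node (.leaf 6570) (.leaf 0)) (.node (.leaf 19572) (.leaf 0)))) (.node (.node (.node (.leaf 3766) (.leaf 34048)) (.node (.leaf 15996) (.leaf 0))) (.node (.node (.leaf 9530) (.leaf 0)) (.node (.leaf 23544) (.leaf 0))))) (.node (.node (.node (.node (.leaf 2420) (.leaf 30772)) (.node (.leaf 14280) (.leaf 0))) (.node (.node (.leaf 8011) (.leaf 0)) (.node (.leaf 21506) (.leaf 0)))) (.node (.node (.node (.leaf 5148) (.leaf 38590)) (.node (.leaf 17754) (.leaf 0))) (.node (.node (.leaf 11032) (.leaf 0)) (.node (.leaf 25732) (.leaf 0)))))))) (.node (.node (.node (.node (.node (.node (.node (.leaf 278) (.leaf 26609))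 (.node (.leaf 11620) (.leaf 0))) (.node (.node (.leaf 5676) (.leaf 0)) (.node (.leaf 18447) (.leaf 0)))) (.node (.node (.node (.leaf 2909) (.leaf 31910)) (.node (.leaf 14928) (.leaf 0))) (.node (.node (.leaf 8566) (.leaf 0)) (.node (.leaf 22259) (.leaf 0))))) (.node (.node (.node (.node (.leaf 1586) (.leaf 29092)) (.node (.leaf 13256) (.leaf 0))) (.node (.node (.leaf 7109) (.leaf 0)) (.node (.leaf 20278) (.leaf 0)))) (.node (.node (.node (.leaf 4288) (.leaf 35526)) (.node (.leaf 16626) (.leaf 0))) (.node (.node (.leaf 10070) (.leaf 0)) (.node (.leaf 24321) (.leaf 0)))))) (.node (.node (.node (.node (.node (.leaf 930) (.leaf 27790)) (.node (.leaf 12447) (.leaf 0))) (.node (.node (.leaf 6390) (.leaf 0)) (.node (.leaf 19344) (.leaf 0)))) (.node (.node (.node (.leaf 3594) (.leaf 33546)) (.node (.leaf 15772) (.leaf 0))) (.node (.node (.leaf 9343) (.leaf 0)) (.node (.leaf 23276) (.leaf 0))))) (.node (.node (.node (.node (.leaf 2256) (.leaf 30419)) (.node (.leaf 14081) (.leaf 0))) (.node (.node (.leaf 7829) (.leaf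 0)) (.node (.leaf 21268) (.leaf 0)))) (.node (.node (.node (.leaf 4976) (.leaf 37834)) (.node (.leaf 17542) (.leaf 0))) (.node (.node (.leaf 10849) (.leaf 0)) (.node (.leaf 25426) (.leaf 0))))))) (.node (.node (.node (.node (.node (.node (.leaf 601) (.leaf 27232)) (.node (.leaf 12040) (.leaf 0))) (.node (.node (.leaf 6018) (.leaf 0)) (.node (.leaf 18921) (.leaf 0)))) (.node (.node (.node (.leaf 3241) (.leaf 32710)) (.node (.leaf 15355) (.leaf 0))) (.node (.node (.leaf 8947) (.leaf 0)) (.node (.leaf 22765) (.leaf 0))))) (.node (.node (.node (.node (.leaf 1920) (.leaf 29740)) (.node (.leaf 13669) (.leaf 0))) (.node (.node (.leaf 7468) (.leaf 0)) (.node (.leaf 20774) (.leaf 0)))) (.node (.node (.node (.leaf 4633) (.leaf 36618)) (.node (.leaf 17081) (.leaf 0))) (.node (.node (.leaf 10452) (.leaf 0)) (.node (.leaf 24884) (.leaf 0)))))) (.node (.node (.node (.node (.node (.leaf 1255) (.leaf 28419)) (.node (.leaf 12849) (.leaf 0))) (.node (.node (.leaf 6745) (.leaf 0)) (.node (.leaf 19788) (.leaf 0)))) (.node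 (.node (.node (.leaf 3933) (.leaf 34517)) (.node (.leaf 16220) (.leaf 0))) (.node (.node (.leaf 9707) (.leaf 0)) (.node (.leaf 23796) (.leaf 0))))) (.node (.node (.node (.node (.leaf 2582) (.leaf 31129)) (.node (.leaf 14481) (.leaf 0))) (.node (.node (.leaf 8198) (.leaf 0)) (.node (.leaf 21753) (.leaf 0)))) (.node (.node (.node (.leaf 5320) (.leaf 39653)) (.node (.leaf 17989) (.leaf 0))) (.node (.node (.leaf 11223) (.leaf 0)) (.node (.leaf 26036) (.leaf 0))))))))

def pT95 : NT := .node (.node (.node (.node (.node (.node (.node (.node (.leaf 119) (.leaf 26324)) (.node (.leaf 11415) (.leaf 0))) (.node (.node (.leaf 5500) (.leaf 0)) (.node (.leaf 18206) (.leaf 0)))) (.node (.node (.node (.leaf 2745) (.leaf 31516)) (.node (.leaf 14700) (.leaf 0))) (.node (.node (.leaf 8387) (.leaf 0)) (.node (.leaf 21998) (.leaf 0))))) (.node (.node (.node (.node (.leaf 1421) (.leaf 28776)) (.node (.leaf 13045) (.leaf 0))) (.node (.node (.leaf 6934) (.leaf 0)) (.node (.leaf 20042) (.leaf 0)))) (.node (.node (.node (.leaf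 4116) (.leaf 35024)) (.node (.leaf 16425) (.leaf 0))) (.node (.node (.leaf 9890) (.leaf 0)) (.node (.leaf 24060) (.leaf 0)))))) (.node (.node (.node (.node (.node (.leaf 766) (.leaf 27527)) (.node (.leaf 12247) (.leaf 0))) (.node (.node (.leaf 6206) (.leaf 0)) (.node (.leaf 19122) (.leaf 0)))) (.node (.node (.node (.leaf 3422) (.leaf 33098)) (.node (.leaf 15560) (.leaf 0))) (.node (.node (.leaf 9146) (.leaf 0)) (.node (.leaf 23031) (.leaf 0))))) (.node (.node (.node (.node (.leaf 2089) (.leaf 30093)) (.node (.leaf 13882) (.leaf 0))) (.node (.node (.leaf 7644) (.leaf 0)) (.node (.leaf 21027) (.leaf 0)))) (.node (.node (.node (.leaf 4809) (.leaf 37248)) (.node (.leaf 17315) (.leaf 0))) (.node (.node (.leaf 10644) (.leaf 0)) (.node (.leaf 25174) (.leaf 0))))))) (.node (.node (.node (.node (.node (.node (.leaf 440) (.leaf 26918)) (.node (.leaf 11838) (.leaf 0))) (.node (.node (.leaf 5846) (.leaf 0)) (.node (.leaf 18695) (.leaf 0)))) (.node (.node (.node (.leaf 3076) (.leaf 32290)) (.node (.leaf 15152) (.leaf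 0))) (.node (.node (.leaf 8755) (.leaf 0)) (.node (.leaf 22542) (.leaf 0))))) (.node (.node (.node (.node (.leaf 1755) (.leaf 29438)) (.node (.leaf 13459) (.leaf 0))) (.node (.node (.leaf 7288) (.leaf 0)) (.node (.leaf 20530) (.leaf 0)))) (.node (.node (.node (.leaf 4462) (.leaf 36050)) (.node (.leaf 16868) (.leaf 0))) (.node (.node (.leaf 10264) (.leaf 0)) (.node (.leaf 24592) (.leaf 0)))))) (.node (.node (.node (.node (.node (.leaf 1095) (.leaf 28113)) (.node (.leaf 12649) (.leaf 0))) (.node (.node (.leaf 6571) (.leaf 0)) (.node (.leaf 19573) (.leaf 0)))) (.node (.node (.node (.leaf 3767) (.leaf 34050)) (.node (.leaf 15998) (.leaf 0))) (.node (.node (.leaf 9532) (.leaf 0)) (.node (.leaf 23545) (.leaf 0))))) (.node (.node (.node (.node (.leaf 2422) (.leaf 30774)) (.node (.leaf 14281) (.leaf 0))) (.node (.node (.leaf 8012) (.leaf 0)) (.node (.leaf 21507) (.leaf 0)))) (.node (.node (.node (.leaf 5149) (.leaf 38592)) (.node (.leaf 17758) (.leaf 0))) (.node (.node (.leaf 11034) (.leaf 0)) (.node (.leaf 25735)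 (.leaf 0)))))))) (.node (.node (.node (.node (.node (.node (.node (.leaf 279) (.leaf 26612)) (.node (.leaf 11623) (.leaf 0))) (.node (.node (.leaf 5678) (.leaf 0)) (.node (.leaf 18448) (.leaf 0)))) (.node (.node (.node (.leaf 2910) (.leaf 31914)) (.node (.leaf 14930) (.leaf 0))) (.node (.node (.leaf 8568) (.leaf 0)) (.node (.leaf 22260) (.leaf 0))))) (.node (.node (.node (.node (.leaf 1587) (.leaf 29094)) (.node (.leaf 13257) (.leaf 0))) (.node (.node (.leaf 7110) (.leaf 0)) (.node (.leaf 20280) (.leaf 0)))) (.node (.node (.node (.leaf 4289) (.leaf 35531)) (.node (.leaf 16630) (.leaf 0))) (.node (.node (.leaf 10071) (.leaf 0)) (.node (.leaf 24322) (.leaf 0)))))) (.node (.node (.node (.node (.node (.leaf 932) (.leaf 27792)) (.node (.leaf 12448) (.leaf 0))) (.node (.node (.leaf 6393) (.leaf 0)) (.node (.leaf 19346) (.leaf 0)))) (.node (.node (.node (.leaf 3595) (.leaf 33552)) (.node (.leaf 15774) (.leaf 0))) (.node (.node (.leaf 9344) (.leaf 0)) (.node (.leaf 23278) (.leaf 0))))) (.node (.node (.node (.node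 (.leaf 2258) (.leaf 30420)) (.node (.leaf 14082) (.leaf 0))) (.node (.node (.leaf 7830) (.leaf 0)) (.node (.leaf 21269) (.leaf 0)))) (.node (.node (.node (.leaf 4977) (.leaf 37837)) (.node (.leaf 17543) (.leaf 0))) (.node (.node (.leaf 10850) (.leaf 0)) (.node (.leaf 25428) (.leaf 0))))))) (.node (.node (.node (.node (.node (.node (.leaf 602) (.leaf 27234)) (.node (.leaf 12041) (.leaf 0))) (.node (.node (.leaf 6020) (.leaf 0)) (.node (.leaf 18924) (.leaf 0)))) (.node (.node (.node (.leaf 3242) (.leaf 32712)) (.node (.leaf 15356) (.leaf 0))) (.node (.node (.leaf 8948) (.leaf 0)) (.node (.leaf 22766) (.leaf 0))))) (.node (.node (.node (.node (.leaf 1921) (.leaf 29741)) (.node (.leaf 13670) (.leaf 0))) (.node (.node (.leaf 7469) (.leaf 0)) (.node (.leaf 20775) (.leaf 0)))) (.node (.node (.node (.leaf 4634) (.leaf 36625)) (.node (.leaf 17082) (.leaf 0))) (.node (.node (.leaf 10453) (.leaf 0)) (.node (.leaf 24886) (.leaf 0)))))) (.node (.node (.node (.node (.node (.leaf 1256) (.leaf 28420)) (.node (.leaf 12850)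 (.leaf 0))) (.node (.node (.leaf 6746) (.leaf 0)) (.node (.leaf 19792) (.leaf 0)))) (.node (.node (.node (.leaf 3934) (.leaf 34518)) (.node (.leaf 16221) (.leaf 0))) (.node (.node (.leaf 9708) (.leaf 0)) (.node (.leaf 23797) (.leaf 0))))) (.node (.node (.node (.node (.leaf 2583) (.leaf 31130)) (.node (.leaf 14484) (.leaf 0))) (.node (.node (.leaf 8199) (.leaf 0)) (.node (.leaf 21756) (.leaf 0)))) (.node (.node (.node (.leaf 5321) (.leaf 39664)) (.node (.leaf 17993) (.leaf 0))) (.node (.node (.leaf 11224) (.leaf 0)) (.node (.leaf 26038) (.leaf 0))))))))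

def pT96 : NT := .node (.node (.node (.node (.node (.node (.node (.node (.leaf 120) (.leaf 26325)) (.node (.leaf 11416) (.leaf 0))) (.node (.node (.leaf 5501) (.leaf 0)) (.node (.leaf 18208) (.leaf 0)))) (.node (.node (.node (.leaf 2746) (.leaf 31518)) (.node (.leaf 14701) (.leaf 0))) (.node (.node (.leaf 8388) (.leaf 0)) (.node (.leaf 22000) (.leaf 0))))) (.node (.node (.node (.node (.leaf 1422) (.leaf 28778)) (.node (.leaf 13046) (.leaf 0))) (.node (.node (.leaf 6936) (.leaf 0)) (.node (.leaf 20044) (.leaf 0)))) (.node (.node (.node (.leaf 4118) (.leaf 35028)) (.node (.leaf 16426) (.leaf 0))) (.node (.node (.leaf 9892) (.leaf 0)) (.node (.leaf 24061) (.leaf 0)))))) (.node (.node (.node (.node (.node (.leaf 767) (.leaf 27531)) (.node (.leaf 12248) (.leaf 0))) (.node (.node (.leaf 6208) (.leaf 0)) (.node (.leaf 19124) (.leaf 0)))) (.node (.node (.node (.leaf 3423) (.leaf 33099)) (.node (.leaf 15561) (.leaf 0))) (.node (.node (.leaf 9148) (.leaf 0)) (.node (.leaf 23032) (.leaf 0))))) (.node (.node (.node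 (.node (.leaf 2090) (.leaf 30096)) (.node (.leaf 13884) (.leaf 0))) (.node (.node (.leaf 7645) (.leaf 0)) (.node (.leaf 21028) (.leaf 0)))) (.node (.node (.node (.leaf 4810) (.leaf 37255)) (.node (.leaf 17318) (.leaf 0))) (.node (.node (.leaf 10646) (.leaf 0)) (.node (.leaf 25175) (.leaf 0))))))) (.node (.node (.node (.node (.node (.node (.leaf 442) (.leaf 26922)) (.node (.leaf 11840) (.leaf 0))) (.node (.node (.leaf 5847) (.leaf 0)) (.node (.leaf 18696) (.leaf 0)))) (.node (.node (.node (.leaf 3078) (.leaf 32294)) (.node (.leaf 15154) (.leaf 0))) (.node (.node (.leaf 8757) (.leaf 0)) (.node (.leaf 22544) (.leaf 0))))) (.node (.node (.node (.node (.leaf 1756) (.leaf 29439)) (.node (.leaf 13460) (.leaf 0))) (.node (.node (.leaf 7289) (.leaf 0)) (.node (.leaf 20532) (.leaf 0)))) (.node (.node (.node (.leaf 4463) (.leaf 36052)) (.node (.leaf 16869) (.leaf 0))) (.node (.node (.leaf 10265) (.leaf 0)) (.node (.leaf 24593) (.leaf 0)))))) (.node (.node (.node (.node (.node (.leaf 1096) (.leaf 28115)) (.node (.leaf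 12650) (.leaf 0))) (.node (.node (.leaf 6572) (.leaf 0)) (.node (.leaf 19574) (.leaf 0)))) (.node (.node (.node (.leaf 3768) (.leaf 34052)) (.node (.leaf 16001) (.leaf 0))) (.node (.node (.leaf 9533) (.leaf 0)) (.node (.leaf 23546) (.leaf 0))))) (.node (.node (.node (.node (.leaf 2423) (.leaf 30780)) (.node (.leaf 14282) (.leaf 0))) (.node (.node (.leaf 8014) (.leaf 0)) (.node (.leaf 21508) (.leaf 0)))) (.node (.node (.node (.leaf 5151) (.leaf 38593)) (.node (.leaf 17760) (.leaf 0))) (.node (.node (.leaf 11036) (.leaf 0)) (.node (.leaf 25737) (.leaf 0)))))))) (.node (.node (.node (.node (.node (.node (.node (.leaf 280) (.leaf 26614)) (.node (.leaf 11624) (.leaf 0))) (.node (.node (.leaf 5679) (.leaf 0)) (.node (.leaf 18451) (.leaf 0)))) (.node (.node (.node (.leaf 2912) (.leaf 31916)) (.node (.leaf 14933) (.leaf 0))) (.node (.node (.leaf 8569) (.leaf 0)) (.node (.leaf 22262) (.leaf 0))))) (.node (.node (.node (.node (.leaf 1588) (.leaf 29095)) (.node (.leaf 13258) (.leaf 0))) (.node (.node (.leaf 7111)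 (.leaf 0)) (.node (.leaf 20281) (.leaf 0)))) (.node (.node (.node (.leaf 4290) (.leaf 35532)) (.node (.leaf 16634) (.leaf 0))) (.node (.node (.leaf 10072) (.leaf 0)) (.node (.leaf 24326) (.leaf 0)))))) (.node (.node (.node (.node (.node (.leaf 933) (.leaf 27793)) (.node (.leaf 12449) (.leaf 0))) (.node (.node (.leaf 6394) (.leaf 0)) (.node (.leaf 19347) (.leaf 0)))) (.node (.node (.node (.leaf 3596) (.leaf 33554)) (.node (.leaf 15776) (.leaf 0))) (.node (.node (.leaf 9346) (.leaf 0)) (.node (.leaf 23280) (.leaf 0))))) (.node (.node (.node (.node (.leaf 2259) (.leaf 30422)) (.node (.leaf 14083) (.leaf 0))) (.node (.node (.leaf 7833) (.leaf 0)) (.node (.leaf 21271) (.leaf 0)))) (.node (.node (.node (.leaf 4980) (.leaf 37841)) (.node (.leaf 17544) (.leaf 0))) (.node (.node (.leaf 10853) (.leaf 0)) (.node (.leaf 25430) (.leaf 0))))))) (.node (.node (.node (.node (.node (.node (.leaf 604) (.leaf 27235)) (.node (.leaf 12042) (.leaf 0))) (.node (.node (.leaf 6021) (.leaf 0)) (.node (.leaf 18925) (.leaf 0))))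 (.node (.node (.node (.leaf 3244) (.leaf 32714)) (.node (.leaf 15359) (.leaf 0))) (.node (.node (.leaf 8950) (.leaf 0)) (.node (.leaf 22768) (.leaf 0))))) (.node (.node (.node (.node (.leaf 1922) (.leaf 29742)) (.node (.leaf 13672) (.leaf 0))) (.node (.node (.leaf 7472) (.leaf 0)) (.node (.leaf 20776) (.leaf 0)))) (.node (.node (.node (.leaf 4635) (.leaf 36638)) (.node (.leaf 17084) (.leaf 0))) (.node (.node (.leaf 10455) (.leaf 0)) (.node (.leaf 24888) (.leaf 0)))))) (.node (.node (.node (.node (.node (.leaf 1258) (.leaf 28422)) (.node (.leaf 12852) (.leaf 0))) (.node (.node (.leaf 6750) (.leaf 0)) (.node (.leaf 19794) (.leaf 0)))) (.node (.node (.node (.leaf 3937) (.leaf 34522)) (.node (.leaf 16222) (.leaf 0))) (.node (.node (.leaf 9709) (.leaf 0)) (.node (.leaf 23798) (.leaf 0))))) (.node (.node (.node (.node (.leaf 2584) (.leaf 31132)) (.node (.leaf 14488) (.leaf 0))) (.node (.node (.leaf 8200) (.leaf 0)) (.node (.leaf 21760) (.leaf 0)))) (.node (.node (.node (.leaf 5322) (.leaf 39680)) (.node (.leaf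 17995) (.leaf 0))) (.node (.node (.leaf 11226) (.leaf 0)) (.node (.leaf 26039) (.leaf 0))))))))

def pT97 : NT := .node (.node (.node (.node (.node (.node (.node (.node (.leaf 122) (.leaf 26326)) (.node (.leaf 11419) (.leaf 0))) (.node (.node (.leaf 5502) (.leaf 0)) (.node (.leaf 18210) (.leaf 0)))) (.node (.node (.node (.leaf 2747) (.leaf 31522)) (.node (.leaf 14702) (.leaf 0))) (.node (.node (.leaf 8389) (.leaf 0)) (.node (.leaf 22002) (.leaf 0))))) (.node (.node (.node (.node (.leaf 1423) (.leaf 28780)) (.node (.leaf 13047) (.leaf 0))) (.node (.node (.leaf 6937) (.leaf 0)) (.node (.leaf 20046) (.leaf 0)))) (.node (.node (.node (.leaf 4119) (.leaf 35030)) (.node (.leaf 16427) (.leaf 0))) (.node (.node (.leaf 9893) (.leaf 0)) (.node (.leaf 24062) (.leaf 0)))))) (.node (.node (.node (.node (.node (.leaf 768) (.leaf 27532)) (.node (.leaf 12249) (.leaf 0))) (.node (.node (.leaf 6209) (.leaf 0)) (.node (.leaf 19127) (.leaf 0)))) (.node (.node (.node (.leaf 3424) (.leaf 33102)) (.node (.leaf 15564) (.leaf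 0))) (.node (.node (.leaf 9149) (.leaf 0)) (.node (.leaf 23034) (.leaf 0))))) (.node (.node (.node (.node (.leaf 2092) (.leaf 30098)) (.node (.leaf 13885) (.leaf 0))) (.node (.node (.leaf 7646) (.leaf 0)) (.node (.leaf 21031) (.leaf 0)))) (.node (.node (.node (.leaf 4811) (.leaf 37256)) (.node (.leaf 17319) (.leaf 0))) (.node (.node (.leaf 10647) (.leaf 0)) (.node (.leaf 25176) (.leaf 0))))))) (.node (.node (.node (.node (.node (.node (.leaf 443) (.leaf 26924)) (.node (.leaf 11842) (.leaf 0))) (.node (.node (.leaf 5848) (.leaf 0)) (.node (.leaf 18697) (.leaf 0)))) (.node (.node (.node (.leaf 3079) (.leaf 32296)) (.node (.leaf 15155) (.leaf 0))) (.node (.node (.leaf 8760) (.leaf 0)) (.node (.leaf 22547) (.leaf 0))))) (.node (.node (.node (.node (.leaf 1758) (.leaf 29440)) (.node (.leaf 13463) (.leaf 0))) (.node (.node (.leaf 7292) (.leaf 0)) (.node (.leaf 20533) (.leaf 0)))) (.node (.node (.node (.leaf 4464) (.leaf 36056)) (.node (.leaf 16870) (.leaf 0))) (.node (.node (.leaf 10266) (.leaf 0)) (.node (.leaf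 24594) (.leaf 0)))))) (.node (.node (.node (.node (.node (.leaf 1098) (.leaf 28116)) (.node (.leaf 12651) (.leaf 0))) (.node (.node (.leaf 6573) (.leaf 0)) (.node (.leaf 19577) (.leaf 0)))) (.node (.node (.node (.leaf 3769) (.leaf 34056)) (.node (.leaf 16002) (.leaf 0))) (.node (.node (.leaf 9534) (.leaf 0)) (.node (.leaf 23547) (.leaf 0))))) (.node (.node (.node (.node (.leaf 2424) (.leaf 30782)) (.node (.leaf 14285) (.leaf 0))) (.node (.node (.leaf 8015) (.leaf 0)) (.node (.leaf 21509) (.leaf 0)))) (.node (.node (.node (.leaf 5152) (.leaf 38602)) (.node (.leaf 17761) (.leaf 0))) (.node (.node (.leaf 11037) (.leaf 0)) (.node (.leaf 25738) (.leaf 0)))))))) (.node (.node (.node (.node (.node (.node (.node (.leaf 281) (.leaf 26616)) (.node (.leaf 11626) (.leaf 0))) (.node (.node (.leaf 5680) (.leaf 0)) (.node (.leaf 18452) (.leaf 0)))) (.node (.node (.node (.leaf 2914) (.leaf 31921)) (.node (.leaf 14934) (.leaf 0))) (.node (.node (.leaf 8570) (.leaf 0)) (.node (.leaf 22264) (.leaf 0))))) (.node (.node (.node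 (.node (.leaf 1589) (.leaf 29096)) (.node (.leaf 13260) (.leaf 0))) (.node (.node (.leaf 7112) (.leaf 0)) (.node (.leaf 20282) (.leaf 0)))) (.node (.node (.node (.leaf 4293) (.leaf 35533)) (.node (.leaf 16635) (.leaf 0))) (.node (.node (.leaf 10074) (.leaf 0)) (.node (.leaf 24327) (.leaf 0)))))) (.node (.node (.node (.node (.node (.leaf 934) (.leaf 27794)) (.node (.leaf 12450) (.leaf 0))) (.node (.node (.leaf 6396) (.leaf 0)) (.node (.leaf 19348) (.leaf 0)))) (.node (.node (.node (.leaf 3597) (.leaf 33562)) (.node (.leaf 15778) (.leaf 0))) (.node (.node (.leaf 9347) (.leaf 0)) (.node (.leaf 23284) (.leaf 0))))) (.node (.node (.node (.node (.leaf 2260) (.leaf 30428)) (.node (.leaf 14084) (.leaf 0))) (.node (.node (.leaf 7835) (.leaf 0)) (.node (.leaf 21272) (.leaf 0)))) (.node (.node (.node (.leaf 4981) (.leaf 37842)) (.node (.leaf 17546) (.leaf 0))) (.node (.node (.leaf 10854) (.leaf 0)) (.node (.leaf 25432) (.leaf 0))))))) (.node (.node (.node (.node (.node (.node (.leaf 605) (.leaf 27238)) (.node (.leaf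 12043) (.leaf 0))) (.node (.node (.leaf 6022) (.leaf 0)) (.node (.leaf 18926) (.leaf 0)))) (.node (.node (.node (.leaf 3245) (.leaf 32717)) (.node (.leaf 15360) (.leaf 0))) (.node (.node (.leaf 8951) (.leaf 0)) (.node (.leaf 22769) (.leaf 0))))) (.node (.node (.node (.node (.leaf 1923) (.leaf 29747)) (.node (.leaf 13673) (.leaf 0))) (.node (.node (.leaf 7473) (.leaf 0)) (.node (.leaf 20778) (.leaf 0)))) (.node (.node (.node (.leaf 4636) (.leaf 36641)) (.node (.leaf 17085) (.leaf 0))) (.node (.node (.leaf 10456) (.leaf 0)) (.node (.leaf 24890) (.leaf 0)))))) (.node (.node (.node (.node (.node (.leaf 1259) (.leaf 28424)) (.node (.leaf 12853) (.leaf 0))) (.node (.node (.leaf 6751) (.leaf 0)) (.node (.leaf 19795) (.leaf 0)))) (.node (.node (.node (.leaf 3938) (.leaf 34523)) (.node (.leaf 16224) (.leaf 0))) (.node (.node (.leaf 9712) (.leaf 0)) (.node (.leaf 23803) (.leaf 0))))) (.node (.node (.node (.node (.leaf 2586) (.leaf 31136)) (.node (.leaf 14489) (.leaf 0))) (.node (.node (.leaf 8201) (.leaf 0)) (.node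 (.leaf 21761) (.leaf 0)))) (.node (.node (.node (.leaf 5324) (.leaf 39684)) (.node (.leaf 17996) (.leaf 0))) (.node (.node (.leaf 11227) (.leaf 0)) (.node (.leaf 26040) (.leaf 0))))))))

def pT98 : NT := .node (.node (.node (.node (.node (.node (.node (.node (.leaf 123) (.leaf 26329)) (.node (.leaf 11420) (.leaf 0))) (.node (.node (.leaf 5504) (.leaf 0)) (.node (.leaf 18212) (.leaf 0)))) (.node (.node (.node (.leaf 2748) (.leaf 31525)) (.node (.leaf 14704) (.leaf 0))) (.node (.node (.leaf 8390) (.leaf 0)) (.node (.leaf 22005) (.leaf 0))))) (.node (.node (.node (.node (.leaf 1424) (.leaf 28781)) (.node (.leaf 13048) (.leaf 0))) (.node (.node (.leaf 6938) (.leaf 0)) (.node (.leaf 20047) (.leaf 0)))) (.node (.node (.node (.leaf 4122) (.leaf 35033)) (.node (.leaf 16428) (.leaf 0))) (.node (.node (.leaf 9894) (.leaf 0)) (.node (.leaf 24064) (.leaf 0)))))) (.node (.node (.node (.node (.node (.leaf 770) (.leaf 27533)) (.node (.leaf 12250) (.leaf 0))) (.node (.node (.leaf 6210) (.leaf 0)) (.node (.leaf 19128)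 (.leaf 0)))) (.node (.node (.node (.leaf 3425) (.leaf 33103)) (.node (.leaf 15565) (.leaf 0))) (.node (.node (.leaf 9150) (.leaf 0)) (.node (.leaf 23036) (.leaf 0))))) (.node (.node (.node (.node (.leaf 2093) (.leaf 30099)) (.node (.leaf 13886) (.leaf 0))) (.node (.node (.leaf 7649) (.leaf 0)) (.node (.leaf 21032) (.leaf 0)))) (.node (.node (.node (.leaf 4812) (.leaf 37259)) (.node (.leaf 17320) (.leaf 0))) (.node (.node (.leaf 10648) (.leaf 0)) (.node (.leaf 25179) (.leaf 0))))))) (.node (.node (.node (.node (.node (.node (.leaf 444) (.leaf 26926)) (.node (.leaf 11844) (.leaf 0))) (.node (.node (.leaf 5850) (.leaf 0)) (.node (.leaf 18698) (.leaf 0)))) (.node (.node (.node (.leaf 3080) (.leaf 32302)) (.node (.leaf 15159) (.leaf 0))) (.node (.node (.leaf 8762) (.leaf 0)) (.node (.leaf 22548) (.leaf 0))))) (.node (.node (.node (.node (.leaf 1759) (.leaf 29442)) (.node (.leaf 13464) (.leaf 0))) (.node (.node (.leaf 7293) (.leaf 0)) (.node (.leaf 20537) (.leaf 0)))) (.node (.node (.node (.leaf 4466) (.leaf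 36061)) (.node (.leaf 16874) (.leaf 0))) (.node (.node (.leaf 10267) (.leaf 0)) (.node (.leaf 24595) (.leaf 0)))))) (.node (.node (.node (.node (.node (.leaf 1099) (.leaf 28119)) (.node (.leaf 12652) (.leaf 0))) (.node (.node (.leaf 6574) (.leaf 0)) (.node (.leaf 19578) (.leaf 0)))) (.node (.node (.node (.leaf 3770) (.leaf 34060)) (.node (.leaf 16004) (.leaf 0))) (.node (.node (.leaf 9536) (.leaf 0)) (.node (.leaf 23550) (.leaf 0))))) (.node (.node (.node (.node (.leaf 2425) (.leaf 30785)) (.node (.leaf 14286) (.leaf 0))) (.node (.node (.leaf 8016) (.leaf 0)) (.node (.leaf 21512) (.leaf 0)))) (.node (.node (.node (.leaf 5154) (.leaf 38604)) (.node (.leaf 17763) (.leaf 0))) (.node (.node (.leaf 11038) (.leaf 0)) (.node (.leaf 25740) (.leaf 0)))))))) (.node (.node (.node (.node (.node (.node (.node (.leaf 282) (.leaf 26617)) (.node (.leaf 11628) (.leaf 0))) (.node (.node (.leaf 5681) (.leaf 0)) (.node (.leaf 18457) (.leaf 0)))) (.node (.node (.node (.leaf 2915) (.leaf 31927)) (.node (.leaf 14936) (.leaf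 0))) (.node (.node (.leaf 8572) (.leaf 0)) (.node (.leaf 22266) (.leaf 0))))) (.node (.node (.node (.node (.leaf 1590) (.leaf 29099)) (.node (.leaf 13261) (.leaf 0))) (.node (.node (.leaf 7114) (.leaf 0)) (.node (.leaf 20284) (.leaf 0)))) (.node (.node (.node (.leaf 4294) (.leaf 35546)) (.node (.leaf 16637) (.leaf 0))) (.node (.node (.leaf 10075) (.leaf 0)) (.node (.leaf 24328) (.leaf 0)))))) (.node (.node (.node (.node (.node (.leaf 935) (.leaf 27795)) (.node (.leaf 12452) (.leaf 0))) (.node (.node (.leaf 6397) (.leaf 0)) (.node (.leaf 19350) (.leaf 0)))) (.node (.node (.node (.leaf 3598) (.leaf 33564)) (.node (.leaf 15780) (.leaf 0))) (.node (.node (.leaf 9348) (.leaf 0)) (.node (.leaf 23285) (.leaf 0))))) (.node (.node (.node (.node (.leaf 2261) (.leaf 30431)) (.node (.leaf 14085) (.leaf 0))) (.node (.node (.leaf 7836) (.leaf 0)) (.node (.leaf 21275) (.leaf 0)))) (.node (.node (.node (.leaf 4982) (.leaf 37848)) (.node (.leaf 17547) (.leaf 0))) (.node (.node (.leaf 10855) (.leaf 0)) (.node (.leaf 25433)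 (.leaf 0))))))) (.node (.node (.node (.node (.node (.node (.leaf 606) (.leaf 27240)) (.node (.leaf 12044) (.leaf 0))) (.node (.node (.leaf 6024) (.leaf 0)) (.node (.leaf 18928) (.leaf 0)))) (.node (.node (.node (.leaf 3246) (.leaf 32718)) (.node (.leaf 15362) (.leaf 0))) (.node (.node (.leaf 8952) (.leaf 0)) (.node (.leaf 22772) (.leaf 0))))) (.node (.node (.node (.node (.leaf 1924) (.leaf 29751)) (.node (.leaf 13674) (.leaf 0))) (.node (.node (.leaf 7474) (.leaf 0)) (.node (.leaf 20782) (.leaf 0)))) (.node (.node (.node (.leaf 4638) (.leaf 36644)) (.node (.leaf 17086) (.leaf 0))) (.node (.node (.leaf 10457) (.leaf 0)) (.node (.leaf 24891) (.leaf 0)))))) (.node (.node (.node (.node (.node (.leaf 1260) (.leaf 28425)) (.node (.leaf 12854) (.leaf 0))) (.node (.node (.leaf 6752) (.leaf 0)) (.node (.leaf 19806) (.leaf 0)))) (.node (.node (.node (.leaf 3940) (.leaf 34524)) (.node (.leaf 16226) (.leaf 0))) (.node (.node (.leaf 9713) (.leaf 0)) (.node (.leaf 23804) (.leaf 0))))) (.node (.node (.node (.node (.leaf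 2587) (.leaf 31140)) (.node (.leaf 14491) (.leaf 0))) (.node (.node (.leaf 8205) (.leaf 0)) (.node (.leaf 21768) (.leaf 0)))) (.node (.node (.node (.leaf 5325) (.leaf 39688)) (.node (.leaf 18000) (.leaf 0))) (.node (.node (.leaf 11228) (.leaf 0)) (.node (.leaf 26042) (.leaf 0))))))))

def pT99 : NT := .node (.node (.node (.node (.node (.node (.node (.node (.leaf 124) (.leaf 26331)) (.node (.leaf 11421) (.leaf 0))) (.node (.node (.leaf 5505) (.leaf 0)) (.node (.leaf 18213) (.leaf 0)))) (.node (.node (.node (.leaf 2749) (.leaf 31526)) (.node (.leaf 14705) (.leaf 0))) (.node (.node (.leaf 8392) (.leaf 0)) (.node (.leaf 22006) (.leaf 0))))) (.node (.node (.node (.node (.leaf 1427) (.leaf 28782)) (.node (.leaf 13054) (.leaf 0))) (.node (.node (.leaf 6940) (.leaf 0)) (.node (.leaf 20048) (.leaf 0)))) (.node (.node (.node (.leaf 4123) (.leaf 35038)) (.node (.leaf 16430) (.leaf 0))) (.node (.node (.leaf 9896) (.leaf 0)) (.node (.leaf 24066) (.leaf 0)))))) (.node (.node (.node (.node (.node (.leaf 771) (.leaf 27534))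 (.node (.leaf 12252) (.leaf 0))) (.node (.node (.leaf 6211) (.leaf 0)) (.node (.leaf 19130) (.leaf 0)))) (.node (.node (.node (.leaf 3426) (.leaf 33104)) (.node (.leaf 15568) (.leaf 0))) (.node (.node (.leaf 9151) (.leaf 0)) (.node (.leaf 23039) (.leaf 0))))) (.node (.node (.node (.node (.leaf 2094) (.leaf 30102)) (.node (.leaf 13887) (.leaf 0))) (.node (.node (.leaf 7650) (.leaf 0)) (.node (.leaf 21034) (.leaf 0)))) (.node (.node (.node (.leaf 4814) (.leaf 37260)) (.node (.leaf 17322) (.leaf 0))) (.node (.node (.leaf 10651) (.leaf 0)) (.node (.leaf 25180) (.leaf 0))))))) (.node (.node (.node (.node (.node (.node (.leaf 445) (.leaf 26927)) (.node (.leaf 11845) (.leaf 0))) (.node (.node (.leaf 5851) (.leaf 0)) (.node (.leaf 18700) (.leaf 0)))) (.node (.node (.node (.leaf 3081) (.leaf 32304)) (.node (.leaf 15161) (.leaf 0))) (.node (.node (.leaf 8763) (.leaf 0)) (.node (.leaf 22549) (.leaf 0))))) (.node (.node (.node (.node (.leaf 1760) (.leaf 29443)) (.node (.leaf 13466) (.leaf 0))) (.node (.node (.leaf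 7294) (.leaf 0)) (.node (.leaf 20539) (.leaf 0)))) (.node (.node (.node (.leaf 4467) (.leaf 36066)) (.node (.leaf 16875) (.leaf 0))) (.node (.node (.leaf 10270) (.leaf 0)) (.node (.leaf 24596) (.leaf 0)))))) (.node (.node (.node (.node (.node (.leaf 1100) (.leaf 28124)) (.node (.leaf 12653) (.leaf 0))) (.node (.node (.leaf 6576) (.leaf 0)) (.node (.leaf 19580) (.leaf 0)))) (.node (.node (.node (.leaf 3772) (.leaf 34061)) (.node (.leaf 16005) (.leaf 0))) (.node (.node (.leaf 9537) (.leaf 0)) (.node (.leaf 23551) (.leaf 0))))) (.node (.node (.node (.node (.leaf 2426) (.leaf 30786)) (.node (.leaf 14288) (.leaf 0))) (.node (.node (.leaf 8017) (.leaf 0)) (.node (.leaf 21515) (.leaf 0)))) (.node (.node (.node (.leaf 5155) (.leaf 38607)) (.node (.leaf 17768) (.leaf 0))) (.node (.node (.leaf 11041) (.leaf 0)) (.node (.leaf 25741) (.leaf 0)))))))) (.node (.node (.node (.node (.node (.node (.node (.leaf 284) (.leaf 26620)) (.node (.leaf 11630) (.leaf 0))) (.node (.node (.leaf 5682) (.leaf 0)) (.node (.leaf 18458)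 (.leaf 0)))) (.node (.node (.node (.leaf 2916) (.leaf 31936)) (.node (.leaf 14937) (.leaf 0))) (.node (.node (.leaf 8573) (.leaf 0)) (.node (.leaf 22267) (.leaf 0))))) (.node (.node (.node (.node (.leaf 1592) (.leaf 29100)) (.node (.leaf 13262) (.leaf 0))) (.node (.node (.leaf 7115) (.leaf 0)) (.node (.leaf 20285) (.leaf 0)))) (.node (.node (.node (.leaf 4296) (.leaf 35558)) (.node (.leaf 16638) (.leaf 0))) (.node (.node (.leaf 10076) (.leaf 0)) (.node (.leaf 24330) (.leaf 0)))))) (.node (.node (.node (.node (.node (.leaf 936) (.leaf 27798)) (.node (.leaf 12454) (.leaf 0))) (.node (.node (.leaf 6398) (.leaf 0)) (.node (.leaf 19352) (.leaf 0)))) (.node (.node (.node (.leaf 3600) (.leaf 33566)) (.node (.leaf 15782) (.leaf 0))) (.node (.node (.leaf 9350) (.leaf 0)) (.node (.leaf 23286) (.leaf 0))))) (.node (.node (.node (.node (.leaf 2262) (.leaf 30432)) (.node (.leaf 14086) (.leaf 0))) (.node (.node (.leaf 7837) (.leaf 0)) (.node (.leaf 21276) (.leaf 0)))) (.node (.node (.node (.leaf 4983) (.leaf 37850))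 (.node (.leaf 17549) (.leaf 0))) (.node (.node (.leaf 10856) (.leaf 0)) (.node (.leaf 25434) (.leaf 0))))))) (.node (.node (.node (.node (.node (.node (.leaf 607) (.leaf 27242)) (.node (.leaf 12047) (.leaf 0))) (.node (.node (.leaf 6025) (.leaf 0)) (.node (.leaf 18930) (.leaf 0)))) (.node (.node (.node (.leaf 3248) (.leaf 32720)) (.node (.leaf 15363) (.leaf 0))) (.node (.node (.leaf 8953) (.leaf 0)) (.node (.leaf 22774) (.leaf 0))))) (.node (.node (.node (.node (.leaf 1926) (.leaf 29752)) (.node (.leaf 13676) (.leaf 0))) (.node (.node (.leaf 7475) (.leaf 0)) (.node (.leaf 20783) (.leaf 0)))) (.node (.node (.node (.leaf 4642) (.leaf 36660)) (.node (.leaf 17090) (.leaf 0))) (.node (.node (.leaf 10458) (.leaf 0)) (.node (.leaf 24892) (.leaf 0)))))) (.node (.node (.node (.node (.node (.leaf 1261) (.leaf 28430)) (.node (.leaf 12856) (.leaf 0))) (.node (.node (.leaf 6754) (.leaf 0)) (.node (.leaf 19808) (.leaf 0)))) (.node (.node (.node (.leaf 3941) (.leaf 34526)) (.node (.leaf 16227) (.leaf 0))) (.node (.node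 (.leaf 9715) (.leaf 0)) (.node (.leaf 23805) (.leaf 0))))) (.node (.node (.node (.node (.leaf 2589) (.leaf 31141)) (.node (.leaf 14492) (.leaf 0))) (.node (.node (.leaf 8206) (.leaf 0)) (.node (.leaf 21769) (.leaf 0)))) (.node (.node (.node (.leaf 5326) (.leaf 39696)) (.node (.leaf 18002) (.leaf 0))) (.node (.node (.leaf 11230) (.leaf 0)) (.node (.leaf 26044) (.leaf 0))))))))

def pT100 : NT := .node (.node (.node (.node (.node (.node (.node (.node (.leaf 125) (.leaf 26332)) (.node (.leaf 11422) (.leaf 0))) (.node (.node (.leaf 5506) (.leaf 0)) (.node (.leaf 18214) (.leaf 0)))) (.node (.node (.node (.leaf 2750) (.leaf 31527)) (.node (.leaf 14707) (.leaf 0))) (.node (.node (.leaf 8393) (.leaf 0)) (.node (.leaf 22010) (.leaf 0))))) (.node (.node (.node (.node (.leaf 1428) (.leaf 28784)) (.node (.leaf 13057) (.leaf 0))) (.node (.node (.leaf 6941) (.leaf 0)) (.node (.leaf 20050) (.leaf 0)))) (.node (.node (.node (.leaf 4124) (.leaf 35039)) (.node (.leaf 16432) (.leaf 0))) (.node (.node (.leaf 9897) (.leaf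 0)) (.node (.leaf 24069) (.leaf 0)))))) (.node (.node (.node (.node (.node (.leaf 772) (.leaf 27535)) (.node (.leaf 12253) (.leaf 0))) (.node (.node (.leaf 6214) (.leaf 0)) (.node (.leaf 19132) (.leaf 0)))) (.node (.node (.node (.leaf 3428) (.leaf 33108)) (.node (.leaf 15570) (.leaf 0))) (.node (.node (.leaf 9152) (.leaf 0)) (.node (.leaf 23040) (.leaf 0))))) (.node (.node (.node (.node (.leaf 2095) (.leaf 30103)) (.node (.leaf 13888) (.leaf 0))) (.node (.node (.leaf 7651) (.leaf 0)) (.node (.leaf 21036) (.leaf 0)))) (.node (.node (.node (.leaf 4815) (.leaf 37262)) (.node (.leaf 17323) (.leaf 0))) (.node (.node (.leaf 10654) (.leaf 0)) (.node (.leaf 25183) (.leaf 0))))))) (.node (.node (.node (.node (.node (.node (.leaf 446) (.leaf 26931)) (.node (.leaf 11846) (.leaf 0))) (.node (.node (.leaf 5852) (.leaf 0)) (.node (.leaf 18701) (.leaf 0)))) (.node (.node (.node (.leaf 3082) (.leaf 32306)) (.node (.leaf 15162) (.leaf 0))) (.node (.node (.leaf 8764) (.leaf 0)) (.node (.leaf 22550) (.leaf 0))))) (.node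 (.node (.node (.node (.leaf 1761) (.leaf 29445)) (.node (.leaf 13469) (.leaf 0))) (.node (.node (.leaf 7297) (.leaf 0)) (.node (.leaf 20540) (.leaf 0)))) (.node (.node (.node (.leaf 4468) (.leaf 36071)) (.node (.leaf 16876) (.leaf 0))) (.node (.node (.leaf 10271) (.leaf 0)) (.node (.leaf 24598) (.leaf 0)))))) (.node (.node (.node (.node (.node (.leaf 1101) (.leaf 28125)) (.node (.leaf 12654) (.leaf 0))) (.node (.node (.leaf 6577) (.leaf 0)) (.node (.leaf 19581) (.leaf 0)))) (.node (.node (.node (.leaf 3773) (.leaf 34068)) (.node (.leaf 16006) (.leaf 0))) (.node (.node (.leaf 9540) (.leaf 0)) (.node (.leaf 23556) (.leaf 0))))) (.node (.node (.node (.node (.leaf 2428) (.leaf 30787)) (.node (.leaf 14289) (.leaf 0))) (.node (.node (.leaf 8018) (.leaf 0)) (.node (.leaf 21516) (.leaf 0)))) (.node (.node (.node (.leaf 5156) (.leaf 38608)) (.node (.leaf 17770) (.leaf 0))) (.node (.node (.leaf 11042) (.leaf 0)) (.node (.leaf 25744) (.leaf 0)))))))) (.node (.node (.node (.node (.node (.node (.node (.leaf 285) (.leaf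 26621)) (.node (.leaf 11631) (.leaf 0))) (.node (.node (.leaf 5685) (.leaf 0)) (.node (.leaf 18460) (.leaf 0)))) (.node (.node (.node (.leaf 2918) (.leaf 31938)) (.node (.leaf 14938) (.leaf 0))) (.node (.node (.leaf 8574) (.leaf 0)) (.node (.leaf 22268) (.leaf 0))))) (.node (.node (.node (.node (.leaf 1593) (.leaf 29105)) (.node (.leaf 13264) (.leaf 0))) (.node (.node (.leaf 7116) (.leaf 0)) (.node (.leaf 20286) (.leaf 0)))) (.node (.node (.node (.leaf 4297) (.leaf 35559)) (.node (.leaf 16640) (.leaf 0))) (.node (.node (.leaf 10079) (.leaf 0)) (.node (.leaf 24331) (.leaf 0)))))) (.node (.node (.node (.node (.node (.leaf 938) (.leaf 27800)) (.node (.leaf 12455) (.leaf 0))) (.node (.node (.leaf 6399) (.leaf 0)) (.node (.leaf 19353) (.leaf 0)))) (.node (.node (.node (.leaf 3601) (.leaf 33569)) (.node (.leaf 15783) (.leaf 0))) (.node (.node (.leaf 9351) (.leaf 0)) (.node (.leaf 23288) (.leaf 0))))) (.node (.node (.node (.node (.leaf 2264) (.leaf 30434)) (.node (.leaf 14088) (.leaf 0))) (.node (.node (.leaf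 7838) (.leaf 0)) (.node (.leaf 21278) (.leaf 0)))) (.node (.node (.node (.leaf 4984) (.leaf 37851)) (.node (.leaf 17552) (.leaf 0))) (.node (.node (.leaf 10859) (.leaf 0)) (.node (.leaf 25436) (.leaf 0))))))) (.node (.node (.node (.node (.node (.node (.leaf 608) (.leaf 27244)) (.node (.leaf 12049) (.leaf 0))) (.node (.node (.leaf 6026) (.leaf 0)) (.node (.leaf 18932) (.leaf 0)))) (.node (.node (.node (.leaf 3249) (.leaf 32722)) (.node (.leaf 15364) (.leaf 0))) (.node (.node (.leaf 8954) (.leaf 0)) (.node (.leaf 22775) (.leaf 0))))) (.node (.node (.node (.node (.leaf 1927) (.leaf 29757)) (.node (.leaf 13677) (.leaf 0))) (.node (.node (.leaf 7476) (.leaf 0)) (.node (.leaf 20785) (.leaf 0)))) (.node (.node (.node (.leaf 4643) (.leaf 36686)) (.node (.leaf 17092) (.leaf 0))) (.node (.node (.leaf 10460) (.leaf 0)) (.node (.leaf 24893) (.leaf 0)))))) (.node (.node (.node (.node (.node (.leaf 1262) (.leaf 28431)) (.node (.leaf 12857) (.leaf 0))) (.node (.node (.leaf 6756) (.leaf 0)) (.node (.leaf 19810) (.leaf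 0)))) (.node (.node (.node (.leaf 3942) (.leaf 34528)) (.node (.leaf 16229) (.leaf 0))) (.node (.node (.leaf 9716) (.leaf 0)) (.node (.leaf 23806) (.leaf 0))))) (.node (.node (.node (.node (.leaf 2590) (.leaf 31142)) (.node (.leaf 14494) (.leaf 0))) (.node (.node (.leaf 8207) (.leaf 0)) (.node (.leaf 21770) (.leaf 0)))) (.node (.node (.node (.leaf 5328) (.leaf 39697)) (.node (.leaf 18004) (.leaf 0))) (.node (.node (.leaf 11231) (.leaf 0)) (.node (.leaf 26046) (.leaf 0))))))))

def pT101 : NT := .node (.node (.node (.node (.node (.node (.node (.node (.leaf 126) (.leaf 26335)) (.node (.leaf 11425) (.leaf 0))) (.node (.node (.leaf 5508) (.leaf 0)) (.node (.leaf 18215) (.leaf 0)))) (.node (.node (.node (.leaf 2752) (.leaf 31529)) (.node (.leaf 14708) (.leaf 0))) (.node (.node (.leaf 8394) (.leaf 0)) (.node (.leaf 22011) (.leaf 0))))) (.node (.node (.node (.node (.leaf 1430) (.leaf 28787)) (.node (.leaf 13058) (.leaf 0))) (.node (.node (.leaf 6942) (.leaf 0)) (.node (.leaf 20052) (.leaf 0)))) (.node (.node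 (.node (.leaf 4126) (.leaf 35042)) (.node (.leaf 16433) (.leaf 0))) (.node (.node (.leaf 9898) (.leaf 0)) (.node (.leaf 24073) (.leaf 0)))))) (.node (.node (.node (.node (.node (.leaf 774) (.leaf 27536)) (.node (.leaf 12254) (.leaf 0))) (.node (.node (.leaf 6215) (.leaf 0)) (.node (.leaf 19133) (.leaf 0)))) (.node (.node (.node (.leaf 3429) (.leaf 33110)) (.node (.leaf 15572) (.leaf 0))) (.node (.node (.leaf 9154) (.leaf 0)) (.node (.leaf 23041) (.leaf 0))))) (.node (.node (.node (.node (.leaf 2096) (.leaf 30107)) (.node (.leaf 13889) (.leaf 0))) (.node (.node (.leaf 7654) (.leaf 0)) (.node (.leaf 21038) (.leaf 0)))) (.node (.node (.node (.leaf 4816) (.leaf 37265)) (.node (.leaf 17324) (.leaf 0))) (.node (.node (.leaf 10655) (.leaf 0)) (.node (.leaf 25187) (.leaf 0))))))) (.node (.node (.node (.node (.node (.node (.leaf 448) (.leaf 26936)) (.node (.leaf 11848) (.leaf 0))) (.node (.node (.leaf 5854) (.leaf 0)) (.node (.leaf 18702) (.leaf 0)))) (.node (.node (.node (.leaf 3084) (.leaf 32310)) (.node (.leaf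 15166) (.leaf 0))) (.node (.node (.leaf 8766) (.leaf 0)) (.node (.leaf 22552) (.leaf 0))))) (.node (.node (.node (.node (.leaf 1762) (.leaf 29446)) (.node (.leaf 13470) (.leaf 0))) (.node (.node (.leaf 7298) (.leaf 0)) (.node (.leaf 20542) (.leaf 0)))) (.node (.node (.node (.leaf 4470) (.leaf 36074)) (.node (.leaf 16877) (.leaf 0))) (.node (.node (.leaf 10272) (.leaf 0)) (.node (.leaf 24599) (.leaf 0)))))) (.node (.node (.node (.node (.node (.leaf 1102) (.leaf 28126)) (.node (.leaf 12656) (.leaf 0))) (.node (.node (.leaf 6578) (.leaf 0)) (.node (.leaf 19582) (.leaf 0)))) (.node (.node (.node (.leaf 3774) (.leaf 34070)) (.node (.leaf 16007) (.leaf 0))) (.node (.node (.leaf 9541) (.leaf 0)) (.node (.leaf 23557) (.leaf 0))))) (.node (.node (.node (.node (.leaf 2429) (.leaf 30789)) (.node (.leaf 14290) (.leaf 0))) (.node (.node (.leaf 8020) (.leaf 0)) (.node (.leaf 21518) (.leaf 0)))) (.node (.node (.node (.leaf 5157) (.leaf 38611)) (.node (.leaf 17772) (.leaf 0))) (.node (.node (.leaf 11044) (.leaf 0)) (.node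 (.leaf 25746) (.leaf 0)))))))) (.node (.node (.node (.node (.node (.node (.node (.leaf 286) (.leaf 26624)) (.node (.leaf 11632) (.leaf 0))) (.node (.node (.leaf 5686) (.leaf 0)) (.node (.leaf 18461) (.leaf 0)))) (.node (.node (.node (.leaf 2919) (.leaf 31939)) (.node (.leaf 14944) (.leaf 0))) (.node (.node (.leaf 8575) (.leaf 0)) (.node (.leaf 22270) (.leaf 0))))) (.node (.node (.node (.node (.leaf 1594) (.leaf 29110)) (.node (.leaf 13265) (.leaf 0))) (.node (.node (.leaf 7118) (.leaf 0)) (.node (.leaf 20287) (.leaf 0)))) (.node (.node (.node (.leaf 4298) (.leaf 35570)) (.node (.leaf 16641) (.leaf 0))) (.node (.node (.leaf 10080) (.leaf 0)) (.node (.leaf 24332) (.leaf 0)))))) (.node (.node (.node (.node (.node (.leaf 939) (.leaf 27802)) (.node (.leaf 12456) (.leaf 0))) (.node (.node (.leaf 6402) (.leaf 0)) (.node (.leaf 19354) (.leaf 0)))) (.node (.node (.node (.leaf 3602) (.leaf 33570)) (.node (.leaf 15786) (.leaf 0))) (.node (.node (.leaf 9352) (.leaf 0)) (.node (.leaf 23290) (.leaf 0))))) (.node (.node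 (.node (.node (.leaf 2265) (.leaf 30436)) (.node (.leaf 14090) (.leaf 0))) (.node (.node (.leaf 7841) (.leaf 0)) (.node (.leaf 21282) (.leaf 0)))) (.node (.node (.node (.leaf 4986) (.leaf 37858)) (.node (.leaf 17554) (.leaf 0))) (.node (.node (.leaf 10862) (.leaf 0)) (.node (.leaf 25438) (.leaf 0))))))) (.node (.node (.node (.node (.node (.node (.leaf 610) (.leaf 27246)) (.node (.leaf 12050) (.leaf 0))) (.node (.node (.leaf 6027) (.leaf 0)) (.node (.leaf 18933) (.leaf 0)))) (.node (.node (.node (.leaf 3250) (.leaf 32723)) (.node (.leaf 15366) (.leaf 0))) (.node (.node (.leaf 8957) (.leaf 0)) (.node (.leaf 22776) (.leaf 0))))) (.node (.node (.node (.node (.leaf 1928) (.leaf 29761)) (.node (.leaf 13678) (.leaf 0))) (.node (.node (.leaf 7478) (.leaf 0)) (.node (.leaf 20787) (.leaf 0)))) (.node (.node (.node (.leaf 4644) (.leaf 36704)) (.node (.leaf 17094) (.leaf 0))) (.node (.node (.leaf 10461) (.leaf 0)) (.node (.leaf 24896) (.leaf 0)))))) (.node (.node (.node (.node (.node (.leaf 1264) (.leaf 28436)) (.node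 (.leaf 12860) (.leaf 0))) (.node (.node (.leaf 6757) (.leaf 0)) (.node (.leaf 19816) (.leaf 0)))) (.node (.node (.node (.leaf 3943) (.leaf 34531)) (.node (.leaf 16230) (.leaf 0))) (.node (.node (.leaf 9717) (.leaf 0)) (.node (.leaf 23807) (.leaf 0))))) (.node (.node (.node (.node (.leaf 2591) (.leaf 31145)) (.node (.leaf 14496) (.leaf 0))) (.node (.node (.leaf 8208) (.leaf 0)) (.node (.leaf 21772) (.leaf 0)))) (.node (.node (.node (.leaf 5329) (.leaf 39718)) (.node (.leaf 18007) (.leaf 0))) (.node (.node (.leaf 11232) (.leaf 0)) (.node (.leaf 26047) (.leaf 0))))))))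

def pT102 : NT := .node (.node (.node (.node (.node (.node (.node (.node (.leaf 128) (.leaf 26336)) (.node (.leaf 11426) (.leaf 0))) (.node (.node (.leaf 5509) (.leaf 0)) (.node (.leaf 18218) (.leaf 0)))) (.node (.node (.node (.leaf 2753) (.leaf 31531)) (.node (.leaf 14710) (.leaf 0))) (.node (.node (.leaf 8395) (.leaf 0)) (.node (.leaf 22014) (.leaf 0))))) (.node (.node (.node (.node (.leaf 1431) (.leaf 28789)) (.node (.leaf 13060) (.leaf 0))) (.node (.node (.leaf 6943) (.leaf 0)) (.node (.leaf 20054) (.leaf 0)))) (.node (.node (.node (.leaf 4127) (.leaf 35044)) (.node (.leaf 16434) (.leaf 0))) (.node (.node (.leaf 9900) (.leaf 0)) (.node (.leaf 24074) (.leaf 0)))))) (.node (.node (.node (.node (.node (.leaf 775) (.leaf 27537)) (.node (.leaf 12256) (.leaf 0))) (.node (.node (.leaf 6216) (.leaf 0)) (.node (.leaf 19134) (.leaf 0)))) (.node (.node (.node (.leaf 3430) (.leaf 33114)) (.node (.leaf 15574) (.leaf 0))) (.node (.node (.leaf 9155) (.leaf 0)) (.node (.leaf 23042) (.leaf 0))))) (.node (.node (.node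 (.node (.leaf 2098) (.leaf 30110)) (.node (.leaf 13890) (.leaf 0))) (.node (.node (.leaf 7655) (.leaf 0)) (.node (.leaf 21040) (.leaf 0)))) (.node (.node (.node (.leaf 4818) (.leaf 37266)) (.node (.leaf 17325) (.leaf 0))) (.node (.node (.leaf 10656) (.leaf 0)) (.node (.leaf 25188) (.leaf 0))))))) (.node (.node (.node (.node (.node (.node (.leaf 449) (.leaf 26937)) (.node (.leaf 11850) (.leaf 0))) (.node (.node (.leaf 5855) (.leaf 0)) (.node (.leaf 18708) (.leaf 0)))) (.node (.node (.node (.leaf 3085) (.leaf 32314)) (.node (.leaf 15168) (.leaf 0))) (.node (.node (.leaf 8768) (.leaf 0)) (.node (.leaf 22554) (.leaf 0))))) (.node (.node (.node (.node (.leaf 1764) (.leaf 29448)) (.node (.leaf 13472) (.leaf 0))) (.node (.node (.leaf 7299) (.leaf 0)) (.node (.leaf 20544) (.leaf 0)))) (.node (.node (.node (.leaf 4471) (.leaf 36078)) (.node (.leaf 16878) (.leaf 0))) (.node (.node (.leaf 10273) (.leaf 0)) (.node (.leaf 24602) (.leaf 0)))))) (.node (.node (.node (.node (.node (.leaf 1104) (.leaf 28128)) (.node (.leaf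 12658) (.leaf 0))) (.node (.node (.leaf 6579) (.leaf 0)) (.node (.leaf 19584) (.leaf 0)))) (.node (.node (.node (.leaf 3775) (.leaf 34080)) (.node (.leaf 16008) (.leaf 0))) (.node (.node (.leaf 9542) (.leaf 0)) (.node (.leaf 23558) (.leaf 0))))) (.node (.node (.node (.node (.leaf 2430) (.leaf 30790)) (.node (.leaf 14292) (.leaf 0))) (.node (.node (.leaf 8022) (.leaf 0)) (.node (.leaf 21519) (.leaf 0)))) (.node (.node (.node (.leaf 5158) (.leaf 38620)) (.node (.leaf 17774) (.leaf 0))) (.node (.node (.leaf 11045) (.leaf 0)) (.node (.leaf 25749) (.leaf 0)))))))) (.node (.node (.node (.node (.node (.node (.node (.leaf 288) (.leaf 26630)) (.node (.leaf 11634) (.leaf 0))) (.node (.node (.leaf 5687) (.leaf 0)) (.node (.leaf 18462) (.leaf 0)))) (.node (.node (.node (.leaf 2920) (.leaf 31940)) (.node (.leaf 14945) (.leaf 0))) (.node (.node (.leaf 8576) (.leaf 0)) (.node (.leaf 22271) (.leaf 0))))) (.node (.node (.node (.node (.leaf 1596) (.leaf 29112)) (.node (.leaf 13266) (.leaf 0))) (.node (.node (.leaf 7119)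 (.leaf 0)) (.node (.leaf 20288) (.leaf 0)))) (.node (.node (.node (.leaf 4299) (.leaf 35572)) (.node (.leaf 16642) (.leaf 0))) (.node (.node (.leaf 10082) (.leaf 0)) (.node (.leaf 24334) (.leaf 0)))))) (.node (.node (.node (.node (.node (.leaf 940) (.leaf 27804)) (.node (.leaf 12458) (.leaf 0))) (.node (.node (.leaf 6404) (.leaf 0)) (.node (.leaf 19356) (.leaf 0)))) (.node (.node (.node (.leaf 3605) (.leaf 33583)) (.node (.leaf 15787) (.leaf 0))) (.node (.node (.leaf 9354) (.leaf 0)) (.node (.leaf 23291) (.leaf 0))))) (.node (.node (.node (.node (.leaf 2266) (.leaf 30438)) (.node (.leaf 14091) (.leaf 0))) (.node (.node (.leaf 7842) (.leaf 0)) (.node (.leaf 21283) (.leaf 0)))) (.node (.node (.node (.leaf 4987) (.leaf 37866)) (.node (.leaf 17558) (.leaf 0))) (.node (.node (.leaf 10863) (.leaf 0)) (.node (.leaf 25440) (.leaf 0))))))) (.node (.node (.node (.node (.node (.node (.leaf 611) (.leaf 27250)) (.node (.leaf 12052) (.leaf 0))) (.node (.node (.leaf 6030) (.leaf 0)) (.node (.leaf 18935) (.leaf 0))))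 (.node (.node (.node (.leaf 3252) (.leaf 32724)) (.node (.leaf 15369) (.leaf 0))) (.node (.node (.leaf 8958) (.leaf 0)) (.node (.leaf 22778) (.leaf 0))))) (.node (.node (.node (.node (.leaf 1930) (.leaf 29762)) (.node (.leaf 13679) (.leaf 0))) (.node (.node (.leaf 7479) (.leaf 0)) (.node (.leaf 20788) (.leaf 0)))) (.node (.node (.node (.leaf 4645) (.leaf 36709)) (.node (.leaf 17096) (.leaf 0))) (.node (.node (.leaf 10462) (.leaf 0)) (.node (.leaf 24897) (.leaf 0)))))) (.node (.node (.node (.node (.node (.leaf 1265) (.leaf 28442)) (.node (.leaf 12862) (.leaf 0))) (.node (.node (.leaf 6758) (.leaf 0)) (.node (.leaf 19817) (.leaf 0)))) (.node (.node (.node (.leaf 3944) (.leaf 34532)) (.node (.leaf 16233) (.leaf 0))) (.node (.node (.leaf 9718) (.leaf 0)) (.node (.leaf 23814) (.leaf 0))))) (.node (.node (.node (.node (.leaf 2592) (.leaf 31151)) (.node (.leaf 14497) (.leaf 0))) (.node (.node (.leaf 8210) (.leaf 0)) (.node (.leaf 21773) (.leaf 0)))) (.node (.node (.node (.leaf 5330) (.leaf 39726)) (.node (.leaf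 18008) (.leaf 0))) (.node (.node (.leaf 11233) (.leaf 0)) (.node (.leaf 26048) (.leaf 0))))))))

def pT103 : NT := .node (.node (.node (.node (.node (.node (.node (.node (.leaf 129) (.leaf 26337)) (.node (.leaf 11427) (.leaf 0))) (.node (.node (.leaf 5510) (.leaf 0)) (.node (.leaf 18220) (.leaf 0)))) (.node (.node (.node (.leaf 2754) (.leaf 31532)) (.node (.leaf 14711) (.leaf 0))) (.node (.node (.leaf 8396) (.leaf 0)) (.node (.leaf 22015) (.leaf 0))))) (.node (.node (.node (.node (.leaf 1432) (.leaf 28790)) (.node (.leaf 13062) (.leaf 0))) (.node (.node (.leaf 6944) (.leaf 0)) (.node (.leaf 20055) (.leaf 0)))) (.node (.node (.node (.leaf 4128) (.leaf 35047)) (.node (.leaf 16435) (.leaf 0))) (.node (.node (.leaf 9901) (.leaf 0)) (.node (.leaf 24075) (.leaf 0)))))) (.node (.node (.node (.node (.node (.leaf 776) (.leaf 27545)) (.node (.leaf 12258) (.leaf 0))) (.node (.node (.leaf 6217) (.leaf 0)) (.node (.leaf 19137) (.leaf 0)))) (.node (.node (.node (.leaf 3431) (.leaf 33116)) (.node (.leaf 15576) (.leaf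 0))) (.node (.node (.leaf 9156) (.leaf 0)) (.node (.leaf 23044) (.leaf 0))))) (.node (.node (.node (.node (.leaf 2099) (.leaf 30112)) (.node (.leaf 13891) (.leaf 0))) (.node (.node (.leaf 7656) (.leaf 0)) (.node (.leaf 21044) (.leaf 0)))) (.node (.node (.node (.leaf 4819) (.leaf 37270)) (.node (.leaf 17326) (.leaf 0))) (.node (.node (.leaf 10657) (.leaf 0)) (.node (.leaf 25190) (.leaf 0))))))) (.node (.node (.node (.node (.node (.node (.leaf 450) (.leaf 26938)) (.node (.leaf 11851) (.leaf 0))) (.node (.node (.leaf 5856) (.leaf 0)) (.node (.leaf 18711) (.leaf 0)))) (.node (.node (.node (.leaf 3086) (.leaf 32316)) (.node (.leaf 15169) (.leaf 0))) (.node (.node (.leaf 8769) (.leaf 0)) (.node (.leaf 22555) (.leaf 0))))) (.node (.node (.node (.node (.leaf 1765) (.leaf 29452)) (.node (.leaf 13473) (.leaf 0))) (.node (.node (.leaf 7300) (.leaf 0)) (.node (.leaf 20546) (.leaf 0)))) (.node (.node (.node (.leaf 4472) (.leaf 36080)) (.node (.leaf 16882) (.leaf 0))) (.node (.node (.leaf 10274) (.leaf 0)) (.node (.leaf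 24608) (.leaf 0)))))) (.node (.node (.node (.node (.node (.leaf 1105) (.leaf 28130)) (.node (.leaf 12660) (.leaf 0))) (.node (.node (.leaf 6580) (.leaf 0)) (.node (.leaf 19586) (.leaf 0)))) (.node (.node (.node (.leaf 3776) (.leaf 34082)) (.node (.leaf 16010) (.leaf 0))) (.node (.node (.leaf 9543) (.leaf 0)) (.node (.leaf 23559) (.leaf 0))))) (.node (.node (.node (.node (.leaf 2432) (.leaf 30794)) (.node (.leaf 14294) (.leaf 0))) (.node (.node (.leaf 8024) (.leaf 0)) (.node (.leaf 21520) (.leaf 0)))) (.node (.node (.node (.leaf 5159) (.leaf 38628)) (.node (.leaf 17778) (.leaf 0))) (.node (.node (.leaf 11046) (.leaf 0)) (.node (.leaf 25750) (.leaf 0)))))))) (.node (.node (.node (.node (.node (.node (.node (.leaf 289) (.leaf 26635)) (.node (.leaf 11635) (.leaf 0))) (.node (.node (.leaf 5688) (.leaf 0)) (.node (.leaf 18464) (.leaf 0)))) (.node (.node (.node (.leaf 2921) (.leaf 31943)) (.node (.leaf 14946) (.leaf 0))) (.node (.node (.leaf 8578) (.leaf 0)) (.node (.leaf 22274) (.leaf 0))))) (.node (.node (.node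 (.node (.leaf 1597) (.leaf 29120)) (.node (.leaf 13268) (.leaf 0))) (.node (.node (.leaf 7120) (.leaf 0)) (.node (.leaf 20293) (.leaf 0)))) (.node (.node (.node (.leaf 4300) (.leaf 35573)) (.node (.leaf 16644) (.leaf 0))) (.node (.node (.leaf 10084) (.leaf 0)) (.node (.leaf 24337) (.leaf 0)))))) (.node (.node (.node (.node (.node (.leaf 942) (.leaf 27807)) (.node (.leaf 12459) (.leaf 0))) (.node (.node (.leaf 6405) (.leaf 0)) (.node (.leaf 19358) (.leaf 0)))) (.node (.node (.node (.leaf 3606) (.leaf 33586)) (.node (.leaf 15788) (.leaf 0))) (.node (.node (.leaf 9358) (.leaf 0)) (.node (.leaf 23293) (.leaf 0))))) (.node (.node (.node (.node (.leaf 2267) (.leaf 30440)) (.node (.leaf 14092) (.leaf 0))) (.node (.node (.leaf 7843) (.leaf 0)) (.node (.leaf 21285) (.leaf 0)))) (.node (.node (.node (.leaf 4988) (.leaf 37867)) (.node (.leaf 17560) (.leaf 0))) (.node (.node (.leaf 10864) (.leaf 0)) (.node (.leaf 25441) (.leaf 0))))))) (.node (.node (.node (.node (.node (.node (.leaf 612) (.leaf 27254)) (.node (.leaf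 12053) (.leaf 0))) (.node (.node (.leaf 6033) (.leaf 0)) (.node (.leaf 18936) (.leaf 0)))) (.node (.node (.node (.leaf 3254) (.leaf 32725)) (.node (.leaf 15370) (.leaf 0))) (.node (.node (.leaf 8961) (.leaf 0)) (.node (.leaf 22780) (.leaf 0))))) (.node (.node (.node (.node (.leaf 1931) (.leaf 29763)) (.node (.leaf 13680) (.leaf 0))) (.node (.node (.leaf 7480) (.leaf 0)) (.node (.leaf 20790) (.leaf 0)))) (.node (.node (.node (.leaf 4646) (.leaf 36710)) (.node (.leaf 17098) (.leaf 0))) (.node (.node (.leaf 10463) (.leaf 0)) (.node (.leaf 24898) (.leaf 0)))))) (.node (.node (.node (.node (.node (.leaf 1266) (.leaf 28443)) (.node (.leaf 12863) (.leaf 0))) (.node (.node (.leaf 6760) (.leaf 0)) (.node (.leaf 19820) (.leaf 0)))) (.node (.node (.node (.leaf 3946) (.leaf 34536)) (.node (.leaf 16234) (.leaf 0))) (.node (.node (.leaf 9719) (.leaf 0)) (.node (.leaf 23815) (.leaf 0))))) (.node (.node (.node (.node (.leaf 2594) (.leaf 31152)) (.node (.leaf 14499) (.leaf 0))) (.node (.node (.leaf 8211) (.leaf 0)) (.node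 (.leaf 21774) (.leaf 0)))) (.node (.node (.node (.leaf 5331) (.leaf 39744)) (.node (.leaf 18010) (.leaf 0))) (.node (.node (.leaf 11234) (.leaf 0)) (.node (.leaf 26051) (.leaf 0))))))))

def pT104 : NT := .node (.node (.node (.node (.node (.node (.node (.node (.leaf 130) (.leaf 26338)) (.node (.leaf 11428) (.leaf 0))) (.node (.node (.leaf 5511) (.leaf 0)) (.node (.leaf 18223) (.leaf 0)))) (.node (.node (.node (.leaf 2755) (.leaf 31534)) (.node (.leaf 14712) (.leaf 0))) (.node (.node (.leaf 8398) (.leaf 0)) (.node (.leaf 22016) (.leaf 0))))) (.node (.node (.node (.node (.leaf 1433) (.leaf 28792)) (.node (.leaf 13063) (.leaf 0))) (.node (.node (.leaf 6946) (.leaf 0)) (.node (.leaf 20060) (.leaf 0)))) (.node (.node (.node (.leaf 4130) (.leaf 35048)) (.node (.leaf 16437) (.leaf 0))) (.node (.node (.leaf 9905) (.leaf 0)) (.node (.leaf 24076) (.leaf 0)))))) (.node (.node (.node (.node (.node (.leaf 777) (.leaf 27548)) (.node (.leaf 12259) (.leaf 0))) (.node (.node (.leaf 6218) (.leaf 0)) (.node (.leaf 19140)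 (.leaf 0)))) (.node (.node (.node (.leaf 3432) (.leaf 33118)) (.node (.leaf 15577) (.leaf 0))) (.node (.node (.leaf 9158) (.leaf 0)) (.node (.leaf 23045) (.leaf 0))))) (.node (.node (.node (.node (.leaf 2100) (.leaf 30120)) (.node (.leaf 13894) (.leaf 0))) (.node (.node (.leaf 7658) (.leaf 0)) (.node (.leaf 21045) (.leaf 0)))) (.node (.node (.node (.leaf 4820) (.leaf 37277)) (.node (.leaf 17329) (.leaf 0))) (.node (.node (.leaf 10658) (.leaf 0)) (.node (.leaf 25191) (.leaf 0))))))) (.node (.node (.node (.node (.node (.node (.leaf 452) (.leaf 26941)) (.node (.leaf 11854) (.leaf 0))) (.node (.node (.leaf 5857) (.leaf 0)) (.node (.leaf 18712) (.leaf 0)))) (.node (.node (.node (.leaf 3087) (.leaf 32319)) (.node (.leaf 15170) (.leaf 0))) (.node (.node (.leaf 8770) (.leaf 0)) (.node (.leaf 22556) (.leaf 0))))) (.node (.node (.node (.node (.leaf 1766) (.leaf 29453)) (.node (.leaf 13474) (.leaf 0))) (.node (.node (.leaf 7301) (.leaf 0)) (.node (.leaf 20548) (.leaf 0)))) (.node (.node (.node (.leaf 4473) (.leaf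 36081)) (.node (.leaf 16884) (.leaf 0))) (.node (.node (.leaf 10275) (.leaf 0)) (.node (.leaf 24609) (.leaf 0)))))) (.node (.node (.node (.node (.node (.leaf 1106) (.leaf 28133)) (.node (.leaf 12664) (.leaf 0))) (.node (.node (.leaf 6582) (.leaf 0)) (.node (.leaf 19588) (.leaf 0)))) (.node (.node (.node (.leaf 3778) (.leaf 34083)) (.node (.leaf 16013) (.leaf 0))) (.node (.node (.leaf 9544) (.leaf 0)) (.node (.leaf 23562) (.leaf 0))))) (.node (.node (.node (.node (.leaf 2433) (.leaf 30795)) (.node (.leaf 14295) (.leaf 0))) (.node (.node (.leaf 8025) (.leaf 0)) (.node (.leaf 21522) (.leaf 0)))) (.node (.node (.node (.leaf 5160) (.leaf 38631)) (.node (.leaf 17779) (.leaf 0))) (.node (.node (.leaf 11047) (.leaf 0)) (.node (.leaf 25752) (.leaf 0)))))))) (.node (.node (.node (.node (.node (.node (.node (.leaf 290) (.leaf 26638)) (.node (.leaf 11636) (.leaf 0))) (.node (.node (.leaf 5690) (.leaf 0)) (.node (.leaf 18466) (.leaf 0)))) (.node (.node (.node (.leaf 2922) (.leaf 31946)) (.node (.leaf 14948) (.leaf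 0))) (.node (.node (.leaf 8579) (.leaf 0)) (.node (.leaf 22276) (.leaf 0))))) (.node (.node (.node (.node (.leaf 1598) (.leaf 29121)) (.node (.leaf 13270) (.leaf 0))) (.node (.node (.leaf 7121) (.leaf 0)) (.node (.leaf 20294) (.leaf 0)))) (.node (.node (.node (.leaf 4302) (.leaf 35574)) (.node (.leaf 16645) (.leaf 0))) (.node (.node (.leaf 10085) (.leaf 0)) (.node (.leaf 24340) (.leaf 0)))))) (.node (.node (.node (.node (.node (.leaf 943) (.leaf 27808)) (.node (.leaf 12460) (.leaf 0))) (.node (.node (.leaf 6406) (.leaf 0)) (.node (.leaf 19360) (.leaf 0)))) (.node (.node (.node (.leaf 3608) (.leaf 33593)) (.node (.leaf 15790) (.leaf 0))) (.node (.node (.leaf 9360) (.leaf 0)) (.node (.leaf 23294) (.leaf 0))))) (.node (.node (.node (.node (.leaf 2268) (.leaf 30444)) (.node (.leaf 14094) (.leaf 0))) (.node (.node (.leaf 7844) (.leaf 0)) (.node (.leaf 21286) (.leaf 0)))) (.node (.node (.node (.leaf 4989) (.leaf 37875)) (.node (.leaf 17562) (.leaf 0))) (.node (.node (.leaf 10866) (.leaf 0)) (.node (.leaf 25442)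 (.leaf 0))))))) (.node (.node (.node (.node (.node (.node (.leaf 613) (.leaf 27258)) (.node (.leaf 12054) (.leaf 0))) (.node (.node (.leaf 6034) (.leaf 0)) (.node (.leaf 18937) (.leaf 0)))) (.node (.node (.node (.leaf 3255) (.leaf 32730)) (.node (.leaf 15372) (.leaf 0))) (.node (.node (.leaf 8962) (.leaf 0)) (.node (.leaf 22781) (.leaf 0))))) (.node (.node (.node (.node (.leaf 1932) (.leaf 29765)) (.node (.leaf 13681) (.leaf 0))) (.node (.node (.leaf 7482) (.leaf 0)) (.node (.leaf 20791) (.leaf 0)))) (.node (.node (.node (.leaf 4648) (.leaf 36716)) (.node (.leaf 17102) (.leaf 0))) (.node (.node (.leaf 10464) (.leaf 0)) (.node (.leaf 24899) (.leaf 0)))))) (.node (.node (.node (.node (.node (.leaf 1267) (.leaf 28444)) (.node (.leaf 12864) (.leaf 0))) (.node (.node (.leaf 6761) (.leaf 0)) (.node (.leaf 19821) (.leaf 0)))) (.node (.node (.node (.leaf 3948) (.leaf 34549)) (.node (.leaf 16236) (.leaf 0))) (.node (.node (.leaf 9720) (.leaf 0)) (.node (.leaf 23816) (.leaf 0))))) (.node (.node (.node (.node (.leaf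 2595) (.leaf 31154)) (.node (.leaf 14500) (.leaf 0))) (.node (.node (.leaf 8212) (.leaf 0)) (.node (.leaf 21777) (.leaf 0)))) (.node (.node (.node (.leaf 5334) (.leaf 39746)) (.node (.leaf 18014) (.leaf 0))) (.node (.node (.leaf 11236) (.leaf 0)) (.node (.leaf 26052) (.leaf 0))))))))

def pT105 : NT := .node (.node (.node (.node (.node (.node (.node (.node (.leaf 132) (.leaf 26340)) (.node (.leaf 11430) (.leaf 0))) (.node (.node (.leaf 5512) (.leaf 0)) (.node (.leaf 18224) (.leaf 0)))) (.node (.node (.node (.leaf 2756) (.leaf 31535)) (.node (.leaf 14713) (.leaf 0))) (.node (.node (.leaf 8400) (.leaf 0)) (.node (.leaf 22019) (.leaf 0))))) (.node (.node (.node (.node (.leaf 1434) (.leaf 28793)) (.node (.leaf 13064) (.leaf 0))) (.node (.node (.leaf 6947) (.leaf 0)) (.node (.leaf 20061) (.leaf 0)))) (.node (.node (.node (.leaf 4131) (.leaf 35053)) (.node (.leaf 16438) (.leaf 0))) (.node (.node (.leaf 9906) (.leaf 0)) (.node (.leaf 24077) (.leaf 0)))))) (.node (.node (.node (.node (.node (.leaf 778) (.leaf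 27549)) (.node (.leaf 12260) (.leaf 0))) (.node (.node (.leaf 6221) (.leaf 0)) (.node (.leaf 19141) (.leaf 0)))) (.node (.node (.node (.leaf 3434) (.leaf 33124)) (.node (.leaf 15580) (.leaf 0))) (.node (.node (.leaf 9161) (.leaf 0)) (.node (.leaf 23046) (.leaf 0))))) (.node (.node (.node (.node (.leaf 2102) (.leaf 30121)) (.node (.leaf 13895) (.leaf 0))) (.node (.node (.leaf 7661) (.leaf 0)) (.node (.leaf 21046) (.leaf 0)))) (.node (.node (.node (.leaf 4821) (.leaf 37282)) (.node (.leaf 17330) (.leaf 0))) (.node (.node (.leaf 10661) (.leaf 0)) (.node (.leaf 25193) (.leaf 0))))))) (.node (.node (.node (.node (.node (.node (.leaf 453) (.leaf 26942)) (.node (.leaf 11855) (.leaf 0))) (.node (.node (.leaf 5858) (.leaf 0)) (.node (.leaf 18714) (.leaf 0)))) (.node (.node (.node (.leaf 3088) (.leaf 32326)) (.node (.leaf 15172) (.leaf 0))) (.node (.node (.leaf 8773) (.leaf 0)) (.node (.leaf 22557) (.leaf 0))))) (.node (.node (.node (.node (.leaf 1767) (.leaf 29454)) (.node (.leaf 13475) (.leaf 0))) (.node (.node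 (.leaf 7302) (.leaf 0)) (.node (.leaf 20550) (.leaf 0)))) (.node (.node (.node (.leaf 4474) (.leaf 36088)) (.node (.leaf 16885) (.leaf 0))) (.node (.node (.leaf 10276) (.leaf 0)) (.node (.leaf 24610) (.leaf 0)))))) (.node (.node (.node (.node (.node (.leaf 1107) (.leaf 28135)) (.node (.leaf 12666) (.leaf 0))) (.node (.node (.leaf 6583) (.leaf 0)) (.node (.leaf 19589) (.leaf 0)))) (.node (.node (.node (.leaf 3779) (.leaf 34090)) (.node (.leaf 16014) (.leaf 0))) (.node (.node (.leaf 9546) (.leaf 0)) (.node (.leaf 23568) (.leaf 0))))) (.node (.node (.node (.node (.leaf 2434) (.leaf 30798)) (.node (.leaf 14296) (.leaf 0))) (.node (.node (.leaf 8026) (.leaf 0)) (.node (.leaf 21523) (.leaf 0)))) (.node (.node (.node (.leaf 5161) (.leaf 38644)) (.node (.leaf 17781) (.leaf 0))) (.node (.node (.leaf 11048) (.leaf 0)) (.node (.leaf 25753) (.leaf 0)))))))) (.node (.node (.node (.node (.node (.node (.node (.leaf 291) (.leaf 26641)) (.node (.leaf 11637) (.leaf 0))) (.node (.node (.leaf 5691) (.leaf 0)) (.node (.leaf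 18467) (.leaf 0)))) (.node (.node (.node (.leaf 2924) (.leaf 31952)) (.node (.leaf 14949) (.leaf 0))) (.node (.node (.leaf 8582) (.leaf 0)) (.node (.leaf 22278) (.leaf 0))))) (.node (.node (.node (.node (.leaf 1600) (.leaf 29122)) (.node (.leaf 13271) (.leaf 0))) (.node (.node (.leaf 7124) (.leaf 0)) (.node (.leaf 20296) (.leaf 0)))) (.node (.node (.node (.leaf 4303) (.leaf 35590)) (.node (.leaf 16647) (.leaf 0))) (.node (.node (.leaf 10086) (.leaf 0)) (.node (.leaf 24341) (.leaf 0)))))) (.node (.node (.node (.node (.node (.leaf 944) (.leaf 27809)) (.node (.leaf 12461) (.leaf 0))) (.node (.node (.leaf 6407) (.leaf 0)) (.node (.leaf 19362) (.leaf 0)))) (.node (.node (.node (.leaf 3609) (.leaf 33594)) (.node (.leaf 15791) (.leaf 0))) (.node (.node (.leaf 9362) (.leaf 0)) (.node (.leaf 23298) (.leaf 0))))) (.node (.node (.node (.node (.leaf 2270) (.leaf 30446)) (.node (.leaf 14095) (.leaf 0))) (.node (.node (.leaf 7846) (.leaf 0)) (.node (.leaf 21288) (.leaf 0)))) (.node (.node (.node (.leaf 4990) (.leaf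 37893)) (.node (.leaf 17564) (.leaf 0))) (.node (.node (.leaf 10868) (.leaf 0)) (.node (.leaf 25443) (.leaf 0))))))) (.node (.node (.node (.node (.node (.node (.leaf 614) (.leaf 27259)) (.node (.leaf 12057) (.leaf 0))) (.node (.node (.leaf 6036) (.leaf 0)) (.node (.leaf 18938) (.leaf 0)))) (.node (.node (.node (.leaf 3256) (.leaf 32731)) (.node (.leaf 15374) (.leaf 0))) (.node (.node (.leaf 8964) (.leaf 0)) (.node (.leaf 22782) (.leaf 0))))) (.node (.node (.node (.node (.leaf 1934) (.leaf 29766)) (.node (.leaf 13682) (.leaf 0))) (.node (.node (.leaf 7483) (.leaf 0)) (.node (.leaf 20792) (.leaf 0)))) (.node (.node (.node (.leaf 4649) (.leaf 36717)) (.node (.leaf 17104) (.leaf 0))) (.node (.node (.leaf 10466) (.leaf 0)) (.node (.leaf 24900) (.leaf 0)))))) (.node (.node (.node (.node (.node (.leaf 1268) (.leaf 28446)) (.node (.leaf 12865) (.leaf 0))) (.node (.node (.leaf 6762) (.leaf 0)) (.node (.leaf 19822) (.leaf 0)))) (.node (.node (.node (.leaf 3950) (.leaf 34561)) (.node (.leaf 16238) (.leaf 0))) (.node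 (.node (.leaf 9722) (.leaf 0)) (.node (.leaf 23818) (.leaf 0))))) (.node (.node (.node (.node (.leaf 2596) (.leaf 31159)) (.node (.leaf 14503) (.leaf 0))) (.node (.node (.leaf 8214) (.leaf 0)) (.node (.leaf 21778) (.leaf 0)))) (.node (.node (.node (.leaf 5335) (.leaf 39769)) (.node (.leaf 18015) (.leaf 0))) (.node (.node (.leaf 11237) (.leaf 0)) (.node (.leaf 26054) (.leaf 0))))))))

def pT106 : NT := .node (.node (.node (.node (.node (.node (.node (.node (.leaf 133) (.leaf 26341)) (.node (.leaf 11431) (.leaf 0))) (.node (.node (.leaf 5514) (.leaf 0)) (.node (.leaf 18226) (.leaf 0)))) (.node (.node (.node (.leaf 2758) (.leaf 31542)) (.node (.leaf 14714) (.leaf 0))) (.node (.node (.leaf 8403) (.leaf 0)) (.node (.leaf 22020) (.leaf 0))))) (.node (.node (.node (.node (.leaf 1436) (.leaf 28797)) (.node (.leaf 13066) (.leaf 0))) (.node (.node (.leaf 6948) (.leaf 0)) (.node (.leaf 20064) (.leaf 0)))) (.node (.node (.node (.leaf 4132) (.leaf 35054)) (.node (.leaf 16441) (.leaf 0))) (.node (.node (.leaf 9908)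 (.leaf 0)) (.node (.leaf 24078) (.leaf 0)))))) (.node (.node (.node (.node (.node (.leaf 780) (.leaf 27552)) (.node (.leaf 12261) (.leaf 0))) (.node (.node (.leaf 6222) (.leaf 0)) (.node (.leaf 19142) (.leaf 0)))) (.node (.node (.node (.leaf 3435) (.leaf 33130)) (.node (.leaf 15586) (.leaf 0))) (.node (.node (.leaf 9162) (.leaf 0)) (.node (.leaf 23047) (.leaf 0))))) (.node (.node (.node (.node (.leaf 2103) (.leaf 30122)) (.node (.leaf 13896) (.leaf 0))) (.node (.node (.leaf 7662) (.leaf 0)) (.node (.leaf 21049) (.leaf 0)))) (.node (.node (.node (.leaf 4822) (.leaf 37283)) (.node (.leaf 17331) (.leaf 0))) (.node (.node (.leaf 10664) (.leaf 0)) (.node (.leaf 25194) (.leaf 0))))))) (.node (.node (.node (.node (.node (.node (.leaf 454) (.leaf 26945)) (.node (.leaf 11856) (.leaf 0))) (.node (.node (.leaf 5860) (.leaf 0)) (.node (.leaf 18715) (.leaf 0)))) (.node (.node (.node (.leaf 3090) (.leaf 32329)) (.node (.leaf 15173) (.leaf 0))) (.node (.node (.leaf 8774) (.leaf 0)) (.node (.leaf 22558) (.leaf 0)))))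 (.node (.node (.node (.node (.leaf 1768) (.leaf 29455)) (.node (.leaf 13478) (.leaf 0))) (.node (.node (.leaf 7304) (.leaf 0)) (.node (.leaf 20551) (.leaf 0)))) (.node (.node (.node (.leaf 4477) (.leaf 36091)) (.node (.leaf 16887) (.leaf 0))) (.node (.node (.leaf 10278) (.leaf 0)) (.node (.leaf 24620) (.leaf 0)))))) (.node (.node (.node (.node (.node (.leaf 1108) (.leaf 28136)) (.node (.leaf 12668) (.leaf 0))) (.node (.node (.leaf 6584) (.leaf 0)) (.node (.leaf 19594) (.leaf 0)))) (.node (.node (.node (.leaf 3780) (.leaf 34092)) (.node (.leaf 16015) (.leaf 0))) (.node (.node (.leaf 9548) (.leaf 0)) (.node (.leaf 23569) (.leaf 0))))) (.node (.node (.node (.node (.leaf 2435) (.leaf 30799)) (.node (.leaf 14298) (.leaf 0))) (.node (.node (.leaf 8027) (.leaf 0)) (.node (.leaf 21525) (.leaf 0)))) (.node (.node (.node (.leaf 5162) (.leaf 38647)) (.node (.leaf 17782) (.leaf 0))) (.node (.node (.leaf 11049) (.leaf 0)) (.node (.leaf 25754) (.leaf 0)))))))) (.node (.node (.node (.node (.node (.node (.node (.leaf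 292) (.leaf 26642)) (.node (.leaf 11640) (.leaf 0))) (.node (.node (.leaf 5692) (.leaf 0)) (.node (.leaf 18470) (.leaf 0)))) (.node (.node (.node (.leaf 2925) (.leaf 31957)) (.node (.leaf 14950) (.leaf 0))) (.node (.node (.leaf 8583) (.leaf 0)) (.node (.leaf 22279) (.leaf 0))))) (.node (.node (.node (.node (.leaf 1601) (.leaf 29123)) (.node (.leaf 13272) (.leaf 0))) (.node (.node (.leaf 7125) (.leaf 0)) (.node (.leaf 20298) (.leaf 0)))) (.node (.node (.node (.leaf 4304) (.leaf 35593)) (.node (.leaf 16648) (.leaf 0))) (.node (.node (.leaf 10088) (.leaf 0)) (.node (.leaf 24344) (.leaf 0)))))) (.node (.node (.node (.node (.node (.leaf 945) (.leaf 27814)) (.node (.leaf 12465) (.leaf 0))) (.node (.node (.leaf 6408) (.leaf 0)) (.node (.leaf 19363) (.leaf 0)))) (.node (.node (.node (.leaf 3610) (.leaf 33595)) (.node (.leaf 15793) (.leaf 0))) (.node (.node (.leaf 9363) (.leaf 0)) (.node (.leaf 23300) (.leaf 0))))) (.node (.node (.node (.node (.leaf 2271) (.leaf 30448)) (.node (.leaf 14098) (.leaf 0))) (.node (.node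 (.leaf 7847) (.leaf 0)) (.node (.leaf 21289) (.leaf 0)))) (.node (.node (.node (.leaf 4991) (.leaf 37899)) (.node (.leaf 17566) (.leaf 0))) (.node (.node (.leaf 10869) (.leaf 0)) (.node (.leaf 25445) (.leaf 0))))))) (.node (.node (.node (.node (.node (.node (.leaf 617) (.leaf 27260)) (.node (.leaf 12058) (.leaf 0))) (.node (.node (.leaf 6037) (.leaf 0)) (.node (.leaf 18940) (.leaf 0)))) (.node (.node (.node (.leaf 3258) (.leaf 32737)) (.node (.leaf 15375) (.leaf 0))) (.node (.node (.leaf 8965) (.leaf 0)) (.node (.leaf 22784) (.leaf 0))))) (.node (.node (.node (.node (.leaf 1935) (.leaf 29770)) (.node (.leaf 13684) (.leaf 0))) (.node (.node (.leaf 7484) (.leaf 0)) (.node (.leaf 20794) (.leaf 0)))) (.node (.node (.node (.leaf 4650) (.leaf 36723)) (.node (.leaf 17106) (.leaf 0))) (.node (.node (.leaf 10467) (.leaf 0)) (.node (.leaf 24902) (.leaf 0)))))) (.node (.node (.node (.node (.node (.leaf 1271) (.leaf 28448)) (.node (.leaf 12866) (.leaf 0))) (.node (.node (.leaf 6763) (.leaf 0)) (.node (.leaf 19825)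 (.leaf 0)))) (.node (.node (.node (.leaf 3951) (.leaf 34564)) (.node (.leaf 16239) (.leaf 0))) (.node (.node (.leaf 9723) (.leaf 0)) (.node (.leaf 23819) (.leaf 0))))) (.node (.node (.node (.node (.leaf 2597) (.leaf 31162)) (.node (.leaf 14504) (.leaf 0))) (.node (.node (.leaf 8218) (.leaf 0)) (.node (.leaf 21782) (.leaf 0)))) (.node (.node (.node (.leaf 5336) (.leaf 39806)) (.node (.leaf 18016) (.leaf 0))) (.node (.node (.leaf 11238) (.leaf 0)) (.node (.leaf 26058) (.leaf 0))))))))

def pT107 : NT := .node (.node (.node (.node (.node (.node (.node (.node (.leaf 134) (.leaf 26342)) (.node (.leaf 11432) (.leaf 0))) (.node (.node (.leaf 5516) (.leaf 0)) (.node (.leaf 18228) (.leaf 0)))) (.node (.node (.node (.leaf 2759) (.leaf 31548)) (.node (.leaf 14717) (.leaf 0))) (.node (.node (.leaf 8404) (.leaf 0)) (.node (.leaf 22021) (.leaf 0))))) (.node (.node (.node (.node (.leaf 1437) (.leaf 28800)) (.node (.leaf 13067) (.leaf 0))) (.node (.node (.leaf 6950) (.leaf 0)) (.node (.leaf 20067) (.leaf 0)))) (.node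 (.node (.node (.leaf 4133) (.leaf 35056)) (.node (.leaf 16442) (.leaf 0))) (.node (.node (.leaf 9910) (.leaf 0)) (.node (.leaf 24081) (.leaf 0)))))) (.node (.node (.node (.node (.node (.leaf 782) (.leaf 27553)) (.node (.leaf 12262) (.leaf 0))) (.node (.node (.leaf 6224) (.leaf 0)) (.node (.leaf 19143) (.leaf 0)))) (.node (.node (.node (.leaf 3436) (.leaf 33131)) (.node (.leaf 15587) (.leaf 0))) (.node (.node (.leaf 9164) (.leaf 0)) (.node (.leaf 23048) (.leaf 0))))) (.node (.node (.node (.node (.leaf 2104) (.leaf 30123)) (.node (.leaf 13898) (.leaf 0))) (.node (.node (.leaf 7664) (.leaf 0)) (.node (.leaf 21050) (.leaf 0)))) (.node (.node (.node (.leaf 4824) (.leaf 37288)) (.node (.leaf 17334) (.leaf 0))) (.node (.node (.leaf 10667) (.leaf 0)) (.node (.leaf 25199) (.leaf 0))))))) (.node (.node (.node (.node (.node (.node (.leaf 455) (.leaf 26948)) (.node (.leaf 11858) (.leaf 0))) (.node (.node (.leaf 5864) (.leaf 0)) (.node (.leaf 18716) (.leaf 0)))) (.node (.node (.node (.leaf 3091) (.leaf 32332)) (.node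 (.leaf 15176) (.leaf 0))) (.node (.node (.leaf 8776) (.leaf 0)) (.node (.leaf 22560) (.leaf 0))))) (.node (.node (.node (.node (.leaf 1770) (.leaf 29456)) (.node (.leaf 13479) (.leaf 0))) (.node (.node (.leaf 7307) (.leaf 0)) (.node (.leaf 20552) (.leaf 0)))) (.node (.node (.node (.leaf 4478) (.leaf 36093)) (.node (.leaf 16888) (.leaf 0))) (.node (.node (.leaf 10279) (.leaf 0)) (.node (.leaf 24621) (.leaf 0)))))) (.node (.node (.node (.node (.node (.leaf 1110) (.leaf 28137)) (.node (.leaf 12669) (.leaf 0))) (.node (.node (.leaf 6586) (.leaf 0)) (.node (.leaf 19595) (.leaf 0)))) (.node (.node (.node (.leaf 3782) (.leaf 34094)) (.node (.leaf 16016) (.leaf 0))) (.node (.node (.leaf 9549) (.leaf 0)) (.node (.leaf 23570) (.leaf 0))))) (.node (.node (.node (.node (.leaf 2436) (.leaf 30802)) (.node (.leaf 14299) (.leaf 0))) (.node (.node (.leaf 8028) (.leaf 0)) (.node (.leaf 21529) (.leaf 0)))) (.node (.node (.node (.leaf 5164) (.leaf 38666)) (.node (.leaf 17784) (.leaf 0))) (.node (.node (.leaf 11050) (.leaf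 0)) (.node (.leaf 25756) (.leaf 0)))))))) (.node (.node (.node (.node (.node (.node (.node (.leaf 294) (.leaf 26646)) (.node (.leaf 11641) (.leaf 0))) (.node (.node (.leaf 5693) (.leaf 0)) (.node (.leaf 18471) (.leaf 0)))) (.node (.node (.node (.leaf 2926) (.leaf 31960)) (.node (.leaf 14951) (.leaf 0))) (.node (.node (.leaf 8584) (.leaf 0)) (.node (.leaf 22280) (.leaf 0))))) (.node (.node (.node (.node (.leaf 1602) (.leaf 29124)) (.node (.leaf 13274) (.leaf 0))) (.node (.node (.leaf 7126) (.leaf 0)) (.node (.leaf 20300) (.leaf 0)))) (.node (.node (.node (.leaf 4306) (.leaf 35595)) (.node (.leaf 16651) (.leaf 0))) (.node (.node (.leaf 10089) (.leaf 0)) (.node (.leaf 24348) (.leaf 0)))))) (.node (.node (.node (.node (.node (.leaf 946) (.leaf 27819)) (.node (.leaf 12466) (.leaf 0))) (.node (.node (.leaf 6410) (.leaf 0)) (.node (.leaf 19364) (.leaf 0)))) (.node (.node (.node (.leaf 3611) (.leaf 33596)) (.node (.leaf 15794) (.leaf 0))) (.node (.node (.leaf 9364) (.leaf 0)) (.node (.leaf 23301) (.leaf 0)))))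 (.node (.node (.node (.node (.leaf 2272) (.leaf 30454)) (.node (.leaf 14099) (.leaf 0))) (.node (.node (.leaf 7848) (.leaf 0)) (.node (.leaf 21290) (.leaf 0)))) (.node (.node (.node (.leaf 4992) (.leaf 37909)) (.node (.leaf 17567) (.leaf 0))) (.node (.node (.leaf 10870) (.leaf 0)) (.node (.leaf 25448) (.leaf 0))))))) (.node (.node (.node (.node (.node (.node (.leaf 618) (.leaf 27262)) (.node (.leaf 12059) (.leaf 0))) (.node (.node (.leaf 6038) (.leaf 0)) (.node (.leaf 18941) (.leaf 0)))) (.node (.node (.node (.leaf 3259) (.leaf 32742)) (.node (.leaf 15376) (.leaf 0))) (.node (.node (.leaf 8966) (.leaf 0)) (.node (.leaf 22786) (.leaf 0))))) (.node (.node (.node (.node (.leaf 1936) (.leaf 29771)) (.node (.leaf 13685) (.leaf 0))) (.node (.node (.leaf 7486) (.leaf 0)) (.node (.leaf 20797) (.leaf 0)))) (.node (.node (.node (.leaf 4651) (.leaf 36726)) (.node (.leaf 17110) (.leaf 0))) (.node (.node (.leaf 10468) (.leaf 0)) (.node (.leaf 24903) (.leaf 0)))))) (.node (.node (.node (.node (.node (.leaf 1272) (.leaf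 28451)) (.node (.leaf 12868) (.leaf 0))) (.node (.node (.leaf 6764) (.leaf 0)) (.node (.leaf 19826) (.leaf 0)))) (.node (.node (.node (.leaf 3952) (.leaf 34566)) (.node (.leaf 16240) (.leaf 0))) (.node (.node (.leaf 9724) (.leaf 0)) (.node (.leaf 23820) (.leaf 0))))) (.node (.node (.node (.node (.leaf 2598) (.leaf 31163)) (.node (.leaf 14506) (.leaf 0))) (.node (.node (.leaf 8220) (.leaf 0)) (.node (.leaf 21787) (.leaf 0)))) (.node (.node (.node (.leaf 5337) (.leaf 39830)) (.node (.leaf 18018) (.leaf 0))) (.node (.node (.leaf 11240) (.leaf 0)) (.node (.leaf 26059) (.leaf 0))))))))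

def pT108 : NT := .node (.node (.node (.node (.node (.node (.node (.node (.leaf 135) (.leaf 26347)) (.node (.leaf 11434) (.leaf 0))) (.node (.node (.leaf 5518) (.leaf 0)) (.node (.leaf 18231) (.leaf 0)))) (.node (.node (.node (.leaf 2760) (.leaf 31550)) (.node (.leaf 14718) (.leaf 0))) (.node (.node (.leaf 8405) (.leaf 0)) (.node (.leaf 22022) (.leaf 0))))) (.node (.node (.node (.node (.leaf 1438) (.leaf 28802)) (.node (.leaf 13070) (.leaf 0))) (.node (.node (.leaf 6952) (.leaf 0)) (.node (.leaf 20068) (.leaf 0)))) (.node (.node (.node (.leaf 4134) (.leaf 35058)) (.node (.leaf 16444) (.leaf 0))) (.node (.node (.leaf 9911) (.leaf 0)) (.node (.leaf 24083) (.leaf 0)))))) (.node (.node (.node (.node (.node (.leaf 783) (.leaf 27554)) (.node (.leaf 12264) (.leaf 0))) (.node (.node (.leaf 6225) (.leaf 0)) (.node (.leaf 19144) (.leaf 0)))) (.node (.node (.node (.leaf 3438) (.leaf 33134)) (.node (.leaf 15588) (.leaf 0))) (.node (.node (.leaf 9165) (.leaf 0)) (.node (.leaf 23051) (.leaf 0))))) (.node (.node (.node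 (.node (.leaf 2105) (.leaf 30133)) (.node (.leaf 13899) (.leaf 0))) (.node (.node (.leaf 7665) (.leaf 0)) (.node (.leaf 21051) (.leaf 0)))) (.node (.node (.node (.leaf 4825) (.leaf 37290)) (.node (.leaf 17335) (.leaf 0))) (.node (.node (.leaf 10668) (.leaf 0)) (.node (.leaf 25200) (.leaf 0))))))) (.node (.node (.node (.node (.node (.node (.leaf 456) (.leaf 26952)) (.node (.leaf 11859) (.leaf 0))) (.node (.node (.leaf 5865) (.leaf 0)) (.node (.leaf 18718) (.leaf 0)))) (.node (.node (.node (.leaf 3092) (.leaf 32334)) (.node (.leaf 15178) (.leaf 0))) (.node (.node (.leaf 8778) (.leaf 0)) (.node (.leaf 22562) (.leaf 0))))) (.node (.node (.node (.node (.leaf 1771) (.leaf 29458)) (.node (.leaf 13480) (.leaf 0))) (.node (.node (.leaf 7308) (.leaf 0)) (.node (.leaf 20553) (.leaf 0)))) (.node (.node (.node (.leaf 4479) (.leaf 36100)) (.node (.leaf 16892) (.leaf 0))) (.node (.node (.leaf 10280) (.leaf 0)) (.node (.leaf 24622) (.leaf 0)))))) (.node (.node (.node (.node (.node (.leaf 1111) (.leaf 28139)) (.node (.leaf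 12672) (.leaf 0))) (.node (.node (.leaf 6587) (.leaf 0)) (.node (.leaf 19596) (.leaf 0)))) (.node (.node (.node (.leaf 3783) (.leaf 34095)) (.node (.leaf 16018) (.leaf 0))) (.node (.node (.leaf 9550) (.leaf 0)) (.node (.leaf 23572) (.leaf 0))))) (.node (.node (.node (.node (.leaf 2438) (.leaf 30804)) (.node (.leaf 14301) (.leaf 0))) (.node (.node (.leaf 8030) (.leaf 0)) (.node (.leaf 21530) (.leaf 0)))) (.node (.node (.node (.leaf 5165) (.leaf 38673)) (.node (.leaf 17786) (.leaf 0))) (.node (.node (.leaf 11052) (.leaf 0)) (.node (.leaf 25766) (.leaf 0)))))))) (.node (.node (.node (.node (.node (.node (.node (.leaf 295) (.leaf 26652)) (.node (.leaf 11642) (.leaf 0))) (.node (.node (.leaf 5694) (.leaf 0)) (.node (.leaf 18472) (.leaf 0)))) (.node (.node (.node (.leaf 2928) (.leaf 31961)) (.node (.leaf 14952) (.leaf 0))) (.node (.node (.leaf 8585) (.leaf 0)) (.node (.leaf 22284) (.leaf 0))))) (.node (.node (.node (.node (.leaf 1603) (.leaf 29126)) (.node (.leaf 13275) (.leaf 0))) (.node (.node (.leaf 7128)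 (.leaf 0)) (.node (.leaf 20303) (.leaf 0)))) (.node (.node (.node (.leaf 4307) (.leaf 35597)) (.node (.leaf 16654) (.leaf 0))) (.node (.node (.leaf 10090) (.leaf 0)) (.node (.leaf 24350) (.leaf 0)))))) (.node (.node (.node (.node (.node (.leaf 948) (.leaf 27821)) (.node (.leaf 12468) (.leaf 0))) (.node (.node (.leaf 6411) (.leaf 0)) (.node (.leaf 19366) (.leaf 0)))) (.node (.node (.node (.leaf 3612) (.leaf 33599)) (.node (.leaf 15796) (.leaf 0))) (.node (.node (.leaf 9365) (.leaf 0)) (.node (.leaf 23302) (.leaf 0))))) (.node (.node (.node (.node (.leaf 2274) (.leaf 30455)) (.node (.leaf 14102) (.leaf 0))) (.node (.node (.leaf 7850) (.leaf 0)) (.node (.leaf 21293) (.leaf 0)))) (.node (.node (.node (.leaf 4994) (.leaf 37921)) (.node (.leaf 17568) (.leaf 0))) (.node (.node (.leaf 10872) (.leaf 0)) (.node (.leaf 25450) (.leaf 0))))))) (.node (.node (.node (.node (.node (.node (.leaf 620) (.leaf 27263)) (.node (.leaf 12060) (.leaf 0))) (.node (.node (.leaf 6041) (.leaf 0)) (.node (.leaf 18944) (.leaf 0))))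 (.node (.node (.node (.leaf 3260) (.leaf 32744)) (.node (.leaf 15377) (.leaf 0))) (.node (.node (.leaf 8969) (.leaf 0)) (.node (.leaf 22787) (.leaf 0))))) (.node (.node (.node (.node (.leaf 1938) (.leaf 29772)) (.node (.leaf 13686) (.leaf 0))) (.node (.node (.leaf 7487) (.leaf 0)) (.node (.leaf 20800) (.leaf 0)))) (.node (.node (.node (.leaf 4652) (.leaf 36740)) (.node (.leaf 17111) (.leaf 0))) (.node (.node (.leaf 10470) (.leaf 0)) (.node (.leaf 24906) (.leaf 0)))))) (.node (.node (.node (.node (.node (.leaf 1274) (.leaf 28453)) (.node (.leaf 12869) (.leaf 0))) (.node (.node (.leaf 6766) (.leaf 0)) (.node (.leaf 19828) (.leaf 0)))) (.node (.node (.node (.leaf 3953) (.leaf 34567)) (.node (.leaf 16242) (.leaf 0))) (.node (.node (.leaf 9725) (.leaf 0)) (.node (.leaf 23822) (.leaf 0))))) (.node (.node (.node (.node (.leaf 2600) (.leaf 31167)) (.node (.leaf 14509) (.leaf 0))) (.node (.node (.leaf 8222) (.leaf 0)) (.node (.leaf 21788) (.leaf 0)))) (.node (.node (.node (.leaf 5338) (.leaf 39840)) (.node (.leaf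 18019) (.leaf 0))) (.node (.node (.leaf 11242) (.leaf 0)) (.node (.leaf 26063) (.leaf 0))))))))

def pT109 : NT := .node (.node (.node (.node (.node (.node (.node (.node (.leaf 136) (.leaf 26350)) (.node (.leaf 11435) (.leaf 0))) (.node (.node (.leaf 5520) (.leaf 0)) (.node (.leaf 18234) (.leaf 0)))) (.node (.node (.node (.leaf 2762) (.leaf 31551)) (.node (.leaf 14720) (.leaf 0))) (.node (.node (.leaf 8406) (.leaf 0)) (.node (.leaf 22023) (.leaf 0))))) (.node (.node (.node (.node (.leaf 1440) (.leaf 28803)) (.node (.leaf 13071) (.leaf 0))) (.node (.node (.leaf 6953) (.leaf 0)) (.node (.leaf 20070) (.leaf 0)))) (.node (.node (.node (.leaf 4135) (.leaf 35062)) (.node (.leaf 16445) (.leaf 0))) (.node (.node (.leaf 9912) (.leaf 0)) (.node (.leaf 24084) (.leaf 0)))))) (.node (.node (.node (.node (.node (.leaf 784) (.leaf 27555)) (.node (.leaf 12265) (.leaf 0))) (.node (.node (.leaf 6226) (.leaf 0)) (.node (.leaf 19147) (.leaf 0)))) (.node (.node (.node (.leaf 3439) (.leaf 33135)) (.node (.leaf 15589) (.leaf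 0))) (.node (.node (.leaf 9166) (.leaf 0)) (.node (.leaf 23053) (.leaf 0))))) (.node (.node (.node (.node (.leaf 2106) (.leaf 30135)) (.node (.leaf 13900) (.leaf 0))) (.node (.node (.leaf 7666) (.leaf 0)) (.node (.leaf 21055) (.leaf 0)))) (.node (.node (.node (.leaf 4826) (.leaf 37293)) (.node (.leaf 17336) (.leaf 0))) (.node (.node (.leaf 10670) (.leaf 0)) (.node (.leaf 25202) (.leaf 0))))))) (.node (.node (.node (.node (.node (.node (.leaf 458) (.leaf 26953)) (.node (.leaf 11860) (.leaf 0))) (.node (.node (.leaf 5866) (.leaf 0)) (.node (.leaf 18720) (.leaf 0)))) (.node (.node (.node (.leaf 3094) (.leaf 32338)) (.node (.leaf 15179) (.leaf 0))) (.node (.node (.leaf 8779) (.leaf 0)) (.node (.leaf 22564) (.leaf 0))))) (.node (.node (.node (.node (.leaf 1772) (.leaf 29462)) (.node (.leaf 13481) (.leaf 0))) (.node (.node (.leaf 7310) (.leaf 0)) (.node (.leaf 20554) (.leaf 0)))) (.node (.node (.node (.leaf 4480) (.leaf 36102)) (.node (.leaf 16893) (.leaf 0))) (.node (.node (.leaf 10281) (.leaf 0)) (.node (.leaf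 24624) (.leaf 0)))))) (.node (.node (.node (.node (.node (.leaf 1112) (.leaf 28140)) (.node (.leaf 12673) (.leaf 0))) (.node (.node (.leaf 6589) (.leaf 0)) (.node (.leaf 19598) (.leaf 0)))) (.node (.node (.node (.leaf 3784) (.leaf 34103)) (.node (.leaf 16019) (.leaf 0))) (.node (.node (.leaf 9552) (.leaf 0)) (.node (.leaf 23574) (.leaf 0))))) (.node (.node (.node (.node (.leaf 2439) (.leaf 30805)) (.node (.leaf 14302) (.leaf 0))) (.node (.node (.leaf 8031) (.leaf 0)) (.node (.leaf 21535) (.leaf 0)))) (.node (.node (.node (.leaf 5166) (.leaf 38676)) (.node (.leaf 17789) (.leaf 0))) (.node (.node (.leaf 11054) (.leaf 0)) (.node (.leaf 25767) (.leaf 0)))))))) (.node (.node (.node (.node (.node (.node (.node (.leaf 296) (.leaf 26654)) (.node (.leaf 11643) (.leaf 0))) (.node (.node (.leaf 5696) (.leaf 0)) (.node (.leaf 18476) (.leaf 0)))) (.node (.node (.node (.leaf 2929) (.leaf 31964)) (.node (.leaf 14955) (.leaf 0))) (.node (.node (.leaf 8586) (.leaf 0)) (.node (.leaf 22287) (.leaf 0))))) (.node (.node (.node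 (.node (.leaf 1604) (.leaf 29128)) (.node (.leaf 13276) (.leaf 0))) (.node (.node (.leaf 7129) (.leaf 0)) (.node (.leaf 20306) (.leaf 0)))) (.node (.node (.node (.leaf 4308) (.leaf 35598)) (.node (.leaf 16655) (.leaf 0))) (.node (.node (.leaf 10091) (.leaf 0)) (.node (.leaf 24352) (.leaf 0)))))) (.node (.node (.node (.node (.node (.leaf 949) (.leaf 27823)) (.node (.leaf 12469) (.leaf 0))) (.node (.node (.leaf 6412) (.leaf 0)) (.node (.leaf 19367) (.leaf 0)))) (.node (.node (.node (.leaf 3614) (.leaf 33602)) (.node (.leaf 15797) (.leaf 0))) (.node (.node (.leaf 9366) (.leaf 0)) (.node (.leaf 23304) (.leaf 0))))) (.node (.node (.node (.node (.leaf 2275) (.leaf 30456)) (.node (.leaf 14103) (.leaf 0))) (.node (.node (.leaf 7851) (.leaf 0)) (.node (.leaf 21294) (.leaf 0)))) (.node (.node (.node (.leaf 4995) (.leaf 37922)) (.node (.leaf 17572) (.leaf 0))) (.node (.node (.leaf 10873) (.leaf 0)) (.node (.leaf 25451) (.leaf 0))))))) (.node (.node (.node (.node (.node (.node (.leaf 621) (.leaf 27264)) (.node (.leaf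 12062) (.leaf 0))) (.node (.node (.leaf 6042) (.leaf 0)) (.node (.leaf 18945) (.leaf 0)))) (.node (.node (.node (.leaf 3261) (.leaf 32750)) (.node (.leaf 15380) (.leaf 0))) (.node (.node (.leaf 8970) (.leaf 0)) (.node (.leaf 22788) (.leaf 0))))) (.node (.node (.node (.node (.leaf 1939) (.leaf 29774)) (.node (.leaf 13688) (.leaf 0))) (.node (.node (.leaf 7488) (.leaf 0)) (.node (.leaf 20801) (.leaf 0)))) (.node (.node (.node (.leaf 4654) (.leaf 36742)) (.node (.leaf 17112) (.leaf 0))) (.node (.node (.leaf 10472) (.leaf 0)) (.node (.leaf 24907) (.leaf 0)))))) (.node (.node (.node (.node (.node (.leaf 1275) (.leaf 28454)) (.node (.leaf 12870) (.leaf 0))) (.node (.node (.leaf 6767) (.leaf 0)) (.node (.leaf 19830) (.leaf 0)))) (.node (.node (.node (.leaf 3954) (.leaf 34574)) (.node (.leaf 16243) (.leaf 0))) (.node (.node (.leaf 9726) (.leaf 0)) (.node (.leaf 23823) (.leaf 0))))) (.node (.node (.node (.node (.leaf 2601) (.leaf 31168)) (.node (.leaf 14510) (.leaf 0))) (.node (.node (.leaf 8223) (.leaf 0)) (.node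 (.leaf 21790) (.leaf 0)))) (.node (.node (.node (.leaf 5340) (.leaf 39842)) (.node (.leaf 18020) (.leaf 0))) (.node (.node (.leaf 11243) (.leaf 0)) (.node (.leaf 26064) (.leaf 0))))))))

def pT110 : NT := .node (.node (.node (.node (.node (.node (.node (.node (.leaf 138) (.leaf 26351)) (.node (.leaf 11436) (.leaf 0))) (.node (.node (.leaf 5522) (.leaf 0)) (.node (.leaf 18237) (.leaf 0)))) (.node (.node (.node (.leaf 2763) (.leaf 31552)) (.node (.leaf 14721) (.leaf 0))) (.node (.node (.leaf 8407) (.leaf 0)) (.node (.leaf 22026) (.leaf 0))))) (.node (.node (.node (.node (.leaf 1441) (.leaf 28808)) (.node (.leaf 13072) (.leaf 0))) (.node (.node (.leaf 6954) (.leaf 0)) (.node (.leaf 20071) (.leaf 0)))) (.node (.node (.node (.leaf 4136) (.leaf 35065)) (.node (.leaf 16446) (.leaf 0))) (.node (.node (.leaf 9914) (.leaf 0)) (.node (.leaf 24086) (.leaf 0)))))) (.node (.node (.node (.node (.node (.leaf 786) (.leaf 27557)) (.node (.leaf 12266) (.leaf 0))) (.node (.node (.leaf 6227) (.leaf 0)) (.node (.leaf 19149)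 (.leaf 0)))) (.node (.node (.node (.leaf 3440) (.leaf 33138)) (.node (.leaf 15590) (.leaf 0))) (.node (.node (.leaf 9168) (.leaf 0)) (.node (.leaf 23056) (.leaf 0))))) (.node (.node (.node (.node (.leaf 2108) (.leaf 30136)) (.node (.leaf 13901) (.leaf 0))) (.node (.node (.leaf 7667) (.leaf 0)) (.node (.leaf 21056) (.leaf 0)))) (.node (.node (.node (.leaf 4827) (.leaf 37294)) (.node (.leaf 17338) (.leaf 0))) (.node (.node (.leaf 10671) (.leaf 0)) (.node (.leaf 25203) (.leaf 0))))))) (.node (.node (.node (.node (.node (.node (.leaf 459) (.leaf 26955)) (.node (.leaf 11861) (.leaf 0))) (.node (.node (.leaf 5867) (.leaf 0)) (.node (.leaf 18721) (.leaf 0)))) (.node (.node (.node (.leaf 3095) (.leaf 32339)) (.node (.leaf 15180) (.leaf 0))) (.node (.node (.leaf 8780) (.leaf 0)) (.node (.leaf 22566) (.leaf 0))))) (.node (.node (.node (.node (.leaf 1774) (.leaf 29466)) (.node (.leaf 13482) (.leaf 0))) (.node (.node (.leaf 7312) (.leaf 0)) (.node (.leaf 20555) (.leaf 0)))) (.node (.node (.node (.leaf 4482) (.leaf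 36103)) (.node (.leaf 16894) (.leaf 0))) (.node (.node (.leaf 10282) (.leaf 0)) (.node (.leaf 24632) (.leaf 0)))))) (.node (.node (.node (.node (.node (.leaf 1113) (.leaf 28141)) (.node (.leaf 12674) (.leaf 0))) (.node (.node (.leaf 6590) (.leaf 0)) (.node (.leaf 19599) (.leaf 0)))) (.node (.node (.node (.leaf 3785) (.leaf 34105)) (.node (.leaf 16020) (.leaf 0))) (.node (.node (.leaf 9553) (.leaf 0)) (.node (.leaf 23575) (.leaf 0))))) (.node (.node (.node (.node (.leaf 2440) (.leaf 30808)) (.node (.leaf 14304) (.leaf 0))) (.node (.node (.leaf 8032) (.leaf 0)) (.node (.leaf 21538) (.leaf 0)))) (.node (.node (.node (.leaf 5167) (.leaf 38678)) (.node (.leaf 17790) (.leaf 0))) (.node (.node (.leaf 11056) (.leaf 0)) (.node (.leaf 25770) (.leaf 0)))))))) (.node (.node (.node (.node (.node (.node (.node (.leaf 297) (.leaf 26658)) (.node (.leaf 11644) (.leaf 0))) (.node (.node (.leaf 5697) (.leaf 0)) (.node (.leaf 18478) (.leaf 0)))) (.node (.node (.node (.leaf 2930) (.leaf 31967)) (.node (.leaf 14956) (.leaf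 0))) (.node (.node (.leaf 8588) (.leaf 0)) (.node (.leaf 22294) (.leaf 0))))) (.node (.node (.node (.node (.leaf 1606) (.leaf 29129)) (.node (.leaf 13278) (.leaf 0))) (.node (.node (.leaf 7130) (.leaf 0)) (.node (.leaf 20308) (.leaf 0)))) (.node (.node (.node (.leaf 4309) (.leaf 35601)) (.node (.leaf 16656) (.leaf 0))) (.node (.node (.leaf 10092) (.leaf 0)) (.node (.leaf 24354) (.leaf 0)))))) (.node (.node (.node (.node (.node (.leaf 950) (.leaf 27825)) (.node (.leaf 12470) (.leaf 0))) (.node (.node (.leaf 6414) (.leaf 0)) (.node (.leaf 19370) (.leaf 0)))) (.node (.node (.node (.leaf 3615) (.leaf 33607)) (.node (.leaf 15798) (.leaf 0))) (.node (.node (.leaf 9369) (.leaf 0)) (.node (.leaf 23305) (.leaf 0))))) (.node (.node (.node (.node (.leaf 2276) (.leaf 30458)) (.node (.leaf 14105) (.leaf 0))) (.node (.node (.leaf 7852) (.leaf 0)) (.node (.leaf 21296) (.leaf 0)))) (.node (.node (.node (.leaf 4996) (.leaf 37934)) (.node (.leaf 17574) (.leaf 0))) (.node (.node (.leaf 10874) (.leaf 0)) (.node (.leaf 25454)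 (.leaf 0))))))) (.node (.node (.node (.node (.node (.node (.leaf 622) (.leaf 27266)) (.node (.leaf 12063) (.leaf 0))) (.node (.node (.leaf 6044) (.leaf 0)) (.node (.leaf 18946) (.leaf 0)))) (.node (.node (.node (.leaf 3262) (.leaf 32751)) (.node (.leaf 15381) (.leaf 0))) (.node (.node (.leaf 8971) (.leaf 0)) (.node (.leaf 22790) (.leaf 0))))) (.node (.node (.node (.node (.leaf 1940) (.leaf 29776)) (.node (.leaf 13689) (.leaf 0))) (.node (.node (.leaf 7489) (.leaf 0)) (.node (.leaf 20802) (.leaf 0)))) (.node (.node (.node (.leaf 4655) (.leaf 36753)) (.node (.leaf 17115) (.leaf 0))) (.node (.node (.leaf 10474) (.leaf 0)) (.node (.leaf 24910) (.leaf 0)))))) (.node (.node (.node (.node (.node (.leaf 1276) (.leaf 28456)) (.node (.leaf 12873) (.leaf 0))) (.node (.node (.leaf 6769) (.leaf 0)) (.node (.leaf 19831) (.leaf 0)))) (.node (.node (.node (.leaf 3956) (.leaf 34584)) (.node (.leaf 16244) (.leaf 0))) (.node (.node (.leaf 9728) (.leaf 0)) (.node (.leaf 23825) (.leaf 0))))) (.node (.node (.node (.node (.leaf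 2602) (.leaf 31170)) (.node (.leaf 14511) (.leaf 0))) (.node (.node (.leaf 8224) (.leaf 0)) (.node (.leaf 21792) (.leaf 0)))) (.node (.node (.node (.leaf 5341) (.leaf 39868)) (.node (.leaf 18022) (.leaf 0))) (.node (.node (.leaf 11244) (.leaf 0)) (.node (.leaf 26065) (.leaf 0))))))))

def pT111 : NT := .node (.node (.node (.node (.node (.node (.node (.node (.leaf 139) (.leaf 26354)) (.node (.leaf 11437) (.leaf 0))) (.node (.node (.leaf 5523) (.leaf 0)) (.node (.leaf 18238) (.leaf 0)))) (.node (.node (.node (.leaf 2764) (.leaf 31555)) (.node (.leaf 14724) (.leaf 0))) (.node (.node (.leaf 8408) (.leaf 0)) (.node (.leaf 22028) (.leaf 0))))) (.node (.node (.node (.node (.leaf 1442) (.leaf 28810)) (.node (.leaf 13074) (.leaf 0))) (.node (.node (.leaf 6956) (.leaf 0)) (.node (.leaf 20072) (.leaf 0)))) (.node (.node (.node (.leaf 4138) (.leaf 35073)) (.node (.leaf 16447) (.leaf 0))) (.node (.node (.leaf 9915) (.leaf 0)) (.node (.leaf 24088) (.leaf 0)))))) (.node (.node (.node (.node (.node (.leaf 787) (.leaf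 27560)) (.node (.leaf 12267) (.leaf 0))) (.node (.node (.leaf 6228) (.leaf 0)) (.node (.leaf 19150) (.leaf 0)))) (.node (.node (.node (.leaf 3443) (.leaf 33139)) (.node (.leaf 15593) (.leaf 0))) (.node (.node (.leaf 9169) (.leaf 0)) (.node (.leaf 23058) (.leaf 0))))) (.node (.node (.node (.node (.leaf 2109) (.leaf 30141)) (.node (.leaf 13902) (.leaf 0))) (.node (.node (.leaf 7668) (.leaf 0)) (.node (.leaf 21064) (.leaf 0)))) (.node (.node (.node (.leaf 4828) (.leaf 37297)) (.node (.leaf 17340) (.leaf 0))) (.node (.node (.leaf 10672) (.leaf 0)) (.node (.leaf 25204) (.leaf 0))))))) (.node (.node (.node (.node (.node (.node (.leaf 460) (.leaf 26960)) (.node (.leaf 11864) (.leaf 0))) (.node (.node (.leaf 5868) (.leaf 0)) (.node (.leaf 18722) (.leaf 0)))) (.node (.node (.node (.leaf 3096) (.leaf 32342)) (.node (.leaf 15182) (.leaf 0))) (.node (.node (.leaf 8782) (.leaf 0)) (.node (.leaf 22567) (.leaf 0))))) (.node (.node (.node (.node (.leaf 1775) (.leaf 29467)) (.node (.leaf 13485) (.leaf 0))) (.node (.node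 (.leaf 7313) (.leaf 0)) (.node (.leaf 20556) (.leaf 0)))) (.node (.node (.node (.leaf 4483) (.leaf 36105)) (.node (.leaf 16896) (.leaf 0))) (.node (.node (.leaf 10286) (.leaf 0)) (.node (.leaf 24636) (.leaf 0)))))) (.node (.node (.node (.node (.node (.leaf 1114) (.leaf 28144)) (.node (.leaf 12675) (.leaf 0))) (.node (.node (.leaf 6592) (.leaf 0)) (.node (.leaf 19600) (.leaf 0)))) (.node (.node (.node (.leaf 3786) (.leaf 34111)) (.node (.leaf 16022) (.leaf 0))) (.node (.node (.leaf 9554) (.leaf 0)) (.node (.leaf 23576) (.leaf 0))))) (.node (.node (.node (.node (.leaf 2441) (.leaf 30809)) (.node (.leaf 14305) (.leaf 0))) (.node (.node (.leaf 8033) (.leaf 0)) (.node (.leaf 21539) (.leaf 0)))) (.node (.node (.node (.leaf 5168) (.leaf 38679)) (.node (.leaf 17793) (.leaf 0))) (.node (.node (.leaf 11062) (.leaf 0)) (.node (.leaf 25773) (.leaf 0)))))))) (.node (.node (.node (.node (.node (.node (.node (.leaf 298) (.leaf 26661)) (.node (.leaf 11646) (.leaf 0))) (.node (.node (.leaf 5698) (.leaf 0)) (.node (.leaf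 18480) (.leaf 0)))) (.node (.node (.node (.leaf 2931) (.leaf 31970)) (.node (.leaf 14959) (.leaf 0))) (.node (.node (.leaf 8590) (.leaf 0)) (.node (.leaf 22296) (.leaf 0))))) (.node (.node (.node (.node (.leaf 1607) (.leaf 29132)) (.node (.leaf 13279) (.leaf 0))) (.node (.node (.leaf 7131) (.leaf 0)) (.node (.leaf 20309) (.leaf 0)))) (.node (.node (.node (.leaf 4310) (.leaf 35603)) (.node (.leaf 16658) (.leaf 0))) (.node (.node (.leaf 10093) (.leaf 0)) (.node (.leaf 24359) (.leaf 0)))))) (.node (.node (.node (.node (.node (.leaf 951) (.leaf 27830)) (.node (.leaf 12473) (.leaf 0))) (.node (.node (.leaf 6416) (.leaf 0)) (.node (.leaf 19371) (.leaf 0)))) (.node (.node (.node (.leaf 3616) (.leaf 33609)) (.node (.leaf 15799) (.leaf 0))) (.node (.node (.leaf 9371) (.leaf 0)) (.node (.leaf 23306) (.leaf 0))))) (.node (.node (.node (.node (.leaf 2277) (.leaf 30459)) (.node (.leaf 14108) (.leaf 0))) (.node (.node (.leaf 7853) (.leaf 0)) (.node (.leaf 21297) (.leaf 0)))) (.node (.node (.node (.leaf 4997) (.leaf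 37943)) (.node (.leaf 17575) (.leaf 0))) (.node (.node (.leaf 10876) (.leaf 0)) (.node (.leaf 25456) (.leaf 0))))))) (.node (.node (.node (.node (.node (.node (.leaf 623) (.leaf 27267)) (.node (.leaf 12066) (.leaf 0))) (.node (.node (.leaf 6045) (.leaf 0)) (.node (.leaf 18948) (.leaf 0)))) (.node (.node (.node (.leaf 3264) (.leaf 32753)) (.node (.leaf 15382) (.leaf 0))) (.node (.node (.leaf 8972) (.leaf 0)) (.node (.leaf 22793) (.leaf 0))))) (.node (.node (.node (.node (.leaf 1942) (.leaf 29778)) (.node (.leaf 13691) (.leaf 0))) (.node (.node (.leaf 7490) (.leaf 0)) (.node (.leaf 20803) (.leaf 0)))) (.node (.node (.node (.leaf 4656) (.leaf 36755)) (.node (.leaf 17119) (.leaf 0))) (.node (.node (.leaf 10475) (.leaf 0)) (.node (.leaf 24911) (.leaf 0)))))) (.node (.node (.node (.node (.node (.leaf 1278) (.leaf 28458)) (.node (.leaf 12874) (.leaf 0))) (.node (.node (.leaf 6770) (.leaf 0)) (.node (.leaf 19836) (.leaf 0)))) (.node (.node (.node (.leaf 3957) (.leaf 34585)) (.node (.leaf 16246) (.leaf 0))) (.node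 (.node (.leaf 9729) (.leaf 0)) (.node (.leaf 23828) (.leaf 0))))) (.node (.node (.node (.node (.leaf 2604) (.leaf 31172)) (.node (.leaf 14513) (.leaf 0))) (.node (.node (.leaf 8226) (.leaf 0)) (.node (.leaf 21796) (.leaf 0)))) (.node (.node (.node (.leaf 5342) (.leaf 39873)) (.node (.leaf 18023) (.leaf 0))) (.node (.node (.leaf 11246) (.leaf 0)) (.node (.leaf 26067) (.leaf 0))))))))

def pT112 : NT := .node (.node (.node (.node (.node (.node (.node (.node (.leaf 140) (.leaf 26360)) (.node (.leaf 11438) (.leaf 0))) (.node (.node (.leaf 5525) (.leaf 0)) (.node (.leaf 18239) (.leaf 0)))) (.node (.node (.node (.leaf 2765) (.leaf 31558)) (.node (.leaf 14725) (.leaf 0))) (.node (.node (.leaf 8409) (.leaf 0)) (.node (.leaf 22029) (.leaf 0))))) (.node (.node (.node (.node (.leaf 1443) (.leaf 28815)) (.node (.leaf 13075) (.leaf 0))) (.node (.node (.leaf 6957) (.leaf 0)) (.node (.leaf 20076) (.leaf 0)))) (.node (.node (.node (.leaf 4139) (.leaf 35074)) (.node (.leaf 16448) (.leaf 0))) (.node (.node (.leaf 9917)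 (.leaf 0)) (.node (.leaf 24090) (.leaf 0)))))) (.node (.node (.node (.node (.node (.leaf 788) (.leaf 27562)) (.node (.leaf 12268) (.leaf 0))) (.node (.node (.leaf 6229) (.leaf 0)) (.node (.leaf 19152) (.leaf 0)))) (.node (.node (.node (.leaf 3444) (.leaf 33149)) (.node (.leaf 15594) (.leaf 0))) (.node (.node (.leaf 9170) (.leaf 0)) (.node (.leaf 23060) (.leaf 0))))) (.node (.node (.node (.node (.leaf 2110) (.leaf 30143)) (.node (.leaf 13904) (.leaf 0))) (.node (.node (.leaf 7670) (.leaf 0)) (.node (.leaf 21065) (.leaf 0)))) (.node (.node (.node (.leaf 4830) (.leaf 37300)) (.node (.leaf 17346) (.leaf 0))) (.node (.node (.leaf 10673) (.leaf 0)) (.node (.leaf 25206) (.leaf 0))))))) (.node (.node (.node (.node (.node (.node (.leaf 461) (.leaf 26962)) (.node (.leaf 11865) (.leaf 0))) (.node (.node (.leaf 5870) (.leaf 0)) (.node (.leaf 18724) (.leaf 0)))) (.node (.node (.node (.leaf 3098) (.leaf 32343)) (.node (.leaf 15183) (.leaf 0))) (.node (.node (.leaf 8783) (.leaf 0)) (.node (.leaf 22568) (.leaf 0)))))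 (.node (.node (.node (.node (.leaf 1776) (.leaf 29468)) (.node (.leaf 13486) (.leaf 0))) (.node (.node (.leaf 7314) (.leaf 0)) (.node (.leaf 20557) (.leaf 0)))) (.node (.node (.node (.leaf 4484) (.leaf 36106)) (.node (.leaf 16897) (.leaf 0))) (.node (.node (.leaf 10287) (.leaf 0)) (.node (.leaf 24644) (.leaf 0)))))) (.node (.node (.node (.node (.node (.leaf 1116) (.leaf 28149)) (.node (.leaf 12676) (.leaf 0))) (.node (.node (.leaf 6593) (.leaf 0)) (.node (.leaf 19602) (.leaf 0)))) (.node (.node (.node (.leaf 3788) (.leaf 34120)) (.node (.leaf 16026) (.leaf 0))) (.node (.node (.leaf 9556) (.leaf 0)) (.node (.leaf 23577) (.leaf 0))))) (.node (.node (.node (.node (.leaf 2442) (.leaf 30811)) (.node (.leaf 14306) (.leaf 0))) (.node (.node (.leaf 8037) (.leaf 0)) (.node (.leaf 21542) (.leaf 0)))) (.node (.node (.node (.leaf 5170) (.leaf 38681)) (.node (.leaf 17796) (.leaf 0))) (.node (.node (.leaf 11064) (.leaf 0)) (.node (.leaf 25774) (.leaf 0)))))))) (.node (.node (.node (.node (.node (.node (.node (.leaf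 301) (.leaf 26672)) (.node (.leaf 11648) (.leaf 0))) (.node (.node (.leaf 5700) (.leaf 0)) (.node (.leaf 18482) (.leaf 0)))) (.node (.node (.node (.leaf 2932) (.leaf 31972)) (.node (.leaf 14960) (.leaf 0))) (.node (.node (.leaf 8591) (.leaf 0)) (.node (.leaf 22299) (.leaf 0))))) (.node (.node (.node (.node (.leaf 1608) (.leaf 29138)) (.node (.leaf 13280) (.leaf 0))) (.node (.node (.leaf 7132) (.leaf 0)) (.node (.leaf 20311) (.leaf 0)))) (.node (.node (.node (.leaf 4312) (.leaf 35606)) (.node (.leaf 16660) (.leaf 0))) (.node (.node (.leaf 10095) (.leaf 0)) (.node (.leaf 24361) (.leaf 0)))))) (.node (.node (.node (.node (.node (.leaf 952) (.leaf 27832)) (.node (.leaf 12474) (.leaf 0))) (.node (.node (.leaf 6417) (.leaf 0)) (.node (.leaf 19372) (.leaf 0)))) (.node (.node (.node (.leaf 3617) (.leaf 33618)) (.node (.leaf 15800) (.leaf 0))) (.node (.node (.leaf 9372) (.leaf 0)) (.node (.leaf 23309) (.leaf 0))))) (.node (.node (.node (.node (.leaf 2278) (.leaf 30462)) (.node (.leaf 14109) (.leaf 0))) (.node (.node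 (.leaf 7856) (.leaf 0)) (.node (.leaf 21298) (.leaf 0)))) (.node (.node (.node (.leaf 4998) (.leaf 37950)) (.node (.leaf 17576) (.leaf 0))) (.node (.node (.leaf 10877) (.leaf 0)) (.node (.leaf 25458) (.leaf 0))))))) (.node (.node (.node (.node (.node (.node (.leaf 624) (.leaf 27276)) (.node (.leaf 12067) (.leaf 0))) (.node (.node (.leaf 6046) (.leaf 0)) (.node (.leaf 18949) (.leaf 0)))) (.node (.node (.node (.leaf 3265) (.leaf 32756)) (.node (.leaf 15384) (.leaf 0))) (.node (.node (.leaf 8975) (.leaf 0)) (.node (.leaf 22794) (.leaf 0))))) (.node (.node (.node (.node (.leaf 1944) (.leaf 29779)) (.node (.leaf 13694) (.leaf 0))) (.node (.node (.leaf 7492) (.leaf 0)) (.node (.leaf 20805) (.leaf 0)))) (.node (.node (.node (.leaf 4658) (.leaf 36756)) (.node (.leaf 17120) (.leaf 0))) (.node (.node (.leaf 10476) (.leaf 0)) (.node (.leaf 24915) (.leaf 0)))))) (.node (.node (.node (.node (.node (.leaf 1280) (.leaf 28459)) (.node (.leaf 12875) (.leaf 0))) (.node (.node (.leaf 6774) (.leaf 0)) (.node (.leaf 19837)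 (.leaf 0)))) (.node (.node (.node (.leaf 3958) (.leaf 34586)) (.node (.leaf 16247) (.leaf 0))) (.node (.node (.leaf 9730) (.leaf 0)) (.node (.leaf 23830) (.leaf 0))))) (.node (.node (.node (.node (.leaf 2605) (.leaf 31173)) (.node (.leaf 14514) (.leaf 0))) (.node (.node (.leaf 8227) (.leaf 0)) (.node (.leaf 21798) (.leaf 0)))) (.node (.node (.node (.leaf 5344) (.leaf 39880)) (.node (.leaf 18024) (.leaf 0))) (.node (.node (.leaf 11247) (.leaf 0)) (.node (.leaf 26068) (.leaf 0))))))))

def pT113 : NT := .node (.node (.node (.node (.node (.node (.node (.node (.leaf 141) (.leaf 26362)) (.node (.leaf 11440) (.leaf 0))) (.node (.node (.leaf 5526) (.leaf 0)) (.node (.leaf 18240) (.leaf 0)))) (.node (.node (.node (.leaf 2766) (.leaf 31559)) (.node (.leaf 14726) (.leaf 0))) (.node (.node (.leaf 8410) (.leaf 0)) (.node (.leaf 22030) (.leaf 0))))) (.node (.node (.node (.node (.leaf 1444) (.leaf 28820)) (.node (.leaf 13076) (.leaf 0))) (.node (.node (.leaf 6960) (.leaf 0)) (.node (.leaf 20079) (.leaf 0)))) (.node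 (.node (.node (.leaf 4140) (.leaf 35075)) (.node (.leaf 16450) (.leaf 0))) (.node (.node (.leaf 9918) (.leaf 0)) (.node (.leaf 24091) (.leaf 0)))))) (.node (.node (.node (.node (.node (.leaf 790) (.leaf 27564)) (.node (.leaf 12269) (.leaf 0))) (.node (.node (.leaf 6230) (.leaf 0)) (.node (.leaf 19154) (.leaf 0)))) (.node (.node (.node (.leaf 3446) (.leaf 33153)) (.node (.leaf 15596) (.leaf 0))) (.node (.node (.leaf 9171) (.leaf 0)) (.node (.leaf 23064) (.leaf 0))))) (.node (.node (.node (.node (.leaf 2111) (.leaf 30147)) (.node (.leaf 13906) (.leaf 0))) (.node (.node (.leaf 7671) (.leaf 0)) (.node (.leaf 21066) (.leaf 0)))) (.node (.node (.node (.leaf 4831) (.leaf 37301)) (.node (.leaf 17348) (.leaf 0))) (.node (.node (.leaf 10674) (.leaf 0)) (.node (.leaf 25211) (.leaf 0))))))) (.node (.node (.node (.node (.node (.node (.leaf 462) (.leaf 26964)) (.node (.leaf 11866) (.leaf 0))) (.node (.node (.leaf 5871) (.leaf 0)) (.node (.leaf 18725) (.leaf 0)))) (.node (.node (.node (.leaf 3099) (.leaf 32344)) (.node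 (.leaf 15184) (.leaf 0))) (.node (.node (.leaf 8784) (.leaf 0)) (.node (.leaf 22569) (.leaf 0))))) (.node (.node (.node (.node (.leaf 1777) (.leaf 29469)) (.node (.leaf 13488) (.leaf 0))) (.node (.node (.leaf 7315) (.leaf 0)) (.node (.leaf 20558) (.leaf 0)))) (.node (.node (.node (.leaf 4486) (.leaf 36114)) (.node (.leaf 16898) (.leaf 0))) (.node (.node (.leaf 10288) (.leaf 0)) (.node (.leaf 24650) (.leaf 0)))))) (.node (.node (.node (.node (.node (.leaf 1117) (.leaf 28150)) (.node (.leaf 12678) (.leaf 0))) (.node (.node (.leaf 6594) (.leaf 0)) (.node (.leaf 19603) (.leaf 0)))) (.node (.node (.node (.leaf 3789) (.leaf 34124)) (.node (.leaf 16027) (.leaf 0))) (.node (.node (.leaf 9557) (.leaf 0)) (.node (.leaf 23578) (.leaf 0))))) (.node (.node (.node (.node (.leaf 2443) (.leaf 30814)) (.node (.leaf 14307) (.leaf 0))) (.node (.node (.leaf 8038) (.leaf 0)) (.node (.leaf 21543) (.leaf 0)))) (.node (.node (.node (.leaf 5171) (.leaf 38684)) (.node (.leaf 17798) (.leaf 0))) (.node (.node (.leaf 11065) (.leaf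 0)) (.node (.leaf 25778) (.leaf 0)))))))) (.node (.node (.node (.node (.node (.node (.node (.leaf 302) (.leaf 26674)) (.node (.leaf 11649) (.leaf 0))) (.node (.node (.leaf 5701) (.leaf 0)) (.node (.leaf 18483) (.leaf 0)))) (.node (.node (.node (.leaf 2934) (.leaf 31974)) (.node (.leaf 14961) (.leaf 0))) (.node (.node (.leaf 8592) (.leaf 0)) (.node (.leaf 22301) (.leaf 0))))) (.node (.node (.node (.node (.leaf 1610) (.leaf 29142)) (.node (.leaf 13283) (.leaf 0))) (.node (.node (.leaf 7134) (.leaf 0)) (.node (.leaf 20314) (.leaf 0)))) (.node (.node (.node (.leaf 4313) (.leaf 35620)) (.node (.leaf 16662) (.leaf 0))) (.node (.node (.leaf 10096) (.leaf 0)) (.node (.leaf 24362) (.leaf 0)))))) (.node (.node (.node (.node (.node (.leaf 954) (.leaf 27834)) (.node (.leaf 12475) (.leaf 0))) (.node (.node (.leaf 6418) (.leaf 0)) (.node (.leaf 19373) (.leaf 0)))) (.node (.node (.node (.leaf 3618) (.leaf 33619)) (.node (.leaf 15802) (.leaf 0))) (.node (.node (.leaf 9375) (.leaf 0)) (.node (.leaf 23312) (.leaf 0)))))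 (.node (.node (.node (.node (.leaf 2280) (.leaf 30463)) (.node (.leaf 14110) (.leaf 0))) (.node (.node (.leaf 7857) (.leaf 0)) (.node (.leaf 21299) (.leaf 0)))) (.node (.node (.node (.leaf 5000) (.leaf 37970)) (.node (.leaf 17578) (.leaf 0))) (.node (.node (.leaf 10878) (.leaf 0)) (.node (.leaf 25459) (.leaf 0))))))) (.node (.node (.node (.node (.node (.node (.leaf 626) (.leaf 27278)) (.node (.leaf 12068) (.leaf 0))) (.node (.node (.leaf 6047) (.leaf 0)) (.node (.leaf 18950) (.leaf 0)))) (.node (.node (.node (.leaf 3266) (.leaf 32757)) (.node (.leaf 15387) (.leaf 0))) (.node (.node (.leaf 8976) (.leaf 0)) (.node (.leaf 22796) (.leaf 0))))) (.node (.node (.node (.node (.leaf 1945) (.leaf 29780)) (.node (.leaf 13695) (.leaf 0))) (.node (.node (.leaf 7493) (.leaf 0)) (.node (.leaf 20806) (.leaf 0)))) (.node (.node (.node (.leaf 4659) (.leaf 36757)) (.node (.leaf 17122) (.leaf 0))) (.node (.node (.leaf 10477) (.leaf 0)) (.node (.leaf 24916) (.leaf 0)))))) (.node (.node (.node (.node (.node (.leaf 1281) (.leaf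 28460)) (.node (.leaf 12876) (.leaf 0))) (.node (.node (.leaf 6775) (.leaf 0)) (.node (.leaf 19838) (.leaf 0)))) (.node (.node (.node (.leaf 3959) (.leaf 34590)) (.node (.leaf 16248) (.leaf 0))) (.node (.node (.leaf 9732) (.leaf 0)) (.node (.leaf 23831) (.leaf 0))))) (.node (.node (.node (.node (.leaf 2606) (.leaf 31175)) (.node (.leaf 14516) (.leaf 0))) (.node (.node (.leaf 8228) (.leaf 0)) (.node (.leaf 21799) (.leaf 0)))) (.node (.node (.node (.leaf 5345) (.leaf 39887)) (.node (.leaf 18026) (.leaf 0))) (.node (.node (.leaf 11248) (.leaf 0)) (.node (.leaf 26071) (.leaf 0))))))))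

def pT114 : NT := .node (.node (.node (.node (.node (.node (.node (.node (.leaf 142) (.leaf 26363)) (.node (.leaf 11441) (.leaf 0))) (.node (.node (.leaf 5528) (.leaf 0)) (.node (.leaf 18242) (.leaf 0)))) (.node (.node (.node (.leaf 2768) (.leaf 31560)) (.node (.leaf 14728) (.leaf 0))) (.node (.node (.leaf 8411) (.leaf 0)) (.node (.leaf 22033) (.leaf 0))))) (.node (.node (.node (.node (.leaf 1446) (.leaf 28821)) (.node (.leaf 13079) (.leaf 0))) (.node (.node (.leaf 6961) (.leaf 0)) (.node (.leaf 20080) (.leaf 0)))) (.node (.node (.node (.leaf 4141) (.leaf 35077)) (.node (.leaf 16452) (.leaf 0))) (.node (.node (.leaf 9921) (.leaf 0)) (.node (.leaf 24094) (.leaf 0)))))) (.node (.node (.node (.node (.node (.leaf 791) (.leaf 27571)) (.node (.leaf 12270) (.leaf 0))) (.node (.node (.leaf 6232) (.leaf 0)) (.node (.leaf 19156) (.leaf 0)))) (.node (.node (.node (.leaf 3448) (.leaf 33160)) (.node (.leaf 15599) (.leaf 0))) (.node (.node (.leaf 9175) (.leaf 0)) (.node (.leaf 23066) (.leaf 0))))) (.node (.node (.node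 (.node (.leaf 2112) (.leaf 30148)) (.node (.leaf 13908) (.leaf 0))) (.node (.node (.leaf 7672) (.leaf 0)) (.node (.leaf 21068) (.leaf 0)))) (.node (.node (.node (.leaf 4832) (.leaf 37302)) (.node (.leaf 17352) (.leaf 0))) (.node (.node (.leaf 10676) (.leaf 0)) (.node (.leaf 25213) (.leaf 0))))))) (.node (.node (.node (.node (.node (.node (.leaf 464) (.leaf 26968)) (.node (.leaf 11868) (.leaf 0))) (.node (.node (.leaf 5872) (.leaf 0)) (.node (.leaf 18726) (.leaf 0)))) (.node (.node (.node (.leaf 3100) (.leaf 32345)) (.node (.leaf 15185) (.leaf 0))) (.node (.node (.leaf 8788) (.leaf 0)) (.node (.leaf 22570) (.leaf 0))))) (.node (.node (.node (.node (.leaf 1778) (.leaf 29471)) (.node (.leaf 13490) (.leaf 0))) (.node (.node (.leaf 7316) (.leaf 0)) (.node (.leaf 20560) (.leaf 0)))) (.node (.node (.node (.leaf 4488) (.leaf 36120)) (.node (.leaf 16900) (.leaf 0))) (.node (.node (.leaf 10289) (.leaf 0)) (.node (.leaf 24652) (.leaf 0)))))) (.node (.node (.node (.node (.node (.leaf 1118) (.leaf 28152)) (.node (.leaf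 12679) (.leaf 0))) (.node (.node (.leaf 6598) (.leaf 0)) (.node (.leaf 19604) (.leaf 0)))) (.node (.node (.node (.leaf 3790) (.leaf 34127)) (.node (.leaf 16029) (.leaf 0))) (.node (.node (.leaf 9558) (.leaf 0)) (.node (.leaf 23582) (.leaf 0))))) (.node (.node (.node (.node (.leaf 2444) (.leaf 30818)) (.node (.leaf 14308) (.leaf 0))) (.node (.node (.leaf 8039) (.leaf 0)) (.node (.leaf 21546) (.leaf 0)))) (.node (.node (.node (.leaf 5172) (.leaf 38687)) (.node (.leaf 17800) (.leaf 0))) (.node (.node (.leaf 11066) (.leaf 0)) (.node (.leaf 25779) (.leaf 0)))))))) (.node (.node (.node (.node (.node (.node (.node (.leaf 304) (.leaf 26677)) (.node (.leaf 11650) (.leaf 0))) (.node (.node (.leaf 5702) (.leaf 0)) (.node (.leaf 18484) (.leaf 0)))) (.node (.node (.node (.leaf 2935) (.leaf 31976)) (.node (.leaf 14965) (.leaf 0))) (.node (.node (.leaf 8594) (.leaf 0)) (.node (.leaf 22305) (.leaf 0))))) (.node (.node (.node (.node (.leaf 1611) (.leaf 29144)) (.node (.leaf 13286) (.leaf 0))) (.node (.node (.leaf 7135)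 (.leaf 0)) (.node (.leaf 20316) (.leaf 0)))) (.node (.node (.node (.leaf 4314) (.leaf 35621)) (.node (.leaf 16663) (.leaf 0))) (.node (.node (.leaf 10098) (.leaf 0)) (.node (.leaf 24369) (.leaf 0)))))) (.node (.node (.node (.node (.node (.leaf 955) (.leaf 27835)) (.node (.leaf 12476) (.leaf 0))) (.node (.node (.leaf 6421) (.leaf 0)) (.node (.leaf 19374) (.leaf 0)))) (.node (.node (.node (.leaf 3621) (.leaf 33625)) (.node (.leaf 15804) (.leaf 0))) (.node (.node (.leaf 9376) (.leaf 0)) (.node (.leaf 23318) (.leaf 0))))) (.node (.node (.node (.node (.leaf 2281) (.leaf 30466)) (.node (.leaf 14112) (.leaf 0))) (.node (.node (.leaf 7858) (.leaf 0)) (.node (.leaf 21300) (.leaf 0)))) (.node (.node (.node (.leaf 5001) (.leaf 37978)) (.node (.leaf 17581) (.leaf 0))) (.node (.node (.leaf 10879) (.leaf 0)) (.node (.leaf 25461) (.leaf 0))))))) (.node (.node (.node (.node (.node (.node (.leaf 627) (.leaf 27279)) (.node (.leaf 12070) (.leaf 0))) (.node (.node (.leaf 6048) (.leaf 0)) (.node (.leaf 18953) (.leaf 0))))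 (.node (.node (.node (.leaf 3267) (.leaf 32759)) (.node (.leaf 15388) (.leaf 0))) (.node (.node (.leaf 8977) (.leaf 0)) (.node (.leaf 22798) (.leaf 0))))) (.node (.node (.node (.node (.leaf 1946) (.leaf 29782)) (.node (.leaf 13696) (.leaf 0))) (.node (.node (.leaf 7494) (.leaf 0)) (.node (.leaf 20808) (.leaf 0)))) (.node (.node (.node (.leaf 4660) (.leaf 36759)) (.node (.leaf 17123) (.leaf 0))) (.node (.node (.leaf 10478) (.leaf 0)) (.node (.leaf 24917) (.leaf 0)))))) (.node (.node (.node (.node (.node (.leaf 1282) (.leaf 28462)) (.node (.leaf 12878) (.leaf 0))) (.node (.node (.leaf 6777) (.leaf 0)) (.node (.leaf 19840) (.leaf 0)))) (.node (.node (.node (.leaf 3960) (.leaf 34596)) (.node (.leaf 16250) (.leaf 0))) (.node (.node (.leaf 9734) (.leaf 0)) (.node (.leaf 23832) (.leaf 0))))) (.node (.node (.node (.node (.leaf 2607) (.leaf 31178)) (.node (.leaf 14518) (.leaf 0))) (.node (.node (.leaf 8230) (.leaf 0)) (.node (.leaf 21800) (.leaf 0)))) (.node (.node (.node (.leaf 5346) (.leaf 39889)) (.node (.leaf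 18027) (.leaf 0))) (.node (.node (.leaf 11250) (.leaf 0)) (.node (.leaf 26073) (.leaf 0))))))))

def pT115 : NT := .node (.node (.node (.node (.node (.node (.node (.node (.leaf 144) (.leaf 26364)) (.node (.leaf 11443) (.leaf 0))) (.node (.node (.leaf 5530) (.leaf 0)) (.node (.leaf 18246) (.leaf 0)))) (.node (.node (.node (.leaf 2769) (.leaf 31562)) (.node (.leaf 14729) (.leaf 0))) (.node (.node (.leaf 8412) (.leaf 0)) (.node (.leaf 22034) (.leaf 0))))) (.node (.node (.node (.node (.leaf 1447) (.leaf 28822)) (.node (.leaf 13080) (.leaf 0))) (.node (.node (.leaf 6962) (.leaf 0)) (.node (.leaf 20082) (.leaf 0)))) (.node (.node (.node (.leaf 4144) (.leaf 35080)) (.node (.leaf 16453) (.leaf 0))) (.node (.node (.leaf 9922) (.leaf 0)) (.node (.leaf 24095) (.leaf 0)))))) (.node (.node (.node (.node (.node (.leaf 792) (.leaf 27572)) (.node (.leaf 12272) (.leaf 0))) (.node (.node (.leaf 6233) (.leaf 0)) (.node (.leaf 19157) (.leaf 0)))) (.node (.node (.node (.leaf 3450) (.leaf 33165)) (.node (.leaf 15600) (.leaf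 0))) (.node (.node (.leaf 9176) (.leaf 0)) (.node (.leaf 23068) (.leaf 0))))) (.node (.node (.node (.node (.leaf 2114) (.leaf 30152)) (.node (.leaf 13909) (.leaf 0))) (.node (.node (.leaf 7674) (.leaf 0)) (.node (.leaf 21072) (.leaf 0)))) (.node (.node (.node (.leaf 4833) (.leaf 37304)) (.node (.leaf 17354) (.leaf 0))) (.node (.node (.leaf 10677) (.leaf 0)) (.node (.leaf 25215) (.leaf 0))))))) (.node (.node (.node (.node (.node (.node (.leaf 465) (.leaf 26972)) (.node (.leaf 11870) (.leaf 0))) (.node (.node (.leaf 5873) (.leaf 0)) (.node (.leaf 18728) (.leaf 0)))) (.node (.node (.node (.leaf 3102) (.leaf 32346)) (.node (.leaf 15186) (.leaf 0))) (.node (.node (.leaf 8790) (.leaf 0)) (.node (.leaf 22572) (.leaf 0))))) (.node (.node (.node (.node (.leaf 1780) (.leaf 29472)) (.node (.leaf 13491) (.leaf 0))) (.node (.node (.leaf 7319) (.leaf 0)) (.node (.leaf 20563) (.leaf 0)))) (.node (.node (.node (.leaf 4489) (.leaf 36125)) (.node (.leaf 16901) (.leaf 0))) (.node (.node (.leaf 10290) (.leaf 0)) (.node (.leaf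 24653) (.leaf 0)))))) (.node (.node (.node (.node (.node (.leaf 1120) (.leaf 28154)) (.node (.leaf 12683) (.leaf 0))) (.node (.node (.leaf 6599) (.leaf 0)) (.node (.leaf 19607) (.leaf 0)))) (.node (.node (.node (.leaf 3791) (.leaf 34128)) (.node (.leaf 16030) (.leaf 0))) (.node (.node (.leaf 9559) (.leaf 0)) (.node (.leaf 23583) (.leaf 0))))) (.node (.node (.node (.node (.leaf 2446) (.leaf 30820)) (.node (.leaf 14309) (.leaf 0))) (.node (.node (.leaf 8040) (.leaf 0)) (.node (.leaf 21548) (.leaf 0)))) (.node (.node (.node (.leaf 5174) (.leaf 38709)) (.node (.leaf 17802) (.leaf 0))) (.node (.node (.leaf 11068) (.leaf 0)) (.node (.leaf 25780) (.leaf 0)))))))) (.node (.node (.node (.node (.node (.node (.node (.leaf 305) (.leaf 26680)) (.node (.leaf 11651) (.leaf 0))) (.node (.node (.leaf 5704) (.leaf 0)) (.node (.leaf 18486) (.leaf 0)))) (.node (.node (.node (.leaf 2936) (.leaf 31978)) (.node (.leaf 14966) (.leaf 0))) (.node (.node (.leaf 8600) (.leaf 0)) (.node (.leaf 22306) (.leaf 0))))) (.node (.node (.node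 (.node (.leaf 1612) (.leaf 29148)) (.node (.leaf 13287) (.leaf 0))) (.node (.node (.leaf 7136) (.leaf 0)) (.node (.leaf 20317) (.leaf 0)))) (.node (.node (.node (.leaf 4315) (.leaf 35624)) (.node (.leaf 16666) (.leaf 0))) (.node (.node (.leaf 10100) (.leaf 0)) (.node (.leaf 24372) (.leaf 0)))))) (.node (.node (.node (.node (.node (.leaf 956) (.leaf 27838)) (.node (.leaf 12477) (.leaf 0))) (.node (.node (.leaf 6422) (.leaf 0)) (.node (.leaf 19375) (.leaf 0)))) (.node (.node (.node (.leaf 3622) (.leaf 33626)) (.node (.leaf 15807) (.leaf 0))) (.node (.node (.leaf 9377) (.leaf 0)) (.node (.leaf 23319) (.leaf 0))))) (.node (.node (.node (.node (.leaf 2282) (.leaf 30467)) (.node (.leaf 14113) (.leaf 0))) (.node (.node (.leaf 7860) (.leaf 0)) (.node (.leaf 21302) (.leaf 0)))) (.node (.node (.node (.leaf 5002) (.leaf 37987)) (.node (.leaf 17582) (.leaf 0))) (.node (.node (.leaf 10880) (.leaf 0)) (.node (.leaf 25462) (.leaf 0))))))) (.node (.node (.node (.node (.node (.node (.leaf 628) (.leaf 27282)) (.node (.leaf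 12072) (.leaf 0))) (.node (.node (.leaf 6050) (.leaf 0)) (.node (.leaf 18955) (.leaf 0)))) (.node (.node (.node (.leaf 3268) (.leaf 32769)) (.node (.leaf 15390) (.leaf 0))) (.node (.node (.leaf 8978) (.leaf 0)) (.node (.leaf 22800) (.leaf 0))))) (.node (.node (.node (.node (.leaf 1947) (.leaf 29784)) (.node (.leaf 13697) (.leaf 0))) (.node (.node (.leaf 7496) (.leaf 0)) (.node (.leaf 20810) (.leaf 0)))) (.node (.node (.node (.leaf 4661) (.leaf 36762)) (.node (.leaf 17124) (.leaf 0))) (.node (.node (.leaf 10480) (.leaf 0)) (.node (.leaf 24918) (.leaf 0)))))) (.node (.node (.node (.node (.node (.leaf 1284) (.leaf 28472)) (.node (.leaf 12880) (.leaf 0))) (.node (.node (.leaf 6778) (.leaf 0)) (.node (.leaf 19842) (.leaf 0)))) (.node (.node (.node (.leaf 3962) (.leaf 34600)) (.node (.leaf 16254) (.leaf 0))) (.node (.node (.leaf 9737) (.leaf 0)) (.node (.leaf 23833) (.leaf 0))))) (.node (.node (.node (.node (.leaf 2608) (.leaf 31181)) (.node (.leaf 14520) (.leaf 0))) (.node (.node (.leaf 8231) (.leaf 0)) (.node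 (.leaf 21802) (.leaf 0)))) (.node (.node (.node (.leaf 5348) (.leaf 39894)) (.node (.leaf 18028) (.leaf 0))) (.node (.node (.leaf 11252) (.leaf 0)) (.node (.leaf 26074) (.leaf 0))))))))

def pT116 : NT := .node (.node (.node (.node (.node (.node (.node (.node (.leaf 145) (.leaf 26365)) (.node (.leaf 11444) (.leaf 0))) (.node (.node (.leaf 5532) (.leaf 0)) (.node (.leaf 18247) (.leaf 0)))) (.node (.node (.node (.leaf 2770) (.leaf 31568)) (.node (.leaf 14731) (.leaf 0))) (.node (.node (.leaf 8416) (.leaf 0)) (.node (.leaf 22037) (.leaf 0))))) (.node (.node (.node (.node (.leaf 1448) (.leaf 28825)) (.node (.leaf 13083) (.leaf 0))) (.node (.node (.leaf 6963) (.leaf 0)) (.node (.leaf 20083) (.leaf 0)))) (.node (.node (.node (.leaf 4145) (.leaf 35081)) (.node (.leaf 16454) (.leaf 0))) (.node (.node (.leaf 9924) (.leaf 0)) (.node (.leaf 24098) (.leaf 0)))))) (.node (.node (.node (.node (.node (.leaf 793) (.leaf 27573)) (.node (.leaf 12273) (.leaf 0))) (.node (.node (.leaf 6234) (.leaf 0)) (.node (.leaf 19161)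 (.leaf 0)))) (.node (.node (.node (.leaf 3452) (.leaf 33170)) (.node (.leaf 15602) (.leaf 0))) (.node (.node (.leaf 9178) (.leaf 0)) (.node (.leaf 23069) (.leaf 0))))) (.node (.node (.node (.node (.leaf 2115) (.leaf 30153)) (.node (.leaf 13910) (.leaf 0))) (.node (.node (.leaf 7675) (.leaf 0)) (.node (.leaf 21073) (.leaf 0)))) (.node (.node (.node (.leaf 4834) (.leaf 37312)) (.node (.leaf 17355) (.leaf 0))) (.node (.node (.leaf 10678) (.leaf 0)) (.node (.leaf 25216) (.leaf 0))))))) (.node (.node (.node (.node (.node (.node (.leaf 466) (.leaf 26979)) (.node (.leaf 11871) (.leaf 0))) (.node (.node (.leaf 5874) (.leaf 0)) (.node (.leaf 18730) (.leaf 0)))) (.node (.node (.node (.leaf 3103) (.leaf 32348)) (.node (.leaf 15188) (.leaf 0))) (.node (.node (.leaf 8792) (.leaf 0)) (.node (.leaf 22573) (.leaf 0))))) (.node (.node (.node (.node (.leaf 1781) (.leaf 29477)) (.node (.leaf 13492) (.leaf 0))) (.node (.node (.leaf 7320) (.leaf 0)) (.node (.leaf 20564) (.leaf 0)))) (.node (.node (.node (.leaf 4490) (.leaf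 36132)) (.node (.leaf 16902) (.leaf 0))) (.node (.node (.leaf 10293) (.leaf 0)) (.node (.leaf 24654) (.leaf 0)))))) (.node (.node (.node (.node (.node (.leaf 1121) (.leaf 28156)) (.node (.leaf 12685) (.leaf 0))) (.node (.node (.leaf 6600) (.leaf 0)) (.node (.leaf 19609) (.leaf 0)))) (.node (.node (.node (.leaf 3792) (.leaf 34130)) (.node (.leaf 16032) (.leaf 0))) (.node (.node (.leaf 9560) (.leaf 0)) (.node (.leaf 23585) (.leaf 0))))) (.node (.node (.node (.node (.leaf 2447) (.leaf 30822)) (.node (.leaf 14310) (.leaf 0))) (.node (.node (.leaf 8042) (.leaf 0)) (.node (.leaf 21549) (.leaf 0)))) (.node (.node (.node (.leaf 5175) (.leaf 38716)) (.node (.leaf 17803) (.leaf 0))) (.node (.node (.leaf 11069) (.leaf 0)) (.node (.leaf 25782) (.leaf 0)))))))) (.node (.node (.node (.node (.node (.node (.node (.leaf 306) (.leaf 26684)) (.node (.leaf 11652) (.leaf 0))) (.node (.node (.leaf 5705) (.leaf 0)) (.node (.leaf 18488) (.leaf 0)))) (.node (.node (.node (.leaf 2938) (.leaf 31984)) (.node (.leaf 14969) (.leaf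 0))) (.node (.node (.leaf 8601) (.leaf 0)) (.node (.leaf 22309) (.leaf 0))))) (.node (.node (.node (.node (.leaf 1613) (.leaf 29149)) (.node (.leaf 13288) (.leaf 0))) (.node (.node (.leaf 7137) (.leaf 0)) (.node (.leaf 20321) (.leaf 0)))) (.node (.node (.node (.leaf 4316) (.leaf 35625)) (.node (.leaf 16669) (.leaf 0))) (.node (.node (.leaf 10101) (.leaf 0)) (.node (.leaf 24374) (.leaf 0)))))) (.node (.node (.node (.node (.node (.leaf 958) (.leaf 27841)) (.node (.leaf 12481) (.leaf 0))) (.node (.node (.leaf 6423) (.leaf 0)) (.node (.leaf 19376) (.leaf 0)))) (.node (.node (.node (.leaf 3624) (.leaf 33627)) (.node (.leaf 15808) (.leaf 0))) (.node (.node (.leaf 9378) (.leaf 0)) (.node (.leaf 23320) (.leaf 0))))) (.node (.node (.node (.node (.leaf 2284) (.leaf 30470)) (.node (.leaf 14116) (.leaf 0))) (.node (.node (.leaf 7861) (.leaf 0)) (.node (.leaf 21306) (.leaf 0)))) (.node (.node (.node (.leaf 5004) (.leaf 37998)) (.node (.leaf 17584) (.leaf 0))) (.node (.node (.leaf 10882) (.leaf 0)) (.node (.leaf 25464)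 (.leaf 0))))))) (.node (.node (.node (.node (.node (.node (.leaf 630) (.leaf 27288)) (.node (.leaf 12074) (.leaf 0))) (.node (.node (.leaf 6051) (.leaf 0)) (.node (.leaf 18956) (.leaf 0)))) (.node (.node (.node (.leaf 3271) (.leaf 32776)) (.node (.leaf 15392) (.leaf 0))) (.node (.node (.leaf 8980) (.leaf 0)) (.node (.leaf 22802) (.leaf 0))))) (.node (.node (.node (.node (.leaf 1948) (.leaf 29785)) (.node (.leaf 13701) (.leaf 0))) (.node (.node (.leaf 7497) (.leaf 0)) (.node (.leaf 20813) (.leaf 0)))) (.node (.node (.node (.leaf 4662) (.leaf 36777)) (.node (.leaf 17125) (.leaf 0))) (.node (.node (.leaf 10484) (.leaf 0)) (.node (.leaf 24920) (.leaf 0)))))) (.node (.node (.node (.node (.node (.leaf 1285) (.leaf 28474)) (.node (.leaf 12885) (.leaf 0))) (.node (.node (.leaf 6780) (.leaf 0)) (.node (.leaf 19843) (.leaf 0)))) (.node (.node (.node (.leaf 3963) (.leaf 34602)) (.node (.leaf 16256) (.leaf 0))) (.node (.node (.leaf 9738) (.leaf 0)) (.node (.leaf 23834) (.leaf 0))))) (.node (.node (.node (.node (.leaf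 2610) (.leaf 31184)) (.node (.leaf 14523) (.leaf 0))) (.node (.node (.leaf 8232) (.leaf 0)) (.node (.leaf 21803) (.leaf 0)))) (.node (.node (.node (.leaf 5349) (.leaf 39900)) (.node (.leaf 18029) (.leaf 0))) (.node (.node (.leaf 11254) (.leaf 0)) (.node (.leaf 26076) (.leaf 0))))))))

def pT117 : NT := .node (.node (.node (.node (.node (.node (.node (.node (.leaf 146) (.leaf 26368)) (.node (.leaf 11446) (.leaf 0))) (.node (.node (.leaf 5533) (.leaf 0)) (.node (.leaf 18248) (.leaf 0)))) (.node (.node (.node (.leaf 2772) (.leaf 31570)) (.node (.leaf 14732) (.leaf 0))) (.node (.node (.leaf 8418) (.leaf 0)) (.node (.leaf 22040) (.leaf 0))))) (.node (.node (.node (.node (.leaf 1449) (.leaf 28826)) (.node (.leaf 13084) (.leaf 0))) (.node (.node (.leaf 6964) (.leaf 0)) (.node (.leaf 20084) (.leaf 0)))) (.node (.node (.node (.leaf 4146) (.leaf 35082)) (.node (.leaf 16457) (.leaf 0))) (.node (.node (.leaf 9925) (.leaf 0)) (.node (.leaf 24099) (.leaf 0)))))) (.node (.node (.node (.node (.node (.leaf 794) (.leaf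 27575)) (.node (.leaf 12274) (.leaf 0))) (.node (.node (.leaf 6235) (.leaf 0)) (.node (.leaf 19162) (.leaf 0)))) (.node (.node (.node (.leaf 3453) (.leaf 33174)) (.node (.leaf 15603) (.leaf 0))) (.node (.node (.leaf 9179) (.leaf 0)) (.node (.leaf 23070) (.leaf 0))))) (.node (.node (.node (.node (.leaf 2116) (.leaf 30158)) (.node (.leaf 13912) (.leaf 0))) (.node (.node (.leaf 7676) (.leaf 0)) (.node (.leaf 21074) (.leaf 0)))) (.node (.node (.node (.leaf 4836) (.leaf 37313)) (.node (.leaf 17357) (.leaf 0))) (.node (.node (.leaf 10679) (.leaf 0)) (.node (.leaf 25218) (.leaf 0))))))) (.node (.node (.node (.node (.node (.node (.leaf 468) (.leaf 26980)) (.node (.leaf 11872) (.leaf 0))) (.node (.node (.leaf 5876) (.leaf 0)) (.node (.leaf 18732) (.leaf 0)))) (.node (.node (.node (.leaf 3104) (.leaf 32354)) (.node (.leaf 15189) (.leaf 0))) (.node (.node (.leaf 8793) (.leaf 0)) (.node (.leaf 22576) (.leaf 0))))) (.node (.node (.node (.node (.leaf 1782) (.leaf 29482)) (.node (.leaf 13494) (.leaf 0))) (.node (.node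 (.leaf 7322) (.leaf 0)) (.node (.leaf 20569) (.leaf 0)))) (.node (.node (.node (.leaf 4491) (.leaf 36133)) (.node (.leaf 16907) (.leaf 0))) (.node (.node (.leaf 10294) (.leaf 0)) (.node (.leaf 24657) (.leaf 0)))))) (.node (.node (.node (.node (.node (.leaf 1122) (.leaf 28157)) (.node (.leaf 12688) (.leaf 0))) (.node (.node (.leaf 6603) (.leaf 0)) (.node (.leaf 19610) (.leaf 0)))) (.node (.node (.node (.leaf 3794) (.leaf 34132)) (.node (.leaf 16033) (.leaf 0))) (.node (.node (.leaf 9563) (.leaf 0)) (.node (.leaf 23587) (.leaf 0))))) (.node (.node (.node (.node (.leaf 2448) (.leaf 30833)) (.node (.leaf 14312) (.leaf 0))) (.node (.node (.leaf 8043) (.leaf 0)) (.node (.leaf 21551) (.leaf 0)))) (.node (.node (.node (.leaf 5176) (.leaf 38729)) (.node (.leaf 17804) (.leaf 0))) (.node (.node (.leaf 11070) (.leaf 0)) (.node (.leaf 25783) (.leaf 0)))))))) (.node (.node (.node (.node (.node (.node (.node (.leaf 307) (.leaf 26686)) (.node (.leaf 11654) (.leaf 0))) (.node (.node (.leaf 5706) (.leaf 0)) (.node (.leaf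 18489) (.leaf 0)))) (.node (.node (.node (.leaf 2939) (.leaf 31987)) (.node (.leaf 14970) (.leaf 0))) (.node (.node (.leaf 8602) (.leaf 0)) (.node (.leaf 22312) (.leaf 0))))) (.node (.node (.node (.node (.leaf 1614) (.leaf 29154)) (.node (.leaf 13290) (.leaf 0))) (.node (.node (.leaf 7138) (.leaf 0)) (.node (.leaf 20322) (.leaf 0)))) (.node (.node (.node (.leaf 4318) (.leaf 35630)) (.node (.leaf 16671) (.leaf 0))) (.node (.node (.leaf 10102) (.leaf 0)) (.node (.leaf 24376) (.leaf 0)))))) (.node (.node (.node (.node (.node (.leaf 959) (.leaf 27842)) (.node (.leaf 12482) (.leaf 0))) (.node (.node (.leaf 6424) (.leaf 0)) (.node (.leaf 19378) (.leaf 0)))) (.node (.node (.node (.leaf 3625) (.leaf 33632)) (.node (.leaf 15810) (.leaf 0))) (.node (.node (.leaf 9380) (.leaf 0)) (.node (.leaf 23323) (.leaf 0))))) (.node (.node (.node (.node (.leaf 2285) (.leaf 30471)) (.node (.leaf 14117) (.leaf 0))) (.node (.node (.leaf 7862) (.leaf 0)) (.node (.leaf 21310) (.leaf 0)))) (.node (.node (.node (.leaf 5005) (.leaf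 38001)) (.node (.leaf 17585) (.leaf 0))) (.node (.node (.leaf 10883) (.leaf 0)) (.node (.leaf 25468) (.leaf 0))))))) (.node (.node (.node (.node (.node (.node (.leaf 631) (.leaf 27290)) (.node (.leaf 12077) (.leaf 0))) (.node (.node (.leaf 6052) (.leaf 0)) (.node (.leaf 18959) (.leaf 0)))) (.node (.node (.node (.leaf 3272) (.leaf 32778)) (.node (.leaf 15393) (.leaf 0))) (.node (.node (.leaf 8981) (.leaf 0)) (.node (.leaf 22804) (.leaf 0))))) (.node (.node (.node (.node (.leaf 1950) (.leaf 29788)) (.node (.leaf 13702) (.leaf 0))) (.node (.node (.leaf 7498) (.leaf 0)) (.node (.leaf 20814) (.leaf 0)))) (.node (.node (.node (.leaf 4664) (.leaf 36778)) (.node (.leaf 17126) (.leaf 0))) (.node (.node (.leaf 10486) (.leaf 0)) (.node (.leaf 24921) (.leaf 0)))))) (.node (.node (.node (.node (.node (.leaf 1286) (.leaf 28475)) (.node (.leaf 12886) (.leaf 0))) (.node (.node (.leaf 6781) (.leaf 0)) (.node (.leaf 19844) (.leaf 0)))) (.node (.node (.node (.leaf 3964) (.leaf 34606)) (.node (.leaf 16257) (.leaf 0))) (.node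 (.node (.leaf 9740) (.leaf 0)) (.node (.leaf 23835) (.leaf 0))))) (.node (.node (.node (.node (.leaf 2611) (.leaf 31189)) (.node (.leaf 14524) (.leaf 0))) (.node (.node (.leaf 8234) (.leaf 0)) (.node (.leaf 21804) (.leaf 0)))) (.node (.node (.node (.leaf 5350) (.leaf 39902)) (.node (.leaf 18030) (.leaf 0))) (.node (.node (.leaf 11256) (.leaf 0)) (.node (.leaf 26077) (.leaf 0))))))))

def pT118 : NT := .node (.node (.node (.node (.node (.node (.node (.node (.leaf 148) (.leaf 26372)) (.node (.leaf 11448) (.leaf 0))) (.node (.node (.leaf 5534) (.leaf 0)) (.node (.leaf 18252) (.leaf 0)))) (.node (.node (.node (.leaf 2773) (.leaf 31572)) (.node (.leaf 14734) (.leaf 0))) (.node (.node (.leaf 8419) (.leaf 0)) (.node (.leaf 22041) (.leaf 0))))) (.node (.node (.node (.node (.leaf 1450) (.leaf 28830)) (.node (.leaf 13087) (.leaf 0))) (.node (.node (.leaf 6966) (.leaf 0)) (.node (.leaf 20086) (.leaf 0)))) (.node (.node (.node (.leaf 4148) (.leaf 35084)) (.node (.leaf 16458) (.leaf 0))) (.node (.node (.leaf 9926)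 (.leaf 0)) (.node (.leaf 24100) (.leaf 0)))))) (.node (.node (.node (.node (.node (.leaf 796) (.leaf 27576)) (.node (.leaf 12277) (.leaf 0))) (.node (.node (.leaf 6236) (.leaf 0)) (.node (.leaf 19164) (.leaf 0)))) (.node (.node (.node (.leaf 3454) (.leaf 33178)) (.node (.leaf 15605) (.leaf 0))) (.node (.node (.leaf 9180) (.leaf 0)) (.node (.leaf 23072) (.leaf 0))))) (.node (.node (.node (.node (.leaf 2118) (.leaf 30160)) (.node (.leaf 13914) (.leaf 0))) (.node (.node (.leaf 7677) (.leaf 0)) (.node (.leaf 21075) (.leaf 0)))) (.node (.node (.node (.leaf 4837) (.leaf 37318)) (.node (.leaf 17358) (.leaf 0))) (.node (.node (.leaf 10680) (.leaf 0)) (.node (.leaf 25219) (.leaf 0))))))) (.node (.node (.node (.node (.node (.node (.leaf 469) (.leaf 26987)) (.node (.leaf 11874) (.leaf 0))) (.node (.node (.leaf 5877) (.leaf 0)) (.node (.leaf 18734) (.leaf 0)))) (.node (.node (.node (.leaf 3105) (.leaf 32356)) (.node (.leaf 15192) (.leaf 0))) (.node (.node (.leaf 8794) (.leaf 0)) (.node (.leaf 22578) (.leaf 0)))))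 (.node (.node (.node (.node (.leaf 1784) (.leaf 29484)) (.node (.leaf 13496) (.leaf 0))) (.node (.node (.leaf 7323) (.leaf 0)) (.node (.leaf 20571) (.leaf 0)))) (.node (.node (.node (.leaf 4492) (.leaf 36134)) (.node (.leaf 16908) (.leaf 0))) (.node (.node (.leaf 10296) (.leaf 0)) (.node (.leaf 24660) (.leaf 0)))))) (.node (.node (.node (.node (.node (.leaf 1123) (.leaf 28166)) (.node (.leaf 12689) (.leaf 0))) (.node (.node (.leaf 6604) (.leaf 0)) (.node (.leaf 19612) (.leaf 0)))) (.node (.node (.node (.leaf 3795) (.leaf 34137)) (.node (.leaf 16035) (.leaf 0))) (.node (.node (.leaf 9564) (.leaf 0)) (.node (.leaf 23588) (.leaf 0))))) (.node (.node (.node (.node (.leaf 2449) (.leaf 30835)) (.node (.leaf 14313) (.leaf 0))) (.node (.node (.leaf 8044) (.leaf 0)) (.node (.leaf 21552) (.leaf 0)))) (.node (.node (.node (.leaf 5178) (.leaf 38734)) (.node (.leaf 17808) (.leaf 0))) (.node (.node (.leaf 11071) (.leaf 0)) (.node (.leaf 25784) (.leaf 0)))))))) (.node (.node (.node (.node (.node (.node (.node (.leaf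 308) (.leaf 26687)) (.node (.leaf 11656) (.leaf 0))) (.node (.node (.leaf 5708) (.leaf 0)) (.node (.leaf 18490) (.leaf 0)))) (.node (.node (.node (.leaf 2940) (.leaf 31991)) (.node (.leaf 14971) (.leaf 0))) (.node (.node (.leaf 8603) (.leaf 0)) (.node (.leaf 22313) (.leaf 0))))) (.node (.node (.node (.node (.leaf 1616) (.leaf 29156)) (.node (.leaf 13292) (.leaf 0))) (.node (.node (.leaf 7140) (.leaf 0)) (.node (.leaf 20323) (.leaf 0)))) (.node (.node (.node (.leaf 4319) (.leaf 35632)) (.node (.leaf 16672) (.leaf 0))) (.node (.node (.leaf 10104) (.leaf 0)) (.node (.leaf 24378) (.leaf 0)))))) (.node (.node (.node (.node (.node (.leaf 960) (.leaf 27845)) (.node (.leaf 12484) (.leaf 0))) (.node (.node (.leaf 6426) (.leaf 0)) (.node (.leaf 19380) (.leaf 0)))) (.node (.node (.node (.leaf 3626) (.leaf 33634)) (.node (.leaf 15814) (.leaf 0))) (.node (.node (.leaf 9381) (.leaf 0)) (.node (.leaf 23324) (.leaf 0))))) (.node (.node (.node (.node (.leaf 2286) (.leaf 30474)) (.node (.leaf 14118) (.leaf 0))) (.node (.node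 (.leaf 7863) (.leaf 0)) (.node (.leaf 21312) (.leaf 0)))) (.node (.node (.node (.leaf 5006) (.leaf 38012)) (.node (.leaf 17586) (.leaf 0))) (.node (.node (.leaf 10884) (.leaf 0)) (.node (.leaf 25469) (.leaf 0))))))) (.node (.node (.node (.node (.node (.node (.leaf 632) (.leaf 27291)) (.node (.leaf 12078) (.leaf 0))) (.node (.node (.leaf 6054) (.leaf 0)) (.node (.leaf 18960) (.leaf 0)))) (.node (.node (.node (.leaf 3274) (.leaf 32785)) (.node (.leaf 15398) (.leaf 0))) (.node (.node (.leaf 8982) (.leaf 0)) (.node (.leaf 22806) (.leaf 0))))) (.node (.node (.node (.node (.leaf 1951) (.leaf 29789)) (.node (.leaf 13703) (.leaf 0))) (.node (.node (.leaf 7499) (.leaf 0)) (.node (.leaf 20816) (.leaf 0)))) (.node (.node (.node (.leaf 4665) (.leaf 36782)) (.node (.leaf 17130) (.leaf 0))) (.node (.node (.leaf 10487) (.leaf 0)) (.node (.leaf 24922) (.leaf 0)))))) (.node (.node (.node (.node (.node (.leaf 1287) (.leaf 28476)) (.node (.leaf 12888) (.leaf 0))) (.node (.node (.leaf 6782) (.leaf 0)) (.node (.leaf 19847)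 (.leaf 0)))) (.node (.node (.node (.leaf 3966) (.leaf 34608)) (.node (.leaf 16260) (.leaf 0))) (.node (.node (.leaf 9741) (.leaf 0)) (.node (.leaf 23836) (.leaf 0))))) (.node (.node (.node (.node (.leaf 2612) (.leaf 31192)) (.node (.leaf 14526) (.leaf 0))) (.node (.node (.leaf 8236) (.leaf 0)) (.node (.leaf 21805) (.leaf 0)))) (.node (.node (.node (.leaf 5351) (.leaf 39920)) (.node (.leaf 18032) (.leaf 0))) (.node (.node (.leaf 11258) (.leaf 0)) (.node (.leaf 26078) (.leaf 0))))))))

def pT119 : NT := .node (.node (.node (.node (.node (.node (.node (.node (.leaf 150) (.leaf 26373)) (.node (.leaf 11450) (.leaf 0))) (.node (.node (.leaf 5535) (.leaf 0)) (.node (.leaf 18254) (.leaf 0)))) (.node (.node (.node (.leaf 2774) (.leaf 31581)) (.node (.leaf 14735) (.leaf 0))) (.node (.node (.leaf 8420) (.leaf 0)) (.node (.leaf 22046) (.leaf 0))))) (.node (.node (.node (.node (.leaf 1452) (.leaf 28831)) (.node (.leaf 13088) (.leaf 0))) (.node (.node (.leaf 6967) (.leaf 0)) (.node (.leaf 20087) (.leaf 0)))) (.node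 (.node (.node (.leaf 4150) (.leaf 35085)) (.node (.leaf 16459) (.leaf 0))) (.node (.node (.leaf 9927) (.leaf 0)) (.node (.leaf 24101) (.leaf 0)))))) (.node (.node (.node (.node (.node (.leaf 797) (.leaf 27578)) (.node (.leaf 12280) (.leaf 0))) (.node (.node (.leaf 6238) (.leaf 0)) (.node (.leaf 19165) (.leaf 0)))) (.node (.node (.node (.leaf 3455) (.leaf 33192)) (.node (.leaf 15606) (.leaf 0))) (.node (.node (.leaf 9181) (.leaf 0)) (.node (.leaf 23076) (.leaf 0))))) (.node (.node (.node (.node (.leaf 2119) (.leaf 30161)) (.node (.leaf 13916) (.leaf 0))) (.node (.node (.leaf 7678) (.leaf 0)) (.node (.leaf 21076) (.leaf 0)))) (.node (.node (.node (.leaf 4838) (.leaf 37320)) (.node (.leaf 17362) (.leaf 0))) (.node (.node (.leaf 10682) (.leaf 0)) (.node (.leaf 25220) (.leaf 0))))))) (.node (.node (.node (.node (.node (.node (.leaf 470) (.leaf 26988)) (.node (.leaf 11876) (.leaf 0))) (.node (.node (.leaf 5878) (.leaf 0)) (.node (.leaf 18736) (.leaf 0)))) (.node (.node (.node (.leaf 3106) (.leaf 32362)) (.node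 (.leaf 15193) (.leaf 0))) (.node (.node (.leaf 8796) (.leaf 0)) (.node (.leaf 22580) (.leaf 0))))) (.node (.node (.node (.node (.leaf 1785) (.leaf 29491)) (.node (.leaf 13505) (.leaf 0))) (.node (.node (.leaf 7324) (.leaf 0)) (.node (.leaf 20574) (.leaf 0)))) (.node (.node (.node (.leaf 4495) (.leaf 36136)) (.node (.leaf 16910) (.leaf 0))) (.node (.node (.leaf 10297) (.leaf 0)) (.node (.leaf 24661) (.leaf 0)))))) (.node (.node (.node (.node (.node (.leaf 1124) (.leaf 28169)) (.node (.leaf 12691) (.leaf 0))) (.node (.node (.leaf 6606) (.leaf 0)) (.node (.leaf 19614) (.leaf 0)))) (.node (.node (.node (.leaf 3796) (.leaf 34143)) (.node (.leaf 16038) (.leaf 0))) (.node (.node (.leaf 9567) (.leaf 0)) (.node (.leaf 23591) (.leaf 0))))) (.node (.node (.node (.node (.leaf 2450) (.leaf 30836)) (.node (.leaf 14314) (.leaf 0))) (.node (.node (.leaf 8045) (.leaf 0)) (.node (.leaf 21553) (.leaf 0)))) (.node (.node (.node (.leaf 5180) (.leaf 38736)) (.node (.leaf 17809) (.leaf 0))) (.node (.node (.leaf 11072) (.leaf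 0)) (.node (.leaf 25786) (.leaf 0)))))))) (.node (.node (.node (.node (.node (.node (.node (.leaf 310) (.leaf 26691)) (.node (.leaf 11659) (.leaf 0))) (.node (.node (.leaf 5710) (.leaf 0)) (.node (.leaf 18492) (.leaf 0)))) (.node (.node (.node (.leaf 2941) (.leaf 31994)) (.node (.leaf 14972) (.leaf 0))) (.node (.node (.leaf 8605) (.leaf 0)) (.node (.leaf 22318) (.leaf 0))))) (.node (.node (.node (.node (.leaf 1617) (.leaf 29158)) (.node (.leaf 13293) (.leaf 0))) (.node (.node (.leaf 7141) (.leaf 0)) (.node (.leaf 20327) (.leaf 0)))) (.node (.node (.node (.leaf 4320) (.leaf 35637)) (.node (.leaf 16674) (.leaf 0))) (.node (.node (.leaf 10105) (.leaf 0)) (.node (.leaf 24379) (.leaf 0)))))) (.node (.node (.node (.node (.node (.leaf 961) (.leaf 27846)) (.node (.leaf 12485) (.leaf 0))) (.node (.node (.leaf 6427) (.leaf 0)) (.node (.leaf 19381) (.leaf 0)))) (.node (.node (.node (.leaf 3628) (.leaf 33638)) (.node (.leaf 15816) (.leaf 0))) (.node (.node (.leaf 9382) (.leaf 0)) (.node (.leaf 23325) (.leaf 0)))))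 (.node (.node (.node (.node (.leaf 2287) (.leaf 30475)) (.node (.leaf 14122) (.leaf 0))) (.node (.node (.leaf 7864) (.leaf 0)) (.node (.leaf 21313) (.leaf 0)))) (.node (.node (.node (.leaf 5007) (.leaf 38013)) (.node (.leaf 17588) (.leaf 0))) (.node (.node (.leaf 10886) (.leaf 0)) (.node (.leaf 25470) (.leaf 0))))))) (.node (.node (.node (.node (.node (.node (.leaf 633) (.leaf 27294)) (.node (.leaf 12081) (.leaf 0))) (.node (.node (.leaf 6055) (.leaf 0)) (.node (.leaf 18961) (.leaf 0)))) (.node (.node (.node (.leaf 3275) (.leaf 32787)) (.node (.leaf 15399) (.leaf 0))) (.node (.node (.leaf 8985) (.leaf 0)) (.node (.leaf 22810) (.leaf 0))))) (.node (.node (.node (.node (.leaf 1952) (.leaf 29794)) (.node (.leaf 13704) (.leaf 0))) (.node (.node (.leaf 7500) (.leaf 0)) (.node (.leaf 20818) (.leaf 0)))) (.node (.node (.node (.leaf 4666) (.leaf 36783)) (.node (.leaf 17131) (.leaf 0))) (.node (.node (.leaf 10488) (.leaf 0)) (.node (.leaf 24924) (.leaf 0)))))) (.node (.node (.node (.node (.node (.leaf 1288) (.leaf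 28479)) (.node (.leaf 12889) (.leaf 0))) (.node (.node (.leaf 6784) (.leaf 0)) (.node (.leaf 19848) (.leaf 0)))) (.node (.node (.node (.leaf 3967) (.leaf 34613)) (.node (.leaf 16261) (.leaf 0))) (.node (.node (.leaf 9742) (.leaf 0)) (.node (.leaf 23838) (.leaf 0))))) (.node (.node (.node (.node (.leaf 2614) (.leaf 31197)) (.node (.leaf 14527) (.leaf 0))) (.node (.node (.leaf 8237) (.leaf 0)) (.node (.leaf 21807) (.leaf 0)))) (.node (.node (.node (.leaf 5352) (.leaf 39931)) (.node (.leaf 18034) (.leaf 0))) (.node (.node (.leaf 11259) (.leaf 0)) (.node (.leaf 26082) (.leaf 0))))))))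

def pT120 : NT := .node (.node (.node (.node (.node (.node (.node (.node (.leaf 151) (.leaf 26376)) (.node (.leaf 11452) (.leaf 0))) (.node (.node (.leaf 5536) (.leaf 0)) (.node (.leaf 18256) (.leaf 0)))) (.node (.node (.node (.leaf 2775) (.leaf 31582)) (.node (.leaf 14736) (.leaf 0))) (.node (.node (.leaf 8421) (.leaf 0)) (.node (.leaf 22048) (.leaf 0))))) (.node (.node (.node (.node (.leaf 1453) (.leaf 28834)) (.node (.leaf 13090) (.leaf 0))) (.node (.node (.leaf 6968) (.leaf 0)) (.node (.leaf 20088) (.leaf 0)))) (.node (.node (.node (.leaf 4151) (.leaf 35088)) (.node (.leaf 16460) (.leaf 0))) (.node (.node (.leaf 9928) (.leaf 0)) (.node (.leaf 24104) (.leaf 0)))))) (.node (.node (.node (.node (.node (.leaf 798) (.leaf 27584)) (.node (.leaf 12281) (.leaf 0))) (.node (.node (.leaf 6239) (.leaf 0)) (.node (.leaf 19166) (.leaf 0)))) (.node (.node (.node (.leaf 3456) (.leaf 33204)) (.node (.leaf 15608) (.leaf 0))) (.node (.node (.leaf 9182) (.leaf 0)) (.node (.leaf 23078) (.leaf 0))))) (.node (.node (.node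 (.node (.leaf 2121) (.leaf 30168)) (.node (.leaf 13917) (.leaf 0))) (.node (.node (.leaf 7681) (.leaf 0)) (.node (.leaf 21079) (.leaf 0)))) (.node (.node (.node (.leaf 4839) (.leaf 37321)) (.node (.leaf 17364) (.leaf 0))) (.node (.node (.leaf 10683) (.leaf 0)) (.node (.leaf 25223) (.leaf 0))))))) (.node (.node (.node (.node (.node (.node (.leaf 471) (.leaf 26990)) (.node (.leaf 11878) (.leaf 0))) (.node (.node (.leaf 5881) (.leaf 0)) (.node (.leaf 18739) (.leaf 0)))) (.node (.node (.node (.leaf 3108) (.leaf 32368)) (.node (.leaf 15194) (.leaf 0))) (.node (.node (.leaf 8798) (.leaf 0)) (.node (.leaf 22581) (.leaf 0))))) (.node (.node (.node (.node (.leaf 1786) (.leaf 29492)) (.node (.leaf 13506) (.leaf 0))) (.node (.node (.leaf 7325) (.leaf 0)) (.node (.leaf 20580) (.leaf 0)))) (.node (.node (.node (.leaf 4496) (.leaf 36141)) (.node (.leaf 16911) (.leaf 0))) (.node (.node (.leaf 10298) (.leaf 0)) (.node (.leaf 24663) (.leaf 0)))))) (.node (.node (.node (.node (.node (.leaf 1126) (.leaf 28174)) (.node (.leaf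 12694) (.leaf 0))) (.node (.node (.leaf 6607) (.leaf 0)) (.node (.leaf 19617) (.leaf 0)))) (.node (.node (.node (.leaf 3798) (.leaf 34148)) (.node (.leaf 16040) (.leaf 0))) (.node (.node (.leaf 9568) (.leaf 0)) (.node (.leaf 23595) (.leaf 0))))) (.node (.node (.node (.node (.leaf 2452) (.leaf 30838)) (.node (.leaf 14315) (.leaf 0))) (.node (.node (.leaf 8046) (.leaf 0)) (.node (.leaf 21554) (.leaf 0)))) (.node (.node (.node (.leaf 5181) (.leaf 38746)) (.node (.leaf 17810) (.leaf 0))) (.node (.node (.leaf 11074) (.leaf 0)) (.node (.leaf 25787) (.leaf 0)))))))) (.node (.node (.node (.node (.node (.node (.node (.leaf 311) (.leaf 26692)) (.node (.leaf 11661) (.leaf 0))) (.node (.node (.leaf 5712) (.leaf 0)) (.node (.leaf 18494) (.leaf 0)))) (.node (.node (.node (.leaf 2942) (.leaf 31995)) (.node (.leaf 14975) (.leaf 0))) (.node (.node (.leaf 8606) (.leaf 0)) (.node (.leaf 22320) (.leaf 0))))) (.node (.node (.node (.node (.leaf 1618) (.leaf 29164)) (.node (.leaf 13297) (.leaf 0))) (.node (.node (.leaf 7142)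 (.leaf 0)) (.node (.leaf 20328) (.leaf 0)))) (.node (.node (.node (.leaf 4322) (.leaf 35638)) (.node (.leaf 16678) (.leaf 0))) (.node (.node (.leaf 10106) (.leaf 0)) (.node (.leaf 24381) (.leaf 0)))))) (.node (.node (.node (.node (.node (.leaf 962) (.leaf 27850)) (.node (.leaf 12487) (.leaf 0))) (.node (.node (.leaf 6428) (.leaf 0)) (.node (.leaf 19384) (.leaf 0)))) (.node (.node (.node (.leaf 3629) (.leaf 33645)) (.node (.leaf 15818) (.leaf 0))) (.node (.node (.leaf 9384) (.leaf 0)) (.node (.leaf 23326) (.leaf 0))))) (.node (.node (.node (.node (.leaf 2288) (.leaf 30478)) (.node (.leaf 14124) (.leaf 0))) (.node (.node (.leaf 7867) (.leaf 0)) (.node (.leaf 21314) (.leaf 0)))) (.node (.node (.node (.leaf 5008) (.leaf 38020)) (.node (.leaf 17589) (.leaf 0))) (.node (.node (.leaf 10887) (.leaf 0)) (.node (.leaf 25472) (.leaf 0))))))) (.node (.node (.node (.node (.node (.node (.leaf 634) (.leaf 27297)) (.node (.leaf 12082) (.leaf 0))) (.node (.node (.leaf 6056) (.leaf 0)) (.node (.leaf 18965) (.leaf 0))))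 (.node (.node (.node (.leaf 3276) (.leaf 32788)) (.node (.leaf 15400) (.leaf 0))) (.node (.node (.leaf 8986) (.leaf 0)) (.node (.leaf 22812) (.leaf 0))))) (.node (.node (.node (.node (.leaf 1953) (.leaf 29796)) (.node (.leaf 13705) (.leaf 0))) (.node (.node (.leaf 7502) (.leaf 0)) (.node (.leaf 20820) (.leaf 0)))) (.node (.node (.node (.leaf 4668) (.leaf 36792)) (.node (.leaf 17132) (.leaf 0))) (.node (.node (.leaf 10489) (.leaf 0)) (.node (.leaf 24925) (.leaf 0)))))) (.node (.node (.node (.node (.node (.leaf 1291) (.leaf 28482)) (.node (.leaf 12890) (.leaf 0))) (.node (.node (.leaf 6787) (.leaf 0)) (.node (.leaf 19850) (.leaf 0)))) (.node (.node (.node (.leaf 3968) (.leaf 34617)) (.node (.leaf 16262) (.leaf 0))) (.node (.node (.leaf 9743) (.leaf 0)) (.node (.leaf 23839) (.leaf 0))))) (.node (.node (.node (.node (.leaf 2615) (.leaf 31203)) (.node (.leaf 14528) (.leaf 0))) (.node (.node (.leaf 8240) (.leaf 0)) (.node (.leaf 21808) (.leaf 0)))) (.node (.node (.node (.leaf 5353) (.leaf 39937)) (.node (.leaf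 18035) (.leaf 0))) (.node (.node (.leaf 11260) (.leaf 0)) (.node (.leaf 26084) (.leaf 0))))))))

def pT121 : NT := .node (.node (.node (.node (.node (.node (.node (.node (.leaf 152) (.leaf 26380)) (.node (.leaf 11455) (.leaf 0))) (.node (.node (.leaf 5538) (.leaf 0)) (.node (.leaf 18259) (.leaf 0)))) (.node (.node (.node (.leaf 2776) (.leaf 31583)) (.node (.leaf 14737) (.leaf 0))) (.node (.node (.leaf 8422) (.leaf 0)) (.node (.leaf 22049) (.leaf 0))))) (.node (.node (.node (.node (.leaf 1454) (.leaf 28838)) (.node (.leaf 13092) (.leaf 0))) (.node (.node (.leaf 6970) (.leaf 0)) (.node (.leaf 20090) (.leaf 0)))) (.node (.node (.node (.leaf 4152) (.leaf 35102)) (.node (.leaf 16462) (.leaf 0))) (.node (.node (.leaf 9930) (.leaf 0)) (.node (.leaf 24110) (.leaf 0)))))) (.node (.node (.node (.node (.node (.leaf 800) (.leaf 27585)) (.node (.leaf 12282) (.leaf 0))) (.node (.node (.leaf 6240) (.leaf 0)) (.node (.leaf 19168) (.leaf 0)))) (.node (.node (.node (.leaf 3459) (.leaf 33206)) (.node (.leaf 15609) (.leaf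 0))) (.node (.node (.leaf 9184) (.leaf 0)) (.node (.leaf 23080) (.leaf 0))))) (.node (.node (.node (.node (.leaf 2123) (.leaf 30169)) (.node (.leaf 13918) (.leaf 0))) (.node (.node (.leaf 7682) (.leaf 0)) (.node (.leaf 21080) (.leaf 0)))) (.node (.node (.node (.leaf 4840) (.leaf 37322)) (.node (.leaf 17366) (.leaf 0))) (.node (.node (.leaf 10684) (.leaf 0)) (.node (.leaf 25224) (.leaf 0))))))) (.node (.node (.node (.node (.node (.node (.leaf 472) (.leaf 26991)) (.node (.leaf 11879) (.leaf 0))) (.node (.node (.leaf 5882) (.leaf 0)) (.node (.leaf 18740) (.leaf 0)))) (.node (.node (.node (.leaf 3109) (.leaf 32372)) (.node (.leaf 15195) (.leaf 0))) (.node (.node (.leaf 8799) (.leaf 0)) (.node (.leaf 22582) (.leaf 0))))) (.node (.node (.node (.node (.leaf 1787) (.leaf 29493)) (.node (.leaf 13508) (.leaf 0))) (.node (.node (.leaf 7326) (.leaf 0)) (.node (.leaf 20581) (.leaf 0)))) (.node (.node (.node (.leaf 4498) (.leaf 36148)) (.node (.leaf 16912) (.leaf 0))) (.node (.node (.leaf 10299) (.leaf 0)) (.node (.leaf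 24668) (.leaf 0)))))) (.node (.node (.node (.node (.node (.leaf 1127) (.leaf 28176)) (.node (.leaf 12695) (.leaf 0))) (.node (.node (.leaf 6608) (.leaf 0)) (.node (.leaf 19619) (.leaf 0)))) (.node (.node (.node (.leaf 3799) (.leaf 34150)) (.node (.leaf 16042) (.leaf 0))) (.node (.node (.leaf 9569) (.leaf 0)) (.node (.leaf 23599) (.leaf 0))))) (.node (.node (.node (.node (.leaf 2453) (.leaf 30842)) (.node (.leaf 14316) (.leaf 0))) (.node (.node (.leaf 8048) (.leaf 0)) (.node (.leaf 21557) (.leaf 0)))) (.node (.node (.node (.leaf 5182) (.leaf 38749)) (.node (.leaf 17812) (.leaf 0))) (.node (.node (.leaf 11075) (.leaf 0)) (.node (.leaf 25788) (.leaf 0)))))))) (.node (.node (.node (.node (.node (.node (.node (.leaf 312) (.leaf 26696)) (.node (.leaf 11665) (.leaf 0))) (.node (.node (.leaf 5713) (.leaf 0)) (.node (.leaf 18495) (.leaf 0)))) (.node (.node (.node (.leaf 2944) (.leaf 31996)) (.node (.leaf 14976) (.leaf 0))) (.node (.node (.leaf 8609) (.leaf 0)) (.node (.leaf 22321) (.leaf 0))))) (.node (.node (.node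 (.node (.leaf 1619) (.leaf 29167)) (.node (.leaf 13299) (.leaf 0))) (.node (.node (.leaf 7144) (.leaf 0)) (.node (.leaf 20330) (.leaf 0)))) (.node (.node (.node (.leaf 4323) (.leaf 35639)) (.node (.leaf 16681) (.leaf 0))) (.node (.node (.leaf 10108) (.leaf 0)) (.node (.leaf 24383) (.leaf 0)))))) (.node (.node (.node (.node (.node (.leaf 964) (.leaf 27853)) (.node (.leaf 12488) (.leaf 0))) (.node (.node (.leaf 6430) (.leaf 0)) (.node (.leaf 19386) (.leaf 0)))) (.node (.node (.node (.leaf 3630) (.leaf 33646)) (.node (.leaf 15819) (.leaf 0))) (.node (.node (.leaf 9385) (.leaf 0)) (.node (.leaf 23329) (.leaf 0))))) (.node (.node (.node (.node (.leaf 2290) (.leaf 30480)) (.node (.leaf 14126) (.leaf 0))) (.node (.node (.leaf 7868) (.leaf 0)) (.node (.leaf 21315) (.leaf 0)))) (.node (.node (.node (.leaf 5010) (.leaf 38028)) (.node (.leaf 17590) (.leaf 0))) (.node (.node (.leaf 10888) (.leaf 0)) (.node (.leaf 25474) (.leaf 0))))))) (.node (.node (.node (.node (.node (.node (.leaf 636) (.leaf 27298)) (.node (.leaf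 12083) (.leaf 0))) (.node (.node (.leaf 6057) (.leaf 0)) (.node (.leaf 18966) (.leaf 0)))) (.node (.node (.node (.leaf 3277) (.leaf 32790)) (.node (.leaf 15402) (.leaf 0))) (.node (.node (.leaf 8988) (.leaf 0)) (.node (.leaf 22813) (.leaf 0))))) (.node (.node (.node (.node (.leaf 1954) (.leaf 29797)) (.node (.leaf 13706) (.leaf 0))) (.node (.node (.leaf 7503) (.leaf 0)) (.node (.leaf 20821) (.leaf 0)))) (.node (.node (.node (.leaf 4670) (.leaf 36799)) (.node (.leaf 17135) (.leaf 0))) (.node (.node (.leaf 10490) (.leaf 0)) (.node (.leaf 24926) (.leaf 0)))))) (.node (.node (.node (.node (.node (.leaf 1292) (.leaf 28484)) (.node (.leaf 12891) (.leaf 0))) (.node (.node (.leaf 6788) (.leaf 0)) (.node (.leaf 19852) (.leaf 0)))) (.node (.node (.node (.leaf 3970) (.leaf 34623)) (.node (.leaf 16263) (.leaf 0))) (.node (.node (.leaf 9744) (.leaf 0)) (.node (.leaf 23845) (.leaf 0))))) (.node (.node (.node (.node (.leaf 2616) (.leaf 31204)) (.node (.leaf 14529) (.leaf 0))) (.node (.node (.leaf 8241) (.leaf 0)) (.node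 (.leaf 21809) (.leaf 0)))) (.node (.node (.node (.leaf 5354) (.leaf 39958)) (.node (.leaf 18036) (.leaf 0))) (.node (.node (.leaf 11262) (.leaf 0)) (.node (.leaf 26086) (.leaf 0))))))))

def pT122 : NT := .node (.node (.node (.node (.node (.node (.node (.node (.leaf 153) (.leaf 26382)) (.node (.leaf 11456) (.leaf 0))) (.node (.node (.leaf 5539) (.leaf 0)) (.node (.leaf 18262) (.leaf 0)))) (.node (.node (.node (.leaf 2778) (.leaf 31586)) (.node (.leaf 14741) (.leaf 0))) (.node (.node (.leaf 8423) (.leaf 0)) (.node (.leaf 22050) (.leaf 0))))) (.node (.node (.node (.node (.leaf 1456) (.leaf 28839)) (.node (.leaf 13095) (.leaf 0))) (.node (.node (.leaf 6971) (.leaf 0)) (.node (.leaf 20091) (.leaf 0)))) (.node (.node (.node (.leaf 4154) (.leaf 35104)) (.node (.leaf 16463) (.leaf 0))) (.node (.node (.leaf 9931) (.leaf 0)) (.node (.leaf 24111) (.leaf 0)))))) (.node (.node (.node (.node (.node (.leaf 801) (.leaf 27586)) (.node (.leaf 12284) (.leaf 0))) (.node (.node (.leaf 6242) (.leaf 0)) (.node (.leaf 19171)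 (.leaf 0)))) (.node (.node (.node (.leaf 3460) (.leaf 33208)) (.node (.leaf 15610) (.leaf 0))) (.node (.node (.leaf 9185) (.leaf 0)) (.node (.leaf 23082) (.leaf 0))))) (.node (.node (.node (.node (.leaf 2124) (.leaf 30170)) (.node (.leaf 13920) (.leaf 0))) (.node (.node (.leaf 7683) (.leaf 0)) (.node (.leaf 21082) (.leaf 0)))) (.node (.node (.node (.leaf 4843) (.leaf 37325)) (.node (.leaf 17368) (.leaf 0))) (.node (.node (.leaf 10686) (.leaf 0)) (.node (.leaf 25225) (.leaf 0))))))) (.node (.node (.node (.node (.node (.node (.leaf 474) (.leaf 26992)) (.node (.leaf 11880) (.leaf 0))) (.node (.node (.leaf 5883) (.leaf 0)) (.node (.leaf 18744) (.leaf 0)))) (.node (.node (.node (.leaf 3110) (.leaf 32375)) (.node (.leaf 15196) (.leaf 0))) (.node (.node (.leaf 8800) (.leaf 0)) (.node (.leaf 22583) (.leaf 0))))) (.node (.node (.node (.node (.leaf 1788) (.leaf 29494)) (.node (.leaf 13512) (.leaf 0))) (.node (.node (.leaf 7328) (.leaf 0)) (.node (.leaf 20582) (.leaf 0)))) (.node (.node (.node (.leaf 4499) (.leaf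 36154)) (.node (.leaf 16914) (.leaf 0))) (.node (.node (.leaf 10300) (.leaf 0)) (.node (.leaf 24673) (.leaf 0)))))) (.node (.node (.node (.node (.node (.leaf 1128) (.leaf 28178)) (.node (.leaf 12696) (.leaf 0))) (.node (.node (.leaf 6609) (.leaf 0)) (.node (.leaf 19620) (.leaf 0)))) (.node (.node (.node (.leaf 3800) (.leaf 34151)) (.node (.leaf 16044) (.leaf 0))) (.node (.node (.leaf 9570) (.leaf 0)) (.node (.leaf 23602) (.leaf 0))))) (.node (.node (.node (.node (.leaf 2454) (.leaf 30852)) (.node (.leaf 14318) (.leaf 0))) (.node (.node (.leaf 8049) (.leaf 0)) (.node (.leaf 21562) (.leaf 0)))) (.node (.node (.node (.leaf 5184) (.leaf 38750)) (.node (.leaf 17813) (.leaf 0))) (.node (.node (.leaf 11076) (.leaf 0)) (.node (.leaf 25790) (.leaf 0)))))))) (.node (.node (.node (.node (.node (.node (.node (.leaf 314) (.leaf 26697)) (.node (.leaf 11666) (.leaf 0))) (.node (.node (.leaf 5714) (.leaf 0)) (.node (.leaf 18497) (.leaf 0)))) (.node (.node (.node (.leaf 2945) (.leaf 32002)) (.node (.leaf 14978) (.leaf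 0))) (.node (.node (.leaf 8610) (.leaf 0)) (.node (.leaf 22322) (.leaf 0))))) (.node (.node (.node (.node (.leaf 1620) (.leaf 29168)) (.node (.leaf 13300) (.leaf 0))) (.node (.node (.leaf 7145) (.leaf 0)) (.node (.leaf 20332) (.leaf 0)))) (.node (.node (.node (.leaf 4324) (.leaf 35640)) (.node (.leaf 16682) (.leaf 0))) (.node (.node (.leaf 10109) (.leaf 0)) (.node (.leaf 24385) (.leaf 0)))))) (.node (.node (.node (.node (.node (.leaf 965) (.leaf 27854)) (.node (.leaf 12490) (.leaf 0))) (.node (.node (.leaf 6432) (.leaf 0)) (.node (.leaf 19388) (.leaf 0)))) (.node (.node (.node (.leaf 3632) (.leaf 33652)) (.node (.leaf 15820) (.leaf 0))) (.node (.node (.leaf 9386) (.leaf 0)) (.node (.leaf 23332) (.leaf 0))))) (.node (.node (.node (.node (.leaf 2291) (.leaf 30482)) (.node (.leaf 14128) (.leaf 0))) (.node (.node (.leaf 7869) (.leaf 0)) (.node (.leaf 21316) (.leaf 0)))) (.node (.node (.node (.leaf 5011) (.leaf 38033)) (.node (.leaf 17592) (.leaf 0))) (.node (.node (.leaf 10889) (.leaf 0)) (.node (.leaf 25476)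 (.leaf 0))))))) (.node (.node (.node (.node (.node (.node (.leaf 637) (.leaf 27300)) (.node (.leaf 12086) (.leaf 0))) (.node (.node (.leaf 6058) (.leaf 0)) (.node (.leaf 18967) (.leaf 0)))) (.node (.node (.node (.leaf 3278) (.leaf 32794)) (.node (.leaf 15403) (.leaf 0))) (.node (.node (.leaf 8990) (.leaf 0)) (.node (.leaf 22816) (.leaf 0))))) (.node (.node (.node (.node (.leaf 1956) (.leaf 29798)) (.node (.leaf 13708) (.leaf 0))) (.node (.node (.leaf 7505) (.leaf 0)) (.node (.leaf 20824) (.leaf 0)))) (.node (.node (.node (.leaf 4671) (.leaf 36812)) (.node (.leaf 17136) (.leaf 0))) (.node (.node (.leaf 10492) (.leaf 0)) (.node (.leaf 24928) (.leaf 0)))))) (.node (.node (.node (.node (.node (.leaf 1293) (.leaf 28486)) (.node (.leaf 12892) (.leaf 0))) (.node (.node (.leaf 6790) (.leaf 0)) (.node (.leaf 19854) (.leaf 0)))) (.node (.node (.node (.leaf 3971) (.leaf 34630)) (.node (.leaf 16266) (.leaf 0))) (.node (.node (.leaf 9746) (.leaf 0)) (.node (.leaf 23846) (.leaf 0))))) (.node (.node (.node (.node (.leaf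 2617) (.leaf 31207)) (.node (.leaf 14532) (.leaf 0))) (.node (.node (.leaf 8242) (.leaf 0)) (.node (.leaf 21814) (.leaf 0)))) (.node (.node (.node (.leaf 5356) (.leaf 39973)) (.node (.leaf 18038) (.leaf 0))) (.node (.node (.leaf 11269) (.leaf 0)) (.node (.leaf 26088) (.leaf 0))))))))

def pT123 : NT := .node (.node (.node (.node (.node (.node (.node (.node (.leaf 154) (.leaf 26384)) (.node (.leaf 11458) (.leaf 0))) (.node (.node (.leaf 5540) (.leaf 0)) (.node (.leaf 18263) (.leaf 0)))) (.node (.node (.node (.leaf 2779) (.leaf 31589)) (.node (.leaf 14742) (.leaf 0))) (.node (.node (.leaf 8425) (.leaf 0)) (.node (.leaf 22051) (.leaf 0))))) (.node (.node (.node (.node (.leaf 1457) (.leaf 28841)) (.node (.leaf 13098) (.leaf 0))) (.node (.node (.leaf 6972) (.leaf 0)) (.node (.leaf 20092) (.leaf 0)))) (.node (.node (.node (.leaf 4155) (.leaf 35105)) (.node (.leaf 16464) (.leaf 0))) (.node (.node (.leaf 9932) (.leaf 0)) (.node (.leaf 24112) (.leaf 0)))))) (.node (.node (.node (.node (.node (.leaf 802) (.leaf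 27587)) (.node (.leaf 12286) (.leaf 0))) (.node (.node (.leaf 6243) (.leaf 0)) (.node (.leaf 19172) (.leaf 0)))) (.node (.node (.node (.leaf 3462) (.leaf 33211)) (.node (.leaf 15612) (.leaf 0))) (.node (.node (.leaf 9189) (.leaf 0)) (.node (.leaf 23084) (.leaf 0))))) (.node (.node (.node (.node (.leaf 2125) (.leaf 30172)) (.node (.leaf 13921) (.leaf 0))) (.node (.node (.leaf 7686) (.leaf 0)) (.node (.leaf 21083) (.leaf 0)))) (.node (.node (.node (.leaf 4844) (.leaf 37328)) (.node (.leaf 17369) (.leaf 0))) (.node (.node (.leaf 10687) (.leaf 0)) (.node (.leaf 25226) (.leaf 0))))))) (.node (.node (.node (.node (.node (.node (.leaf 475) (.leaf 26994)) (.node (.leaf 11881) (.leaf 0))) (.node (.node (.leaf 5884) (.leaf 0)) (.node (.leaf 18747) (.leaf 0)))) (.node (.node (.node (.leaf 3111) (.leaf 32378)) (.node (.leaf 15197) (.leaf 0))) (.node (.node (.leaf 8802) (.leaf 0)) (.node (.leaf 22586) (.leaf 0))))) (.node (.node (.node (.node (.leaf 1790) (.leaf 29496)) (.node (.leaf 13513) (.leaf 0))) (.node (.node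 (.leaf 7329) (.leaf 0)) (.node (.leaf 20587) (.leaf 0)))) (.node (.node (.node (.leaf 4500) (.leaf 36156)) (.node (.leaf 16915) (.leaf 0))) (.node (.node (.leaf 10302) (.leaf 0)) (.node (.leaf 24674) (.leaf 0)))))) (.node (.node (.node (.node (.node (.leaf 1129) (.leaf 28179)) (.node (.leaf 12697) (.leaf 0))) (.node (.node (.leaf 6610) (.leaf 0)) (.node (.leaf 19622) (.leaf 0)))) (.node (.node (.node (.leaf 3801) (.leaf 34152)) (.node (.leaf 16046) (.leaf 0))) (.node (.node (.leaf 9572) (.leaf 0)) (.node (.leaf 23604) (.leaf 0))))) (.node (.node (.node (.node (.leaf 2455) (.leaf 30853)) (.node (.leaf 14319) (.leaf 0))) (.node (.node (.leaf 8050) (.leaf 0)) (.node (.leaf 21564) (.leaf 0)))) (.node (.node (.node (.leaf 5185) (.leaf 38753)) (.node (.leaf 17814) (.leaf 0))) (.node (.node (.leaf 11078) (.leaf 0)) (.node (.leaf 25791) (.leaf 0)))))))) (.node (.node (.node (.node (.node (.node (.node (.leaf 315) (.leaf 26699)) (.node (.leaf 11668) (.leaf 0))) (.node (.node (.leaf 5716) (.leaf 0)) (.node (.leaf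 18498) (.leaf 0)))) (.node (.node (.node (.leaf 2946) (.leaf 32004)) (.node (.leaf 14979) (.leaf 0))) (.node (.node (.leaf 8612) (.leaf 0)) (.node (.leaf 22326) (.leaf 0))))) (.node (.node (.node (.node (.leaf 1622) (.leaf 29169)) (.node (.leaf 13302) (.leaf 0))) (.node (.node (.leaf 7146) (.leaf 0)) (.node (.leaf 20333) (.leaf 0)))) (.node (.node (.node (.leaf 4325) (.leaf 35648)) (.node (.leaf 16684) (.leaf 0))) (.node (.node (.leaf 10110) (.leaf 0)) (.node (.leaf 24386) (.leaf 0)))))) (.node (.node (.node (.node (.node (.leaf 966) (.leaf 27856)) (.node (.leaf 12491) (.leaf 0))) (.node (.node (.leaf 6434) (.leaf 0)) (.node (.leaf 19391) (.leaf 0)))) (.node (.node (.node (.leaf 3633) (.leaf 33656)) (.node (.leaf 15822) (.leaf 0))) (.node (.node (.leaf 9387) (.leaf 0)) (.node (.leaf 23333) (.leaf 0))))) (.node (.node (.node (.node (.leaf 2292) (.leaf 30490)) (.node (.leaf 14129) (.leaf 0))) (.node (.node (.leaf 7870) (.leaf 0)) (.node (.leaf 21319) (.leaf 0)))) (.node (.node (.node (.leaf 5012) (.leaf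 38034)) (.node (.leaf 17593) (.leaf 0))) (.node (.node (.leaf 10890) (.leaf 0)) (.node (.leaf 25477) (.leaf 0))))))) (.node (.node (.node (.node (.node (.node (.leaf 638) (.leaf 27302)) (.node (.leaf 12087) (.leaf 0))) (.node (.node (.leaf 6060) (.leaf 0)) (.node (.leaf 18968) (.leaf 0)))) (.node (.node (.node (.leaf 3280) (.leaf 32800)) (.node (.leaf 15405) (.leaf 0))) (.node (.node (.leaf 8991) (.leaf 0)) (.node (.leaf 22817) (.leaf 0))))) (.node (.node (.node (.node (.leaf 1957) (.leaf 29805)) (.node (.leaf 13710) (.leaf 0))) (.node (.node (.leaf 7506) (.leaf 0)) (.node (.leaf 20826) (.leaf 0)))) (.node (.node (.node (.leaf 4672) (.leaf 36816)) (.node (.leaf 17137) (.leaf 0))) (.node (.node (.leaf 10493) (.leaf 0)) (.node (.leaf 24932) (.leaf 0)))))) (.node (.node (.node (.node (.node (.leaf 1294) (.leaf 28489)) (.node (.leaf 12895) (.leaf 0))) (.node (.node (.leaf 6791) (.leaf 0)) (.node (.leaf 19855) (.leaf 0)))) (.node (.node (.node (.leaf 3973) (.leaf 34631)) (.node (.leaf 16267) (.leaf 0))) (.node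 (.node (.leaf 9747) (.leaf 0)) (.node (.leaf 23852) (.leaf 0))))) (.node (.node (.node (.node (.leaf 2618) (.leaf 31211)) (.node (.leaf 14533) (.leaf 0))) (.node (.node (.leaf 8243) (.leaf 0)) (.node (.leaf 21816) (.leaf 0)))) (.node (.node (.node (.leaf 5357) (.leaf 39980)) (.node (.leaf 18039) (.leaf 0))) (.node (.node (.leaf 11270) (.leaf 0)) (.node (.leaf 26092) (.leaf 0))))))))

def pT124 : NT := .node (.node (.node (.node (.node (.node (.node (.node (.leaf 156) (.leaf 26385)) (.node (.leaf 11459) (.leaf 0))) (.node (.node (.leaf 5541) (.leaf 0)) (.node (.leaf 18264) (.leaf 0)))) (.node (.node (.node (.leaf 2780) (.leaf 31595)) (.node (.leaf 14744) (.leaf 0))) (.node (.node (.leaf 8428) (.leaf 0)) (.node (.leaf 22052) (.leaf 0))))) (.node (.node (.node (.node (.leaf 1458) (.leaf 28842)) (.node (.leaf 13100) (.leaf 0))) (.node (.node (.leaf 6974) (.leaf 0)) (.node (.leaf 20094) (.leaf 0)))) (.node (.node (.node (.leaf 4156) (.leaf 35108)) (.node (.leaf 16468) (.leaf 0))) (.node (.node (.leaf 9934)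 (.leaf 0)) (.node (.leaf 24116) (.leaf 0)))))) (.node (.node (.node (.node (.node (.leaf 803) (.leaf 27589)) (.node (.leaf 12287) (.leaf 0))) (.node (.node (.leaf 6244) (.leaf 0)) (.node (.leaf 19174) (.leaf 0)))) (.node (.node (.node (.leaf 3463) (.leaf 33216)) (.node (.leaf 15614) (.leaf 0))) (.node (.node (.leaf 9190) (.leaf 0)) (.node (.leaf 23085) (.leaf 0))))) (.node (.node (.node (.node (.leaf 2126) (.leaf 30175)) (.node (.leaf 13922) (.leaf 0))) (.node (.node (.leaf 7688) (.leaf 0)) (.node (.leaf 21086) (.leaf 0)))) (.node (.node (.node (.leaf 4846) (.leaf 37343)) (.node (.leaf 17371) (.leaf 0))) (.node (.node (.leaf 10688) (.leaf 0)) (.node (.leaf 25227) (.leaf 0))))))) (.node (.node (.node (.node (.node (.node (.leaf 476) (.leaf 26996)) (.node (.leaf 11882) (.leaf 0))) (.node (.node (.leaf 5886) (.leaf 0)) (.node (.leaf 18748) (.leaf 0)))) (.node (.node (.node (.leaf 3112) (.leaf 32380)) (.node (.leaf 15198) (.leaf 0))) (.node (.node (.leaf 8803) (.leaf 0)) (.node (.leaf 22587) (.leaf 0)))))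 (.node (.node (.node (.node (.leaf 1791) (.leaf 29498)) (.node (.leaf 13515) (.leaf 0))) (.node (.node (.leaf 7330) (.leaf 0)) (.node (.leaf 20589) (.leaf 0)))) (.node (.node (.node (.leaf 4501) (.leaf 36159)) (.node (.leaf 16917) (.leaf 0))) (.node (.node (.leaf 10303) (.leaf 0)) (.node (.leaf 24678) (.leaf 0)))))) (.node (.node (.node (.node (.node (.leaf 1130) (.leaf 28181)) (.node (.leaf 12698) (.leaf 0))) (.node (.node (.leaf 6612) (.leaf 0)) (.node (.leaf 19623) (.leaf 0)))) (.node (.node (.node (.leaf 3802) (.leaf 34156)) (.node (.leaf 16047) (.leaf 0))) (.node (.node (.leaf 9573) (.leaf 0)) (.node (.leaf 23605) (.leaf 0))))) (.node (.node (.node (.node (.leaf 2456) (.leaf 30866)) (.node (.leaf 14320) (.leaf 0))) (.node (.node (.leaf 8052) (.leaf 0)) (.node (.leaf 21570) (.leaf 0)))) (.node (.node (.node (.leaf 5186) (.leaf 38756)) (.node (.leaf 17817) (.leaf 0))) (.node (.node (.leaf 11080) (.leaf 0)) (.node (.leaf 25793) (.leaf 0)))))))) (.node (.node (.node (.node (.node (.node (.node (.leaf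 316) (.leaf 26700)) (.node (.leaf 11670) (.leaf 0))) (.node (.node (.leaf 5717) (.leaf 0)) (.node (.leaf 18501) (.leaf 0)))) (.node (.node (.node (.leaf 2947) (.leaf 32006)) (.node (.leaf 14980) (.leaf 0))) (.node (.node (.leaf 8613) (.leaf 0)) (.node (.leaf 22329) (.leaf 0))))) (.node (.node (.node (.node (.leaf 1624) (.leaf 29173)) (.node (.leaf 13304) (.leaf 0))) (.node (.node (.leaf 7147) (.leaf 0)) (.node (.leaf 20334) (.leaf 0)))) (.node (.node (.node (.leaf 4326) (.leaf 35653)) (.node (.leaf 16685) (.leaf 0))) (.node (.node (.leaf 10111) (.leaf 0)) (.node (.leaf 24389) (.leaf 0)))))) (.node (.node (.node (.node (.node (.leaf 968) (.leaf 27858)) (.node (.leaf 12492) (.leaf 0))) (.node (.node (.leaf 6435) (.leaf 0)) (.node (.leaf 19392) (.leaf 0)))) (.node (.node (.node (.leaf 3634) (.leaf 33662)) (.node (.leaf 15823) (.leaf 0))) (.node (.node (.leaf 9388) (.leaf 0)) (.node (.leaf 23334) (.leaf 0))))) (.node (.node (.node (.node (.leaf 2293) (.leaf 30494)) (.node (.leaf 14130) (.leaf 0))) (.node (.node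 (.leaf 7872) (.leaf 0)) (.node (.leaf 21322) (.leaf 0)))) (.node (.node (.node (.leaf 5013) (.leaf 38046)) (.node (.leaf 17594) (.leaf 0))) (.node (.node (.leaf 10892) (.leaf 0)) (.node (.leaf 25478) (.leaf 0))))))) (.node (.node (.node (.node (.node (.node (.leaf 639) (.leaf 27306)) (.node (.leaf 12089) (.leaf 0))) (.node (.node (.leaf 6061) (.leaf 0)) (.node (.leaf 18969) (.leaf 0)))) (.node (.node (.node (.leaf 3281) (.leaf 32804)) (.node (.leaf 15406) (.leaf 0))) (.node (.node (.leaf 8992) (.leaf 0)) (.node (.leaf 22822) (.leaf 0))))) (.node (.node (.node (.node (.leaf 1958) (.leaf 29806)) (.node (.leaf 13711) (.leaf 0))) (.node (.node (.leaf 7507) (.leaf 0)) (.node (.leaf 20827) (.leaf 0)))) (.node (.node (.node (.leaf 4673) (.leaf 36818)) (.node (.leaf 17138) (.leaf 0))) (.node (.node (.leaf 10494) (.leaf 0)) (.node (.leaf 24933) (.leaf 0)))))) (.node (.node (.node (.node (.node (.leaf 1296) (.leaf 28491)) (.node (.leaf 12896) (.leaf 0))) (.node (.node (.leaf 6792) (.leaf 0)) (.node (.leaf 19856)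 (.leaf 0)))) (.node (.node (.node (.leaf 3976) (.leaf 34635)) (.node (.leaf 16268) (.leaf 0))) (.node (.node (.leaf 9748) (.leaf 0)) (.node (.leaf 23853) (.leaf 0))))) (.node (.node (.node (.node (.leaf 2620) (.leaf 31212)) (.node (.leaf 14535) (.leaf 0))) (.node (.node (.leaf 8244) (.leaf 0)) (.node (.leaf 21819) (.leaf 0)))) (.node (.node (.node (.leaf 5358) (.leaf 40005)) (.node (.leaf 18040) (.leaf 0))) (.node (.node (.leaf 11271) (.leaf 0)) (.node (.leaf 26093) (.leaf 0))))))))

def pT125 : NT := .node (.node (.node (.node (.node (.node (.node (.node (.leaf 157) (.leaf 26386)) (.node (.leaf 11460) (.leaf 0))) (.node (.node (.leaf 5542) (.leaf 0)) (.node (.leaf 18266) (.leaf 0)))) (.node (.node (.node (.leaf 2781) (.leaf 31596)) (.node (.leaf 14747) (.leaf 0))) (.node (.node (.leaf 8429) (.leaf 0)) (.node (.leaf 22054) (.leaf 0))))) (.node (.node (.node (.node (.leaf 1459) (.leaf 28846)) (.node (.leaf 13102) (.leaf 0))) (.node (.node (.leaf 6975) (.leaf 0)) (.node (.leaf 20096) (.leaf 0)))) (.node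 (.node (.node (.leaf 4157) (.leaf 35110)) (.node (.leaf 16469) (.leaf 0))) (.node (.node (.leaf 9935) (.leaf 0)) (.node (.leaf 24118) (.leaf 0)))))) (.node (.node (.node (.node (.node (.leaf 804) (.leaf 27590)) (.node (.leaf 12288) (.leaf 0))) (.node (.node (.leaf 6245) (.leaf 0)) (.node (.leaf 19176) (.leaf 0)))) (.node (.node (.node (.leaf 3464) (.leaf 33219)) (.node (.leaf 15616) (.leaf 0))) (.node (.node (.leaf 9191) (.leaf 0)) (.node (.leaf 23087) (.leaf 0))))) (.node (.node (.node (.node (.leaf 2128) (.leaf 30176)) (.node (.leaf 13924) (.leaf 0))) (.node (.node (.leaf 7689) (.leaf 0)) (.node (.leaf 21088) (.leaf 0)))) (.node (.node (.node (.leaf 4847) (.leaf 37350)) (.node (.leaf 17372) (.leaf 0))) (.node (.node (.leaf 10691) (.leaf 0)) (.node (.leaf 25228) (.leaf 0))))))) (.node (.node (.node (.node (.node (.node (.leaf 478) (.leaf 27000)) (.node (.leaf 11883) (.leaf 0))) (.node (.node (.leaf 5887) (.leaf 0)) (.node (.leaf 18752) (.leaf 0)))) (.node (.node (.node (.leaf 3114) (.leaf 32382)) (.node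 (.leaf 15200) (.leaf 0))) (.node (.node (.leaf 8804) (.leaf 0)) (.node (.leaf 22588) (.leaf 0))))) (.node (.node (.node (.node (.leaf 1792) (.leaf 29510)) (.node (.leaf 13516) (.leaf 0))) (.node (.node (.leaf 7331) (.leaf 0)) (.node (.leaf 20590) (.leaf 0)))) (.node (.node (.node (.leaf 4502) (.leaf 36160)) (.node (.leaf 16918) (.leaf 0))) (.node (.node (.leaf 10304) (.leaf 0)) (.node (.leaf 24680) (.leaf 0)))))) (.node (.node (.node (.node (.node (.leaf 1132) (.leaf 28185)) (.node (.leaf 12700) (.leaf 0))) (.node (.node (.leaf 6613) (.leaf 0)) (.node (.leaf 19624) (.leaf 0)))) (.node (.node (.node (.leaf 3804) (.leaf 34166)) (.node (.leaf 16048) (.leaf 0))) (.node (.node (.leaf 9574) (.leaf 0)) (.node (.leaf 23606) (.leaf 0))))) (.node (.node (.node (.node (.leaf 2457) (.leaf 30868)) (.node (.leaf 14322) (.leaf 0))) (.node (.node (.leaf 8053) (.leaf 0)) (.node (.leaf 21574) (.leaf 0)))) (.node (.node (.node (.leaf 5187) (.leaf 38772)) (.node (.leaf 17818) (.leaf 0))) (.node (.node (.leaf 11081) (.leaf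 0)) (.node (.leaf 25796) (.leaf 0)))))))) (.node (.node (.node (.node (.node (.node (.node (.leaf 317) (.leaf 26703)) (.node (.leaf 11671) (.leaf 0))) (.node (.node (.leaf 5718) (.leaf 0)) (.node (.leaf 18505) (.leaf 0)))) (.node (.node (.node (.leaf 2948) (.leaf 32013)) (.node (.leaf 14983) (.leaf 0))) (.node (.node (.leaf 8615) (.leaf 0)) (.node (.leaf 22330) (.leaf 0))))) (.node (.node (.node (.node (.leaf 1625) (.leaf 29174)) (.node (.leaf 13305) (.leaf 0))) (.node (.node (.leaf 7148) (.leaf 0)) (.node (.leaf 20338) (.leaf 0)))) (.node (.node (.node (.leaf 4328) (.leaf 35657)) (.node (.leaf 16688) (.leaf 0))) (.node (.node (.leaf 10112) (.leaf 0)) (.node (.leaf 24390) (.leaf 0)))))) (.node (.node (.node (.node (.node (.leaf 969) (.leaf 27859)) (.node (.leaf 12494) (.leaf 0))) (.node (.node (.leaf 6436) (.leaf 0)) (.node (.leaf 19393) (.leaf 0)))) (.node (.node (.node (.leaf 3635) (.leaf 33670)) (.node (.leaf 15824) (.leaf 0))) (.node (.node (.leaf 9391) (.leaf 0)) (.node (.leaf 23336) (.leaf 0)))))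 (.node (.node (.node (.node (.leaf 2294) (.leaf 30506)) (.node (.leaf 14132) (.leaf 0))) (.node (.node (.leaf 7874) (.leaf 0)) (.node (.leaf 21323) (.leaf 0)))) (.node (.node (.node (.leaf 5014) (.leaf 38047)) (.node (.leaf 17596) (.leaf 0))) (.node (.node (.leaf 10894) (.leaf 0)) (.node (.leaf 25481) (.leaf 0))))))) (.node (.node (.node (.node (.node (.node (.leaf 640) (.leaf 27308)) (.node (.leaf 12090) (.leaf 0))) (.node (.node (.leaf 6062) (.leaf 0)) (.node (.leaf 18972) (.leaf 0)))) (.node (.node (.node (.leaf 3282) (.leaf 32807)) (.node (.leaf 15408) (.leaf 0))) (.node (.node (.leaf 8994) (.leaf 0)) (.node (.leaf 22824) (.leaf 0))))) (.node (.node (.node (.node (.leaf 1959) (.leaf 29812)) (.node (.leaf 13712) (.leaf 0))) (.node (.node (.leaf 7508) (.leaf 0)) (.node (.leaf 20832) (.leaf 0)))) (.node (.node (.node (.leaf 4674) (.leaf 36820)) (.node (.leaf 17140) (.leaf 0))) (.node (.node (.leaf 10496) (.leaf 0)) (.node (.leaf 24936) (.leaf 0)))))) (.node (.node (.node (.node (.node (.leaf 1297) (.leaf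 28492)) (.node (.leaf 12898) (.leaf 0))) (.node (.node (.leaf 6793) (.leaf 0)) (.node (.leaf 19857) (.leaf 0)))) (.node (.node (.node (.leaf 3978) (.leaf 34638)) (.node (.leaf 16271) (.leaf 0))) (.node (.node (.leaf 9750) (.leaf 0)) (.node (.leaf 23854) (.leaf 0))))) (.node (.node (.node (.node (.leaf 2621) (.leaf 31218)) (.node (.leaf 14536) (.leaf 0))) (.node (.node (.leaf 8246) (.leaf 0)) (.node (.leaf 21822) (.leaf 0)))) (.node (.node (.node (.leaf 5360) (.leaf 40015)) (.node (.leaf 18041) (.leaf 0))) (.node (.node (.leaf 11272) (.leaf 0)) (.node (.leaf 26105) (.leaf 0))))))))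

def pT126 : NT := .node (.node (.node (.node (.node (.node (.node (.node (.leaf 158) (.leaf 26387)) (.node (.leaf 11462) (.leaf 0))) (.node (.node (.leaf 5544) (.leaf 0)) (.node (.leaf 18267) (.leaf 0)))) (.node (.node (.node (.leaf 2782) (.leaf 31597)) (.node (.leaf 14752) (.leaf 0))) (.node (.node (.leaf 8430) (.leaf 0)) (.node (.leaf 22055) (.leaf 0))))) (.node (.node (.node (.node (.leaf 1460) (.leaf 28850)) (.node (.leaf 13103) (.leaf 0))) (.node (.node (.leaf 6976) (.leaf 0)) (.node (.leaf 20099) (.leaf 0)))) (.node (.node (.node (.leaf 4158) (.leaf 35112)) (.node (.leaf 16472) (.leaf 0))) (.node (.node (.leaf 9936) (.leaf 0)) (.node (.leaf 24119) (.leaf 0)))))) (.node (.node (.node (.node (.node (.leaf 806) (.leaf 27594)) (.node (.leaf 12292) (.leaf 0))) (.node (.node (.leaf 6248) (.leaf 0)) (.node (.leaf 19178) (.leaf 0)))) (.node (.node (.node (.leaf 3465) (.leaf 33220)) (.node (.leaf 15618) (.leaf 0))) (.node (.node (.leaf 9194) (.leaf 0)) (.node (.leaf 23088) (.leaf 0))))) (.node (.node (.node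 (.node (.leaf 2129) (.leaf 30182)) (.node (.leaf 13926) (.leaf 0))) (.node (.node (.leaf 7690) (.leaf 0)) (.node (.leaf 21090) (.leaf 0)))) (.node (.node (.node (.leaf 4848) (.leaf 37352)) (.node (.leaf 17374) (.leaf 0))) (.node (.node (.leaf 10694) (.leaf 0)) (.node (.leaf 25229) (.leaf 0))))))) (.node (.node (.node (.node (.node (.node (.leaf 479) (.leaf 27004)) (.node (.leaf 11884) (.leaf 0))) (.node (.node (.leaf 5888) (.leaf 0)) (.node (.leaf 18756) (.leaf 0)))) (.node (.node (.node (.leaf 3115) (.leaf 32384)) (.node (.leaf 15201) (.leaf 0))) (.node (.node (.leaf 8805) (.leaf 0)) (.node (.leaf 22590) (.leaf 0))))) (.node (.node (.node (.node (.leaf 1793) (.leaf 29511)) (.node (.leaf 13518) (.leaf 0))) (.node (.node (.leaf 7332) (.leaf 0)) (.node (.leaf 20591) (.leaf 0)))) (.node (.node (.node (.leaf 4504) (.leaf 36176)) (.node (.leaf 16920) (.leaf 0))) (.node (.node (.leaf 10306) (.leaf 0)) (.node (.leaf 24681) (.leaf 0)))))) (.node (.node (.node (.node (.node (.leaf 1133) (.leaf 28186)) (.node (.leaf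 12701) (.leaf 0))) (.node (.node (.leaf 6614) (.leaf 0)) (.node (.leaf 19626) (.leaf 0)))) (.node (.node (.node (.leaf 3805) (.leaf 34170)) (.node (.leaf 16049) (.leaf 0))) (.node (.node (.leaf 9576) (.leaf 0)) (.node (.leaf 23609) (.leaf 0))))) (.node (.node (.node (.node (.leaf 2458) (.leaf 30869)) (.node (.leaf 14324) (.leaf 0))) (.node (.node (.leaf 8054) (.leaf 0)) (.node (.leaf 21575) (.leaf 0)))) (.node (.node (.node (.leaf 5188) (.leaf 38775)) (.node (.leaf 17820) (.leaf 0))) (.node (.node (.leaf 11083) (.leaf 0)) (.node (.leaf 25797) (.leaf 0)))))))) (.node (.node (.node (.node (.node (.node (.node (.leaf 318) (.leaf 26706)) (.node (.leaf 11672) (.leaf 0))) (.node (.node (.leaf 5719) (.leaf 0)) (.node (.leaf 18506) (.leaf 0)))) (.node (.node (.node (.leaf 2950) (.leaf 32014)) (.node (.leaf 14984) (.leaf 0))) (.node (.node (.leaf 8616) (.leaf 0)) (.node (.leaf 22331) (.leaf 0))))) (.node (.node (.node (.node (.leaf 1626) (.leaf 29175)) (.node (.leaf 13306) (.leaf 0))) (.node (.node (.leaf 7151)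 (.leaf 0)) (.node (.leaf 20340) (.leaf 0)))) (.node (.node (.node (.leaf 4329) (.leaf 35659)) (.node (.leaf 16689) (.leaf 0))) (.node (.node (.leaf 10114) (.leaf 0)) (.node (.leaf 24392) (.leaf 0)))))) (.node (.node (.node (.node (.node (.leaf 970) (.leaf 27860)) (.node (.leaf 12495) (.leaf 0))) (.node (.node (.leaf 6438) (.leaf 0)) (.node (.leaf 19396) (.leaf 0)))) (.node (.node (.node (.leaf 3636) (.leaf 33672)) (.node (.leaf 15825) (.leaf 0))) (.node (.node (.leaf 9395) (.leaf 0)) (.node (.leaf 23339) (.leaf 0))))) (.node (.node (.node (.node (.leaf 2296) (.leaf 30509)) (.node (.leaf 14133) (.leaf 0))) (.node (.node (.leaf 7875) (.leaf 0)) (.node (.leaf 21324) (.leaf 0)))) (.node (.node (.node (.leaf 5016) (.leaf 38056)) (.node (.leaf 17598) (.leaf 0))) (.node (.node (.leaf 10896) (.leaf 0)) (.node (.leaf 25484) (.leaf 0))))))) (.node (.node (.node (.node (.node (.node (.leaf 642) (.leaf 27310)) (.node (.leaf 12093) (.leaf 0))) (.node (.node (.leaf 6063) (.leaf 0)) (.node (.leaf 18974) (.leaf 0))))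 (.node (.node (.node (.leaf 3283) (.leaf 32810)) (.node (.leaf 15409) (.leaf 0))) (.node (.node (.leaf 8995) (.leaf 0)) (.node (.leaf 22826) (.leaf 0))))) (.node (.node (.node (.node (.leaf 1963) (.leaf 29814)) (.node (.leaf 13714) (.leaf 0))) (.node (.node (.leaf 7510) (.leaf 0)) (.node (.leaf 20837) (.leaf 0)))) (.node (.node (.node (.leaf 4676) (.leaf 36824)) (.node (.leaf 17141) (.leaf 0))) (.node (.node (.leaf 10497) (.leaf 0)) (.node (.leaf 24940) (.leaf 0)))))) (.node (.node (.node (.node (.node (.leaf 1298) (.leaf 28494)) (.node (.leaf 12899) (.leaf 0))) (.node (.node (.leaf 6794) (.leaf 0)) (.node (.leaf 19860) (.leaf 0)))) (.node (.node (.node (.leaf 3980) (.leaf 34650)) (.node (.leaf 16274) (.leaf 0))) (.node (.node (.leaf 9752) (.leaf 0)) (.node (.leaf 23856) (.leaf 0))))) (.node (.node (.node (.node (.leaf 2622) (.leaf 31220)) (.node (.leaf 14538) (.leaf 0))) (.node (.node (.leaf 8247) (.leaf 0)) (.node (.leaf 21824) (.leaf 0)))) (.node (.node (.node (.leaf 5361) (.leaf 40020)) (.node (.leaf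 18042) (.leaf 0))) (.node (.node (.leaf 11274) (.leaf 0)) (.node (.leaf 26106) (.leaf 0))))))))

def pT127 : NT := .node (.node (.node (.node (.node (.node (.node (.node (.leaf 160) (.leaf 26388)) (.node (.leaf 11463) (.leaf 0))) (.node (.node (.leaf 5545) (.leaf 0)) (.node (.leaf 18268) (.leaf 0)))) (.node (.node (.node (.leaf 2784) (.leaf 31598)) (.node (.leaf 14753) (.leaf 0))) (.node (.node (.leaf 8432) (.leaf 0)) (.node (.leaf 22061) (.leaf 0))))) (.node (.node (.node (.node (.leaf 1462) (.leaf 28851)) (.node (.leaf 13104) (.leaf 0))) (.node (.node (.leaf 6977) (.leaf 0)) (.node (.leaf 20101) (.leaf 0)))) (.node (.node (.node (.leaf 4160) (.leaf 35117)) (.node (.leaf 16476) (.leaf 0))) (.node (.node (.leaf 9938) (.leaf 0)) (.node (.leaf 24120) (.leaf 0)))))) (.node (.node (.node (.node (.node (.leaf 807) (.leaf 27596)) (.node (.leaf 12294) (.leaf 0))) (.node (.node (.leaf 6249) (.leaf 0)) (.node (.leaf 19179) (.leaf 0)))) (.node (.node (.node (.leaf 3466) (.leaf 33223)) (.node (.leaf 15619) (.leaf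 0))) (.node (.node (.leaf 9195) (.leaf 0)) (.node (.leaf 23091) (.leaf 0))))) (.node (.node (.node (.node (.leaf 2130) (.leaf 30184)) (.node (.leaf 13930) (.leaf 0))) (.node (.node (.leaf 7694) (.leaf 0)) (.node (.leaf 21092) (.leaf 0)))) (.node (.node (.node (.leaf 4849) (.leaf 37353)) (.node (.leaf 17376) (.leaf 0))) (.node (.node (.leaf 10696) (.leaf 0)) (.node (.leaf 25231) (.leaf 0))))))) (.node (.node (.node (.node (.node (.node (.leaf 482) (.leaf 27012)) (.node (.leaf 11885) (.leaf 0))) (.node (.node (.leaf 5889) (.leaf 0)) (.node (.leaf 18757) (.leaf 0)))) (.node (.node (.node (.leaf 3116) (.leaf 32385)) (.node (.leaf 15202) (.leaf 0))) (.node (.node (.leaf 8806) (.leaf 0)) (.node (.leaf 22592) (.leaf 0))))) (.node (.node (.node (.node (.leaf 1794) (.leaf 29512)) (.node (.leaf 13519) (.leaf 0))) (.node (.node (.leaf 7334) (.leaf 0)) (.node (.leaf 20592) (.leaf 0)))) (.node (.node (.node (.leaf 4505) (.leaf 36187)) (.node (.leaf 16924) (.leaf 0))) (.node (.node (.leaf 10308) (.leaf 0)) (.node (.leaf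 24682) (.leaf 0)))))) (.node (.node (.node (.node (.node (.leaf 1134) (.leaf 28187)) (.node (.leaf 12702) (.leaf 0))) (.node (.node (.leaf 6615) (.leaf 0)) (.node (.leaf 19627) (.leaf 0)))) (.node (.node (.node (.leaf 3806) (.leaf 34186)) (.node (.leaf 16050) (.leaf 0))) (.node (.node (.leaf 9577) (.leaf 0)) (.node (.leaf 23614) (.leaf 0))))) (.node (.node (.node (.node (.leaf 2461) (.leaf 30870)) (.node (.leaf 14325) (.leaf 0))) (.node (.node (.leaf 8056) (.leaf 0)) (.node (.leaf 21576) (.leaf 0)))) (.node (.node (.node (.leaf 5190) (.leaf 38776)) (.node (.leaf 17822) (.leaf 0))) (.node (.node (.leaf 11084) (.leaf 0)) (.node (.leaf 25799) (.leaf 0)))))))) (.node (.node (.node (.node (.node (.node (.node (.leaf 320) (.leaf 26707)) (.node (.leaf 11675) (.leaf 0))) (.node (.node (.leaf 5720) (.leaf 0)) (.node (.leaf 18507) (.leaf 0)))) (.node (.node (.node (.leaf 2951) (.leaf 32019)) (.node (.leaf 14985) (.leaf 0))) (.node (.node (.leaf 8618) (.leaf 0)) (.node (.leaf 22334) (.leaf 0))))) (.node (.node (.node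 (.node (.leaf 1628) (.leaf 29179)) (.node (.leaf 13307) (.leaf 0))) (.node (.node (.leaf 7153) (.leaf 0)) (.node (.leaf 20341) (.leaf 0)))) (.node (.node (.node (.leaf 4330) (.leaf 35662)) (.node (.leaf 16690) (.leaf 0))) (.node (.node (.leaf 10115) (.leaf 0)) (.node (.leaf 24394) (.leaf 0)))))) (.node (.node (.node (.node (.node (.leaf 971) (.leaf 27863)) (.node (.leaf 12497) (.leaf 0))) (.node (.node (.leaf 6439) (.leaf 0)) (.node (.leaf 19397) (.leaf 0)))) (.node (.node (.node (.leaf 3638) (.leaf 33675)) (.node (.leaf 15826) (.leaf 0))) (.node (.node (.leaf 9397) (.leaf 0)) (.node (.leaf 23340) (.leaf 0))))) (.node (.node (.node (.node (.leaf 2297) (.leaf 30510)) (.node (.leaf 14134) (.leaf 0))) (.node (.node (.leaf 7876) (.leaf 0)) (.node (.leaf 21325) (.leaf 0)))) (.node (.node (.node (.leaf 5017) (.leaf 38062)) (.node (.leaf 17600) (.leaf 0))) (.node (.node (.leaf 10897) (.leaf 0)) (.node (.leaf 25486) (.leaf 0))))))) (.node (.node (.node (.node (.node (.node (.leaf 643) (.leaf 27311)) (.node (.leaf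 12094) (.leaf 0))) (.node (.node (.leaf 6066) (.leaf 0)) (.node (.leaf 18975) (.leaf 0)))) (.node (.node (.node (.leaf 3284) (.leaf 32813)) (.node (.leaf 15410) (.leaf 0))) (.node (.node (.leaf 8997) (.leaf 0)) (.node (.leaf 22829) (.leaf 0))))) (.node (.node (.node (.node (.leaf 1964) (.leaf 29820)) (.node (.leaf 13715) (.leaf 0))) (.node (.node (.leaf 7511) (.leaf 0)) (.node (.leaf 20838) (.leaf 0)))) (.node (.node (.node (.leaf 4677) (.leaf 36827)) (.node (.leaf 17144) (.leaf 0))) (.node (.node (.leaf 10498) (.leaf 0)) (.node (.leaf 24941) (.leaf 0)))))) (.node (.node (.node (.node (.node (.leaf 1300) (.leaf 28495)) (.node (.leaf 12902) (.leaf 0))) (.node (.node (.leaf 6796) (.leaf 0)) (.node (.leaf 19862) (.leaf 0)))) (.node (.node (.node (.leaf 3981) (.leaf 34652)) (.node (.leaf 16276) (.leaf 0))) (.node (.node (.leaf 9753) (.leaf 0)) (.node (.leaf 23857) (.leaf 0))))) (.node (.node (.node (.node (.leaf 2623) (.leaf 31222)) (.node (.leaf 14540) (.leaf 0))) (.node (.node (.leaf 8250) (.leaf 0)) (.node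 (.leaf 21826) (.leaf 0)))) (.node (.node (.node (.leaf 5362) (.leaf 40025)) (.node (.leaf 18045) (.leaf 0))) (.node (.node (.leaf 11275) (.leaf 0)) (.node (.leaf 26110) (.leaf 0))))))))

def pT : NT := .node (.node (.node (.node (.node (.node (.node (pT0) (pT64)) (.node (pT32) (pT96))) (.node (.node (pT16) (pT80)) (.node (pT48) (pT112)))) (.node (.node (.node (pT8) (pT72)) (.node (pT40) (pT104))) (.node (.node (pT24) (pT88)) (.node (pT56) (pT120))))) (.node (.node (.node (.node (pT4) (pT68)) (.node (pT36) (pT100))) (.node (.node (pT20) (pT84)) (.node (pT52) (pT116)))) (.node (.node (.node (pT12) (pT76)) (.node (pT44) (pT108))) (.node (.node (pT28) (pT92)) (.node (pT60) (pT124)))))) (.node (.node (.node (.node (.node (pT2) (pT66)) (.node (pT34) (pT98))) (.node (.node (pT18) (pT82)) (.node (pT50) (pT114)))) (.node (.node (.node (pT10) (pT74)) (.node (pT42) (pT106))) (.node (.node (pT26) (pT90)) (.node (pT58) (pT122))))) (.node (.node (.node (.node (pT6) (pT70)) (.node (pT38) (pT102))) (.node (.node (pT22)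 (pT86)) (.node (pT54) (pT118)))) (.node (.node (.node (pT14) (pT78)) (.node (pT46) (pT110))) (.node (.node (pT30) (pT94)) (.node (pT62) (pT126))))))) (.node (.node (.node (.node (.node (.node (pT1) (pT65)) (.node (pT33) (pT97))) (.node (.node (pT17) (pT81)) (.node (pT49) (pT113)))) (.node (.node (.node (pT9) (pT73)) (.node (pT41) (pT105))) (.node (.node (pT25) (pT89)) (.node (pT57) (pT121))))) (.node (.node (.node (.node (pT5) (pT69)) (.node (pT37) (pT101))) (.node (.node (pT21) (pT85)) (.node (pT53) (pT117)))) (.node (.node (.node (pT13) (pT77)) (.node (pT45) (pT109))) (.node (.node (pT29) (pT93)) (.node (pT61) (pT125)))))) (.node (.node (.node (.node (.node (pT3) (pT67)) (.node (pT35) (pT99))) (.node (.node (pT19) (pT83)) (.node (pT51) (pT115)))) (.node (.node (.node (pT11) (pT75)) (.node (pT43) (pT107))) (.node (.node (pT27) (pT91)) (.node (pT59) (pT123))))) (.node (.node (.node (.node (pT7) (pT71)) (.node (pT39) (pT103))) (.node (.node (pT23) (pT87)) (.node (pT55) (pT119)))) (.node (.node (.node (pT15)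 (pT79)) (.node (pT47) (pT111))) (.node (.node (pT31) (pT95)) (.node (pT63) (pT127)))))))

def kT0 : NT := .node (.node (.node (.node (.node (.node (.node (.node (.leaf 73) (.leaf 60379)) (.node (.leaf 108451) (.leaf 0))) (.node (.node (.leaf 21409) (.leaf 52055)) (.node (.leaf 29164) (.leaf 0)))) (.node (.node (.node (.leaf 101121) (.leaf 16450)) (.node (.leaf 62454) (.leaf 0))) (.node (.node (.leaf 115002) (.leaf 0)) (.node (.leaf 22637) (.leaf 0))))) (.node (.node (.node (.node (.leaf 40608) (.leaf 63919)) (.node (.leaf 31576) (.leaf 0))) (.node (.node (.leaf 7913) (.leaf 0)) (.node (.leaf 113590) (.leaf 0)))) (.node (.node (.node (.leaf 122205) (.leaf 103188)) (.node (.leaf 37563) (.leaf 0))) (.node (.node (.leaf 27313) (.leaf 0)) (.node (.leaf 21580) (.leaf 0)))))) (.node (.node (.node (.node (.node (.leaf 130459) (.leaf 35066)) (.node (.leaf 35820) (.leaf 0))) (.node (.node (.leaf 5104) (.leaf 0)) (.node (.leaf 78840) (.leaf 0)))) (.node (.node (.node (.leaf 6466) (.leaf 27262)) (.node (.leaf 112014)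 (.leaf 0))) (.node (.node (.leaf 15738) (.leaf 0)) (.node (.leaf 9900) (.leaf 0))))) (.node (.node (.node (.node (.leaf 99125) (.leaf 2399)) (.node (.leaf 18168) (.leaf 0))) (.node (.node (.leaf 99749) (.leaf 0)) (.node (.leaf 56504) (.leaf 0)))) (.node (.node (.node (.leaf 37852) (.leaf 41668)) (.node (.leaf 26721) (.leaf 0))) (.node (.node (.leaf 10681) (.leaf 0)) (.node (.leaf 9613) (.leaf 0))))))) (.node (.node (.node (.node (.node (.node (.leaf 58769) (.leaf 79248)) (.node (.leaf 31895) (.leaf 0))) (.node (.node (.leaf 114951) (.leaf 0)) (.node (.leaf 101144) (.leaf 0)))) (.node (.node (.node (.leaf 1516) (.leaf 26747)) (.node (.leaf 92069) (.leaf 0))) (.node (.node (.leaf 130547) (.leaf 0)) (.node (.leaf 121162) (.leaf 0))))) (.node (.node (.node (.node (.leaf 33785) (.leaf 113662)) (.node (.leaf 78267) (.leaf 0))) (.node (.node (.leaf 71976) (.leaf 0)) (.node (.leaf 5883) (.leaf 0)))) (.node (.node (.node (.leaf 29767) (.leaf 34613)) (.node (.leaf 44501) (.leaf 0))) (.node (.node (.leaf 4522) (.leaf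 0)) (.node (.leaf 116182) (.leaf 0)))))) (.node (.node (.node (.node (.node (.leaf 29813) (.leaf 90386)) (.node (.leaf 34629) (.leaf 0))) (.node (.node (.leaf 55556) (.leaf 0)) (.node (.leaf 130853) (.leaf 0)))) (.node (.node (.node (.leaf 10397) (.leaf 32029)) (.node (.leaf 2864) (.leaf 0))) (.node (.node (.leaf 40192) (.leaf 0)) (.node (.leaf 57714) (.leaf 0))))) (.node (.node (.node (.node (.leaf 26436) (.leaf 89901)) (.node (.leaf 105226) (.leaf 0))) (.node (.node (.leaf 117557) (.leaf 0)) (.node (.leaf 106298) (.leaf 0)))) (.node (.node (.node (.leaf 80259) (.leaf 5785)) (.node (.leaf 21205) (.leaf 0))) (.node (.node (.leaf 42719) (.leaf 0)) (.node (.leaf 43370) (.leaf 0)))))))) (.node (.node (.node (.node (.node (.node (.node (.leaf 14089) (.leaf 56174)) (.node (.leaf 38382) (.leaf 0))) (.node (.node (.leaf 2879) (.leaf 0)) (.node (.leaf 82200) (.leaf 0)))) (.node (.node (.node (.leaf 95182) (.leaf 29604)) (.node (.leaf 59252) (.leaf 0))) (.node (.node (.leaf 64236) (.leaf 0)) (.node (.leaf 54496)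 (.leaf 0))))) (.node (.node (.node (.node (.leaf 9332) (.leaf 69417)) (.node (.leaf 36059) (.leaf 0))) (.node (.node (.leaf 5688) (.leaf 0)) (.node (.leaf 122678) (.leaf 0)))) (.node (.node (.node (.leaf 80716) (.leaf 66858)) (.node (.leaf 11609) (.leaf 0))) (.node (.node (.leaf 93988) (.leaf 0)) (.node (.leaf 37358) (.leaf 0)))))) (.node (.node (.node (.node (.node (.leaf 42724) (.leaf 107432)) (.node (.leaf 38394) (.leaf 0))) (.node (.node (.leaf 47028) (.leaf 0)) (.node (.leaf 24382) (.leaf 0)))) (.node (.node (.node (.leaf 59051) (.leaf 129383)) (.node (.leaf 35179) (.leaf 0))) (.node (.node (.leaf 17080) (.leaf 0)) (.node (.leaf 99640) (.leaf 0))))) (.node (.node (.node (.node (.leaf 72055) (.leaf 15828)) (.node (.leaf 113497) (.leaf 0))) (.node (.node (.leaf 105950) (.leaf 0)) (.node (.leaf 30856) (.leaf 0)))) (.node (.node (.node (.leaf 43503) (.leaf 24049)) (.node (.leaf 81350) (.leaf 0))) (.node (.node (.leaf 71471) (.leaf 0)) (.node (.leaf 59674) (.leaf 0))))))) (.node (.node (.node (.node (.node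 (.node (.leaf 22817) (.leaf 119200)) (.node (.leaf 47023) (.leaf 0))) (.node (.node (.leaf 12323) (.leaf 0)) (.node (.leaf 25155) (.leaf 0)))) (.node (.node (.node (.leaf 27599) (.leaf 85827)) (.node (.leaf 37134) (.leaf 0))) (.node (.node (.leaf 99694) (.leaf 0)) (.node (.leaf 70978) (.leaf 0))))) (.node (.node (.node (.node (.leaf 30342) (.leaf 80177)) (.node (.leaf 3907) (.leaf 0))) (.node (.node (.leaf 51184) (.leaf 0)) (.node (.leaf 59176) (.leaf 0)))) (.node (.node (.node (.leaf 45204) (.leaf 42704)) (.node (.leaf 79111) (.leaf 0))) (.node (.node (.leaf 94152) (.leaf 0)) (.node (.leaf 16166) (.leaf 0)))))) (.node (.node (.node (.node (.node (.leaf 92984) (.leaf 4387)) (.node (.leaf 42949) (.leaf 0))) (.node (.node (.leaf 53660) (.leaf 0)) (.node (.leaf 66466) (.leaf 0)))) (.node (.node (.node (.leaf 45219) (.leaf 31677)) (.node (.leaf 23716) (.leaf 0))) (.node (.node (.leaf 5681) (.leaf 0)) (.node (.leaf 118558) (.leaf 0))))) (.node (.node (.node (.node (.leaf 76654) (.leaf 38034)) (.node (.leaf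 93500) (.leaf 0))) (.node (.node (.leaf 8917) (.leaf 0)) (.node (.leaf 86988) (.leaf 0)))) (.node (.node (.node (.leaf 114047) (.leaf 122686)) (.node (.leaf 32001) (.leaf 0))) (.node (.node (.leaf 2184) (.leaf 0)) (.node (.leaf 76579) (.leaf 0))))))))

def kT1 : NT := .node (.node (.node (.node (.node (.node (.node (.node (.leaf 16482) (.leaf 57197)) (.node (.leaf 97609) (.leaf 0))) (.node (.node (.leaf 64233) (.leaf 41404)) (.node (.leaf 102822) (.leaf 0)))) (.node (.node (.node (.leaf 120137) (.leaf 70521)) (.node (.leaf 127846) (.leaf 0))) (.node (.node (.leaf 67946) (.leaf 0)) (.node (.leaf 129970) (.leaf 0))))) (.node (.node (.node (.node (.leaf 63469) (.leaf 49936)) (.node (.leaf 47452) (.leaf 0))) (.node (.node (.leaf 25308) (.leaf 0)) (.node (.leaf 42479) (.leaf 0)))) (.node (.node (.node (.leaf 60303) (.leaf 40880)) (.node (.leaf 43693) (.leaf 0))) (.node (.node (.leaf 40747) (.leaf 0)) (.node (.leaf 6036) (.leaf 0)))))) (.node (.node (.node (.node (.node (.leaf 49838) (.leaf 71640)) (.node (.leaf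 55528) (.leaf 0))) (.node (.node (.leaf 36774) (.leaf 0)) (.node (.leaf 4374) (.leaf 0)))) (.node (.node (.node (.leaf 42250) (.leaf 51467)) (.node (.leaf 57276) (.leaf 0))) (.node (.node (.leaf 58281) (.leaf 0)) (.node (.leaf 33249) (.leaf 0))))) (.node (.node (.node (.node (.leaf 110964) (.leaf 35483)) (.node (.leaf 103874) (.leaf 0))) (.node (.node (.leaf 10622) (.leaf 0)) (.node (.leaf 9289) (.leaf 0)))) (.node (.node (.node (.leaf 70064) (.leaf 101729)) (.node (.leaf 81683) (.leaf 0))) (.node (.node (.leaf 39192) (.leaf 0)) (.node (.leaf 46527) (.leaf 0))))))) (.node (.node (.node (.node (.node (.node (.leaf 87018) (.leaf 39703)) (.node (.leaf 30711) (.leaf 0))) (.node (.node (.leaf 58076) (.leaf 0)) (.node (.leaf 72695) (.leaf 0)))) (.node (.node (.node (.leaf 16469) (.leaf 91987)) (.node (.leaf 14455) (.leaf 0))) (.node (.node (.leaf 93090) (.leaf 0)) (.node (.leaf 114612) (.leaf 0))))) (.node (.node (.node (.node (.leaf 42226) (.leaf 114684)) (.node (.leaf 99076) (.leaf 0))) (.node (.node (.leaf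 3430) (.leaf 0)) (.node (.leaf 43866) (.leaf 0)))) (.node (.node (.node (.leaf 88929) (.leaf 873)) (.node (.leaf 60404) (.leaf 0))) (.node (.node (.leaf 32951) (.leaf 0)) (.node (.leaf 24755) (.leaf 0)))))) (.node (.node (.node (.node (.node (.leaf 72038) (.leaf 30486)) (.node (.leaf 29294) (.leaf 0))) (.node (.node (.leaf 34270) (.leaf 0)) (.node (.leaf 88341) (.leaf 0)))) (.node (.node (.node (.leaf 25084) (.leaf 58176)) (.node (.leaf 35280) (.leaf 0))) (.node (.node (.leaf 38355) (.leaf 0)) (.node (.leaf 56171) (.leaf 0))))) (.node (.node (.node (.node (.leaf 122229) (.leaf 53403)) (.node (.leaf 3615) (.leaf 0))) (.node (.node (.leaf 32327) (.leaf 0)) (.node (.leaf 36792) (.leaf 0)))) (.node (.node (.node (.leaf 130539) (.leaf 15297)) (.node (.leaf 27383) (.leaf 0))) (.node (.node (.leaf 81907) (.leaf 0)) (.node (.leaf 7903) (.leaf 0)))))))) (.node (.node (.node (.node (.node (.node (.node (.leaf 33507) (.leaf 86495)) (.node (.leaf 40745) (.leaf 0))) (.node (.node (.leaf 46390) (.leaf 0)) (.node (.leaf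 18242) (.leaf 0)))) (.node (.node (.node (.leaf 25498) (.leaf 73496)) (.node (.leaf 120184) (.leaf 0))) (.node (.node (.leaf 20103) (.leaf 0)) (.node (.leaf 10186) (.leaf 0))))) (.node (.node (.node (.node (.leaf 23550) (.leaf 44354)) (.node (.leaf 51196) (.leaf 0))) (.node (.node (.leaf 71548) (.leaf 0)) (.node (.leaf 12861) (.leaf 0)))) (.node (.node (.node (.leaf 85860) (.leaf 3770)) (.node (.leaf 19812) (.leaf 0))) (.node (.node (.leaf 53243) (.leaf 0)) (.node (.leaf 33222) (.leaf 0)))))) (.node (.node (.node (.node (.node (.leaf 111406) (.leaf 96169)) (.node (.leaf 79237) (.leaf 0))) (.node (.node (.leaf 131027) (.leaf 0)) (.node (.leaf 58070) (.leaf 0)))) (.node (.node (.node (.leaf 2665) (.leaf 7106)) (.node (.leaf 123769) (.leaf 0))) (.node (.node (.leaf 21808) (.leaf 0)) (.node (.leaf 92070) (.leaf 0))))) (.node (.node (.node (.node (.leaf 19296) (.leaf 110004)) (.node (.leaf 113492) (.leaf 0))) (.node (.node (.leaf 60593) (.leaf 0)) (.node (.leaf 29882) (.leaf 0)))) (.node (.node (.node (.leaf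 6848) (.leaf 74020)) (.node (.leaf 69477) (.leaf 0))) (.node (.node (.leaf 75061) (.leaf 0)) (.node (.leaf 88447) (.leaf 0))))))) (.node (.node (.node (.node (.node (.node (.leaf 52209) (.leaf 90994)) (.node (.leaf 11976) (.leaf 0))) (.node (.node (.leaf 79786) (.leaf 0)) (.node (.leaf 109945) (.leaf 0)))) (.node (.node (.node (.leaf 48979) (.leaf 75137)) (.node (.leaf 4503) (.leaf 0))) (.node (.node (.leaf 92057) (.leaf 0)) (.node (.leaf 57492) (.leaf 0))))) (.node (.node (.node (.node (.leaf 79719) (.leaf 3560)) (.node (.leaf 120693) (.leaf 0))) (.node (.node (.leaf 116209) (.leaf 0)) (.node (.leaf 118750) (.leaf 0)))) (.node (.node (.node (.leaf 65890) (.leaf 74039)) (.node (.leaf 23144) (.leaf 0))) (.node (.node (.leaf 98751) (.leaf 0)) (.node (.leaf 1071) (.leaf 0)))))) (.node (.node (.node (.node (.node (.leaf 13818) (.leaf 93097)) (.node (.leaf 11437) (.leaf 0))) (.node (.node (.leaf 26429) (.leaf 0)) (.node (.leaf 128887) (.leaf 0)))) (.node (.node (.node (.leaf 8861) (.leaf 36230)) (.node (.leaf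 121747) (.leaf 0))) (.node (.node (.leaf 19049) (.leaf 0)) (.node (.leaf 119057) (.leaf 0))))) (.node (.node (.node (.node (.leaf 43717) (.leaf 89973)) (.node (.leaf 57531) (.leaf 0))) (.node (.node (.leaf 45954) (.leaf 0)) (.node (.leaf 75651) (.leaf 0)))) (.node (.node (.node (.leaf 35751) (.leaf 120732)) (.node (.leaf 27854) (.leaf 0))) (.node (.node (.leaf 91997) (.leaf 0)) (.node (.leaf 62667) (.leaf 0))))))))

def kT2 : NT := .node (.node (.node (.node (.node (.node (.node (.node (.leaf 98624) (.leaf 6201)) (.node (.leaf 95088) (.leaf 0))) (.node (.node (.leaf 101698) (.leaf 87847)) (.node (.leaf 51581) (.leaf 0)))) (.node (.node (.node (.leaf 130942) (.leaf 35473)) (.node (.leaf 85986) (.leaf 0))) (.node (.node (.leaf 4901) (.leaf 0)) (.node (.leaf 129439) (.leaf 0))))) (.node (.node (.node (.node (.leaf 48327) (.leaf 13888)) (.node (.leaf 56) (.leaf 0))) (.node (.node (.leaf 94981) (.leaf 0)) (.node (.leaf 21837) (.leaf 0)))) (.node (.node (.node (.leaf 41811) (.leaf 47066)) (.node (.leaf 42180)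 (.leaf 0))) (.node (.node (.leaf 122679) (.leaf 0)) (.node (.leaf 41113) (.leaf 0)))))) (.node (.node (.node (.node (.node (.leaf 56319) (.leaf 14941)) (.node (.leaf 10848) (.leaf 0))) (.node (.node (.leaf 83819) (.leaf 0)) (.node (.leaf 112103) (.leaf 0)))) (.node (.node (.node (.leaf 25555) (.leaf 4951)) (.node (.leaf 35468) (.leaf 0))) (.node (.node (.leaf 16459) (.leaf 0)) (.node (.leaf 1476) (.leaf 0))))) (.node (.node (.node (.node (.leaf 59690) (.leaf 37270)) (.node (.leaf 63147) (.leaf 0))) (.node (.node (.leaf 120642) (.leaf 0)) (.node (.leaf 121683) (.leaf 0)))) (.node (.node (.node (.leaf 39811) (.leaf 44835)) (.node (.leaf 51102) (.leaf 0))) (.node (.node (.leaf 55109) (.leaf 0)) (.node (.leaf 28150) (.leaf 0))))))) (.node (.node (.node (.node (.node (.node (.leaf 130937) (.leaf 1626)) (.node (.leaf 49896) (.leaf 0))) (.node (.node (.leaf 47320) (.leaf 0)) (.node (.leaf 41461) (.leaf 0)))) (.node (.node (.node (.leaf 36168) (.leaf 27544)) (.node (.leaf 27074) (.leaf 0))) (.node (.node (.leaf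 9038) (.leaf 0)) (.node (.leaf 103733) (.leaf 0))))) (.node (.node (.node (.node (.leaf 23013) (.leaf 130896)) (.node (.leaf 21445) (.leaf 0))) (.node (.node (.leaf 114675) (.leaf 0)) (.node (.leaf 2912) (.leaf 0)))) (.node (.node (.node (.leaf 66425) (.leaf 2364)) (.node (.leaf 84981) (.leaf 0))) (.node (.node (.leaf 84759) (.leaf 0)) (.node (.leaf 39368) (.leaf 0)))))) (.node (.node (.node (.node (.node (.leaf 93024) (.leaf 2330)) (.node (.leaf 76268) (.leaf 0))) (.node (.node (.leaf 28234) (.leaf 0)) (.node (.leaf 94134) (.leaf 0)))) (.node (.node (.node (.leaf 24745) (.leaf 51560)) (.node (.leaf 61157) (.leaf 0))) (.node (.node (.leaf 95554) (.leaf 0)) (.node (.leaf 89003) (.leaf 0))))) (.node (.node (.node (.node (.leaf 22313) (.leaf 55743)) (.node (.leaf 42264) (.leaf 0))) (.node (.node (.leaf 119778) (.leaf 0)) (.node (.leaf 83734) (.leaf 0)))) (.node (.node (.node (.leaf 70607) (.leaf 99590)) (.node (.leaf 2288) (.leaf 0))) (.node (.node (.leaf 48000) (.leaf 0)) (.node (.leaf 11617) (.leaf 0))))))))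 (.node (.node (.node (.node (.node (.node (.node (.leaf 126840) (.leaf 30922)) (.node (.leaf 16858) (.leaf 0))) (.node (.node (.leaf 63380) (.leaf 0)) (.node (.leaf 92096) (.leaf 0)))) (.node (.node (.node (.leaf 19015) (.leaf 7677)) (.node (.leaf 1206) (.leaf 0))) (.node (.node (.leaf 44720) (.leaf 0)) (.node (.leaf 21798) (.leaf 0))))) (.node (.node (.node (.node (.leaf 4927) (.leaf 123678)) (.node (.leaf 30855) (.leaf 0))) (.node (.node (.leaf 29177) (.leaf 0)) (.node (.leaf 81792) (.leaf 0)))) (.node (.node (.node (.leaf 5412) (.leaf 55078)) (.node (.leaf 37851) (.leaf 0))) (.node (.node (.leaf 21278) (.leaf 0)) (.node (.leaf 29167) (.leaf 0)))))) (.node (.node (.node (.node (.node (.leaf 82376) (.leaf 20416)) (.node (.leaf 92595) (.leaf 0))) (.node (.node (.leaf 105772) (.leaf 0)) (.node (.leaf 11465) (.leaf 0)))) (.node (.node (.node (.leaf 64662) (.leaf 37081)) (.node (.leaf 52499) (.leaf 0))) (.node (.node (.leaf 8700) (.leaf 0)) (.node (.leaf 821) (.leaf 0))))) (.node (.node (.node (.node (.leaf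 42310) (.leaf 103374)) (.node (.leaf 86399) (.leaf 0))) (.node (.node (.leaf 32358) (.leaf 0)) (.node (.leaf 30595) (.leaf 0)))) (.node (.node (.node (.leaf 42220) (.leaf 101660)) (.node (.leaf 18915) (.leaf 0))) (.node (.node (.leaf 44829) (.leaf 0)) (.node (.leaf 22417) (.leaf 0))))))) (.node (.node (.node (.node (.node (.node (.leaf 17606) (.leaf 46881)) (.node (.leaf 120605) (.leaf 0))) (.node (.node (.leaf 91408) (.leaf 0)) (.node (.leaf 96032) (.leaf 0)))) (.node (.node (.node (.leaf 16533) (.leaf 32424)) (.node (.leaf 60279) (.leaf 0))) (.node (.node (.leaf 49893) (.leaf 0)) (.node (.leaf 57341) (.leaf 0))))) (.node (.node (.node (.node (.leaf 72536) (.leaf 120578)) (.node (.leaf 112022) (.leaf 0))) (.node (.node (.leaf 17623) (.leaf 0)) (.node (.leaf 10143) (.leaf 0)))) (.node (.node (.node (.leaf 124378) (.leaf 92432)) (.node (.leaf 30795) (.leaf 0))) (.node (.node (.leaf 74517) (.leaf 0)) (.node (.leaf 98299) (.leaf 0)))))) (.node (.node (.node (.node (.node (.leaf 80681) (.leaf 30202)) (.node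 (.leaf 22135) (.leaf 0))) (.node (.node (.leaf 44315) (.leaf 0)) (.node (.leaf 21592) (.leaf 0)))) (.node (.node (.node (.leaf 17067) (.leaf 97749)) (.node (.leaf 23155) (.leaf 0))) (.node (.node (.leaf 110551) (.leaf 0)) (.node (.leaf 84226) (.leaf 0))))) (.node (.node (.node (.node (.leaf 15632) (.leaf 53004)) (.node (.leaf 17638) (.leaf 0))) (.node (.node (.leaf 7706) (.leaf 0)) (.node (.leaf 55243) (.leaf 0)))) (.node (.node (.node (.leaf 46841) (.leaf 22999)) (.node (.leaf 106884) (.leaf 0))) (.node (.node (.leaf 81915) (.leaf 0)) (.node (.leaf 5466) (.leaf 0))))))))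

def kT3 : NT := .node (.node (.node (.node (.node (.node (.node (.node (.leaf 34992) (.leaf 112966)) (.node (.leaf 19874) (.leaf 0))) (.node (.node (.leaf 57473) (.leaf 951)) (.node (.leaf 105729) (.leaf 0)))) (.node (.node (.node (.leaf 8858) (.leaf 124860)) (.node (.leaf 46771) (.leaf 0))) (.node (.node (.leaf 1458) (.leaf 0)) (.node (.leaf 12707) (.leaf 0))))) (.node (.node (.node (.node (.leaf 10679) (.leaf 13960)) (.node (.leaf 48787) (.leaf 0))) (.node (.node (.leaf 49322) (.leaf 0)) (.node (.leaf 33518) (.leaf 0)))) (.node (.node (.node (.leaf 6263) (.leaf 49809)) (.node (.leaf 66479) (.leaf 0))) (.node (.node (.leaf 54213) (.leaf 0)) (.node (.leaf 21983) (.leaf 0)))))) (.node (.node (.node (.node (.node (.leaf 86527) (.leaf 6225)) (.node (.leaf 121823) (.leaf 0))) (.node (.node (.leaf 120218) (.leaf 0)) (.node (.leaf 43786) (.leaf 0)))) (.node (.node (.node (.leaf 18111) (.leaf 25307)) (.node (.leaf 15018) (.leaf 0))) (.node (.node (.leaf 118083) (.leaf 0)) (.node (.leaf 64132) (.leaf 0))))) (.node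 (.node (.node (.node (.leaf 105907) (.leaf 81379)) (.node (.leaf 108427) (.leaf 0))) (.node (.node (.leaf 99806) (.leaf 0)) (.node (.leaf 7797) (.leaf 0)))) (.node (.node (.node (.leaf 71643) (.leaf 77081)) (.node (.leaf 130034) (.leaf 0))) (.node (.node (.leaf 83421) (.leaf 0)) (.node (.leaf 33720) (.leaf 0))))))) (.node (.node (.node (.node (.node (.node (.leaf 12931) (.leaf 27852)) (.node (.leaf 74583) (.leaf 0))) (.node (.node (.leaf 119661) (.leaf 0)) (.node (.leaf 37803) (.leaf 0)))) (.node (.node (.node (.leaf 123187) (.leaf 103330)) (.node (.leaf 22687) (.leaf 0))) (.node (.node (.leaf 112025) (.leaf 0)) (.node (.leaf 87403) (.leaf 0))))) (.node (.node (.node (.node (.leaf 28802) (.leaf 121089)) (.node (.leaf 9570) (.leaf 0))) (.node (.node (.leaf 17887) (.leaf 0)) (.node (.leaf 98260) (.leaf 0)))) (.node (.node (.node (.leaf 84888) (.leaf 79794)) (.node (.leaf 45749) (.leaf 0))) (.node (.node (.leaf 107894) (.leaf 0)) (.node (.leaf 42290) (.leaf 0)))))) (.node (.node (.node (.node (.node (.leaf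 61159) (.leaf 124847)) (.node (.leaf 108880) (.leaf 0))) (.node (.node (.leaf 117137) (.leaf 0)) (.node (.leaf 76184) (.leaf 0)))) (.node (.node (.node (.leaf 26532) (.leaf 27226)) (.node (.leaf 16223) (.leaf 0))) (.node (.node (.leaf 35593) (.leaf 0)) (.node (.leaf 84351) (.leaf 0))))) (.node (.node (.node (.node (.leaf 46285) (.leaf 21711)) (.node (.leaf 34789) (.leaf 0))) (.node (.node (.leaf 80721) (.leaf 0)) (.node (.leaf 28545) (.leaf 0)))) (.node (.node (.node (.leaf 22350) (.leaf 11736)) (.node (.leaf 102870) (.leaf 0))) (.node (.node (.leaf 2336) (.leaf 0)) (.node (.leaf 66541) (.leaf 0)))))))) (.node (.node (.node (.node (.node (.node (.node (.leaf 29573) (.leaf 68037)) (.node (.leaf 20477) (.leaf 0))) (.node (.node (.leaf 114091) (.leaf 0)) (.node (.leaf 23218) (.leaf 0)))) (.node (.node (.node (.leaf 7910) (.leaf 62742)) (.node (.leaf 94485) (.leaf 0))) (.node (.node (.leaf 4209) (.leaf 0)) (.node (.leaf 107951) (.leaf 0))))) (.node (.node (.node (.node (.leaf 60236) (.leaf 52087)) (.node (.leaf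 114126) (.leaf 0))) (.node (.node (.leaf 69056) (.leaf 0)) (.node (.leaf 128333) (.leaf 0)))) (.node (.node (.node (.leaf 19206) (.leaf 49350)) (.node (.leaf 102242) (.leaf 0))) (.node (.node (.leaf 58113) (.leaf 0)) (.node (.leaf 49145) (.leaf 0)))))) (.node (.node (.node (.node (.node (.leaf 52352) (.leaf 85902)) (.node (.leaf 23271) (.leaf 0))) (.node (.node (.leaf 40114) (.leaf 0)) (.node (.leaf 5943) (.leaf 0)))) (.node (.node (.node (.leaf 1137) (.leaf 87454)) (.node (.leaf 80654) (.leaf 0))) (.node (.node (.leaf 112897) (.leaf 0)) (.node (.leaf 43687) (.leaf 0))))) (.node (.node (.node (.node (.leaf 25061) (.leaf 59883)) (.node (.leaf 93519) (.leaf 0))) (.node (.node (.leaf 23417) (.leaf 0)) (.node (.leaf 121271) (.leaf 0)))) (.node (.node (.node (.leaf 66505) (.leaf 21721)) (.node (.leaf 13423) (.leaf 0))) (.node (.node (.leaf 24153) (.leaf 0)) (.node (.leaf 22877) (.leaf 0))))))) (.node (.node (.node (.node (.node (.node (.leaf 3825) (.leaf 37808)) (.node (.leaf 73679) (.leaf 0))) (.node (.node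 (.leaf 90909) (.leaf 0)) (.node (.leaf 17289) (.leaf 0)))) (.node (.node (.node (.leaf 36342) (.leaf 20400)) (.node (.leaf 36676) (.leaf 0))) (.node (.node (.leaf 21821) (.leaf 0)) (.node (.leaf 3410) (.leaf 0))))) (.node (.node (.node (.node (.leaf 84790) (.leaf 25665)) (.node (.leaf 131017) (.leaf 0))) (.node (.node (.leaf 82319) (.leaf 0)) (.node (.leaf 107875) (.leaf 0)))) (.node (.node (.node (.leaf 39187) (.leaf 15586)) (.node (.leaf 30005) (.leaf 0))) (.node (.node (.leaf 54602) (.leaf 0)) (.node (.leaf 52553) (.leaf 0)))))) (.node (.node (.node (.node (.node (.leaf 101872) (.leaf 16534)) (.node (.leaf 12667) (.leaf 0))) (.node (.node (.leaf 128919) (.leaf 0)) (.node (.leaf 6052) (.leaf 0)))) (.node (.node (.node (.leaf 96048) (.leaf 27246)) (.node (.leaf 86328) (.leaf 0))) (.node (.node (.leaf 501) (.leaf 0)) (.node (.leaf 114556) (.leaf 0))))) (.node (.node (.node (.node (.leaf 5593) (.leaf 83920)) (.node (.leaf 64212) (.leaf 0))) (.node (.node (.leaf 121837) (.leaf 0)) (.node (.leaf 80355) (.leaf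 0)))) (.node (.node (.node (.leaf 121822) (.leaf 51152)) (.node (.leaf 35158) (.leaf 0))) (.node (.node (.leaf 21464) (.leaf 0)) (.node (.leaf 85269) (.leaf 0))))))))

def kT4 : NT := .node (.node (.node (.node (.node (.node (.node (.node (.leaf 10320) (.leaf 9720)) (.node (.leaf 99162) (.leaf 0))) (.node (.node (.leaf 53149) (.leaf 102289)) (.node (.leaf 55538) (.leaf 0)))) (.node (.node (.node (.leaf 6338) (.leaf 75538)) (.node (.leaf 37212) (.leaf 0))) (.node (.node (.leaf 85810) (.leaf 0)) (.node (.leaf 22496) (.leaf 0))))) (.node (.node (.node (.node (.leaf 15624) (.leaf 17117)) (.node (.leaf 17250) (.leaf 0))) (.node (.node (.leaf 49368) (.leaf 0)) (.node (.leaf 119282) (.leaf 0)))) (.node (.node (.node (.leaf 76698) (.leaf 46826)) (.node (.leaf 7349) (.leaf 0))) (.node (.node (.leaf 9580) (.leaf 0)) (.node (.leaf 128394) (.leaf 0)))))) (.node (.node (.node (.node (.node (.leaf 67543) (.leaf 13914)) (.node (.leaf 48639) (.leaf 0))) (.node (.node (.leaf 55020) (.leaf 0)) (.node (.leaf 110406) (.leaf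 0)))) (.node (.node (.node (.leaf 87549) (.leaf 19187)) (.node (.leaf 130039) (.leaf 0))) (.node (.node (.leaf 48919) (.leaf 0)) (.node (.leaf 14193) (.leaf 0))))) (.node (.node (.node (.node (.leaf 94673) (.leaf 99269)) (.node (.leaf 119066) (.leaf 0))) (.node (.node (.leaf 63733) (.leaf 0)) (.node (.leaf 47363) (.leaf 0)))) (.node (.node (.node (.leaf 81289) (.leaf 4436)) (.node (.leaf 87992) (.leaf 0))) (.node (.node (.leaf 19606) (.leaf 0)) (.node (.leaf 49458) (.leaf 0))))))) (.node (.node (.node (.node (.node (.node (.leaf 71960) (.leaf 61220)) (.node (.leaf 76264) (.leaf 0))) (.node (.node (.leaf 81807) (.leaf 0)) (.node (.leaf 24936) (.leaf 0)))) (.node (.node (.node (.leaf 80841) (.leaf 98257)) (.node (.leaf 17306) (.leaf 0))) (.node (.node (.leaf 68932) (.leaf 0)) (.node (.leaf 13684) (.leaf 0))))) (.node (.node (.node (.node (.leaf 126813) (.leaf 2994)) (.node (.leaf 43747) (.leaf 0))) (.node (.node (.leaf 4654) (.leaf 0)) (.node (.leaf 68354) (.leaf 0)))) (.node (.node (.node (.leaf 14672)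 (.leaf 16582)) (.node (.leaf 76208) (.leaf 0))) (.node (.node (.leaf 60262) (.leaf 0)) (.node (.leaf 65505) (.leaf 0)))))) (.node (.node (.node (.node (.node (.leaf 124369) (.leaf 111479)) (.node (.leaf 8260) (.leaf 0))) (.node (.node (.leaf 101222) (.leaf 0)) (.node (.leaf 2747) (.leaf 0)))) (.node (.node (.node (.leaf 112428) (.leaf 81399)) (.node (.leaf 7431) (.leaf 0))) (.node (.node (.leaf 97731) (.leaf 0)) (.node (.leaf 102369) (.leaf 0))))) (.node (.node (.node (.node (.leaf 42417) (.leaf 5653)) (.node (.leaf 94494) (.leaf 0))) (.node (.node (.leaf 41373) (.leaf 0)) (.node (.leaf 23177) (.leaf 0)))) (.node (.node (.node (.leaf 32536) (.leaf 3252)) (.node (.leaf 13460) (.leaf 0))) (.node (.node (.leaf 38358) (.leaf 0)) (.node (.leaf 97126) (.leaf 0)))))))) (.node (.node (.node (.node (.node (.node (.node (.leaf 44280) (.leaf 63209)) (.node (.leaf 120830) (.leaf 0))) (.node (.node (.leaf 106375) (.leaf 0)) (.node (.leaf 10858) (.leaf 0)))) (.node (.node (.node (.leaf 39337) (.leaf 128998)) (.node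 (.leaf 47440) (.leaf 0))) (.node (.node (.leaf 90031) (.leaf 0)) (.node (.leaf 60611) (.leaf 0))))) (.node (.node (.node (.node (.leaf 112898) (.leaf 9203)) (.node (.leaf 22826) (.leaf 0))) (.node (.node (.leaf 48986) (.leaf 0)) (.node (.leaf 21661) (.leaf 0)))) (.node (.node (.node (.leaf 88477) (.leaf 1355)) (.node (.leaf 11687) (.leaf 0))) (.node (.node (.leaf 71435) (.leaf 0)) (.node (.leaf 40659) (.leaf 0)))))) (.node (.node (.node (.node (.node (.leaf 126255) (.leaf 10844)) (.node (.leaf 41619) (.leaf 0))) (.node (.node (.leaf 59852) (.leaf 0)) (.node (.leaf 30065) (.leaf 0)))) (.node (.node (.node (.leaf 36510) (.leaf 36674)) (.node (.leaf 79827) (.leaf 0))) (.node (.node (.leaf 70010) (.leaf 0)) (.node (.leaf 9049) (.leaf 0))))) (.node (.node (.node (.node (.leaf 48335) (.leaf 118100)) (.node (.leaf 114656) (.leaf 0))) (.node (.node (.leaf 63749) (.leaf 0)) (.node (.leaf 32384) (.leaf 0)))) (.node (.node (.node (.leaf 98739) (.leaf 28253)) (.node (.leaf 116552) (.leaf 0))) (.node (.node (.leaf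 79824) (.leaf 0)) (.node (.leaf 119589) (.leaf 0))))))) (.node (.node (.node (.node (.node (.node (.leaf 24746) (.leaf 57517)) (.node (.leaf 88459) (.leaf 0))) (.node (.node (.leaf 28051) (.leaf 0)) (.node (.leaf 129340) (.leaf 0)))) (.node (.node (.node (.leaf 6989) (.leaf 76673)) (.node (.leaf 92514) (.leaf 0))) (.node (.node (.leaf 3904) (.leaf 0)) (.node (.leaf 41204) (.leaf 0))))) (.node (.node (.node (.node (.leaf 31335) (.leaf 108442)) (.node (.leaf 327) (.leaf 0))) (.node (.node (.leaf 36546) (.leaf 0)) (.node (.leaf 9006) (.leaf 0)))) (.node (.node (.node (.leaf 47958) (.leaf 56536)) (.node (.leaf 92488) (.leaf 0))) (.node (.node (.leaf 105257) (.leaf 0)) (.node (.leaf 34090) (.leaf 0)))))) (.node (.node (.node (.node (.node (.leaf 95026) (.leaf 47553)) (.node (.leaf 78713) (.leaf 0))) (.node (.node (.leaf 57277) (.leaf 0)) (.node (.leaf 117052) (.leaf 0)))) (.node (.node (.node (.leaf 72995) (.leaf 10341)) (.node (.leaf 93664) (.leaf 0))) (.node (.node (.leaf 4330) (.leaf 0)) (.node (.leaf 29127)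 (.leaf 0))))) (.node (.node (.node (.node (.leaf 3624) (.leaf 11253)) (.node (.leaf 12427) (.leaf 0))) (.node (.node (.leaf 49989) (.leaf 0)) (.node (.leaf 25203) (.leaf 0)))) (.node (.node (.node (.leaf 53546) (.leaf 49514)) (.node (.leaf 60321) (.leaf 0))) (.node (.node (.leaf 65525) (.leaf 0)) (.node (.leaf 10829) (.leaf 0))))))))

def kT5 : NT := .node (.node (.node (.node (.node (.node (.node (.node (.leaf 25006) (.leaf 19350)) (.node (.leaf 41660) (.leaf 0))) (.node (.node (.leaf 83952) (.leaf 15514)) (.node (.leaf 130443) (.leaf 0)))) (.node (.node (.node (.leaf 98147) (.leaf 33669)) (.node (.leaf 4152) (.leaf 0))) (.node (.node (.leaf 47021) (.leaf 0)) (.node (.leaf 26753) (.leaf 0))))) (.node (.node (.node (.node (.leaf 3121) (.leaf 108299)) (.node (.leaf 75227) (.leaf 0))) (.node (.node (.leaf 116555) (.leaf 0)) (.node (.leaf 17183) (.leaf 0)))) (.node (.node (.node (.leaf 122839) (.leaf 11102)) (.node (.leaf 22427) (.leaf 0))) (.node (.node (.leaf 64491) (.leaf 0)) (.node (.leaf 11349) (.leaf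 0)))))) (.node (.node (.node (.node (.node (.leaf 126441) (.leaf 18430)) (.node (.leaf 30851) (.leaf 0))) (.node (.node (.leaf 18090) (.leaf 0)) (.node (.leaf 16885) (.leaf 0)))) (.node (.node (.node (.leaf 94206) (.leaf 76143)) (.node (.leaf 62213) (.leaf 0))) (.node (.node (.leaf 34057) (.leaf 0)) (.node (.leaf 9643) (.leaf 0))))) (.node (.node (.node (.node (.leaf 17778) (.leaf 28447)) (.node (.leaf 130529) (.leaf 0))) (.node (.node (.leaf 83318) (.leaf 0)) (.node (.leaf 29051) (.leaf 0)))) (.node (.node (.node (.leaf 69510) (.leaf 15005)) (.node (.leaf 31527) (.leaf 0))) (.node (.node (.leaf 8390) (.leaf 0)) (.node (.leaf 119685) (.leaf 0))))))) (.node (.node (.node (.node (.node (.node (.leaf 65830) (.leaf 43777)) (.node (.leaf 120292) (.leaf 0))) (.node (.node (.leaf 12192) (.leaf 0)) (.node (.leaf 49657) (.leaf 0)))) (.node (.node (.node (.leaf 66929) (.leaf 81805)) (.node (.leaf 38219) (.leaf 0))) (.node (.node (.leaf 98155) (.leaf 0)) (.node (.leaf 83897) (.leaf 0))))) (.node (.node (.node (.node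 (.leaf 54180) (.leaf 48962)) (.node (.leaf 50626) (.leaf 0))) (.node (.node (.leaf 127927) (.leaf 0)) (.node (.leaf 86805) (.leaf 0)))) (.node (.node (.node (.leaf 24929) (.leaf 36201)) (.node (.leaf 29791) (.leaf 0))) (.node (.node (.leaf 48438) (.leaf 0)) (.node (.leaf 111955) (.leaf 0)))))) (.node (.node (.node (.node (.node (.leaf 17713) (.leaf 56645)) (.node (.leaf 32160) (.leaf 0))) (.node (.node (.leaf 9685) (.leaf 0)) (.node (.leaf 55947) (.leaf 0)))) (.node (.node (.node (.leaf 84337) (.leaf 99317)) (.node (.leaf 126879) (.leaf 0))) (.node (.node (.leaf 10632) (.leaf 0)) (.node (.leaf 2396) (.leaf 0))))) (.node (.node (.node (.node (.leaf 102657) (.leaf 34571)) (.node (.leaf 67485) (.leaf 0))) (.node (.node (.leaf 92018) (.leaf 0)) (.node (.leaf 66473) (.leaf 0)))) (.node (.node (.node (.leaf 82753) (.leaf 50363)) (.node (.leaf 107512) (.leaf 0))) (.node (.node (.leaf 13579) (.leaf 0)) (.node (.leaf 13906) (.leaf 0)))))))) (.node (.node (.node (.node (.node (.node (.node (.leaf 62290) (.leaf 85858))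 (.node (.leaf 9584) (.leaf 0))) (.node (.node (.leaf 39779) (.leaf 0)) (.node (.leaf 34565) (.leaf 0)))) (.node (.node (.node (.leaf 45534) (.leaf 19454)) (.node (.leaf 69102) (.leaf 0))) (.node (.node (.leaf 8108) (.leaf 0)) (.node (.leaf 116199) (.leaf 0))))) (.node (.node (.node (.node (.leaf 73622) (.leaf 87544)) (.node (.leaf 33751) (.leaf 0))) (.node (.node (.leaf 82185) (.leaf 0)) (.node (.leaf 64810) (.leaf 0)))) (.node (.node (.node (.leaf 41918) (.leaf 92930)) (.node (.leaf 31323) (.leaf 0))) (.node (.node (.leaf 11306) (.leaf 0)) (.node (.leaf 124349) (.leaf 0)))))) (.node (.node (.node (.node (.node (.leaf 4485) (.leaf 58738)) (.node (.leaf 20202) (.leaf 0))) (.node (.node (.leaf 125195) (.leaf 0)) (.node (.leaf 724) (.leaf 0)))) (.node (.node (.node (.leaf 7136) (.leaf 11683)) (.node (.leaf 20069) (.leaf 0))) (.node (.node (.leaf 54131) (.leaf 0)) (.node (.leaf 76798) (.leaf 0))))) (.node (.node (.node (.node (.leaf 4161) (.leaf 28483)) (.node (.leaf 102179) (.leaf 0))) (.node (.node (.leaf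 64684) (.leaf 0)) (.node (.leaf 126461) (.leaf 0)))) (.node (.node (.node (.leaf 55001) (.leaf 11885)) (.node (.leaf 75114) (.leaf 0))) (.node (.node (.leaf 34999) (.leaf 0)) (.node (.leaf 88356) (.leaf 0))))))) (.node (.node (.node (.node (.node (.node (.leaf 96027) (.leaf 117020)) (.node (.leaf 29279) (.leaf 0))) (.node (.node (.leaf 12710) (.leaf 0)) (.node (.leaf 51330) (.leaf 0)))) (.node (.node (.node (.leaf 8092) (.leaf 25082)) (.node (.leaf 27424) (.leaf 0))) (.node (.node (.leaf 1954) (.leaf 0)) (.node (.leaf 17897) (.leaf 0))))) (.node (.node (.node (.node (.leaf 125777) (.leaf 108951)) (.node (.leaf 38117) (.leaf 0))) (.node (.node (.leaf 8367) (.leaf 0)) (.node (.leaf 40206) (.leaf 0)))) (.node (.node (.node (.leaf 18668) (.leaf 66453)) (.node (.leaf 120759) (.leaf 0))) (.node (.node (.leaf 8232) (.leaf 0)) (.node (.leaf 1543) (.leaf 0)))))) (.node (.node (.node (.node (.node (.leaf 111904) (.leaf 125256)) (.node (.leaf 81777) (.leaf 0))) (.node (.node (.leaf 91096) (.leaf 0)) (.node (.leaf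 5821) (.leaf 0)))) (.node (.node (.node (.leaf 13665) (.leaf 98797)) (.node (.leaf 61340) (.leaf 0))) (.node (.node (.leaf 75242) (.leaf 0)) (.node (.leaf 114661) (.leaf 0))))) (.node (.node (.node (.node (.leaf 128314) (.leaf 127244)) (.node (.leaf 17388) (.leaf 0))) (.node (.node (.leaf 45991) (.leaf 0)) (.node (.leaf 103360) (.leaf 0)))) (.node (.node (.node (.leaf 13566) (.leaf 54641)) (.node (.leaf 463) (.leaf 0))) (.node (.node (.leaf 77639) (.leaf 0)) (.node (.leaf 116194) (.leaf 0))))))))

def kT6 : NT := .node (.node (.node (.node (.node (.node (.node (.node (.leaf 37009) (.leaf 126735)) (.node (.leaf 10456) (.leaf 0))) (.node (.node (.leaf 17275) (.leaf 44828)) (.node (.leaf 106433) (.leaf 0)))) (.node (.node (.node (.leaf 60825) (.leaf 31691)) (.node (.leaf 103325) (.leaf 0))) (.node (.node (.leaf 96025) (.leaf 0)) (.node (.leaf 60870) (.leaf 0))))) (.node (.node (.node (.node (.leaf 61268) (.leaf 52023)) (.node (.leaf 21362) (.leaf 0))) (.node (.node (.leaf 129411) (.leaf 0)) (.node (.leaf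 76126) (.leaf 0)))) (.node (.node (.node (.leaf 49075) (.leaf 29555)) (.node (.leaf 2773) (.leaf 0))) (.node (.node (.leaf 39341) (.leaf 0)) (.node (.leaf 25358) (.leaf 0)))))) (.node (.node (.node (.node (.node (.leaf 101326) (.leaf 106420)) (.node (.leaf 38723) (.leaf 0))) (.node (.node (.leaf 41299) (.leaf 0)) (.node (.leaf 1511) (.leaf 0)))) (.node (.node (.node (.leaf 124250) (.leaf 19084)) (.node (.leaf 58590) (.leaf 0))) (.node (.node (.leaf 96009) (.leaf 0)) (.node (.leaf 79803) (.leaf 0))))) (.node (.node (.node (.node (.leaf 24289) (.leaf 93081)) (.node (.leaf 53655) (.leaf 0))) (.node (.node (.leaf 26312) (.leaf 0)) (.node (.leaf 119793) (.leaf 0)))) (.node (.node (.node (.leaf 18091) (.leaf 90444)) (.node (.leaf 38888) (.leaf 0))) (.node (.node (.leaf 73632) (.leaf 0)) (.node (.leaf 8920) (.leaf 0))))))) (.node (.node (.node (.node (.node (.node (.leaf 107391) (.leaf 104704)) (.node (.leaf 95010) (.leaf 0))) (.node (.node (.leaf 110446) (.leaf 0)) (.node (.leaf 23960) (.leaf 0)))) (.node (.node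 (.node (.leaf 35546) (.leaf 44213)) (.node (.leaf 4921) (.leaf 0))) (.node (.node (.leaf 130375) (.leaf 0)) (.node (.leaf 87935) (.leaf 0))))) (.node (.node (.node (.node (.leaf 27801) (.leaf 32110)) (.node (.leaf 1715) (.leaf 0))) (.node (.node (.leaf 20925) (.leaf 0)) (.node (.leaf 46020) (.leaf 0)))) (.node (.node (.node (.leaf 109893) (.leaf 41731)) (.node (.leaf 14701) (.leaf 0))) (.node (.node (.leaf 123353) (.leaf 0)) (.node (.leaf 109516) (.leaf 0)))))) (.node (.node (.node (.node (.node (.leaf 110057) (.leaf 46498)) (.node (.leaf 95185) (.leaf 0))) (.node (.node (.leaf 97188) (.leaf 0)) (.node (.leaf 90906) (.leaf 0)))) (.node (.node (.node (.leaf 99086) (.leaf 103211)) (.node (.leaf 26785) (.leaf 0))) (.node (.node (.leaf 98143) (.leaf 0)) (.node (.leaf 48072) (.leaf 0))))) (.node (.node (.node (.node (.leaf 113527) (.leaf 34165)) (.node (.leaf 25780) (.leaf 0))) (.node (.node (.leaf 130879) (.leaf 0)) (.node (.leaf 24725) (.leaf 0)))) (.node (.node (.node (.leaf 63887) (.leaf 7723)) (.node (.leaf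 62772) (.leaf 0))) (.node (.node (.leaf 74151) (.leaf 0)) (.node (.leaf 113583) (.leaf 0)))))))) (.node (.node (.node (.node (.node (.node (.node (.leaf 1467) (.leaf 36638)) (.node (.leaf 37805) (.leaf 0))) (.node (.node (.leaf 76060) (.leaf 0)) (.node (.leaf 41402) (.leaf 0)))) (.node (.node (.node (.leaf 116700) (.leaf 19178)) (.node (.leaf 48047) (.leaf 0))) (.node (.node (.leaf 115494) (.leaf 0)) (.node (.leaf 36332) (.leaf 0))))) (.node (.node (.node (.node (.leaf 11979) (.leaf 45443)) (.node (.leaf 79245) (.leaf 0))) (.node (.node (.leaf 65889) (.leaf 0)) (.node (.leaf 29249) (.leaf 0)))) (.node (.node (.node (.leaf 5378) (.leaf 42257)) (.node (.leaf 9449) (.leaf 0))) (.node (.node (.leaf 111464) (.leaf 0)) (.node (.leaf 10912) (.leaf 0)))))) (.node (.node (.node (.node (.node (.leaf 8025) (.leaf 52108)) (.node (.leaf 10168) (.leaf 0))) (.node (.node (.leaf 36061) (.leaf 0)) (.node (.leaf 73150) (.leaf 0)))) (.node (.node (.node (.leaf 51954) (.leaf 123372)) (.node (.leaf 90597) (.leaf 0))) (.node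 (.node (.leaf 75691) (.leaf 0)) (.node (.leaf 70453) (.leaf 0))))) (.node (.node (.node (.node (.leaf 39230) (.leaf 908)) (.node (.leaf 10107) (.leaf 0))) (.node (.node (.leaf 3526) (.leaf 0)) (.node (.leaf 94606) (.leaf 0)))) (.node (.node (.node (.leaf 55464) (.leaf 40729)) (.node (.leaf 4884) (.leaf 0))) (.node (.node (.leaf 83322) (.leaf 0)) (.node (.leaf 71561) (.leaf 0))))))) (.node (.node (.node (.node (.node (.node (.leaf 1017) (.leaf 31710)) (.node (.leaf 65418) (.leaf 0))) (.node (.node (.leaf 71648) (.leaf 0)) (.node (.leaf 129795) (.leaf 0)))) (.node (.node (.node (.leaf 17063) (.leaf 56120)) (.node (.leaf 40800) (.leaf 0))) (.node (.node (.leaf 128966) (.leaf 0)) (.node (.leaf 52872) (.leaf 0))))) (.node (.node (.node (.node (.leaf 75040) (.leaf 103697)) (.node (.leaf 29506) (.leaf 0))) (.node (.node (.leaf 102777) (.leaf 0)) (.node (.leaf 7577) (.leaf 0)))) (.node (.node (.node (.leaf 92560) (.leaf 115640)) (.node (.leaf 123666) (.leaf 0))) (.node (.node (.leaf 39338) (.leaf 0)) (.node (.leaf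 74174) (.leaf 0)))))) (.node (.node (.node (.node (.node (.leaf 38165) (.leaf 17773)) (.node (.leaf 18124) (.leaf 0))) (.node (.node (.leaf 40622) (.leaf 0)) (.node (.leaf 102203) (.leaf 0)))) (.node (.node (.node (.leaf 86962) (.leaf 4667)) (.node (.leaf 97172) (.leaf 0))) (.node (.node (.leaf 95140) (.leaf 0)) (.node (.leaf 43435) (.leaf 0))))) (.node (.node (.node (.node (.leaf 40167) (.leaf 34653)) (.node (.leaf 54662) (.leaf 0))) (.node (.node (.leaf 46725) (.leaf 0)) (.node (.leaf 125308) (.leaf 0)))) (.node (.node (.node (.leaf 100200) (.leaf 118559)) (.node (.leaf 12883) (.leaf 0))) (.node (.node (.leaf 44368) (.leaf 0)) (.node (.leaf 51390) (.leaf 0))))))))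

def kT7 : NT := .node (.node (.node (.node (.node (.node (.node (.node (.leaf 4673) (.leaf 115538)) (.node (.leaf 46486) (.leaf 0))) (.node (.node (.leaf 97243) (.leaf 105787)) (.node (.leaf 2883) (.leaf 0)))) (.node (.node (.node (.leaf 26208) (.leaf 73536)) (.node (.leaf 29905) (.leaf 0))) (.node (.node (.leaf 49872) (.leaf 0)) (.node (.leaf 118690) (.leaf 0))))) (.node (.node (.node (.node (.leaf 112125) (.leaf 29312)) (.node (.leaf 59543) (.leaf 0))) (.node (.node (.leaf 7189) (.leaf 0)) (.node (.leaf 29427) (.leaf 0)))) (.node (.node (.node (.leaf 3242) (.leaf 105801)) (.node (.leaf 101266) (.leaf 0))) (.node (.node (.leaf 16374) (.leaf 0)) (.node (.leaf 59661) (.leaf 0)))))) (.node (.node (.node (.node (.node (.leaf 10552) (.leaf 75068)) (.node (.leaf 41238) (.leaf 0))) (.node (.node (.leaf 109361) (.leaf 0)) (.node (.leaf 15714) (.leaf 0)))) (.node (.node (.node (.leaf 47012) (.leaf 52373)) (.node (.leaf 57646) (.leaf 0))) (.node (.node (.leaf 50032) (.leaf 0)) (.node (.leaf 20038) (.leaf 0)))))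 (.node (.node (.node (.node (.leaf 44725) (.leaf 35488)) (.node (.leaf 40381) (.leaf 0))) (.node (.node (.leaf 48625) (.leaf 0)) (.node (.leaf 84363) (.leaf 0)))) (.node (.node (.node (.leaf 96682) (.leaf 62448)) (.node (.leaf 94663) (.leaf 0))) (.node (.node (.leaf 59545) (.leaf 0)) (.node (.leaf 111009) (.leaf 0))))))) (.node (.node (.node (.node (.node (.node (.leaf 128256) (.leaf 84281)) (.node (.leaf 44996) (.leaf 0))) (.node (.node (.leaf 84372) (.leaf 0)) (.node (.leaf 18330) (.leaf 0)))) (.node (.node (.node (.leaf 89427) (.leaf 30859)) (.node (.leaf 34991) (.leaf 0))) (.node (.node (.leaf 55503) (.leaf 0)) (.node (.leaf 102791) (.leaf 0))))) (.node (.node (.node (.node (.leaf 21597) (.leaf 46229)) (.node (.leaf 110918) (.leaf 0))) (.node (.node (.leaf 32354) (.leaf 0)) (.node (.leaf 78180) (.leaf 0)))) (.node (.node (.node (.leaf 130337) (.leaf 13252)) (.node (.leaf 57512) (.leaf 0))) (.node (.node (.leaf 56700) (.leaf 0)) (.node (.leaf 92462) (.leaf 0)))))) (.node (.node (.node (.node (.node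 (.leaf 114025) (.leaf 86843)) (.node (.leaf 19202) (.leaf 0))) (.node (.node (.leaf 105921) (.leaf 0)) (.node (.leaf 117243) (.leaf 0)))) (.node (.node (.node (.leaf 30563) (.leaf 71588)) (.node (.leaf 25030) (.leaf 0))) (.node (.node (.leaf 97777) (.leaf 0)) (.node (.leaf 4472) (.leaf 0))))) (.node (.node (.node (.node (.leaf 96254) (.leaf 27396)) (.node (.leaf 101735) (.leaf 0))) (.node (.node (.leaf 127417) (.leaf 0)) (.node (.leaf 80313) (.leaf 0)))) (.node (.node (.node (.leaf 24190) (.leaf 51900)) (.node (.leaf 31125) (.leaf 0))) (.node (.node (.leaf 58729) (.leaf 0)) (.node (.leaf 31113) (.leaf 0)))))))) (.node (.node (.node (.node (.node (.node (.node (.leaf 6695) (.leaf 72580)) (.node (.leaf 37720) (.leaf 0))) (.node (.node (.leaf 27900) (.leaf 0)) (.node (.leaf 98287) (.leaf 0)))) (.node (.node (.node (.leaf 70552) (.leaf 4847)) (.node (.leaf 104396) (.leaf 0))) (.node (.node (.leaf 24735) (.leaf 0)) (.node (.leaf 16050) (.leaf 0))))) (.node (.node (.node (.node (.leaf 36222) (.leaf 39707)) (.node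 (.leaf 59174) (.leaf 0))) (.node (.node (.leaf 96628) (.leaf 0)) (.node (.leaf 115199) (.leaf 0)))) (.node (.node (.node (.leaf 3659) (.leaf 62156)) (.node (.leaf 19431) (.leaf 0))) (.node (.node (.leaf 41816) (.leaf 0)) (.node (.leaf 22283) (.leaf 0)))))) (.node (.node (.node (.node (.node (.leaf 32423) (.leaf 2784)) (.node (.leaf 80662) (.leaf 0))) (.node (.node (.leaf 130986) (.leaf 0)) (.node (.leaf 51868) (.leaf 0)))) (.node (.node (.node (.leaf 89433) (.leaf 11666)) (.node (.leaf 9544) (.leaf 0))) (.node (.node (.leaf 101301) (.leaf 0)) (.node (.leaf 590) (.leaf 0))))) (.node (.node (.node (.node (.leaf 96649) (.leaf 101676)) (.node (.leaf 59) (.leaf 0))) (.node (.node (.leaf 67455) (.leaf 0)) (.node (.leaf 25424) (.leaf 0)))) (.node (.node (.node (.leaf 95592) (.leaf 18729)) (.node (.leaf 107305) (.leaf 0))) (.node (.node (.leaf 129007) (.leaf 0)) (.node (.leaf 903) (.leaf 0))))))) (.node (.node (.node (.node (.node (.node (.leaf 42208) (.leaf 34577)) (.node (.leaf 123838) (.leaf 0))) (.node (.node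 (.leaf 118529) (.leaf 0)) (.node (.leaf 24209) (.leaf 0)))) (.node (.node (.node (.leaf 17218) (.leaf 57304)) (.node (.leaf 34987) (.leaf 0))) (.node (.node (.leaf 44299) (.leaf 0)) (.node (.leaf 15108) (.leaf 0))))) (.node (.node (.node (.node (.leaf 57152) (.leaf 98282)) (.node (.leaf 5564) (.leaf 0))) (.node (.node (.leaf 52478) (.leaf 0)) (.node (.leaf 112032) (.leaf 0)))) (.node (.node (.node (.leaf 89416) (.leaf 37303)) (.node (.leaf 27929) (.leaf 0))) (.node (.node (.leaf 27372) (.leaf 0)) (.node (.leaf 57602) (.leaf 0)))))) (.node (.node (.node (.node (.node (.leaf 38209) (.leaf 31477)) (.node (.leaf 20332) (.leaf 0))) (.node (.node (.leaf 127362) (.leaf 0)) (.node (.leaf 63879) (.leaf 0)))) (.node (.node (.node (.leaf 7159) (.leaf 3721)) (.node (.leaf 38104) (.leaf 0))) (.node (.node (.leaf 64722) (.leaf 0)) (.node (.leaf 49847) (.leaf 0))))) (.node (.node (.node (.node (.leaf 16266) (.leaf 64373)) (.node (.leaf 40749) (.leaf 0))) (.node (.node (.leaf 62803) (.leaf 0)) (.node (.leaf 119723) (.leaf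 0)))) (.node (.node (.node (.leaf 115987) (.leaf 35225)) (.node (.leaf 5230) (.leaf 0))) (.node (.node (.leaf 60388) (.leaf 0)) (.node (.leaf 99209) (.leaf 0))))))))

def kT8 : NT := .node (.node (.node (.node (.node (.node (.node (.node (.leaf 34172) (.leaf 203)) (.node (.leaf 7381) (.leaf 0))) (.node (.node (.leaf 57247) (.leaf 88946)) (.node (.leaf 81687) (.leaf 0)))) (.node (.node (.node (.leaf 13572) (.leaf 61074)) (.node (.leaf 11358) (.leaf 0))) (.node (.node (.leaf 93970) (.leaf 0)) (.node (.leaf 62099) (.leaf 0))))) (.node (.node (.node (.node (.leaf 118623) (.leaf 130533)) (.node (.leaf 61943) (.leaf 0))) (.node (.node (.leaf 13952) (.leaf 0)) (.node (.leaf 42662) (.leaf 0)))) (.node (.node (.node (.leaf 98779) (.leaf 47517)) (.node (.leaf 43355) (.leaf 0))) (.node (.node (.leaf 101252) (.leaf 0)) (.node (.leaf 38297) (.leaf 0)))))) (.node (.node (.node (.node (.node (.leaf 31142) (.leaf 107004)) (.node (.leaf 63391) (.leaf 0))) (.node (.node (.leaf 42401) (.leaf 0)) (.node (.leaf 41618) (.leaf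 0)))) (.node (.node (.node (.leaf 114538) (.leaf 30199)) (.node (.leaf 27620) (.leaf 0))) (.node (.node (.leaf 94083) (.leaf 0)) (.node (.leaf 41743) (.leaf 0))))) (.node (.node (.node (.node (.leaf 127817) (.leaf 45288)) (.node (.leaf 49066) (.leaf 0))) (.node (.node (.leaf 63670) (.leaf 0)) (.node (.leaf 37061) (.leaf 0)))) (.node (.node (.node (.leaf 17796) (.leaf 13857)) (.node (.leaf 120596) (.leaf 0))) (.node (.node (.leaf 67933) (.leaf 0)) (.node (.leaf 28893) (.leaf 0))))))) (.node (.node (.node (.node (.node (.node (.leaf 6483) (.leaf 7033)) (.node (.leaf 17221) (.leaf 0))) (.node (.node (.leaf 72096) (.leaf 0)) (.node (.leaf 55613) (.leaf 0)))) (.node (.node (.node (.leaf 6017) (.leaf 30091)) (.node (.leaf 9802) (.leaf 0))) (.node (.node (.leaf 57675) (.leaf 0)) (.node (.leaf 101296) (.leaf 0))))) (.node (.node (.node (.node (.leaf 81275) (.leaf 17253)) (.node (.leaf 38703) (.leaf 0))) (.node (.node (.leaf 37636) (.leaf 0)) (.node (.leaf 47875) (.leaf 0)))) (.node (.node (.node (.leaf 70460)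 (.leaf 52942)) (.node (.leaf 18020) (.leaf 0))) (.node (.node (.leaf 103379) (.leaf 0)) (.node (.leaf 103889) (.leaf 0)))))) (.node (.node (.node (.node (.node (.leaf 106296) (.leaf 7468)) (.node (.leaf 129871) (.leaf 0))) (.node (.node (.leaf 121641) (.leaf 0)) (.node (.leaf 44030) (.leaf 0)))) (.node (.node (.node (.leaf 77619) (.leaf 122297)) (.node (.leaf 27335) (.leaf 0))) (.node (.node (.leaf 48530) (.leaf 0)) (.node (.leaf 48118) (.leaf 0))))) (.node (.node (.node (.node (.leaf 73645) (.leaf 73996)) (.node (.leaf 95141) (.leaf 0))) (.node (.node (.leaf 73620) (.leaf 0)) (.node (.leaf 19686) (.leaf 0)))) (.node (.node (.node (.leaf 82414) (.leaf 122640)) (.node (.leaf 85781) (.leaf 0))) (.node (.node (.leaf 15843) (.leaf 0)) (.node (.leaf 78794) (.leaf 0)))))))) (.node (.node (.node (.node (.node (.node (.node (.leaf 24967) (.leaf 38231)) (.node (.leaf 23705) (.leaf 0))) (.node (.node (.leaf 52099) (.leaf 0)) (.node (.leaf 127959) (.leaf 0)))) (.node (.node (.node (.leaf 74118) (.leaf 39053)) (.node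 (.leaf 109935) (.leaf 0))) (.node (.node (.leaf 48102) (.leaf 0)) (.node (.leaf 29470) (.leaf 0))))) (.node (.node (.node (.node (.leaf 42361) (.leaf 61400)) (.node (.leaf 16377) (.leaf 0))) (.node (.node (.leaf 125218) (.leaf 0)) (.node (.leaf 110356) (.leaf 0)))) (.node (.node (.node (.leaf 51689) (.leaf 127324)) (.node (.leaf 27017) (.leaf 0))) (.node (.node (.leaf 108968) (.leaf 0)) (.node (.leaf 369) (.leaf 0)))))) (.node (.node (.node (.node (.node (.leaf 104853) (.leaf 45286)) (.node (.leaf 18818) (.leaf 0))) (.node (.node (.leaf 123720) (.leaf 0)) (.node (.leaf 31699) (.leaf 0)))) (.node (.node (.node (.leaf 42891) (.leaf 44301)) (.node (.leaf 124894) (.leaf 0))) (.node (.node (.leaf 9722) (.leaf 0)) (.node (.leaf 61437) (.leaf 0))))) (.node (.node (.node (.node (.leaf 61375) (.leaf 92963)) (.node (.leaf 122323) (.leaf 0))) (.node (.node (.leaf 87892) (.leaf 0)) (.node (.leaf 19300) (.leaf 0)))) (.node (.node (.node (.leaf 31592) (.leaf 38629)) (.node (.leaf 97639) (.leaf 0))) (.node (.node (.leaf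 100815) (.leaf 0)) (.node (.leaf 19802) (.leaf 0))))))) (.node (.node (.node (.node (.node (.node (.leaf 97623) (.leaf 45010)) (.node (.leaf 77744) (.leaf 0))) (.node (.node (.leaf 92967) (.leaf 0)) (.node (.leaf 19212) (.leaf 0)))) (.node (.node (.node (.leaf 1855) (.leaf 122718)) (.node (.leaf 11017) (.leaf 0))) (.node (.node (.leaf 60215) (.leaf 0)) (.node (.leaf 92039) (.leaf 0))))) (.node (.node (.node (.node (.leaf 19776) (.leaf 128830)) (.node (.leaf 33414) (.leaf 0))) (.node (.node (.leaf 32370) (.leaf 0)) (.node (.leaf 128421) (.leaf 0)))) (.node (.node (.node (.leaf 40239) (.leaf 46371)) (.node (.leaf 17763) (.leaf 0))) (.node (.node (.leaf 67018) (.leaf 0)) (.node (.leaf 14835) (.leaf 0)))))) (.node (.node (.node (.node (.node (.leaf 4218) (.leaf 130826)) (.node (.leaf 120798) (.leaf 0))) (.node (.node (.leaf 97251) (.leaf 0)) (.node (.leaf 1590) (.leaf 0)))) (.node (.node (.node (.leaf 115189) (.leaf 99709)) (.node (.leaf 43686) (.leaf 0))) (.node (.node (.leaf 42794) (.leaf 0)) (.node (.leaf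 46308) (.leaf 0))))) (.node (.node (.node (.node (.leaf 12982) (.leaf 105440)) (.node (.leaf 112047) (.leaf 0))) (.node (.node (.leaf 48773) (.leaf 0)) (.node (.leaf 13437) (.leaf 0)))) (.node (.node (.node (.leaf 37243) (.leaf 74504)) (.node (.leaf 87458) (.leaf 0))) (.node (.node (.leaf 88575) (.leaf 0)) (.node (.leaf 29024) (.leaf 0))))))))

def kT9 : NT := .node (.node (.node (.node (.node (.node (.node (.node (.leaf 96541) (.leaf 117156)) (.node (.leaf 108890) (.leaf 0))) (.node (.node (.leaf 116658) (.leaf 70599)) (.node (.leaf 129359) (.leaf 0)))) (.node (.node (.node (.leaf 17802) (.leaf 20304)) (.node (.leaf 5606) (.leaf 0))) (.node (.node (.leaf 31387) (.leaf 0)) (.node (.leaf 59848) (.leaf 0))))) (.node (.node (.node (.node (.leaf 11644) (.leaf 32374)) (.node (.leaf 70619) (.leaf 0))) (.node (.node (.leaf 56029) (.leaf 0)) (.node (.leaf 86344) (.leaf 0)))) (.node (.node (.node (.leaf 21213) (.leaf 28548)) (.node (.leaf 63975) (.leaf 0))) (.node (.node (.leaf 32201) (.leaf 0)) (.node (.leaf 37618)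 (.leaf 0)))))) (.node (.node (.node (.node (.node (.leaf 101693) (.leaf 6915)) (.node (.leaf 60813) (.leaf 0))) (.node (.node (.leaf 18705) (.leaf 0)) (.node (.leaf 108463) (.leaf 0)))) (.node (.node (.node (.leaf 130882) (.leaf 49084)) (.node (.leaf 79169) (.leaf 0))) (.node (.node (.leaf 63801) (.leaf 0)) (.node (.leaf 6603) (.leaf 0))))) (.node (.node (.node (.node (.leaf 130892) (.leaf 61613)) (.node (.leaf 76795) (.leaf 0))) (.node (.node (.leaf 58567) (.leaf 0)) (.node (.leaf 122802) (.leaf 0)))) (.node (.node (.node (.leaf 22110) (.leaf 33216)) (.node (.leaf 31219) (.leaf 0))) (.node (.node (.leaf 21875) (.leaf 0)) (.node (.leaf 15786) (.leaf 0))))))) (.node (.node (.node (.node (.node (.node (.leaf 107365) (.leaf 61664)) (.node (.leaf 83242) (.leaf 0))) (.node (.node (.leaf 47750) (.leaf 0)) (.node (.leaf 14202) (.leaf 0)))) (.node (.node (.node (.leaf 129847) (.leaf 118030)) (.node (.leaf 38137) (.leaf 0))) (.node (.node (.leaf 61356) (.leaf 0)) (.node (.leaf 9562) (.leaf 0))))) (.node (.node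 (.node (.node (.leaf 45249) (.leaf 54960)) (.node (.leaf 85976) (.leaf 0))) (.node (.node (.leaf 8373) (.leaf 0)) (.node (.leaf 80712) (.leaf 0)))) (.node (.node (.node (.leaf 34550) (.leaf 110864)) (.node (.leaf 119601) (.leaf 0))) (.node (.node (.leaf 48275) (.leaf 0)) (.node (.leaf 75049) (.leaf 0)))))) (.node (.node (.node (.node (.node (.leaf 87526) (.leaf 86415)) (.node (.leaf 63714) (.leaf 0))) (.node (.node (.leaf 69048) (.leaf 0)) (.node (.leaf 117) (.leaf 0)))) (.node (.node (.node (.leaf 35465) (.leaf 40109)) (.node (.leaf 45855) (.leaf 0))) (.node (.node (.leaf 29531) (.leaf 0)) (.node (.leaf 45897) (.leaf 0))))) (.node (.node (.node (.node (.leaf 11335) (.leaf 25731)) (.node (.leaf 67335) (.leaf 0))) (.node (.node (.leaf 11978) (.leaf 0)) (.node (.leaf 13556) (.leaf 0)))) (.node (.node (.node (.leaf 94585) (.leaf 49068)) (.node (.leaf 1487) (.leaf 0))) (.node (.node (.leaf 3958) (.leaf 0)) (.node (.leaf 5406) (.leaf 0)))))))) (.node (.node (.node (.node (.node (.node (.node (.leaf 44899) (.leaf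 61109)) (.node (.leaf 21937) (.leaf 0))) (.node (.node (.leaf 83341) (.leaf 0)) (.node (.leaf 103303) (.leaf 0)))) (.node (.node (.node (.leaf 113416) (.leaf 23407)) (.node (.leaf 21635) (.leaf 0))) (.node (.node (.leaf 89989) (.leaf 0)) (.node (.leaf 58017) (.leaf 0))))) (.node (.node (.node (.node (.leaf 78139) (.leaf 80747)) (.node (.leaf 8763) (.leaf 0))) (.node (.node (.leaf 43753) (.leaf 0)) (.node (.leaf 672) (.leaf 0)))) (.node (.node (.node (.leaf 13780) (.leaf 95586)) (.node (.leaf 44512) (.leaf 0))) (.node (.node (.leaf 37692) (.leaf 0)) (.node (.leaf 48799) (.leaf 0)))))) (.node (.node (.node (.node (.node (.leaf 107816) (.leaf 129428)) (.node (.leaf 69576) (.leaf 0))) (.node (.node (.leaf 99326) (.leaf 0)) (.node (.leaf 5446) (.leaf 0)))) (.node (.node (.node (.leaf 109447) (.leaf 25077)) (.node (.leaf 64774) (.leaf 0))) (.node (.node (.leaf 57337) (.leaf 0)) (.node (.leaf 692) (.leaf 0))))) (.node (.node (.node (.node (.leaf 92485) (.leaf 77100)) (.node (.leaf 18252) (.leaf 0))) (.node (.node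 (.leaf 45972) (.leaf 0)) (.node (.leaf 92142) (.leaf 0)))) (.node (.node (.node (.leaf 71563) (.leaf 40908)) (.node (.leaf 18567) (.leaf 0))) (.node (.node (.leaf 38595) (.leaf 0)) (.node (.leaf 15659) (.leaf 0))))))) (.node (.node (.node (.node (.node (.node (.leaf 124399) (.leaf 18738)) (.node (.leaf 118717) (.leaf 0))) (.node (.node (.leaf 88919) (.leaf 0)) (.node (.leaf 111975) (.leaf 0)))) (.node (.node (.node (.leaf 118585) (.leaf 50130)) (.node (.leaf 63818) (.leaf 0))) (.node (.node (.leaf 32070) (.leaf 0)) (.node (.leaf 32088) (.leaf 0))))) (.node (.node (.node (.node (.leaf 1439) (.leaf 46550)) (.node (.leaf 11909) (.leaf 0))) (.node (.node (.leaf 96221) (.leaf 0)) (.node (.leaf 34634) (.leaf 0)))) (.node (.node (.node (.leaf 91487) (.leaf 29449)) (.node (.leaf 84243) (.leaf 0))) (.node (.node (.leaf 39923) (.leaf 0)) (.node (.leaf 60136) (.leaf 0)))))) (.node (.node (.node (.node (.node (.leaf 5603) (.leaf 87514)) (.node (.leaf 40281) (.leaf 0))) (.node (.node (.leaf 118183) (.leaf 0)) (.node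 (.leaf 44401) (.leaf 0)))) (.node (.node (.node (.leaf 87369) (.leaf 104749)) (.node (.leaf 87924) (.leaf 0))) (.node (.node (.leaf 19021) (.leaf 0)) (.node (.leaf 71589) (.leaf 0))))) (.node (.node (.node (.node (.leaf 13978) (.leaf 28598)) (.node (.leaf 64700) (.leaf 0))) (.node (.node (.leaf 8531) (.leaf 0)) (.node (.leaf 38320) (.leaf 0)))) (.node (.node (.node (.leaf 40089) (.leaf 24873)) (.node (.leaf 5303) (.leaf 0))) (.node (.node (.leaf 119127) (.leaf 0)) (.node (.leaf 1444) (.leaf 0))))))))

def kT10 : NT := .node (.node (.node (.node (.node (.node (.node (.node (.leaf 26227) (.leaf 99675)) (.node (.leaf 100777) (.leaf 0))) (.node (.node (.leaf 21730) (.leaf 6346)) (.node (.leaf 17102) (.leaf 0)))) (.node (.node (.node (.leaf 6897) (.leaf 77617)) (.node (.leaf 60798) (.leaf 0))) (.node (.node (.leaf 22305) (.leaf 0)) (.node (.leaf 87326) (.leaf 0))))) (.node (.node (.node (.node (.leaf 29429) (.leaf 25745)) (.node (.leaf 52600) (.leaf 0))) (.node (.node (.leaf 111517) (.leaf 0)) (.node (.leaf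 40126) (.leaf 0)))) (.node (.node (.node (.leaf 10818) (.leaf 1541)) (.node (.leaf 68947) (.leaf 0))) (.node (.node (.leaf 81307) (.leaf 0)) (.node (.leaf 18724) (.leaf 0)))))) (.node (.node (.node (.node (.node (.leaf 33967) (.leaf 35681)) (.node (.leaf 123822) (.leaf 0))) (.node (.node (.leaf 41308) (.leaf 0)) (.node (.leaf 54149) (.leaf 0)))) (.node (.node (.node (.leaf 96154) (.leaf 113535)) (.node (.leaf 6974) (.leaf 0))) (.node (.node (.leaf 49432) (.leaf 0)) (.node (.leaf 16278) (.leaf 0))))) (.node (.node (.node (.node (.leaf 17407) (.leaf 13816)) (.node (.leaf 21397) (.leaf 0))) (.node (.node (.leaf 111012) (.leaf 0)) (.node (.leaf 13085) (.leaf 0)))) (.node (.node (.node (.leaf 27406) (.leaf 9817)) (.node (.leaf 72987) (.leaf 0))) (.node (.node (.leaf 59696) (.leaf 0)) (.node (.leaf 20874) (.leaf 0))))))) (.node (.node (.node (.node (.node (.node (.leaf 17636) (.leaf 86896)) (.node (.leaf 59819) (.leaf 0))) (.node (.node (.leaf 51010) (.leaf 0)) (.node (.leaf 107433) (.leaf 0)))) (.node (.node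 (.node (.leaf 110926) (.leaf 124195)) (.node (.leaf 67957) (.leaf 0))) (.node (.node (.leaf 61104) (.leaf 0)) (.node (.leaf 43688) (.leaf 0))))) (.node (.node (.node (.node (.leaf 1975) (.leaf 8338)) (.node (.leaf 36192) (.leaf 0))) (.node (.node (.leaf 28028) (.leaf 0)) (.node (.leaf 4542) (.leaf 0)))) (.node (.node (.node (.leaf 50529) (.leaf 16264)) (.node (.leaf 86296) (.leaf 0))) (.node (.node (.leaf 16978) (.leaf 0)) (.node (.leaf 23726) (.leaf 0)))))) (.node (.node (.node (.node (.node (.leaf 93987) (.leaf 34441)) (.node (.leaf 58617) (.leaf 0))) (.node (.node (.leaf 30509) (.leaf 0)) (.node (.leaf 37218) (.leaf 0)))) (.node (.node (.node (.leaf 89548) (.leaf 21733)) (.node (.leaf 41748) (.leaf 0))) (.node (.node (.leaf 44341) (.leaf 0)) (.node (.leaf 110376) (.leaf 0))))) (.node (.node (.node (.node (.leaf 55431) (.leaf 16871)) (.node (.leaf 110856) (.leaf 0))) (.node (.node (.leaf 82759) (.leaf 0)) (.node (.leaf 96078) (.leaf 0)))) (.node (.node (.node (.leaf 114120) (.leaf 90495)) (.node (.leaf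 12882) (.leaf 0))) (.node (.node (.leaf 48775) (.leaf 0)) (.node (.leaf 123656) (.leaf 0)))))))) (.node (.node (.node (.node (.node (.node (.node (.leaf 60675) (.leaf 127759)) (.node (.leaf 65483) (.leaf 0))) (.node (.node (.leaf 14213) (.leaf 0)) (.node (.leaf 47059) (.leaf 0)))) (.node (.node (.node (.leaf 22866) (.leaf 123279)) (.node (.leaf 29054) (.leaf 0))) (.node (.node (.leaf 14413) (.leaf 0)) (.node (.leaf 63718) (.leaf 0))))) (.node (.node (.node (.node (.leaf 60730) (.leaf 75520)) (.node (.leaf 39605) (.leaf 0))) (.node (.node (.leaf 70984) (.leaf 0)) (.node (.leaf 90566) (.leaf 0)))) (.node (.node (.node (.leaf 50307) (.leaf 117602)) (.node (.leaf 26356) (.leaf 0))) (.node (.node (.leaf 27976) (.leaf 0)) (.node (.leaf 97603) (.leaf 0)))))) (.node (.node (.node (.node (.node (.leaf 40720) (.leaf 57569)) (.node (.leaf 46776) (.leaf 0))) (.node (.node (.leaf 18357) (.leaf 0)) (.node (.leaf 4053) (.leaf 0)))) (.node (.node (.node (.leaf 19684) (.leaf 62896)) (.node (.leaf 65437) (.leaf 0))) (.node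 (.node (.leaf 46369) (.leaf 0)) (.node (.leaf 56256) (.leaf 0))))) (.node (.node (.node (.node (.leaf 48034) (.leaf 72598)) (.node (.leaf 124394) (.leaf 0))) (.node (.node (.leaf 42136) (.leaf 0)) (.node (.leaf 55151) (.leaf 0)))) (.node (.node (.node (.leaf 391) (.leaf 30442)) (.node (.leaf 20714) (.leaf 0))) (.node (.node (.leaf 129395) (.leaf 0)) (.node (.leaf 113501) (.leaf 0))))))) (.node (.node (.node (.node (.node (.node (.leaf 48906) (.leaf 19306)) (.node (.leaf 84429) (.leaf 0))) (.node (.node (.leaf 131061) (.leaf 0)) (.node (.leaf 46724) (.leaf 0)))) (.node (.node (.node (.leaf 71633) (.leaf 48920)) (.node (.leaf 48538) (.leaf 0))) (.node (.node (.leaf 27614) (.leaf 0)) (.node (.leaf 58350) (.leaf 0))))) (.node (.node (.node (.node (.leaf 99297) (.leaf 124848)) (.node (.leaf 57158) (.leaf 0))) (.node (.node (.leaf 50174) (.leaf 0)) (.node (.leaf 23431) (.leaf 0)))) (.node (.node (.node (.leaf 54057) (.leaf 15720)) (.node (.leaf 80817) (.leaf 0))) (.node (.node (.leaf 70078) (.leaf 0)) (.node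 (.leaf 8830) (.leaf 0)))))) (.node (.node (.node (.node (.node (.leaf 103239) (.leaf 67930)) (.node (.leaf 115098) (.leaf 0))) (.node (.node (.leaf 41672) (.leaf 0)) (.node (.leaf 26324) (.leaf 0)))) (.node (.node (.node (.leaf 107814) (.leaf 85448)) (.node (.leaf 84323) (.leaf 0))) (.node (.node (.leaf 34022) (.leaf 0)) (.node (.leaf 111935) (.leaf 0))))) (.node (.node (.node (.node (.leaf 20231) (.leaf 51028)) (.node (.leaf 59018) (.leaf 0))) (.node (.node (.leaf 100863) (.leaf 0)) (.node (.leaf 40794) (.leaf 0)))) (.node (.node (.node (.leaf 130886) (.leaf 79338)) (.node (.leaf 7719) (.leaf 0))) (.node (.node (.leaf 41724) (.leaf 0)) (.node (.leaf 40180) (.leaf 0))))))))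

def kT11 : NT := .node (.node (.node (.node (.node (.node (.node (.node (.leaf 1122) (.leaf 8399)) (.node (.leaf 18416) (.leaf 0))) (.node (.node (.leaf 39673) (.leaf 43343)) (.node (.leaf 115150) (.leaf 0)))) (.node (.node (.node (.leaf 113988) (.leaf 123216)) (.node (.leaf 128410) (.leaf 0))) (.node (.node (.leaf 52565) (.leaf 0)) (.node (.leaf 12198) (.leaf 0))))) (.node (.node (.node (.node (.leaf 113144) (.leaf 25482)) (.node (.leaf 30677) (.leaf 0))) (.node (.node (.leaf 89903) (.leaf 0)) (.node (.leaf 20759) (.leaf 0)))) (.node (.node (.node (.leaf 7951) (.leaf 124317)) (.node (.leaf 84425) (.leaf 0))) (.node (.node (.leaf 20128) (.leaf 0)) (.node (.leaf 91941) (.leaf 0)))))) (.node (.node (.node (.node (.node (.leaf 2141) (.leaf 70416)) (.node (.leaf 25824) (.leaf 0))) (.node (.node (.leaf 21471) (.leaf 0)) (.node (.leaf 84276) (.leaf 0)))) (.node (.node (.node (.leaf 50001) (.leaf 107356)) (.node (.leaf 28375) (.leaf 0))) (.node (.node (.leaf 26416) (.leaf 0)) (.node (.leaf 9055) (.leaf 0)))))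 (.node (.node (.node (.node (.leaf 115167) (.leaf 44358)) (.node (.leaf 106489) (.leaf 0))) (.node (.node (.leaf 42468) (.leaf 0)) (.node (.leaf 61710) (.leaf 0)))) (.node (.node (.node (.leaf 8499) (.leaf 40435)) (.node (.leaf 35834) (.leaf 0))) (.node (.node (.leaf 26738) (.leaf 0)) (.node (.leaf 77190) (.leaf 0))))))) (.node (.node (.node (.node (.node (.node (.leaf 40886) (.leaf 7595)) (.node (.leaf 59841) (.leaf 0))) (.node (.node (.leaf 76560) (.leaf 0)) (.node (.leaf 6132) (.leaf 0)))) (.node (.node (.node (.leaf 30097) (.leaf 122770)) (.node (.leaf 7702) (.leaf 0))) (.node (.node (.leaf 45839) (.leaf 0)) (.node (.leaf 17024) (.leaf 0))))) (.node (.node (.node (.node (.leaf 93013) (.leaf 91040)) (.node (.leaf 93107) (.leaf 0))) (.node (.node (.leaf 25943) (.leaf 0)) (.node (.leaf 83874) (.leaf 0)))) (.node (.node (.node (.leaf 35634) (.leaf 3684)) (.node (.leaf 118066) (.leaf 0))) (.node (.node (.leaf 75762) (.leaf 0)) (.node (.leaf 49336) (.leaf 0)))))) (.node (.node (.node (.node (.node (.leaf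 124367) (.leaf 6599)) (.node (.leaf 49892) (.leaf 0))) (.node (.node (.leaf 49903) (.leaf 0)) (.node (.leaf 50903) (.leaf 0)))) (.node (.node (.node (.leaf 44448) (.leaf 111526)) (.node (.leaf 9437) (.leaf 0))) (.node (.node (.leaf 37591) (.leaf 0)) (.node (.leaf 130465) (.leaf 0))))) (.node (.node (.node (.node (.leaf 44995) (.leaf 51525)) (.node (.leaf 3358) (.leaf 0))) (.node (.node (.leaf 83759) (.leaf 0)) (.node (.leaf 50143) (.leaf 0)))) (.node (.node (.node (.leaf 109006) (.leaf 53242)) (.node (.leaf 56545) (.leaf 0))) (.node (.node (.leaf 9042) (.leaf 0)) (.node (.leaf 17472) (.leaf 0)))))))) (.node (.node (.node (.node (.node (.node (.node (.leaf 78786) (.leaf 91069)) (.node (.leaf 59224) (.leaf 0))) (.node (.node (.leaf 16217) (.leaf 0)) (.node (.leaf 1915) (.leaf 0)))) (.node (.node (.node (.leaf 57028) (.leaf 85780)) (.node (.leaf 96744) (.leaf 0))) (.node (.node (.leaf 33709) (.leaf 0)) (.node (.leaf 64800) (.leaf 0))))) (.node (.node (.node (.node (.leaf 21093) (.leaf 29952)) (.node (.leaf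 5031) (.leaf 0))) (.node (.node (.leaf 103241) (.leaf 0)) (.node (.leaf 92564) (.leaf 0)))) (.node (.node (.node (.leaf 116184) (.leaf 28880)) (.node (.leaf 15434) (.leaf 0))) (.node (.node (.leaf 53632) (.leaf 0)) (.node (.leaf 29387) (.leaf 0)))))) (.node (.node (.node (.node (.node (.leaf 110462) (.leaf 86810)) (.node (.leaf 84344) (.leaf 0))) (.node (.node (.leaf 21927) (.leaf 0)) (.node (.leaf 31698) (.leaf 0)))) (.node (.node (.node (.leaf 115048) (.leaf 50907)) (.node (.leaf 34162) (.leaf 0))) (.node (.node (.leaf 110061) (.leaf 0)) (.node (.leaf 31315) (.leaf 0))))) (.node (.node (.node (.node (.leaf 71600) (.leaf 122711)) (.node (.leaf 97757) (.leaf 0))) (.node (.node (.leaf 34029) (.leaf 0)) (.node (.leaf 43727) (.leaf 0)))) (.node (.node (.node (.leaf 64981) (.leaf 20362)) (.node (.leaf 7714) (.leaf 0))) (.node (.node (.leaf 40132) (.leaf 0)) (.node (.leaf 90552) (.leaf 0))))))) (.node (.node (.node (.node (.node (.node (.leaf 56592) (.leaf 19648)) (.node (.leaf 48498) (.leaf 0))) (.node (.node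 (.leaf 6073) (.leaf 0)) (.node (.leaf 25495) (.leaf 0)))) (.node (.node (.node (.leaf 51683) (.leaf 117065)) (.node (.leaf 34592) (.leaf 0))) (.node (.node (.leaf 61302) (.leaf 0)) (.node (.leaf 78608) (.leaf 0))))) (.node (.node (.node (.node (.leaf 36226) (.leaf 10838)) (.node (.leaf 32408) (.leaf 0))) (.node (.node (.leaf 98170) (.leaf 0)) (.node (.leaf 4319) (.leaf 0)))) (.node (.node (.node (.leaf 10201) (.leaf 33548)) (.node (.leaf 114946) (.leaf 0))) (.node (.node (.leaf 10721) (.leaf 0)) (.node (.leaf 26811) (.leaf 0)))))) (.node (.node (.node (.node (.node (.leaf 117613) (.leaf 78163)) (.node (.leaf 88846) (.leaf 0))) (.node (.node (.leaf 55454) (.leaf 0)) (.node (.leaf 13142) (.leaf 0)))) (.node (.node (.node (.leaf 102675) (.leaf 103813)) (.node (.leaf 82803) (.leaf 0))) (.node (.node (.leaf 80321) (.leaf 0)) (.node (.leaf 104742) (.leaf 0))))) (.node (.node (.node (.node (.leaf 173) (.leaf 93023)) (.node (.leaf 105249) (.leaf 0))) (.node (.node (.leaf 96624) (.leaf 0)) (.node (.leaf 38050)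 (.leaf 0)))) (.node (.node (.node (.leaf 55807) (.leaf 15312)) (.node (.leaf 5291) (.leaf 0))) (.node (.node (.leaf 13528) (.leaf 0)) (.node (.leaf 37349) (.leaf 0))))))))

def kT12 : NT := .node (.node (.node (.node (.node (.node (.node (.node (.leaf 7752) (.leaf 42995)) (.node (.leaf 37308) (.leaf 0))) (.node (.node (.leaf 103225) (.leaf 7336)) (.node (.leaf 72563) (.leaf 0)))) (.node (.node (.node (.leaf 70612) (.leaf 109503)) (.node (.leaf 43907) (.leaf 0))) (.node (.node (.leaf 105964) (.leaf 0)) (.node (.leaf 85774) (.leaf 0))))) (.node (.node (.node (.node (.leaf 5802) (.leaf 129831)) (.node (.leaf 84250) (.leaf 0))) (.node (.node (.leaf 122282) (.leaf 0)) (.node (.leaf 109838) (.leaf 0)))) (.node (.node (.node (.leaf 2765) (.leaf 116499)) (.node (.leaf 116012) (.leaf 0))) (.node (.node (.leaf 10711) (.leaf 0)) (.node (.leaf 24742) (.leaf 0)))))) (.node (.node (.node (.node (.node (.leaf 18894) (.leaf 55686)) (.node (.leaf 127321) (.leaf 0))) (.node (.node (.leaf 73584) (.leaf 0)) (.node (.leaf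 31062) (.leaf 0)))) (.node (.node (.node (.leaf 68417) (.leaf 110917)) (.node (.leaf 70027) (.leaf 0))) (.node (.node (.leaf 112556) (.leaf 0)) (.node (.leaf 25889) (.leaf 0))))) (.node (.node (.node (.node (.leaf 95055) (.leaf 39245)) (.node (.leaf 20599) (.leaf 0))) (.node (.node (.leaf 102307) (.leaf 0)) (.node (.leaf 129291) (.leaf 0)))) (.node (.node (.node (.leaf 112503) (.leaf 9989)) (.node (.leaf 64710) (.leaf 0))) (.node (.node (.leaf 25065) (.leaf 0)) (.node (.leaf 27341) (.leaf 0))))))) (.node (.node (.node (.node (.node (.node (.leaf 51936) (.leaf 38819)) (.node (.leaf 70084) (.leaf 0))) (.node (.node (.leaf 119754) (.leaf 0)) (.node (.leaf 123813) (.leaf 0)))) (.node (.node (.node (.leaf 5004) (.leaf 1744)) (.node (.leaf 26536) (.leaf 0))) (.node (.node (.leaf 95097) (.leaf 0)) (.node (.leaf 126336) (.leaf 0))))) (.node (.node (.node (.node (.leaf 97724) (.leaf 35815)) (.node (.leaf 3778) (.leaf 0))) (.node (.node (.leaf 89517) (.leaf 0)) (.node (.leaf 85908) (.leaf 0)))) (.node (.node (.node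 (.leaf 19952) (.leaf 118686)) (.node (.leaf 74106) (.leaf 0))) (.node (.node (.leaf 963) (.leaf 0)) (.node (.leaf 81666) (.leaf 0)))))) (.node (.node (.node (.node (.node (.leaf 35574) (.leaf 63266)) (.node (.leaf 53652) (.leaf 0))) (.node (.node (.leaf 102860) (.leaf 0)) (.node (.leaf 65909) (.leaf 0)))) (.node (.node (.node (.leaf 23476) (.leaf 56683)) (.node (.leaf 1726) (.leaf 0))) (.node (.node (.leaf 105330) (.leaf 0)) (.node (.leaf 70540) (.leaf 0))))) (.node (.node (.node (.node (.leaf 18813) (.leaf 3970)) (.node (.leaf 21259) (.leaf 0))) (.node (.node (.leaf 63373) (.leaf 0)) (.node (.leaf 128269) (.leaf 0)))) (.node (.node (.node (.leaf 3128) (.leaf 69544)) (.node (.leaf 111543) (.leaf 0))) (.node (.node (.leaf 122246) (.leaf 0)) (.node (.leaf 65430) (.leaf 0)))))))) (.node (.node (.node (.node (.node (.node (.node (.leaf 41355) (.leaf 54768)) (.node (.leaf 59814) (.leaf 0))) (.node (.node (.leaf 70089) (.leaf 0)) (.node (.leaf 78756) (.leaf 0)))) (.node (.node (.node (.leaf 51334) (.leaf 26413))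 (.node (.leaf 84755) (.leaf 0))) (.node (.node (.leaf 11556) (.leaf 0)) (.node (.leaf 50565) (.leaf 0))))) (.node (.node (.node (.node (.leaf 119188) (.leaf 26370)) (.node (.leaf 46891) (.leaf 0))) (.node (.node (.leaf 90504) (.leaf 0)) (.node (.leaf 45216) (.leaf 0)))) (.node (.node (.node (.leaf 91998) (.leaf 307)) (.node (.leaf 128370) (.leaf 0))) (.node (.node (.leaf 40124) (.leaf 0)) (.node (.leaf 77776) (.leaf 0)))))) (.node (.node (.node (.node (.node (.leaf 29578) (.leaf 90107)) (.node (.leaf 54766) (.leaf 0))) (.node (.node (.leaf 3613) (.leaf 0)) (.node (.leaf 41789) (.leaf 0)))) (.node (.node (.node (.leaf 33155) (.leaf 24951)) (.node (.leaf 2021) (.leaf 0))) (.node (.node (.leaf 91579) (.leaf 0)) (.node (.leaf 111571) (.leaf 0))))) (.node (.node (.node (.node (.leaf 79809) (.leaf 39076)) (.node (.leaf 62785) (.leaf 0))) (.node (.node (.leaf 18893) (.leaf 0)) (.node (.leaf 42845) (.leaf 0)))) (.node (.node (.node (.leaf 65458) (.leaf 102680)) (.node (.leaf 16038) (.leaf 0))) (.node (.node (.leaf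 90408) (.leaf 0)) (.node (.leaf 23622) (.leaf 0))))))) (.node (.node (.node (.node (.node (.node (.leaf 83967) (.leaf 84901)) (.node (.leaf 66314) (.leaf 0))) (.node (.node (.leaf 7888) (.leaf 0)) (.node (.leaf 80317) (.leaf 0)))) (.node (.node (.node (.leaf 33658) (.leaf 47394)) (.node (.leaf 5502) (.leaf 0))) (.node (.node (.leaf 104382) (.leaf 0)) (.node (.leaf 19946) (.leaf 0))))) (.node (.node (.node (.node (.leaf 502) (.leaf 86524)) (.node (.leaf 52508) (.leaf 0))) (.node (.node (.leaf 18697) (.leaf 0)) (.node (.leaf 39411) (.leaf 0)))) (.node (.node (.node (.leaf 45037) (.leaf 61321)) (.node (.leaf 3555) (.leaf 0))) (.node (.node (.leaf 46042) (.leaf 0)) (.node (.leaf 13872) (.leaf 0)))))) (.node (.node (.node (.node (.node (.leaf 67347) (.leaf 47001)) (.node (.leaf 41425) (.leaf 0))) (.node (.node (.leaf 38279) (.leaf 0)) (.node (.leaf 56289) (.leaf 0)))) (.node (.node (.node (.leaf 36747) (.leaf 71022)) (.node (.leaf 75609) (.leaf 0))) (.node (.node (.leaf 65916) (.leaf 0)) (.node (.leaf 58219)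 (.leaf 0))))) (.node (.node (.node (.node (.leaf 33083) (.leaf 13215)) (.node (.leaf 109885) (.leaf 0))) (.node (.node (.leaf 17795) (.leaf 0)) (.node (.leaf 125282) (.leaf 0)))) (.node (.node (.node (.leaf 57823) (.leaf 32381)) (.node (.leaf 90464) (.leaf 0))) (.node (.node (.leaf 82765) (.leaf 0)) (.node (.leaf 12969) (.leaf 0))))))))

def kT13 : NT := .node (.node (.node (.node (.node (.node (.node (.node (.leaf 72544) (.leaf 94174)) (.node (.leaf 40070) (.leaf 0))) (.node (.node (.leaf 38287) (.leaf 2737)) (.node (.leaf 41173) (.leaf 0)))) (.node (.node (.node (.leaf 33571) (.leaf 99250)) (.node (.leaf 36702) (.leaf 0))) (.node (.node (.leaf 36719) (.leaf 0)) (.node (.leaf 19315) (.leaf 0))))) (.node (.node (.node (.node (.leaf 129990) (.leaf 73636)) (.node (.leaf 105260) (.leaf 0))) (.node (.node (.leaf 48304) (.leaf 0)) (.node (.leaf 109453) (.leaf 0)))) (.node (.node (.node (.leaf 111593) (.leaf 64822)) (.node (.leaf 104353) (.leaf 0))) (.node (.node (.leaf 62965) (.leaf 0)) (.node (.leaf 60188)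 (.leaf 0)))))) (.node (.node (.node (.node (.node (.leaf 124828) (.leaf 108938)) (.node (.leaf 47424) (.leaf 0))) (.node (.node (.leaf 43235) (.leaf 0)) (.node (.leaf 75705) (.leaf 0)))) (.node (.node (.node (.leaf 46452) (.leaf 60880)) (.node (.leaf 86912) (.leaf 0))) (.node (.node (.leaf 45730) (.leaf 0)) (.node (.leaf 110571) (.leaf 0))))) (.node (.node (.node (.node (.leaf 106301) (.leaf 67923)) (.node (.leaf 39766) (.leaf 0))) (.node (.node (.leaf 125701) (.leaf 0)) (.node (.leaf 105841) (.leaf 0)))) (.node (.node (.node (.leaf 62171) (.leaf 7805)) (.node (.leaf 27497) (.leaf 0))) (.node (.node (.leaf 26757) (.leaf 0)) (.node (.leaf 61204) (.leaf 0))))))) (.node (.node (.node (.node (.node (.node (.leaf 44206) (.leaf 108854)) (.node (.leaf 73142) (.leaf 0))) (.node (.node (.leaf 126415) (.leaf 0)) (.node (.leaf 14456) (.leaf 0)))) (.node (.node (.node (.leaf 58863) (.leaf 13390)) (.node (.leaf 16558) (.leaf 0))) (.node (.node (.leaf 34543) (.leaf 0)) (.node (.leaf 61890) (.leaf 0))))) (.node (.node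 (.node (.node (.leaf 99682) (.leaf 37887)) (.node (.leaf 79638) (.leaf 0))) (.node (.node (.leaf 24377) (.leaf 0)) (.node (.leaf 45232) (.leaf 0)))) (.node (.node (.node (.leaf 103387) (.leaf 22266)) (.node (.leaf 92956) (.leaf 0))) (.node (.node (.leaf 121644) (.leaf 0)) (.node (.leaf 102355) (.leaf 0)))))) (.node (.node (.node (.node (.node (.leaf 52968) (.leaf 124703)) (.node (.leaf 43257) (.leaf 0))) (.node (.node (.leaf 94504) (.leaf 0)) (.node (.leaf 92589) (.leaf 0)))) (.node (.node (.node (.leaf 51672) (.leaf 34243)) (.node (.leaf 37729) (.leaf 0))) (.node (.node (.leaf 37761) (.leaf 0)) (.node (.leaf 40657) (.leaf 0))))) (.node (.node (.node (.node (.leaf 13629) (.leaf 95505)) (.node (.leaf 880) (.leaf 0))) (.node (.node (.leaf 61635) (.leaf 0)) (.node (.leaf 63272) (.leaf 0)))) (.node (.node (.node (.leaf 30679) (.leaf 94024)) (.node (.leaf 89968) (.leaf 0))) (.node (.node (.leaf 39858) (.leaf 0)) (.node (.leaf 70959) (.leaf 0)))))))) (.node (.node (.node (.node (.node (.node (.node (.leaf 51172)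 (.leaf 27463)) (.node (.leaf 59693) (.leaf 0))) (.node (.node (.leaf 93576) (.leaf 0)) (.node (.leaf 81892) (.leaf 0)))) (.node (.node (.node (.leaf 98264) (.leaf 62872)) (.node (.leaf 59798) (.leaf 0))) (.node (.node (.leaf 130499) (.leaf 0)) (.node (.leaf 39174) (.leaf 0))))) (.node (.node (.node (.node (.leaf 47239) (.leaf 83278)) (.node (.leaf 44998) (.leaf 0))) (.node (.node (.leaf 16611) (.leaf 0)) (.node (.leaf 26328) (.leaf 0)))) (.node (.node (.node (.leaf 70606) (.leaf 1403)) (.node (.leaf 95513) (.leaf 0))) (.node (.node (.leaf 32362) (.leaf 0)) (.node (.leaf 27089) (.leaf 0)))))) (.node (.node (.node (.node (.node (.leaf 3457) (.leaf 11887)) (.node (.leaf 83281) (.leaf 0))) (.node (.node (.leaf 101812) (.leaf 0)) (.node (.leaf 75014) (.leaf 0)))) (.node (.node (.node (.leaf 86882) (.leaf 47251)) (.node (.leaf 118590) (.leaf 0))) (.node (.node (.leaf 1269) (.leaf 0)) (.node (.leaf 61568) (.leaf 0))))) (.node (.node (.node (.node (.leaf 51140) (.leaf 61773)) (.node (.leaf 23027) (.leaf 0))) (.node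 (.node (.leaf 11720) (.leaf 0)) (.node (.leaf 74668) (.leaf 0)))) (.node (.node (.node (.leaf 38759) (.leaf 107398)) (.node (.leaf 33114) (.leaf 0))) (.node (.node (.leaf 47345) (.leaf 0)) (.node (.leaf 78277) (.leaf 0))))))) (.node (.node (.node (.node (.node (.node (.leaf 27083) (.leaf 103802)) (.node (.leaf 109887) (.leaf 0))) (.node (.node (.leaf 126384) (.leaf 0)) (.node (.leaf 71117) (.leaf 0)))) (.node (.node (.node (.leaf 79666) (.leaf 17350)) (.node (.leaf 50841) (.leaf 0))) (.node (.node (.leaf 23639) (.leaf 0)) (.node (.leaf 46555) (.leaf 0))))) (.node (.node (.node (.node (.leaf 57833) (.leaf 57154)) (.node (.leaf 8270) (.leaf 0))) (.node (.node (.leaf 2611) (.leaf 0)) (.node (.leaf 16722) (.leaf 0)))) (.node (.node (.node (.leaf 12571) (.leaf 37018)) (.node (.leaf 129415) (.leaf 0))) (.node (.node (.leaf 78105) (.leaf 0)) (.node (.leaf 68385) (.leaf 0)))))) (.node (.node (.node (.node (.node (.leaf 105364) (.leaf 25829)) (.node (.leaf 80182) (.leaf 0))) (.node (.node (.leaf 4699) (.leaf 0))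 (.node (.leaf 41250) (.leaf 0)))) (.node (.node (.node (.leaf 117639) (.leaf 11000)) (.node (.leaf 43486) (.leaf 0))) (.node (.node (.leaf 28804) (.leaf 0)) (.node (.leaf 25468) (.leaf 0))))) (.node (.node (.node (.node (.leaf 83787) (.leaf 110573)) (.node (.leaf 67334) (.leaf 0))) (.node (.node (.leaf 3127) (.leaf 0)) (.node (.leaf 86333) (.leaf 0)))) (.node (.node (.node (.leaf 79109) (.leaf 70101)) (.node (.leaf 1368) (.leaf 0))) (.node (.node (.leaf 14720) (.leaf 0)) (.node (.leaf 22969) (.leaf 0))))))))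

def kT14 : NT := .node (.node (.node (.node (.node (.node (.node (.node (.leaf 7862) (.leaf 106354)) (.node (.leaf 2893) (.leaf 0))) (.node (.node (.leaf 54585) (.leaf 3745)) (.node (.leaf 87418) (.leaf 0)))) (.node (.node (.node (.leaf 1595) (.leaf 44259)) (.node (.leaf 29404) (.leaf 0))) (.node (.node (.leaf 22234) (.leaf 0)) (.node (.leaf 62186) (.leaf 0))))) (.node (.node (.node (.node (.leaf 92420) (.leaf 41834)) (.node (.leaf 49922) (.leaf 0))) (.node (.node (.leaf 27408) (.leaf 0)) (.node (.leaf 11746) (.leaf 0)))) (.node (.node (.node (.leaf 74610) (.leaf 88999)) (.node (.leaf 3539) (.leaf 0))) (.node (.node (.leaf 32102) (.leaf 0)) (.node (.leaf 94496) (.leaf 0)))))) (.node (.node (.node (.node (.node (.leaf 65533) (.leaf 59764)) (.node (.leaf 36314) (.leaf 0))) (.node (.node (.leaf 118203) (.leaf 0)) (.node (.leaf 26589) (.leaf 0)))) (.node (.node (.node (.leaf 114070) (.leaf 52375)) (.node (.leaf 96636) (.leaf 0))) (.node (.node (.leaf 26737) (.leaf 0)) (.node (.leaf 90523) (.leaf 0))))) (.node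 (.node (.node (.node (.leaf 48902) (.leaf 74688)) (.node (.leaf 60125) (.leaf 0))) (.node (.node (.leaf 102181) (.leaf 0)) (.node (.leaf 36040) (.leaf 0)))) (.node (.node (.node (.leaf 27248) (.leaf 80155)) (.node (.leaf 37861) (.leaf 0))) (.node (.node (.leaf 107858) (.leaf 0)) (.node (.leaf 61336) (.leaf 0))))))) (.node (.node (.node (.node (.node (.node (.leaf 244) (.leaf 121797)) (.node (.leaf 80279) (.leaf 0))) (.node (.node (.leaf 6984) (.leaf 0)) (.node (.leaf 12363) (.leaf 0)))) (.node (.node (.node (.leaf 49082) (.leaf 82783)) (.node (.leaf 92601) (.leaf 0))) (.node (.node (.leaf 37728) (.leaf 0)) (.node (.leaf 112528) (.leaf 0))))) (.node (.node (.node (.node (.leaf 37039) (.leaf 69551)) (.node (.leaf 20091) (.leaf 0))) (.node (.node (.leaf 61095) (.leaf 0)) (.node (.leaf 6783) (.leaf 0)))) (.node (.node (.node (.leaf 47599) (.leaf 42755)) (.node (.leaf 123315) (.leaf 0))) (.node (.node (.leaf 31310) (.leaf 0)) (.node (.leaf 24661) (.leaf 0)))))) (.node (.node (.node (.node (.node (.leaf 129308)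 (.leaf 12992)) (.node (.leaf 13432) (.leaf 0))) (.node (.node (.leaf 12104) (.leaf 0)) (.node (.leaf 27915) (.leaf 0)))) (.node (.node (.node (.leaf 104850) (.leaf 47497)) (.node (.leaf 6425) (.leaf 0))) (.node (.node (.leaf 92038) (.leaf 0)) (.node (.leaf 21060) (.leaf 0))))) (.node (.node (.node (.node (.leaf 118753) (.leaf 18053)) (.node (.leaf 35999) (.leaf 0))) (.node (.node (.leaf 56228) (.leaf 0)) (.node (.leaf 7187) (.leaf 0)))) (.node (.node (.node (.leaf 32714) (.leaf 39927)) (.node (.leaf 12194) (.leaf 0))) (.node (.node (.leaf 122203) (.leaf 0)) (.node (.leaf 23772) (.leaf 0)))))))) (.node (.node (.node (.node (.node (.node (.node (.leaf 21456) (.leaf 39878)) (.node (.leaf 47539) (.leaf 0))) (.node (.node (.leaf 28387) (.leaf 0)) (.node (.leaf 100785) (.leaf 0)))) (.node (.node (.node (.leaf 48557) (.leaf 87933)) (.node (.leaf 20905) (.leaf 0))) (.node (.node (.leaf 62358) (.leaf 0)) (.node (.leaf 34712) (.leaf 0))))) (.node (.node (.node (.node (.leaf 8803) (.leaf 124815)) (.node (.leaf 16709)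 (.leaf 0))) (.node (.node (.leaf 120769) (.leaf 0)) (.node (.leaf 122156) (.leaf 0)))) (.node (.node (.node (.leaf 89990) (.leaf 57234)) (.node (.leaf 7320) (.leaf 0))) (.node (.node (.leaf 23998) (.leaf 0)) (.node (.leaf 36099) (.leaf 0)))))) (.node (.node (.node (.node (.node (.leaf 9179) (.leaf 114010)) (.node (.leaf 24253) (.leaf 0))) (.node (.node (.leaf 66457) (.leaf 0)) (.node (.leaf 89083) (.leaf 0)))) (.node (.node (.node (.leaf 1925) (.leaf 128317)) (.node (.leaf 40418) (.leaf 0))) (.node (.node (.leaf 38300) (.leaf 0)) (.node (.leaf 18828) (.leaf 0))))) (.node (.node (.node (.node (.leaf 9011) (.leaf 16581)) (.node (.leaf 41376) (.leaf 0))) (.node (.node (.leaf 39875) (.leaf 0)) (.node (.leaf 22822) (.leaf 0)))) (.node (.node (.node (.leaf 13979) (.leaf 57309)) (.node (.leaf 82280) (.leaf 0))) (.node (.node (.leaf 71453) (.leaf 0)) (.node (.leaf 70447) (.leaf 0))))))) (.node (.node (.node (.node (.node (.node (.leaf 90070) (.leaf 107803)) (.node (.leaf 40901) (.leaf 0))) (.node (.node (.leaf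 101148) (.leaf 0)) (.node (.leaf 52699) (.leaf 0)))) (.node (.node (.node (.leaf 126251) (.leaf 16188)) (.node (.leaf 39800) (.leaf 0))) (.node (.node (.leaf 107931) (.leaf 0)) (.node (.leaf 35975) (.leaf 0))))) (.node (.node (.node (.node (.leaf 10490) (.leaf 1772)) (.node (.leaf 41325) (.leaf 0))) (.node (.node (.leaf 72060) (.leaf 0)) (.node (.leaf 59832) (.leaf 0)))) (.node (.node (.node (.leaf 120203) (.leaf 35005)) (.node (.leaf 37507) (.leaf 0))) (.node (.node (.leaf 6009) (.leaf 0)) (.node (.leaf 14714) (.leaf 0)))))) (.node (.node (.node (.node (.node (.leaf 12490) (.leaf 27823)) (.node (.leaf 63163) (.leaf 0))) (.node (.node (.leaf 91507) (.leaf 0)) (.node (.leaf 38889) (.leaf 0)))) (.node (.node (.node (.leaf 36149) (.leaf 44199)) (.node (.leaf 46963) (.leaf 0))) (.node (.node (.leaf 15117) (.leaf 0)) (.node (.leaf 46581) (.leaf 0))))) (.node (.node (.node (.node (.leaf 124301) (.leaf 34766)) (.node (.leaf 2187) (.leaf 0))) (.node (.node (.leaf 110039) (.leaf 0)) (.node (.leaf 93504) (.leaf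 0)))) (.node (.node (.node (.leaf 120317) (.leaf 93684)) (.node (.leaf 127279) (.leaf 0))) (.node (.node (.leaf 12005) (.leaf 0)) (.node (.leaf 49654) (.leaf 0))))))))

def kT15 : NT := .node (.node (.node (.node (.node (.node (.node (.node (.leaf 21675) (.leaf 65818)) (.node (.leaf 34026) (.leaf 0))) (.node (.node (.leaf 5364) (.leaf 87321)) (.node (.leaf 27015) (.leaf 0)))) (.node (.node (.node (.leaf 70102) (.leaf 11755)) (.node (.leaf 22352) (.leaf 0))) (.node (.node (.leaf 23867) (.leaf 0)) (.node (.leaf 10422) (.leaf 0))))) (.node (.node (.node (.node (.leaf 128501) (.leaf 62957)) (.node (.leaf 20829) (.leaf 0))) (.node (.node (.leaf 6564) (.leaf 0)) (.node (.leaf 13954) (.leaf 0)))) (.node (.node (.node (.leaf 11393) (.leaf 5654)) (.node (.leaf 52158) (.leaf 0))) (.node (.node (.leaf 111537) (.leaf 0)) (.node (.leaf 6426) (.leaf 0)))))) (.node (.node (.node (.node (.node (.leaf 126729) (.leaf 60616)) (.node (.leaf 104917) (.leaf 0))) (.node (.node (.leaf 49924) (.leaf 0)) (.node (.leaf 80894) (.leaf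 0)))) (.node (.node (.node (.leaf 33585) (.leaf 24025)) (.node (.leaf 1513) (.leaf 0))) (.node (.node (.leaf 24792) (.leaf 0)) (.node (.leaf 17262) (.leaf 0))))) (.node (.node (.node (.node (.leaf 40314) (.leaf 54516)) (.node (.leaf 53604) (.leaf 0))) (.node (.node (.leaf 9962) (.leaf 0)) (.node (.leaf 10165) (.leaf 0)))) (.node (.node (.node (.leaf 119040) (.leaf 35476)) (.node (.leaf 18710) (.leaf 0))) (.node (.node (.leaf 90453) (.leaf 0)) (.node (.leaf 130885) (.leaf 0))))))) (.node (.node (.node (.node (.node (.node (.leaf 89948) (.leaf 82310)) (.node (.leaf 39256) (.leaf 0))) (.node (.node (.leaf 4270) (.leaf 0)) (.node (.leaf 107350) (.leaf 0)))) (.node (.node (.node (.leaf 105267) (.leaf 87374)) (.node (.leaf 9936) (.leaf 0))) (.node (.node (.leaf 35130) (.leaf 0)) (.node (.leaf 21338) (.leaf 0))))) (.node (.node (.node (.node (.leaf 64180) (.leaf 123167)) (.node (.leaf 56553) (.leaf 0))) (.node (.node (.leaf 13596) (.leaf 0)) (.node (.leaf 20936) (.leaf 0)))) (.node (.node (.node (.leaf 27542)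 (.leaf 109435)) (.node (.leaf 16461) (.leaf 0))) (.node (.node (.leaf 81674) (.leaf 0)) (.node (.leaf 108529) (.leaf 0)))))) (.node (.node (.node (.node (.node (.leaf 19388) (.leaf 50396)) (.node (.leaf 62713) (.leaf 0))) (.node (.node (.leaf 48506) (.leaf 0)) (.node (.leaf 43451) (.leaf 0)))) (.node (.node (.node (.leaf 55591) (.leaf 29062)) (.node (.leaf 77056) (.leaf 0))) (.node (.node (.leaf 23341) (.leaf 0)) (.node (.leaf 45860) (.leaf 0))))) (.node (.node (.node (.node (.leaf 22386) (.leaf 31207)) (.node (.leaf 50591) (.leaf 0))) (.node (.node (.leaf 41949) (.leaf 0)) (.node (.leaf 10016) (.leaf 0)))) (.node (.node (.node (.leaf 109986) (.leaf 93054)) (.node (.leaf 107317) (.leaf 0))) (.node (.node (.leaf 60893) (.leaf 0)) (.node (.leaf 88532) (.leaf 0)))))))) (.node (.node (.node (.node (.node (.node (.node (.leaf 50544) (.leaf 86373)) (.node (.leaf 60734) (.leaf 0))) (.node (.node (.leaf 53210) (.leaf 0)) (.node (.leaf 54600) (.leaf 0)))) (.node (.node (.node (.leaf 11369) (.leaf 34255)) (.node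 (.leaf 78191) (.leaf 0))) (.node (.node (.leaf 42718) (.leaf 0)) (.node (.leaf 57997) (.leaf 0))))) (.node (.node (.node (.node (.leaf 76676) (.leaf 18001)) (.node (.leaf 83375) (.leaf 0))) (.node (.node (.leaf 46862) (.leaf 0)) (.node (.leaf 8410) (.leaf 0)))) (.node (.node (.node (.leaf 66382) (.leaf 87366)) (.node (.leaf 42317) (.leaf 0))) (.node (.node (.leaf 98113) (.leaf 0)) (.node (.leaf 89557) (.leaf 0)))))) (.node (.node (.node (.node (.node (.leaf 122870) (.leaf 70569)) (.node (.leaf 86407) (.leaf 0))) (.node (.node (.leaf 77803) (.leaf 0)) (.node (.leaf 40270) (.leaf 0)))) (.node (.node (.node (.leaf 7003) (.leaf 54579)) (.node (.leaf 10929) (.leaf 0))) (.node (.node (.leaf 4742) (.leaf 0)) (.node (.leaf 98141) (.leaf 0))))) (.node (.node (.node (.node (.leaf 62331) (.leaf 19043)) (.node (.leaf 30115) (.leaf 0))) (.node (.node (.leaf 86469) (.leaf 0)) (.node (.leaf 8495) (.leaf 0)))) (.node (.node (.node (.leaf 55984) (.leaf 16083)) (.node (.leaf 54524) (.leaf 0))) (.node (.node (.leaf 66439)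 (.leaf 0)) (.node (.leaf 55013) (.leaf 0))))))) (.node (.node (.node (.node (.node (.node (.leaf 41603) (.leaf 77762)) (.node (.leaf 43261) (.leaf 0))) (.node (.node (.leaf 41868) (.leaf 0)) (.node (.leaf 57340) (.leaf 0)))) (.node (.node (.node (.leaf 14265) (.leaf 91410)) (.node (.leaf 108868) (.leaf 0))) (.node (.node (.leaf 38019) (.leaf 0)) (.node (.leaf 130840) (.leaf 0))))) (.node (.node (.node (.node (.leaf 9479) (.leaf 99174)) (.node (.leaf 58080) (.leaf 0))) (.node (.node (.leaf 29016) (.leaf 0)) (.node (.leaf 30186) (.leaf 0)))) (.node (.node (.node (.leaf 34751) (.leaf 18904)) (.node (.leaf 124786) (.leaf 0))) (.node (.node (.leaf 123232) (.leaf 0)) (.node (.leaf 49452) (.leaf 0)))))) (.node (.node (.node (.node (.node (.leaf 104439) (.leaf 89865)) (.node (.leaf 48536) (.leaf 0))) (.node (.node (.leaf 100308) (.leaf 0)) (.node (.leaf 63657) (.leaf 0)))) (.node (.node (.node (.leaf 47839) (.leaf 8478)) (.node (.leaf 5343) (.leaf 0))) (.node (.node (.leaf 85408) (.leaf 0)) (.node (.leaf 14319)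 (.leaf 0))))) (.node (.node (.node (.node (.leaf 31507) (.leaf 27987)) (.node (.leaf 6141) (.leaf 0))) (.node (.node (.leaf 39634) (.leaf 0)) (.node (.leaf 15986) (.leaf 0)))) (.node (.node (.node (.leaf 22174) (.leaf 85954)) (.node (.leaf 129991) (.leaf 0))) (.node (.node (.leaf 15705) (.leaf 0)) (.node (.leaf 10220) (.leaf 0))))))))

def kT16 : NT := .node (.node (.node (.node (.node (.node (.node (.node (.leaf 67523) (.leaf 13191)) (.node (.leaf 126347) (.leaf 0))) (.node (.node (.leaf 5774) (.leaf 37305)) (.node (.leaf 105777) (.leaf 0)))) (.node (.node (.node (.leaf 59062) (.leaf 37089)) (.node (.leaf 113586) (.leaf 0))) (.node (.node (.leaf 2401) (.leaf 0)) (.node (.leaf 67977) (.leaf 0))))) (.node (.node (.node (.node (.leaf 87833) (.leaf 48772)) (.node (.leaf 33102) (.leaf 0))) (.node (.node (.leaf 1109) (.leaf 0)) (.node (.leaf 55517) (.leaf 0)))) (.node (.node (.node (.leaf 25472) (.leaf 74588)) (.node (.leaf 2239) (.leaf 0))) (.node (.node (.leaf 57124) (.leaf 0)) (.node (.leaf 65885) (.leaf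 0)))))) (.node (.node (.node (.node (.node (.leaf 77650) (.leaf 84817)) (.node (.leaf 54956) (.leaf 0))) (.node (.node (.leaf 115686) (.leaf 0)) (.node (.leaf 25808) (.leaf 0)))) (.node (.node (.node (.leaf 112104) (.leaf 9353)) (.node (.leaf 109895) (.leaf 0))) (.node (.node (.leaf 57728) (.leaf 0)) (.node (.leaf 84858) (.leaf 0))))) (.node (.node (.node (.node (.leaf 64985) (.leaf 61938)) (.node (.leaf 4498) (.leaf 0))) (.node (.node (.leaf 29175) (.leaf 0)) (.node (.leaf 8615) (.leaf 0)))) (.node (.node (.node (.leaf 33161) (.leaf 98244)) (.node (.leaf 62383) (.leaf 0))) (.node (.node (.leaf 84434) (.leaf 0)) (.node (.leaf 130999) (.leaf 0))))))) (.node (.node (.node (.node (.node (.node (.leaf 24145) (.leaf 96557)) (.node (.leaf 48081) (.leaf 0))) (.node (.node (.leaf 96596) (.leaf 0)) (.node (.leaf 41256) (.leaf 0)))) (.node (.node (.node (.leaf 48347) (.leaf 70482)) (.node (.leaf 74526) (.leaf 0))) (.node (.node (.leaf 116522) (.leaf 0)) (.node (.leaf 48631) (.leaf 0))))) (.node (.node (.node (.node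 (.leaf 101764) (.leaf 100853)) (.node (.leaf 19141) (.leaf 0))) (.node (.node (.leaf 83378) (.leaf 0)) (.node (.leaf 33022) (.leaf 0)))) (.node (.node (.node (.leaf 72577) (.leaf 22010)) (.node (.leaf 36004) (.leaf 0))) (.node (.node (.leaf 32750) (.leaf 0)) (.node (.leaf 104424) (.leaf 0)))))) (.node (.node (.node (.node (.node (.leaf 21738) (.leaf 25479)) (.node (.leaf 18887) (.leaf 0))) (.node (.node (.leaf 65449) (.leaf 0)) (.node (.leaf 88332) (.leaf 0)))) (.node (.node (.node (.leaf 97095) (.leaf 105399)) (.node (.leaf 58693) (.leaf 0))) (.node (.node (.leaf 39818) (.leaf 0)) (.node (.leaf 114138) (.leaf 0))))) (.node (.node (.node (.node (.leaf 53741) (.leaf 59389)) (.node (.leaf 112955) (.leaf 0))) (.node (.node (.leaf 7713) (.leaf 0)) (.node (.leaf 32140) (.leaf 0)))) (.node (.node (.node (.leaf 37748) (.leaf 5043)) (.node (.leaf 17738) (.leaf 0))) (.node (.node (.leaf 116581) (.leaf 0)) (.node (.leaf 67042) (.leaf 0)))))))) (.node (.node (.node (.node (.node (.node (.node (.leaf 67571) (.leaf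 116152)) (.node (.leaf 2165) (.leaf 0))) (.node (.node (.leaf 83807) (.leaf 0)) (.node (.leaf 39778) (.leaf 0)))) (.node (.node (.node (.leaf 119115) (.leaf 79139)) (.node (.leaf 87033) (.leaf 0))) (.node (.node (.leaf 46398) (.leaf 0)) (.node (.leaf 56767) (.leaf 0))))) (.node (.node (.node (.node (.leaf 21920) (.leaf 25379)) (.node (.leaf 80771) (.leaf 0))) (.node (.node (.leaf 130927) (.leaf 0)) (.node (.leaf 124832) (.leaf 0)))) (.node (.node (.node (.leaf 42954) (.leaf 24971)) (.node (.leaf 15798) (.leaf 0))) (.node (.node (.leaf 61662) (.leaf 0)) (.node (.leaf 89939) (.leaf 0)))))) (.node (.node (.node (.node (.node (.leaf 39819) (.leaf 123276)) (.node (.leaf 39215) (.leaf 0))) (.node (.node (.leaf 27069) (.leaf 0)) (.node (.leaf 409) (.leaf 0)))) (.node (.node (.node (.leaf 32422) (.leaf 35709)) (.node (.leaf 16742) (.leaf 0))) (.node (.node (.leaf 91622) (.leaf 0)) (.node (.leaf 6691) (.leaf 0))))) (.node (.node (.node (.node (.leaf 8445) (.leaf 78694)) (.node (.leaf 84358) (.leaf 0))) (.node (.node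 (.leaf 114157) (.leaf 0)) (.node (.leaf 1530) (.leaf 0)))) (.node (.node (.node (.leaf 37341) (.leaf 78607)) (.node (.leaf 28904) (.leaf 0))) (.node (.node (.leaf 8667) (.leaf 0)) (.node (.leaf 89396) (.leaf 0))))))) (.node (.node (.node (.node (.node (.node (.leaf 8462) (.leaf 28074)) (.node (.leaf 23680) (.leaf 0))) (.node (.node (.leaf 108838) (.leaf 0)) (.node (.leaf 21113) (.leaf 0)))) (.node (.node (.node (.leaf 19703) (.leaf 90397)) (.node (.leaf 109551) (.leaf 0))) (.node (.node (.leaf 34689) (.leaf 0)) (.node (.leaf 16383) (.leaf 0))))) (.node (.node (.node (.node (.leaf 120576) (.leaf 104947)) (.node (.leaf 52382) (.leaf 0))) (.node (.node (.leaf 54088) (.leaf 0)) (.node (.leaf 24534) (.leaf 0)))) (.node (.node (.node (.leaf 67891) (.leaf 22395)) (.node (.leaf 25328) (.leaf 0))) (.node (.node (.leaf 1366) (.leaf 0)) (.node (.leaf 110483) (.leaf 0)))))) (.node (.node (.node (.node (.node (.leaf 30159) (.leaf 35048)) (.node (.leaf 78721) (.leaf 0))) (.node (.node (.leaf 100609) (.leaf 0)) (.node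 (.leaf 34594) (.leaf 0)))) (.node (.node (.node (.leaf 90946) (.leaf 28637)) (.node (.leaf 20941) (.leaf 0))) (.node (.node (.leaf 123730) (.leaf 0)) (.node (.leaf 18763) (.leaf 0))))) (.node (.node (.node (.node (.leaf 16543) (.leaf 70112)) (.node (.leaf 14406) (.leaf 0))) (.node (.node (.leaf 115999) (.leaf 0)) (.node (.leaf 10106) (.leaf 0)))) (.node (.node (.node (.leaf 4045) (.leaf 60227)) (.node (.leaf 106247) (.leaf 0))) (.node (.node (.leaf 96604) (.leaf 0)) (.node (.leaf 80680) (.leaf 0))))))))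

def kT17 : NT := .node (.node (.node (.node (.node (.node (.node (.node (.leaf 7627) (.leaf 944)) (.node (.leaf 65901) (.leaf 0))) (.node (.node (.leaf 107291) (.leaf 13156)) (.node (.leaf 112053) (.leaf 0)))) (.node (.node (.node (.leaf 11809) (.leaf 92619)) (.node (.leaf 84990) (.leaf 0))) (.node (.node (.leaf 98792) (.leaf 0)) (.node (.leaf 17579) (.leaf 0))))) (.node (.node (.node (.node (.leaf 57092) (.leaf 51011)) (.node (.leaf 9202) (.leaf 0))) (.node (.node (.leaf 30803) (.leaf 0)) (.node (.leaf 31379) (.leaf 0)))) (.node (.node (.node (.leaf 63988) (.leaf 53418)) (.node (.leaf 22486) (.leaf 0))) (.node (.node (.leaf 86940) (.leaf 0)) (.node (.leaf 89943) (.leaf 0)))))) (.node (.node (.node (.node (.node (.leaf 12193) (.leaf 14482)) (.node (.leaf 102304) (.leaf 0))) (.node (.node (.leaf 118724) (.leaf 0)) (.node (.leaf 23305) (.leaf 0)))) (.node (.node (.node (.leaf 107478) (.leaf 56225)) (.node (.leaf 58366) (.leaf 0))) (.node (.node (.leaf 69448) (.leaf 0)) (.node (.leaf 56300) (.leaf 0)))))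 (.node (.node (.node (.node (.leaf 8831) (.leaf 77607)) (.node (.leaf 17501) (.leaf 0))) (.node (.node (.leaf 40358) (.leaf 0)) (.node (.leaf 92635) (.leaf 0)))) (.node (.node (.node (.leaf 28430) (.leaf 37842)) (.node (.leaf 26954) (.leaf 0))) (.node (.node (.leaf 50956) (.leaf 0)) (.node (.leaf 2489) (.leaf 0))))))) (.node (.node (.node (.node (.node (.node (.leaf 19056) (.leaf 37062)) (.node (.leaf 40420) (.leaf 0))) (.node (.node (.leaf 25842) (.leaf 0)) (.node (.leaf 3492) (.leaf 0)))) (.node (.node (.node (.leaf 683) (.leaf 123748)) (.node (.leaf 107468) (.leaf 0))) (.node (.node (.leaf 87309) (.leaf 0)) (.node (.leaf 6459) (.leaf 0))))) (.node (.node (.node (.node (.leaf 103216) (.leaf 36531)) (.node (.leaf 45246) (.leaf 0))) (.node (.node (.leaf 76077) (.leaf 0)) (.node (.leaf 11810) (.leaf 0)))) (.node (.node (.node (.leaf 38336) (.leaf 130355)) (.node (.leaf 106245) (.leaf 0))) (.node (.node (.leaf 53511) (.leaf 0)) (.node (.leaf 62627) (.leaf 0)))))) (.node (.node (.node (.node (.node (.leaf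 127257) (.leaf 14977)) (.node (.leaf 57649) (.leaf 0))) (.node (.node (.leaf 61774) (.leaf 0)) (.node (.leaf 28480) (.leaf 0)))) (.node (.node (.node (.leaf 83795) (.leaf 48635)) (.node (.leaf 86963) (.leaf 0))) (.node (.node (.leaf 57126) (.leaf 0)) (.node (.leaf 101854) (.leaf 0))))) (.node (.node (.node (.node (.leaf 4190) (.leaf 107419)) (.node (.leaf 45774) (.leaf 0))) (.node (.node (.leaf 87856) (.leaf 0)) (.node (.leaf 92012) (.leaf 0)))) (.node (.node (.node (.leaf 59658) (.leaf 45528)) (.node (.leaf 49519) (.leaf 0))) (.node (.node (.leaf 83303) (.leaf 0)) (.node (.leaf 40182) (.leaf 0)))))))) (.node (.node (.node (.node (.node (.node (.node (.leaf 66491) (.leaf 78199)) (.node (.leaf 17321) (.leaf 0))) (.node (.node (.leaf 12347) (.leaf 0)) (.node (.leaf 42186) (.leaf 0)))) (.node (.node (.node (.leaf 21395) (.leaf 21841)) (.node (.leaf 84937) (.leaf 0))) (.node (.node (.leaf 118188) (.leaf 0)) (.node (.leaf 53657) (.leaf 0))))) (.node (.node (.node (.node (.leaf 3772) (.leaf 27753)) (.node (.leaf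 64438) (.leaf 0))) (.node (.node (.leaf 122710) (.leaf 0)) (.node (.leaf 6970) (.leaf 0)))) (.node (.node (.node (.leaf 110068) (.leaf 56236)) (.node (.leaf 86986) (.leaf 0))) (.node (.node (.leaf 62844) (.leaf 0)) (.node (.leaf 102397) (.leaf 0)))))) (.node (.node (.node (.node (.node (.leaf 76280) (.leaf 11829)) (.node (.leaf 57588) (.leaf 0))) (.node (.node (.leaf 27861) (.leaf 0)) (.node (.leaf 95552) (.leaf 0)))) (.node (.node (.node (.leaf 8637) (.leaf 8090)) (.node (.leaf 37619) (.leaf 0))) (.node (.node (.leaf 123157) (.leaf 0)) (.node (.leaf 41912) (.leaf 0))))) (.node (.node (.node (.node (.leaf 111082) (.leaf 40607)) (.node (.leaf 15994) (.leaf 0))) (.node (.node (.leaf 12503) (.leaf 0)) (.node (.leaf 6937) (.leaf 0)))) (.node (.node (.node (.leaf 21582) (.leaf 17137)) (.node (.leaf 92504) (.leaf 0))) (.node (.node (.leaf 21443) (.leaf 0)) (.node (.leaf 31676) (.leaf 0))))))) (.node (.node (.node (.node (.node (.node (.leaf 9428) (.leaf 63217)) (.node (.leaf 74024) (.leaf 0))) (.node (.node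 (.leaf 20343) (.leaf 0)) (.node (.leaf 117754) (.leaf 0)))) (.node (.node (.node (.leaf 30285) (.leaf 39272)) (.node (.leaf 71011) (.leaf 0))) (.node (.node (.leaf 11993) (.leaf 0)) (.node (.leaf 45727) (.leaf 0))))) (.node (.node (.node (.node (.leaf 119717) (.leaf 51979)) (.node (.leaf 60309) (.leaf 0))) (.node (.node (.leaf 40240) (.leaf 0)) (.node (.leaf 50401) (.leaf 0)))) (.node (.node (.node (.leaf 81324) (.leaf 52123)) (.node (.leaf 68081) (.leaf 0))) (.node (.node (.leaf 56688) (.leaf 0)) (.node (.leaf 33661) (.leaf 0)))))) (.node (.node (.node (.node (.node (.leaf 83364) (.leaf 5711)) (.node (.leaf 19914) (.leaf 0))) (.node (.node (.leaf 60743) (.leaf 0)) (.node (.leaf 38776) (.leaf 0)))) (.node (.node (.node (.leaf 25021) (.leaf 11152)) (.node (.leaf 15424) (.leaf 0))) (.node (.node (.leaf 129811) (.leaf 0)) (.node (.leaf 61188) (.leaf 0))))) (.node (.node (.node (.node (.leaf 36283) (.leaf 45812)) (.node (.leaf 130985) (.leaf 0))) (.node (.node (.leaf 63677) (.leaf 0)) (.node (.leaf 21078)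 (.leaf 0)))) (.node (.node (.node (.leaf 13172) (.leaf 76588)) (.node (.leaf 38911) (.leaf 0))) (.node (.node (.leaf 107909) (.leaf 0)) (.node (.leaf 48797) (.leaf 0))))))))

def kT18 : NT := .node (.node (.node (.node (.node (.node (.node (.node (.leaf 448) (.leaf 52540)) (.node (.leaf 10428) (.leaf 0))) (.node (.node (.leaf 51351) (.leaf 42370)) (.node (.leaf 106784) (.leaf 0)))) (.node (.node (.node (.leaf 108860) (.leaf 47963)) (.node (.leaf 39282) (.leaf 0))) (.node (.node (.leaf 5298) (.leaf 0)) (.node (.leaf 53961) (.leaf 0))))) (.node (.node (.node (.node (.leaf 83782) (.leaf 97110)) (.node (.leaf 80213) (.leaf 0))) (.node (.node (.leaf 29913) (.leaf 0)) (.node (.leaf 22334) (.leaf 0)))) (.node (.node (.node (.leaf 126926) (.leaf 29351)) (.node (.leaf 32917) (.leaf 0))) (.node (.node (.leaf 13963) (.leaf 0)) (.node (.leaf 31085) (.leaf 0)))))) (.node (.node (.node (.node (.node (.leaf 102157) (.leaf 101828)) (.node (.leaf 9978) (.leaf 0))) (.node (.node (.leaf 5100) (.leaf 0)) (.node (.leaf 115056)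 (.leaf 0)))) (.node (.node (.node (.leaf 108898) (.leaf 56184)) (.node (.leaf 14036) (.leaf 0))) (.node (.node (.leaf 5677) (.leaf 0)) (.node (.leaf 86382) (.leaf 0))))) (.node (.node (.node (.node (.leaf 12843) (.leaf 64380)) (.node (.leaf 7049) (.leaf 0))) (.node (.node (.leaf 35090) (.leaf 0)) (.node (.leaf 114468) (.leaf 0)))) (.node (.node (.node (.leaf 28818) (.leaf 60879)) (.node (.leaf 30799) (.leaf 0))) (.node (.node (.leaf 116531) (.leaf 0)) (.node (.leaf 54668) (.leaf 0))))))) (.node (.node (.node (.node (.node (.node (.leaf 61060) (.leaf 12744)) (.node (.leaf 61371) (.leaf 0))) (.node (.node (.leaf 47814) (.leaf 0)) (.node (.leaf 100819) (.leaf 0)))) (.node (.node (.node (.leaf 11640) (.leaf 93463)) (.node (.leaf 51496) (.leaf 0))) (.node (.node (.leaf 8914) (.leaf 0)) (.node (.leaf 114473) (.leaf 0))))) (.node (.node (.node (.node (.leaf 45559) (.leaf 17096)) (.node (.leaf 3459) (.leaf 0))) (.node (.node (.leaf 63622) (.leaf 0)) (.node (.leaf 838) (.leaf 0)))) (.node (.node (.node (.leaf 4852)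 (.leaf 10377)) (.node (.leaf 123391) (.leaf 0))) (.node (.node (.leaf 124269) (.leaf 0)) (.node (.leaf 58296) (.leaf 0)))))) (.node (.node (.node (.node (.node (.leaf 106894) (.leaf 17919)) (.node (.leaf 53970) (.leaf 0))) (.node (.node (.leaf 63903) (.leaf 0)) (.node (.leaf 13474) (.leaf 0)))) (.node (.node (.node (.leaf 13897) (.leaf 90509)) (.node (.leaf 23467) (.leaf 0))) (.node (.node (.leaf 85770) (.leaf 0)) (.node (.leaf 79180) (.leaf 0))))) (.node (.node (.node (.node (.leaf 68961) (.leaf 88063)) (.node (.leaf 8878) (.leaf 0))) (.node (.node (.leaf 121289) (.leaf 0)) (.node (.leaf 37210) (.leaf 0)))) (.node (.node (.node (.leaf 52709) (.leaf 111527)) (.node (.leaf 118715) (.leaf 0))) (.node (.node (.leaf 16575) (.leaf 0)) (.node (.leaf 77598) (.leaf 0)))))))) (.node (.node (.node (.node (.node (.node (.node (.leaf 20395) (.leaf 11088)) (.node (.leaf 95610) (.leaf 0))) (.node (.node (.leaf 104883) (.leaf 0)) (.node (.leaf 73135) (.leaf 0)))) (.node (.node (.node (.leaf 23389) (.leaf 41219)) (.node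 (.leaf 14798) (.leaf 0))) (.node (.node (.leaf 2917) (.leaf 0)) (.node (.leaf 48790) (.leaf 0))))) (.node (.node (.node (.node (.leaf 42948) (.leaf 25396)) (.node (.leaf 108385) (.leaf 0))) (.node (.node (.leaf 44762) (.leaf 0)) (.node (.leaf 72063) (.leaf 0)))) (.node (.node (.node (.leaf 36483) (.leaf 118557)) (.node (.leaf 119080) (.leaf 0))) (.node (.node (.leaf 64983) (.leaf 0)) (.node (.leaf 88871) (.leaf 0)))))) (.node (.node (.node (.node (.node (.leaf 14885) (.leaf 36679)) (.node (.leaf 433) (.leaf 0))) (.node (.node (.leaf 31054) (.leaf 0)) (.node (.leaf 10183) (.leaf 0)))) (.node (.node (.node (.leaf 13740) (.leaf 48850)) (.node (.leaf 24347) (.leaf 0))) (.node (.node (.leaf 15634) (.leaf 0)) (.node (.leaf 129508) (.leaf 0))))) (.node (.node (.node (.node (.leaf 95207) (.leaf 53482)) (.node (.leaf 119051) (.leaf 0))) (.node (.node (.leaf 18115) (.leaf 0)) (.node (.leaf 3636) (.leaf 0)))) (.node (.node (.node (.leaf 6037) (.leaf 28019)) (.node (.leaf 5824) (.leaf 0))) (.node (.node (.leaf 128959)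 (.leaf 0)) (.node (.leaf 61059) (.leaf 0))))))) (.node (.node (.node (.node (.node (.node (.leaf 73007) (.leaf 6799)) (.node (.leaf 55229) (.leaf 0))) (.node (.node (.leaf 15812) (.leaf 0)) (.node (.leaf 10515) (.leaf 0)))) (.node (.node (.node (.leaf 32411) (.leaf 56056)) (.node (.leaf 20604) (.leaf 0))) (.node (.node (.leaf 50531) (.leaf 0)) (.node (.leaf 68015) (.leaf 0))))) (.node (.node (.node (.node (.leaf 41329) (.leaf 14047)) (.node (.leaf 97538) (.leaf 0))) (.node (.node (.leaf 100183) (.leaf 0)) (.node (.leaf 44304) (.leaf 0)))) (.node (.node (.node (.leaf 99110) (.leaf 12586)) (.node (.leaf 59855) (.leaf 0))) (.node (.node (.leaf 30617) (.leaf 0)) (.node (.leaf 18686) (.leaf 0)))))) (.node (.node (.node (.node (.node (.leaf 18662) (.leaf 61143)) (.node (.leaf 106382) (.leaf 0))) (.node (.node (.leaf 26275) (.leaf 0)) (.node (.leaf 108883) (.leaf 0)))) (.node (.node (.node (.leaf 124704) (.leaf 102206)) (.node (.leaf 19898) (.leaf 0))) (.node (.node (.leaf 15502) (.leaf 0)) (.node (.leaf 25697)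 (.leaf 0))))) (.node (.node (.node (.node (.leaf 25059) (.leaf 51110)) (.node (.leaf 62393) (.leaf 0))) (.node (.node (.leaf 45930) (.leaf 0)) (.node (.leaf 3031) (.leaf 0)))) (.node (.node (.node (.leaf 59556) (.leaf 83712)) (.node (.leaf 47878) (.leaf 0))) (.node (.node (.leaf 46351) (.leaf 0)) (.node (.leaf 29388) (.leaf 0))))))))

def kT19 : NT := .node (.node (.node (.node (.node (.node (.node (.node (.leaf 38132) (.leaf 3230)) (.node (.leaf 83435) (.leaf 0))) (.node (.node (.leaf 131000) (.leaf 111379)) (.node (.leaf 38232) (.leaf 0)))) (.node (.node (.node (.leaf 30189) (.leaf 12617)) (.node (.leaf 43906) (.leaf 0))) (.node (.node (.leaf 54993) (.leaf 0)) (.node (.leaf 90420) (.leaf 0))))) (.node (.node (.node (.node (.leaf 15757) (.leaf 16733)) (.node (.leaf 20254) (.leaf 0))) (.node (.node (.leaf 55532) (.leaf 0)) (.node (.leaf 17834) (.leaf 0)))) (.node (.node (.node (.leaf 113075) (.leaf 17037)) (.node (.leaf 1745) (.leaf 0))) (.node (.node (.leaf 113613) (.leaf 0)) (.node (.leaf 1887) (.leaf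 0)))))) (.node (.node (.node (.node (.node (.leaf 83414) (.leaf 869)) (.node (.leaf 60182) (.leaf 0))) (.node (.node (.leaf 45424) (.leaf 0)) (.node (.leaf 109980) (.leaf 0)))) (.node (.node (.node (.leaf 55203) (.leaf 86510)) (.node (.leaf 2343) (.leaf 0))) (.node (.node (.leaf 98279) (.leaf 0)) (.node (.leaf 84258) (.leaf 0))))) (.node (.node (.node (.node (.leaf 34250) (.leaf 64886)) (.node (.leaf 85382) (.leaf 0))) (.node (.node (.leaf 32724) (.leaf 0)) (.node (.leaf 65422) (.leaf 0)))) (.node (.node (.node (.leaf 86958) (.leaf 36652)) (.node (.leaf 54011) (.leaf 0))) (.node (.node (.leaf 128974) (.leaf 0)) (.node (.leaf 3178) (.leaf 0))))))) (.node (.node (.node (.node (.node (.node (.leaf 24393) (.leaf 84911)) (.node (.leaf 58106) (.leaf 0))) (.node (.node (.leaf 110954) (.leaf 0)) (.node (.leaf 5813) (.leaf 0)))) (.node (.node (.node (.leaf 31656) (.leaf 35493)) (.node (.leaf 12120) (.leaf 0))) (.node (.node (.leaf 88518) (.leaf 0)) (.node (.leaf 120223) (.leaf 0))))) (.node (.node (.node (.node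 (.leaf 14318) (.leaf 96146)) (.node (.leaf 122739) (.leaf 0))) (.node (.node (.leaf 83273) (.leaf 0)) (.node (.leaf 41771) (.leaf 0)))) (.node (.node (.node (.leaf 53398) (.leaf 10150)) (.node (.leaf 103266) (.leaf 0))) (.node (.node (.leaf 110588) (.leaf 0)) (.node (.leaf 17504) (.leaf 0)))))) (.node (.node (.node (.node (.node (.leaf 26012) (.leaf 63478)) (.node (.leaf 57560) (.leaf 0))) (.node (.node (.leaf 65009) (.leaf 0)) (.node (.leaf 84225) (.leaf 0)))) (.node (.node (.node (.leaf 113570) (.leaf 14963)) (.node (.leaf 32049) (.leaf 0))) (.node (.node (.leaf 73508) (.leaf 0)) (.node (.leaf 29035) (.leaf 0))))) (.node (.node (.node (.node (.leaf 45869) (.leaf 61831)) (.node (.leaf 16671) (.leaf 0))) (.node (.node (.leaf 82286) (.leaf 0)) (.node (.leaf 4521) (.leaf 0)))) (.node (.node (.node (.leaf 59173) (.leaf 113609)) (.node (.leaf 29910) (.leaf 0))) (.node (.node (.leaf 443) (.leaf 0)) (.node (.leaf 28620) (.leaf 0)))))))) (.node (.node (.node (.node (.node (.node (.node (.leaf 130849) (.leaf 48107))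 (.node (.leaf 11262) (.leaf 0))) (.node (.node (.leaf 55045) (.leaf 0)) (.node (.leaf 12150) (.leaf 0)))) (.node (.node (.node (.leaf 54179) (.leaf 69062)) (.node (.leaf 104245) (.leaf 0))) (.node (.node (.leaf 10297) (.leaf 0)) (.node (.leaf 64826) (.leaf 0))))) (.node (.node (.node (.node (.leaf 109412) (.leaf 118058)) (.node (.leaf 18292) (.leaf 0))) (.node (.node (.leaf 47375) (.leaf 0)) (.node (.leaf 54112) (.leaf 0)))) (.node (.node (.node (.leaf 27859) (.leaf 113489)) (.node (.leaf 33016) (.leaf 0))) (.node (.node (.leaf 54950) (.leaf 0)) (.node (.leaf 10281) (.leaf 0)))))) (.node (.node (.node (.node (.node (.leaf 82346) (.leaf 12286)) (.node (.leaf 91074) (.leaf 0))) (.node (.node (.leaf 73170) (.leaf 0)) (.node (.leaf 97056) (.leaf 0)))) (.node (.node (.node (.leaf 44773) (.leaf 17761)) (.node (.leaf 31538) (.leaf 0))) (.node (.node (.leaf 30178) (.leaf 0)) (.node (.leaf 49567) (.leaf 0))))) (.node (.node (.node (.node (.leaf 7258) (.leaf 33973)) (.node (.leaf 66443) (.leaf 0))) (.node (.node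 (.leaf 812) (.leaf 0)) (.node (.leaf 60914) (.leaf 0)))) (.node (.node (.node (.leaf 28458) (.leaf 51393)) (.node (.leaf 49061) (.leaf 0))) (.node (.node (.leaf 5143) (.leaf 0)) (.node (.leaf 18013) (.leaf 0))))))) (.node (.node (.node (.node (.node (.node (.leaf 14585) (.leaf 47793)) (.node (.leaf 23235) (.leaf 0))) (.node (.node (.leaf 102216) (.leaf 0)) (.node (.leaf 29456) (.leaf 0)))) (.node (.node (.node (.leaf 44383) (.leaf 39828)) (.node (.leaf 26744) (.leaf 0))) (.node (.node (.leaf 1984) (.leaf 0)) (.node (.leaf 12091) (.leaf 0))))) (.node (.node (.node (.node (.leaf 42495) (.leaf 113651)) (.node (.leaf 16751) (.leaf 0))) (.node (.node (.leaf 4831) (.leaf 0)) (.node (.leaf 28534) (.leaf 0)))) (.node (.node (.node (.leaf 5983) (.leaf 47805)) (.node (.leaf 25695) (.leaf 0))) (.node (.node (.leaf 123794) (.leaf 0)) (.node (.leaf 43519) (.leaf 0)))))) (.node (.node (.node (.node (.node (.leaf 127888) (.leaf 102880)) (.node (.leaf 107286) (.leaf 0))) (.node (.node (.leaf 59237) (.leaf 0)) (.node (.leaf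 21476) (.leaf 0)))) (.node (.node (.node (.leaf 6249) (.leaf 51950)) (.node (.leaf 71131) (.leaf 0))) (.node (.node (.leaf 58077) (.leaf 0)) (.node (.leaf 111521) (.leaf 0))))) (.node (.node (.node (.node (.leaf 37592) (.leaf 32395)) (.node (.leaf 29463) (.leaf 0))) (.node (.node (.leaf 4823) (.leaf 0)) (.node (.leaf 120309) (.leaf 0)))) (.node (.node (.node (.leaf 99098) (.leaf 130821)) (.node (.leaf 62838) (.leaf 0))) (.node (.node (.leaf 78296) (.leaf 0)) (.node (.leaf 120608) (.leaf 0))))))))

def kT20 : NT := .node (.node (.node (.node (.node (.node (.node (.node (.leaf 54570) (.leaf 105308)) (.node (.leaf 126326) (.leaf 0))) (.node (.node (.leaf 50998) (.leaf 115704)) (.node (.leaf 92979) (.leaf 0)))) (.node (.node (.node (.leaf 48633) (.leaf 47947)) (.node (.leaf 7500) (.leaf 0))) (.node (.node (.leaf 53597) (.leaf 0)) (.node (.leaf 100860) (.leaf 0))))) (.node (.node (.node (.node (.leaf 42859) (.leaf 10599)) (.node (.leaf 123768) (.leaf 0))) (.node (.node (.leaf 45760) (.leaf 0)) (.node (.leaf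 2454) (.leaf 0)))) (.node (.node (.node (.leaf 103280) (.leaf 13676)) (.node (.leaf 80280) (.leaf 0))) (.node (.node (.leaf 111581) (.leaf 0)) (.node (.leaf 98742) (.leaf 0)))))) (.node (.node (.node (.node (.node (.leaf 121814) (.leaf 77076)) (.node (.leaf 31551) (.leaf 0))) (.node (.node (.leaf 17707) (.leaf 0)) (.node (.leaf 34501) (.leaf 0)))) (.node (.node (.node (.leaf 36347) (.leaf 65489)) (.node (.leaf 17562) (.leaf 0))) (.node (.node (.leaf 1413) (.leaf 0)) (.node (.leaf 32379) (.leaf 0))))) (.node (.node (.node (.node (.leaf 35513) (.leaf 17479)) (.node (.leaf 8347) (.leaf 0))) (.node (.node (.leaf 21846) (.leaf 0)) (.node (.leaf 23887) (.leaf 0)))) (.node (.node (.node (.leaf 85436) (.leaf 83862)) (.node (.leaf 123296) (.leaf 0))) (.node (.node (.leaf 57199) (.leaf 0)) (.node (.leaf 53461) (.leaf 0))))))) (.node (.node (.node (.node (.node (.node (.leaf 85254) (.leaf 47421)) (.node (.leaf 81173) (.leaf 0))) (.node (.node (.leaf 62269) (.leaf 0)) (.node (.leaf 71483) (.leaf 0)))) (.node (.node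 (.node (.leaf 48366) (.leaf 8440)) (.node (.leaf 87038) (.leaf 0))) (.node (.node (.leaf 34656) (.leaf 0)) (.node (.leaf 131057) (.leaf 0))))) (.node (.node (.node (.node (.leaf 126303) (.leaf 29080)) (.node (.leaf 90611) (.leaf 0))) (.node (.node (.leaf 97150) (.leaf 0)) (.node (.leaf 75063) (.leaf 0)))) (.node (.node (.node (.leaf 2247) (.leaf 127375)) (.node (.leaf 33478) (.leaf 0))) (.node (.node (.leaf 69947) (.leaf 0)) (.node (.leaf 61436) (.leaf 0)))))) (.node (.node (.node (.node (.node (.leaf 1175) (.leaf 98151)) (.node (.leaf 40447) (.leaf 0))) (.node (.node (.leaf 93968) (.leaf 0)) (.node (.leaf 31371) (.leaf 0)))) (.node (.node (.node (.leaf 128773) (.leaf 40814)) (.node (.leaf 28316) (.leaf 0))) (.node (.node (.leaf 33442) (.leaf 0)) (.node (.leaf 29626) (.leaf 0))))) (.node (.node (.node (.node (.leaf 69558) (.leaf 89994)) (.node (.leaf 37300) (.leaf 0))) (.node (.node (.leaf 61419) (.leaf 0)) (.node (.leaf 32523) (.leaf 0)))) (.node (.node (.node (.leaf 78831) (.leaf 93162)) (.node (.leaf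 451) (.leaf 0))) (.node (.node (.leaf 97205) (.leaf 0)) (.node (.leaf 35314) (.leaf 0)))))))) (.node (.node (.node (.node (.node (.node (.node (.leaf 19600) (.leaf 35610)) (.node (.leaf 56969) (.leaf 0))) (.node (.node (.leaf 84765) (.leaf 0)) (.node (.leaf 79182) (.leaf 0)))) (.node (.node (.node (.leaf 48861) (.leaf 11137)) (.node (.leaf 53179) (.leaf 0))) (.node (.node (.leaf 60636) (.leaf 0)) (.node (.leaf 64418) (.leaf 0))))) (.node (.node (.node (.node (.leaf 102786) (.leaf 33572)) (.node (.leaf 47274) (.leaf 0))) (.node (.node (.leaf 53929) (.leaf 0)) (.node (.leaf 61175) (.leaf 0)))) (.node (.node (.node (.leaf 35150) (.leaf 59657)) (.node (.leaf 32542) (.leaf 0))) (.node (.node (.leaf 81788) (.leaf 0)) (.node (.leaf 14418) (.leaf 0)))))) (.node (.node (.node (.node (.node (.leaf 118778) (.leaf 95201)) (.node (.leaf 22707) (.leaf 0))) (.node (.node (.leaf 81356) (.leaf 0)) (.node (.leaf 6586) (.leaf 0)))) (.node (.node (.node (.leaf 15703) (.leaf 38706)) (.node (.leaf 87814) (.leaf 0))) (.node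 (.node (.leaf 83376) (.leaf 0)) (.node (.leaf 8191) (.leaf 0))))) (.node (.node (.node (.node (.leaf 32221) (.leaf 34476)) (.node (.leaf 39882) (.leaf 0))) (.node (.node (.leaf 87356) (.leaf 0)) (.node (.leaf 73599) (.leaf 0)))) (.node (.node (.node (.leaf 33546) (.leaf 34794)) (.node (.leaf 46357) (.leaf 0))) (.node (.node (.leaf 39681) (.leaf 0)) (.node (.leaf 59255) (.leaf 0))))))) (.node (.node (.node (.node (.node (.node (.leaf 111456) (.leaf 65519)) (.node (.leaf 90529) (.leaf 0))) (.node (.node (.leaf 4189) (.leaf 0)) (.node (.leaf 106924) (.leaf 0)))) (.node (.node (.node (.leaf 60169) (.leaf 8579)) (.node (.leaf 90588) (.leaf 0))) (.node (.node (.leaf 125327) (.leaf 0)) (.node (.leaf 5454) (.leaf 0))))) (.node (.node (.node (.node (.leaf 13731) (.leaf 13530)) (.node (.leaf 2402) (.leaf 0))) (.node (.node (.leaf 59529) (.leaf 0)) (.node (.leaf 99702) (.leaf 0)))) (.node (.node (.node (.leaf 64447) (.leaf 127236)) (.node (.leaf 100147) (.leaf 0))) (.node (.node (.leaf 17693) (.leaf 0)) (.node (.leaf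 128927) (.leaf 0)))))) (.node (.node (.node (.node (.node (.leaf 117741) (.leaf 453)) (.node (.leaf 15972) (.leaf 0))) (.node (.node (.leaf 32249) (.leaf 0)) (.node (.leaf 10550) (.leaf 0)))) (.node (.node (.node (.leaf 1504) (.leaf 93459)) (.node (.leaf 1406) (.leaf 0))) (.node (.node (.leaf 111028) (.leaf 0)) (.node (.leaf 56153) (.leaf 0))))) (.node (.node (.node (.node (.leaf 19364) (.leaf 47924)) (.node (.leaf 13706) (.leaf 0))) (.node (.node (.leaf 117046) (.leaf 0)) (.node (.leaf 70964) (.leaf 0)))) (.node (.node (.node (.leaf 3354) (.leaf 39935)) (.node (.leaf 91575) (.leaf 0))) (.node (.node (.leaf 7446) (.leaf 0)) (.node (.leaf 6301) (.leaf 0))))))))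

def kT21 : NT := .node (.node (.node (.node (.node (.node (.node (.node (.leaf 13540) (.leaf 19851)) (.node (.leaf 115042) (.leaf 0))) (.node (.node (.leaf 31560) (.leaf 37795)) (.node (.leaf 13955) (.leaf 0)))) (.node (.node (.node (.leaf 22147) (.leaf 25352)) (.node (.leaf 8087) (.leaf 0))) (.node (.node (.leaf 61595) (.leaf 0)) (.node (.leaf 59835) (.leaf 0))))) (.node (.node (.node (.node (.leaf 75577) (.leaf 96059)) (.node (.leaf 51694) (.leaf 0))) (.node (.node (.leaf 51553) (.leaf 0)) (.node (.leaf 104209) (.leaf 0)))) (.node (.node (.node (.leaf 21966) (.leaf 78332)) (.node (.leaf 13997) (.leaf 0))) (.node (.node (.leaf 101843) (.leaf 0)) (.node (.leaf 15420) (.leaf 0)))))) (.node (.node (.node (.node (.node (.leaf 48259) (.leaf 23684)) (.node (.leaf 20062) (.leaf 0))) (.node (.node (.leaf 38769) (.leaf 0)) (.node (.leaf 105872) (.leaf 0)))) (.node (.node (.node (.leaf 21434) (.leaf 69045)) (.node (.leaf 115498) (.leaf 0))) (.node (.node (.leaf 74623) (.leaf 0)) (.node (.leaf 76760) (.leaf 0)))))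 (.node (.node (.node (.node (.leaf 40264) (.leaf 21154)) (.node (.leaf 56269) (.leaf 0))) (.node (.node (.leaf 67545) (.leaf 0)) (.node (.leaf 32217) (.leaf 0)))) (.node (.node (.node (.leaf 98731) (.leaf 89974)) (.node (.leaf 64482) (.leaf 0))) (.node (.node (.leaf 111981) (.leaf 0)) (.node (.leaf 23266) (.leaf 0))))))) (.node (.node (.node (.node (.node (.node (.leaf 90413) (.leaf 49339)) (.node (.leaf 128357) (.leaf 0))) (.node (.node (.leaf 78144) (.leaf 0)) (.node (.leaf 37202) (.leaf 0)))) (.node (.node (.node (.leaf 81366) (.leaf 3946)) (.node (.leaf 106313) (.leaf 0))) (.node (.node (.leaf 59129) (.leaf 0)) (.node (.leaf 9186) (.leaf 0))))) (.node (.node (.node (.node (.leaf 67407) (.leaf 5575)) (.node (.leaf 18297) (.leaf 0))) (.node (.node (.leaf 22919) (.leaf 0)) (.node (.leaf 33607) (.leaf 0)))) (.node (.node (.node (.leaf 47932) (.leaf 54253)) (.node (.leaf 9022) (.leaf 0))) (.node (.node (.leaf 19455) (.leaf 0)) (.node (.leaf 120110) (.leaf 0)))))) (.node (.node (.node (.node (.node (.leaf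 80861) (.leaf 96139)) (.node (.leaf 52703) (.leaf 0))) (.node (.node (.leaf 58242) (.leaf 0)) (.node (.leaf 93695) (.leaf 0)))) (.node (.node (.node (.leaf 19678) (.leaf 122777)) (.node (.leaf 7948) (.leaf 0))) (.node (.node (.leaf 91081) (.leaf 0)) (.node (.leaf 14744) (.leaf 0))))) (.node (.node (.node (.node (.leaf 14740) (.leaf 41713)) (.node (.leaf 8387) (.leaf 0))) (.node (.node (.leaf 50487) (.leaf 0)) (.node (.leaf 50648) (.leaf 0)))) (.node (.node (.node (.leaf 12921) (.leaf 59774)) (.node (.leaf 38341) (.leaf 0))) (.node (.node (.leaf 100801) (.leaf 0)) (.node (.leaf 46338) (.leaf 0)))))))) (.node (.node (.node (.node (.node (.node (.node (.leaf 66519) (.leaf 117159)) (.node (.leaf 84874) (.leaf 0))) (.node (.node (.leaf 14656) (.leaf 0)) (.node (.leaf 42207) (.leaf 0)))) (.node (.node (.node (.leaf 90947) (.leaf 118533)) (.node (.leaf 81916) (.leaf 0))) (.node (.node (.leaf 41385) (.leaf 0)) (.node (.leaf 74148) (.leaf 0))))) (.node (.node (.node (.node (.leaf 21670) (.leaf 128503)) (.node (.leaf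 84783) (.leaf 0))) (.node (.node (.leaf 103680) (.leaf 0)) (.node (.leaf 118721) (.leaf 0)))) (.node (.node (.node (.leaf 39892) (.leaf 98116)) (.node (.leaf 108991) (.leaf 0))) (.node (.node (.leaf 29129) (.leaf 0)) (.node (.leaf 49086) (.leaf 0)))))) (.node (.node (.node (.node (.node (.leaf 43871) (.leaf 13880)) (.node (.leaf 40623) (.leaf 0))) (.node (.node (.leaf 85286) (.leaf 0)) (.node (.leaf 12634) (.leaf 0)))) (.node (.node (.node (.leaf 119196) (.leaf 17798)) (.node (.leaf 15628) (.leaf 0))) (.node (.node (.leaf 128796) (.leaf 0)) (.node (.leaf 115641) (.leaf 0))))) (.node (.node (.node (.node (.leaf 37593) (.leaf 11129)) (.node (.leaf 67581) (.leaf 0))) (.node (.node (.leaf 9622) (.leaf 0)) (.node (.leaf 41737) (.leaf 0)))) (.node (.node (.node (.leaf 79128) (.leaf 18883)) (.node (.leaf 54239) (.leaf 0))) (.node (.node (.leaf 123328) (.leaf 0)) (.node (.leaf 49935) (.leaf 0))))))) (.node (.node (.node (.node (.node (.node (.leaf 21614) (.leaf 20978)) (.node (.leaf 19876) (.leaf 0))) (.node (.node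 (.leaf 46896) (.leaf 0)) (.node (.leaf 82900) (.leaf 0)))) (.node (.node (.node (.leaf 98241) (.leaf 58629)) (.node (.leaf 105938) (.leaf 0))) (.node (.node (.leaf 63274) (.leaf 0)) (.node (.leaf 10006) (.leaf 0))))) (.node (.node (.node (.node (.leaf 82782) (.leaf 97773)) (.node (.leaf 35801) (.leaf 0))) (.node (.node (.leaf 123652) (.leaf 0)) (.node (.leaf 124328) (.leaf 0)))) (.node (.node (.node (.leaf 61742) (.leaf 23692)) (.node (.leaf 10221) (.leaf 0))) (.node (.node (.leaf 68082) (.leaf 0)) (.node (.leaf 52589) (.leaf 0)))))) (.node (.node (.node (.node (.node (.leaf 126436) (.leaf 98152)) (.node (.leaf 11704) (.leaf 0))) (.node (.node (.leaf 28270) (.leaf 0)) (.node (.leaf 1193) (.leaf 0)))) (.node (.node (.node (.leaf 19092) (.leaf 8333)) (.node (.leaf 6713) (.leaf 0))) (.node (.node (.leaf 101263) (.leaf 0)) (.node (.leaf 90925) (.leaf 0))))) (.node (.node (.node (.node (.leaf 120108) (.leaf 19943)) (.node (.leaf 48982) (.leaf 0))) (.node (.node (.leaf 31577) (.leaf 0)) (.node (.leaf 58338)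 (.leaf 0)))) (.node (.node (.node (.leaf 63963) (.leaf 130890)) (.node (.leaf 118107) (.leaf 0))) (.node (.node (.leaf 99089) (.leaf 0)) (.node (.leaf 4841) (.leaf 0))))))))

def kT22 : NT := .node (.node (.node (.node (.node (.node (.node (.node (.leaf 68523) (.leaf 95231)) (.node (.leaf 1783) (.leaf 0))) (.node (.node (.leaf 41352) (.leaf 62879)) (.node (.leaf 37590) (.leaf 0)))) (.node (.node (.node (.leaf 100290) (.leaf 108889)) (.node (.leaf 124191) (.leaf 0))) (.node (.node (.leaf 41644) (.leaf 0)) (.node (.leaf 10868) (.leaf 0))))) (.node (.node (.node (.node (.leaf 116014) (.leaf 24299)) (.node (.leaf 115053) (.leaf 0))) (.node (.node (.leaf 118228) (.leaf 0)) (.node (.leaf 74224) (.leaf 0)))) (.node (.node (.node (.leaf 45227) (.leaf 83423)) (.node (.leaf 130405) (.leaf 0))) (.node (.node (.leaf 51968) (.leaf 0)) (.node (.leaf 123747) (.leaf 0)))))) (.node (.node (.node (.node (.node (.leaf 45531) (.leaf 127977)) (.node (.leaf 6948) (.leaf 0))) (.node (.node (.leaf 56521) (.leaf 0)) (.node (.leaf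 29507) (.leaf 0)))) (.node (.node (.node (.leaf 41103) (.leaf 110381)) (.node (.leaf 13926) (.leaf 0))) (.node (.node (.leaf 14493) (.leaf 0)) (.node (.leaf 181) (.leaf 0))))) (.node (.node (.node (.node (.leaf 4497) (.leaf 18574)) (.node (.leaf 21668) (.leaf 0))) (.node (.node (.leaf 20963) (.leaf 0)) (.node (.leaf 56483) (.leaf 0)))) (.node (.node (.node (.leaf 29989) (.leaf 124705)) (.node (.leaf 92091) (.leaf 0))) (.node (.node (.leaf 55153) (.leaf 0)) (.node (.leaf 127378) (.leaf 0))))))) (.node (.node (.node (.node (.node (.node (.leaf 85824) (.leaf 74218)) (.node (.leaf 79793) (.leaf 0))) (.node (.node (.leaf 13632) (.leaf 0)) (.node (.leaf 4581) (.leaf 0)))) (.node (.node (.node (.leaf 33927) (.leaf 112472)) (.node (.leaf 69026) (.leaf 0))) (.node (.node (.leaf 28102) (.leaf 0)) (.node (.leaf 91112) (.leaf 0))))) (.node (.node (.node (.node (.leaf 115550) (.leaf 15285)) (.node (.leaf 38025) (.leaf 0))) (.node (.node (.leaf 46955) (.leaf 0)) (.node (.leaf 130889) (.leaf 0)))) (.node (.node (.node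 (.leaf 73714) (.leaf 48486)) (.node (.leaf 7751) (.leaf 0))) (.node (.node (.leaf 120319) (.leaf 0)) (.node (.leaf 30796) (.leaf 0)))))) (.node (.node (.node (.node (.node (.leaf 7606) (.leaf 3577)) (.node (.leaf 128415) (.leaf 0))) (.node (.node (.leaf 119232) (.leaf 0)) (.node (.leaf 118247) (.leaf 0)))) (.node (.node (.node (.leaf 68434) (.leaf 1208)) (.node (.leaf 43712) (.leaf 0))) (.node (.node (.leaf 12956) (.leaf 0)) (.node (.leaf 102161) (.leaf 0))))) (.node (.node (.node (.node (.leaf 53378) (.leaf 96086)) (.node (.leaf 46819) (.leaf 0))) (.node (.node (.leaf 35597) (.leaf 0)) (.node (.leaf 1886) (.leaf 0)))) (.node (.node (.node (.leaf 13574) (.leaf 38212)) (.node (.leaf 54587) (.leaf 0))) (.node (.node (.leaf 82276) (.leaf 0)) (.node (.leaf 66849) (.leaf 0)))))))) (.node (.node (.node (.node (.node (.node (.node (.leaf 66863) (.leaf 4359)) (.node (.leaf 44537) (.leaf 0))) (.node (.node (.leaf 26052) (.leaf 0)) (.node (.leaf 111545) (.leaf 0)))) (.node (.node (.node (.leaf 67384) (.leaf 120744))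 (.node (.leaf 70009) (.leaf 0))) (.node (.node (.leaf 63112) (.leaf 0)) (.node (.leaf 67954) (.leaf 0))))) (.node (.node (.node (.node (.leaf 39783) (.leaf 83266)) (.node (.leaf 55693) (.leaf 0))) (.node (.node (.leaf 30468) (.leaf 0)) (.node (.leaf 10114) (.leaf 0)))) (.node (.node (.node (.leaf 95696) (.leaf 56670)) (.node (.leaf 77691) (.leaf 0))) (.node (.node (.leaf 8951) (.leaf 0)) (.node (.leaf 54929) (.leaf 0)))))) (.node (.node (.node (.node (.node (.leaf 30539) (.leaf 41131)) (.node (.leaf 80725) (.leaf 0))) (.node (.node (.leaf 126315) (.leaf 0)) (.node (.leaf 8971) (.leaf 0)))) (.node (.node (.node (.leaf 35657) (.leaf 36811)) (.node (.leaf 61270) (.leaf 0))) (.node (.node (.leaf 36614) (.leaf 0)) (.node (.leaf 13045) (.leaf 0))))) (.node (.node (.node (.node (.leaf 13220) (.leaf 61821)) (.node (.leaf 79657) (.leaf 0))) (.node (.node (.leaf 104224) (.leaf 0)) (.node (.leaf 52471) (.leaf 0)))) (.node (.node (.node (.leaf 35270) (.leaf 41742)) (.node (.leaf 26043) (.leaf 0))) (.node (.node (.leaf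 111598) (.leaf 0)) (.node (.leaf 118567) (.leaf 0))))))) (.node (.node (.node (.node (.node (.node (.leaf 20833) (.leaf 121851)) (.node (.leaf 112965) (.leaf 0))) (.node (.node (.leaf 114666) (.leaf 0)) (.node (.leaf 58122) (.leaf 0)))) (.node (.node (.node (.leaf 46313) (.leaf 98251)) (.node (.leaf 96238) (.leaf 0))) (.node (.node (.leaf 102827) (.leaf 0)) (.node (.leaf 113556) (.leaf 0))))) (.node (.node (.node (.node (.leaf 6544) (.leaf 95133)) (.node (.leaf 65532) (.leaf 0))) (.node (.node (.leaf 102671) (.leaf 0)) (.node (.leaf 74572) (.leaf 0)))) (.node (.node (.node (.leaf 87906) (.leaf 128344)) (.node (.leaf 12421) (.leaf 0))) (.node (.node (.leaf 62252) (.leaf 0)) (.node (.leaf 122171) (.leaf 0)))))) (.node (.node (.node (.node (.node (.leaf 101154) (.leaf 130943)) (.node (.leaf 103915) (.leaf 0))) (.node (.node (.leaf 45931) (.leaf 0)) (.node (.leaf 54225) (.leaf 0)))) (.node (.node (.node (.leaf 16614) (.leaf 2475)) (.node (.leaf 43668) (.leaf 0))) (.node (.node (.leaf 11843) (.leaf 0)) (.node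 (.leaf 2552) (.leaf 0))))) (.node (.node (.node (.node (.leaf 46992) (.leaf 61940)) (.node (.leaf 60284) (.leaf 0))) (.node (.node (.leaf 17718) (.leaf 0)) (.node (.leaf 34267) (.leaf 0)))) (.node (.node (.node (.leaf 109914) (.leaf 25395)) (.node (.leaf 69531) (.leaf 0))) (.node (.node (.leaf 111902) (.leaf 0)) (.node (.leaf 60120) (.leaf 0))))))))

def kT23 : NT := .node (.node (.node (.node (.node (.node (.node (.node (.leaf 5561) (.leaf 1997)) (.node (.leaf 25571) (.leaf 0))) (.node (.node (.leaf 93522) (.leaf 80364)) (.node (.leaf 73725) (.leaf 0)))) (.node (.node (.node (.leaf 125744) (.leaf 47300)) (.node (.leaf 113635) (.leaf 0))) (.node (.node (.leaf 81407) (.leaf 0)) (.node (.leaf 40797) (.leaf 0))))) (.node (.node (.node (.node (.leaf 7707) (.leaf 121733)) (.node (.leaf 30470) (.leaf 0))) (.node (.node (.leaf 96554) (.leaf 0)) (.node (.leaf 37148) (.leaf 0)))) (.node (.node (.node (.leaf 85809) (.leaf 127998)) (.node (.leaf 22153) (.leaf 0))) (.node (.node (.leaf 73634) (.leaf 0)) (.node (.leaf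 51507) (.leaf 0)))))) (.node (.node (.node (.node (.node (.leaf 21377) (.leaf 20942)) (.node (.leaf 6123) (.leaf 0))) (.node (.node (.leaf 122643) (.leaf 0)) (.node (.leaf 106803) (.leaf 0)))) (.node (.node (.node (.leaf 108984) (.leaf 10618)) (.node (.leaf 66498) (.leaf 0))) (.node (.node (.leaf 63996) (.leaf 0)) (.node (.leaf 120585) (.leaf 0))))) (.node (.node (.node (.node (.leaf 117658) (.leaf 75774)) (.node (.leaf 39782) (.leaf 0))) (.node (.node (.leaf 21090) (.leaf 0)) (.node (.leaf 10707) (.leaf 0)))) (.node (.node (.node (.leaf 88331) (.leaf 110459)) (.node (.leaf 58872) (.leaf 0))) (.node (.node (.leaf 75179) (.leaf 0)) (.node (.leaf 34654) (.leaf 0))))))) (.node (.node (.node (.node (.node (.node (.leaf 69089) (.leaf 17196)) (.node (.leaf 5729) (.leaf 0))) (.node (.node (.leaf 62140) (.leaf 0)) (.node (.leaf 1456) (.leaf 0)))) (.node (.node (.node (.leaf 72576) (.leaf 56134)) (.node (.leaf 128982) (.leaf 0))) (.node (.node (.leaf 105884) (.leaf 0)) (.node (.leaf 81821) (.leaf 0))))) (.node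 (.node (.node (.node (.leaf 110508) (.leaf 78314)) (.node (.leaf 34764) (.leaf 0))) (.node (.node (.leaf 42991) (.leaf 0)) (.node (.leaf 66559) (.leaf 0)))) (.node (.node (.node (.leaf 41813) (.leaf 6683)) (.node (.leaf 103289) (.leaf 0))) (.node (.node (.leaf 27746) (.leaf 0)) (.node (.leaf 65493) (.leaf 0)))))) (.node (.node (.node (.node (.node (.leaf 16754) (.leaf 14765)) (.node (.leaf 15969) (.leaf 0))) (.node (.node (.leaf 39166) (.leaf 0)) (.node (.leaf 10102) (.leaf 0)))) (.node (.node (.node (.leaf 33668) (.leaf 3661)) (.node (.leaf 23109) (.leaf 0))) (.node (.node (.leaf 57620) (.leaf 0)) (.node (.leaf 12399) (.leaf 0))))) (.node (.node (.node (.node (.leaf 2295) (.leaf 12653)) (.node (.leaf 98138) (.leaf 0))) (.node (.node (.leaf 22199) (.leaf 0)) (.node (.leaf 55509) (.leaf 0)))) (.node (.node (.node (.leaf 67491) (.leaf 108971)) (.node (.leaf 8430) (.leaf 0))) (.node (.node (.leaf 6779) (.leaf 0)) (.node (.leaf 121726) (.leaf 0)))))))) (.node (.node (.node (.node (.node (.node (.node (.leaf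 13501) (.leaf 17755)) (.node (.leaf 13875) (.leaf 0))) (.node (.node (.leaf 35174) (.leaf 0)) (.node (.leaf 23831) (.leaf 0)))) (.node (.node (.node (.leaf 22413) (.leaf 123257)) (.node (.leaf 99199) (.leaf 0))) (.node (.node (.leaf 73136) (.leaf 0)) (.node (.leaf 1334) (.leaf 0))))) (.node (.node (.node (.node (.leaf 88885) (.leaf 3628)) (.node (.leaf 116996) (.leaf 0))) (.node (.node (.leaf 97708) (.leaf 0)) (.node (.leaf 59390) (.leaf 0)))) (.node (.node (.node (.leaf 29562) (.leaf 65440)) (.node (.leaf 78628) (.leaf 0))) (.node (.node (.leaf 17215) (.leaf 0)) (.node (.leaf 52563) (.leaf 0)))))) (.node (.node (.node (.node (.node (.leaf 44684) (.leaf 60700)) (.node (.leaf 50872) (.leaf 0))) (.node (.node (.leaf 95662) (.leaf 0)) (.node (.leaf 103788) (.leaf 0)))) (.node (.node (.node (.leaf 117048) (.leaf 116083)) (.node (.leaf 60916) (.leaf 0))) (.node (.node (.leaf 117723) (.leaf 0)) (.node (.leaf 79294) (.leaf 0))))) (.node (.node (.node (.node (.leaf 106858) (.leaf 64305)) (.node (.leaf 49974) (.leaf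 0))) (.node (.node (.leaf 44392) (.leaf 0)) (.node (.leaf 127823) (.leaf 0)))) (.node (.node (.node (.leaf 91092) (.leaf 41605)) (.node (.leaf 50058) (.leaf 0))) (.node (.node (.leaf 56617) (.leaf 0)) (.node (.leaf 66487) (.leaf 0))))))) (.node (.node (.node (.node (.node (.node (.leaf 3378) (.leaf 82736)) (.node (.leaf 12048) (.leaf 0))) (.node (.node (.leaf 35287) (.leaf 0)) (.node (.leaf 31015) (.leaf 0)))) (.node (.node (.node (.leaf 1996) (.leaf 32241)) (.node (.leaf 25882) (.leaf 0))) (.node (.node (.leaf 62715) (.leaf 0)) (.node (.leaf 71019) (.leaf 0))))) (.node (.node (.node (.node (.leaf 104854) (.leaf 105335)) (.node (.leaf 105927) (.leaf 0))) (.node (.node (.leaf 16056) (.leaf 0)) (.node (.leaf 87364) (.leaf 0)))) (.node (.node (.node (.leaf 1924) (.leaf 96595)) (.node (.leaf 4802) (.leaf 0))) (.node (.node (.leaf 80360) (.leaf 0)) (.node (.leaf 76595) (.leaf 0)))))) (.node (.node (.node (.node (.node (.leaf 84458) (.leaf 25409)) (.node (.leaf 101371) (.leaf 0))) (.node (.node (.leaf 118113)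 (.leaf 0)) (.node (.leaf 91582) (.leaf 0)))) (.node (.node (.node (.leaf 66991) (.leaf 102352)) (.node (.leaf 65934) (.leaf 0))) (.node (.node (.leaf 40336) (.leaf 0)) (.node (.leaf 30685) (.leaf 0))))) (.node (.node (.node (.node (.leaf 78682) (.leaf 49796)) (.node (.leaf 32193) (.leaf 0))) (.node (.node (.leaf 113638) (.leaf 0)) (.node (.leaf 21100) (.leaf 0)))) (.node (.node (.node (.leaf 101289) (.leaf 122259)) (.node (.leaf 20092) (.leaf 0))) (.node (.node (.leaf 64712) (.leaf 0)) (.node (.leaf 47432) (.leaf 0))))))))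

def kT24 : NT := .node (.node (.node (.node (.node (.node (.node (.node (.leaf 19559) (.leaf 113953)) (.node (.leaf 46424) (.leaf 0))) (.node (.node (.leaf 10480) (.leaf 12265)) (.node (.leaf 124280) (.leaf 0)))) (.node (.node (.node (.leaf 5464) (.leaf 52001)) (.node (.leaf 6140) (.leaf 0))) (.node (.node (.leaf 99257) (.leaf 0)) (.node (.leaf 3115) (.leaf 0))))) (.node (.node (.node (.node (.leaf 24813) (.leaf 9276)) (.node (.leaf 107421) (.leaf 0))) (.node (.node (.leaf 3516) (.leaf 0)) (.node (.leaf 20731) (.leaf 0)))) (.node (.node (.node (.leaf 46748) (.leaf 109337)) (.node (.leaf 45551) (.leaf 0))) (.node (.node (.leaf 89940) (.leaf 0)) (.node (.leaf 21656) (.leaf 0)))))) (.node (.node (.node (.node (.node (.leaf 81785) (.leaf 46277)) (.node (.leaf 27886) (.leaf 0))) (.node (.node (.leaf 12334) (.leaf 0)) (.node (.leaf 116007) (.leaf 0)))) (.node (.node (.node (.leaf 66838) (.leaf 32766)) (.node (.leaf 53555) (.leaf 0))) (.node (.node (.leaf 59177) (.leaf 0)) (.node (.leaf 18541) (.leaf 0)))))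 (.node (.node (.node (.node (.leaf 4536) (.leaf 8648)) (.node (.leaf 59299) (.leaf 0))) (.node (.node (.leaf 37685) (.leaf 0)) (.node (.leaf 29673) (.leaf 0)))) (.node (.node (.node (.leaf 34750) (.leaf 127896)) (.node (.leaf 3729) (.leaf 0))) (.node (.node (.leaf 7527) (.leaf 0)) (.node (.leaf 106316) (.leaf 0))))))) (.node (.node (.node (.node (.node (.node (.leaf 119597) (.leaf 100859)) (.node (.leaf 59256) (.leaf 0))) (.node (.node (.leaf 45266) (.leaf 0)) (.node (.leaf 7002) (.leaf 0)))) (.node (.node (.node (.leaf 11514) (.leaf 35557)) (.node (.leaf 8651) (.leaf 0))) (.node (.node (.leaf 31106) (.leaf 0)) (.node (.leaf 23370) (.leaf 0))))) (.node (.node (.node (.node (.leaf 76723) (.leaf 64176)) (.node (.leaf 58064) (.leaf 0))) (.node (.node (.leaf 42928) (.leaf 0)) (.node (.leaf 127950) (.leaf 0)))) (.node (.node (.node (.leaf 10791) (.leaf 28081)) (.node (.leaf 78166) (.leaf 0))) (.node (.node (.leaf 77262) (.leaf 0)) (.node (.leaf 110337) (.leaf 0)))))) (.node (.node (.node (.node (.node (.leaf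 2702) (.leaf 11366)) (.node (.leaf 3687) (.leaf 0))) (.node (.node (.leaf 47959) (.leaf 0)) (.node (.leaf 9725) (.leaf 0)))) (.node (.node (.node (.leaf 74015) (.leaf 126923)) (.node (.leaf 52980) (.leaf 0))) (.node (.node (.leaf 31134) (.leaf 0)) (.node (.leaf 38530) (.leaf 0))))) (.node (.node (.node (.node (.leaf 31469) (.leaf 90940)) (.node (.leaf 15857) (.leaf 0))) (.node (.node (.leaf 71037) (.leaf 0)) (.node (.leaf 55700) (.leaf 0)))) (.node (.node (.node (.leaf 36237) (.leaf 128303)) (.node (.leaf 68582) (.leaf 0))) (.node (.node (.leaf 62122) (.leaf 0)) (.node (.leaf 112936) (.leaf 0)))))))) (.node (.node (.node (.node (.node (.node (.node (.leaf 23753) (.leaf 82832)) (.node (.leaf 15450) (.leaf 0))) (.node (.node (.leaf 36754) (.leaf 0)) (.node (.leaf 113105) (.leaf 0)))) (.node (.node (.node (.leaf 10222) (.leaf 88035)) (.node (.leaf 88870) (.leaf 0))) (.node (.node (.leaf 64320) (.leaf 0)) (.node (.leaf 6038) (.leaf 0))))) (.node (.node (.node (.node (.leaf 113522) (.leaf 118748)) (.node (.leaf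 112451) (.leaf 0))) (.node (.node (.leaf 69472) (.leaf 0)) (.node (.leaf 79717) (.leaf 0)))) (.node (.node (.node (.leaf 77295) (.leaf 24248)) (.node (.leaf 84377) (.leaf 0))) (.node (.node (.leaf 30586) (.leaf 0)) (.node (.leaf 64141) (.leaf 0)))))) (.node (.node (.node (.node (.node (.leaf 50959) (.leaf 52376)) (.node (.leaf 19263) (.leaf 0))) (.node (.node (.leaf 60695) (.leaf 0)) (.node (.leaf 130968) (.leaf 0)))) (.node (.node (.node (.leaf 110956) (.leaf 32909)) (.node (.leaf 124831) (.leaf 0))) (.node (.node (.leaf 110401) (.leaf 0)) (.node (.leaf 3406) (.leaf 0))))) (.node (.node (.node (.node (.leaf 111615) (.leaf 63431)) (.node (.leaf 36721) (.leaf 0))) (.node (.node (.leaf 83843) (.leaf 0)) (.node (.leaf 56559) (.leaf 0)))) (.node (.node (.node (.leaf 17839) (.leaf 23542)) (.node (.leaf 34150) (.leaf 0))) (.node (.node (.leaf 84920) (.leaf 0)) (.node (.leaf 61324) (.leaf 0))))))) (.node (.node (.node (.node (.node (.node (.leaf 110017) (.leaf 85265)) (.node (.leaf 82763) (.leaf 0))) (.node (.node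 (.leaf 15521) (.leaf 0)) (.node (.leaf 1690) (.leaf 0)))) (.node (.node (.node (.leaf 42875) (.leaf 40369)) (.node (.leaf 71959) (.leaf 0))) (.node (.node (.leaf 19398) (.leaf 0)) (.node (.leaf 123705) (.leaf 0))))) (.node (.node (.node (.node (.leaf 110928) (.leaf 25986)) (.node (.leaf 77766) (.leaf 0))) (.node (.node (.leaf 13111) (.leaf 0)) (.node (.leaf 58670) (.leaf 0)))) (.node (.node (.node (.leaf 99150) (.leaf 47022)) (.node (.leaf 48905) (.leaf 0))) (.node (.node (.leaf 61632) (.leaf 0)) (.node (.leaf 69921) (.leaf 0)))))) (.node (.node (.node (.node (.node (.leaf 130965) (.leaf 80178)) (.node (.leaf 68475) (.leaf 0))) (.node (.node (.leaf 44901) (.leaf 0)) (.node (.leaf 99226) (.leaf 0)))) (.node (.node (.node (.leaf 121303) (.leaf 107454)) (.node (.leaf 76037) (.leaf 0))) (.node (.node (.leaf 15671) (.leaf 0)) (.node (.leaf 46298) (.leaf 0))))) (.node (.node (.node (.node (.leaf 51415) (.leaf 100303)) (.node (.leaf 70636) (.leaf 0))) (.node (.node (.leaf 39093) (.leaf 0)) (.node (.leaf 75240)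 (.leaf 0)))) (.node (.node (.node (.leaf 124753) (.leaf 32120)) (.node (.leaf 24961) (.leaf 0))) (.node (.node (.leaf 27316) (.leaf 0)) (.node (.leaf 23204) (.leaf 0))))))))

def kT25 : NT := .node (.node (.node (.node (.node (.node (.node (.node (.leaf 82322) (.leaf 21457)) (.node (.leaf 22414) (.leaf 0))) (.node (.node (.leaf 11606) (.leaf 61057)) (.node (.leaf 43708) (.leaf 0)))) (.node (.node (.node (.leaf 4008) (.leaf 40383)) (.node (.leaf 79735) (.leaf 0))) (.node (.node (.leaf 112939) (.leaf 0)) (.node (.leaf 87511) (.leaf 0))))) (.node (.node (.node (.node (.leaf 123356) (.leaf 31204)) (.node (.leaf 32739) (.leaf 0))) (.node (.node (.leaf 68891) (.leaf 0)) (.node (.leaf 51023) (.leaf 0)))) (.node (.node (.node (.leaf 14683) (.leaf 89536)) (.node (.leaf 13303) (.leaf 0))) (.node (.node (.leaf 94483) (.leaf 0)) (.node (.leaf 5914) (.leaf 0)))))) (.node (.node (.node (.node (.node (.leaf 41162) (.leaf 15869)) (.node (.leaf 58747) (.leaf 0))) (.node (.node (.leaf 37235) (.leaf 0)) (.node (.leaf 45301)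 (.leaf 0)))) (.node (.node (.node (.leaf 70981) (.leaf 83403)) (.node (.leaf 4253) (.leaf 0))) (.node (.node (.leaf 109424) (.leaf 0)) (.node (.leaf 15802) (.leaf 0))))) (.node (.node (.node (.node (.leaf 33046) (.leaf 94546)) (.node (.leaf 32553) (.leaf 0))) (.node (.node (.leaf 101188) (.leaf 0)) (.node (.leaf 83286) (.leaf 0)))) (.node (.node (.node (.leaf 35205) (.leaf 77654)) (.node (.leaf 16513) (.leaf 0))) (.node (.node (.leaf 57570) (.leaf 0)) (.node (.leaf 32367) (.leaf 0))))))) (.node (.node (.node (.node (.node (.node (.leaf 93561) (.leaf 15077)) (.node (.leaf 109550) (.leaf 0))) (.node (.node (.leaf 8588) (.leaf 0)) (.node (.leaf 6302) (.leaf 0)))) (.node (.node (.node (.leaf 21641) (.leaf 36297)) (.node (.leaf 30351) (.leaf 0))) (.node (.node (.leaf 57533) (.leaf 0)) (.node (.leaf 38600) (.leaf 0))))) (.node (.node (.node (.node (.leaf 56067) (.leaf 10562)) (.node (.leaf 10453) (.leaf 0))) (.node (.node (.leaf 75610) (.leaf 0)) (.node (.leaf 56687) (.leaf 0)))) (.node (.node (.node (.leaf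 82919) (.leaf 39348)) (.node (.leaf 58585) (.leaf 0))) (.node (.node (.leaf 15999) (.leaf 0)) (.node (.leaf 73717) (.leaf 0)))))) (.node (.node (.node (.node (.node (.leaf 17368) (.leaf 54990)) (.node (.leaf 37095) (.leaf 0))) (.node (.node (.leaf 27296) (.leaf 0)) (.node (.leaf 15610) (.leaf 0)))) (.node (.node (.node (.leaf 47962) (.leaf 63923)) (.node (.leaf 3851) (.leaf 0))) (.node (.node (.leaf 96040) (.leaf 0)) (.node (.leaf 30895) (.leaf 0))))) (.node (.node (.node (.node (.leaf 30067) (.leaf 13418)) (.node (.leaf 94027) (.leaf 0))) (.node (.node (.leaf 86436) (.leaf 0)) (.node (.leaf 57244) (.leaf 0)))) (.node (.node (.node (.leaf 63264) (.leaf 106951)) (.node (.leaf 43850) (.leaf 0))) (.node (.node (.leaf 48288) (.leaf 0)) (.node (.leaf 127436) (.leaf 0)))))))) (.node (.node (.node (.node (.node (.node (.node (.leaf 20756) (.leaf 103375)) (.node (.leaf 87025) (.leaf 0))) (.node (.node (.leaf 81159) (.leaf 0)) (.node (.leaf 64474) (.leaf 0)))) (.node (.node (.node (.leaf 29765) (.leaf 125738))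 (.node (.leaf 69420) (.leaf 0))) (.node (.node (.leaf 55595) (.leaf 0)) (.node (.leaf 51528) (.leaf 0))))) (.node (.node (.node (.node (.leaf 14334) (.leaf 44811)) (.node (.leaf 32706) (.leaf 0))) (.node (.node (.leaf 50967) (.leaf 0)) (.node (.leaf 107338) (.leaf 0)))) (.node (.node (.node (.leaf 9149) (.leaf 1593)) (.node (.leaf 49484) (.leaf 0))) (.node (.node (.leaf 110461) (.leaf 0)) (.node (.leaf 13598) (.leaf 0)))))) (.node (.node (.node (.node (.node (.leaf 76672) (.leaf 34593)) (.node (.leaf 29663) (.leaf 0))) (.node (.node (.leaf 80314) (.leaf 0)) (.node (.leaf 9400) (.leaf 0)))) (.node (.node (.node (.leaf 101726) (.leaf 34230)) (.node (.leaf 18417) (.leaf 0))) (.node (.node (.leaf 3727) (.leaf 0)) (.node (.leaf 122272) (.leaf 0))))) (.node (.node (.node (.node (.leaf 56761) (.leaf 10812)) (.node (.leaf 61091) (.leaf 0))) (.node (.node (.leaf 50579) (.leaf 0)) (.node (.leaf 62798) (.leaf 0)))) (.node (.node (.node (.leaf 48122) (.leaf 17004)) (.node (.leaf 6988) (.leaf 0))) (.node (.node (.leaf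 46416) (.leaf 0)) (.node (.leaf 39598) (.leaf 0))))))) (.node (.node (.node (.node (.node (.node (.leaf 108902) (.leaf 80305)) (.node (.leaf 18821) (.leaf 0))) (.node (.node (.leaf 30592) (.leaf 0)) (.node (.leaf 55601) (.leaf 0)))) (.node (.node (.node (.leaf 13951) (.leaf 79776)) (.node (.leaf 22426) (.leaf 0))) (.node (.node (.leaf 125876) (.leaf 0)) (.node (.leaf 53670) (.leaf 0))))) (.node (.node (.node (.node (.leaf 129304) (.leaf 112513)) (.node (.leaf 12170) (.leaf 0))) (.node (.node (.leaf 95600) (.leaf 0)) (.node (.leaf 27217) (.leaf 0)))) (.node (.node (.node (.leaf 20728) (.leaf 10572)) (.node (.leaf 32521) (.leaf 0))) (.node (.node (.leaf 79275) (.leaf 0)) (.node (.leaf 105219) (.leaf 0)))))) (.node (.node (.node (.node (.node (.leaf 128472) (.leaf 7488)) (.node (.leaf 91123) (.leaf 0))) (.node (.node (.leaf 69008) (.leaf 0)) (.node (.leaf 27478) (.leaf 0)))) (.node (.node (.node (.leaf 113518) (.leaf 116108)) (.node (.leaf 77707) (.leaf 0))) (.node (.node (.leaf 58187) (.leaf 0)) (.node (.leaf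 29760) (.leaf 0))))) (.node (.node (.node (.node (.leaf 11340) (.leaf 21326)) (.node (.leaf 52682) (.leaf 0))) (.node (.node (.leaf 682) (.leaf 0)) (.node (.leaf 46326) (.leaf 0)))) (.node (.node (.node (.leaf 18066) (.leaf 26221)) (.node (.leaf 16812) (.leaf 0))) (.node (.node (.leaf 14377) (.leaf 0)) (.node (.leaf 46889) (.leaf 0))))))))

def kT26 : NT := .node (.node (.node (.node (.node (.node (.node (.node (.leaf 9558) (.leaf 17746)) (.node (.leaf 29379) (.leaf 0))) (.node (.node (.leaf 7291) (.leaf 29981)) (.node (.leaf 45252) (.leaf 0)))) (.node (.node (.node (.leaf 44971) (.leaf 38702)) (.node (.leaf 49381) (.leaf 0))) (.node (.node (.leaf 82339) (.leaf 0)) (.node (.leaf 84968) (.leaf 0))))) (.node (.node (.node (.node (.leaf 105948) (.leaf 123350)) (.node (.leaf 5690) (.leaf 0))) (.node (.node (.leaf 125435) (.leaf 0)) (.node (.leaf 63323) (.leaf 0)))) (.node (.node (.node (.leaf 52690) (.leaf 16865)) (.node (.leaf 82382) (.leaf 0))) (.node (.node (.leaf 80845) (.leaf 0)) (.node (.leaf 63920)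 (.leaf 0)))))) (.node (.node (.node (.node (.node (.leaf 124765) (.leaf 15155)) (.node (.leaf 30332) (.leaf 0))) (.node (.node (.leaf 40149) (.leaf 0)) (.node (.leaf 108935) (.leaf 0)))) (.node (.node (.node (.leaf 42679) (.leaf 62164)) (.node (.leaf 35191) (.leaf 0))) (.node (.node (.leaf 50090) (.leaf 0)) (.node (.leaf 9056) (.leaf 0))))) (.node (.node (.node (.node (.leaf 90903) (.leaf 13380)) (.node (.leaf 88501) (.leaf 0))) (.node (.node (.leaf 711) (.leaf 0)) (.node (.leaf 26254) (.leaf 0)))) (.node (.node (.node (.leaf 46478) (.leaf 61699)) (.node (.leaf 7435) (.leaf 0))) (.node (.node (.leaf 127831) (.leaf 0)) (.node (.leaf 5832) (.leaf 0))))))) (.node (.node (.node (.node (.node (.node (.leaf 37701) (.leaf 115)) (.node (.leaf 25189) (.leaf 0))) (.node (.node (.leaf 28651) (.leaf 0)) (.node (.leaf 4051) (.leaf 0)))) (.node (.node (.node (.leaf 29975) (.leaf 115988)) (.node (.leaf 123203) (.leaf 0))) (.node (.node (.leaf 121761) (.leaf 0)) (.node (.leaf 16526) (.leaf 0))))) (.node (.node (.node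 (.node (.leaf 122173) (.leaf 68359)) (.node (.leaf 48442) (.leaf 0))) (.node (.node (.leaf 38027) (.leaf 0)) (.node (.leaf 61822) (.leaf 0)))) (.node (.node (.node (.leaf 14605) (.leaf 61645)) (.node (.leaf 54918) (.leaf 0))) (.node (.node (.leaf 71621) (.leaf 0)) (.node (.leaf 4069) (.leaf 0)))))) (.node (.node (.node (.node (.node (.leaf 25920) (.leaf 26300)) (.node (.leaf 29497) (.leaf 0))) (.node (.node (.leaf 126454) (.leaf 0)) (.node (.leaf 30547) (.leaf 0)))) (.node (.node (.node (.leaf 18619) (.leaf 61438)) (.node (.leaf 120631) (.leaf 0))) (.node (.node (.leaf 85828) (.leaf 0)) (.node (.leaf 20333) (.leaf 0))))) (.node (.node (.node (.node (.leaf 75572) (.leaf 63152)) (.node (.leaf 6451) (.leaf 0))) (.node (.node (.leaf 101276) (.leaf 0)) (.node (.leaf 24303) (.leaf 0)))) (.node (.node (.node (.leaf 38587) (.leaf 37579)) (.node (.leaf 24968) (.leaf 0))) (.node (.node (.leaf 104444) (.leaf 0)) (.node (.leaf 14236) (.leaf 0)))))))) (.node (.node (.node (.node (.node (.node (.node (.leaf 30844) (.leaf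 13201)) (.node (.leaf 54989) (.leaf 0))) (.node (.node (.leaf 34157) (.leaf 0)) (.node (.leaf 19020) (.leaf 0)))) (.node (.node (.node (.leaf 119107) (.leaf 68395)) (.node (.leaf 43246) (.leaf 0))) (.node (.node (.leaf 119704) (.leaf 0)) (.node (.leaf 17506) (.leaf 0))))) (.node (.node (.node (.node (.leaf 15732) (.leaf 97704)) (.node (.leaf 102719) (.leaf 0))) (.node (.node (.leaf 93575) (.leaf 0)) (.node (.leaf 59836) (.leaf 0)))) (.node (.node (.node (.leaf 80310) (.leaf 106904)) (.node (.leaf 28746) (.leaf 0))) (.node (.node (.leaf 96179) (.leaf 0)) (.node (.leaf 40283) (.leaf 0)))))) (.node (.node (.node (.node (.node (.leaf 120302) (.leaf 117744)) (.node (.leaf 107007) (.leaf 0))) (.node (.node (.leaf 98583) (.leaf 0)) (.node (.leaf 53577) (.leaf 0)))) (.node (.node (.node (.leaf 105783) (.leaf 64676)) (.node (.leaf 299) (.leaf 0))) (.node (.node (.leaf 6241) (.leaf 0)) (.node (.leaf 12197) (.leaf 0))))) (.node (.node (.node (.node (.leaf 94117) (.leaf 63802)) (.node (.leaf 14675) (.leaf 0))) (.node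 (.node (.leaf 1581) (.leaf 0)) (.node (.leaf 96094) (.leaf 0)))) (.node (.node (.node (.leaf 44878) (.leaf 99594)) (.node (.leaf 110569) (.leaf 0))) (.node (.node (.leaf 74684) (.leaf 0)) (.node (.leaf 84333) (.leaf 0))))))) (.node (.node (.node (.node (.node (.node (.leaf 67029) (.leaf 124880)) (.node (.leaf 50430) (.leaf 0))) (.node (.node (.leaf 45011) (.leaf 0)) (.node (.leaf 11982) (.leaf 0)))) (.node (.node (.node (.leaf 26974) (.leaf 49914)) (.node (.leaf 16753) (.leaf 0))) (.node (.node (.leaf 93068) (.leaf 0)) (.node (.leaf 33582) (.leaf 0))))) (.node (.node (.node (.node (.leaf 27366) (.leaf 28283)) (.node (.leaf 72018) (.leaf 0))) (.node (.node (.leaf 92951) (.leaf 0)) (.node (.leaf 1364) (.leaf 0)))) (.node (.node (.node (.leaf 39188) (.leaf 112120)) (.node (.leaf 48899) (.leaf 0))) (.node (.node (.leaf 109905) (.leaf 0)) (.node (.leaf 50635) (.leaf 0)))))) (.node (.node (.node (.node (.node (.leaf 6610) (.leaf 62809)) (.node (.leaf 17993) (.leaf 0))) (.node (.node (.leaf 25451) (.leaf 0))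 (.node (.leaf 35486) (.leaf 0)))) (.node (.node (.node (.leaf 8779) (.leaf 72041)) (.node (.leaf 89998) (.leaf 0))) (.node (.node (.leaf 124209) (.leaf 0)) (.node (.leaf 62801) (.leaf 0))))) (.node (.node (.node (.node (.leaf 25554) (.leaf 51002)) (.node (.leaf 130924) (.leaf 0))) (.node (.node (.leaf 129931) (.leaf 0)) (.node (.leaf 73514) (.leaf 0)))) (.node (.node (.node (.leaf 7813) (.leaf 95545)) (.node (.leaf 25318) (.leaf 0))) (.node (.node (.leaf 106765) (.leaf 0)) (.node (.leaf 114486) (.leaf 0))))))))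

def kT27 : NT := .node (.node (.node (.node (.node (.node (.node (.node (.leaf 60318) (.leaf 34708)) (.node (.leaf 79305) (.leaf 0))) (.node (.node (.leaf 117110) (.leaf 27221)) (.node (.leaf 104930) (.leaf 0)))) (.node (.node (.node (.leaf 129020) (.leaf 110380)) (.node (.leaf 7256) (.leaf 0))) (.node (.node (.leaf 128397) (.leaf 0)) (.node (.leaf 46334) (.leaf 0))))) (.node (.node (.node (.node (.leaf 105853) (.leaf 55775)) (.node (.leaf 109883) (.leaf 0))) (.node (.node (.leaf 57003) (.leaf 0)) (.node (.leaf 81342) (.leaf 0)))) (.node (.node (.node (.leaf 65939) (.leaf 56099)) (.node (.leaf 109428) (.leaf 0))) (.node (.node (.leaf 85378) (.leaf 0)) (.node (.leaf 5721) (.leaf 0)))))) (.node (.node (.node (.node (.node (.leaf 56180) (.leaf 20133)) (.node (.leaf 26857) (.leaf 0))) (.node (.node (.leaf 59330) (.leaf 0)) (.node (.leaf 118783) (.leaf 0)))) (.node (.node (.node (.leaf 93484) (.leaf 117116)) (.node (.leaf 95046) (.leaf 0))) (.node (.node (.leaf 65895) (.leaf 0)) (.node (.leaf 31624) (.leaf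 0))))) (.node (.node (.node (.node (.leaf 13387) (.leaf 59373)) (.node (.leaf 79142) (.leaf 0))) (.node (.node (.leaf 16175) (.leaf 0)) (.node (.leaf 19437) (.leaf 0)))) (.node (.node (.node (.leaf 76034) (.leaf 17136)) (.node (.leaf 82327) (.leaf 0))) (.node (.node (.leaf 59728) (.leaf 0)) (.node (.leaf 55960) (.leaf 0))))))) (.node (.node (.node (.node (.node (.node (.leaf 117212) (.leaf 89951)) (.node (.leaf 61584) (.leaf 0))) (.node (.node (.leaf 68982) (.leaf 0)) (.node (.leaf 107825) (.leaf 0)))) (.node (.node (.node (.leaf 121313) (.leaf 30863)) (.node (.leaf 17170) (.leaf 0))) (.node (.node (.leaf 12684) (.leaf 0)) (.node (.leaf 3955) (.leaf 0))))) (.node (.node (.node (.node (.leaf 100123) (.leaf 63461)) (.node (.leaf 86306) (.leaf 0))) (.node (.node (.leaf 34765) (.leaf 0)) (.node (.leaf 65495) (.leaf 0)))) (.node (.node (.node (.leaf 2175) (.leaf 10808)) (.node (.leaf 35305) (.leaf 0))) (.node (.node (.leaf 43475) (.leaf 0)) (.node (.leaf 44240) (.leaf 0)))))) (.node (.node (.node (.node (.node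 (.leaf 1455) (.leaf 13969)) (.node (.leaf 8101) (.leaf 0))) (.node (.node (.leaf 124816) (.leaf 0)) (.node (.leaf 53505) (.leaf 0)))) (.node (.node (.node (.leaf 69039) (.leaf 106378)) (.node (.leaf 56200) (.leaf 0))) (.node (.node (.leaf 25764) (.leaf 0)) (.node (.leaf 42979) (.leaf 0))))) (.node (.node (.node (.node (.leaf 63649) (.leaf 113936)) (.node (.leaf 112395) (.leaf 0))) (.node (.node (.leaf 43142) (.leaf 0)) (.node (.leaf 102373) (.leaf 0)))) (.node (.node (.node (.leaf 56152) (.leaf 90958)) (.node (.leaf 9689) (.leaf 0))) (.node (.node (.leaf 43874) (.leaf 0)) (.node (.leaf 8855) (.leaf 0)))))))) (.node (.node (.node (.node (.node (.node (.node (.leaf 59359) (.leaf 78629)) (.node (.leaf 10529) (.leaf 0))) (.node (.node (.leaf 1704) (.leaf 0)) (.node (.leaf 118164) (.leaf 0)))) (.node (.node (.node (.leaf 72471) (.leaf 41956)) (.node (.leaf 17590) (.leaf 0))) (.node (.node (.leaf 62367) (.leaf 0)) (.node (.leaf 29516) (.leaf 0))))) (.node (.node (.node (.node (.leaf 22459) (.leaf 1623)) (.node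 (.leaf 117525) (.leaf 0))) (.node (.node (.leaf 7048) (.leaf 0)) (.node (.leaf 59584) (.leaf 0)))) (.node (.node (.node (.leaf 58645) (.leaf 9659)) (.node (.leaf 104896) (.leaf 0))) (.node (.node (.leaf 94698) (.leaf 0)) (.node (.leaf 78592) (.leaf 0)))))) (.node (.node (.node (.node (.node (.leaf 95087) (.leaf 115466)) (.node (.leaf 58551) (.leaf 0))) (.node (.node (.leaf 5861) (.leaf 0)) (.node (.leaf 49902) (.leaf 0)))) (.node (.node (.node (.leaf 669) (.leaf 14732)) (.node (.leaf 6455) (.leaf 0))) (.node (.node (.leaf 84378) (.leaf 0)) (.node (.leaf 46423) (.leaf 0))))) (.node (.node (.node (.node (.leaf 27600) (.leaf 82696)) (.node (.leaf 37118) (.leaf 0))) (.node (.node (.leaf 121183) (.leaf 0)) (.node (.leaf 26362) (.leaf 0)))) (.node (.node (.node (.leaf 51986) (.leaf 76056)) (.node (.leaf 30643) (.leaf 0))) (.node (.node (.leaf 22662) (.leaf 0)) (.node (.leaf 62409) (.leaf 0))))))) (.node (.node (.node (.node (.node (.node (.leaf 31227) (.leaf 76274)) (.node (.leaf 6687) (.leaf 0))) (.node (.node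 (.leaf 38030) (.leaf 0)) (.node (.leaf 50433) (.leaf 0)))) (.node (.node (.node (.leaf 30847) (.leaf 9783)) (.node (.leaf 72557) (.leaf 0))) (.node (.node (.leaf 66023) (.leaf 0)) (.node (.leaf 84786) (.leaf 0))))) (.node (.node (.node (.node (.leaf 68566) (.leaf 1170)) (.node (.leaf 100134) (.leaf 0))) (.node (.node (.leaf 12147) (.leaf 0)) (.node (.leaf 32331) (.leaf 0)))) (.node (.node (.node (.leaf 7314) (.leaf 129336)) (.node (.leaf 58633) (.leaf 0))) (.node (.node (.leaf 111452) (.leaf 0)) (.node (.leaf 4094) (.leaf 0)))))) (.node (.node (.node (.node (.node (.leaf 100246) (.leaf 107937)) (.node (.leaf 3722) (.leaf 0))) (.node (.node (.leaf 14503) (.leaf 0)) (.node (.leaf 50862) (.leaf 0)))) (.node (.node (.node (.leaf 74099) (.leaf 45408)) (.node (.leaf 41825) (.leaf 0))) (.node (.node (.leaf 80329) (.leaf 0)) (.node (.leaf 39101) (.leaf 0))))) (.node (.node (.node (.node (.leaf 59677) (.leaf 76149)) (.node (.leaf 15023) (.leaf 0))) (.node (.node (.leaf 66907) (.leaf 0)) (.node (.leaf 41381) (.leaf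 0)))) (.node (.node (.node (.leaf 16082) (.leaf 121633)) (.node (.leaf 1521) (.leaf 0))) (.node (.node (.leaf 45454) (.leaf 0)) (.node (.leaf 6679) (.leaf 0))))))))

def kT28 : NT := .node (.node (.node (.node (.node (.node (.node (.node (.leaf 20822) (.leaf 103871)) (.node (.leaf 128804) (.leaf 0))) (.node (.node (.leaf 26455) (.leaf 96711)) (.node (.leaf 81318) (.leaf 0)))) (.node (.node (.node (.leaf 21198) (.leaf 54086)) (.node (.leaf 12187) (.leaf 0))) (.node (.node (.leaf 26385) (.leaf 0)) (.node (.leaf 65481) (.leaf 0))))) (.node (.node (.node (.node (.leaf 4066) (.leaf 19289)) (.node (.leaf 17005) (.leaf 0))) (.node (.node (.leaf 96223) (.leaf 0)) (.node (.leaf 59265) (.leaf 0)))) (.node (.node (.node (.leaf 29694) (.leaf 125186)) (.node (.leaf 59846) (.leaf 0))) (.node (.node (.leaf 29605) (.leaf 0)) (.node (.leaf 3783) (.leaf 0)))))) (.node (.node (.node (.node (.node (.leaf 25754) (.leaf 44851)) (.node (.leaf 28956) (.leaf 0))) (.node (.node (.leaf 63227) (.leaf 0)) (.node (.leaf 44031) (.leaf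 0)))) (.node (.node (.node (.leaf 100137) (.leaf 64794)) (.node (.leaf 23703) (.leaf 0))) (.node (.node (.leaf 46751) (.leaf 0)) (.node (.leaf 123312) (.leaf 0))))) (.node (.node (.node (.node (.leaf 81389) (.leaf 52707)) (.node (.leaf 102668) (.leaf 0))) (.node (.node (.leaf 62181) (.leaf 0)) (.node (.leaf 116605) (.leaf 0)))) (.node (.node (.node (.leaf 9843) (.leaf 5736)) (.node (.leaf 52692) (.leaf 0))) (.node (.node (.leaf 26018) (.leaf 0)) (.node (.leaf 127969) (.leaf 0))))))) (.node (.node (.node (.node (.node (.node (.leaf 121719) (.leaf 69606)) (.node (.leaf 42988) (.leaf 0))) (.node (.node (.leaf 60248) (.leaf 0)) (.node (.leaf 67466) (.leaf 0)))) (.node (.node (.node (.leaf 64324) (.leaf 11584)) (.node (.leaf 116523) (.leaf 0))) (.node (.node (.leaf 64395) (.leaf 0)) (.node (.leaf 22942) (.leaf 0))))) (.node (.node (.node (.node (.leaf 3389) (.leaf 76564)) (.node (.leaf 6843) (.leaf 0))) (.node (.node (.leaf 18676) (.leaf 0)) (.node (.leaf 42300) (.leaf 0)))) (.node (.node (.node (.leaf 52205)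 (.leaf 50676)) (.node (.leaf 13714) (.leaf 0))) (.node (.node (.leaf 27935) (.leaf 0)) (.node (.leaf 44929) (.leaf 0)))))) (.node (.node (.node (.node (.node (.leaf 121321) (.leaf 103381)) (.node (.leaf 46267) (.leaf 0))) (.node (.node (.leaf 18204) (.leaf 0)) (.node (.leaf 42914) (.leaf 0)))) (.node (.node (.node (.leaf 12090) (.leaf 66883)) (.node (.leaf 51067) (.leaf 0))) (.node (.node (.leaf 60131) (.leaf 0)) (.node (.leaf 59753) (.leaf 0))))) (.node (.node (.node (.node (.leaf 27008) (.leaf 53462)) (.node (.leaf 128990) (.leaf 0))) (.node (.node (.leaf 12073) (.leaf 0)) (.node (.leaf 9812) (.leaf 0)))) (.node (.node (.node (.leaf 122875) (.leaf 3658)) (.node (.leaf 37070) (.leaf 0))) (.node (.node (.leaf 35655) (.leaf 0)) (.node (.leaf 18922) (.leaf 0)))))))) (.node (.node (.node (.node (.node (.node (.node (.leaf 75775) (.leaf 49386)) (.node (.leaf 25539) (.leaf 0))) (.node (.node (.leaf 111978) (.leaf 0)) (.node (.leaf 104895) (.leaf 0)))) (.node (.node (.node (.leaf 11595) (.leaf 15745)) (.node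 (.leaf 31153) (.leaf 0))) (.node (.node (.leaf 72633) (.leaf 0)) (.node (.leaf 106974) (.leaf 0))))) (.node (.node (.node (.node (.leaf 12185) (.leaf 118716)) (.node (.leaf 9484) (.leaf 0))) (.node (.node (.leaf 8358) (.leaf 0)) (.node (.leaf 95657) (.leaf 0)))) (.node (.node (.node (.leaf 85389) (.leaf 3874)) (.node (.leaf 125404) (.leaf 0))) (.node (.node (.leaf 37082) (.leaf 0)) (.node (.leaf 71949) (.leaf 0)))))) (.node (.node (.node (.node (.node (.leaf 51064) (.leaf 19823)) (.node (.leaf 77062) (.leaf 0))) (.node (.node (.leaf 27841) (.leaf 0)) (.node (.leaf 14142) (.leaf 0)))) (.node (.node (.node (.leaf 104752) (.leaf 61752)) (.node (.leaf 19564) (.leaf 0))) (.node (.node (.leaf 49149) (.leaf 0)) (.node (.leaf 26918) (.leaf 0))))) (.node (.node (.node (.node (.leaf 16991) (.leaf 35242)) (.node (.leaf 2243) (.leaf 0))) (.node (.node (.leaf 103913) (.leaf 0)) (.node (.leaf 39068) (.leaf 0)))) (.node (.node (.node (.leaf 83373) (.leaf 103846)) (.node (.leaf 96591) (.leaf 0))) (.node (.node (.leaf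 52979) (.leaf 0)) (.node (.leaf 28844) (.leaf 0))))))) (.node (.node (.node (.node (.node (.node (.leaf 25905) (.leaf 28141)) (.node (.leaf 77311) (.leaf 0))) (.node (.node (.leaf 12947) (.leaf 0)) (.node (.leaf 3505) (.leaf 0)))) (.node (.node (.node (.leaf 47102) (.leaf 4349)) (.node (.leaf 50393) (.leaf 0))) (.node (.node (.leaf 7945) (.leaf 0)) (.node (.leaf 128264) (.leaf 0))))) (.node (.node (.node (.node (.leaf 3033) (.leaf 785)) (.node (.leaf 48918) (.leaf 0))) (.node (.node (.leaf 16586) (.leaf 0)) (.node (.leaf 31175) (.leaf 0)))) (.node (.node (.node (.leaf 104925) (.leaf 7608)) (.node (.leaf 118663) (.leaf 0))) (.node (.node (.leaf 9606) (.leaf 0)) (.node (.leaf 18605) (.leaf 0)))))) (.node (.node (.node (.node (.node (.leaf 114484) (.leaf 88403)) (.node (.leaf 3349) (.leaf 0))) (.node (.node (.leaf 16809) (.leaf 0)) (.node (.leaf 76692) (.leaf 0)))) (.node (.node (.node (.leaf 22793) (.leaf 113658)) (.node (.leaf 23986) (.leaf 0))) (.node (.node (.leaf 3953) (.leaf 0)) (.node (.leaf 10999)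 (.leaf 0))))) (.node (.node (.node (.node (.leaf 97053) (.leaf 57659)) (.node (.leaf 18194) (.leaf 0))) (.node (.node (.leaf 21771) (.leaf 0)) (.node (.leaf 46584) (.leaf 0)))) (.node (.node (.node (.leaf 28665) (.leaf 121240)) (.node (.leaf 6756) (.leaf 0))) (.node (.node (.leaf 73640) (.leaf 0)) (.node (.leaf 52609) (.leaf 0))))))))

def kT29 : NT := .node (.node (.node (.node (.node (.node (.node (.node (.leaf 84) (.leaf 42348)) (.node (.leaf 21404) (.leaf 0))) (.node (.node (.leaf 14594) (.leaf 97741)) (.node (.leaf 99179) (.leaf 0)))) (.node (.node (.node (.leaf 122129) (.leaf 32407)) (.node (.leaf 120311) (.leaf 0))) (.node (.node (.leaf 14050) (.leaf 0)) (.node (.leaf 11224) (.leaf 0))))) (.node (.node (.node (.node (.leaf 45229) (.leaf 84889)) (.node (.leaf 697) (.leaf 0))) (.node (.node (.leaf 112421) (.leaf 0)) (.node (.leaf 41776) (.leaf 0)))) (.node (.node (.node (.leaf 1874) (.leaf 28923)) (.node (.leaf 10421) (.leaf 0))) (.node (.node (.leaf 42913) (.leaf 0)) (.node (.leaf 38556) (.leaf 0))))))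 (.node (.node (.node (.node (.node (.leaf 108312) (.leaf 92940)) (.node (.leaf 57744) (.leaf 0))) (.node (.node (.leaf 125728) (.leaf 0)) (.node (.leaf 26459) (.leaf 0)))) (.node (.node (.node (.leaf 93059) (.leaf 100133)) (.node (.leaf 55707) (.leaf 0))) (.node (.node (.leaf 108541) (.leaf 0)) (.node (.leaf 9535) (.leaf 0))))) (.node (.node (.node (.node (.leaf 28402) (.leaf 76598)) (.node (.leaf 27053) (.leaf 0))) (.node (.node (.leaf 126730) (.leaf 0)) (.node (.leaf 55085) (.leaf 0)))) (.node (.node (.node (.leaf 37079) (.leaf 80367)) (.node (.leaf 15510) (.leaf 0))) (.node (.node (.leaf 89987) (.leaf 0)) (.node (.leaf 20866) (.leaf 0))))))) (.node (.node (.node (.node (.node (.node (.leaf 12547) (.leaf 15205)) (.node (.leaf 75560) (.leaf 0))) (.node (.node (.leaf 60561) (.leaf 0)) (.node (.leaf 59178) (.leaf 0)))) (.node (.node (.node (.leaf 114027) (.leaf 13545)) (.node (.leaf 90908) (.leaf 0))) (.node (.node (.leaf 61627) (.leaf 0)) (.node (.leaf 23757) (.leaf 0))))) (.node (.node (.node (.node (.leaf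 79773) (.leaf 62848)) (.node (.leaf 79870) (.leaf 0))) (.node (.node (.leaf 27734) (.leaf 0)) (.node (.leaf 28053) (.leaf 0)))) (.node (.node (.node (.leaf 91594) (.leaf 11753)) (.node (.leaf 119768) (.leaf 0))) (.node (.node (.leaf 31553) (.leaf 0)) (.node (.leaf 73541) (.leaf 0)))))) (.node (.node (.node (.node (.node (.leaf 118056) (.leaf 63880)) (.node (.leaf 18217) (.leaf 0))) (.node (.node (.leaf 116147) (.leaf 0)) (.node (.leaf 41332) (.leaf 0)))) (.node (.node (.node (.leaf 73550) (.leaf 80148)) (.node (.leaf 114602) (.leaf 0))) (.node (.node (.leaf 102158) (.leaf 0)) (.node (.leaf 33666) (.leaf 0))))) (.node (.node (.node (.node (.leaf 30908) (.leaf 2249)) (.node (.leaf 57039) (.leaf 0))) (.node (.node (.leaf 30477) (.leaf 0)) (.node (.leaf 26326) (.leaf 0)))) (.node (.node (.node (.leaf 12911) (.leaf 106431)) (.node (.leaf 34147) (.leaf 0))) (.node (.node (.leaf 128282) (.leaf 0)) (.node (.leaf 112579) (.leaf 0)))))))) (.node (.node (.node (.node (.node (.node (.node (.leaf 64490) (.leaf 58558))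 (.node (.leaf 64430) (.leaf 0))) (.node (.node (.leaf 4950) (.leaf 0)) (.node (.leaf 131048) (.leaf 0)))) (.node (.node (.node (.leaf 120161) (.leaf 28618)) (.node (.leaf 34213) (.leaf 0))) (.node (.node (.leaf 71634) (.leaf 0)) (.node (.leaf 101766) (.leaf 0))))) (.node (.node (.node (.node (.leaf 19821) (.leaf 25024)) (.node (.leaf 23802) (.leaf 0))) (.node (.node (.leaf 120695) (.leaf 0)) (.node (.leaf 110359) (.leaf 0)))) (.node (.node (.node (.leaf 41341) (.leaf 60556)) (.node (.leaf 16162) (.leaf 0))) (.node (.node (.leaf 34131) (.leaf 0)) (.node (.leaf 12796) (.leaf 0)))))) (.node (.node (.node (.node (.node (.leaf 79733) (.leaf 122676)) (.node (.leaf 104411) (.leaf 0))) (.node (.node (.leaf 61384) (.leaf 0)) (.node (.leaf 74639) (.leaf 0)))) (.node (.node (.node (.leaf 41452) (.leaf 37288)) (.node (.leaf 43141) (.leaf 0))) (.node (.node (.leaf 126799) (.leaf 0)) (.node (.leaf 28062) (.leaf 0))))) (.node (.node (.node (.node (.leaf 36658) (.leaf 34774)) (.node (.leaf 42789) (.leaf 0))) (.node (.node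 (.leaf 86367) (.leaf 0)) (.node (.leaf 104734) (.leaf 0)))) (.node (.node (.node (.leaf 109854) (.leaf 1083)) (.node (.leaf 24256) (.leaf 0))) (.node (.node (.leaf 53958) (.leaf 0)) (.node (.leaf 31665) (.leaf 0))))))) (.node (.node (.node (.node (.node (.node (.leaf 80247) (.leaf 124390)) (.node (.leaf 103230) (.leaf 0))) (.node (.node (.leaf 17149) (.leaf 0)) (.node (.leaf 54775) (.leaf 0)))) (.node (.node (.node (.leaf 44255) (.leaf 130018)) (.node (.leaf 18338) (.leaf 0))) (.node (.node (.leaf 85814) (.leaf 0)) (.node (.leaf 33055) (.leaf 0))))) (.node (.node (.node (.node (.leaf 20674) (.leaf 5227)) (.node (.leaf 68536) (.leaf 0))) (.node (.node (.leaf 23481) (.leaf 0)) (.node (.leaf 116638) (.leaf 0)))) (.node (.node (.node (.leaf 67502) (.leaf 16197)) (.node (.leaf 25414) (.leaf 0))) (.node (.node (.leaf 57572) (.leaf 0)) (.node (.leaf 22360) (.leaf 0)))))) (.node (.node (.node (.node (.node (.leaf 62853) (.leaf 115194)) (.node (.leaf 74715) (.leaf 0))) (.node (.node (.leaf 66410) (.leaf 0)) (.node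 (.leaf 89555) (.leaf 0)))) (.node (.node (.node (.leaf 6473) (.leaf 118782)) (.node (.leaf 70519) (.leaf 0))) (.node (.node (.leaf 35523) (.leaf 0)) (.node (.leaf 127814) (.leaf 0))))) (.node (.node (.node (.node (.leaf 90608) (.leaf 73054)) (.node (.leaf 74045) (.leaf 0))) (.node (.node (.leaf 33649) (.leaf 0)) (.node (.leaf 118081) (.leaf 0)))) (.node (.node (.node (.leaf 68549) (.leaf 98600)) (.node (.leaf 85775) (.leaf 0))) (.node (.node (.leaf 2606) (.leaf 0)) (.node (.leaf 722) (.leaf 0))))))))

def kT30 : NT := .node (.node (.node (.node (.node (.node (.node (.node (.leaf 62) (.leaf 16213)) (.node (.leaf 109463) (.leaf 0))) (.node (.node (.leaf 36717) (.leaf 41214)) (.node (.leaf 22348) (.leaf 0)))) (.node (.node (.node (.leaf 60304) (.leaf 115169)) (.node (.leaf 7087) (.leaf 0))) (.node (.node (.leaf 18587) (.leaf 0)) (.node (.leaf 22164) (.leaf 0))))) (.node (.node (.node (.node (.leaf 129299) (.leaf 14432)) (.node (.leaf 55578) (.leaf 0))) (.node (.node (.leaf 57066) (.leaf 0)) (.node (.leaf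 21745) (.leaf 0)))) (.node (.node (.node (.leaf 99203) (.leaf 3180)) (.node (.leaf 60848) (.leaf 0))) (.node (.node (.leaf 75722) (.leaf 0)) (.node (.leaf 18916) (.leaf 0)))))) (.node (.node (.node (.node (.node (.leaf 30479) (.leaf 28496)) (.node (.leaf 83332) (.leaf 0))) (.node (.node (.leaf 129854) (.leaf 0)) (.node (.leaf 33949) (.leaf 0)))) (.node (.node (.node (.leaf 122871) (.leaf 117627)) (.node (.leaf 52976) (.leaf 0))) (.node (.node (.leaf 93173) (.leaf 0)) (.node (.leaf 70425) (.leaf 0))))) (.node (.node (.node (.node (.leaf 46279) (.leaf 34460)) (.node (.leaf 49561) (.leaf 0))) (.node (.node (.leaf 33778) (.leaf 0)) (.node (.leaf 105756) (.leaf 0)))) (.node (.node (.node (.leaf 69984) (.leaf 115672)) (.node (.leaf 64129) (.leaf 0))) (.node (.node (.leaf 19385) (.leaf 0)) (.node (.leaf 47444) (.leaf 0))))))) (.node (.node (.node (.node (.node (.node (.leaf 4995) (.leaf 35522)) (.node (.leaf 93130) (.leaf 0))) (.node (.node (.leaf 106248) (.leaf 0)) (.node (.leaf 45049) (.leaf 0)))) (.node (.node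 (.node (.leaf 106297) (.leaf 54187)) (.node (.leaf 36550) (.leaf 0))) (.node (.node (.leaf 22473) (.leaf 0)) (.node (.leaf 10639) (.leaf 0))))) (.node (.node (.node (.node (.leaf 80783) (.leaf 101206)) (.node (.leaf 49801) (.leaf 0))) (.node (.node (.leaf 87852) (.leaf 0)) (.node (.leaf 119194) (.leaf 0)))) (.node (.node (.node (.leaf 131042) (.leaf 13896)) (.node (.leaf 48058) (.leaf 0))) (.node (.node (.leaf 99134) (.leaf 0)) (.node (.leaf 109876) (.leaf 0)))))) (.node (.node (.node (.node (.node (.leaf 19311) (.leaf 19525)) (.node (.leaf 6011) (.leaf 0))) (.node (.node (.leaf 27310) (.leaf 0)) (.node (.leaf 59862) (.leaf 0)))) (.node (.node (.node (.leaf 113000) (.leaf 62716)) (.node (.leaf 4228) (.leaf 0))) (.node (.node (.leaf 8820) (.leaf 0)) (.node (.leaf 9209) (.leaf 0))))) (.node (.node (.node (.node (.leaf 75562) (.leaf 88884)) (.node (.leaf 38908) (.leaf 0))) (.node (.node (.leaf 58335) (.leaf 0)) (.node (.leaf 49879) (.leaf 0)))) (.node (.node (.node (.leaf 24031) (.leaf 67892)) (.node (.leaf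 3414) (.leaf 0))) (.node (.node (.leaf 117736) (.leaf 0)) (.node (.leaf 1116) (.leaf 0)))))))) (.node (.node (.node (.node (.node (.node (.node (.leaf 29794) (.leaf 74638)) (.node (.leaf 54024) (.leaf 0))) (.node (.node (.leaf 22258) (.leaf 0)) (.node (.leaf 33717) (.leaf 0)))) (.node (.node (.node (.leaf 36508) (.leaf 33259)) (.node (.leaf 15201) (.leaf 0))) (.node (.node (.leaf 107911) (.leaf 0)) (.node (.leaf 106240) (.leaf 0))))) (.node (.node (.node (.node (.leaf 120178) (.leaf 91422)) (.node (.leaf 102877) (.leaf 0))) (.node (.node (.leaf 121772) (.leaf 0)) (.node (.leaf 17573) (.leaf 0)))) (.node (.node (.node (.leaf 52582) (.leaf 62250)) (.node (.leaf 28348) (.leaf 0))) (.node (.node (.leaf 4988) (.leaf 0)) (.node (.leaf 69992) (.leaf 0)))))) (.node (.node (.node (.node (.node (.leaf 14310) (.leaf 102246)) (.node (.leaf 122865) (.leaf 0))) (.node (.node (.leaf 47562) (.leaf 0)) (.node (.leaf 119097) (.leaf 0)))) (.node (.node (.node (.leaf 110547) (.leaf 16980)) (.node (.leaf 8238) (.leaf 0)))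 (.node (.node (.leaf 130842) (.leaf 0)) (.node (.leaf 31425) (.leaf 0))))) (.node (.node (.node (.node (.leaf 83947) (.leaf 7802)) (.node (.leaf 39064) (.leaf 0))) (.node (.node (.leaf 123215) (.leaf 0)) (.node (.leaf 9346) (.leaf 0)))) (.node (.node (.node (.leaf 7698) (.leaf 105369)) (.node (.leaf 41857) (.leaf 0))) (.node (.node (.leaf 57984) (.leaf 0)) (.node (.leaf 51563) (.leaf 0))))))) (.node (.node (.node (.node (.node (.node (.leaf 2621) (.leaf 60757)) (.node (.leaf 34108) (.leaf 0))) (.node (.node (.leaf 110936) (.leaf 0)) (.node (.leaf 26608) (.leaf 0)))) (.node (.node (.node (.leaf 92639) (.leaf 46575)) (.node (.leaf 30440) (.leaf 0))) (.node (.node (.leaf 116677) (.leaf 0)) (.node (.leaf 28444) (.leaf 0))))) (.node (.node (.node (.node (.leaf 68062) (.leaf 6003)) (.node (.leaf 52439) (.leaf 0))) (.node (.node (.leaf 71063) (.leaf 0)) (.node (.leaf 99138) (.leaf 0)))) (.node (.node (.node (.leaf 87437) (.leaf 97729)) (.node (.leaf 100610) (.leaf 0))) (.node (.node (.leaf 101806) (.leaf 0))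 (.node (.leaf 57299) (.leaf 0)))))) (.node (.node (.node (.node (.node (.leaf 114683) (.leaf 36651)) (.node (.leaf 115143) (.leaf 0))) (.node (.node (.leaf 63642) (.leaf 0)) (.node (.leaf 61353) (.leaf 0)))) (.node (.node (.node (.leaf 70954) (.leaf 5767)) (.node (.leaf 68544) (.leaf 0))) (.node (.node (.leaf 89487) (.leaf 0)) (.node (.leaf 1016) (.leaf 0))))) (.node (.node (.node (.node (.leaf 62376) (.leaf 107455)) (.node (.leaf 19067) (.leaf 0))) (.node (.node (.leaf 40116) (.leaf 0)) (.node (.leaf 44969) (.leaf 0)))) (.node (.node (.node (.leaf 40953) (.leaf 45240)) (.node (.leaf 62641) (.leaf 0))) (.node (.node (.leaf 6556) (.leaf 0)) (.node (.leaf 29395) (.leaf 0))))))))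

def kT31 : NT := .node (.node (.node (.node (.node (.node (.node (.node (.leaf 95040) (.leaf 11731)) (.node (.leaf 111584) (.leaf 0))) (.node (.node (.leaf 5795) (.leaf 11127)) (.node (.leaf 89969) (.leaf 0)))) (.node (.node (.node (.leaf 15618) (.leaf 59703)) (.node (.leaf 12023) (.leaf 0))) (.node (.node (.leaf 34671) (.leaf 0)) (.node (.leaf 101885) (.leaf 0))))) (.node (.node (.node (.node (.leaf 2044) (.leaf 3319)) (.node (.leaf 118630) (.leaf 0))) (.node (.node (.leaf 16164) (.leaf 0)) (.node (.leaf 19292) (.leaf 0)))) (.node (.node (.node (.leaf 8132) (.leaf 52510)) (.node (.leaf 85958) (.leaf 0))) (.node (.node (.leaf 11303) (.leaf 0)) (.node (.leaf 51135) (.leaf 0)))))) (.node (.node (.node (.node (.node (.leaf 24785) (.leaf 10050)) (.node (.leaf 16062) (.leaf 0))) (.node (.node (.leaf 53123) (.leaf 0)) (.node (.leaf 64237) (.leaf 0)))) (.node (.node (.node (.leaf 13235) (.leaf 12326)) (.node (.leaf 89944) (.leaf 0))) (.node (.node (.leaf 24042) (.leaf 0)) (.node (.leaf 77072) (.leaf 0))))) (.node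 (.node (.node (.node (.leaf 16380) (.leaf 126904)) (.node (.leaf 1120) (.leaf 0))) (.node (.node (.leaf 50332) (.leaf 0)) (.node (.leaf 9704) (.leaf 0)))) (.node (.node (.node (.leaf 50125) (.leaf 2930)) (.node (.leaf 115193) (.leaf 0))) (.node (.node (.leaf 113946) (.leaf 0)) (.node (.leaf 54746) (.leaf 0))))))) (.node (.node (.node (.node (.node (.node (.leaf 25993) (.leaf 34449)) (.node (.leaf 47038) (.leaf 0))) (.node (.node (.leaf 3103) (.leaf 0)) (.node (.leaf 39723) (.leaf 0)))) (.node (.node (.node (.leaf 3341) (.leaf 61744)) (.node (.leaf 31468) (.leaf 0))) (.node (.node (.leaf 29412) (.leaf 0)) (.node (.leaf 52937) (.leaf 0))))) (.node (.node (.node (.node (.leaf 117644) (.leaf 46290)) (.node (.leaf 15616) (.leaf 0))) (.node (.node (.leaf 44935) (.leaf 0)) (.node (.leaf 130385) (.leaf 0)))) (.node (.node (.node (.leaf 12752) (.leaf 46878)) (.node (.leaf 45902) (.leaf 0))) (.node (.node (.leaf 108524) (.leaf 0)) (.node (.leaf 37757) (.leaf 0)))))) (.node (.node (.node (.node (.node (.leaf 2794)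 (.leaf 102875)) (.node (.leaf 26347) (.leaf 0))) (.node (.node (.leaf 22272) (.leaf 0)) (.node (.leaf 116626) (.leaf 0)))) (.node (.node (.node (.leaf 4294) (.leaf 5485)) (.node (.leaf 39200) (.leaf 0))) (.node (.node (.leaf 123264) (.leaf 0)) (.node (.leaf 20660) (.leaf 0))))) (.node (.node (.node (.node (.leaf 16195) (.leaf 125706)) (.node (.leaf 63240) (.leaf 0))) (.node (.node (.leaf 20476) (.leaf 0)) (.node (.leaf 66424) (.leaf 0)))) (.node (.node (.node (.leaf 48975) (.leaf 50927)) (.node (.leaf 68991) (.leaf 0))) (.node (.node (.leaf 43262) (.leaf 0)) (.node (.leaf 10852) (.leaf 0)))))))) (.node (.node (.node (.node (.node (.node (.node (.leaf 37796) (.leaf 117524)) (.node (.leaf 102706) (.leaf 0))) (.node (.node (.leaf 32152) (.leaf 0)) (.node (.leaf 28303) (.leaf 0)))) (.node (.node (.node (.leaf 50863) (.leaf 74606)) (.node (.leaf 110419) (.leaf 0))) (.node (.node (.leaf 120181) (.leaf 0)) (.node (.leaf 6812) (.leaf 0))))) (.node (.node (.node (.node (.leaf 72505) (.leaf 25929)) (.node (.leaf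 111608) (.leaf 0))) (.node (.node (.leaf 79775) (.leaf 0)) (.node (.leaf 598) (.leaf 0)))) (.node (.node (.node (.leaf 36309) (.leaf 107341)) (.node (.leaf 4287) (.leaf 0))) (.node (.node (.leaf 15101) (.leaf 0)) (.node (.leaf 626) (.leaf 0)))))) (.node (.node (.node (.node (.node (.leaf 26741) (.leaf 19154)) (.node (.leaf 67971) (.leaf 0))) (.node (.node (.leaf 28857) (.leaf 0)) (.node (.leaf 16084) (.leaf 0)))) (.node (.node (.node (.leaf 52112) (.leaf 125381)) (.node (.leaf 113071) (.leaf 0))) (.node (.node (.leaf 84760) (.leaf 0)) (.node (.leaf 14966) (.leaf 0))))) (.node (.node (.node (.node (.leaf 58038) (.leaf 18167)) (.node (.leaf 39658) (.leaf 0))) (.node (.node (.leaf 55118) (.leaf 0)) (.node (.leaf 90896) (.leaf 0)))) (.node (.node (.node (.leaf 10149) (.leaf 91051)) (.node (.leaf 109002) (.leaf 0))) (.node (.node (.leaf 8086) (.leaf 0)) (.node (.leaf 88020) (.leaf 0))))))) (.node (.node (.node (.node (.node (.node (.leaf 118092) (.leaf 122769)) (.node (.leaf 116541) (.leaf 0))) (.node (.node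 (.leaf 25022) (.leaf 0)) (.node (.leaf 18814) (.leaf 0)))) (.node (.node (.node (.leaf 26226) (.leaf 44446)) (.node (.leaf 53981) (.leaf 0))) (.node (.node (.leaf 70001) (.leaf 0)) (.node (.leaf 92416) (.leaf 0))))) (.node (.node (.node (.node (.leaf 125260) (.leaf 40422)) (.node (.leaf 67888) (.leaf 0))) (.node (.node (.leaf 128884) (.leaf 0)) (.node (.leaf 27926) (.leaf 0)))) (.node (.node (.node (.leaf 66363) (.leaf 46962)) (.node (.leaf 52656) (.leaf 0))) (.node (.node (.leaf 74673) (.leaf 0)) (.node (.leaf 53684) (.leaf 0)))))) (.node (.node (.node (.node (.node (.leaf 14727) (.leaf 49411)) (.node (.leaf 54599) (.leaf 0))) (.node (.node (.leaf 26907) (.leaf 0)) (.node (.leaf 69589) (.leaf 0)))) (.node (.node (.node (.leaf 123781) (.leaf 55198)) (.node (.leaf 68884) (.leaf 0))) (.node (.node (.leaf 26550) (.leaf 0)) (.node (.leaf 18748) (.leaf 0))))) (.node (.node (.node (.node (.leaf 53400) (.leaf 37709)) (.node (.leaf 22643) (.leaf 0))) (.node (.node (.leaf 34436) (.leaf 0)) (.node (.leaf 108894)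 (.leaf 0)))) (.node (.node (.node (.leaf 20679) (.leaf 62734)) (.node (.leaf 22625) (.leaf 0))) (.node (.node (.leaf 111423) (.leaf 0)) (.node (.leaf 105867) (.leaf 0))))))))

def kT32 : NT := .node (.node (.node (.node (.node (.node (.node (.node (.leaf 115076) (.leaf 51864)) (.node (.leaf 56564) (.leaf 0))) (.node (.node (.leaf 71608) (.leaf 11827)) (.node (.leaf 88408) (.leaf 0)))) (.node (.node (.node (.leaf 79764) (.leaf 2105)) (.node (.leaf 3269) (.leaf 0))) (.node (.node (.leaf 86938) (.leaf 0)) (.node (.leaf 78813) (.leaf 0))))) (.node (.node (.node (.node (.leaf 70069) (.leaf 35592)) (.node (.leaf 80147) (.leaf 0))) (.node (.node (.leaf 79681) (.leaf 0)) (.node (.leaf 90560) (.leaf 0)))) (.node (.node (.node (.leaf 34239) (.leaf 106255)) (.node (.leaf 40348) (.leaf 0))) (.node (.node (.leaf 61089) (.leaf 0)) (.node (.leaf 120294) (.leaf 0)))))) (.node (.node (.node (.node (.node (.leaf 81678) (.leaf 36835)) (.node (.leaf 127450) (.leaf 0))) (.node (.node (.leaf 83853) (.leaf 0)) (.node (.leaf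 10582) (.leaf 0)))) (.node (.node (.node (.leaf 40074) (.leaf 30634)) (.node (.leaf 109869) (.leaf 0))) (.node (.node (.leaf 130920) (.leaf 0)) (.node (.leaf 51508) (.leaf 0))))) (.node (.node (.node (.node (.leaf 21151) (.leaf 113578)) (.node (.leaf 100161) (.leaf 0))) (.node (.node (.leaf 100275) (.leaf 0)) (.node (.leaf 49125) (.leaf 0)))) (.node (.node (.node (.leaf 48492) (.leaf 100201)) (.node (.leaf 56474) (.leaf 0))) (.node (.node (.leaf 99599) (.leaf 0)) (.node (.leaf 40799) (.leaf 0))))))) (.node (.node (.node (.node (.node (.node (.leaf 56237) (.leaf 7211)) (.node (.leaf 45279) (.leaf 0))) (.node (.node (.leaf 91075) (.leaf 0)) (.node (.leaf 122167) (.leaf 0)))) (.node (.node (.node (.leaf 7167) (.leaf 10663)) (.node (.leaf 53580) (.leaf 0))) (.node (.node (.leaf 18657) (.leaf 0)) (.node (.leaf 86396) (.leaf 0))))) (.node (.node (.node (.node (.leaf 9568) (.leaf 91968)) (.node (.leaf 122844) (.leaf 0))) (.node (.node (.leaf 25520) (.leaf 0)) (.node (.leaf 95223) (.leaf 0)))) (.node (.node (.node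 (.leaf 124326) (.leaf 74626)) (.node (.leaf 8517) (.leaf 0))) (.node (.node (.leaf 51669) (.leaf 0)) (.node (.leaf 13640) (.leaf 0)))))) (.node (.node (.node (.node (.node (.leaf 109926) (.leaf 47490)) (.node (.leaf 94119) (.leaf 0))) (.node (.node (.leaf 8505) (.leaf 0)) (.node (.leaf 59190) (.leaf 0)))) (.node (.node (.node (.leaf 41694) (.leaf 10932)) (.node (.leaf 17158) (.leaf 0))) (.node (.node (.leaf 124706) (.leaf 0)) (.node (.leaf 103700) (.leaf 0))))) (.node (.node (.node (.node (.leaf 58631) (.leaf 33779)) (.node (.leaf 32927) (.leaf 0))) (.node (.node (.leaf 19173) (.leaf 0)) (.node (.leaf 96641) (.leaf 0)))) (.node (.node (.node (.leaf 22807) (.leaf 54095)) (.node (.leaf 40661) (.leaf 0))) (.node (.node (.leaf 115111) (.leaf 0)) (.node (.leaf 57476) (.leaf 0)))))))) (.node (.node (.node (.node (.node (.node (.node (.leaf 101316) (.leaf 97247)) (.node (.leaf 113072) (.leaf 0))) (.node (.node (.leaf 58192) (.leaf 0)) (.node (.leaf 14647) (.leaf 0)))) (.node (.node (.node (.leaf 76561) (.leaf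 46014)) (.node (.leaf 83296) (.leaf 0))) (.node (.node (.leaf 94978) (.leaf 0)) (.node (.leaf 42835) (.leaf 0))))) (.node (.node (.node (.node (.leaf 41110) (.leaf 70621)) (.node (.leaf 91471) (.leaf 0))) (.node (.node (.leaf 125759) (.leaf 0)) (.node (.leaf 52407) (.leaf 0)))) (.node (.node (.node (.leaf 102152) (.leaf 101684)) (.node (.leaf 5629) (.leaf 0))) (.node (.node (.leaf 127242) (.leaf 0)) (.node (.leaf 14816) (.leaf 0)))))) (.node (.node (.node (.node (.node (.leaf 24904) (.leaf 118105)) (.node (.leaf 82794) (.leaf 0))) (.node (.node (.leaf 33576) (.leaf 0)) (.node (.leaf 73155) (.leaf 0)))) (.node (.node (.node (.leaf 12474) (.leaf 9360)) (.node (.leaf 56808) (.leaf 0))) (.node (.node (.leaf 6350) (.leaf 0)) (.node (.leaf 38240) (.leaf 0))))) (.node (.node (.node (.node (.leaf 45726) (.leaf 102705)) (.node (.leaf 44708) (.leaf 0))) (.node (.node (.leaf 82303) (.leaf 0)) (.node (.leaf 29437) (.leaf 0)))) (.node (.node (.node (.leaf 127910) (.leaf 1890)) (.node (.leaf 36534) (.leaf 0))) (.node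 (.node (.leaf 52493) (.leaf 0)) (.node (.leaf 8928) (.leaf 0))))))) (.node (.node (.node (.node (.node (.node (.leaf 72092) (.leaf 51112)) (.node (.leaf 100735) (.leaf 0))) (.node (.node (.leaf 99115) (.leaf 0)) (.node (.leaf 71080) (.leaf 0)))) (.node (.node (.node (.leaf 74729) (.leaf 60039)) (.node (.leaf 113493) (.leaf 0))) (.node (.node (.leaf 6808) (.leaf 0)) (.node (.leaf 101203) (.leaf 0))))) (.node (.node (.node (.node (.leaf 67038) (.leaf 38558)) (.node (.leaf 19583) (.leaf 0))) (.node (.node (.leaf 13865) (.leaf 0)) (.node (.leaf 35164) (.leaf 0)))) (.node (.node (.node (.leaf 63399) (.leaf 52469)) (.node (.leaf 301) (.leaf 0))) (.node (.node (.leaf 50019) (.leaf 0)) (.node (.leaf 4236) (.leaf 0)))))) (.node (.node (.node (.node (.node (.leaf 7408) (.leaf 1341)) (.node (.leaf 40611) (.leaf 0))) (.node (.node (.leaf 25831) (.leaf 0)) (.node (.leaf 47092) (.leaf 0)))) (.node (.node (.node (.leaf 14398) (.leaf 122325)) (.node (.leaf 62737) (.leaf 0))) (.node (.node (.leaf 66472) (.leaf 0)) (.node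 (.leaf 7037) (.leaf 0))))) (.node (.node (.node (.node (.leaf 23154) (.leaf 86416)) (.node (.leaf 111365) (.leaf 0))) (.node (.node (.leaf 55592) (.leaf 0)) (.node (.leaf 9057) (.leaf 0)))) (.node (.node (.node (.leaf 98627) (.leaf 125915)) (.node (.leaf 111010) (.leaf 0))) (.node (.node (.leaf 56583) (.leaf 0)) (.node (.leaf 60414) (.leaf 0))))))))

def kT33 : NT := .node (.node (.node (.node (.node (.node (.node (.node (.leaf 91436) (.leaf 129962)) (.node (.leaf 42391) (.leaf 0))) (.node (.node (.leaf 17087) (.leaf 84966)) (.node (.leaf 37344) (.leaf 0)))) (.node (.node (.node (.leaf 60183) (.leaf 14037)) (.node (.leaf 25005) (.leaf 0))) (.node (.node (.leaf 9838) (.leaf 0)) (.node (.leaf 88980) (.leaf 0))))) (.node (.node (.node (.node (.leaf 33929) (.leaf 3298)) (.node (.leaf 28132) (.leaf 0))) (.node (.node (.leaf 125259) (.leaf 0)) (.node (.leaf 119786) (.leaf 0)))) (.node (.node (.node (.leaf 26442) (.leaf 12967)) (.node (.leaf 61868) (.leaf 0))) (.node (.node (.leaf 43369) (.leaf 0)) (.node (.leaf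 122645) (.leaf 0)))))) (.node (.node (.node (.node (.node (.leaf 32731) (.leaf 128381)) (.node (.leaf 862) (.leaf 0))) (.node (.node (.leaf 14080) (.leaf 0)) (.node (.leaf 8641) (.leaf 0)))) (.node (.node (.node (.leaf 33612) (.leaf 88549)) (.node (.leaf 19075) (.leaf 0))) (.node (.node (.leaf 79156) (.leaf 0)) (.node (.leaf 54523) (.leaf 0))))) (.node (.node (.node (.node (.leaf 66362) (.leaf 106483)) (.node (.leaf 91077) (.leaf 0))) (.node (.node (.leaf 42305) (.leaf 0)) (.node (.leaf 43291) (.leaf 0)))) (.node (.node (.node (.leaf 64510) (.leaf 67441)) (.node (.leaf 5921) (.leaf 0))) (.node (.node (.leaf 42229) (.leaf 0)) (.node (.leaf 6372) (.leaf 0))))))) (.node (.node (.node (.node (.node (.node (.leaf 6194) (.leaf 49373)) (.node (.leaf 79734) (.leaf 0))) (.node (.node (.leaf 22915) (.leaf 0)) (.node (.leaf 116582) (.leaf 0)))) (.node (.node (.node (.leaf 115129) (.leaf 30811)) (.node (.leaf 53721) (.leaf 0))) (.node (.node (.leaf 45456) (.leaf 0)) (.node (.leaf 17202) (.leaf 0))))) (.node (.node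 (.node (.node (.leaf 25199) (.leaf 14597)) (.node (.leaf 13874) (.leaf 0))) (.node (.node (.leaf 80174) (.leaf 0)) (.node (.leaf 19891) (.leaf 0)))) (.node (.node (.node (.leaf 122299) (.leaf 122655)) (.node (.leaf 117006) (.leaf 0))) (.node (.node (.leaf 16786) (.leaf 0)) (.node (.leaf 4527) (.leaf 0)))))) (.node (.node (.node (.node (.node (.leaf 75117) (.leaf 23278)) (.node (.leaf 111947) (.leaf 0))) (.node (.node (.leaf 77114) (.leaf 0)) (.node (.leaf 88564) (.leaf 0)))) (.node (.node (.node (.leaf 47774) (.leaf 35079)) (.node (.leaf 82748) (.leaf 0))) (.node (.node (.leaf 8900) (.leaf 0)) (.node (.leaf 5042) (.leaf 0))))) (.node (.node (.node (.node (.leaf 46796) (.leaf 51859)) (.node (.leaf 89858) (.leaf 0))) (.node (.node (.leaf 45304) (.leaf 0)) (.node (.leaf 98700) (.leaf 0)))) (.node (.node (.node (.leaf 113616) (.leaf 79698)) (.node (.leaf 116670) (.leaf 0))) (.node (.node (.leaf 12874) (.leaf 0)) (.node (.leaf 72108) (.leaf 0)))))))) (.node (.node (.node (.node (.node (.node (.node (.leaf 27759)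 (.leaf 33448)) (.node (.leaf 105818) (.leaf 0))) (.node (.node (.leaf 1966) (.leaf 0)) (.node (.leaf 55286) (.leaf 0)))) (.node (.node (.node (.leaf 89546) (.leaf 6753)) (.node (.leaf 33998) (.leaf 0))) (.node (.node (.leaf 91503) (.leaf 0)) (.node (.leaf 213) (.leaf 0))))) (.node (.node (.node (.node (.leaf 22989) (.leaf 6065)) (.node (.leaf 122866) (.leaf 0))) (.node (.node (.leaf 93172) (.leaf 0)) (.node (.leaf 53663) (.leaf 0)))) (.node (.node (.node (.leaf 105807) (.leaf 86368)) (.node (.leaf 125824) (.leaf 0))) (.node (.node (.leaf 6563) (.leaf 0)) (.node (.leaf 14107) (.leaf 0)))))) (.node (.node (.node (.node (.node (.leaf 17232) (.leaf 31585)) (.node (.leaf 2032) (.leaf 0))) (.node (.node (.leaf 3380) (.leaf 0)) (.node (.leaf 122190) (.leaf 0)))) (.node (.node (.node (.leaf 126890) (.leaf 95567)) (.node (.leaf 7866) (.leaf 0))) (.node (.node (.leaf 112910) (.leaf 0)) (.node (.leaf 1180) (.leaf 0))))) (.node (.node (.node (.node (.leaf 63139) (.leaf 64336)) (.node (.leaf 41609) (.leaf 0))) (.node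 (.node (.leaf 15034) (.leaf 0)) (.node (.leaf 113076) (.leaf 0)))) (.node (.node (.node (.leaf 20781) (.leaf 21450)) (.node (.leaf 23113) (.leaf 0))) (.node (.node (.leaf 115059) (.leaf 0)) (.node (.leaf 40306) (.leaf 0))))))) (.node (.node (.node (.node (.node (.node (.leaf 122780) (.leaf 123269)) (.node (.leaf 22306) (.leaf 0))) (.node (.node (.leaf 65447) (.leaf 0)) (.node (.leaf 36593) (.leaf 0)))) (.node (.node (.node (.leaf 43476) (.leaf 21310)) (.node (.leaf 714) (.leaf 0))) (.node (.node (.leaf 121180) (.leaf 0)) (.node (.leaf 43221) (.leaf 0))))) (.node (.node (.node (.node (.leaf 117211) (.leaf 105406)) (.node (.leaf 101365) (.leaf 0))) (.node (.node (.leaf 126798) (.leaf 0)) (.node (.leaf 89540) (.leaf 0)))) (.node (.node (.node (.leaf 14980) (.leaf 128846)) (.node (.leaf 7366) (.leaf 0))) (.node (.node (.leaf 36724) (.leaf 0)) (.node (.leaf 48341) (.leaf 0)))))) (.node (.node (.node (.node (.node (.leaf 92630) (.leaf 13154)) (.node (.leaf 6678) (.leaf 0))) (.node (.node (.leaf 4709) (.leaf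 0)) (.node (.leaf 3347) (.leaf 0)))) (.node (.node (.node (.leaf 37370) (.leaf 26770)) (.node (.leaf 32755) (.leaf 0))) (.node (.node (.leaf 93498) (.leaf 0)) (.node (.leaf 11844) (.leaf 0))))) (.node (.node (.node (.node (.leaf 53973) (.leaf 56264)) (.node (.leaf 45399) (.leaf 0))) (.node (.node (.leaf 33240) (.leaf 0)) (.node (.leaf 80244) (.leaf 0)))) (.node (.node (.node (.leaf 125301) (.leaf 27817)) (.node (.leaf 36637) (.leaf 0))) (.node (.node (.leaf 117626) (.leaf 0)) (.node (.leaf 106379) (.leaf 0))))))))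

def kT34 : NT := .node (.node (.node (.node (.node (.node (.node (.node (.leaf 127745) (.leaf 123721)) (.node (.leaf 3905) (.leaf 0))) (.node (.node (.leaf 71472) (.leaf 42260)) (.node (.leaf 1564) (.leaf 0)))) (.node (.node (.node (.leaf 7938) (.leaf 15734)) (.node (.leaf 21408) (.leaf 0))) (.node (.node (.leaf 63312) (.leaf 0)) (.node (.leaf 41100) (.leaf 0))))) (.node (.node (.node (.node (.leaf 8140) (.leaf 75146)) (.node (.leaf 21251) (.leaf 0))) (.node (.node (.leaf 66943) (.leaf 0)) (.node (.leaf 130935) (.leaf 0)))) (.node (.node (.node (.leaf 40658) (.leaf 98736)) (.node (.leaf 102824) (.leaf 0))) (.node (.node (.leaf 25912) (.leaf 0)) (.node (.leaf 93643) (.leaf 0)))))) (.node (.node (.node (.node (.node (.leaf 57134) (.leaf 44825)) (.node (.leaf 112567) (.leaf 0))) (.node (.node (.leaf 16192) (.leaf 0)) (.node (.leaf 88023) (.leaf 0)))) (.node (.node (.node (.leaf 121204) (.leaf 111025)) (.node (.leaf 48619) (.leaf 0))) (.node (.node (.leaf 62763) (.leaf 0)) (.node (.leaf 48961) (.leaf 0)))))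 (.node (.node (.node (.node (.leaf 80732) (.leaf 22405)) (.node (.leaf 23909) (.leaf 0))) (.node (.node (.leaf 74725) (.leaf 0)) (.node (.leaf 13799) (.leaf 0)))) (.node (.node (.node (.leaf 17890) (.leaf 106887)) (.node (.leaf 29695) (.leaf 0))) (.node (.node (.leaf 78622) (.leaf 0)) (.node (.leaf 108296) (.leaf 0))))))) (.node (.node (.node (.node (.node (.node (.leaf 30618) (.leaf 129939)) (.node (.leaf 10337) (.leaf 0))) (.node (.node (.leaf 30324) (.leaf 0)) (.node (.leaf 37866) (.leaf 0)))) (.node (.node (.node (.leaf 98140) (.leaf 105969)) (.node (.leaf 16537) (.leaf 0))) (.node (.node (.leaf 3046) (.leaf 0)) (.node (.leaf 110458) (.leaf 0))))) (.node (.node (.node (.node (.leaf 27280) (.leaf 76615)) (.node (.leaf 35811) (.leaf 0))) (.node (.node (.leaf 98711) (.leaf 0)) (.node (.leaf 36163) (.leaf 0)))) (.node (.node (.node (.leaf 126825) (.leaf 127393)) (.node (.leaf 23507) (.leaf 0))) (.node (.node (.leaf 38247) (.leaf 0)) (.node (.leaf 32540) (.leaf 0)))))) (.node (.node (.node (.node (.node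 (.leaf 86453) (.leaf 83953)) (.node (.leaf 227) (.leaf 0))) (.node (.node (.leaf 25833) (.leaf 0)) (.node (.leaf 24537) (.leaf 0)))) (.node (.node (.node (.leaf 39173) (.leaf 85417)) (.node (.leaf 81295) (.leaf 0))) (.node (.node (.leaf 74030) (.leaf 0)) (.node (.leaf 17338) (.leaf 0))))) (.node (.node (.node (.node (.leaf 26980) (.leaf 105946)) (.node (.leaf 6748) (.leaf 0))) (.node (.node (.leaf 125288) (.leaf 0)) (.node (.leaf 15649) (.leaf 0)))) (.node (.node (.node (.leaf 109375) (.leaf 113450)) (.node (.leaf 16824) (.leaf 0))) (.node (.node (.leaf 87434) (.leaf 0)) (.node (.leaf 77722) (.leaf 0)))))))) (.node (.node (.node (.node (.node (.node (.node (.leaf 25253) (.leaf 41161)) (.node (.leaf 94614) (.leaf 0))) (.node (.node (.leaf 43901) (.leaf 0)) (.node (.leaf 67514) (.leaf 0)))) (.node (.node (.node (.leaf 130974) (.leaf 17640)) (.node (.leaf 125221) (.leaf 0))) (.node (.node (.leaf 128886) (.leaf 0)) (.node (.leaf 93041) (.leaf 0))))) (.node (.node (.node (.node (.leaf 48526) (.leaf 54555))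 (.node (.leaf 40163) (.leaf 0))) (.node (.node (.leaf 110482) (.leaf 0)) (.node (.leaf 6226) (.leaf 0)))) (.node (.node (.node (.leaf 58318) (.leaf 6842)) (.node (.leaf 107799) (.leaf 0))) (.node (.node (.leaf 54055) (.leaf 0)) (.node (.leaf 29515) (.leaf 0)))))) (.node (.node (.node (.node (.node (.leaf 81212) (.leaf 84831)) (.node (.leaf 54077) (.leaf 0))) (.node (.node (.leaf 99286) (.leaf 0)) (.node (.leaf 90479) (.leaf 0)))) (.node (.node (.node (.leaf 84868) (.leaf 13788)) (.node (.leaf 87901) (.leaf 0))) (.node (.node (.leaf 70039) (.leaf 0)) (.node (.leaf 716) (.leaf 0))))) (.node (.node (.node (.node (.leaf 108487) (.leaf 36858)) (.node (.leaf 14381) (.leaf 0))) (.node (.node (.leaf 90068) (.leaf 0)) (.node (.leaf 51122) (.leaf 0)))) (.node (.node (.node (.leaf 92451) (.leaf 14249)) (.node (.leaf 87348) (.leaf 0))) (.node (.node (.leaf 60545) (.leaf 0)) (.node (.leaf 30175) (.leaf 0))))))) (.node (.node (.node (.node (.node (.node (.leaf 48832) (.leaf 19647)) (.node (.leaf 115669) (.leaf 0)))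 (.node (.node (.leaf 15124) (.leaf 0)) (.node (.leaf 51643) (.leaf 0)))) (.node (.node (.node (.leaf 45194) (.leaf 25857)) (.node (.leaf 73018) (.leaf 0))) (.node (.node (.leaf 15667) (.leaf 0)) (.node (.leaf 83316) (.leaf 0))))) (.node (.node (.node (.node (.leaf 84465) (.leaf 14005)) (.node (.leaf 118565) (.leaf 0))) (.node (.node (.leaf 55731) (.leaf 0)) (.node (.leaf 20329) (.leaf 0)))) (.node (.node (.node (.leaf 32710) (.leaf 55120)) (.node (.leaf 72501) (.leaf 0))) (.node (.node (.leaf 81267) (.leaf 0)) (.node (.leaf 59326) (.leaf 0)))))) (.node (.node (.node (.node (.node (.leaf 7820) (.leaf 5220)) (.node (.leaf 116484) (.leaf 0))) (.node (.node (.leaf 36481) (.leaf 0)) (.node (.leaf 18112) (.leaf 0)))) (.node (.node (.node (.leaf 40217) (.leaf 8047)) (.node (.leaf 48127) (.leaf 0))) (.node (.node (.leaf 63979) (.leaf 0)) (.node (.leaf 81665) (.leaf 0))))) (.node (.node (.node (.node (.leaf 104756) (.leaf 63781)) (.node (.leaf 2254) (.leaf 0))) (.node (.node (.leaf 66430) (.leaf 0)) (.node (.leaf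 81393) (.leaf 0)))) (.node (.node (.node (.leaf 79650) (.leaf 25817)) (.node (.leaf 7750) (.leaf 0))) (.node (.node (.leaf 115456) (.leaf 0)) (.node (.leaf 14116) (.leaf 0))))))))

def kT35 : NT := .node (.node (.node (.node (.node (.node (.node (.node (.leaf 56636) (.leaf 91980)) (.node (.leaf 120692) (.leaf 0))) (.node (.node (.leaf 97057) (.leaf 39233)) (.node (.leaf 63821) (.leaf 0)))) (.node (.node (.node (.leaf 8986) (.leaf 8424)) (.node (.leaf 59076) (.leaf 0))) (.node (.node (.leaf 9877) (.leaf 0)) (.node (.leaf 61282) (.leaf 0))))) (.node (.node (.node (.node (.leaf 51397) (.leaf 94043)) (.node (.leaf 39792) (.leaf 0))) (.node (.node (.leaf 56789) (.leaf 0)) (.node (.leaf 25483) (.leaf 0)))) (.node (.node (.node (.leaf 124216) (.leaf 131064)) (.node (.leaf 86871) (.leaf 0))) (.node (.node (.leaf 99711) (.leaf 0)) (.node (.leaf 72655) (.leaf 0)))))) (.node (.node (.node (.node (.node (.leaf 10909) (.leaf 30075)) (.node (.leaf 57339) (.leaf 0))) (.node (.node (.leaf 35139) (.leaf 0)) (.node (.leaf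 58817) (.leaf 0)))) (.node (.node (.node (.leaf 48769) (.leaf 53151)) (.node (.leaf 82764) (.leaf 0))) (.node (.node (.leaf 72087) (.leaf 0)) (.node (.leaf 28788) (.leaf 0))))) (.node (.node (.node (.node (.leaf 10691) (.leaf 33076)) (.node (.leaf 83253) (.leaf 0))) (.node (.node (.leaf 32158) (.leaf 0)) (.node (.leaf 43956) (.leaf 0)))) (.node (.node (.node (.leaf 38579) (.leaf 114493)) (.node (.leaf 72703) (.leaf 0))) (.node (.node (.leaf 8742) (.leaf 0)) (.node (.leaf 38811) (.leaf 0))))))) (.node (.node (.node (.node (.node (.node (.leaf 43305) (.leaf 74066)) (.node (.leaf 11713) (.leaf 0))) (.node (.node (.leaf 111609) (.leaf 0)) (.node (.leaf 121175) (.leaf 0)))) (.node (.node (.node (.leaf 44518) (.leaf 100198)) (.node (.leaf 21612) (.leaf 0))) (.node (.node (.leaf 88421) (.leaf 0)) (.node (.leaf 25010) (.leaf 0))))) (.node (.node (.node (.node (.leaf 50021) (.leaf 92652)) (.node (.leaf 83397) (.leaf 0))) (.node (.node (.leaf 3000) (.leaf 0)) (.node (.leaf 82389) (.leaf 0)))) (.node (.node (.node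 (.leaf 71669) (.leaf 15991)) (.node (.leaf 12704) (.leaf 0))) (.node (.node (.leaf 28254) (.leaf 0)) (.node (.leaf 49087) (.leaf 0)))))) (.node (.node (.node (.node (.node (.leaf 105774) (.leaf 12913)) (.node (.leaf 36239) (.leaf 0))) (.node (.node (.leaf 78217) (.leaf 0)) (.node (.leaf 32767) (.leaf 0)))) (.node (.node (.node (.leaf 22412) (.leaf 157)) (.node (.leaf 89028) (.leaf 0))) (.node (.node (.leaf 36812) (.leaf 0)) (.node (.leaf 70550) (.leaf 0))))) (.node (.node (.node (.node (.leaf 65976) (.leaf 55057)) (.node (.leaf 115462) (.leaf 0))) (.node (.node (.leaf 33012) (.leaf 0)) (.node (.leaf 123812) (.leaf 0)))) (.node (.node (.node (.leaf 30929) (.leaf 128999)) (.node (.leaf 31) (.leaf 0))) (.node (.node (.leaf 241) (.leaf 0)) (.node (.leaf 110397) (.leaf 0)))))))) (.node (.node (.node (.node (.node (.node (.node (.leaf 69024) (.leaf 55726)) (.node (.leaf 72669) (.leaf 0))) (.node (.node (.leaf 105744) (.leaf 0)) (.node (.leaf 8486) (.leaf 0)))) (.node (.node (.node (.leaf 104840) (.leaf 105301))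 (.node (.leaf 53444) (.leaf 0))) (.node (.node (.leaf 94191) (.leaf 0)) (.node (.leaf 6809) (.leaf 0))))) (.node (.node (.node (.node (.leaf 100244) (.leaf 114983)) (.node (.leaf 45761) (.leaf 0))) (.node (.node (.leaf 89589) (.leaf 0)) (.node (.leaf 33993) (.leaf 0)))) (.node (.node (.node (.leaf 70961) (.leaf 97230)) (.node (.leaf 61297) (.leaf 0))) (.node (.node (.leaf 88981) (.leaf 0)) (.node (.leaf 92071) (.leaf 0)))))) (.node (.node (.node (.node (.node (.leaf 124717) (.leaf 6637)) (.node (.leaf 26523) (.leaf 0))) (.node (.node (.leaf 39321) (.leaf 0)) (.node (.leaf 100812) (.leaf 0)))) (.node (.node (.node (.leaf 22109) (.leaf 34788)) (.node (.leaf 18753) (.leaf 0))) (.node (.node (.leaf 69082) (.leaf 0)) (.node (.leaf 23885) (.leaf 0))))) (.node (.node (.node (.node (.leaf 45740) (.leaf 117105)) (.node (.leaf 29932) (.leaf 0))) (.node (.node (.leaf 41602) (.leaf 0)) (.node (.leaf 42450) (.leaf 0)))) (.node (.node (.node (.leaf 103741) (.leaf 49579)) (.node (.leaf 53621) (.leaf 0))) (.node (.node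 (.leaf 907) (.leaf 0)) (.node (.leaf 49555) (.leaf 0))))))) (.node (.node (.node (.node (.node (.node (.leaf 125905) (.leaf 14813)) (.node (.leaf 24962) (.leaf 0))) (.node (.node (.leaf 104887) (.leaf 0)) (.node (.leaf 50101) (.leaf 0)))) (.node (.node (.node (.leaf 129823) (.leaf 130379)) (.node (.leaf 60293) (.leaf 0))) (.node (.node (.leaf 90579) (.leaf 0)) (.node (.leaf 119626) (.leaf 0))))) (.node (.node (.node (.node (.leaf 17736) (.leaf 115475)) (.node (.leaf 43692) (.leaf 0))) (.node (.node (.leaf 57802) (.leaf 0)) (.node (.leaf 120702) (.leaf 0)))) (.node (.node (.node (.leaf 50497) (.leaf 18635)) (.node (.leaf 82297) (.leaf 0))) (.node (.node (.leaf 16054) (.leaf 0)) (.node (.leaf 38665) (.leaf 0)))))) (.node (.node (.node (.node (.node (.leaf 77604) (.leaf 121098)) (.node (.leaf 43006) (.leaf 0))) (.node (.node (.leaf 89984) (.leaf 0)) (.node (.leaf 46961) (.leaf 0)))) (.node (.node (.node (.leaf 22292) (.leaf 88033)) (.node (.leaf 20063) (.leaf 0))) (.node (.node (.leaf 29135) (.leaf 0)) (.node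 (.leaf 74138) (.leaf 0))))) (.node (.node (.node (.node (.leaf 92632) (.leaf 113425)) (.node (.leaf 13748) (.leaf 0))) (.node (.node (.leaf 29621) (.leaf 0)) (.node (.leaf 22214) (.leaf 0)))) (.node (.node (.node (.leaf 21601) (.leaf 88001)) (.node (.leaf 51597) (.leaf 0))) (.node (.node (.leaf 6542) (.leaf 0)) (.node (.leaf 8972) (.leaf 0))))))))

def kT36 : NT := .node (.node (.node (.node (.node (.node (.node (.node (.leaf 93580) (.leaf 69627)) (.node (.leaf 9950) (.leaf 0))) (.node (.node (.leaf 74571) (.leaf 4095)) (.node (.leaf 107493) (.leaf 0)))) (.node (.node (.node (.leaf 112039) (.leaf 124180)) (.node (.leaf 3171) (.leaf 0))) (.node (.node (.leaf 35821) (.leaf 0)) (.node (.leaf 1862) (.leaf 0))))) (.node (.node (.node (.node (.leaf 35527) (.leaf 58324)) (.node (.leaf 46768) (.leaf 0))) (.node (.node (.leaf 49070) (.leaf 0)) (.node (.leaf 4765) (.leaf 0)))) (.node (.node (.node (.leaf 16040) (.leaf 118713)) (.node (.leaf 100288) (.leaf 0))) (.node (.node (.leaf 120080) (.leaf 0)) (.node (.leaf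 51960) (.leaf 0)))))) (.node (.node (.node (.node (.node (.leaf 129280) (.leaf 41926)) (.node (.leaf 48908) (.leaf 0))) (.node (.node (.leaf 124734) (.leaf 0)) (.node (.leaf 20158) (.leaf 0)))) (.node (.node (.node (.leaf 54106) (.leaf 70110)) (.node (.leaf 42380) (.leaf 0))) (.node (.node (.leaf 113446) (.leaf 0)) (.node (.leaf 61844) (.leaf 0))))) (.node (.node (.node (.node (.leaf 62917) (.leaf 1146)) (.node (.leaf 31523) (.leaf 0))) (.node (.node (.leaf 114622) (.leaf 0)) (.node (.leaf 12355) (.leaf 0)))) (.node (.node (.node (.leaf 126374) (.leaf 72183)) (.node (.leaf 41401) (.leaf 0))) (.node (.node (.leaf 10302) (.leaf 0)) (.node (.leaf 52051) (.leaf 0))))))) (.node (.node (.node (.node (.node (.node (.leaf 103705) (.leaf 56791)) (.node (.leaf 10180) (.leaf 0))) (.node (.node (.leaf 20550) (.leaf 0)) (.node (.leaf 117005) (.leaf 0)))) (.node (.node (.node (.leaf 26469) (.leaf 27947)) (.node (.leaf 61728) (.leaf 0))) (.node (.node (.leaf 89945) (.leaf 0)) (.node (.leaf 126954) (.leaf 0))))) (.node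 (.node (.node (.node (.leaf 97653) (.leaf 103790)) (.node (.leaf 46789) (.leaf 0))) (.node (.node (.leaf 88342) (.leaf 0)) (.node (.leaf 114014) (.leaf 0)))) (.node (.node (.node (.leaf 104233) (.leaf 56135)) (.node (.leaf 31883) (.leaf 0))) (.node (.node (.leaf 27506) (.leaf 0)) (.node (.leaf 127311) (.leaf 0)))))) (.node (.node (.node (.node (.node (.leaf 127343) (.leaf 2202)) (.node (.leaf 95646) (.leaf 0))) (.node (.node (.leaf 44444) (.leaf 0)) (.node (.leaf 55188) (.leaf 0)))) (.node (.node (.node (.leaf 77163) (.leaf 51422)) (.node (.leaf 5110) (.leaf 0))) (.node (.node (.leaf 117544) (.leaf 0)) (.node (.leaf 16205) (.leaf 0))))) (.node (.node (.node (.node (.leaf 96534) (.leaf 104288)) (.node (.leaf 61795) (.leaf 0))) (.node (.node (.leaf 28426) (.leaf 0)) (.node (.leaf 51500) (.leaf 0)))) (.node (.node (.node (.leaf 29800) (.leaf 26835)) (.node (.leaf 49621) (.leaf 0))) (.node (.node (.leaf 75112) (.leaf 0)) (.node (.leaf 74230) (.leaf 0)))))))) (.node (.node (.node (.node (.node (.node (.node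 (.leaf 128471) (.leaf 100202)) (.node (.leaf 110990) (.leaf 0))) (.node (.node (.leaf 54002) (.leaf 0)) (.node (.leaf 35154) (.leaf 0)))) (.node (.node (.node (.leaf 93598) (.leaf 31311)) (.node (.leaf 131033) (.leaf 0))) (.node (.node (.leaf 49060) (.leaf 0)) (.node (.leaf 58539) (.leaf 0))))) (.node (.node (.node (.node (.leaf 28593) (.leaf 41667)) (.node (.leaf 5309) (.leaf 0))) (.node (.node (.leaf 92586) (.leaf 0)) (.node (.leaf 27479) (.leaf 0)))) (.node (.node (.node (.leaf 22257) (.leaf 49400)) (.node (.leaf 75223) (.leaf 0))) (.node (.node (.leaf 108351) (.leaf 0)) (.node (.leaf 91404) (.leaf 0)))))) (.node (.node (.node (.node (.node (.leaf 61154) (.leaf 3583)) (.node (.leaf 50670) (.leaf 0))) (.node (.node (.leaf 19902) (.leaf 0)) (.node (.leaf 39268) (.leaf 0)))) (.node (.node (.node (.leaf 32571) (.leaf 41794)) (.node (.leaf 26301) (.leaf 0))) (.node (.node (.leaf 17628) (.leaf 0)) (.node (.leaf 72095) (.leaf 0))))) (.node (.node (.node (.node (.leaf 22186) (.leaf 81198)) (.node (.leaf 7052)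 (.leaf 0))) (.node (.node (.leaf 59130) (.leaf 0)) (.node (.leaf 21435) (.leaf 0)))) (.node (.node (.node (.leaf 70107) (.leaf 52915)) (.node (.leaf 4354) (.leaf 0))) (.node (.node (.leaf 104874) (.leaf 0)) (.node (.leaf 99612) (.leaf 0))))))) (.node (.node (.node (.node (.node (.node (.leaf 17808) (.leaf 63955)) (.node (.leaf 4262) (.leaf 0))) (.node (.node (.leaf 1842) (.leaf 0)) (.node (.leaf 4630) (.leaf 0)))) (.node (.node (.node (.leaf 37514) (.leaf 121165)) (.node (.leaf 14622) (.leaf 0))) (.node (.node (.leaf 18239) (.leaf 0)) (.node (.leaf 8843) (.leaf 0))))) (.node (.node (.node (.node (.leaf 60285) (.leaf 85267)) (.node (.leaf 46239) (.leaf 0))) (.node (.node (.leaf 124173) (.leaf 0)) (.node (.leaf 122112) (.leaf 0)))) (.node (.node (.node (.leaf 102160) (.leaf 27066)) (.node (.leaf 3581) (.leaf 0))) (.node (.node (.leaf 66442) (.leaf 0)) (.node (.leaf 7993) (.leaf 0)))))) (.node (.node (.node (.node (.node (.leaf 53181) (.leaf 101821)) (.node (.leaf 13459) (.leaf 0))) (.node (.node (.leaf 12121)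 (.leaf 0)) (.node (.leaf 5855) (.leaf 0)))) (.node (.node (.node (.leaf 95162) (.leaf 120216)) (.node (.leaf 73666) (.leaf 0))) (.node (.node (.leaf 3296) (.leaf 0)) (.node (.leaf 39770) (.leaf 0))))) (.node (.node (.node (.node (.leaf 72030) (.leaf 83941)) (.node (.leaf 103723) (.leaf 0))) (.node (.node (.leaf 2005) (.leaf 0)) (.node (.leaf 53513) (.leaf 0)))) (.node (.node (.node (.leaf 77807) (.leaf 32425)) (.node (.leaf 54472) (.leaf 0))) (.node (.node (.leaf 17820) (.leaf 0)) (.node (.leaf 110445) (.leaf 0))))))))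

def kT37 : NT := .node (.node (.node (.node (.node (.node (.node (.node (.leaf 93984) (.leaf 25003)) (.node (.leaf 86813) (.leaf 0))) (.node (.node (.leaf 4975) (.leaf 104447)) (.node (.leaf 15841) (.leaf 0)))) (.node (.node (.node (.leaf 1540) (.leaf 39110)) (.node (.leaf 62132) (.leaf 0))) (.node (.node (.leaf 56787) (.leaf 0)) (.node (.leaf 22280) (.leaf 0))))) (.node (.node (.node (.node (.leaf 92473) (.leaf 119638)) (.node (.leaf 80341) (.leaf 0))) (.node (.node (.leaf 53583) (.leaf 0)) (.node (.leaf 83208) (.leaf 0)))) (.node (.node (.node (.leaf 129527) (.leaf 65454)) (.node (.leaf 50524) (.leaf 0))) (.node (.node (.leaf 130988) (.leaf 0)) (.node (.leaf 120663) (.leaf 0)))))) (.node (.node (.node (.node (.node (.leaf 6704) (.leaf 88463)) (.node (.leaf 81673) (.leaf 0))) (.node (.node (.leaf 18672) (.leaf 0)) (.node (.leaf 21665) (.leaf 0)))) (.node (.node (.node (.leaf 74622) (.leaf 78726)) (.node (.leaf 26979) (.leaf 0))) (.node (.node (.leaf 45034) (.leaf 0)) (.node (.leaf 2315) (.leaf 0)))))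 (.node (.node (.node (.node (.leaf 59577) (.leaf 5275)) (.node (.leaf 1829) (.leaf 0))) (.node (.node (.leaf 69496) (.leaf 0)) (.node (.leaf 38715) (.leaf 0)))) (.node (.node (.node (.leaf 101165) (.leaf 52155)) (.node (.leaf 105312) (.leaf 0))) (.node (.node (.leaf 5750) (.leaf 0)) (.node (.leaf 127241) (.leaf 0))))))) (.node (.node (.node (.node (.node (.node (.leaf 24249) (.leaf 23336)) (.node (.leaf 28462) (.leaf 0))) (.node (.node (.leaf 61217) (.leaf 0)) (.node (.leaf 45705) (.leaf 0)))) (.node (.node (.node (.leaf 28407) (.leaf 63345)) (.node (.leaf 52546) (.leaf 0))) (.node (.node (.leaf 70120) (.leaf 0)) (.node (.leaf 68603) (.leaf 0))))) (.node (.node (.node (.node (.leaf 69378) (.leaf 37217)) (.node (.leaf 50971) (.leaf 0))) (.node (.node (.leaf 93638) (.leaf 0)) (.node (.leaf 101852) (.leaf 0)))) (.node (.node (.node (.leaf 36278) (.leaf 122879)) (.node (.leaf 111429) (.leaf 0))) (.node (.node (.leaf 69010) (.leaf 0)) (.node (.leaf 48903) (.leaf 0)))))) (.node (.node (.node (.node (.node (.leaf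 112122) (.leaf 2710)) (.node (.leaf 93482) (.leaf 0))) (.node (.node (.leaf 55255) (.leaf 0)) (.node (.leaf 72179) (.leaf 0)))) (.node (.node (.node (.leaf 119199) (.leaf 109476)) (.node (.leaf 5581) (.leaf 0))) (.node (.node (.leaf 26431) (.leaf 0)) (.node (.leaf 86447) (.leaf 0))))) (.node (.node (.node (.node (.leaf 122276) (.leaf 33182)) (.node (.leaf 79784) (.leaf 0))) (.node (.node (.leaf 58074) (.leaf 0)) (.node (.leaf 6735) (.leaf 0)))) (.node (.node (.node (.leaf 94711) (.leaf 15990)) (.node (.leaf 64225) (.leaf 0))) (.node (.node (.leaf 55424) (.leaf 0)) (.node (.leaf 101337) (.leaf 0)))))))) (.node (.node (.node (.node (.node (.node (.node (.leaf 5349) (.leaf 106955)) (.node (.leaf 9032) (.leaf 0))) (.node (.node (.leaf 62345) (.leaf 0)) (.node (.leaf 72174) (.leaf 0)))) (.node (.node (.node (.leaf 16703) (.leaf 53629)) (.node (.leaf 56721) (.leaf 0))) (.node (.node (.leaf 24213) (.leaf 0)) (.node (.leaf 41134) (.leaf 0))))) (.node (.node (.node (.node (.leaf 22887) (.leaf 56265)) (.node (.leaf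 128309) (.leaf 0))) (.node (.node (.leaf 120107) (.leaf 0)) (.node (.leaf 106364) (.leaf 0)))) (.node (.node (.node (.leaf 2158) (.leaf 7444)) (.node (.leaf 13465) (.leaf 0))) (.node (.node (.leaf 18183) (.leaf 0)) (.node (.leaf 131010) (.leaf 0)))))) (.node (.node (.node (.node (.node (.leaf 127990) (.leaf 12648)) (.node (.leaf 35695) (.leaf 0))) (.node (.node (.leaf 42277) (.leaf 0)) (.node (.leaf 14954) (.leaf 0)))) (.node (.node (.node (.leaf 73127) (.leaf 28652)) (.node (.leaf 29104) (.leaf 0))) (.node (.node (.leaf 36484) (.leaf 0)) (.node (.leaf 45055) (.leaf 0))))) (.node (.node (.node (.node (.leaf 96198) (.leaf 128822)) (.node (.leaf 129327) (.leaf 0))) (.node (.node (.leaf 81685) (.leaf 0)) (.node (.leaf 30366) (.leaf 0)))) (.node (.node (.node (.leaf 119715) (.leaf 52936)) (.node (.leaf 62946) (.leaf 0))) (.node (.node (.leaf 4556) (.leaf 0)) (.node (.leaf 27843) (.leaf 0))))))) (.node (.node (.node (.node (.node (.node (.leaf 53103) (.leaf 85932)) (.node (.leaf 116636) (.leaf 0))) (.node (.node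 (.leaf 95703) (.leaf 0)) (.node (.leaf 115540) (.leaf 0)))) (.node (.node (.node (.leaf 129935) (.leaf 125279)) (.node (.leaf 19028) (.leaf 0))) (.node (.node (.leaf 36810) (.leaf 0)) (.node (.leaf 3272) (.leaf 0))))) (.node (.node (.node (.node (.leaf 5444) (.leaf 120102)) (.node (.leaf 17397) (.leaf 0))) (.node (.node (.leaf 97118) (.leaf 0)) (.node (.leaf 6499) (.leaf 0)))) (.node (.node (.node (.leaf 21586) (.leaf 10227)) (.node (.leaf 19357) (.leaf 0))) (.node (.node (.leaf 76769) (.leaf 0)) (.node (.leaf 118555) (.leaf 0)))))) (.node (.node (.node (.node (.node (.leaf 38280) (.leaf 129979)) (.node (.leaf 82890) (.leaf 0))) (.node (.node (.leaf 78291) (.leaf 0)) (.node (.leaf 29866) (.leaf 0)))) (.node (.node (.node (.leaf 19793) (.leaf 116115)) (.node (.leaf 88411) (.leaf 0))) (.node (.node (.leaf 542) (.leaf 0)) (.node (.leaf 47337) (.leaf 0))))) (.node (.node (.node (.node (.leaf 105781) (.leaf 49797)) (.node (.leaf 126874) (.leaf 0))) (.node (.node (.leaf 99715) (.leaf 0)) (.node (.leaf 17523)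 (.leaf 0)))) (.node (.node (.node (.leaf 16071) (.leaf 34256)) (.node (.leaf 90109) (.leaf 0))) (.node (.node (.leaf 9958) (.leaf 0)) (.node (.leaf 86299) (.leaf 0))))))))

def kT38 : NT := .node (.node (.node (.node (.node (.node (.node (.node (.leaf 6647) (.leaf 22506)) (.node (.leaf 65984) (.leaf 0))) (.node (.node (.leaf 15085) (.leaf 9770)) (.node (.leaf 122197) (.leaf 0)))) (.node (.node (.node (.leaf 64828) (.leaf 11338)) (.node (.leaf 50317) (.leaf 0))) (.node (.node (.leaf 28977) (.leaf 0)) (.node (.leaf 33073) (.leaf 0))))) (.node (.node (.node (.node (.leaf 48115) (.leaf 78720)) (.node (.leaf 69108) (.leaf 0))) (.node (.node (.leaf 91538) (.leaf 0)) (.node (.leaf 33021) (.leaf 0)))) (.node (.node (.node (.leaf 14913) (.leaf 102780)) (.node (.leaf 1662) (.leaf 0))) (.node (.node (.leaf 114534) (.leaf 0)) (.node (.leaf 104911) (.leaf 0)))))) (.node (.node (.node (.node (.node (.leaf 8109) (.leaf 53516)) (.node (.leaf 27615) (.leaf 0))) (.node (.node (.leaf 11077) (.leaf 0)) (.node (.leaf 29257)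 (.leaf 0)))) (.node (.node (.node (.leaf 7753) (.leaf 90975)) (.node (.leaf 62771) (.leaf 0))) (.node (.node (.leaf 10510) (.leaf 0)) (.node (.leaf 121818) (.leaf 0))))) (.node (.node (.node (.node (.leaf 10086) (.leaf 9043)) (.node (.leaf 120279) (.leaf 0))) (.node (.node (.leaf 55292) (.leaf 0)) (.node (.leaf 77800) (.leaf 0)))) (.node (.node (.node (.leaf 85977) (.leaf 126463)) (.node (.leaf 122775) (.leaf 0))) (.node (.node (.leaf 78233) (.leaf 0)) (.node (.leaf 23902) (.leaf 0))))))) (.node (.node (.node (.node (.node (.node (.leaf 62888) (.leaf 83308)) (.node (.leaf 79179) (.leaf 0))) (.node (.node (.leaf 62277) (.leaf 0)) (.node (.leaf 107980) (.leaf 0)))) (.node (.node (.node (.leaf 28049) (.leaf 7448)) (.node (.leaf 33255) (.leaf 0))) (.node (.node (.leaf 37104) (.leaf 0)) (.node (.leaf 86347) (.leaf 0))))) (.node (.node (.node (.node (.leaf 5679) (.leaf 73544)) (.node (.leaf 107490) (.leaf 0))) (.node (.node (.leaf 24449) (.leaf 0)) (.node (.leaf 113135) (.leaf 0)))) (.node (.node (.node (.leaf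 104280) (.leaf 13311)) (.node (.leaf 20708) (.leaf 0))) (.node (.node (.leaf 14946) (.leaf 0)) (.node (.leaf 100697) (.leaf 0)))))) (.node (.node (.node (.node (.node (.leaf 127767) (.leaf 99733)) (.node (.leaf 33418) (.leaf 0))) (.node (.node (.leaf 56970) (.leaf 0)) (.node (.leaf 126924) (.leaf 0)))) (.node (.node (.node (.leaf 6895) (.leaf 56759)) (.node (.leaf 38714) (.leaf 0))) (.node (.node (.leaf 103728) (.leaf 0)) (.node (.leaf 126859) (.leaf 0))))) (.node (.node (.node (.node (.leaf 47942) (.leaf 34951)) (.node (.leaf 73075) (.leaf 0))) (.node (.node (.leaf 110869) (.leaf 0)) (.node (.leaf 16857) (.leaf 0)))) (.node (.node (.node (.leaf 84758) (.leaf 102830)) (.node (.leaf 77582) (.leaf 0))) (.node (.node (.leaf 126306) (.leaf 0)) (.node (.leaf 110584) (.leaf 0)))))))) (.node (.node (.node (.node (.node (.node (.node (.leaf 128338) (.leaf 49072)) (.node (.leaf 118192) (.leaf 0))) (.node (.node (.leaf 114112) (.leaf 0)) (.node (.leaf 64708) (.leaf 0)))) (.node (.node (.node (.leaf 42198) (.leaf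 4430)) (.node (.leaf 126842) (.leaf 0))) (.node (.node (.leaf 88054) (.leaf 0)) (.node (.leaf 127952) (.leaf 0))))) (.node (.node (.node (.node (.leaf 3771) (.leaf 122318)) (.node (.leaf 13374) (.leaf 0))) (.node (.node (.leaf 52414) (.leaf 0)) (.node (.leaf 3731) (.leaf 0)))) (.node (.node (.node (.leaf 3030) (.leaf 32378)) (.node (.leaf 6882) (.leaf 0))) (.node (.node (.leaf 60394) (.leaf 0)) (.node (.leaf 34772) (.leaf 0)))))) (.node (.node (.node (.node (.node (.leaf 16499) (.leaf 4584)) (.node (.leaf 11175) (.leaf 0))) (.node (.node (.leaf 89075) (.leaf 0)) (.node (.leaf 28139) (.leaf 0)))) (.node (.node (.node (.leaf 46906) (.leaf 19275)) (.node (.leaf 103891) (.leaf 0))) (.node (.node (.leaf 33509) (.leaf 0)) (.node (.leaf 4715) (.leaf 0))))) (.node (.node (.node (.node (.leaf 9650) (.leaf 53469)) (.node (.leaf 53896) (.leaf 0))) (.node (.node (.leaf 50081) (.leaf 0)) (.node (.leaf 72646) (.leaf 0)))) (.node (.node (.node (.leaf 2952) (.leaf 37225)) (.node (.leaf 91930) (.leaf 0))) (.node (.node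 (.leaf 47095) (.leaf 0)) (.node (.leaf 24418) (.leaf 0))))))) (.node (.node (.node (.node (.node (.node (.leaf 42702) (.leaf 105459)) (.node (.leaf 46377) (.leaf 0))) (.node (.node (.leaf 24964) (.leaf 0)) (.node (.leaf 18360) (.leaf 0)))) (.node (.node (.node (.leaf 58049) (.leaf 106964)) (.node (.leaf 80337) (.leaf 0))) (.node (.node (.leaf 26501) (.leaf 0)) (.node (.leaf 59253) (.leaf 0))))) (.node (.node (.node (.node (.leaf 42269) (.leaf 50988)) (.node (.leaf 31722) (.leaf 0))) (.node (.node (.leaf 39398) (.leaf 0)) (.node (.leaf 34008) (.leaf 0)))) (.node (.node (.node (.leaf 6121) (.leaf 81783)) (.node (.leaf 30173) (.leaf 0))) (.node (.node (.leaf 61884) (.leaf 0)) (.node (.leaf 9001) (.leaf 0)))))) (.node (.node (.node (.node (.node (.leaf 96024) (.leaf 50137)) (.node (.leaf 115654) (.leaf 0))) (.node (.node (.leaf 65497) (.leaf 0)) (.node (.leaf 3125) (.leaf 0)))) (.node (.node (.node (.leaf 18193) (.leaf 16618)) (.node (.leaf 114623) (.leaf 0))) (.node (.node (.leaf 64333) (.leaf 0)) (.node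 (.leaf 29360) (.leaf 0))))) (.node (.node (.node (.node (.leaf 60292) (.leaf 44334)) (.node (.leaf 20406) (.leaf 0))) (.node (.node (.leaf 125899) (.leaf 0)) (.node (.leaf 55690) (.leaf 0)))) (.node (.node (.node (.leaf 16210) (.leaf 129335)) (.node (.leaf 55275) (.leaf 0))) (.node (.node (.leaf 110383) (.leaf 0)) (.node (.leaf 40414) (.leaf 0))))))))

def kT39 : NT := .node (.node (.node (.node (.node (.node (.node (.node (.leaf 70090) (.leaf 101247)) (.node (.leaf 63389) (.leaf 0))) (.node (.node (.leaf 42328) (.leaf 103422)) (.node (.leaf 80728) (.leaf 0)))) (.node (.node (.node (.leaf 29296) (.leaf 36066)) (.node (.leaf 13395) (.leaf 0))) (.node (.node (.leaf 80186) (.leaf 0)) (.node (.leaf 124739) (.leaf 0))))) (.node (.node (.node (.node (.leaf 52011) (.leaf 50914)) (.node (.leaf 105278) (.leaf 0))) (.node (.node (.leaf 11624) (.leaf 0)) (.node (.leaf 85783) (.leaf 0)))) (.node (.node (.node (.leaf 58700) (.leaf 120127)) (.node (.leaf 22901) (.leaf 0))) (.node (.node (.leaf 22015) (.leaf 0)) (.node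 (.leaf 35804) (.leaf 0)))))) (.node (.node (.node (.node (.node (.leaf 11511) (.leaf 40400)) (.node (.leaf 102758) (.leaf 0))) (.node (.node (.leaf 117166) (.leaf 0)) (.node (.leaf 27945) (.leaf 0)))) (.node (.node (.node (.leaf 72677) (.leaf 22863)) (.node (.leaf 26240) (.leaf 0))) (.node (.node (.leaf 62871) (.leaf 0)) (.node (.leaf 45820) (.leaf 0))))) (.node (.node (.node (.node (.leaf 80853) (.leaf 14156)) (.node (.leaf 115571) (.leaf 0))) (.node (.node (.leaf 63967) (.leaf 0)) (.node (.leaf 107334) (.leaf 0)))) (.node (.node (.node (.leaf 13361) (.leaf 81689)) (.node (.leaf 49085) (.leaf 0))) (.node (.node (.leaf 108015) (.leaf 0)) (.node (.leaf 81202) (.leaf 0))))))) (.node (.node (.node (.node (.node (.node (.leaf 39594) (.leaf 79844)) (.node (.leaf 29154) (.leaf 0))) (.node (.node (.leaf 71102) (.leaf 0)) (.node (.leaf 41121) (.leaf 0)))) (.node (.node (.node (.leaf 8765) (.leaf 122687)) (.node (.leaf 61173) (.leaf 0))) (.node (.node (.leaf 20607) (.leaf 0)) (.node (.leaf 123263) (.leaf 0)))))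 (.node (.node (.node (.node (.leaf 84967) (.leaf 4127)) (.node (.leaf 72051) (.leaf 0))) (.node (.node (.leaf 115596) (.leaf 0)) (.node (.leaf 14332) (.leaf 0)))) (.node (.node (.node (.leaf 28597) (.leaf 44294)) (.node (.leaf 29894) (.leaf 0))) (.node (.node (.leaf 11961) (.leaf 0)) (.node (.leaf 96092) (.leaf 0)))))) (.node (.node (.node (.node (.node (.leaf 56589) (.leaf 125946)) (.node (.leaf 107345) (.leaf 0))) (.node (.node (.leaf 96767) (.leaf 0)) (.node (.leaf 32445) (.leaf 0)))) (.node (.node (.node (.leaf 42745) (.leaf 123801)) (.node (.leaf 110975) (.leaf 0))) (.node (.node (.leaf 131050) (.leaf 0)) (.node (.leaf 28370) (.leaf 0))))) (.node (.node (.node (.node (.leaf 117694) (.leaf 38863)) (.node (.leaf 48283) (.leaf 0))) (.node (.node (.leaf 36261) (.leaf 0)) (.node (.leaf 6254) (.leaf 0)))) (.node (.node (.node (.leaf 38567) (.leaf 14577)) (.node (.leaf 55803) (.leaf 0))) (.node (.node (.leaf 56594) (.leaf 0)) (.node (.leaf 36006) (.leaf 0)))))))) (.node (.node (.node (.node (.node (.node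 (.node (.leaf 129375) (.leaf 63256)) (.node (.leaf 71656) (.leaf 0))) (.node (.node (.leaf 29931) (.leaf 0)) (.node (.leaf 39889) (.leaf 0)))) (.node (.node (.node (.leaf 73504) (.leaf 59016)) (.node (.leaf 1401) (.leaf 0))) (.node (.node (.leaf 4708) (.leaf 0)) (.node (.leaf 122653) (.leaf 0))))) (.node (.node (.node (.node (.leaf 55946) (.leaf 22884)) (.node (.leaf 21345) (.leaf 0))) (.node (.node (.leaf 65417) (.leaf 0)) (.node (.leaf 99664) (.leaf 0)))) (.node (.node (.node (.leaf 20920) (.leaf 119117)) (.node (.leaf 10922) (.leaf 0))) (.node (.node (.leaf 60102) (.leaf 0)) (.node (.leaf 92570) (.leaf 0)))))) (.node (.node (.node (.node (.node (.leaf 98752) (.leaf 80131)) (.node (.leaf 18408) (.leaf 0))) (.node (.node (.leaf 11299) (.leaf 0)) (.node (.leaf 63439) (.leaf 0)))) (.node (.node (.node (.leaf 79195) (.leaf 35668)) (.node (.leaf 51932) (.leaf 0))) (.node (.node (.leaf 82342) (.leaf 0)) (.node (.leaf 37690) (.leaf 0))))) (.node (.node (.node (.node (.leaf 126381) (.leaf 7403)) (.node (.leaf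 31374) (.leaf 0))) (.node (.node (.leaf 130926) (.leaf 0)) (.node (.leaf 11621) (.leaf 0)))) (.node (.node (.node (.leaf 87827) (.leaf 40248)) (.node (.leaf 65833) (.leaf 0))) (.node (.node (.leaf 70058) (.leaf 0)) (.node (.leaf 1700) (.leaf 0))))))) (.node (.node (.node (.node (.node (.node (.leaf 81763) (.leaf 11681)) (.node (.leaf 111599) (.leaf 0))) (.node (.node (.leaf 65964) (.leaf 0)) (.node (.leaf 12654) (.leaf 0)))) (.node (.node (.node (.leaf 55549) (.leaf 51841)) (.node (.leaf 69624) (.leaf 0))) (.node (.node (.leaf 42153) (.leaf 0)) (.node (.leaf 57335) (.leaf 0))))) (.node (.node (.node (.node (.leaf 126299) (.leaf 84853)) (.node (.leaf 131065) (.leaf 0))) (.node (.node (.leaf 96222) (.leaf 0)) (.node (.leaf 34060) (.leaf 0)))) (.node (.node (.node (.leaf 59820) (.leaf 92657)) (.node (.leaf 123301) (.leaf 0))) (.node (.node (.leaf 93689) (.leaf 0)) (.node (.leaf 15701) (.leaf 0)))))) (.node (.node (.node (.node (.node (.leaf 50144) (.leaf 121626)) (.node (.leaf 82818) (.leaf 0))) (.node (.node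 (.leaf 56609) (.leaf 0)) (.node (.leaf 60791) (.leaf 0)))) (.node (.node (.node (.leaf 70926) (.leaf 85291)) (.node (.leaf 28639) (.leaf 0))) (.node (.node (.leaf 125249) (.leaf 0)) (.node (.leaf 124371) (.leaf 0))))) (.node (.node (.node (.node (.leaf 23810) (.leaf 113084)) (.node (.leaf 30302) (.leaf 0))) (.node (.node (.leaf 124207) (.leaf 0)) (.node (.leaf 42625) (.leaf 0)))) (.node (.node (.node (.leaf 118651) (.leaf 2839)) (.node (.leaf 126265) (.leaf 0))) (.node (.node (.leaf 43702) (.leaf 0)) (.node (.leaf 125841) (.leaf 0))))))))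

def kT40 : NT := .node (.node (.node (.node (.node (.node (.node (.node (.leaf 11141) (.leaf 21502)) (.node (.leaf 114672) (.leaf 0))) (.node (.node (.leaf 6250) (.leaf 0)) (.node (.leaf 52068) (.leaf 0)))) (.node (.node (.node (.leaf 55022) (.leaf 14916)) (.node (.leaf 105385) (.leaf 0))) (.node (.node (.leaf 92518) (.leaf 0)) (.node (.leaf 32376) (.leaf 0))))) (.node (.node (.node (.node (.leaf 104400) (.leaf 117684)) (.node (.leaf 28265) (.leaf 0))) (.node (.node (.leaf 2188) (.leaf 0)) (.node (.leaf 34566) (.leaf 0)))) (.node (.node (.node (.leaf 8412) (.leaf 50947)) (.node (.leaf 76182) (.leaf 0))) (.node (.node (.leaf 29183) (.leaf 0)) (.node (.leaf 55524) (.leaf 0)))))) (.node (.node (.node (.node (.node (.leaf 35971) (.leaf 117585)) (.node (.leaf 49063) (.leaf 0))) (.node (.node (.leaf 111948) (.leaf 0)) (.node (.leaf 118209) (.leaf 0)))) (.node (.node (.node (.leaf 11439) (.leaf 18760)) (.node (.leaf 59357) (.leaf 0))) (.node (.node (.leaf 50131) (.leaf 0)) (.node (.leaf 49133) (.leaf 0)))))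 (.node (.node (.node (.node (.leaf 35722) (.leaf 77720)) (.node (.leaf 75607) (.leaf 0))) (.node (.node (.leaf 65023) (.leaf 0)) (.node (.leaf 129436) (.leaf 0)))) (.node (.node (.node (.leaf 74043) (.leaf 114476)) (.node (.leaf 66980) (.leaf 0))) (.node (.node (.leaf 13066) (.leaf 0)) (.node (.leaf 99307) (.leaf 0))))))) (.node (.node (.node (.node (.node (.node (.leaf 45732) (.leaf 112086)) (.node (.leaf 94640) (.leaf 0))) (.node (.node (.leaf 116118) (.leaf 0)) (.node (.leaf 16694) (.leaf 0)))) (.node (.node (.node (.leaf 21644) (.leaf 19895)) (.node (.leaf 128788) (.leaf 0))) (.node (.node (.leaf 78772) (.leaf 0)) (.node (.leaf 18629) (.leaf 0))))) (.node (.node (.node (.node (.leaf 9801) (.leaf 81244)) (.node (.leaf 34971) (.leaf 0))) (.node (.node (.leaf 3518) (.leaf 0)) (.node (.leaf 45777) (.leaf 0)))) (.node (.node (.node (.leaf 126795) (.leaf 7316)) (.node (.leaf 99755) (.leaf 0))) (.node (.node (.leaf 82256) (.leaf 0)) (.node (.leaf 78634) (.leaf 0)))))) (.node (.node (.node (.node (.node (.leaf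 94554) (.leaf 33621)) (.node (.leaf 129463) (.leaf 0))) (.node (.node (.leaf 69119) (.leaf 0)) (.node (.leaf 88954) (.leaf 0)))) (.node (.node (.node (.leaf 38245) (.leaf 7483)) (.node (.leaf 35654) (.leaf 0))) (.node (.node (.leaf 26995) (.leaf 0)) (.node (.leaf 15687) (.leaf 0))))) (.node (.node (.node (.node (.leaf 43201) (.leaf 110471)) (.node (.leaf 15475) (.leaf 0))) (.node (.node (.leaf 46537) (.leaf 0)) (.node (.leaf 1394) (.leaf 0)))) (.node (.node (.node (.leaf 8996) (.leaf 10298)) (.node (.leaf 128368) (.leaf 0))) (.node (.node (.leaf 58847) (.leaf 0)) (.node (.leaf 13970) (.leaf 0)))))))) (.node (.node (.node (.node (.node (.node (.node (.leaf 53560) (.leaf 15392)) (.node (.leaf 55978) (.leaf 0))) (.node (.node (.leaf 50374) (.leaf 0)) (.node (.leaf 51404) (.leaf 0)))) (.node (.node (.node (.leaf 37140) (.leaf 20178)) (.node (.leaf 72584) (.leaf 0))) (.node (.node (.leaf 113537) (.leaf 0)) (.node (.leaf 48960) (.leaf 0))))) (.node (.node (.node (.node (.leaf 25557) (.leaf 44898)) (.node (.leaf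 14309) (.leaf 0))) (.node (.node (.leaf 73551) (.leaf 0)) (.node (.leaf 7648) (.leaf 0)))) (.node (.node (.node (.leaf 41723) (.leaf 70067)) (.node (.leaf 9551) (.leaf 0))) (.node (.node (.leaf 17224) (.leaf 0)) (.node (.leaf 93547) (.leaf 0)))))) (.node (.node (.node (.node (.node (.leaf 128949) (.leaf 61390)) (.node (.leaf 130437) (.leaf 0))) (.node (.node (.leaf 2950) (.leaf 0)) (.node (.leaf 45438) (.leaf 0)))) (.node (.node (.node (.leaf 26802) (.leaf 59536)) (.node (.leaf 61882) (.leaf 0))) (.node (.node (.leaf 128301) (.leaf 0)) (.node (.leaf 5159) (.leaf 0))))) (.node (.node (.node (.node (.leaf 16662) (.leaf 129427)) (.node (.leaf 17162) (.leaf 0))) (.node (.node (.leaf 52665) (.leaf 0)) (.node (.leaf 3974) (.leaf 0)))) (.node (.node (.node (.leaf 19661) (.leaf 113004)) (.node (.leaf 87401) (.leaf 0))) (.node (.node (.leaf 54199) (.leaf 0)) (.node (.leaf 19623) (.leaf 0))))))) (.node (.node (.node (.node (.node (.node (.leaf 45440) (.leaf 28118)) (.node (.leaf 81667) (.leaf 0))) (.node (.node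 (.leaf 15565) (.leaf 0)) (.node (.leaf 62432) (.leaf 0)))) (.node (.node (.node (.leaf 105975) (.leaf 119238)) (.node (.leaf 85501) (.leaf 0))) (.node (.node (.leaf 19433) (.leaf 0)) (.node (.leaf 61079) (.leaf 0))))) (.node (.node (.node (.node (.leaf 47235) (.leaf 98575)) (.node (.leaf 118593) (.leaf 0))) (.node (.node (.leaf 49083) (.leaf 0)) (.node (.leaf 52384) (.leaf 0)))) (.node (.node (.node (.leaf 16502) (.leaf 96751)) (.node (.leaf 14664) (.leaf 0))) (.node (.node (.leaf 7019) (.leaf 0)) (.node (.leaf 121732) (.leaf 0)))))) (.node (.node (.node (.node (.node (.leaf 94086) (.leaf 22206)) (.node (.leaf 106361) (.leaf 0))) (.node (.node (.leaf 25741) (.leaf 0)) (.node (.leaf 97554) (.leaf 0)))) (.node (.node (.node (.leaf 94103) (.leaf 124862)) (.node (.leaf 83416) (.leaf 0))) (.node (.node (.leaf 77689) (.leaf 0)) (.node (.leaf 18224) (.leaf 0))))) (.node (.node (.node (.node (.leaf 32355) (.leaf 47388)) (.node (.leaf 78100) (.leaf 0))) (.node (.node (.leaf 53481) (.leaf 0)) (.node (.leaf 23635)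 (.leaf 0)))) (.node (.node (.node (.leaf 32747) (.leaf 10051)) (.node (.leaf 52512) (.leaf 0))) (.node (.node (.leaf 14174) (.leaf 0)) (.node (.leaf 22304) (.leaf 0))))))))

def kT41 : NT := .node (.node (.node (.node (.node (.node (.node (.node (.leaf 46352) (.leaf 124358)) (.node (.leaf 114490) (.leaf 0))) (.node (.node (.leaf 34777) (.leaf 0)) (.node (.leaf 117138) (.leaf 0)))) (.node (.node (.node (.leaf 28007) (.leaf 107852)) (.node (.leaf 26868) (.leaf 0))) (.node (.node (.leaf 103827) (.leaf 0)) (.node (.leaf 119629) (.leaf 0))))) (.node (.node (.node (.node (.leaf 113545) (.leaf 47338)) (.node (.leaf 119168) (.leaf 0))) (.node (.node (.leaf 129424) (.leaf 0)) (.node (.leaf 58762) (.leaf 0)))) (.node (.node (.node (.leaf 20032) (.leaf 7475)) (.node (.leaf 28252) (.leaf 0))) (.node (.node (.leaf 121759) (.leaf 0)) (.node (.leaf 93614) (.leaf 0)))))) (.node (.node (.node (.node (.node (.leaf 25887) (.leaf 57297)) (.node (.leaf 56778) (.leaf 0))) (.node (.node (.leaf 66329) (.leaf 0)) (.node (.leaf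 130919) (.leaf 0)))) (.node (.node (.node (.leaf 120767) (.leaf 53552)) (.node (.leaf 37520) (.leaf 0))) (.node (.node (.leaf 22669) (.leaf 0)) (.node (.leaf 39662) (.leaf 0))))) (.node (.node (.node (.node (.leaf 114663) (.leaf 91554)) (.node (.leaf 63702) (.leaf 0))) (.node (.node (.leaf 9797) (.leaf 0)) (.node (.leaf 68896) (.leaf 0)))) (.node (.node (.node (.leaf 19052) (.leaf 82845)) (.node (.leaf 48781) (.leaf 0))) (.node (.node (.leaf 52474) (.leaf 0)) (.node (.leaf 116651) (.leaf 0))))))) (.node (.node (.node (.node (.node (.node (.leaf 68483) (.leaf 101340)) (.node (.leaf 5398) (.leaf 0))) (.node (.node (.leaf 31923) (.leaf 0)) (.node (.leaf 19730) (.leaf 0)))) (.node (.node (.node (.leaf 5930) (.leaf 51153)) (.node (.leaf 36817) (.leaf 0))) (.node (.node (.leaf 49354) (.leaf 0)) (.node (.leaf 27044) (.leaf 0))))) (.node (.node (.node (.node (.leaf 38797) (.leaf 84820)) (.node (.leaf 86484) (.leaf 0))) (.node (.node (.leaf 50621) (.leaf 0)) (.node (.leaf 22487) (.leaf 0)))) (.node (.node (.node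 (.leaf 40677) (.leaf 94158)) (.node (.leaf 49829) (.leaf 0))) (.node (.node (.leaf 103861) (.leaf 0)) (.node (.leaf 48459) (.leaf 0)))))) (.node (.node (.node (.node (.node (.leaf 114485) (.leaf 83737)) (.node (.leaf 64300) (.leaf 0))) (.node (.node (.leaf 99198) (.leaf 0)) (.node (.leaf 11759) (.leaf 0)))) (.node (.node (.node (.leaf 40676) (.leaf 4195)) (.node (.leaf 110908) (.leaf 0))) (.node (.node (.leaf 62611) (.leaf 0)) (.node (.leaf 39420) (.leaf 0))))) (.node (.node (.node (.node (.leaf 18397) (.leaf 73148)) (.node (.leaf 65518) (.leaf 0))) (.node (.node (.leaf 62415) (.leaf 0)) (.node (.leaf 40441) (.leaf 0)))) (.node (.node (.node (.leaf 55633) (.leaf 54270)) (.node (.leaf 10064) (.leaf 0))) (.node (.node (.leaf 107806) (.leaf 0)) (.node (.leaf 18767) (.leaf 0)))))))) (.node (.node (.node (.node (.node (.node (.node (.leaf 4576) (.leaf 122814)) (.node (.leaf 45794) (.leaf 0))) (.node (.node (.leaf 96686) (.leaf 0)) (.node (.leaf 22937) (.leaf 0)))) (.node (.node (.node (.leaf 113629) (.leaf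 76033)) (.node (.leaf 11446) (.leaf 0))) (.node (.node (.leaf 58808) (.leaf 0)) (.node (.leaf 84367) (.leaf 0))))) (.node (.node (.node (.node (.leaf 38677) (.leaf 130545)) (.node (.leaf 94629) (.leaf 0))) (.node (.node (.leaf 17111) (.leaf 0)) (.node (.leaf 43648) (.leaf 0)))) (.node (.node (.node (.leaf 50875) (.leaf 106434)) (.node (.leaf 29014) (.leaf 0))) (.node (.node (.leaf 54680) (.leaf 0)) (.node (.leaf 104319) (.leaf 0)))))) (.node (.node (.node (.node (.node (.leaf 21436) (.leaf 114540)) (.node (.leaf 85443) (.leaf 0))) (.node (.node (.leaf 120171) (.leaf 0)) (.node (.leaf 14172) (.leaf 0)))) (.node (.node (.node (.leaf 24919) (.leaf 102783)) (.node (.leaf 24463) (.leaf 0))) (.node (.node (.leaf 84802) (.leaf 0)) (.node (.leaf 5793) (.leaf 0))))) (.node (.node (.node (.node (.leaf 55491) (.leaf 94580)) (.node (.leaf 57592) (.leaf 0))) (.node (.node (.leaf 7063) (.leaf 0)) (.node (.leaf 67934) (.leaf 0)))) (.node (.node (.node (.leaf 121755) (.leaf 56740)) (.node (.leaf 94078) (.leaf 0))) (.node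 (.node (.leaf 32416) (.leaf 0)) (.node (.leaf 53592) (.leaf 0))))))) (.node (.node (.node (.node (.node (.node (.leaf 13514) (.leaf 44385)) (.node (.leaf 108992) (.leaf 0))) (.node (.node (.leaf 24189) (.leaf 0)) (.node (.leaf 43406) (.leaf 0)))) (.node (.node (.node (.leaf 79215) (.leaf 80128)) (.node (.leaf 30113) (.leaf 0))) (.node (.node (.leaf 31069) (.leaf 0)) (.node (.leaf 103187) (.leaf 0))))) (.node (.node (.node (.node (.leaf 131009) (.leaf 46994)) (.node (.leaf 69497) (.leaf 0))) (.node (.node (.leaf 126792) (.leaf 0)) (.node (.leaf 20973) (.leaf 0)))) (.node (.node (.node (.leaf 121) (.leaf 6279)) (.node (.leaf 6875) (.leaf 0))) (.node (.node (.leaf 115001) (.leaf 0)) (.node (.leaf 129915) (.leaf 0)))))) (.node (.node (.node (.node (.node (.leaf 23707) (.leaf 14908)) (.node (.leaf 38142) (.leaf 0))) (.node (.node (.leaf 34265) (.leaf 0)) (.node (.leaf 99245) (.leaf 0)))) (.node (.node (.node (.leaf 16570) (.leaf 122812)) (.node (.leaf 18940) (.leaf 0))) (.node (.node (.leaf 78117) (.leaf 0))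 (.node (.leaf 27311) (.leaf 0))))) (.node (.node (.node (.node (.leaf 26957) (.leaf 106249)) (.node (.leaf 62828) (.leaf 0))) (.node (.node (.leaf 34180) (.leaf 0)) (.node (.leaf 111426) (.leaf 0)))) (.node (.node (.node (.leaf 102663) (.leaf 73096)) (.node (.leaf 37067) (.leaf 0))) (.node (.node (.leaf 96727) (.leaf 0)) (.node (.leaf 76733) (.leaf 0))))))))

def kT42 : NT := .node (.node (.node (.node (.node (.node (.node (.node (.leaf 845) (.leaf 21680)) (.node (.leaf 32738) (.leaf 0))) (.node (.node (.leaf 47864) (.leaf 0)) (.node (.leaf 34204) (.leaf 0)))) (.node (.node (.node (.leaf 25927) (.leaf 111534)) (.node (.leaf 24776) (.leaf 0))) (.node (.node (.leaf 75070) (.leaf 0)) (.node (.leaf 8885) (.leaf 0))))) (.node (.node (.node (.node (.leaf 129838) (.leaf 26867)) (.node (.leaf 34046) (.leaf 0))) (.node (.node (.leaf 26072) (.leaf 0)) (.node (.leaf 2727) (.leaf 0)))) (.node (.node (.node (.leaf 115570) (.leaf 26403)) (.node (.leaf 105793) (.leaf 0))) (.node (.node (.leaf 77620) (.leaf 0)) (.node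 (.leaf 94025) (.leaf 0)))))) (.node (.node (.node (.node (.node (.leaf 121261) (.leaf 50532)) (.node (.leaf 130848) (.leaf 0))) (.node (.node (.leaf 1815) (.leaf 0)) (.node (.leaf 83738) (.leaf 0)))) (.node (.node (.node (.leaf 61833) (.leaf 62806)) (.node (.leaf 10358) (.leaf 0))) (.node (.node (.leaf 13696) (.leaf 0)) (.node (.leaf 24019) (.leaf 0))))) (.node (.node (.node (.node (.leaf 43946) (.leaf 10865)) (.node (.leaf 70647) (.leaf 0))) (.node (.node (.leaf 32401) (.leaf 0)) (.node (.leaf 32237) (.leaf 0)))) (.node (.node (.node (.leaf 690) (.leaf 5543)) (.node (.leaf 47391) (.leaf 0))) (.node (.node (.leaf 26399) (.leaf 0)) (.node (.leaf 2501) (.leaf 0))))))) (.node (.node (.node (.node (.node (.node (.leaf 46539) (.leaf 97041)) (.node (.leaf 51461) (.leaf 0))) (.node (.node (.leaf 14173) (.leaf 0)) (.node (.leaf 13051) (.leaf 0)))) (.node (.node (.node (.leaf 15309) (.leaf 107839)) (.node (.leaf 51329) (.leaf 0))) (.node (.node (.leaf 129407) (.leaf 0)) (.node (.leaf 38129) (.leaf 0))))) (.node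 (.node (.node (.node (.leaf 19939) (.leaf 62146)) (.node (.leaf 58608) (.leaf 0))) (.node (.node (.leaf 35824) (.leaf 0)) (.node (.leaf 99697) (.leaf 0)))) (.node (.node (.node (.leaf 93556) (.leaf 123164)) (.node (.leaf 8973) (.leaf 0))) (.node (.node (.leaf 81914) (.leaf 0)) (.node (.leaf 18845) (.leaf 0)))))) (.node (.node (.node (.node (.node (.leaf 93183) (.leaf 106845)) (.node (.leaf 21066) (.leaf 0))) (.node (.node (.leaf 29627) (.leaf 0)) (.node (.leaf 120683) (.leaf 0)))) (.node (.node (.node (.leaf 55442) (.leaf 9253)) (.node (.leaf 127303) (.leaf 0))) (.node (.node (.leaf 8883) (.leaf 0)) (.node (.leaf 33043) (.leaf 0))))) (.node (.node (.node (.node (.leaf 117001) (.leaf 61866)) (.node (.leaf 52489) (.leaf 0))) (.node (.node (.leaf 81364) (.leaf 0)) (.node (.leaf 20983) (.leaf 0)))) (.node (.node (.node (.leaf 99278) (.leaf 10559)) (.node (.leaf 112612) (.leaf 0))) (.node (.node (.leaf 84778) (.leaf 0)) (.node (.leaf 46924) (.leaf 0)))))))) (.node (.node (.node (.node (.node (.node (.node (.leaf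 123711) (.leaf 45492)) (.node (.leaf 45956) (.leaf 0))) (.node (.node (.leaf 116024) (.leaf 0)) (.node (.leaf 45790) (.leaf 0)))) (.node (.node (.node (.leaf 440) (.leaf 30529)) (.node (.leaf 64915) (.leaf 0))) (.node (.node (.leaf 104836) (.leaf 0)) (.node (.leaf 45776) (.leaf 0))))) (.node (.node (.node (.node (.leaf 59193) (.leaf 38713)) (.node (.leaf 10522) (.leaf 0))) (.node (.node (.leaf 50546) (.leaf 0)) (.node (.leaf 59742) (.leaf 0)))) (.node (.node (.node (.leaf 97168) (.leaf 25907)) (.node (.leaf 27996) (.leaf 0))) (.node (.node (.leaf 40784) (.leaf 0)) (.node (.leaf 28485) (.leaf 0)))))) (.node (.node (.node (.node (.node (.leaf 36504) (.leaf 120604)) (.node (.leaf 89389) (.leaf 0))) (.node (.node (.leaf 29342) (.leaf 0)) (.node (.leaf 22324) (.leaf 0)))) (.node (.node (.node (.leaf 111388) (.leaf 23722)) (.node (.leaf 94619) (.leaf 0))) (.node (.node (.leaf 95720) (.leaf 0)) (.node (.leaf 14897) (.leaf 0))))) (.node (.node (.node (.node (.leaf 48020) (.leaf 45265)) (.node (.leaf 7548) (.leaf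 0))) (.node (.node (.leaf 34234) (.leaf 0)) (.node (.leaf 29523) (.leaf 0)))) (.node (.node (.node (.leaf 32350) (.leaf 50319)) (.node (.leaf 5292) (.leaf 0))) (.node (.node (.leaf 56157) (.leaf 0)) (.node (.leaf 4009) (.leaf 0))))))) (.node (.node (.node (.node (.node (.node (.leaf 124702) (.leaf 85419)) (.node (.leaf 24772) (.leaf 0))) (.node (.node (.leaf 70560) (.leaf 0)) (.node (.leaf 74595) (.leaf 0)))) (.node (.node (.node (.leaf 57522) (.leaf 22606)) (.node (.leaf 22439) (.leaf 0))) (.node (.node (.leaf 57678) (.leaf 0)) (.node (.leaf 120105) (.leaf 0))))) (.node (.node (.node (.node (.leaf 114611) (.leaf 27873)) (.node (.leaf 15000) (.leaf 0))) (.node (.node (.leaf 23511) (.leaf 0)) (.node (.leaf 48043) (.leaf 0)))) (.node (.node (.node (.leaf 32556) (.leaf 66322)) (.node (.leaf 113922) (.leaf 0))) (.node (.node (.leaf 32955) (.leaf 0)) (.node (.leaf 42244) (.leaf 0)))))) (.node (.node (.node (.node (.node (.leaf 22448) (.leaf 93648)) (.node (.leaf 2755) (.leaf 0))) (.node (.node (.leaf 20589)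 (.leaf 0)) (.node (.leaf 98734) (.leaf 0)))) (.node (.node (.node (.leaf 85959) (.leaf 103928)) (.node (.leaf 12328) (.leaf 0))) (.node (.node (.leaf 4198) (.leaf 0)) (.node (.leaf 13112) (.leaf 0))))) (.node (.node (.node (.node (.leaf 25220) (.leaf 40433)) (.node (.leaf 31363) (.leaf 0))) (.node (.node (.leaf 118692) (.leaf 0)) (.node (.leaf 99141) (.leaf 0)))) (.node (.node (.node (.leaf 28445) (.leaf 124335)) (.node (.leaf 62893) (.leaf 0))) (.node (.node (.leaf 108871) (.leaf 0)) (.node (.leaf 83412) (.leaf 0))))))))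

def kT43 : NT := .node (.node (.node (.node (.node (.node (.node (.node (.leaf 86482) (.leaf 74003)) (.node (.leaf 92084) (.leaf 0))) (.node (.node (.leaf 58060) (.leaf 0)) (.node (.leaf 5812) (.leaf 0)))) (.node (.node (.node (.leaf 5099) (.leaf 13371)) (.node (.leaf 123752) (.leaf 0))) (.node (.node (.leaf 80828) (.leaf 0)) (.node (.leaf 40833) (.leaf 0))))) (.node (.node (.node (.node (.leaf 100163) (.leaf 123662)) (.node (.leaf 61218) (.leaf 0))) (.node (.node (.leaf 124845) (.leaf 0)) (.node (.leaf 8901) (.leaf 0)))) (.node (.node (.node (.leaf 53188) (.leaf 112445)) (.node (.leaf 26806) (.leaf 0))) (.node (.node (.leaf 8034) (.leaf 0)) (.node (.leaf 35713) (.leaf 0)))))) (.node (.node (.node (.node (.node (.leaf 67362) (.leaf 35730)) (.node (.leaf 104289) (.leaf 0))) (.node (.node (.leaf 70918) (.leaf 0)) (.node (.leaf 95709) (.leaf 0)))) (.node (.node (.node (.leaf 40151) (.leaf 26588)) (.node (.leaf 32329) (.leaf 0))) (.node (.node (.leaf 60137) (.leaf 0)) (.node (.leaf 73129) (.leaf 0))))) (.node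 (.node (.node (.node (.leaf 45201) (.leaf 57296)) (.node (.leaf 27584) (.leaf 0))) (.node (.node (.leaf 31168) (.leaf 0)) (.node (.leaf 126214) (.leaf 0)))) (.node (.node (.node (.leaf 53110) (.leaf 49587)) (.node (.leaf 10645) (.leaf 0))) (.node (.node (.leaf 80705) (.leaf 0)) (.node (.leaf 6230) (.leaf 0))))))) (.node (.node (.node (.node (.node (.node (.leaf 30349) (.leaf 60178)) (.node (.leaf 88382) (.leaf 0))) (.node (.node (.leaf 77576) (.leaf 0)) (.node (.leaf 29586) (.leaf 0)))) (.node (.node (.node (.leaf 12938) (.leaf 78098)) (.node (.leaf 41633) (.leaf 0))) (.node (.node (.leaf 69967) (.leaf 0)) (.node (.leaf 118586) (.leaf 0))))) (.node (.node (.node (.node (.leaf 8585) (.leaf 80663)) (.node (.leaf 32763) (.leaf 0))) (.node (.node (.leaf 15446) (.leaf 0)) (.node (.leaf 119697) (.leaf 0)))) (.node (.node (.node (.leaf 25849) (.leaf 9421)) (.node (.leaf 63706) (.leaf 0))) (.node (.node (.leaf 119281) (.leaf 0)) (.node (.leaf 55708) (.leaf 0)))))) (.node (.node (.node (.node (.node (.leaf 114543)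 (.leaf 63846)) (.node (.leaf 50366) (.leaf 0))) (.node (.node (.leaf 34652) (.leaf 0)) (.node (.leaf 2728) (.leaf 0)))) (.node (.node (.node (.leaf 11583) (.leaf 82247)) (.node (.leaf 77289) (.leaf 0))) (.node (.node (.leaf 126767) (.leaf 0)) (.node (.leaf 35035) (.leaf 0))))) (.node (.node (.node (.node (.leaf 42274) (.leaf 14527)) (.node (.leaf 77778) (.leaf 0))) (.node (.node (.leaf 34439) (.leaf 0)) (.node (.leaf 46272) (.leaf 0)))) (.node (.node (.node (.leaf 121796) (.leaf 30983)) (.node (.leaf 87536) (.leaf 0))) (.node (.node (.leaf 25452) (.leaf 0)) (.node (.leaf 48768) (.leaf 0)))))))) (.node (.node (.node (.node (.node (.node (.node (.leaf 102872) (.leaf 103716)) (.node (.leaf 4444) (.leaf 0))) (.node (.node (.leaf 125920) (.leaf 0)) (.node (.leaf 99654) (.leaf 0)))) (.node (.node (.node (.leaf 12001) (.leaf 50357)) (.node (.leaf 23122) (.leaf 0))) (.node (.node (.leaf 34088) (.leaf 0)) (.node (.leaf 23445) (.leaf 0))))) (.node (.node (.node (.node (.leaf 53001) (.leaf 92543)) (.node (.leaf 122707)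 (.leaf 0))) (.node (.node (.leaf 35747) (.leaf 0)) (.node (.leaf 64341) (.leaf 0)))) (.node (.node (.node (.leaf 14474) (.leaf 98803)) (.node (.leaf 113480) (.leaf 0))) (.node (.node (.leaf 27109) (.leaf 0)) (.node (.leaf 86893) (.leaf 0)))))) (.node (.node (.node (.node (.node (.leaf 10726) (.leaf 57791)) (.node (.leaf 113574) (.leaf 0))) (.node (.node (.leaf 2273) (.leaf 0)) (.node (.leaf 30987) (.leaf 0)))) (.node (.node (.node (.leaf 107958) (.leaf 47536)) (.node (.leaf 102167) (.leaf 0))) (.node (.node (.leaf 130537) (.leaf 0)) (.node (.leaf 99775) (.leaf 0))))) (.node (.node (.node (.node (.leaf 82186) (.leaf 24012)) (.node (.leaf 29161) (.leaf 0))) (.node (.node (.leaf 1676) (.leaf 0)) (.node (.leaf 21571) (.leaf 0)))) (.node (.node (.node (.leaf 92001) (.leaf 4336)) (.node (.leaf 17878) (.leaf 0))) (.node (.node (.leaf 35241) (.leaf 0)) (.node (.leaf 26563) (.leaf 0))))))) (.node (.node (.node (.node (.node (.node (.leaf 54200) (.leaf 68468)) (.node (.leaf 17861) (.leaf 0))) (.node (.node (.leaf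 109493) (.leaf 0)) (.node (.leaf 108374) (.leaf 0)))) (.node (.node (.node (.leaf 109874) (.leaf 95735)) (.node (.leaf 31008) (.leaf 0))) (.node (.node (.leaf 73042) (.leaf 0)) (.node (.leaf 8133) (.leaf 0))))) (.node (.node (.node (.node (.leaf 32055) (.leaf 13398)) (.node (.leaf 91063) (.leaf 0))) (.node (.node (.leaf 115123) (.leaf 0)) (.node (.leaf 6018) (.leaf 0)))) (.node (.node (.node (.leaf 110343) (.leaf 5396)) (.node (.leaf 67939) (.leaf 0))) (.node (.node (.leaf 19016) (.leaf 0)) (.node (.leaf 87336) (.leaf 0)))))) (.node (.node (.node (.node (.node (.leaf 62438) (.leaf 72466)) (.node (.leaf 124189) (.leaf 0))) (.node (.node (.leaf 3520) (.leaf 0)) (.node (.leaf 91431) (.leaf 0)))) (.node (.node (.node (.leaf 7197) (.leaf 33066)) (.node (.leaf 54949) (.leaf 0))) (.node (.node (.leaf 5535) (.leaf 0)) (.node (.leaf 129926) (.leaf 0))))) (.node (.node (.node (.node (.leaf 129371) (.leaf 5776)) (.node (.leaf 26484) (.leaf 0))) (.node (.node (.leaf 43820) (.leaf 0)) (.node (.leaf 71601) (.leaf 0))))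 (.node (.node (.node (.leaf 39693) (.leaf 113473)) (.node (.leaf 56638) (.leaf 0))) (.node (.node (.leaf 17092) (.leaf 0)) (.node (.leaf 19717) (.leaf 0))))))))

def kT44 : NT := .node (.node (.node (.node (.node (.node (.node (.node (.leaf 31702) (.leaf 48016)) (.node (.leaf 49078) (.leaf 0))) (.node (.node (.leaf 110884) (.leaf 0)) (.node (.leaf 65979) (.leaf 0)))) (.node (.node (.node (.leaf 127856) (.leaf 67462)) (.node (.leaf 88000) (.leaf 0))) (.node (.node (.leaf 13774) (.leaf 0)) (.node (.leaf 17055) (.leaf 0))))) (.node (.node (.node (.node (.leaf 90565) (.leaf 111490)) (.node (.leaf 89505) (.leaf 0))) (.node (.node (.leaf 11750) (.leaf 0)) (.node (.leaf 117641) (.leaf 0)))) (.node (.node (.node (.leaf 31976) (.leaf 37825)) (.node (.leaf 24775) (.leaf 0))) (.node (.node (.leaf 35492) (.leaf 0)) (.node (.leaf 26381) (.leaf 0)))))) (.node (.node (.node (.node (.node (.leaf 30200) (.leaf 28300)) (.node (.leaf 11561) (.leaf 0))) (.node (.node (.leaf 14325) (.leaf 0)) (.node (.leaf 60088) (.leaf 0))))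 (.node (.node (.node (.leaf 92671) (.leaf 11317)) (.node (.leaf 95036) (.leaf 0))) (.node (.node (.leaf 26383) (.leaf 0)) (.node (.leaf 72034) (.leaf 0))))) (.node (.node (.node (.node (.leaf 16834) (.leaf 57707)) (.node (.leaf 71554) (.leaf 0))) (.node (.node (.leaf 31869) (.leaf 0)) (.node (.leaf 69047) (.leaf 0)))) (.node (.node (.node (.leaf 128498) (.leaf 78754)) (.node (.leaf 106482) (.leaf 0))) (.node (.node (.leaf 25699) (.leaf 0)) (.node (.leaf 77184) (.leaf 0))))))) (.node (.node (.node (.node (.node (.node (.leaf 53015) (.leaf 37621)) (.node (.leaf 17630) (.leaf 0))) (.node (.node (.leaf 89047) (.leaf 0)) (.node (.leaf 61718) (.leaf 0)))) (.node (.node (.node (.leaf 17116) (.leaf 129814)) (.node (.leaf 110976) (.leaf 0))) (.node (.node (.leaf 13190) (.leaf 0)) (.node (.leaf 44001) (.leaf 0))))) (.node (.node (.node (.node (.leaf 55786) (.leaf 129974)) (.node (.leaf 96529) (.leaf 0))) (.node (.node (.leaf 32322) (.leaf 0)) (.node (.leaf 23010) (.leaf 0)))) (.node (.node (.node (.leaf 24939) (.leaf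 57308)) (.node (.leaf 72166) (.leaf 0))) (.node (.node (.leaf 43917) (.leaf 0)) (.node (.leaf 12386) (.leaf 0)))))) (.node (.node (.node (.node (.node (.leaf 9567) (.leaf 5404)) (.node (.leaf 7819) (.leaf 0))) (.node (.node (.leaf 29005) (.leaf 0)) (.node (.leaf 63120) (.leaf 0)))) (.node (.node (.node (.leaf 70430) (.leaf 49544)) (.node (.leaf 14802) (.leaf 0))) (.node (.node (.leaf 115476) (.leaf 0)) (.node (.leaf 96085) (.leaf 0))))) (.node (.node (.node (.node (.leaf 83351) (.leaf 55432)) (.node (.leaf 94676) (.leaf 0))) (.node (.node (.leaf 90467) (.leaf 0)) (.node (.leaf 34117) (.leaf 0)))) (.node (.node (.node (.leaf 77244) (.leaf 4460)) (.node (.leaf 72571) (.leaf 0))) (.node (.node (.leaf 70913) (.leaf 0)) (.node (.leaf 478) (.leaf 0)))))))) (.node (.node (.node (.node (.node (.node (.node (.leaf 123865) (.leaf 7379)) (.node (.leaf 26095) (.leaf 0))) (.node (.node (.leaf 32033) (.leaf 0)) (.node (.leaf 12612) (.leaf 0)))) (.node (.node (.node (.leaf 123864) (.leaf 46842)) (.node (.leaf 51545)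 (.leaf 0))) (.node (.node (.leaf 13102) (.leaf 0)) (.node (.leaf 115132) (.leaf 0))))) (.node (.node (.node (.node (.leaf 108873) (.leaf 101341)) (.node (.leaf 109344) (.leaf 0))) (.node (.node (.leaf 19568) (.leaf 0)) (.node (.leaf 39246) (.leaf 0)))) (.node (.node (.node (.leaf 63741) (.leaf 82379)) (.node (.leaf 4528) (.leaf 0))) (.node (.node (.leaf 9320) (.leaf 0)) (.node (.leaf 96002) (.leaf 0)))))) (.node (.node (.node (.node (.node (.leaf 31077) (.leaf 86350)) (.node (.leaf 54526) (.leaf 0))) (.node (.node (.leaf 45526) (.leaf 0)) (.node (.leaf 52093) (.leaf 0)))) (.node (.node (.node (.leaf 104408) (.leaf 41853)) (.node (.leaf 112585) (.leaf 0))) (.node (.node (.leaf 111911) (.leaf 0)) (.node (.leaf 92087) (.leaf 0))))) (.node (.node (.node (.node (.leaf 33533) (.leaf 7145)) (.node (.leaf 44765) (.leaf 0))) (.node (.node (.leaf 52911) (.leaf 0)) (.node (.leaf 86412) (.leaf 0)))) (.node (.node (.node (.leaf 55090) (.leaf 10308)) (.node (.leaf 87032) (.leaf 0))) (.node (.node (.leaf 10642) (.leaf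 0)) (.node (.leaf 36700) (.leaf 0))))))) (.node (.node (.node (.node (.node (.node (.leaf 217) (.leaf 2806)) (.node (.leaf 6674) (.leaf 0))) (.node (.node (.leaf 37298) (.leaf 0)) (.node (.leaf 119072) (.leaf 0)))) (.node (.node (.node (.leaf 67563) (.leaf 114467)) (.node (.leaf 6202) (.leaf 0))) (.node (.node (.leaf 75733) (.leaf 0)) (.node (.leaf 43251) (.leaf 0))))) (.node (.node (.node (.node (.leaf 127752) (.leaf 80890)) (.node (.leaf 112384) (.leaf 0))) (.node (.node (.leaf 99585) (.leaf 0)) (.node (.leaf 7425) (.leaf 0)))) (.node (.node (.node (.leaf 86519) (.leaf 93585)) (.node (.leaf 80276) (.leaf 0))) (.node (.node (.leaf 87363) (.leaf 0)) (.node (.leaf 32734) (.leaf 0)))))) (.node (.node (.node (.node (.node (.leaf 78115) (.leaf 110862)) (.node (.leaf 42771) (.leaf 0))) (.node (.node (.leaf 125231) (.leaf 0)) (.node (.leaf 121279) (.leaf 0)))) (.node (.node (.node (.leaf 91494) (.leaf 15790)) (.node (.leaf 107443) (.leaf 0))) (.node (.node (.leaf 40354) (.leaf 0)) (.node (.leaf 108542) (.leaf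 0))))) (.node (.node (.node (.node (.leaf 8910) (.leaf 56189)) (.node (.leaf 5002) (.leaf 0))) (.node (.node (.leaf 17753) (.leaf 0)) (.node (.leaf 54699) (.leaf 0)))) (.node (.node (.node (.leaf 106922) (.leaf 146)) (.node (.leaf 26855) (.leaf 0))) (.node (.node (.leaf 47307) (.leaf 0)) (.node (.leaf 122363) (.leaf 0))))))))

def kT45 : NT := .node (.node (.node (.node (.node (.node (.node (.node (.leaf 56301) (.leaf 118098)) (.node (.leaf 104324) (.leaf 0))) (.node (.node (.leaf 45487) (.leaf 0)) (.node (.leaf 123797) (.leaf 0)))) (.node (.node (.node (.leaf 2882) (.leaf 62702)) (.node (.leaf 129947) (.leaf 0))) (.node (.node (.leaf 113090) (.leaf 0)) (.node (.leaf 47591) (.leaf 0))))) (.node (.node (.node (.node (.leaf 2128) (.leaf 13807)) (.node (.leaf 13999) (.leaf 0))) (.node (.node (.leaf 35746) (.leaf 0)) (.node (.leaf 9664) (.leaf 0)))) (.node (.node (.node (.leaf 6760) (.leaf 31165)) (.node (.leaf 57665) (.leaf 0))) (.node (.node (.leaf 40175) (.leaf 0)) (.node (.leaf 59763) (.leaf 0)))))) (.node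 (.node (.node (.node (.node (.leaf 127911) (.leaf 46971)) (.node (.leaf 100285) (.leaf 0))) (.node (.node (.leaf 107508) (.leaf 0)) (.node (.leaf 41982) (.leaf 0)))) (.node (.node (.node (.leaf 103935) (.leaf 95056)) (.node (.leaf 40610) (.leaf 0))) (.node (.node (.leaf 63645) (.leaf 0)) (.node (.leaf 35621) (.leaf 0))))) (.node (.node (.node (.node (.leaf 19169) (.leaf 6434)) (.node (.leaf 36746) (.leaf 0))) (.node (.node (.leaf 64260) (.leaf 0)) (.node (.leaf 73674) (.leaf 0)))) (.node (.node (.node (.leaf 1542) (.leaf 61847)) (.node (.leaf 48981) (.leaf 0))) (.node (.node (.leaf 35995) (.leaf 0)) (.node (.leaf 25291) (.leaf 0))))))) (.node (.node (.node (.node (.node (.node (.leaf 83725) (.leaf 7997)) (.node (.leaf 129803) (.leaf 0))) (.node (.node (.leaf 108877) (.leaf 0)) (.node (.leaf 72972) (.leaf 0)))) (.node (.node (.node (.leaf 102744) (.leaf 111925)) (.node (.leaf 6804) (.leaf 0))) (.node (.node (.leaf 22494) (.leaf 0)) (.node (.leaf 115634) (.leaf 0))))) (.node (.node (.node (.node (.leaf 69502)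 (.leaf 95049)) (.node (.leaf 47296) (.leaf 0))) (.node (.node (.leaf 49948) (.leaf 0)) (.node (.leaf 120169) (.leaf 0)))) (.node (.node (.node (.leaf 76778) (.leaf 102721)) (.node (.leaf 38335) (.leaf 0))) (.node (.node (.leaf 11602) (.leaf 0)) (.node (.leaf 12245) (.leaf 0)))))) (.node (.node (.node (.node (.node (.leaf 116203) (.leaf 56149)) (.node (.leaf 111478) (.leaf 0))) (.node (.node (.leaf 46798) (.leaf 0)) (.node (.leaf 127330) (.leaf 0)))) (.node (.node (.node (.leaf 111084) (.leaf 36573)) (.node (.leaf 27989) (.leaf 0))) (.node (.node (.leaf 83238) (.leaf 0)) (.node (.leaf 85450) (.leaf 0))))) (.node (.node (.node (.node (.leaf 97213) (.leaf 72495)) (.node (.leaf 67026) (.leaf 0))) (.node (.node (.leaf 48039) (.leaf 0)) (.node (.leaf 8911) (.leaf 0)))) (.node (.node (.node (.leaf 5773) (.leaf 48085)) (.node (.leaf 23350) (.leaf 0))) (.node (.node (.leaf 94074) (.leaf 0)) (.node (.leaf 10608) (.leaf 0)))))))) (.node (.node (.node (.node (.node (.node (.node (.leaf 16683) (.leaf 24562)) (.node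 (.leaf 49076) (.leaf 0))) (.node (.node (.leaf 28476) (.leaf 0)) (.node (.leaf 58790) (.leaf 0)))) (.node (.node (.node (.leaf 17758) (.leaf 62673)) (.node (.leaf 76212) (.leaf 0))) (.node (.node (.leaf 106903) (.leaf 0)) (.node (.leaf 72073) (.leaf 0))))) (.node (.node (.node (.node (.leaf 100664) (.leaf 11356)) (.node (.leaf 79291) (.leaf 0))) (.node (.node (.leaf 62353) (.leaf 0)) (.node (.leaf 4898) (.leaf 0)))) (.node (.node (.node (.leaf 27792) (.leaf 96719)) (.node (.leaf 15457) (.leaf 0))) (.node (.node (.leaf 126317) (.leaf 0)) (.node (.leaf 21292) (.leaf 0)))))) (.node (.node (.node (.node (.node (.leaf 50448) (.leaf 102834)) (.node (.leaf 34437) (.leaf 0))) (.node (.node (.leaf 89977) (.leaf 0)) (.node (.leaf 117070) (.leaf 0)))) (.node (.node (.node (.leaf 61922) (.leaf 75016)) (.node (.leaf 21384) (.leaf 0))) (.node (.node (.leaf 70057) (.leaf 0)) (.node (.leaf 12585) (.leaf 0))))) (.node (.node (.node (.node (.leaf 17810) (.leaf 11863)) (.node (.leaf 88369) (.leaf 0))) (.node (.node (.leaf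 14004) (.leaf 0)) (.node (.leaf 16494) (.leaf 0)))) (.node (.node (.node (.leaf 48418) (.leaf 13000)) (.node (.leaf 110982) (.leaf 0))) (.node (.node (.leaf 66383) (.leaf 0)) (.node (.leaf 38196) (.leaf 0))))))) (.node (.node (.node (.node (.node (.node (.leaf 98) (.leaf 25722)) (.node (.leaf 41703) (.leaf 0))) (.node (.node (.leaf 57192) (.leaf 0)) (.node (.leaf 6324) (.leaf 0)))) (.node (.node (.node (.leaf 121300) (.leaf 68095)) (.node (.leaf 5892) (.leaf 0))) (.node (.node (.leaf 55284) (.leaf 0)) (.node (.leaf 41954) (.leaf 0))))) (.node (.node (.node (.node (.leaf 23662) (.leaf 119792)) (.node (.leaf 64352) (.leaf 0))) (.node (.node (.leaf 111398) (.leaf 0)) (.node (.leaf 121751) (.leaf 0)))) (.node (.node (.node (.leaf 117556) (.leaf 22689)) (.node (.leaf 39046) (.leaf 0))) (.node (.node (.leaf 86930) (.leaf 0)) (.node (.leaf 5870) (.leaf 0)))))) (.node (.node (.node (.node (.node (.leaf 76594) (.leaf 67910)) (.node (.leaf 47393) (.leaf 0))) (.node (.node (.leaf 68559) (.leaf 0)) (.node (.leaf 111400)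 (.leaf 0)))) (.node (.node (.node (.leaf 102747) (.leaf 124719)) (.node (.leaf 43767) (.leaf 0))) (.node (.node (.leaf 58097) (.leaf 0)) (.node (.leaf 35570) (.leaf 0))))) (.node (.node (.node (.node (.leaf 130897) (.leaf 97181)) (.node (.leaf 94081) (.leaf 0))) (.node (.node (.leaf 41946) (.leaf 0)) (.node (.leaf 16063) (.leaf 0)))) (.node (.node (.node (.leaf 62226) (.leaf 77816)) (.node (.leaf 24665) (.leaf 0))) (.node (.node (.leaf 58819) (.leaf 0)) (.node (.leaf 74017) (.leaf 0))))))))

def kT46 : NT := .node (.node (.node (.node (.node (.node (.node (.node (.leaf 48374) (.leaf 65827)) (.node (.leaf 119775) (.leaf 0))) (.node (.node (.leaf 12281) (.leaf 0)) (.node (.leaf 66372) (.leaf 0)))) (.node (.node (.node (.leaf 35503) (.leaf 74529)) (.node (.leaf 50079) (.leaf 0))) (.node (.node (.leaf 64136) (.leaf 0)) (.node (.leaf 14481) (.leaf 0))))) (.node (.node (.node (.node (.leaf 32144) (.leaf 127292)) (.node (.leaf 45215) (.leaf 0))) (.node (.node (.leaf 73715) (.leaf 0)) (.node (.leaf 1380) (.leaf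 0)))) (.node (.node (.node (.leaf 34024) (.leaf 89461)) (.node (.leaf 73073) (.leaf 0))) (.node (.node (.leaf 51032) (.leaf 0)) (.node (.leaf 78744) (.leaf 0)))))) (.node (.node (.node (.node (.node (.leaf 105317) (.leaf 36063)) (.node (.leaf 117194) (.leaf 0))) (.node (.node (.leaf 49065) (.leaf 0)) (.node (.leaf 59705) (.leaf 0)))) (.node (.node (.node (.leaf 85778) (.leaf 95622)) (.node (.leaf 1370) (.leaf 0))) (.node (.node (.leaf 3732) (.leaf 0)) (.node (.leaf 12199) (.leaf 0))))) (.node (.node (.node (.node (.leaf 19057) (.leaf 34485)) (.node (.leaf 114685) (.leaf 0))) (.node (.node (.leaf 33648) (.leaf 0)) (.node (.leaf 8778) (.leaf 0)))) (.node (.node (.node (.leaf 82225) (.leaf 97570)) (.node (.leaf 118625) (.leaf 0))) (.node (.node (.leaf 78666) (.leaf 0)) (.node (.leaf 97661) (.leaf 0))))))) (.node (.node (.node (.node (.node (.node (.leaf 26314) (.leaf 79239)) (.node (.leaf 73726) (.leaf 0))) (.node (.node (.leaf 55492) (.leaf 0)) (.node (.leaf 90919) (.leaf 0)))) (.node (.node (.node (.leaf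 7287) (.leaf 18238)) (.node (.leaf 35726) (.leaf 0))) (.node (.node (.leaf 106430) (.leaf 0)) (.node (.leaf 36609) (.leaf 0))))) (.node (.node (.node (.node (.leaf 14905) (.leaf 49534)) (.node (.leaf 115590) (.leaf 0))) (.node (.node (.leaf 2333) (.leaf 0)) (.node (.leaf 95102) (.leaf 0)))) (.node (.node (.node (.leaf 44477) (.leaf 57159)) (.node (.leaf 54751) (.leaf 0))) (.node (.node (.leaf 67847) (.leaf 0)) (.node (.leaf 76188) (.leaf 0)))))) (.node (.node (.node (.node (.node (.leaf 8185) (.leaf 35577)) (.node (.leaf 13934) (.leaf 0))) (.node (.node (.leaf 27006) (.leaf 0)) (.node (.leaf 27445) (.leaf 0)))) (.node (.node (.node (.leaf 60766) (.leaf 25400)) (.node (.leaf 74190) (.leaf 0))) (.node (.node (.leaf 60163) (.leaf 0)) (.node (.leaf 26820) (.leaf 0))))) (.node (.node (.node (.node (.leaf 14635) (.leaf 57238)) (.node (.leaf 126796) (.leaf 0))) (.node (.node (.leaf 46869) (.leaf 0)) (.node (.leaf 43732) (.leaf 0)))) (.node (.node (.node (.leaf 15822) (.leaf 1441)) (.node (.leaf 10652) (.leaf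 0))) (.node (.node (.leaf 89477) (.leaf 0)) (.node (.leaf 31996) (.leaf 0)))))))) (.node (.node (.node (.node (.node (.node (.node (.leaf 38257) (.leaf 40952)) (.node (.leaf 116223) (.leaf 0))) (.node (.node (.leaf 81309) (.leaf 0)) (.node (.leaf 64738) (.leaf 0)))) (.node (.node (.node (.leaf 782) (.leaf 114155)) (.node (.leaf 35980) (.leaf 0))) (.node (.node (.leaf 73056) (.leaf 0)) (.node (.leaf 28331) (.leaf 0))))) (.node (.node (.node (.node (.leaf 5315) (.leaf 51340)) (.node (.leaf 20342) (.leaf 0))) (.node (.node (.leaf 10405) (.leaf 0)) (.node (.leaf 74597) (.leaf 0)))) (.node (.node (.node (.leaf 52163) (.leaf 74556)) (.node (.leaf 30526) (.leaf 0))) (.node (.node (.leaf 111006) (.leaf 0)) (.node (.leaf 118070) (.leaf 0)))))) (.node (.node (.node (.node (.node (.leaf 1964) (.leaf 130395)) (.node (.leaf 102775) (.leaf 0))) (.node (.node (.leaf 11998) (.leaf 0)) (.node (.leaf 29877) (.leaf 0)))) (.node (.node (.node (.leaf 91931) (.leaf 3706)) (.node (.leaf 27924) (.leaf 0))) (.node (.node (.leaf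 123270) (.leaf 0)) (.node (.leaf 110048) (.leaf 0))))) (.node (.node (.node (.node (.leaf 4511) (.leaf 25297)) (.node (.leaf 21839) (.leaf 0))) (.node (.node (.leaf 63758) (.leaf 0)) (.node (.leaf 127753) (.leaf 0)))) (.node (.node (.node (.leaf 26751) (.leaf 28870)) (.node (.leaf 115687) (.leaf 0))) (.node (.node (.leaf 86883) (.leaf 0)) (.node (.leaf 25335) (.leaf 0))))))) (.node (.node (.node (.node (.node (.node (.leaf 126906) (.leaf 75635)) (.node (.leaf 121090) (.leaf 0))) (.node (.node (.leaf 89986) (.leaf 0)) (.node (.leaf 27215) (.leaf 0)))) (.node (.node (.node (.leaf 67052) (.leaf 45307)) (.node (.leaf 70072) (.leaf 0))) (.node (.node (.leaf 56727) (.leaf 0)) (.node (.leaf 52882) (.leaf 0))))) (.node (.node (.node (.node (.leaf 48068) (.leaf 84247)) (.node (.leaf 1290) (.leaf 0))) (.node (.node (.leaf 56795) (.leaf 0)) (.node (.leaf 126276) (.leaf 0)))) (.node (.node (.node (.leaf 30824) (.leaf 91615)) (.node (.leaf 101883) (.leaf 0))) (.node (.node (.leaf 93169) (.leaf 0)) (.node (.leaf 14264)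 (.leaf 0)))))) (.node (.node (.node (.node (.node (.leaf 6952) (.leaf 121093)) (.node (.leaf 118262) (.leaf 0))) (.node (.node (.leaf 93630) (.leaf 0)) (.node (.leaf 33726) (.leaf 0)))) (.node (.node (.node (.leaf 106481) (.leaf 1648)) (.node (.leaf 31183) (.leaf 0))) (.node (.node (.leaf 53494) (.leaf 0)) (.node (.leaf 28671) (.leaf 0))))) (.node (.node (.node (.node (.leaf 96138) (.leaf 55067)) (.node (.leaf 53990) (.leaf 0))) (.node (.node (.leaf 108825) (.leaf 0)) (.node (.leaf 126219) (.leaf 0)))) (.node (.node (.node (.leaf 114093) (.leaf 3419)) (.node (.leaf 88994) (.leaf 0))) (.node (.node (.leaf 124214) (.leaf 0)) (.node (.leaf 127258) (.leaf 0))))))))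

def kT47 : NT := .node (.node (.node (.node (.node (.node (.node (.node (.leaf 370) (.leaf 120097)) (.node (.leaf 37635) (.leaf 0))) (.node (.node (.leaf 12834) (.leaf 0)) (.node (.leaf 123253) (.leaf 0)))) (.node (.node (.node (.leaf 45718) (.leaf 12877)) (.node (.leaf 23009) (.leaf 0))) (.node (.node (.leaf 40397) (.leaf 0)) (.node (.leaf 84288) (.leaf 0))))) (.node (.node (.node (.node (.leaf 55763) (.leaf 33158)) (.node (.leaf 16354) (.leaf 0))) (.node (.node (.leaf 25302) (.leaf 0)) (.node (.leaf 81340) (.leaf 0)))) (.node (.node (.node (.leaf 112449) (.leaf 85274)) (.node (.leaf 108981) (.leaf 0))) (.node (.node (.leaf 113459) (.leaf 0)) (.node (.leaf 19734) (.leaf 0)))))) (.node (.node (.node (.node (.node (.leaf 48356) (.leaf 35781)) (.node (.leaf 71051) (.leaf 0))) (.node (.node (.leaf 103247) (.leaf 0)) (.node (.leaf 125851) (.leaf 0)))) (.node (.node (.node (.leaf 15277) (.leaf 107809)) (.node (.leaf 38825) (.leaf 0))) (.node (.node (.leaf 12977) (.leaf 0)) (.node (.leaf 47252) (.leaf 0)))))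 (.node (.node (.node (.node (.leaf 61600) (.leaf 10401)) (.node (.leaf 36863) (.leaf 0))) (.node (.node (.leaf 66525) (.leaf 0)) (.node (.leaf 34515) (.leaf 0)))) (.node (.node (.node (.leaf 58309) (.leaf 30896)) (.node (.leaf 43826) (.leaf 0))) (.node (.node (.leaf 53144) (.leaf 0)) (.node (.leaf 69454) (.leaf 0))))))) (.node (.node (.node (.node (.node (.node (.leaf 52356) (.leaf 130559)) (.node (.leaf 116026) (.leaf 0))) (.node (.node (.leaf 68867) (.leaf 0)) (.node (.leaf 69110) (.leaf 0)))) (.node (.node (.node (.leaf 76187) (.leaf 78254)) (.node (.leaf 61736) (.leaf 0))) (.node (.node (.leaf 84305) (.leaf 0)) (.node (.leaf 104866) (.leaf 0))))) (.node (.node (.node (.node (.leaf 8307) (.leaf 11828)) (.node (.leaf 32551) (.leaf 0))) (.node (.node (.leaf 113114) (.leaf 0)) (.node (.leaf 45467) (.leaf 0)))) (.node (.node (.node (.leaf 96674) (.leaf 26457)) (.node (.leaf 119071) (.leaf 0))) (.node (.node (.leaf 48298) (.leaf 0)) (.node (.leaf 39114) (.leaf 0)))))) (.node (.node (.node (.node (.node (.leaf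 20681) (.leaf 14508)) (.node (.leaf 31742) (.leaf 0))) (.node (.node (.leaf 2682) (.leaf 0)) (.node (.leaf 104352) (.leaf 0)))) (.node (.node (.node (.leaf 65975) (.leaf 58842)) (.node (.leaf 22525) (.leaf 0))) (.node (.node (.leaf 32514) (.leaf 0)) (.node (.leaf 60776) (.leaf 0))))) (.node (.node (.node (.node (.leaf 57655) (.leaf 21646)) (.node (.leaf 56243) (.leaf 0))) (.node (.node (.leaf 67940) (.leaf 0)) (.node (.leaf 73088) (.leaf 0)))) (.node (.node (.node (.leaf 115172) (.leaf 53435)) (.node (.leaf 40250) (.leaf 0))) (.node (.node (.leaf 14717) (.leaf 0)) (.node (.leaf 47360) (.leaf 0)))))))) (.node (.node (.node (.node (.node (.node (.node (.leaf 58713) (.leaf 32552)) (.node (.leaf 31358) (.leaf 0))) (.node (.node (.leaf 17547) (.leaf 0)) (.node (.leaf 84291) (.leaf 0)))) (.node (.node (.node (.leaf 121722) (.leaf 129504)) (.node (.leaf 86010) (.leaf 0))) (.node (.node (.leaf 35109) (.leaf 0)) (.node (.leaf 56211) (.leaf 0))))) (.node (.node (.node (.node (.leaf 127289) (.leaf 39151)) (.node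 (.leaf 130996) (.leaf 0))) (.node (.node (.leaf 9073) (.leaf 0)) (.node (.leaf 53125) (.leaf 0)))) (.node (.node (.node (.leaf 91913) (.leaf 91447)) (.node (.leaf 37628) (.leaf 0))) (.node (.node (.leaf 9827) (.leaf 0)) (.node (.leaf 100159) (.leaf 0)))))) (.node (.node (.node (.node (.node (.leaf 14823) (.leaf 44894)) (.node (.leaf 130373) (.leaf 0))) (.node (.node (.leaf 56698) (.leaf 0)) (.node (.leaf 93647) (.leaf 0)))) (.node (.node (.node (.leaf 118561) (.leaf 22177)) (.node (.leaf 573) (.leaf 0))) (.node (.node (.leaf 14920) (.leaf 0)) (.node (.leaf 56014) (.leaf 0))))) (.node (.node (.node (.node (.leaf 110568) (.leaf 69511)) (.node (.leaf 33519) (.leaf 0))) (.node (.node (.leaf 64977) (.leaf 0)) (.node (.leaf 77071) (.leaf 0)))) (.node (.node (.node (.leaf 51175) (.leaf 95230)) (.node (.leaf 10199) (.leaf 0))) (.node (.node (.leaf 19896) (.leaf 0)) (.node (.leaf 93080) (.leaf 0))))))) (.node (.node (.node (.node (.node (.node (.leaf 84469) (.leaf 81799)) (.node (.leaf 7011) (.leaf 0))) (.node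 (.node (.leaf 41661) (.leaf 0)) (.node (.leaf 84963) (.leaf 0)))) (.node (.node (.node (.leaf 11963) (.leaf 51143)) (.node (.leaf 93464) (.leaf 0))) (.node (.node (.leaf 115066) (.leaf 0)) (.node (.leaf 49794) (.leaf 0))))) (.node (.node (.node (.node (.leaf 55560) (.leaf 56831)) (.node (.leaf 28986) (.leaf 0))) (.node (.node (.leaf 111076) (.leaf 0)) (.node (.leaf 2537) (.leaf 0)))) (.node (.node (.node (.leaf 1125) (.leaf 115997)) (.node (.leaf 117702) (.leaf 0))) (.node (.node (.leaf 17880) (.leaf 0)) (.node (.leaf 29318) (.leaf 0)))))) (.node (.node (.node (.node (.node (.leaf 3302) (.leaf 128325)) (.node (.leaf 17837) (.leaf 0))) (.node (.node (.leaf 44837) (.leaf 0)) (.node (.leaf 69557) (.leaf 0)))) (.node (.node (.node (.leaf 20396) (.leaf 78816)) (.node (.leaf 14158) (.leaf 0))) (.node (.node (.leaf 58028) (.leaf 0)) (.node (.leaf 92491) (.leaf 0))))) (.node (.node (.node (.node (.leaf 49905) (.leaf 107438)) (.node (.leaf 14194) (.leaf 0))) (.node (.node (.leaf 5996) (.leaf 0)) (.node (.leaf 32981)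 (.leaf 0)))) (.node (.node (.node (.leaf 122716) (.leaf 45191)) (.node (.leaf 11453) (.leaf 0))) (.node (.node (.leaf 66317) (.leaf 0)) (.node (.leaf 98142) (.leaf 0))))))))

def kT48 : NT := .node (.node (.node (.node (.node (.node (.node (.node (.leaf 86921) (.leaf 123209)) (.node (.leaf 34616) (.leaf 0))) (.node (.node (.leaf 667) (.leaf 0)) (.node (.leaf 64806) (.leaf 0)))) (.node (.node (.node (.leaf 79286) (.leaf 23163)) (.node (.leaf 10646) (.leaf 0))) (.node (.node (.leaf 12673) (.leaf 0)) (.node (.leaf 8176) (.leaf 0))))) (.node (.node (.node (.node (.leaf 18429) (.leaf 1999)) (.node (.leaf 124218) (.leaf 0))) (.node (.node (.leaf 16086) (.leaf 0)) (.node (.leaf 36545) (.leaf 0)))) (.node (.node (.node (.leaf 21364) (.leaf 10928)) (.node (.leaf 15146) (.leaf 0))) (.node (.node (.leaf 121668) (.leaf 0)) (.node (.leaf 20260) (.leaf 0)))))) (.node (.node (.node (.node (.node (.leaf 31723) (.leaf 39241)) (.node (.leaf 94087) (.leaf 0))) (.node (.node (.leaf 39097) (.leaf 0)) (.node (.leaf 91030) (.leaf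 0)))) (.node (.node (.node (.leaf 51987) (.leaf 5748)) (.node (.leaf 19870) (.leaf 0))) (.node (.node (.leaf 25421) (.leaf 0)) (.node (.leaf 58496) (.leaf 0))))) (.node (.node (.node (.node (.leaf 19089) (.leaf 44466)) (.node (.leaf 2712) (.leaf 0))) (.node (.node (.leaf 58826) (.leaf 0)) (.node (.leaf 89585) (.leaf 0)))) (.node (.node (.node (.leaf 67989) (.leaf 66394)) (.node (.leaf 107483) (.leaf 0))) (.node (.node (.leaf 92429) (.leaf 0)) (.node (.leaf 39557) (.leaf 0))))))) (.node (.node (.node (.node (.node (.node (.leaf 98265) (.leaf 70655)) (.node (.leaf 125921) (.leaf 0))) (.node (.node (.leaf 8555) (.leaf 0)) (.node (.leaf 101352) (.leaf 0)))) (.node (.node (.node (.leaf 111900) (.leaf 61264)) (.node (.leaf 33256) (.leaf 0))) (.node (.node (.leaf 75198) (.leaf 0)) (.node (.leaf 128917) (.leaf 0))))) (.node (.node (.node (.node (.leaf 3782) (.leaf 62431)) (.node (.leaf 88567) (.leaf 0))) (.node (.node (.leaf 1987) (.leaf 0)) (.node (.leaf 20367) (.leaf 0)))) (.node (.node (.node (.leaf 18428)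 (.leaf 31613)) (.node (.leaf 80368) (.leaf 0))) (.node (.node (.leaf 15983) (.leaf 0)) (.node (.leaf 108526) (.leaf 0)))))) (.node (.node (.node (.node (.node (.leaf 63750) (.leaf 30060)) (.node (.leaf 106441) (.leaf 0))) (.node (.node (.leaf 110023) (.leaf 0)) (.node (.leaf 11324) (.leaf 0)))) (.node (.node (.node (.leaf 96763) (.leaf 10521)) (.node (.leaf 32733) (.leaf 0))) (.node (.node (.leaf 36635) (.leaf 0)) (.node (.leaf 33169) (.leaf 0))))) (.node (.node (.node (.node (.leaf 36264) (.leaf 5931)) (.node (.leaf 125898) (.leaf 0))) (.node (.node (.leaf 127276) (.leaf 0)) (.node (.leaf 112629) (.leaf 0)))) (.node (.node (.node (.leaf 24779) (.leaf 23362)) (.node (.leaf 61919) (.leaf 0))) (.node (.node (.leaf 16990) (.leaf 0)) (.node (.leaf 56292) (.leaf 0)))))))) (.node (.node (.node (.node (.node (.node (.node (.leaf 114045) (.leaf 21087)) (.node (.leaf 41313) (.leaf 0))) (.node (.node (.leaf 43137) (.leaf 0)) (.node (.leaf 129284) (.leaf 0)))) (.node (.node (.node (.leaf 126418) (.leaf 29832)) (.node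 (.leaf 41933) (.leaf 0))) (.node (.node (.leaf 75042) (.leaf 0)) (.node (.leaf 72632) (.leaf 0))))) (.node (.node (.node (.node (.leaf 62154) (.leaf 42951)) (.node (.leaf 10460) (.leaf 0))) (.node (.node (.leaf 16181) (.leaf 0)) (.node (.leaf 33566) (.leaf 0)))) (.node (.node (.node (.leaf 23408) (.leaf 124260)) (.node (.leaf 85800) (.leaf 0))) (.node (.node (.leaf 110399) (.leaf 0)) (.node (.leaf 46852) (.leaf 0)))))) (.node (.node (.node (.node (.node (.leaf 59254) (.leaf 103182)) (.node (.leaf 19585) (.leaf 0))) (.node (.node (.leaf 34070) (.leaf 0)) (.node (.leaf 46303) (.leaf 0)))) (.node (.node (.node (.leaf 15461) (.leaf 34043)) (.node (.leaf 16476) (.leaf 0))) (.node (.node (.leaf 26440) (.leaf 0)) (.node (.leaf 50551) (.leaf 0))))) (.node (.node (.node (.node (.leaf 58794) (.leaf 87024)) (.node (.leaf 53722) (.leaf 0))) (.node (.node (.leaf 63654) (.leaf 0)) (.node (.leaf 55499) (.leaf 0)))) (.node (.node (.node (.leaf 18379) (.leaf 19663)) (.node (.leaf 54691) (.leaf 0))) (.node (.node (.leaf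 23466) (.leaf 0)) (.node (.leaf 20824) (.leaf 0))))))) (.node (.node (.node (.node (.node (.node (.leaf 119690) (.leaf 128967)) (.node (.leaf 107518) (.leaf 0))) (.node (.node (.leaf 76582) (.leaf 0)) (.node (.leaf 101788) (.leaf 0)))) (.node (.node (.node (.leaf 98769) (.leaf 26387)) (.node (.leaf 72672) (.leaf 0))) (.node (.node (.leaf 121832) (.leaf 0)) (.node (.leaf 126863) (.leaf 0))))) (.node (.node (.node (.node (.leaf 25898) (.leaf 120245)) (.node (.leaf 74716) (.leaf 0))) (.node (.node (.leaf 30046) (.leaf 0)) (.node (.leaf 119554) (.leaf 0)))) (.node (.node (.node (.leaf 36526) (.leaf 15539)) (.node (.leaf 9507) (.leaf 0))) (.node (.node (.leaf 17675) (.leaf 0)) (.node (.leaf 79207) (.leaf 0)))))) (.node (.node (.node (.node (.node (.leaf 53949) (.leaf 83453)) (.node (.leaf 13899) (.leaf 0))) (.node (.node (.leaf 114103) (.leaf 0)) (.node (.leaf 30949) (.leaf 0)))) (.node (.node (.node (.leaf 120672) (.leaf 15773)) (.node (.leaf 77721) (.leaf 0))) (.node (.node (.leaf 106352) (.leaf 0)) (.node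 (.leaf 126845) (.leaf 0))))) (.node (.node (.node (.node (.leaf 14589) (.leaf 42481)) (.node (.leaf 2465) (.leaf 0))) (.node (.node (.leaf 6787) (.leaf 0)) (.node (.leaf 18609) (.leaf 0)))) (.node (.node (.node (.leaf 64832) (.leaf 62933)) (.node (.leaf 34947) (.leaf 0))) (.node (.node (.leaf 85356) (.leaf 0)) (.node (.leaf 18317) (.leaf 0))))))))

def kT49 : NT := .node (.node (.node (.node (.node (.node (.node (.node (.leaf 51447) (.leaf 26805)) (.node (.leaf 94603) (.leaf 0))) (.node (.node (.leaf 49916) (.leaf 0)) (.node (.leaf 29597) (.leaf 0)))) (.node (.node (.node (.leaf 104346) (.leaf 16372)) (.node (.leaf 103295) (.leaf 0))) (.node (.node (.leaf 91563) (.leaf 0)) (.node (.leaf 129798) (.leaf 0))))) (.node (.node (.node (.node (.leaf 32418) (.leaf 7228)) (.node (.leaf 92501) (.leaf 0))) (.node (.node (.leaf 38056) (.leaf 0)) (.node (.leaf 110024) (.leaf 0)))) (.node (.node (.node (.leaf 17143) (.leaf 87506)) (.node (.leaf 3911) (.leaf 0))) (.node (.node (.leaf 45918) (.leaf 0)) (.node (.leaf 100614)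 (.leaf 0)))))) (.node (.node (.node (.node (.node (.leaf 45358) (.leaf 82328)) (.node (.leaf 59539) (.leaf 0))) (.node (.node (.leaf 55800) (.leaf 0)) (.node (.leaf 47565) (.leaf 0)))) (.node (.node (.node (.leaf 81346) (.leaf 30593)) (.node (.leaf 99164) (.leaf 0))) (.node (.node (.leaf 58524) (.leaf 0)) (.node (.leaf 33252) (.leaf 0))))) (.node (.node (.node (.node (.leaf 80239) (.leaf 75676)) (.node (.leaf 48988) (.leaf 0))) (.node (.node (.leaf 58059) (.leaf 0)) (.node (.leaf 76742) (.leaf 0)))) (.node (.node (.node (.leaf 74090) (.leaf 67943)) (.node (.leaf 31980) (.leaf 0))) (.node (.node (.leaf 55436) (.leaf 0)) (.node (.leaf 23409) (.leaf 0))))))) (.node (.node (.node (.node (.node (.node (.leaf 84973) (.leaf 20453)) (.node (.leaf 2020) (.leaf 0))) (.node (.node (.leaf 109039) (.leaf 0)) (.node (.leaf 111535) (.leaf 0)))) (.node (.node (.node (.leaf 27951) (.leaf 45285)) (.node (.leaf 28847) (.leaf 0))) (.node (.node (.leaf 101847) (.leaf 0)) (.node (.leaf 37167) (.leaf 0))))) (.node (.node (.node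 (.node (.leaf 72628) (.leaf 78824)) (.node (.leaf 22789) (.leaf 0))) (.node (.node (.leaf 97659) (.leaf 0)) (.node (.leaf 34001) (.leaf 0)))) (.node (.node (.node (.leaf 105909) (.leaf 13302)) (.node (.leaf 98644) (.leaf 0))) (.node (.node (.leaf 116712) (.leaf 0)) (.node (.leaf 75221) (.leaf 0)))))) (.node (.node (.node (.node (.node (.leaf 21157) (.leaf 40112)) (.node (.leaf 50061) (.leaf 0))) (.node (.node (.leaf 43664) (.leaf 0)) (.node (.leaf 5751) (.leaf 0)))) (.node (.node (.node (.leaf 65834) (.leaf 47612)) (.node (.leaf 47248) (.leaf 0))) (.node (.node (.leaf 130371) (.leaf 0)) (.node (.leaf 81694) (.leaf 0))))) (.node (.node (.node (.node (.leaf 106981) (.leaf 78152)) (.node (.leaf 97278) (.leaf 0))) (.node (.node (.leaf 56658) (.leaf 0)) (.node (.leaf 88350) (.leaf 0)))) (.node (.node (.node (.leaf 48440) (.leaf 60909)) (.node (.leaf 124259) (.leaf 0))) (.node (.node (.leaf 53044) (.leaf 0)) (.node (.leaf 113059) (.leaf 0)))))))) (.node (.node (.node (.node (.node (.node (.node (.leaf 44370)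 (.leaf 7900)) (.node (.leaf 35093) (.leaf 0))) (.node (.node (.leaf 32128) (.leaf 0)) (.node (.leaf 27073) (.leaf 0)))) (.node (.node (.node (.leaf 55506) (.leaf 20960)) (.node (.leaf 23881) (.leaf 0))) (.node (.node (.leaf 58308) (.leaf 0)) (.node (.leaf 51947) (.leaf 0))))) (.node (.node (.node (.node (.leaf 17044) (.leaf 45340)) (.node (.leaf 24770) (.leaf 0))) (.node (.node (.leaf 5953) (.leaf 0)) (.node (.leaf 103189) (.leaf 0)))) (.node (.node (.node (.leaf 45990) (.leaf 31604)) (.node (.leaf 16177) (.leaf 0))) (.node (.node (.leaf 13297) (.leaf 0)) (.node (.leaf 78810) (.leaf 0)))))) (.node (.node (.node (.node (.node (.leaf 26342) (.leaf 86514)) (.node (.leaf 104789) (.leaf 0))) (.node (.node (.leaf 31813) (.leaf 0)) (.node (.leaf 43482) (.leaf 0)))) (.node (.node (.node (.leaf 30382) (.leaf 127967)) (.node (.leaf 70963) (.leaf 0))) (.node (.node (.leaf 100180) (.leaf 0)) (.node (.leaf 35587) (.leaf 0))))) (.node (.node (.node (.node (.leaf 123668) (.leaf 55088)) (.node (.leaf 53101) (.leaf 0)))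 (.node (.node (.leaf 67897) (.leaf 0)) (.node (.leaf 47447) (.leaf 0)))) (.node (.node (.node (.leaf 124221) (.leaf 5538)) (.node (.leaf 5005) (.leaf 0))) (.node (.node (.leaf 44710) (.leaf 0)) (.node (.leaf 4217) (.leaf 0))))))) (.node (.node (.node (.node (.node (.node (.leaf 38538) (.leaf 9852)) (.node (.leaf 17545) (.leaf 0))) (.node (.node (.leaf 53180) (.leaf 0)) (.node (.leaf 15139) (.leaf 0)))) (.node (.node (.node (.leaf 51344) (.leaf 36697)) (.node (.leaf 98127) (.leaf 0))) (.node (.node (.leaf 12542) (.leaf 0)) (.node (.leaf 102371) (.leaf 0))))) (.node (.node (.node (.node (.leaf 77595) (.leaf 4457)) (.node (.leaf 54408) (.leaf 0))) (.node (.node (.leaf 17828) (.leaf 0)) (.node (.leaf 122280) (.leaf 0)))) (.node (.node (.node (.leaf 41869) (.leaf 17344)) (.node (.leaf 29334) (.leaf 0))) (.node (.node (.leaf 7025) (.leaf 0)) (.node (.leaf 69006) (.leaf 0)))))) (.node (.node (.node (.node (.node (.leaf 102770) (.leaf 24791)) (.node (.leaf 54481) (.leaf 0))) (.node (.node (.leaf 106491) (.leaf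 0)) (.node (.leaf 18556) (.leaf 0)))) (.node (.node (.node (.leaf 30619) (.leaf 5682)) (.node (.leaf 89494) (.leaf 0))) (.node (.node (.leaf 49124) (.leaf 0)) (.node (.leaf 24336) (.leaf 0))))) (.node (.node (.node (.node (.leaf 30194) (.leaf 40219)) (.node (.leaf 125904) (.leaf 0))) (.node (.node (.leaf 121217) (.leaf 0)) (.node (.leaf 40737) (.leaf 0)))) (.node (.node (.node (.leaf 1149) (.leaf 11544)) (.node (.leaf 20741) (.leaf 0))) (.node (.node (.leaf 27326) (.leaf 0)) (.node (.leaf 32013) (.leaf 0))))))))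

def kT50 : NT := .node (.node (.node (.node (.node (.node (.node (.node (.leaf 53150) (.leaf 105880)) (.node (.leaf 59645) (.leaf 0))) (.node (.node (.leaf 68026) (.leaf 0)) (.node (.leaf 44826) (.leaf 0)))) (.node (.node (.node (.leaf 11051) (.leaf 116019)) (.node (.leaf 99768) (.leaf 0))) (.node (.node (.leaf 61073) (.leaf 0)) (.node (.leaf 130497) (.leaf 0))))) (.node (.node (.node (.node (.leaf 46954) (.leaf 58508)) (.node (.leaf 1909) (.leaf 0))) (.node (.node (.leaf 103821) (.leaf 0)) (.node (.leaf 15689) (.leaf 0)))) (.node (.node (.node (.leaf 128925) (.leaf 123667)) (.node (.leaf 85469) (.leaf 0))) (.node (.node (.leaf 29345) (.leaf 0)) (.node (.leaf 43276) (.leaf 0)))))) (.node (.node (.node (.node (.node (.leaf 62446) (.leaf 71629)) (.node (.leaf 15992) (.leaf 0))) (.node (.node (.leaf 57677) (.leaf 0)) (.node (.leaf 108017) (.leaf 0)))) (.node (.node (.node (.leaf 58503) (.leaf 12396)) (.node (.leaf 30358) (.leaf 0))) (.node (.node (.leaf 3490) (.leaf 0)) (.node (.leaf 113429) (.leaf 0)))))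 (.node (.node (.node (.node (.leaf 53952) (.leaf 1167)) (.node (.leaf 89425) (.leaf 0))) (.node (.node (.leaf 110981) (.leaf 0)) (.node (.leaf 112522) (.leaf 0)))) (.node (.node (.node (.leaf 34159) (.leaf 100738)) (.node (.leaf 45273) (.leaf 0))) (.node (.node (.leaf 119225) (.leaf 0)) (.node (.leaf 94583) (.leaf 0))))))) (.node (.node (.node (.node (.node (.node (.leaf 45910) (.leaf 126445)) (.node (.leaf 50828) (.leaf 0))) (.node (.node (.leaf 46517) (.leaf 0)) (.node (.leaf 42131) (.leaf 0)))) (.node (.node (.node (.leaf 72483) (.leaf 90108)) (.node (.leaf 14327) (.leaf 0))) (.node (.node (.leaf 74085) (.leaf 0)) (.node (.leaf 40103) (.leaf 0))))) (.node (.node (.node (.node (.leaf 126958) (.leaf 23162)) (.node (.leaf 88444) (.leaf 0))) (.node (.node (.leaf 63291) (.leaf 0)) (.node (.leaf 7726) (.leaf 0)))) (.node (.node (.node (.leaf 120705) (.leaf 108488)) (.node (.leaf 93062) (.leaf 0))) (.node (.node (.leaf 97068) (.leaf 0)) (.node (.leaf 80704) (.leaf 0)))))) (.node (.node (.node (.node (.node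 (.leaf 44330) (.leaf 54231)) (.node (.leaf 41314) (.leaf 0))) (.node (.node (.leaf 1835) (.leaf 0)) (.node (.leaf 78108) (.leaf 0)))) (.node (.node (.node (.leaf 125908) (.leaf 126249)) (.node (.leaf 100329) (.leaf 0))) (.node (.node (.leaf 106291) (.leaf 0)) (.node (.leaf 28560) (.leaf 0))))) (.node (.node (.node (.node (.leaf 43334) (.leaf 127460)) (.node (.leaf 8085) (.leaf 0))) (.node (.node (.leaf 77170) (.leaf 0)) (.node (.leaf 4909) (.leaf 0)))) (.node (.node (.node (.leaf 65446) (.leaf 48287)) (.node (.leaf 47800) (.leaf 0))) (.node (.node (.leaf 30937) (.leaf 0)) (.node (.leaf 105931) (.leaf 0)))))))) (.node (.node (.node (.node (.node (.node (.node (.leaf 88950) (.leaf 42350)) (.node (.leaf 64726) (.leaf 0))) (.node (.node (.leaf 108837) (.leaf 0)) (.node (.leaf 91969) (.leaf 0)))) (.node (.node (.node (.leaf 33479) (.leaf 123258)) (.node (.leaf 19432) (.leaf 0))) (.node (.node (.leaf 56175) (.leaf 0)) (.node (.leaf 126959) (.leaf 0))))) (.node (.node (.node (.node (.leaf 30702) (.leaf 64858))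 (.node (.leaf 115539) (.leaf 0))) (.node (.node (.leaf 28040) (.leaf 0)) (.node (.leaf 99720) (.leaf 0)))) (.node (.node (.node (.leaf 62919) (.leaf 52358)) (.node (.leaf 23984) (.leaf 0))) (.node (.node (.leaf 33086) (.leaf 0)) (.node (.leaf 93012) (.leaf 0)))))) (.node (.node (.node (.node (.node (.leaf 27868) (.leaf 83768)) (.node (.leaf 30365) (.leaf 0))) (.node (.node (.leaf 19628) (.leaf 0)) (.node (.leaf 59673) (.leaf 0)))) (.node (.node (.node (.leaf 52050) (.leaf 59575)) (.node (.leaf 72042) (.leaf 0))) (.node (.node (.leaf 116691) (.leaf 0)) (.node (.leaf 111601) (.leaf 0))))) (.node (.node (.node (.node (.leaf 60634) (.leaf 103900)) (.node (.leaf 52083) (.leaf 0))) (.node (.node (.leaf 28962) (.leaf 0)) (.node (.leaf 28997) (.leaf 0)))) (.node (.node (.node (.leaf 56260) (.leaf 89467)) (.node (.leaf 46761) (.leaf 0))) (.node (.node (.leaf 87446) (.leaf 0)) (.node (.leaf 5330) (.leaf 0))))))) (.node (.node (.node (.node (.node (.node (.leaf 129934) (.leaf 120670)) (.node (.leaf 18212) (.leaf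 0))) (.node (.node (.leaf 68482) (.leaf 0)) (.node (.leaf 77148) (.leaf 0)))) (.node (.node (.node (.leaf 81281) (.leaf 23145)) (.node (.leaf 122654) (.leaf 0))) (.node (.node (.leaf 87903) (.leaf 0)) (.node (.leaf 23239) (.leaf 0))))) (.node (.node (.node (.node (.leaf 77676) (.leaf 33080)) (.node (.leaf 7902) (.leaf 0))) (.node (.node (.leaf 119705) (.leaf 0)) (.node (.leaf 47482) (.leaf 0)))) (.node (.node (.node (.leaf 70567) (.leaf 16803)) (.node (.leaf 122114) (.leaf 0))) (.node (.node (.leaf 36103) (.leaf 0)) (.node (.leaf 109975) (.leaf 0)))))) (.node (.node (.node (.node (.node (.leaf 66328) (.leaf 23743)) (.node (.leaf 2664) (.leaf 0))) (.node (.node (.leaf 15254) (.leaf 0)) (.node (.leaf 59572) (.leaf 0)))) (.node (.node (.node (.leaf 49840) (.leaf 82431)) (.node (.leaf 114535) (.leaf 0))) (.node (.node (.leaf 75677) (.leaf 0)) (.node (.leaf 115628) (.leaf 0))))) (.node (.node (.node (.node (.leaf 29148) (.leaf 44766)) (.node (.leaf 82354) (.leaf 0))) (.node (.node (.leaf 14531) (.leaf 0)) (.node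 (.leaf 122746) (.leaf 0)))) (.node (.node (.node (.leaf 33635) (.leaf 118224)) (.node (.leaf 32940) (.leaf 0))) (.node (.node (.leaf 21261) (.leaf 0)) (.node (.leaf 61168) (.leaf 0))))))))

def kT51 : NT := .node (.node (.node (.node (.node (.node (.node (.node (.leaf 14540) (.leaf 128293)) (.node (.leaf 32180) (.leaf 0))) (.node (.node (.leaf 46935) (.leaf 0)) (.node (.leaf 116037) (.leaf 0)))) (.node (.node (.node (.leaf 4419) (.leaf 14020)) (.node (.leaf 91926) (.leaf 0))) (.node (.node (.leaf 98748) (.leaf 0)) (.node (.leaf 106370) (.leaf 0))))) (.node (.node (.node (.node (.leaf 4822) (.leaf 7283)) (.node (.leaf 1736) (.leaf 0))) (.node (.node (.leaf 41722) (.leaf 0)) (.node (.leaf 28472) (.leaf 0)))) (.node (.node (.node (.leaf 57328) (.leaf 60041)) (.node (.leaf 108333) (.leaf 0))) (.node (.node (.leaf 8794) (.leaf 0)) (.node (.leaf 519) (.leaf 0)))))) (.node (.node (.node (.node (.node (.leaf 107892) (.leaf 12703)) (.node (.leaf 70049) (.leaf 0))) (.node (.node (.leaf 94200) (.leaf 0)) (.node (.leaf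 51575) (.leaf 0)))) (.node (.node (.node (.leaf 69508) (.leaf 76583)) (.node (.leaf 47259) (.leaf 0))) (.node (.node (.leaf 4631) (.leaf 0)) (.node (.leaf 112913) (.leaf 0))))) (.node (.node (.node (.node (.leaf 67432) (.leaf 605)) (.node (.leaf 33554) (.leaf 0))) (.node (.node (.leaf 35145) (.leaf 0)) (.node (.leaf 36819) (.leaf 0)))) (.node (.node (.node (.leaf 26622) (.leaf 32239)) (.node (.leaf 114048) (.leaf 0))) (.node (.node (.leaf 130027) (.leaf 0)) (.node (.leaf 9062) (.leaf 0))))))) (.node (.node (.node (.node (.node (.node (.leaf 60141) (.leaf 126452)) (.node (.leaf 42873) (.leaf 0))) (.node (.node (.leaf 11247) (.leaf 0)) (.node (.leaf 19624) (.leaf 0)))) (.node (.node (.node (.leaf 69402) (.leaf 32150)) (.node (.leaf 22944) (.leaf 0))) (.node (.node (.leaf 129432) (.leaf 0)) (.node (.leaf 36209) (.leaf 0))))) (.node (.node (.node (.node (.leaf 79349) (.leaf 2515)) (.node (.leaf 99135) (.leaf 0))) (.node (.node (.leaf 8420) (.leaf 0)) (.node (.leaf 65820) (.leaf 0)))) (.node (.node (.node (.leaf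 34767) (.leaf 125217)) (.node (.leaf 35075) (.leaf 0))) (.node (.node (.leaf 27038) (.leaf 0)) (.node (.leaf 39311) (.leaf 0)))))) (.node (.node (.node (.node (.node (.leaf 96565) (.leaf 42426)) (.node (.leaf 35320) (.leaf 0))) (.node (.node (.leaf 5437) (.leaf 0)) (.node (.leaf 26386) (.leaf 0)))) (.node (.node (.node (.leaf 66864) (.leaf 94045)) (.node (.leaf 6019) (.leaf 0))) (.node (.node (.leaf 100846) (.leaf 0)) (.node (.leaf 119639) (.leaf 0))))) (.node (.node (.node (.node (.leaf 29831) (.leaf 29976)) (.node (.leaf 47853) (.leaf 0))) (.node (.node (.leaf 106759) (.leaf 0)) (.node (.leaf 13905) (.leaf 0)))) (.node (.node (.node (.leaf 30013) (.leaf 44503)) (.node (.leaf 45316) (.leaf 0))) (.node (.node (.leaf 99152) (.leaf 0)) (.node (.leaf 106881) (.leaf 0)))))))) (.node (.node (.node (.node (.node (.node (.node (.leaf 11315) (.leaf 63814)) (.node (.leaf 27337) (.leaf 0))) (.node (.node (.leaf 42871) (.leaf 0)) (.node (.leaf 23346) (.leaf 0)))) (.node (.node (.node (.leaf 16161) (.leaf 96084))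 (.node (.leaf 61221) (.leaf 0))) (.node (.node (.leaf 51417) (.leaf 0)) (.node (.leaf 121694) (.leaf 0))))) (.node (.node (.node (.node (.leaf 23231) (.leaf 34631)) (.node (.leaf 75537) (.leaf 0))) (.node (.node (.leaf 31472) (.leaf 0)) (.node (.leaf 9391) (.leaf 0)))) (.node (.node (.node (.leaf 42950) (.leaf 26901)) (.node (.leaf 71575) (.leaf 0))) (.node (.node (.leaf 1079) (.leaf 0)) (.node (.leaf 12108) (.leaf 0)))))) (.node (.node (.node (.node (.node (.leaf 76140) (.leaf 43178)) (.node (.leaf 79802) (.leaf 0))) (.node (.node (.leaf 96145) (.leaf 0)) (.node (.leaf 49947) (.leaf 0)))) (.node (.node (.node (.leaf 83363) (.leaf 4089)) (.node (.leaf 98173) (.leaf 0))) (.node (.node (.leaf 18336) (.leaf 0)) (.node (.leaf 40619) (.leaf 0))))) (.node (.node (.node (.node (.leaf 6379) (.leaf 11911)) (.node (.leaf 61156) (.leaf 0))) (.node (.node (.leaf 21340) (.leaf 0)) (.node (.leaf 103922) (.leaf 0)))) (.node (.node (.node (.leaf 122146) (.leaf 3857)) (.node (.leaf 6828) (.leaf 0))) (.node (.node (.leaf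 74133) (.leaf 0)) (.node (.leaf 47989) (.leaf 0))))))) (.node (.node (.node (.node (.node (.node (.leaf 108491) (.leaf 65456)) (.node (.leaf 75133) (.leaf 0))) (.node (.node (.leaf 46331) (.leaf 0)) (.node (.leaf 28915) (.leaf 0)))) (.node (.node (.node (.leaf 69578) (.leaf 117603)) (.node (.leaf 7385) (.leaf 0))) (.node (.node (.leaf 58172) (.leaf 0)) (.node (.leaf 45811) (.leaf 0))))) (.node (.node (.node (.node (.leaf 44010) (.leaf 117055)) (.node (.leaf 23789) (.leaf 0))) (.node (.node (.leaf 49582) (.leaf 0)) (.node (.leaf 112402) (.leaf 0)))) (.node (.node (.node (.leaf 47003) (.leaf 28314)) (.node (.leaf 7010) (.leaf 0))) (.node (.node (.leaf 5074) (.leaf 0)) (.node (.leaf 68602) (.leaf 0)))))) (.node (.node (.node (.node (.node (.leaf 8502) (.leaf 52701)) (.node (.leaf 35805) (.leaf 0))) (.node (.node (.leaf 104397) (.leaf 0)) (.node (.leaf 30843) (.leaf 0)))) (.node (.node (.node (.leaf 53687) (.leaf 100349)) (.node (.leaf 117530) (.leaf 0))) (.node (.node (.leaf 131055) (.leaf 0)) (.node (.leaf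 23208) (.leaf 0))))) (.node (.node (.node (.node (.leaf 61839) (.leaf 100300)) (.node (.leaf 47084) (.leaf 0))) (.node (.node (.leaf 76748) (.leaf 0)) (.node (.leaf 12004) (.leaf 0)))) (.node (.node (.node (.leaf 74717) (.leaf 53452)) (.node (.leaf 1972) (.leaf 0))) (.node (.node (.leaf 115088) (.leaf 0)) (.node (.leaf 58635) (.leaf 0))))))))

def kT52 : NT := .node (.node (.node (.node (.node (.node (.node (.node (.leaf 63842) (.leaf 5508)) (.node (.leaf 50601) (.leaf 0))) (.node (.node (.leaf 78661) (.leaf 0)) (.node (.leaf 67443) (.leaf 0)))) (.node (.node (.node (.leaf 3445) (.leaf 113454)) (.node (.leaf 126267) (.leaf 0))) (.node (.node (.leaf 54620) (.leaf 0)) (.node (.leaf 55599) (.leaf 0))))) (.node (.node (.node (.node (.leaf 70132) (.leaf 24996)) (.node (.leaf 124355) (.leaf 0))) (.node (.node (.leaf 116681) (.leaf 0)) (.node (.leaf 1739) (.leaf 0)))) (.node (.node (.node (.leaf 58597) (.leaf 99656)) (.node (.leaf 753) (.leaf 0))) (.node (.node (.leaf 17830) (.leaf 0)) (.node (.leaf 82833) (.leaf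 0)))))) (.node (.node (.node (.node (.node (.leaf 25447) (.leaf 26220)) (.node (.leaf 129971) (.leaf 0))) (.node (.node (.leaf 84987) (.leaf 0)) (.node (.leaf 9078) (.leaf 0)))) (.node (.node (.node (.leaf 102180) (.leaf 130002)) (.node (.leaf 14793) (.leaf 0))) (.node (.node (.leaf 35839) (.leaf 0)) (.node (.leaf 16765) (.leaf 0))))) (.node (.node (.node (.node (.leaf 67950) (.leaf 79313)) (.node (.leaf 88966) (.leaf 0))) (.node (.node (.leaf 66999) (.leaf 0)) (.node (.leaf 83284) (.leaf 0)))) (.node (.node (.node (.leaf 10459) (.leaf 28255)) (.node (.leaf 59017) (.leaf 0))) (.node (.node (.leaf 61368) (.leaf 0)) (.node (.leaf 19039) (.leaf 0))))))) (.node (.node (.node (.node (.node (.node (.leaf 67464) (.leaf 36549)) (.node (.leaf 2470) (.leaf 0))) (.node (.node (.leaf 55111) (.leaf 0)) (.node (.leaf 105245) (.leaf 0)))) (.node (.node (.node (.leaf 47015) (.leaf 8524)) (.node (.leaf 30372) (.leaf 0))) (.node (.node (.leaf 105808) (.leaf 0)) (.node (.leaf 50087) (.leaf 0))))) (.node (.node (.node (.node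 (.leaf 87408) (.leaf 34179)) (.node (.leaf 44949) (.leaf 0))) (.node (.node (.leaf 102886) (.leaf 0)) (.node (.leaf 41908) (.leaf 0)))) (.node (.node (.node (.leaf 52662) (.leaf 19560)) (.node (.leaf 66014) (.leaf 0))) (.node (.node (.leaf 30913) (.leaf 0)) (.node (.leaf 79) (.leaf 0)))))) (.node (.node (.node (.node (.node (.leaf 110456) (.leaf 86941)) (.node (.leaf 71058) (.leaf 0))) (.node (.node (.leaf 19581) (.leaf 0)) (.node (.leaf 48308) (.leaf 0)))) (.node (.node (.node (.leaf 25963) (.leaf 38791)) (.node (.leaf 12195) (.leaf 0))) (.node (.node (.leaf 37297) (.leaf 0)) (.node (.leaf 105422) (.leaf 0))))) (.node (.node (.node (.node (.leaf 45052) (.leaf 54660)) (.node (.leaf 8868) (.leaf 0))) (.node (.node (.leaf 102311) (.leaf 0)) (.node (.leaf 34525) (.leaf 0)))) (.node (.node (.node (.leaf 118695) (.leaf 518)) (.node (.leaf 115164) (.leaf 0))) (.node (.node (.leaf 16836) (.leaf 0)) (.node (.leaf 81236) (.leaf 0)))))))) (.node (.node (.node (.node (.node (.node (.node (.leaf 31925) (.leaf 87012))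 (.node (.leaf 47913) (.leaf 0))) (.node (.node (.leaf 75589) (.leaf 0)) (.node (.leaf 41913) (.leaf 0)))) (.node (.node (.node (.leaf 50175) (.leaf 88010)) (.node (.leaf 88553) (.leaf 0))) (.node (.node (.leaf 96681) (.leaf 0)) (.node (.leaf 37626) (.leaf 0))))) (.node (.node (.node (.node (.leaf 61124) (.leaf 117648)) (.node (.leaf 10398) (.leaf 0))) (.node (.node (.leaf 90969) (.leaf 0)) (.node (.leaf 90110) (.leaf 0)))) (.node (.node (.node (.leaf 109413) (.leaf 36141)) (.node (.leaf 27798) (.leaf 0))) (.node (.node (.leaf 34657) (.leaf 0)) (.node (.leaf 6896) (.leaf 0)))))) (.node (.node (.node (.node (.node (.leaf 72088) (.leaf 61693)) (.node (.leaf 17244) (.leaf 0))) (.node (.node (.leaf 47856) (.leaf 0)) (.node (.leaf 107491) (.leaf 0)))) (.node (.node (.node (.leaf 84382) (.leaf 2521)) (.node (.leaf 30603) (.leaf 0))) (.node (.node (.leaf 48859) (.leaf 0)) (.node (.leaf 22974) (.leaf 0))))) (.node (.node (.node (.node (.leaf 45978) (.leaf 8976)) (.node (.leaf 31166) (.leaf 0))) (.node (.node (.leaf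 64782) (.leaf 0)) (.node (.leaf 62202) (.leaf 0)))) (.node (.node (.node (.leaf 104290) (.leaf 30635)) (.node (.leaf 87404) (.leaf 0))) (.node (.node (.leaf 82266) (.leaf 0)) (.node (.leaf 55178) (.leaf 0))))))) (.node (.node (.node (.node (.node (.node (.leaf 52105) (.leaf 63305)) (.node (.leaf 11037) (.leaf 0))) (.node (.node (.leaf 24844) (.leaf 0)) (.node (.leaf 31942) (.leaf 0)))) (.node (.node (.node (.leaf 18110) (.leaf 59376)) (.node (.leaf 33147) (.leaf 0))) (.node (.node (.leaf 57508) (.leaf 0)) (.node (.leaf 41872) (.leaf 0))))) (.node (.node (.node (.node (.leaf 59744) (.leaf 17847)) (.node (.leaf 66548) (.leaf 0))) (.node (.node (.leaf 116530) (.leaf 0)) (.node (.leaf 21483) (.leaf 0)))) (.node (.node (.node (.leaf 74155) (.leaf 51100)) (.node (.leaf 85280) (.leaf 0))) (.node (.node (.leaf 55652) (.leaf 0)) (.node (.leaf 14617) (.leaf 0)))))) (.node (.node (.node (.node (.node (.leaf 63447) (.leaf 51896)) (.node (.leaf 66878) (.leaf 0))) (.node (.node (.leaf 13366) (.leaf 0)) (.node (.leaf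 27739) (.leaf 0)))) (.node (.node (.node (.leaf 109911) (.leaf 8237)) (.node (.leaf 57279) (.leaf 0))) (.node (.node (.leaf 49126) (.leaf 0)) (.node (.leaf 73046) (.leaf 0))))) (.node (.node (.node (.node (.leaf 41919) (.leaf 37126)) (.node (.leaf 114472) (.leaf 0))) (.node (.node (.leaf 73102) (.leaf 0)) (.node (.leaf 93167) (.leaf 0)))) (.node (.node (.node (.leaf 54712) (.leaf 91942)) (.node (.leaf 124800) (.leaf 0))) (.node (.node (.leaf 106425) (.leaf 0)) (.node (.leaf 107939) (.leaf 0))))))))

def kT53 : NT := .node (.node (.node (.node (.node (.node (.node (.node (.leaf 15281) (.leaf 78635)) (.node (.leaf 35776) (.leaf 0))) (.node (.node (.leaf 10975) (.leaf 0)) (.node (.leaf 109400) (.leaf 0)))) (.node (.node (.node (.leaf 25582) (.leaf 993)) (.node (.leaf 44279) (.leaf 0))) (.node (.node (.leaf 25167) (.leaf 0)) (.node (.leaf 50010) (.leaf 0))))) (.node (.node (.node (.node (.leaf 52873) (.leaf 71452)) (.node (.leaf 3276) (.leaf 0))) (.node (.node (.leaf 52680) (.leaf 0)) (.node (.leaf 54250)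 (.leaf 0)))) (.node (.node (.node (.leaf 114594) (.leaf 49079)) (.node (.leaf 76620) (.leaf 0))) (.node (.node (.leaf 38701) (.leaf 0)) (.node (.leaf 31460) (.leaf 0)))))) (.node (.node (.node (.node (.node (.leaf 62170) (.leaf 74644)) (.node (.leaf 55209) (.leaf 0))) (.node (.node (.leaf 32213) (.leaf 0)) (.node (.leaf 91564) (.leaf 0)))) (.node (.node (.node (.leaf 10202) (.leaf 10017)) (.node (.leaf 115474) (.leaf 0))) (.node (.node (.leaf 130463) (.leaf 0)) (.node (.leaf 38222) (.leaf 0))))) (.node (.node (.node (.node (.leaf 92972) (.leaf 51571)) (.node (.leaf 87975) (.leaf 0))) (.node (.node (.leaf 97275) (.leaf 0)) (.node (.leaf 25743) (.leaf 0)))) (.node (.node (.node (.leaf 5558) (.leaf 13243)) (.node (.leaf 17195) (.leaf 0))) (.node (.node (.leaf 30030) (.leaf 0)) (.node (.leaf 118021) (.leaf 0))))))) (.node (.node (.node (.node (.node (.node (.leaf 93565) (.leaf 90098)) (.node (.leaf 126876) (.leaf 0))) (.node (.node (.leaf 41336) (.leaf 0)) (.node (.leaf 122742) (.leaf 0)))) (.node (.node (.node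 (.leaf 57666) (.leaf 61924)) (.node (.leaf 113510) (.leaf 0))) (.node (.node (.leaf 454) (.leaf 0)) (.node (.leaf 39711) (.leaf 0))))) (.node (.node (.node (.node (.leaf 94114) (.leaf 59159)) (.node (.leaf 98117) (.leaf 0))) (.node (.node (.leaf 64668) (.leaf 0)) (.node (.leaf 7507) (.leaf 0)))) (.node (.node (.node (.leaf 24373) (.leaf 36703)) (.node (.leaf 41241) (.leaf 0))) (.node (.node (.leaf 54936) (.leaf 0)) (.node (.leaf 51436) (.leaf 0)))))) (.node (.node (.node (.node (.node (.leaf 14259) (.leaf 107314)) (.node (.leaf 5326) (.leaf 0))) (.node (.node (.leaf 43151) (.leaf 0)) (.node (.leaf 29056) (.leaf 0)))) (.node (.node (.node (.leaf 76267) (.leaf 46946)) (.node (.leaf 40196) (.leaf 0))) (.node (.node (.leaf 18510) (.leaf 0)) (.node (.leaf 120778) (.leaf 0))))) (.node (.node (.node (.node (.leaf 13144) (.leaf 130417)) (.node (.leaf 109856) (.leaf 0))) (.node (.node (.leaf 63336) (.leaf 0)) (.node (.leaf 23941) (.leaf 0)))) (.node (.node (.node (.leaf 34618) (.leaf 96184)) (.node (.leaf 63666)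 (.leaf 0))) (.node (.node (.leaf 2420) (.leaf 0)) (.node (.leaf 96215) (.leaf 0)))))))) (.node (.node (.node (.node (.node (.node (.node (.leaf 66445) (.leaf 4573)) (.node (.leaf 60732) (.leaf 0))) (.node (.node (.leaf 91473) (.leaf 0)) (.node (.leaf 19636) (.leaf 0)))) (.node (.node (.node (.leaf 71540) (.leaf 19155)) (.node (.leaf 37683) (.leaf 0))) (.node (.node (.leaf 35462) (.leaf 0)) (.node (.leaf 51185) (.leaf 0))))) (.node (.node (.node (.node (.leaf 17225) (.leaf 91)) (.node (.leaf 3195) (.leaf 0))) (.node (.node (.leaf 22750) (.leaf 0)) (.node (.leaf 33757) (.leaf 0)))) (.node (.node (.node (.leaf 39810) (.leaf 85371)) (.node (.leaf 102722) (.leaf 0))) (.node (.node (.leaf 74695) (.leaf 0)) (.node (.leaf 117208) (.leaf 0)))))) (.node (.node (.node (.node (.node (.leaf 6205) (.leaf 15346)) (.node (.leaf 64834) (.leaf 0))) (.node (.node (.leaf 14992) (.leaf 0)) (.node (.leaf 108927) (.leaf 0)))) (.node (.node (.node (.leaf 99309) (.leaf 8522)) (.node (.leaf 107457) (.leaf 0))) (.node (.node (.leaf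 50976) (.leaf 0)) (.node (.leaf 121243) (.leaf 0))))) (.node (.node (.node (.node (.leaf 92446) (.leaf 32184)) (.node (.leaf 42193) (.leaf 0))) (.node (.node (.leaf 58835) (.leaf 0)) (.node (.leaf 107797) (.leaf 0)))) (.node (.node (.node (.leaf 51165) (.leaf 94128)) (.node (.leaf 10964) (.leaf 0))) (.node (.node (.leaf 29358) (.leaf 0)) (.node (.leaf 123790) (.leaf 0))))))) (.node (.node (.node (.node (.node (.node (.leaf 121258) (.leaf 63364)) (.node (.leaf 9540) (.leaf 0))) (.node (.node (.leaf 63916) (.leaf 0)) (.node (.leaf 109017) (.leaf 0)))) (.node (.node (.node (.leaf 60595) (.leaf 109330)) (.node (.leaf 1177) (.leaf 0))) (.node (.node (.leaf 6187) (.leaf 0)) (.node (.leaf 19950) (.leaf 0))))) (.node (.node (.node (.node (.leaf 1142) (.leaf 50979)) (.node (.leaf 100680) (.leaf 0))) (.node (.node (.leaf 32934) (.leaf 0)) (.node (.leaf 102805) (.leaf 0)))) (.node (.node (.node (.leaf 19760) (.leaf 110485)) (.node (.leaf 75233) (.leaf 0))) (.node (.node (.leaf 5528) (.leaf 0)) (.node (.leaf 12123)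 (.leaf 0)))))) (.node (.node (.node (.node (.node (.leaf 96118) (.leaf 43922)) (.node (.leaf 102839) (.leaf 0))) (.node (.node (.leaf 26944) (.leaf 0)) (.node (.leaf 61077) (.leaf 0)))) (.node (.node (.node (.leaf 26210) (.leaf 21150)) (.node (.leaf 50937) (.leaf 0))) (.node (.node (.leaf 7377) (.leaf 0)) (.node (.leaf 60242) (.leaf 0))))) (.node (.node (.node (.node (.leaf 48796) (.leaf 4571)) (.node (.leaf 82399) (.leaf 0))) (.node (.node (.leaf 63782) (.leaf 0)) (.node (.leaf 53191) (.leaf 0)))) (.node (.node (.node (.leaf 15784) (.leaf 45464)) (.node (.leaf 4859) (.leaf 0))) (.node (.node (.leaf 19577) (.leaf 0)) (.node (.leaf 122207) (.leaf 0))))))))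

def kT54 : NT := .node (.node (.node (.node (.node (.node (.node (.node (.leaf 19701) (.leaf 49463)) (.node (.leaf 22759) (.leaf 0))) (.node (.node (.leaf 74672) (.leaf 0)) (.node (.leaf 44913) (.leaf 0)))) (.node (.node (.node (.leaf 111983) (.leaf 98285)) (.node (.leaf 112600) (.leaf 0))) (.node (.node (.leaf 103395) (.leaf 0)) (.node (.leaf 5214) (.leaf 0))))) (.node (.node (.node (.node (.leaf 101312) (.leaf 31581)) (.node (.leaf 124817) (.leaf 0))) (.node (.node (.leaf 28312) (.leaf 0)) (.node (.leaf 131015) (.leaf 0)))) (.node (.node (.node (.leaf 128772) (.leaf 9780)) (.node (.leaf 24151) (.leaf 0))) (.node (.node (.leaf 89888) (.leaf 0)) (.node (.leaf 32190) (.leaf 0)))))) (.node (.node (.node (.node (.node (.leaf 40316) (.leaf 84420)) (.node (.leaf 127801) (.leaf 0))) (.node (.node (.leaf 58290) (.leaf 0)) (.node (.leaf 30555) (.leaf 0)))) (.node (.node (.node (.leaf 17147) (.leaf 108911)) (.node (.leaf 24450) (.leaf 0))) (.node (.node (.leaf 21428) (.leaf 0)) (.node (.leaf 57698) (.leaf 0)))))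 (.node (.node (.node (.node (.leaf 50418) (.leaf 18023)) (.node (.leaf 7462) (.leaf 0))) (.node (.node (.leaf 2991) (.leaf 0)) (.node (.leaf 4565) (.leaf 0)))) (.node (.node (.node (.leaf 33483) (.leaf 17025)) (.node (.leaf 19775) (.leaf 0))) (.node (.node (.leaf 47065) (.leaf 0)) (.node (.leaf 131045) (.leaf 0))))))) (.node (.node (.node (.node (.node (.node (.leaf 48972) (.leaf 12051)) (.node (.leaf 9082) (.leaf 0))) (.node (.node (.leaf 3998) (.leaf 0)) (.node (.leaf 12851) (.leaf 0)))) (.node (.node (.node (.leaf 1953) (.leaf 96111)) (.node (.leaf 20917) (.leaf 0))) (.node (.node (.leaf 90980) (.leaf 0)) (.node (.leaf 5057) (.leaf 0))))) (.node (.node (.node (.node (.leaf 33754) (.leaf 107519)) (.node (.leaf 95659) (.leaf 0))) (.node (.node (.leaf 27274) (.leaf 0)) (.node (.leaf 81784) (.leaf 0)))) (.node (.node (.node (.leaf 85772) (.leaf 31176)) (.node (.leaf 86939) (.leaf 0))) (.node (.node (.leaf 62740) (.leaf 0)) (.node (.leaf 2472) (.leaf 0)))))) (.node (.node (.node (.node (.node (.leaf 49594)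 (.leaf 17899)) (.node (.leaf 21155) (.leaf 0))) (.node (.node (.leaf 31837) (.leaf 0)) (.node (.leaf 85441) (.leaf 0)))) (.node (.node (.node (.leaf 36176) (.leaf 22679)) (.node (.leaf 7418) (.leaf 0))) (.node (.node (.leaf 63637) (.leaf 0)) (.node (.leaf 8355) (.leaf 0))))) (.node (.node (.node (.node (.leaf 27279) (.leaf 3421)) (.node (.leaf 49413) (.leaf 0))) (.node (.node (.leaf 112492) (.leaf 0)) (.node (.leaf 6386) (.leaf 0)))) (.node (.node (.node (.leaf 38131) (.leaf 81776)) (.node (.leaf 110480) (.leaf 0))) (.node (.node (.leaf 2875) (.leaf 0)) (.node (.leaf 10960) (.leaf 0)))))))) (.node (.node (.node (.node (.node (.node (.node (.leaf 11740) (.leaf 3512)) (.node (.leaf 2677) (.leaf 0))) (.node (.node (.leaf 75151) (.leaf 0)) (.node (.leaf 21131) (.leaf 0)))) (.node (.node (.node (.leaf 950) (.leaf 53903)) (.node (.leaf 112549) (.leaf 0))) (.node (.node (.leaf 17852) (.leaf 0)) (.node (.leaf 17751) (.leaf 0))))) (.node (.node (.node (.node (.leaf 102752) (.leaf 5847)) (.node (.leaf 108292) (.leaf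 0))) (.node (.node (.leaf 48580) (.leaf 0)) (.node (.leaf 104820) (.leaf 0)))) (.node (.node (.node (.leaf 74211) (.leaf 19710)) (.node (.leaf 35581) (.leaf 0))) (.node (.node (.leaf 8018) (.leaf 0)) (.node (.leaf 63778) (.leaf 0)))))) (.node (.node (.node (.node (.node (.leaf 109978) (.leaf 11072)) (.node (.leaf 59616) (.leaf 0))) (.node (.node (.leaf 47436) (.leaf 0)) (.node (.leaf 66825) (.leaf 0)))) (.node (.node (.node (.leaf 21795) (.leaf 124285)) (.node (.leaf 40613) (.leaf 0))) (.node (.node (.leaf 72566) (.leaf 0)) (.node (.leaf 29665) (.leaf 0))))) (.node (.node (.node (.node (.leaf 58109) (.leaf 55456)) (.node (.leaf 53935) (.leaf 0))) (.node (.node (.leaf 18304) (.leaf 0)) (.node (.leaf 42177) (.leaf 0)))) (.node (.node (.node (.leaf 54139) (.leaf 25324)) (.node (.leaf 49425) (.leaf 0))) (.node (.node (.leaf 110000) (.leaf 0)) (.node (.leaf 20296) (.leaf 0))))))) (.node (.node (.node (.node (.node (.node (.leaf 78092) (.leaf 12640)) (.node (.leaf 48302) (.leaf 0))) (.node (.node (.leaf 79647)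 (.leaf 0)) (.node (.leaf 20716) (.leaf 0)))) (.node (.node (.node (.leaf 102769) (.leaf 31683)) (.node (.leaf 82831) (.leaf 0))) (.node (.node (.leaf 118682) (.leaf 0)) (.node (.leaf 38676) (.leaf 0))))) (.node (.node (.node (.node (.leaf 93619) (.leaf 122216)) (.node (.leaf 2960) (.leaf 0))) (.node (.node (.leaf 58514) (.leaf 0)) (.node (.leaf 94714) (.leaf 0)))) (.node (.node (.node (.leaf 61403) (.leaf 9395)) (.node (.leaf 17492) (.leaf 0))) (.node (.node (.leaf 34077) (.leaf 0)) (.node (.leaf 76228) (.leaf 0)))))) (.node (.node (.node (.node (.node (.leaf 27491) (.leaf 44337)) (.node (.leaf 130555) (.leaf 0))) (.node (.node (.leaf 1273) (.leaf 0)) (.node (.leaf 106367) (.leaf 0)))) (.node (.node (.node (.leaf 11402) (.leaf 21985)) (.node (.leaf 18715) (.leaf 0))) (.node (.node (.leaf 5940) (.leaf 0)) (.node (.leaf 91534) (.leaf 0))))) (.node (.node (.node (.node (.leaf 104847) (.leaf 118680)) (.node (.leaf 114558) (.leaf 0))) (.node (.node (.leaf 29085) (.leaf 0)) (.node (.leaf 56515) (.leaf 0))))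 (.node (.node (.node (.leaf 101350) (.leaf 2463)) (.node (.leaf 35795) (.leaf 0))) (.node (.node (.leaf 47462) (.leaf 0)) (.node (.leaf 2168) (.leaf 0))))))))

def kT55 : NT := .node (.node (.node (.node (.node (.node (.node (.node (.leaf 54161) (.leaf 9582)) (.node (.leaf 7710) (.leaf 0))) (.node (.node (.leaf 22874) (.leaf 0)) (.node (.leaf 109015) (.leaf 0)))) (.node (.node (.node (.leaf 24210) (.leaf 48617)) (.node (.leaf 89869) (.leaf 0))) (.node (.node (.leaf 6094) (.leaf 0)) (.node (.leaf 31821) (.leaf 0))))) (.node (.node (.node (.node (.leaf 43252) (.leaf 111914)) (.node (.leaf 15280) (.leaf 0))) (.node (.node (.leaf 126406) (.leaf 0)) (.node (.leaf 2430) (.leaf 0)))) (.node (.node (.node (.leaf 105789) (.leaf 125780)) (.node (.leaf 36139) (.leaf 0))) (.node (.node (.leaf 34728) (.leaf 0)) (.node (.leaf 9273) (.leaf 0)))))) (.node (.node (.node (.node (.node (.leaf 29159) (.leaf 34504)) (.node (.leaf 52427) (.leaf 0))) (.node (.node (.leaf 36612) (.leaf 0)) (.node (.leaf 2033) (.leaf 0)))) (.node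 (.node (.node (.leaf 19221) (.leaf 116061)) (.node (.leaf 54969) (.leaf 0))) (.node (.node (.leaf 72122) (.leaf 0)) (.node (.leaf 30146) (.leaf 0))))) (.node (.node (.node (.node (.leaf 26005) (.leaf 53578)) (.node (.leaf 5585) (.leaf 0))) (.node (.node (.leaf 38666) (.leaf 0)) (.node (.leaf 3572) (.leaf 0)))) (.node (.node (.node (.leaf 60804) (.leaf 90486)) (.node (.leaf 105748) (.leaf 0))) (.node (.node (.leaf 20657) (.leaf 0)) (.node (.leaf 33503) (.leaf 0))))))) (.node (.node (.node (.node (.node (.node (.leaf 57534) (.leaf 102694)) (.node (.leaf 80297) (.leaf 0))) (.node (.node (.leaf 55531) (.leaf 0)) (.node (.leaf 39740) (.leaf 0)))) (.node (.node (.node (.leaf 37017) (.leaf 20207)) (.node (.leaf 89391) (.leaf 0))) (.node (.node (.leaf 54674) (.leaf 0)) (.node (.leaf 123194) (.leaf 0))))) (.node (.node (.node (.node (.leaf 10898) (.leaf 77820)) (.node (.leaf 27393) (.leaf 0))) (.node (.node (.leaf 84841) (.leaf 0)) (.node (.leaf 69079) (.leaf 0)))) (.node (.node (.node (.leaf 21350) (.leaf 19691))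 (.node (.leaf 120268) (.leaf 0))) (.node (.node (.leaf 49147) (.leaf 0)) (.node (.leaf 35780) (.leaf 0)))))) (.node (.node (.node (.node (.node (.leaf 20587) (.leaf 48465)) (.node (.leaf 96124) (.leaf 0))) (.node (.node (.leaf 90516) (.leaf 0)) (.node (.leaf 20120) (.leaf 0)))) (.node (.node (.node (.leaf 51630) (.leaf 89385)) (.node (.leaf 102811) (.leaf 0))) (.node (.node (.leaf 27126) (.leaf 0)) (.node (.leaf 53222) (.leaf 0))))) (.node (.node (.node (.node (.leaf 54044) (.leaf 108507)) (.node (.leaf 29156) (.leaf 0))) (.node (.node (.leaf 57240) (.leaf 0)) (.node (.leaf 8033) (.leaf 0)))) (.node (.node (.node (.leaf 2607) (.leaf 29153)) (.node (.leaf 90101) (.leaf 0))) (.node (.node (.leaf 30380) (.leaf 0)) (.node (.leaf 35193) (.leaf 0)))))))) (.node (.node (.node (.node (.node (.node (.node (.leaf 52886) (.leaf 15030)) (.node (.leaf 64750) (.leaf 0))) (.node (.node (.leaf 29462) (.leaf 0)) (.node (.leaf 90938) (.leaf 0)))) (.node (.node (.node (.leaf 56287) (.leaf 27060)) (.node (.leaf 33731) (.leaf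 0))) (.node (.node (.leaf 38592) (.leaf 0)) (.node (.leaf 97688) (.leaf 0))))) (.node (.node (.node (.node (.leaf 54657) (.leaf 94681)) (.node (.leaf 42769) (.leaf 0))) (.node (.node (.leaf 29540) (.leaf 0)) (.node (.leaf 88554) (.leaf 0)))) (.node (.node (.node (.leaf 6171) (.leaf 76703)) (.node (.leaf 3309) (.leaf 0))) (.node (.node (.leaf 85989) (.leaf 0)) (.node (.leaf 19737) (.leaf 0)))))) (.node (.node (.node (.node (.node (.leaf 6941) (.leaf 109345)) (.node (.leaf 28008) (.leaf 0))) (.node (.node (.leaf 499) (.leaf 0)) (.node (.leaf 80346) (.leaf 0)))) (.node (.node (.node (.leaf 97077) (.leaf 33696)) (.node (.leaf 11036) (.leaf 0))) (.node (.node (.leaf 103702) (.leaf 0)) (.node (.leaf 61153) (.leaf 0))))) (.node (.node (.node (.node (.leaf 18384) (.leaf 18800)) (.node (.leaf 14185) (.leaf 0))) (.node (.node (.leaf 121193) (.leaf 0)) (.node (.leaf 17327) (.leaf 0)))) (.node (.node (.node (.leaf 65478) (.leaf 130888)) (.node (.leaf 43940) (.leaf 0))) (.node (.node (.leaf 67418) (.leaf 0)) (.node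 (.leaf 34241) (.leaf 0))))))) (.node (.node (.node (.node (.node (.node (.leaf 65814) (.leaf 35236)) (.node (.leaf 72545) (.leaf 0))) (.node (.node (.leaf 90897) (.leaf 0)) (.node (.leaf 100707) (.leaf 0)))) (.node (.node (.node (.leaf 21758) (.leaf 89859)) (.node (.leaf 55076) (.leaf 0))) (.node (.node (.leaf 72581) (.leaf 0)) (.node (.leaf 62787) (.leaf 0))))) (.node (.node (.node (.node (.leaf 23270) (.leaf 40295)) (.node (.leaf 120154) (.leaf 0))) (.node (.node (.leaf 55713) (.leaf 0)) (.node (.leaf 24144) (.leaf 0)))) (.node (.node (.node (.leaf 71071) (.leaf 92646)) (.node (.leaf 72021) (.leaf 0))) (.node (.node (.leaf 11652) (.leaf 0)) (.node (.leaf 103780) (.leaf 0)))))) (.node (.node (.node (.node (.node (.leaf 62282) (.leaf 57798)) (.node (.leaf 60723) (.leaf 0))) (.node (.node (.leaf 29689) (.leaf 0)) (.node (.leaf 95086) (.leaf 0)))) (.node (.node (.node (.leaf 63984) (.leaf 24835)) (.node (.leaf 57633) (.leaf 0))) (.node (.node (.leaf 62731) (.leaf 0)) (.node (.leaf 64213) (.leaf 0))))) (.node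 (.node (.node (.node (.leaf 9109) (.leaf 68474)) (.node (.leaf 29638) (.leaf 0))) (.node (.node (.leaf 750) (.leaf 0)) (.node (.leaf 47509) (.leaf 0)))) (.node (.node (.node (.leaf 9573) (.leaf 28499)) (.node (.leaf 102763) (.leaf 0))) (.node (.node (.leaf 121682) (.leaf 0)) (.node (.leaf 98795) (.leaf 0))))))))

def kT56 : NT := .node (.node (.node (.node (.node (.node (.node (.node (.leaf 52200) (.leaf 35660)) (.node (.leaf 25727) (.leaf 0))) (.node (.node (.leaf 128948) (.leaf 0)) (.node (.leaf 72642) (.leaf 0)))) (.node (.node (.node (.leaf 39688) (.leaf 63193)) (.node (.leaf 41696) (.leaf 0))) (.node (.node (.leaf 32348) (.leaf 0)) (.node (.leaf 95184) (.leaf 0))))) (.node (.node (.node (.node (.leaf 81186) (.leaf 6314)) (.node (.leaf 66038) (.leaf 0))) (.node (.node (.leaf 67363) (.leaf 0)) (.node (.leaf 21803) (.leaf 0)))) (.node (.node (.node (.leaf 54127) (.leaf 36570)) (.node (.leaf 57636) (.leaf 0))) (.node (.node (.leaf 93573) (.leaf 0)) (.node (.leaf 24684) (.leaf 0)))))) (.node (.node (.node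 (.node (.node (.leaf 73020) (.leaf 124365)) (.node (.leaf 8322) (.leaf 0))) (.node (.node (.leaf 120803) (.leaf 0)) (.node (.leaf 39887) (.leaf 0)))) (.node (.node (.node (.leaf 108965) (.leaf 13077)) (.node (.leaf 34551) (.leaf 0))) (.node (.node (.leaf 70485) (.leaf 0)) (.node (.leaf 125797) (.leaf 0))))) (.node (.node (.node (.node (.leaf 9133) (.leaf 59582)) (.node (.leaf 113038) (.leaf 0))) (.node (.node (.leaf 3902) (.leaf 0)) (.node (.leaf 87987) (.leaf 0)))) (.node (.node (.node (.leaf 69959) (.leaf 67902)) (.node (.leaf 118252) (.leaf 0))) (.node (.node (.leaf 98757) (.leaf 0)) (.node (.leaf 77300) (.leaf 0))))))) (.node (.node (.node (.node (.node (.node (.leaf 71461) (.leaf 55555)) (.node (.leaf 5988) (.leaf 0))) (.node (.node (.leaf 13859) (.leaf 0)) (.node (.leaf 27864) (.leaf 0)))) (.node (.node (.node (.leaf 23618) (.leaf 68900)) (.node (.leaf 45330) (.leaf 0))) (.node (.node (.leaf 43171) (.leaf 0)) (.node (.leaf 53941) (.leaf 0))))) (.node (.node (.node (.node (.leaf 8960) (.leaf 16087))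 (.node (.leaf 13035) (.leaf 0))) (.node (.node (.leaf 113462) (.leaf 0)) (.node (.leaf 108484) (.leaf 0)))) (.node (.node (.node (.leaf 28112) (.leaf 103405)) (.node (.leaf 18827) (.leaf 0))) (.node (.node (.leaf 31020) (.leaf 0)) (.node (.leaf 117092) (.leaf 0)))))) (.node (.node (.node (.node (.node (.leaf 39221) (.leaf 10049)) (.node (.leaf 74217) (.leaf 0))) (.node (.node (.leaf 72080) (.leaf 0)) (.node (.leaf 118554) (.leaf 0)))) (.node (.node (.node (.leaf 93140) (.leaf 1860)) (.node (.leaf 81230) (.leaf 0))) (.node (.node (.leaf 19935) (.leaf 0)) (.node (.leaf 82321) (.leaf 0))))) (.node (.node (.node (.node (.leaf 40786) (.leaf 15537)) (.node (.leaf 68006) (.leaf 0))) (.node (.node (.leaf 114487) (.leaf 0)) (.node (.leaf 52938) (.leaf 0)))) (.node (.node (.node (.leaf 86288) (.leaf 73630)) (.node (.leaf 25514) (.leaf 0))) (.node (.node (.leaf 110377) (.leaf 0)) (.node (.leaf 78090) (.leaf 0)))))))) (.node (.node (.node (.node (.node (.node (.node (.leaf 23785) (.leaf 46591)) (.node (.leaf 85881)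 (.leaf 0))) (.node (.node (.leaf 70440) (.leaf 0)) (.node (.leaf 67382) (.leaf 0)))) (.node (.node (.node (.leaf 122367) (.leaf 18505)) (.node (.leaf 10197) (.leaf 0))) (.node (.node (.leaf 55023) (.leaf 0)) (.node (.leaf 24681) (.leaf 0))))) (.node (.node (.node (.node (.leaf 40844) (.leaf 60070)) (.node (.leaf 7893) (.leaf 0))) (.node (.node (.leaf 9865) (.leaf 0)) (.node (.leaf 128461) (.leaf 0)))) (.node (.node (.node (.leaf 113409) (.leaf 39930)) (.node (.leaf 42373) (.leaf 0))) (.node (.node (.leaf 3166) (.leaf 0)) (.node (.leaf 106829) (.leaf 0)))))) (.node (.node (.node (.node (.node (.leaf 94475) (.leaf 93003)) (.node (.leaf 27259) (.leaf 0))) (.node (.node (.leaf 6245) (.leaf 0)) (.node (.leaf 68889) (.leaf 0)))) (.node (.node (.node (.leaf 95670) (.leaf 9083)) (.node (.leaf 56668) (.leaf 0))) (.node (.node (.leaf 72114) (.leaf 0)) (.node (.leaf 102159) (.leaf 0))))) (.node (.node (.node (.node (.leaf 123155) (.leaf 96693)) (.node (.leaf 10113) (.leaf 0))) (.node (.node (.leaf 44328) (.leaf 0))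 (.node (.leaf 69505) (.leaf 0)))) (.node (.node (.node (.leaf 55631) (.leaf 118169)) (.node (.leaf 53506) (.leaf 0))) (.node (.node (.leaf 105334) (.leaf 0)) (.node (.leaf 28563) (.leaf 0))))))) (.node (.node (.node (.node (.node (.node (.leaf 16049) (.leaf 3779)) (.node (.leaf 114952) (.leaf 0))) (.node (.node (.leaf 22684) (.leaf 0)) (.node (.leaf 44834) (.leaf 0)))) (.node (.node (.node (.leaf 34682) (.leaf 87857)) (.node (.leaf 36039) (.leaf 0))) (.node (.node (.leaf 11354) (.leaf 0)) (.node (.leaf 124829) (.leaf 0))))) (.node (.node (.node (.node (.leaf 11458) (.leaf 26716)) (.node (.leaf 38156) (.leaf 0))) (.node (.node (.leaf 10648) (.leaf 0)) (.node (.leaf 57065) (.leaf 0)))) (.node (.node (.node (.leaf 94135) (.leaf 96736)) (.node (.leaf 50470) (.leaf 0))) (.node (.node (.leaf 85856) (.leaf 0)) (.node (.leaf 77098) (.leaf 0)))))) (.node (.node (.node (.node (.node (.leaf 6026) (.leaf 63995)) (.node (.leaf 14039) (.leaf 0))) (.node (.node (.leaf 56568) (.leaf 0)) (.node (.leaf 89947) (.leaf 0))))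 (.node (.node (.node (.leaf 60739) (.leaf 87529)) (.node (.leaf 56540) (.leaf 0))) (.node (.node (.leaf 46749) (.leaf 0)) (.node (.leaf 66917) (.leaf 0))))) (.node (.node (.node (.node (.leaf 61354) (.leaf 50024)) (.node (.leaf 77083) (.leaf 0))) (.node (.node (.leaf 130995) (.leaf 0)) (.node (.leaf 25225) (.leaf 0)))) (.node (.node (.node (.leaf 42389) (.leaf 81240)) (.node (.leaf 130361) (.leaf 0))) (.node (.node (.leaf 48547) (.leaf 0)) (.node (.leaf 91529) (.leaf 0))))))))

def kT57 : NT := .node (.node (.node (.node (.node (.node (.node (.node (.leaf 68537) (.leaf 117144)) (.node (.leaf 84385) (.leaf 0))) (.node (.node (.leaf 14470) (.leaf 0)) (.node (.leaf 4885) (.leaf 0)))) (.node (.node (.node (.leaf 3246) (.leaf 14819)) (.node (.leaf 83909) (.leaf 0))) (.node (.node (.leaf 26943) (.leaf 0)) (.node (.leaf 97049) (.leaf 0))))) (.node (.node (.node (.node (.leaf 130551) (.leaf 50344)) (.node (.leaf 36035) (.leaf 0))) (.node (.node (.leaf 98664) (.leaf 0)) (.node (.leaf 35169) (.leaf 0)))) (.node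 (.node (.node (.leaf 82924) (.leaf 106937)) (.node (.leaf 46343) (.leaf 0))) (.node (.node (.leaf 30035) (.leaf 0)) (.node (.leaf 32233) (.leaf 0)))))) (.node (.node (.node (.node (.node (.leaf 11688) (.leaf 38114)) (.node (.leaf 28353) (.leaf 0))) (.node (.node (.leaf 5513) (.leaf 0)) (.node (.leaf 91624) (.leaf 0)))) (.node (.node (.node (.leaf 130413) (.leaf 38866)) (.node (.leaf 101753) (.leaf 0))) (.node (.node (.leaf 99718) (.leaf 0)) (.node (.leaf 56579) (.leaf 0))))) (.node (.node (.node (.node (.leaf 95096) (.leaf 51176)) (.node (.leaf 111892) (.leaf 0))) (.node (.node (.leaf 96526) (.leaf 0)) (.node (.leaf 102283) (.leaf 0)))) (.node (.node (.node (.leaf 42678) (.leaf 28443)) (.node (.leaf 81918) (.leaf 0))) (.node (.node (.leaf 43168) (.leaf 0)) (.node (.leaf 37517) (.leaf 0))))))) (.node (.node (.node (.node (.node (.node (.leaf 98669) (.leaf 116702)) (.node (.leaf 5417) (.leaf 0))) (.node (.node (.leaf 12244) (.leaf 0)) (.node (.leaf 72702) (.leaf 0)))) (.node (.node (.node (.leaf 46462) (.leaf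 38285)) (.node (.leaf 92015) (.leaf 0))) (.node (.node (.leaf 61825) (.leaf 0)) (.node (.leaf 19382) (.leaf 0))))) (.node (.node (.node (.node (.leaf 37831) (.leaf 124237)) (.node (.leaf 79299) (.leaf 0))) (.node (.node (.leaf 63365) (.leaf 0)) (.node (.leaf 14624) (.leaf 0)))) (.node (.node (.node (.leaf 31506) (.leaf 4851)) (.node (.leaf 48028) (.leaf 0))) (.node (.node (.leaf 31485) (.leaf 0)) (.node (.leaf 79852) (.leaf 0)))))) (.node (.node (.node (.node (.node (.leaf 63956) (.leaf 112500)) (.node (.leaf 49846) (.leaf 0))) (.node (.node (.leaf 37275) (.leaf 0)) (.node (.leaf 6268) (.leaf 0)))) (.node (.node (.node (.leaf 110882) (.leaf 6380)) (.node (.leaf 33123) (.leaf 0))) (.node (.node (.leaf 50589) (.leaf 0)) (.node (.leaf 45437) (.leaf 0))))) (.node (.node (.node (.node (.leaf 87013) (.leaf 48771)) (.node (.leaf 94621) (.leaf 0))) (.node (.node (.leaf 65438) (.leaf 0)) (.node (.leaf 10152) (.leaf 0)))) (.node (.node (.node (.leaf 25674) (.leaf 43316)) (.node (.leaf 32174) (.leaf 0))) (.node (.node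 (.leaf 57846) (.leaf 0)) (.node (.leaf 122350) (.leaf 0)))))))) (.node (.node (.node (.node (.node (.node (.node (.leaf 19321) (.leaf 122357)) (.node (.leaf 66898) (.leaf 0))) (.node (.node (.leaf 13095) (.leaf 0)) (.node (.leaf 50378) (.leaf 0)))) (.node (.node (.node (.leaf 4149) (.leaf 115029)) (.node (.leaf 44372) (.leaf 0))) (.node (.node (.leaf 11110) (.leaf 0)) (.node (.leaf 76192) (.leaf 0))))) (.node (.node (.node (.node (.leaf 121332) (.leaf 54030)) (.node (.leaf 88970) (.leaf 0))) (.node (.node (.leaf 37832) (.leaf 0)) (.node (.leaf 46919) (.leaf 0)))) (.node (.node (.node (.leaf 125888) (.leaf 38756)) (.node (.leaf 31561) (.leaf 0))) (.node (.node (.leaf 103246) (.leaf 0)) (.node (.leaf 30197) (.leaf 0)))))) (.node (.node (.node (.node (.node (.leaf 62229) (.leaf 100284)) (.node (.leaf 566) (.leaf 0))) (.node (.node (.leaf 52940) (.leaf 0)) (.node (.leaf 113466) (.leaf 0)))) (.node (.node (.node (.leaf 67850) (.leaf 34169)) (.node (.leaf 64929) (.leaf 0))) (.node (.node (.leaf 88893) (.leaf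 0)) (.node (.leaf 21890) (.leaf 0))))) (.node (.node (.node (.node (.leaf 31841) (.leaf 121249)) (.node (.leaf 112586) (.leaf 0))) (.node (.node (.leaf 104380) (.leaf 0)) (.node (.leaf 13347) (.leaf 0)))) (.node (.node (.node (.leaf 67521) (.leaf 28809)) (.node (.leaf 42943) (.leaf 0))) (.node (.node (.leaf 32182) (.leaf 0)) (.node (.leaf 23328) (.leaf 0))))))) (.node (.node (.node (.node (.node (.node (.leaf 114074) (.leaf 345)) (.node (.leaf 33010) (.leaf 0))) (.node (.node (.leaf 79198) (.leaf 0)) (.node (.leaf 10009) (.leaf 0)))) (.node (.node (.node (.leaf 79155) (.leaf 76667)) (.node (.leaf 16256) (.leaf 0))) (.node (.node (.leaf 100350) (.leaf 0)) (.node (.leaf 30427) (.leaf 0))))) (.node (.node (.node (.node (.leaf 79644) (.leaf 26690)) (.node (.leaf 5014) (.leaf 0))) (.node (.node (.leaf 78293) (.leaf 0)) (.node (.leaf 68584) (.leaf 0)))) (.node (.node (.node (.leaf 56306) (.leaf 25156)) (.node (.leaf 2026) (.leaf 0))) (.node (.node (.leaf 1113) (.leaf 0)) (.node (.leaf 46985) (.leaf 0)))))) (.node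 (.node (.node (.node (.node (.leaf 94080) (.leaf 22712)) (.node (.leaf 113599) (.leaf 0))) (.node (.node (.leaf 46418) (.leaf 0)) (.node (.leaf 41695) (.leaf 0)))) (.node (.node (.node (.leaf 26419) (.leaf 10493)) (.node (.leaf 67857) (.leaf 0))) (.node (.node (.leaf 108540) (.leaf 0)) (.node (.leaf 45757) (.leaf 0))))) (.node (.node (.node (.node (.leaf 123828) (.leaf 55197)) (.node (.leaf 33636) (.leaf 0))) (.node (.node (.leaf 107479) (.leaf 0)) (.node (.leaf 24245) (.leaf 0)))) (.node (.node (.node (.leaf 16357) (.leaf 74092)) (.node (.leaf 29436) (.leaf 0))) (.node (.node (.leaf 49660) (.leaf 0)) (.node (.leaf 87030) (.leaf 0))))))))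

def kT58 : NT := .node (.node (.node (.node (.node (.node (.node (.node (.leaf 14374) (.leaf 32705)) (.node (.leaf 115572) (.leaf 0))) (.node (.node (.leaf 63777) (.leaf 0)) (.node (.leaf 50099) (.leaf 0)))) (.node (.node (.node (.leaf 23256) (.leaf 77089)) (.node (.leaf 76155) (.leaf 0))) (.node (.node (.leaf 80836) (.leaf 0)) (.node (.leaf 3320) (.leaf 0))))) (.node (.node (.node (.node (.leaf 70579) (.leaf 93038)) (.node (.leaf 5794) (.leaf 0))) (.node (.node (.leaf 4282) (.leaf 0)) (.node (.leaf 118162) (.leaf 0)))) (.node (.node (.node (.leaf 84426) (.leaf 19764)) (.node (.leaf 7393) (.leaf 0))) (.node (.node (.leaf 75634) (.leaf 0)) (.node (.leaf 126878) (.leaf 0)))))) (.node (.node (.node (.node (.node (.leaf 31414) (.leaf 87874)) (.node (.leaf 73543) (.leaf 0))) (.node (.node (.leaf 111999) (.leaf 0)) (.node (.leaf 130469) (.leaf 0)))) (.node (.node (.node (.leaf 33074) (.leaf 55609)) (.node (.leaf 52429) (.leaf 0))) (.node (.node (.leaf 75023) (.leaf 0)) (.node (.leaf 125951) (.leaf 0))))) (.node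 (.node (.node (.node (.leaf 56530) (.leaf 24817)) (.node (.leaf 31200) (.leaf 0))) (.node (.node (.leaf 111592) (.leaf 0)) (.node (.leaf 28764) (.leaf 0)))) (.node (.node (.node (.leaf 97631) (.leaf 127345)) (.node (.leaf 75168) (.leaf 0))) (.node (.node (.leaf 37768) (.leaf 0)) (.node (.leaf 35489) (.leaf 0))))))) (.node (.node (.node (.node (.node (.node (.leaf 13490) (.leaf 44827)) (.node (.leaf 43738) (.leaf 0))) (.node (.node (.leaf 100751) (.leaf 0)) (.node (.leaf 41097) (.leaf 0)))) (.node (.node (.node (.leaf 29654) (.leaf 71506)) (.node (.leaf 84944) (.leaf 0))) (.node (.node (.leaf 58312) (.leaf 0)) (.node (.leaf 48352) (.leaf 0))))) (.node (.node (.node (.node (.leaf 43885) (.leaf 124308)) (.node (.leaf 83758) (.leaf 0))) (.node (.node (.leaf 66004) (.leaf 0)) (.node (.leaf 29808) (.leaf 0)))) (.node (.node (.node (.leaf 4762) (.leaf 29072)) (.node (.leaf 1326) (.leaf 0))) (.node (.node (.leaf 40145) (.leaf 0)) (.node (.leaf 49960) (.leaf 0)))))) (.node (.node (.node (.node (.node (.leaf 64642)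 (.leaf 1473)) (.node (.leaf 102393) (.leaf 0))) (.node (.node (.leaf 70433) (.leaf 0)) (.node (.leaf 11945) (.leaf 0)))) (.node (.node (.node (.leaf 109982) (.leaf 6592)) (.node (.leaf 1397) (.leaf 0))) (.node (.node (.leaf 10088) (.leaf 0)) (.node (.leaf 28096) (.leaf 0))))) (.node (.node (.node (.node (.leaf 14731) (.leaf 99651)) (.node (.leaf 51675) (.leaf 0))) (.node (.node (.leaf 32529) (.leaf 0)) (.node (.leaf 98121) (.leaf 0)))) (.node (.node (.node (.leaf 3042) (.leaf 86953)) (.node (.leaf 73190) (.leaf 0))) (.node (.node (.leaf 67431) (.leaf 0)) (.node (.leaf 69590) (.leaf 0)))))))) (.node (.node (.node (.node (.node (.node (.node (.leaf 26369) (.leaf 35198)) (.node (.leaf 128997) (.leaf 0))) (.node (.node (.leaf 30416) (.leaf 0)) (.node (.leaf 100146) (.leaf 0)))) (.node (.node (.node (.leaf 5376) (.leaf 91394)) (.node (.leaf 60666) (.leaf 0))) (.node (.node (.leaf 64344) (.leaf 0)) (.node (.leaf 49961) (.leaf 0))))) (.node (.node (.node (.node (.leaf 66986) (.leaf 88052)) (.node (.leaf 8869)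 (.leaf 0))) (.node (.node (.leaf 45802) (.leaf 0)) (.node (.leaf 107444) (.leaf 0)))) (.node (.node (.node (.leaf 87466) (.leaf 90979)) (.node (.leaf 68040) (.leaf 0))) (.node (.node (.leaf 9096) (.leaf 0)) (.node (.leaf 37780) (.leaf 0)))))) (.node (.node (.node (.node (.node (.leaf 113932) (.leaf 20302)) (.node (.leaf 91062) (.leaf 0))) (.node (.node (.leaf 119588) (.leaf 0)) (.node (.leaf 46078) (.leaf 0)))) (.node (.node (.node (.leaf 3949) (.leaf 18057)) (.node (.leaf 118132) (.leaf 0))) (.node (.node (.leaf 57099) (.leaf 0)) (.node (.leaf 89937) (.leaf 0))))) (.node (.node (.node (.node (.leaf 29869) (.leaf 84264)) (.node (.leaf 125276) (.leaf 0))) (.node (.node (.leaf 23969) (.leaf 0)) (.node (.leaf 42680) (.leaf 0)))) (.node (.node (.node (.leaf 8139) (.leaf 54506)) (.node (.leaf 53099) (.leaf 0))) (.node (.node (.leaf 28301) (.leaf 0)) (.node (.leaf 27796) (.leaf 0))))))) (.node (.node (.node (.node (.node (.node (.leaf 70423) (.leaf 17875)) (.node (.leaf 17209) (.leaf 0))) (.node (.node (.leaf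 29486) (.leaf 0)) (.node (.leaf 69113) (.leaf 0)))) (.node (.node (.node (.leaf 59179) (.leaf 4023)) (.node (.leaf 38638) (.leaf 0))) (.node (.node (.leaf 2349) (.leaf 0)) (.node (.leaf 19134) (.leaf 0))))) (.node (.node (.node (.node (.leaf 8743) (.leaf 78788)) (.node (.leaf 61325) (.leaf 0))) (.node (.node (.leaf 115990) (.leaf 0)) (.node (.leaf 14520) (.leaf 0)))) (.node (.node (.node (.leaf 83792) (.leaf 129472)) (.node (.leaf 95108) (.leaf 0))) (.node (.node (.leaf 8135) (.leaf 0)) (.node (.leaf 121244) (.leaf 0)))))) (.node (.node (.node (.node (.node (.leaf 112974) (.leaf 3147)) (.node (.leaf 91608) (.leaf 0))) (.node (.node (.leaf 54925) (.leaf 0)) (.node (.leaf 46470) (.leaf 0)))) (.node (.node (.node (.leaf 35702) (.leaf 34549)) (.node (.leaf 107275) (.leaf 0))) (.node (.node (.leaf 93040) (.leaf 0)) (.node (.leaf 39401) (.leaf 0))))) (.node (.node (.node (.node (.leaf 95608) (.leaf 123842)) (.node (.leaf 38040) (.leaf 0))) (.node (.node (.leaf 51701) (.leaf 0)) (.node (.leaf 121846) (.leaf 0))))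 (.node (.node (.node (.leaf 51053) (.leaf 109562)) (.node (.leaf 63698) (.leaf 0))) (.node (.node (.leaf 35022) (.leaf 0)) (.node (.leaf 67333) (.leaf 0))))))))

def kT59 : NT := .node (.node (.node (.node (.node (.node (.node (.node (.leaf 16283) (.leaf 26473)) (.node (.leaf 22927) (.leaf 0))) (.node (.node (.leaf 119714) (.leaf 0)) (.node (.leaf 48405) (.leaf 0)))) (.node (.node (.node (.leaf 87316) (.leaf 74146)) (.node (.leaf 75703) (.leaf 0))) (.node (.node (.leaf 44249) (.leaf 0)) (.node (.leaf 68567) (.leaf 0))))) (.node (.node (.node (.node (.leaf 100301) (.leaf 19450)) (.node (.leaf 82692) (.leaf 0))) (.node (.node (.leaf 4690) (.leaf 0)) (.node (.leaf 80194) (.leaf 0)))) (.node (.node (.node (.leaf 16373) (.leaf 23007)) (.node (.leaf 11163) (.leaf 0))) (.node (.node (.leaf 116137) (.leaf 0)) (.node (.leaf 99186) (.leaf 0)))))) (.node (.node (.node (.node (.node (.leaf 1261) (.leaf 65015)) (.node (.leaf 27040) (.leaf 0))) (.node (.node (.leaf 20912) (.leaf 0)) (.node (.leaf 41718) (.leaf 0))))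 (.node (.node (.node (.leaf 126377) (.leaf 60334)) (.node (.leaf 10701) (.leaf 0))) (.node (.node (.leaf 86012) (.leaf 0)) (.node (.leaf 105911) (.leaf 0))))) (.node (.node (.node (.node (.leaf 46791) (.leaf 50869)) (.node (.leaf 27826) (.leaf 0))) (.node (.node (.leaf 89002) (.leaf 0)) (.node (.leaf 60590) (.leaf 0)))) (.node (.node (.node (.leaf 99151) (.leaf 13747)) (.node (.leaf 7554) (.leaf 0))) (.node (.node (.leaf 93582) (.leaf 0)) (.node (.leaf 12000) (.leaf 0))))))) (.node (.node (.node (.node (.node (.node (.leaf 38307) (.leaf 77747)) (.node (.leaf 5064) (.leaf 0))) (.node (.node (.leaf 67533) (.leaf 0)) (.node (.leaf 117510) (.leaf 0)))) (.node (.node (.node (.leaf 1643) (.leaf 115061)) (.node (.leaf 14610) (.leaf 0))) (.node (.node (.leaf 27895) (.leaf 0)) (.node (.leaf 128823) (.leaf 0))))) (.node (.node (.node (.node (.leaf 110979) (.leaf 62422)) (.node (.leaf 13771) (.leaf 0))) (.node (.node (.leaf 31994) (.leaf 0)) (.node (.leaf 14668) (.leaf 0)))) (.node (.node (.node (.leaf 116154) (.leaf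 26621)) (.node (.leaf 53437) (.leaf 0))) (.node (.node (.leaf 24061) (.leaf 0)) (.node (.leaf 94995) (.leaf 0)))))) (.node (.node (.node (.node (.node (.leaf 105971) (.leaf 38852)) (.node (.leaf 124899) (.leaf 0))) (.node (.node (.leaf 95680) (.leaf 0)) (.node (.leaf 71495) (.leaf 0)))) (.node (.node (.node (.leaf 33989) (.leaf 11103)) (.node (.leaf 90388) (.leaf 0))) (.node (.node (.leaf 4245) (.leaf 0)) (.node (.leaf 31410) (.leaf 0))))) (.node (.node (.node (.node (.leaf 28039) (.leaf 41892)) (.node (.leaf 56002) (.leaf 0))) (.node (.node (.leaf 80349) (.leaf 0)) (.node (.leaf 73713) (.leaf 0)))) (.node (.node (.node (.leaf 115130) (.leaf 103341)) (.node (.leaf 12481) (.leaf 0))) (.node (.node (.leaf 5715) (.leaf 0)) (.node (.leaf 33531) (.leaf 0)))))))) (.node (.node (.node (.node (.node (.node (.node (.leaf 80700) (.leaf 29611)) (.node (.leaf 17580) (.leaf 0))) (.node (.node (.leaf 54659) (.leaf 0)) (.node (.leaf 53635) (.leaf 0)))) (.node (.node (.node (.leaf 31589) (.leaf 54607)) (.node (.leaf 32533)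 (.leaf 0))) (.node (.node (.leaf 82254) (.leaf 0)) (.node (.leaf 30508) (.leaf 0))))) (.node (.node (.node (.node (.leaf 48795) (.leaf 24395)) (.node (.leaf 125329) (.leaf 0))) (.node (.node (.leaf 52884) (.leaf 0)) (.node (.leaf 12836) (.leaf 0)))) (.node (.node (.node (.leaf 36023) (.leaf 114621)) (.node (.leaf 94674) (.leaf 0))) (.node (.node (.leaf 67474) (.leaf 0)) (.node (.leaf 72698) (.leaf 0)))))) (.node (.node (.node (.node (.node (.leaf 24381) (.leaf 1022)) (.node (.leaf 54413) (.leaf 0))) (.node (.node (.leaf 45941) (.leaf 0)) (.node (.leaf 8762) (.leaf 0)))) (.node (.node (.node (.leaf 73596) (.leaf 129911)) (.node (.leaf 15272) (.leaf 0))) (.node (.node (.leaf 122737) (.leaf 0)) (.node (.leaf 19791) (.leaf 0))))) (.node (.node (.node (.node (.leaf 13815) (.leaf 119583)) (.node (.leaf 5612) (.leaf 0))) (.node (.node (.leaf 14231) (.leaf 0)) (.node (.leaf 1650) (.leaf 0)))) (.node (.node (.node (.leaf 26358) (.leaf 24222)) (.node (.leaf 117631) (.leaf 0))) (.node (.node (.leaf 51142) (.leaf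 0)) (.node (.leaf 61126) (.leaf 0))))))) (.node (.node (.node (.node (.node (.node (.leaf 105752) (.leaf 51982)) (.node (.leaf 112982) (.leaf 0))) (.node (.node (.leaf 18216) (.leaf 0)) (.node (.leaf 95542) (.leaf 0)))) (.node (.node (.node (.leaf 96720) (.leaf 11980)) (.node (.leaf 92492) (.leaf 0))) (.node (.node (.leaf 85306) (.leaf 0)) (.node (.leaf 76789) (.leaf 0))))) (.node (.node (.node (.node (.leaf 86291) (.leaf 47972)) (.node (.leaf 78751) (.leaf 0))) (.node (.node (.leaf 101671) (.leaf 0)) (.node (.leaf 14892) (.leaf 0)))) (.node (.node (.node (.leaf 24461) (.leaf 63694)) (.node (.leaf 39699) (.leaf 0))) (.node (.node (.leaf 45756) (.leaf 0)) (.node (.leaf 69041) (.leaf 0)))))) (.node (.node (.node (.node (.node (.leaf 85373) (.leaf 120766)) (.node (.leaf 34589) (.leaf 0))) (.node (.node (.leaf 13615) (.leaf 0)) (.node (.leaf 18407) (.leaf 0)))) (.node (.node (.node (.leaf 46995) (.leaf 44839)) (.node (.leaf 51511) (.leaf 0))) (.node (.node (.leaf 94679) (.leaf 0)) (.node (.leaf 44510) (.leaf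 0))))) (.node (.node (.node (.node (.leaf 6648) (.leaf 13553)) (.node (.leaf 40287) (.leaf 0))) (.node (.node (.leaf 67021) (.leaf 0)) (.node (.leaf 22605) (.leaf 0)))) (.node (.node (.node (.leaf 122267) (.leaf 7814)) (.node (.leaf 584) (.leaf 0))) (.node (.node (.leaf 67874) (.leaf 0)) (.node (.leaf 105388) (.leaf 0))))))))

def kT60 : NT := .node (.node (.node (.node (.node (.node (.node (.node (.leaf 20256) (.leaf 112510)) (.node (.leaf 31855) (.leaf 0))) (.node (.node (.leaf 87943) (.leaf 0)) (.node (.leaf 29514) (.leaf 0)))) (.node (.node (.node (.leaf 19361) (.leaf 114474)) (.node (.leaf 108901) (.leaf 0))) (.node (.node (.leaf 22612) (.leaf 0)) (.node (.leaf 34754) (.leaf 0))))) (.node (.node (.node (.node (.leaf 12765) (.leaf 16358)) (.node (.leaf 29138) (.leaf 0))) (.node (.node (.leaf 108412) (.leaf 0)) (.node (.leaf 52448) (.leaf 0)))) (.node (.node (.node (.leaf 92993) (.leaf 26983)) (.node (.leaf 55696) (.leaf 0))) (.node (.node (.leaf 14988) (.leaf 0)) (.node (.leaf 64313) (.leaf 0))))))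 (.node (.node (.node (.node (.node (.leaf 10823) (.leaf 29619)) (.node (.leaf 7241) (.leaf 0))) (.node (.node (.leaf 3356) (.leaf 0)) (.node (.leaf 44760) (.leaf 0)))) (.node (.node (.node (.leaf 25186) (.leaf 65866)) (.node (.leaf 105441) (.leaf 0))) (.node (.node (.leaf 7216) (.leaf 0)) (.node (.leaf 57135) (.leaf 0))))) (.node (.node (.node (.node (.leaf 16076) (.leaf 103231)) (.node (.leaf 104942) (.leaf 0))) (.node (.node (.leaf 11505) (.leaf 0)) (.node (.leaf 32555) (.leaf 0)))) (.node (.node (.node (.leaf 34463) (.leaf 22602)) (.node (.leaf 113969) (.leaf 0))) (.node (.node (.leaf 17276) (.leaf 0)) (.node (.leaf 97785) (.leaf 0))))))) (.node (.node (.node (.node (.node (.node (.leaf 50492) (.leaf 32215)) (.node (.leaf 125222) (.leaf 0))) (.node (.node (.leaf 12755) (.leaf 0)) (.node (.leaf 9629) (.leaf 0)))) (.node (.node (.node (.leaf 102883) (.leaf 16531)) (.node (.leaf 95526) (.leaf 0))) (.node (.node (.leaf 105869) (.leaf 0)) (.node (.leaf 5722) (.leaf 0))))) (.node (.node (.node (.node (.leaf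 71515) (.leaf 124766)) (.node (.leaf 14066) (.leaf 0))) (.node (.node (.leaf 34227) (.leaf 0)) (.node (.leaf 28056) (.leaf 0)))) (.node (.node (.node (.leaf 3612) (.leaf 34174)) (.node (.leaf 932) (.leaf 0))) (.node (.node (.leaf 21925) (.leaf 0)) (.node (.leaf 108948) (.leaf 0)))))) (.node (.node (.node (.node (.node (.leaf 27115) (.leaf 17703)) (.node (.leaf 88856) (.leaf 0))) (.node (.node (.leaf 67582) (.leaf 0)) (.node (.leaf 98560) (.leaf 0)))) (.node (.node (.node (.leaf 108972) (.leaf 23656)) (.node (.leaf 211) (.leaf 0))) (.node (.node (.leaf 128916) (.leaf 0)) (.node (.leaf 20844) (.leaf 0))))) (.node (.node (.node (.node (.leaf 122214) (.leaf 70944)) (.node (.leaf 47780) (.leaf 0))) (.node (.node (.leaf 24560) (.leaf 0)) (.node (.leaf 11181) (.leaf 0)))) (.node (.node (.node (.leaf 125265) (.leaf 87915)) (.node (.leaf 50668) (.leaf 0))) (.node (.node (.leaf 5273) (.leaf 0)) (.node (.leaf 28389) (.leaf 0)))))))) (.node (.node (.node (.node (.node (.node (.node (.leaf 98651) (.leaf 5929)) (.node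 (.leaf 31664) (.leaf 0))) (.node (.node (.leaf 9257) (.leaf 0)) (.node (.leaf 48453) (.leaf 0)))) (.node (.node (.node (.leaf 26705) (.leaf 4344)) (.node (.leaf 37347) (.leaf 0))) (.node (.node (.leaf 123699) (.leaf 0)) (.node (.leaf 67510) (.leaf 0))))) (.node (.node (.node (.node (.leaf 104410) (.leaf 32134)) (.node (.leaf 91577) (.leaf 0))) (.node (.node (.leaf 61760) (.leaf 0)) (.node (.leaf 59045) (.leaf 0)))) (.node (.node (.node (.leaf 9260) (.leaf 23777)) (.node (.leaf 12053) (.leaf 0))) (.node (.node (.leaf 7107) (.leaf 0)) (.node (.leaf 14761) (.leaf 0)))))) (.node (.node (.node (.node (.node (.leaf 64376) (.leaf 38557)) (.node (.leaf 111051) (.leaf 0))) (.node (.node (.leaf 35096) (.leaf 0)) (.node (.leaf 81676) (.leaf 0)))) (.node (.node (.node (.leaf 28777) (.leaf 35458)) (.node (.leaf 93686) (.leaf 0))) (.node (.node (.leaf 36110) (.leaf 0)) (.node (.leaf 3481) (.leaf 0))))) (.node (.node (.node (.node (.leaf 86944) (.leaf 26034)) (.node (.leaf 7525) (.leaf 0))) (.node (.node (.leaf 112030)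 (.leaf 0)) (.node (.leaf 1819) (.leaf 0)))) (.node (.node (.node (.leaf 10313) (.leaf 31351)) (.node (.leaf 65492) (.leaf 0))) (.node (.node (.leaf 51198) (.leaf 0)) (.node (.leaf 59641) (.leaf 0))))))) (.node (.node (.node (.node (.node (.node (.leaf 73513) (.leaf 83409)) (.node (.leaf 60157) (.leaf 0))) (.node (.node (.leaf 74700) (.leaf 0)) (.node (.leaf 59816) (.leaf 0)))) (.node (.node (.node (.leaf 98578) (.leaf 19842)) (.node (.leaf 123743) (.leaf 0))) (.node (.node (.leaf 88528) (.leaf 0)) (.node (.leaf 49285) (.leaf 0))))) (.node (.node (.node (.node (.leaf 56048) (.leaf 58688)) (.node (.leaf 21818) (.leaf 0))) (.node (.node (.leaf 15128) (.leaf 0)) (.node (.leaf 109834) (.leaf 0)))) (.node (.node (.node (.leaf 32530) (.leaf 3237)) (.node (.leaf 59048) (.leaf 0))) (.node (.node (.leaf 2648) (.leaf 0)) (.node (.leaf 33205) (.leaf 0)))))) (.node (.node (.node (.node (.node (.leaf 64911) (.leaf 5701)) (.node (.leaf 51876) (.leaf 0))) (.node (.node (.leaf 13813) (.leaf 0)) (.node (.leaf 397) (.leaf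 0)))) (.node (.node (.node (.leaf 55026) (.leaf 1763)) (.node (.leaf 40785) (.leaf 0))) (.node (.node (.leaf 116560) (.leaf 0)) (.node (.leaf 77107) (.leaf 0))))) (.node (.node (.node (.node (.leaf 102864) (.leaf 17165)) (.node (.leaf 69602) (.leaf 0))) (.node (.node (.leaf 56643) (.leaf 0)) (.node (.leaf 33170) (.leaf 0)))) (.node (.node (.node (.leaf 108514) (.leaf 32516)) (.node (.leaf 31625) (.leaf 0))) (.node (.node (.leaf 8443) (.leaf 0)) (.node (.leaf 48422) (.leaf 0))))))))

def kT61 : NT := .node (.node (.node (.node (.node (.node (.node (.node (.leaf 131063) (.leaf 113128)) (.node (.leaf 7272) (.leaf 0))) (.node (.node (.leaf 12734) (.leaf 0)) (.node (.leaf 3660) (.leaf 0)))) (.node (.node (.node (.leaf 74006) (.leaf 1888)) (.node (.leaf 52354) (.leaf 0))) (.node (.node (.leaf 75662) (.leaf 0)) (.node (.leaf 66376) (.leaf 0))))) (.node (.node (.node (.node (.leaf 67544) (.leaf 93623)) (.node (.leaf 124896) (.leaf 0))) (.node (.node (.leaf 31133) (.leaf 0)) (.node (.leaf 6962) (.leaf 0)))) (.node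 (.node (.node (.leaf 24536) (.leaf 17374)) (.node (.leaf 108449) (.leaf 0))) (.node (.node (.leaf 16716) (.leaf 0)) (.node (.leaf 106968) (.leaf 0)))))) (.node (.node (.node (.node (.node (.leaf 6341) (.leaf 11093)) (.node (.leaf 90077) (.leaf 0))) (.node (.node (.leaf 61191) (.leaf 0)) (.node (.leaf 61) (.leaf 0)))) (.node (.node (.node (.leaf 1724) (.leaf 18024)) (.node (.leaf 103730) (.leaf 0))) (.node (.node (.leaf 34640) (.leaf 0)) (.node (.leaf 61142) (.leaf 0))))) (.node (.node (.node (.node (.leaf 120132) (.leaf 18626)) (.node (.leaf 76687) (.leaf 0))) (.node (.node (.leaf 55681) (.leaf 0)) (.node (.leaf 106423) (.leaf 0)))) (.node (.node (.node (.leaf 64419) (.leaf 63430)) (.node (.leaf 10959) (.leaf 0))) (.node (.node (.leaf 1735) (.leaf 0)) (.node (.leaf 97192) (.leaf 0))))))) (.node (.node (.node (.node (.node (.node (.leaf 27205) (.leaf 18831)) (.node (.leaf 13927) (.leaf 0))) (.node (.node (.leaf 42915) (.leaf 0)) (.node (.leaf 106424) (.leaf 0)))) (.node (.node (.node (.leaf 130501) (.leaf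 16966)) (.node (.leaf 70935) (.leaf 0))) (.node (.node (.leaf 73637) (.leaf 0)) (.node (.leaf 81277) (.leaf 0))))) (.node (.node (.node (.node (.leaf 15479) (.leaf 100627)) (.node (.leaf 17238) (.leaf 0))) (.node (.node (.leaf 20614) (.leaf 0)) (.node (.leaf 75200) (.leaf 0)))) (.node (.node (.node (.leaf 63709) (.leaf 15331)) (.node (.leaf 123285) (.leaf 0))) (.node (.node (.leaf 34737) (.leaf 0)) (.node (.leaf 7364) (.leaf 0)))))) (.node (.node (.node (.node (.node (.leaf 62927) (.leaf 38573)) (.node (.leaf 41440) (.leaf 0))) (.node (.node (.leaf 52361) (.leaf 0)) (.node (.leaf 10578) (.leaf 0)))) (.node (.node (.node (.leaf 66854) (.leaf 16190)) (.node (.leaf 111976) (.leaf 0))) (.node (.node (.leaf 56972) (.leaf 0)) (.node (.leaf 103880) (.leaf 0))))) (.node (.node (.node (.node (.leaf 21939) (.leaf 100248)) (.node (.leaf 6313) (.leaf 0))) (.node (.node (.leaf 83225) (.leaf 0)) (.node (.leaf 12700) (.leaf 0)))) (.node (.node (.node (.leaf 36245) (.leaf 124264)) (.node (.leaf 151) (.leaf 0))) (.node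 (.node (.leaf 110934) (.leaf 0)) (.node (.leaf 128511) (.leaf 0)))))))) (.node (.node (.node (.node (.node (.node (.node (.leaf 56052) (.leaf 120300)) (.node (.leaf 63866) (.leaf 0))) (.node (.node (.leaf 79847) (.leaf 0)) (.node (.leaf 8182) (.leaf 0)))) (.node (.node (.node (.leaf 60632) (.leaf 5458)) (.node (.leaf 40389) (.leaf 0))) (.node (.node (.leaf 51357) (.leaf 0)) (.node (.leaf 104262) (.leaf 0))))) (.node (.node (.node (.node (.leaf 74121) (.leaf 32437)) (.node (.leaf 49467) (.leaf 0))) (.node (.node (.leaf 50514) (.leaf 0)) (.node (.leaf 44233) (.leaf 0)))) (.node (.node (.node (.leaf 30695) (.leaf 38291)) (.node (.leaf 2079) (.leaf 0))) (.node (.node (.leaf 85445) (.leaf 0)) (.node (.leaf 61063) (.leaf 0)))))) (.node (.node (.node (.node (.node (.leaf 118024) (.leaf 50567)) (.node (.leaf 10670) (.leaf 0))) (.node (.node (.leaf 58836) (.leaf 0)) (.node (.leaf 17335) (.leaf 0)))) (.node (.node (.node (.leaf 52454) (.leaf 127857)) (.node (.leaf 76094) (.leaf 0))) (.node (.node (.leaf 5710) (.leaf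 0)) (.node (.leaf 19965) (.leaf 0))))) (.node (.node (.node (.node (.leaf 52061) (.leaf 104308)) (.node (.leaf 117045) (.leaf 0))) (.node (.node (.leaf 50597) (.leaf 0)) (.node (.leaf 77804) (.leaf 0)))) (.node (.node (.node (.leaf 24946) (.leaf 2892)) (.node (.leaf 121276) (.leaf 0))) (.node (.node (.leaf 106426) (.leaf 0)) (.node (.leaf 8664) (.leaf 0))))))) (.node (.node (.node (.node (.node (.node (.leaf 63730) (.leaf 118171)) (.node (.leaf 106918) (.leaf 0))) (.node (.node (.leaf 54568) (.leaf 0)) (.node (.leaf 59632) (.leaf 0)))) (.node (.node (.node (.leaf 112437) (.leaf 30399)) (.node (.leaf 20653) (.leaf 0))) (.node (.node (.leaf 58720) (.leaf 0)) (.node (.leaf 15432) (.leaf 0))))) (.node (.node (.node (.node (.leaf 28546) (.leaf 77154)) (.node (.leaf 4065) (.leaf 0))) (.node (.node (.leaf 82182) (.leaf 0)) (.node (.leaf 39225) (.leaf 0)))) (.node (.node (.node (.leaf 121153) (.leaf 95497)) (.node (.leaf 88002) (.leaf 0))) (.node (.node (.leaf 82402) (.leaf 0)) (.node (.leaf 85284) (.leaf 0))))))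 (.node (.node (.node (.node (.node (.leaf 23679) (.leaf 92110)) (.node (.leaf 12591) (.leaf 0))) (.node (.node (.leaf 11233) (.leaf 0)) (.node (.leaf 110967) (.leaf 0)))) (.node (.node (.node (.leaf 33577) (.leaf 127351)) (.node (.leaf 64169) (.leaf 0))) (.node (.node (.leaf 89578) (.leaf 0)) (.node (.leaf 96566) (.leaf 0))))) (.node (.node (.node (.node (.leaf 38109) (.leaf 7222)) (.node (.leaf 15093) (.leaf 0))) (.node (.node (.leaf 121311) (.leaf 0)) (.node (.leaf 15167) (.leaf 0)))) (.node (.node (.node (.leaf 18165) (.leaf 89410)) (.node (.leaf 53007) (.leaf 0))) (.node (.node (.leaf 17283) (.leaf 0)) (.node (.leaf 3503) (.leaf 0))))))))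

def kT62 : NT := .node (.node (.node (.node (.node (.node (.node (.node (.leaf 43364) (.leaf 32011)) (.node (.leaf 8607) (.leaf 0))) (.node (.node (.leaf 69479) (.leaf 0)) (.node (.leaf 87463) (.leaf 0)))) (.node (.node (.node (.leaf 63265) (.leaf 5489)) (.node (.leaf 41777) (.leaf 0))) (.node (.node (.leaf 55079) (.leaf 0)) (.node (.leaf 26253) (.leaf 0))))) (.node (.node (.node (.node (.leaf 106921) (.leaf 60802)) (.node (.leaf 62187) (.leaf 0))) (.node (.node (.leaf 58824) (.leaf 0)) (.node (.leaf 55718) (.leaf 0)))) (.node (.node (.node (.leaf 62951) (.leaf 63729)) (.node (.leaf 18378) (.leaf 0))) (.node (.node (.leaf 12151) (.leaf 0)) (.node (.leaf 13626) (.leaf 0)))))) (.node (.node (.node (.node (.node (.leaf 60755) (.leaf 35094)) (.node (.leaf 45712) (.leaf 0))) (.node (.node (.leaf 89006) (.leaf 0)) (.node (.leaf 36172) (.leaf 0)))) (.node (.node (.node (.leaf 104891) (.leaf 61422)) (.node (.leaf 131051) (.leaf 0))) (.node (.node (.leaf 74613) (.leaf 0)) (.node (.leaf 103296) (.leaf 0))))) (.node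 (.node (.node (.node (.leaf 130962) (.leaf 97601)) (.node (.leaf 124198) (.leaf 0))) (.node (.node (.leaf 42462) (.leaf 0)) (.node (.leaf 12458) (.leaf 0)))) (.node (.node (.node (.leaf 4373) (.leaf 48540)) (.node (.leaf 2091) (.leaf 0))) (.node (.node (.leaf 84235) (.leaf 0)) (.node (.leaf 123206) (.leaf 0))))))) (.node (.node (.node (.node (.node (.node (.leaf 73025) (.leaf 116049)) (.node (.leaf 27454) (.leaf 0))) (.node (.node (.leaf 108813) (.leaf 0)) (.node (.leaf 121104) (.leaf 0)))) (.node (.node (.node (.leaf 14989) (.leaf 93632)) (.node (.leaf 5863) (.leaf 0))) (.node (.node (.leaf 5713) (.leaf 0)) (.node (.leaf 114175) (.leaf 0))))) (.node (.node (.node (.node (.leaf 34641) (.leaf 112575)) (.node (.leaf 56525) (.leaf 0))) (.node (.node (.leaf 62638) (.leaf 0)) (.node (.leaf 125919) (.leaf 0)))) (.node (.node (.node (.leaf 94548) (.leaf 40443)) (.node (.leaf 89362) (.leaf 0))) (.node (.node (.leaf 54617) (.leaf 0)) (.node (.leaf 13017) (.leaf 0)))))) (.node (.node (.node (.node (.node (.leaf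 113659) (.leaf 105923)) (.node (.leaf 51375) (.leaf 0))) (.node (.node (.leaf 42969) (.leaf 0)) (.node (.leaf 62949) (.leaf 0)))) (.node (.node (.node (.leaf 65516) (.leaf 75108)) (.node (.leaf 92576) (.leaf 0))) (.node (.node (.leaf 41903) (.leaf 0)) (.node (.leaf 121786) (.leaf 0))))) (.node (.node (.node (.node (.leaf 3629) (.leaf 15488)) (.node (.leaf 8872) (.leaf 0))) (.node (.node (.leaf 55997) (.leaf 0)) (.node (.leaf 120129) (.leaf 0)))) (.node (.node (.node (.leaf 24533) (.leaf 57336)) (.node (.leaf 43463) (.leaf 0))) (.node (.node (.leaf 60269) (.leaf 0)) (.node (.leaf 118041) (.leaf 0)))))))) (.node (.node (.node (.node (.node (.node (.node (.leaf 49993) (.leaf 65413)) (.node (.leaf 126290) (.leaf 0))) (.node (.node (.leaf 47265) (.leaf 0)) (.node (.leaf 33931) (.leaf 0)))) (.node (.node (.node (.leaf 2812) (.leaf 44915)) (.node (.leaf 88028) (.leaf 0))) (.node (.node (.leaf 11509) (.leaf 0)) (.node (.leaf 102332) (.leaf 0))))) (.node (.node (.node (.node (.leaf 69073) (.leaf 96077)) (.node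 (.leaf 60363) (.leaf 0))) (.node (.node (.leaf 1955) (.leaf 0)) (.node (.leaf 50060) (.leaf 0)))) (.node (.node (.node (.leaf 31093) (.leaf 382)) (.node (.leaf 18781) (.leaf 0))) (.node (.node (.leaf 64937) (.leaf 0)) (.node (.leaf 88440) (.leaf 0)))))) (.node (.node (.node (.node (.node (.leaf 96570) (.leaf 1565)) (.node (.leaf 89056) (.leaf 0))) (.node (.node (.leaf 21958) (.leaf 0)) (.node (.leaf 61267) (.leaf 0)))) (.node (.node (.node (.leaf 2911) (.leaf 56615)) (.node (.leaf 38808) (.leaf 0))) (.node (.node (.leaf 89469) (.leaf 0)) (.node (.leaf 23227) (.leaf 0))))) (.node (.node (.node (.node (.leaf 71017) (.leaf 40371)) (.node (.leaf 95678) (.leaf 0))) (.node (.node (.leaf 14425) (.leaf 0)) (.node (.leaf 43352) (.leaf 0)))) (.node (.node (.node (.leaf 8561) (.leaf 11543)) (.node (.leaf 38846) (.leaf 0))) (.node (.node (.leaf 109891) (.leaf 0)) (.node (.leaf 19419) (.leaf 0))))))) (.node (.node (.node (.node (.node (.node (.leaf 48569) (.leaf 2334)) (.node (.leaf 15354) (.leaf 0))) (.node (.node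 (.leaf 36663) (.leaf 0)) (.node (.leaf 32748) (.leaf 0)))) (.node (.node (.node (.leaf 123716) (.leaf 105360)) (.node (.leaf 4987) (.leaf 0))) (.node (.node (.leaf 112548) (.leaf 0)) (.node (.leaf 32373) (.leaf 0))))) (.node (.node (.node (.node (.leaf 129343) (.leaf 35528)) (.node (.leaf 5311) (.leaf 0))) (.node (.node (.leaf 130455) (.leaf 0)) (.node (.leaf 77128) (.leaf 0)))) (.node (.node (.node (.leaf 32225) (.leaf 43390)) (.node (.leaf 18033) (.leaf 0))) (.node (.node (.leaf 14547) (.leaf 0)) (.node (.leaf 126827) (.leaf 0)))))) (.node (.node (.node (.node (.node (.leaf 11567) (.leaf 39367)) (.node (.leaf 85831) (.leaf 0))) (.node (.node (.leaf 6211) (.leaf 0)) (.node (.leaf 105890) (.leaf 0)))) (.node (.node (.node (.leaf 2354) (.leaf 13075)) (.node (.leaf 25173) (.leaf 0))) (.node (.node (.leaf 93179) (.leaf 0)) (.node (.leaf 54460) (.leaf 0))))) (.node (.node (.node (.node (.leaf 34802) (.leaf 73140)) (.node (.leaf 102165) (.leaf 0))) (.node (.node (.leaf 99314) (.leaf 0)) (.node (.leaf 102270)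 (.leaf 0)))) (.node (.node (.node (.leaf 68496) (.leaf 114619)) (.node (.leaf 2446) (.leaf 0))) (.node (.node (.leaf 55179) (.leaf 0)) (.node (.leaf 10982) (.leaf 0))))))))

def kT63 : NT := .node (.node (.node (.node (.node (.node (.node (.node (.leaf 26068) (.leaf 31510)) (.node (.leaf 48106) (.leaf 0))) (.node (.node (.leaf 51077) (.leaf 0)) (.node (.leaf 5825) (.leaf 0)))) (.node (.node (.node (.leaf 15525) (.leaf 76165)) (.node (.leaf 37010) (.leaf 0))) (.node (.node (.leaf 3750) (.leaf 0)) (.node (.leaf 13517) (.leaf 0))))) (.node (.node (.node (.node (.leaf 76050) (.leaf 9371)) (.node (.leaf 10291) (.leaf 0))) (.node (.node (.leaf 130397) (.leaf 0)) (.node (.leaf 45518) (.leaf 0)))) (.node (.node (.node (.leaf 10170) (.leaf 13426)) (.node (.leaf 25214) (.leaf 0))) (.node (.node (.leaf 37133) (.leaf 0)) (.node (.leaf 34095) (.leaf 0)))))) (.node (.node (.node (.node (.node (.leaf 26259) (.leaf 33956)) (.node (.leaf 28622) (.leaf 0))) (.node (.node (.leaf 33099) (.leaf 0)) (.node (.leaf 50687) (.leaf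 0)))) (.node (.node (.node (.leaf 117141) (.leaf 69581)) (.node (.leaf 46385) (.leaf 0))) (.node (.node (.leaf 98158) (.leaf 0)) (.node (.leaf 102772) (.leaf 0))))) (.node (.node (.node (.node (.leaf 128330) (.leaf 33791)) (.node (.leaf 73503) (.leaf 0))) (.node (.node (.leaf 4016) (.leaf 0)) (.node (.leaf 129879) (.leaf 0)))) (.node (.node (.node (.leaf 3402) (.leaf 73618)) (.node (.leaf 86394) (.leaf 0))) (.node (.node (.leaf 80809) (.leaf 0)) (.node (.leaf 128780) (.leaf 0))))))) (.node (.node (.node (.node (.node (.node (.leaf 67541) (.leaf 17075)) (.node (.leaf 75717) (.leaf 0))) (.node (.node (.leaf 50372) (.leaf 0)) (.node (.leaf 77711) (.leaf 0)))) (.node (.node (.node (.leaf 47376) (.leaf 32397)) (.node (.leaf 4044) (.leaf 0))) (.node (.node (.leaf 7646) (.leaf 0)) (.node (.leaf 1734) (.leaf 0))))) (.node (.node (.node (.node (.leaf 108961) (.leaf 29786)) (.node (.leaf 111073) (.leaf 0))) (.node (.node (.leaf 105402) (.leaf 0)) (.node (.leaf 128885) (.leaf 0)))) (.node (.node (.node (.leaf 25954)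 (.leaf 21494)) (.node (.leaf 74534) (.leaf 0))) (.node (.node (.leaf 26346) (.leaf 0)) (.node (.leaf 44220) (.leaf 0)))))) (.node (.node (.node (.node (.node (.leaf 14149) (.leaf 122252)) (.node (.leaf 68974) (.leaf 0))) (.node (.node (.leaf 14280) (.leaf 0)) (.node (.leaf 48333) (.leaf 0)))) (.node (.node (.node (.leaf 119083) (.leaf 103197)) (.node (.leaf 111556) (.leaf 0))) (.node (.node (.leaf 15234) (.leaf 0)) (.node (.leaf 68408) (.leaf 0))))) (.node (.node (.node (.node (.leaf 8698) (.leaf 123795)) (.node (.leaf 21718) (.leaf 0))) (.node (.node (.leaf 43306) (.leaf 0)) (.node (.leaf 111056) (.leaf 0)))) (.node (.node (.node (.leaf 65927) (.leaf 86878)) (.node (.leaf 17012) (.leaf 0))) (.node (.node (.leaf 68886) (.leaf 0)) (.node (.leaf 130964) (.leaf 0)))))))) (.node (.node (.node (.node (.node (.node (.node (.leaf 39218) (.leaf 57765)) (.node (.leaf 72553) (.leaf 0))) (.node (.node (.leaf 9889) (.leaf 0)) (.node (.leaf 8141) (.leaf 0)))) (.node (.node (.node (.leaf 110931) (.leaf 36749)) (.node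 (.leaf 105743) (.leaf 0))) (.node (.node (.leaf 61374) (.leaf 0)) (.node (.leaf 9862) (.leaf 0))))) (.node (.node (.node (.node (.leaf 51471) (.leaf 61405)) (.node (.leaf 105218) (.leaf 0))) (.node (.node (.leaf 102230) (.leaf 0)) (.node (.leaf 77161) (.leaf 0)))) (.node (.node (.node (.leaf 52465) (.leaf 5823)) (.node (.leaf 87007) (.leaf 0))) (.node (.node (.leaf 29632) (.leaf 0)) (.node (.leaf 20297) (.leaf 0)))))) (.node (.node (.node (.node (.node (.leaf 123704) (.leaf 106299)) (.node (.leaf 11442) (.leaf 0))) (.node (.node (.leaf 65942) (.leaf 0)) (.node (.leaf 24267) (.leaf 0)))) (.node (.node (.node (.leaf 120073) (.leaf 50111)) (.node (.leaf 7185) (.leaf 0))) (.node (.node (.leaf 96580) (.leaf 0)) (.node (.leaf 22215) (.leaf 0))))) (.node (.node (.node (.node (.leaf 21072) (.leaf 9948)) (.node (.leaf 127287) (.leaf 0))) (.node (.node (.leaf 33267) (.leaf 0)) (.node (.leaf 60315) (.leaf 0)))) (.node (.node (.node (.leaf 108920) (.leaf 85779)) (.node (.leaf 25804) (.leaf 0))) (.node (.node (.leaf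 101237) (.leaf 0)) (.node (.leaf 95114) (.leaf 0))))))) (.node (.node (.node (.node (.node (.node (.leaf 19545) (.leaf 32323)) (.node (.leaf 45888) (.leaf 0))) (.node (.node (.leaf 88922) (.leaf 0)) (.node (.leaf 19562) (.leaf 0)))) (.node (.node (.node (.leaf 126333) (.leaf 69000)) (.node (.leaf 78825) (.leaf 0))) (.node (.node (.leaf 1528) (.leaf 0)) (.node (.leaf 10944) (.leaf 0))))) (.node (.node (.node (.node (.leaf 69953) (.leaf 26969)) (.node (.leaf 27533) (.leaf 0))) (.node (.node (.leaf 106429) (.leaf 0)) (.node (.leaf 61298) (.leaf 0)))) (.node (.node (.node (.leaf 12793) (.leaf 99607)) (.node (.leaf 87333) (.leaf 0))) (.node (.node (.leaf 24147) (.leaf 0)) (.node (.leaf 125877) (.leaf 0)))))) (.node (.node (.node (.node (.node (.leaf 31399) (.leaf 55964)) (.node (.leaf 114603) (.leaf 0))) (.node (.node (.leaf 71041) (.leaf 0)) (.node (.leaf 123892) (.leaf 0)))) (.node (.node (.node (.leaf 43990) (.leaf 39574)) (.node (.leaf 4397) (.leaf 0))) (.node (.node (.leaf 57237) (.leaf 0)) (.node (.leaf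 8181) (.leaf 0))))) (.node (.node (.node (.node (.leaf 102800) (.leaf 36325)) (.node (.leaf 39726) (.leaf 0))) (.node (.node (.leaf 52122) (.leaf 0)) (.node (.leaf 9785) (.leaf 0)))) (.node (.node (.node (.leaf 46426) (.leaf 118779)) (.node (.leaf 19423) (.leaf 0))) (.node (.node (.leaf 97663) (.leaf 0)) (.node (.leaf 50011) (.leaf 0))))))))

def kT64 : NT := .node (.node (.node (.node (.node (.node (.node (.node (.leaf 5662) (.leaf 57770)) (.node (.leaf 110444) (.leaf 0))) (.node (.node (.leaf 25415) (.leaf 0)) (.node (.leaf 124797) (.leaf 0)))) (.node (.node (.node (.leaf 113955) (.leaf 3928)) (.node (.leaf 33095) (.leaf 0))) (.node (.node (.leaf 109042) (.leaf 0)) (.node (.leaf 9407) (.leaf 0))))) (.node (.node (.node (.node (.leaf 29420) (.leaf 59549)) (.node (.leaf 119749) (.leaf 0))) (.node (.node (.leaf 44873) (.leaf 0)) (.node (.leaf 23187) (.leaf 0)))) (.node (.node (.node (.leaf 8483) (.leaf 26699)) (.node (.leaf 27301) (.leaf 0))) (.node (.node (.leaf 9382) (.leaf 0)) (.node (.leaf 1703) (.leaf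 0)))))) (.node (.node (.node (.node (.node (.leaf 108918) (.leaf 58658)) (.node (.leaf 50445) (.leaf 0))) (.node (.node (.leaf 35129) (.leaf 0)) (.node (.leaf 8188) (.leaf 0)))) (.node (.node (.node (.leaf 114604) (.leaf 65951)) (.node (.leaf 102398) (.leaf 0))) (.node (.node (.leaf 40237) (.leaf 0)) (.node (.leaf 12946) (.leaf 0))))) (.node (.node (.node (.node (.leaf 31715) (.leaf 1787)) (.node (.leaf 54098) (.leaf 0))) (.node (.node (.leaf 26579) (.leaf 0)) (.node (.leaf 27012) (.leaf 0)))) (.node (.node (.node (.leaf 37252) (.leaf 51964)) (.node (.leaf 54168) (.leaf 0))) (.node (.node (.leaf 60912) (.leaf 0)) (.node (.leaf 18373) (.leaf 0))))))) (.node (.node (.node (.node (.node (.node (.leaf 32715) (.leaf 7808)) (.node (.leaf 32363) (.leaf 0))) (.node (.node (.leaf 25204) (.leaf 0)) (.node (.leaf 12268) (.leaf 0)))) (.node (.node (.node (.leaf 12449) (.leaf 78228)) (.node (.leaf 120616) (.leaf 0))) (.node (.node (.leaf 62106) (.leaf 0)) (.node (.leaf 52440) (.leaf 0))))) (.node (.node (.node (.node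 (.leaf 90019) (.leaf 83325)) (.node (.leaf 4500) (.leaf 0))) (.node (.node (.leaf 48407) (.leaf 0)) (.node (.leaf 21250) (.leaf 0)))) (.node (.node (.node (.leaf 128797) (.leaf 76271)) (.node (.leaf 23003) (.leaf 0))) (.node (.node (.leaf 18577) (.leaf 0)) (.node (.leaf 12429) (.leaf 0)))))) (.node (.node (.node (.node (.node (.leaf 59031) (.leaf 113647)) (.node (.leaf 10983) (.leaf 0))) (.node (.node (.leaf 25599) (.leaf 0)) (.node (.leaf 52616) (.leaf 0)))) (.node (.node (.node (.leaf 94577) (.leaf 103423)) (.node (.leaf 102693) (.leaf 0))) (.node (.node (.leaf 129021) (.leaf 0)) (.node (.leaf 14758) (.leaf 0))))) (.node (.node (.node (.node (.leaf 48860) (.leaf 7114)) (.node (.leaf 24837) (.leaf 0))) (.node (.node (.leaf 3637) (.leaf 0)) (.node (.leaf 59884) (.leaf 0)))) (.node (.node (.node (.leaf 124914) (.leaf 48857)) (.node (.leaf 91963) (.leaf 0))) (.node (.node (.leaf 98256) (.leaf 0)) (.node (.leaf 83815) (.leaf 0)))))))) (.node (.node (.node (.node (.node (.node (.node (.leaf 110019) (.leaf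 18147)) (.node (.leaf 41272) (.leaf 0))) (.node (.node (.leaf 110464) (.leaf 0)) (.node (.leaf 64292) (.leaf 0)))) (.node (.node (.node (.leaf 109517) (.leaf 53719)) (.node (.leaf 16369) (.leaf 0))) (.node (.node (.leaf 23385) (.leaf 0)) (.node (.leaf 122365) (.leaf 0))))) (.node (.node (.node (.node (.leaf 3968) (.leaf 87986)) (.node (.leaf 4655) (.leaf 0))) (.node (.node (.leaf 20676) (.leaf 0)) (.node (.leaf 13372) (.leaf 0)))) (.node (.node (.node (.leaf 75263) (.leaf 101691)) (.node (.leaf 29532) (.leaf 0))) (.node (.node (.leaf 88040) (.leaf 0)) (.node (.leaf 19249) (.leaf 0)))))) (.node (.node (.node (.node (.node (.leaf 51680) (.leaf 81816)) (.node (.leaf 54729) (.leaf 0))) (.node (.node (.leaf 25338) (.leaf 0)) (.node (.leaf 87941) (.leaf 0)))) (.node (.node (.node (.leaf 61232) (.leaf 10154)) (.node (.leaf 74061) (.leaf 0))) (.node (.node (.leaf 31601) (.leaf 0)) (.node (.leaf 850) (.leaf 0))))) (.node (.node (.node (.node (.leaf 107834) (.leaf 8647)) (.node (.leaf 40262) (.leaf 0))) (.node (.node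 (.leaf 87424) (.leaf 0)) (.node (.leaf 30052) (.leaf 0)))) (.node (.node (.node (.leaf 8180) (.leaf 50142)) (.node (.leaf 65499) (.leaf 0))) (.node (.node (.leaf 49426) (.leaf 0)) (.node (.leaf 129946) (.leaf 0))))))) (.node (.node (.node (.node (.node (.node (.leaf 22594) (.leaf 8940)) (.node (.leaf 96245) (.leaf 0))) (.node (.node (.leaf 41455) (.leaf 0)) (.node (.leaf 2964) (.leaf 0)))) (.node (.node (.node (.leaf 101198) (.leaf 8838)) (.node (.leaf 45561) (.leaf 0))) (.node (.node (.leaf 12463) (.leaf 0)) (.node (.leaf 97726) (.leaf 0))))) (.node (.node (.node (.node (.leaf 85431) (.leaf 107351)) (.node (.leaf 103807) (.leaf 0))) (.node (.node (.leaf 5232) (.leaf 0)) (.node (.leaf 110463) (.leaf 0)))) (.node (.node (.node (.leaf 34507) (.leaf 27451)) (.node (.leaf 14007) (.leaf 0))) (.node (.node (.leaf 2508) (.leaf 0)) (.node (.leaf 129810) (.leaf 0)))))) (.node (.node (.node (.node (.node (.leaf 12574) (.leaf 31003)) (.node (.leaf 61951) (.leaf 0))) (.node (.node (.leaf 94154) (.leaf 0)) (.node (.leaf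 118201) (.leaf 0)))) (.node (.node (.node (.leaf 24262) (.leaf 125710)) (.node (.leaf 3669) (.leaf 0))) (.node (.node (.leaf 46006) (.leaf 0)) (.node (.leaf 115700) (.leaf 0))))) (.node (.node (.node (.node (.leaf 50339) (.leaf 75678)) (.node (.leaf 122263) (.leaf 0))) (.node (.node (.leaf 57120) (.leaf 0)) (.node (.leaf 125909) (.leaf 0)))) (.node (.node (.node (.leaf 113971) (.leaf 121115)) (.node (.leaf 9697) (.leaf 0))) (.node (.node (.leaf 51412) (.leaf 0)) (.node (.leaf 114669) (.leaf 0))))))))

def kT65 : NT := .node (.node (.node (.node (.node (.node (.node (.node (.leaf 64256) (.leaf 88418)) (.node (.leaf 97684) (.leaf 0))) (.node (.node (.leaf 32412) (.leaf 0)) (.node (.leaf 55740) (.leaf 0)))) (.node (.node (.node (.leaf 106363) (.leaf 18318)) (.node (.leaf 17613) (.leaf 0))) (.node (.node (.leaf 66901) (.leaf 0)) (.node (.leaf 107778) (.leaf 0))))) (.node (.node (.node (.node (.leaf 112932) (.leaf 6044)) (.node (.leaf 126253) (.leaf 0))) (.node (.node (.leaf 37045) (.leaf 0)) (.node (.leaf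 52941) (.leaf 0)))) (.node (.node (.node (.leaf 3899) (.leaf 56772)) (.node (.leaf 51557) (.leaf 0))) (.node (.node (.leaf 101863) (.leaf 0)) (.node (.leaf 62351) (.leaf 0)))))) (.node (.node (.node (.node (.node (.leaf 65523) (.leaf 94057)) (.node (.leaf 126781) (.leaf 0))) (.node (.node (.leaf 21626) (.leaf 0)) (.node (.leaf 89544) (.leaf 0)))) (.node (.node (.node (.leaf 65512) (.leaf 63673)) (.node (.leaf 19426) (.leaf 0))) (.node (.node (.leaf 85369) (.leaf 0)) (.node (.leaf 44475) (.leaf 0))))) (.node (.node (.node (.node (.leaf 68358) (.leaf 3550)) (.node (.leaf 33143) (.leaf 0))) (.node (.node (.leaf 28517) (.leaf 0)) (.node (.leaf 53531) (.leaf 0)))) (.node (.node (.node (.leaf 28514) (.leaf 32387)) (.node (.leaf 13542) (.leaf 0))) (.node (.node (.leaf 62603) (.leaf 0)) (.node (.leaf 7154) (.leaf 0))))))) (.node (.node (.node (.node (.node (.node (.leaf 36191) (.leaf 10018)) (.node (.leaf 128911) (.leaf 0))) (.node (.node (.leaf 61672) (.leaf 0)) (.node (.leaf 57713) (.leaf 0)))) (.node (.node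 (.node (.leaf 6375) (.leaf 13891)) (.node (.leaf 119103) (.leaf 0))) (.node (.node (.leaf 76059) (.leaf 0)) (.node (.leaf 105433) (.leaf 0))))) (.node (.node (.node (.node (.leaf 12173) (.leaf 36252)) (.node (.leaf 3274) (.leaf 0))) (.node (.node (.leaf 83201) (.leaf 0)) (.node (.leaf 14606) (.leaf 0)))) (.node (.node (.node (.leaf 10348) (.leaf 46583)) (.node (.leaf 14421) (.leaf 0))) (.node (.node (.leaf 126766) (.leaf 0)) (.node (.leaf 28125) (.leaf 0)))))) (.node (.node (.node (.node (.node (.leaf 80651) (.leaf 1852)) (.node (.leaf 9589) (.leaf 0))) (.node (.node (.leaf 17104) (.leaf 0)) (.node (.leaf 123235) (.leaf 0)))) (.node (.node (.node (.leaf 3441) (.leaf 94004)) (.node (.leaf 10494) (.leaf 0))) (.node (.node (.leaf 65982) (.leaf 0)) (.node (.leaf 29110) (.leaf 0))))) (.node (.node (.node (.node (.leaf 99713) (.leaf 124893)) (.node (.leaf 18569) (.leaf 0))) (.node (.node (.leaf 41673) (.leaf 0)) (.node (.leaf 59758) (.leaf 0)))) (.node (.node (.node (.leaf 92554) (.leaf 33110)) (.node (.leaf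 54682) (.leaf 0))) (.node (.node (.leaf 116721) (.leaf 0)) (.node (.leaf 83816) (.leaf 0)))))))) (.node (.node (.node (.node (.node (.node (.node (.leaf 10803) (.leaf 127281)) (.node (.leaf 75030) (.leaf 0))) (.node (.node (.leaf 16259) (.leaf 0)) (.node (.leaf 76040) (.leaf 0)))) (.node (.node (.node (.leaf 47943) (.leaf 86349)) (.node (.leaf 51493) (.leaf 0))) (.node (.node (.leaf 82898) (.leaf 0)) (.node (.leaf 32405) (.leaf 0))))) (.node (.node (.node (.node (.leaf 73593) (.leaf 28669)) (.node (.leaf 98301) (.leaf 0))) (.node (.node (.leaf 5480) (.leaf 0)) (.node (.leaf 91986) (.leaf 0)))) (.node (.node (.node (.leaf 12520) (.leaf 43222)) (.node (.leaf 129012) (.leaf 0))) (.node (.node (.leaf 46457) (.leaf 0)) (.node (.leaf 60650) (.leaf 0)))))) (.node (.node (.node (.node (.node (.leaf 130409) (.leaf 15076)) (.node (.leaf 126372) (.leaf 0))) (.node (.node (.leaf 19179) (.leaf 0)) (.node (.leaf 16676) (.leaf 0)))) (.node (.node (.node (.leaf 119621) (.leaf 30958)) (.node (.leaf 52181) (.leaf 0))) (.node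 (.node (.leaf 75156) (.leaf 0)) (.node (.leaf 81786) (.leaf 0))))) (.node (.node (.node (.node (.leaf 63915) (.leaf 43967)) (.node (.leaf 24240) (.leaf 0))) (.node (.node (.leaf 19125) (.leaf 0)) (.node (.leaf 130557) (.leaf 0)))) (.node (.node (.node (.leaf 37804) (.leaf 40118)) (.node (.leaf 92498) (.leaf 0))) (.node (.node (.leaf 1453) (.leaf 0)) (.node (.leaf 41966) (.leaf 0))))))) (.node (.node (.node (.node (.node (.node (.leaf 37843) (.leaf 30276)) (.node (.leaf 20402) (.leaf 0))) (.node (.node (.leaf 11690) (.leaf 0)) (.node (.leaf 10917) (.leaf 0)))) (.node (.node (.node (.leaf 6422) (.leaf 3060)) (.node (.leaf 20934) (.leaf 0))) (.node (.node (.leaf 48119) (.leaf 0)) (.node (.leaf 88958) (.leaf 0))))) (.node (.node (.node (.node (.leaf 68510) (.leaf 79833)) (.node (.leaf 128878) (.leaf 0))) (.node (.node (.leaf 6062) (.leaf 0)) (.node (.leaf 70029) (.leaf 0)))) (.node (.node (.node (.leaf 102857) (.leaf 57311)) (.node (.leaf 55450) (.leaf 0))) (.node (.node (.leaf 87534) (.leaf 0)) (.node (.leaf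 69509) (.leaf 0)))))) (.node (.node (.node (.node (.node (.leaf 94632) (.leaf 6966)) (.node (.leaf 111607) (.leaf 0))) (.node (.node (.leaf 113996) (.leaf 0)) (.node (.leaf 85953) (.leaf 0)))) (.node (.node (.node (.leaf 87913) (.leaf 6722)) (.node (.leaf 82702) (.leaf 0))) (.node (.node (.leaf 33613) (.leaf 0)) (.node (.leaf 48793) (.leaf 0))))) (.node (.node (.node (.node (.leaf 24955) (.leaf 54919)) (.node (.leaf 49986) (.leaf 0))) (.node (.node (.leaf 6309) (.leaf 0)) (.node (.leaf 60350) (.leaf 0)))) (.node (.node (.node (.leaf 10447) (.leaf 2340)) (.node (.leaf 13506) (.leaf 0))) (.node (.node (.leaf 102672) (.leaf 0)) (.node (.leaf 109957) (.leaf 0))))))))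

def kT66 : NT := .node (.node (.node (.node (.node (.node (.node (.node (.leaf 51521) (.leaf 48833)) (.node (.leaf 39617) (.leaf 0))) (.node (.node (.leaf 74520) (.leaf 0)) (.node (.leaf 130865) (.leaf 0)))) (.node (.node (.node (.leaf 108387) (.leaf 30142)) (.node (.leaf 10323) (.leaf 0))) (.node (.node (.leaf 108310) (.leaf 0)) (.node (.leaf 19239) (.leaf 0))))) (.node (.node (.node (.node (.leaf 10797) (.leaf 102221)) (.node (.leaf 12105) (.leaf 0))) (.node (.node (.leaf 2480) (.leaf 0)) (.node (.leaf 9486) (.leaf 0)))) (.node (.node (.node (.leaf 43432) (.leaf 4579)) (.node (.leaf 42902) (.leaf 0))) (.node (.node (.leaf 117649) (.leaf 0)) (.node (.leaf 3959) (.leaf 0)))))) (.node (.node (.node (.node (.node (.leaf 18218) (.leaf 129496)) (.node (.leaf 83250) (.leaf 0))) (.node (.node (.leaf 39845) (.leaf 0)) (.node (.leaf 22465) (.leaf 0)))) (.node (.node (.node (.leaf 2971) (.leaf 99262)) (.node (.leaf 42184) (.leaf 0))) (.node (.node (.leaf 25234) (.leaf 0)) (.node (.leaf 126921) (.leaf 0))))) (.node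 (.node (.node (.node (.leaf 37754) (.leaf 76555)) (.node (.leaf 74596) (.leaf 0))) (.node (.node (.leaf 83433) (.leaf 0)) (.node (.leaf 49131) (.leaf 0)))) (.node (.node (.node (.leaf 112094) (.leaf 104715)) (.node (.leaf 18644) (.leaf 0))) (.node (.node (.leaf 52948) (.leaf 0)) (.node (.leaf 21185) (.leaf 0))))))) (.node (.node (.node (.node (.node (.node (.leaf 113109) (.leaf 38614)) (.node (.leaf 20250) (.leaf 0))) (.node (.node (.leaf 125285) (.leaf 0)) (.node (.leaf 75126) (.leaf 0)))) (.node (.node (.node (.leaf 8961) (.leaf 71581)) (.node (.leaf 94529) (.leaf 0))) (.node (.node (.leaf 30962) (.leaf 0)) (.node (.leaf 124913) (.leaf 0))))) (.node (.node (.node (.node (.leaf 3155) (.leaf 35741)) (.node (.leaf 34815) (.leaf 0))) (.node (.node (.leaf 97084) (.leaf 0)) (.node (.leaf 28055) (.leaf 0)))) (.node (.node (.node (.leaf 60882) (.leaf 7260)) (.node (.leaf 12896) (.leaf 0))) (.node (.node (.leaf 18933) (.leaf 0)) (.node (.leaf 101229) (.leaf 0)))))) (.node (.node (.node (.node (.node (.leaf 66486)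 (.leaf 4158)) (.node (.leaf 119725) (.leaf 0))) (.node (.node (.leaf 23926) (.leaf 0)) (.node (.leaf 16272) (.leaf 0)))) (.node (.node (.node (.leaf 63169) (.leaf 33958)) (.node (.leaf 115583) (.leaf 0))) (.node (.node (.leaf 30396) (.leaf 0)) (.node (.leaf 30044) (.leaf 0))))) (.node (.node (.node (.node (.leaf 56130) (.leaf 37521)) (.node (.leaf 425) (.leaf 0))) (.node (.node (.leaf 19287) (.leaf 0)) (.node (.leaf 122714) (.leaf 0)))) (.node (.node (.node (.leaf 26764) (.leaf 9637)) (.node (.leaf 13935) (.leaf 0))) (.node (.node (.leaf 112420) (.leaf 0)) (.node (.leaf 46944) (.leaf 0)))))))) (.node (.node (.node (.node (.node (.node (.node (.leaf 74711) (.leaf 93124)) (.node (.leaf 69922) (.leaf 0))) (.node (.node (.leaf 104711) (.leaf 0)) (.node (.leaf 8314) (.leaf 0)))) (.node (.node (.node (.leaf 21623) (.leaf 46218)) (.node (.leaf 68987) (.leaf 0))) (.node (.node (.leaf 81804) (.leaf 0)) (.node (.leaf 64772) (.leaf 0))))) (.node (.node (.node (.node (.leaf 41624) (.leaf 29845)) (.node (.leaf 10625)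 (.leaf 0))) (.node (.node (.leaf 13645) (.leaf 0)) (.node (.leaf 66008) (.leaf 0)))) (.node (.node (.node (.leaf 124248) (.leaf 16805)) (.node (.leaf 102183) (.leaf 0))) (.node (.node (.leaf 15832) (.leaf 0)) (.node (.leaf 8089) (.leaf 0)))))) (.node (.node (.node (.node (.node (.leaf 70526) (.leaf 18698)) (.node (.leaf 101164) (.leaf 0))) (.node (.node (.leaf 82309) (.leaf 0)) (.node (.leaf 68388) (.leaf 0)))) (.node (.node (.node (.leaf 71099) (.leaf 123260)) (.node (.leaf 104793) (.leaf 0))) (.node (.node (.leaf 10802) (.leaf 0)) (.node (.leaf 124330) (.leaf 0))))) (.node (.node (.node (.node (.leaf 29121) (.leaf 36050)) (.node (.leaf 121686) (.leaf 0))) (.node (.node (.leaf 82422) (.leaf 0)) (.node (.leaf 70654) (.leaf 0)))) (.node (.node (.node (.leaf 15845) (.leaf 81218)) (.node (.leaf 72099) (.leaf 0))) (.node (.node (.leaf 14690) (.leaf 0)) (.node (.leaf 63299) (.leaf 0))))))) (.node (.node (.node (.node (.node (.node (.leaf 64133) (.leaf 79832)) (.node (.leaf 44268) (.leaf 0))) (.node (.node (.leaf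 28114) (.leaf 0)) (.node (.leaf 55272) (.leaf 0)))) (.node (.node (.node (.leaf 101287) (.leaf 53420)) (.node (.leaf 30100) (.leaf 0))) (.node (.node (.leaf 51584) (.leaf 0)) (.node (.leaf 11391) (.leaf 0))))) (.node (.node (.node (.node (.leaf 46215) (.leaf 51430)) (.node (.leaf 57004) (.leaf 0))) (.node (.node (.leaf 78689) (.leaf 0)) (.node (.leaf 2845) (.leaf 0)))) (.node (.node (.node (.leaf 94600) (.leaf 120139)) (.node (.leaf 53122) (.leaf 0))) (.node (.node (.leaf 94063) (.leaf 0)) (.node (.leaf 14709) (.leaf 0)))))) (.node (.node (.node (.node (.node (.leaf 123366) (.leaf 63131)) (.node (.leaf 76047) (.leaf 0))) (.node (.node (.leaf 7207) (.leaf 0)) (.node (.leaf 126847) (.leaf 0)))) (.node (.node (.node (.leaf 7860) (.leaf 76722)) (.node (.leaf 58125) (.leaf 0))) (.node (.node (.leaf 86492) (.leaf 0)) (.node (.leaf 20723) (.leaf 0))))) (.node (.node (.node (.node (.leaf 94171) (.leaf 35650)) (.node (.leaf 1841) (.leaf 0))) (.node (.node (.leaf 23167) (.leaf 0)) (.node (.leaf 99205) (.leaf 0))))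 (.node (.node (.node (.leaf 117717) (.leaf 40437)) (.node (.leaf 98130) (.leaf 0))) (.node (.node (.leaf 37361) (.leaf 0)) (.node (.leaf 43884) (.leaf 0))))))))

def kT67 : NT := .node (.node (.node (.node (.node (.node (.node (.node (.leaf 17518) (.leaf 37886)) (.node (.leaf 50436) (.leaf 0))) (.node (.node (.leaf 54694) (.leaf 0)) (.node (.leaf 97085) (.leaf 0)))) (.node (.node (.node (.leaf 18293) (.leaf 23497)) (.node (.leaf 22235) (.leaf 0))) (.node (.node (.leaf 69554) (.leaf 0)) (.node (.leaf 36586) (.leaf 0))))) (.node (.node (.node (.node (.leaf 20619) (.leaf 78736)) (.node (.leaf 59211) (.leaf 0))) (.node (.node (.leaf 63170) (.leaf 0)) (.node (.leaf 111062) (.leaf 0)))) (.node (.node (.node (.leaf 25782) (.leaf 58244)) (.node (.leaf 15573) (.leaf 0))) (.node (.node (.leaf 26109) (.leaf 0)) (.node (.leaf 83206) (.leaf 0)))))) (.node (.node (.node (.node (.node (.leaf 54016) (.leaf 105822)) (.node (.leaf 36321) (.leaf 0))) (.node (.node (.leaf 59094) (.leaf 0)) (.node (.leaf 3579) (.leaf 0))))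 (.node (.node (.node (.leaf 20173) (.leaf 69381)) (.node (.leaf 124253) (.leaf 0))) (.node (.node (.leaf 36114) (.leaf 0)) (.node (.leaf 109314) (.leaf 0))))) (.node (.node (.node (.node (.leaf 81814) (.leaf 105466)) (.node (.leaf 22996) (.leaf 0))) (.node (.node (.leaf 99830) (.leaf 0)) (.node (.leaf 101711) (.leaf 0)))) (.node (.node (.node (.leaf 70544) (.leaf 130046)) (.node (.leaf 102686) (.leaf 0))) (.node (.node (.leaf 17129) (.leaf 0)) (.node (.leaf 39710) (.leaf 0))))))) (.node (.node (.node (.node (.node (.node (.leaf 98128) (.leaf 12860)) (.node (.leaf 89057) (.leaf 0))) (.node (.node (.leaf 9826) (.leaf 0)) (.node (.leaf 32138) (.leaf 0)))) (.node (.node (.node (.leaf 111994) (.leaf 25797)) (.node (.leaf 130399) (.leaf 0))) (.node (.node (.leaf 63833) (.leaf 0)) (.node (.leaf 97279) (.leaf 0))))) (.node (.node (.node (.node (.leaf 75119) (.leaf 67990)) (.node (.leaf 127775) (.leaf 0))) (.node (.node (.leaf 85910) (.leaf 0)) (.node (.leaf 58313) (.leaf 0)))) (.node (.node (.node (.leaf 95037)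 (.leaf 118023)) (.node (.leaf 6929) (.leaf 0))) (.node (.node (.leaf 59597) (.leaf 0)) (.node (.leaf 9384) (.leaf 0)))))) (.node (.node (.node (.node (.node (.leaf 43386) (.leaf 9291)) (.node (.leaf 32720) (.leaf 0))) (.node (.node (.leaf 76273) (.leaf 0)) (.node (.leaf 85293) (.leaf 0)))) (.node (.node (.node (.leaf 76744) (.leaf 105942)) (.node (.leaf 58157) (.leaf 0))) (.node (.node (.leaf 810) (.leaf 0)) (.node (.leaf 64927) (.leaf 0))))) (.node (.node (.node (.node (.leaf 1773) (.leaf 51091)) (.node (.leaf 129399) (.leaf 0))) (.node (.node (.leaf 88323) (.leaf 0)) (.node (.leaf 49135) (.leaf 0)))) (.node (.node (.node (.leaf 40732) (.leaf 31887)) (.node (.leaf 42978) (.leaf 0))) (.node (.node (.leaf 123726) (.leaf 0)) (.node (.leaf 25323) (.leaf 0)))))))) (.node (.node (.node (.node (.node (.node (.node (.leaf 98733) (.leaf 59238)) (.node (.leaf 40887) (.leaf 0))) (.node (.node (.leaf 130931) (.leaf 0)) (.node (.leaf 111081) (.leaf 0)))) (.node (.node (.node (.leaf 39753) (.leaf 124342)) (.node (.leaf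 69559) (.leaf 0))) (.node (.node (.leaf 98648) (.leaf 0)) (.node (.leaf 3971) (.leaf 0))))) (.node (.node (.node (.node (.leaf 98169) (.leaf 124184)) (.node (.leaf 62922) (.leaf 0))) (.node (.node (.leaf 86287) (.leaf 0)) (.node (.leaf 62130) (.leaf 0)))) (.node (.node (.node (.leaf 11342) (.leaf 35149)) (.node (.leaf 34669) (.leaf 0))) (.node (.node (.leaf 28440) (.leaf 0)) (.node (.leaf 71657) (.leaf 0)))))) (.node (.node (.node (.node (.node (.leaf 104360) (.leaf 69030)) (.node (.leaf 17756) (.leaf 0))) (.node (.node (.leaf 111100) (.leaf 0)) (.node (.leaf 14810) (.leaf 0)))) (.node (.node (.node (.leaf 109541) (.leaf 83867)) (.node (.leaf 78256) (.leaf 0))) (.node (.node (.leaf 1295) (.leaf 0)) (.node (.leaf 121737) (.leaf 0))))) (.node (.node (.node (.node (.leaf 24040) (.leaf 12656)) (.node (.leaf 31066) (.leaf 0))) (.node (.node (.leaf 82784) (.leaf 0)) (.node (.leaf 13393) (.leaf 0)))) (.node (.node (.node (.leaf 42129) (.leaf 124833)) (.node (.leaf 41782) (.leaf 0))) (.node (.node (.leaf 41608)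 (.leaf 0)) (.node (.leaf 16284) (.leaf 0))))))) (.node (.node (.node (.node (.node (.node (.leaf 122677) (.leaf 80829)) (.node (.leaf 62306) (.leaf 0))) (.node (.node (.leaf 83735) (.leaf 0)) (.node (.leaf 130503) (.leaf 0)))) (.node (.node (.node (.leaf 9307) (.leaf 80290)) (.node (.leaf 41840) (.leaf 0))) (.node (.node (.leaf 62683) (.leaf 0)) (.node (.leaf 22176) (.leaf 0))))) (.node (.node (.node (.node (.leaf 21636) (.leaf 19889)) (.node (.leaf 19103) (.leaf 0))) (.node (.node (.leaf 62424) (.leaf 0)) (.node (.leaf 40325) (.leaf 0)))) (.node (.node (.node (.leaf 16174) (.leaf 45546)) (.node (.leaf 15523) (.leaf 0))) (.node (.node (.leaf 88422) (.leaf 0)) (.node (.leaf 57668) (.leaf 0)))))) (.node (.node (.node (.node (.node (.leaf 41339) (.leaf 78168)) (.node (.leaf 56010) (.leaf 0))) (.node (.node (.leaf 82746) (.leaf 0)) (.node (.leaf 95733) (.leaf 0)))) (.node (.node (.node (.leaf 22187) (.leaf 121125)) (.node (.leaf 95209) (.leaf 0))) (.node (.node (.leaf 78112) (.leaf 0)) (.node (.leaf 48064)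 (.leaf 0))))) (.node (.node (.node (.node (.leaf 57298) (.leaf 27532)) (.node (.leaf 32154) (.leaf 0))) (.node (.node (.leaf 11677) (.leaf 0)) (.node (.leaf 5598) (.leaf 0)))) (.node (.node (.node (.leaf 80746) (.leaf 5267)) (.node (.leaf 127308) (.leaf 0))) (.node (.node (.leaf 18863) (.leaf 0)) (.node (.leaf 79106) (.leaf 0))))))))

def kT68 : NT := .node (.node (.node (.node (.node (.node (.node (.node (.leaf 917) (.leaf 63250)) (.node (.leaf 1948) (.leaf 0))) (.node (.node (.leaf 40910) (.leaf 0)) (.node (.leaf 126390) (.leaf 0)))) (.node (.node (.node (.leaf 59097) (.leaf 50945)) (.node (.leaf 19230) (.leaf 0))) (.node (.node (.leaf 15195) (.leaf 0)) (.node (.leaf 9481) (.leaf 0))))) (.node (.node (.node (.node (.leaf 5515) (.leaf 7224)) (.node (.leaf 37506) (.leaf 0))) (.node (.node (.leaf 24155) (.leaf 0)) (.node (.leaf 126877) (.leaf 0)))) (.node (.node (.node (.leaf 61388) (.leaf 125791)) (.node (.leaf 131001) (.leaf 0))) (.node (.node (.leaf 94695) (.leaf 0)) (.node (.leaf 24762) (.leaf 0))))))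 (.node (.node (.node (.node (.node (.leaf 6514) (.leaf 118254)) (.node (.leaf 44947) (.leaf 0))) (.node (.node (.leaf 8409) (.leaf 0)) (.node (.leaf 30398) (.leaf 0)))) (.node (.node (.node (.leaf 43742) (.leaf 62400)) (.node (.leaf 15209) (.leaf 0))) (.node (.node (.leaf 89942) (.leaf 0)) (.node (.leaf 93157) (.leaf 0))))) (.node (.node (.node (.node (.leaf 104316) (.leaf 33647)) (.node (.leaf 34775) (.leaf 0))) (.node (.node (.leaf 112027) (.leaf 0)) (.node (.leaf 46307) (.leaf 0)))) (.node (.node (.node (.leaf 72602) (.leaf 32207)) (.node (.leaf 107409) (.leaf 0))) (.node (.node (.leaf 46065) (.leaf 0)) (.node (.leaf 28319) (.leaf 0))))))) (.node (.node (.node (.node (.node (.node (.leaf 86870) (.leaf 17265)) (.node (.leaf 22384) (.leaf 0))) (.node (.node (.leaf 7896) (.leaf 0)) (.node (.leaf 1978) (.leaf 0)))) (.node (.node (.node (.leaf 74018) (.leaf 33225)) (.node (.leaf 106319) (.leaf 0))) (.node (.node (.leaf 30494) (.leaf 0)) (.node (.leaf 19259) (.leaf 0))))) (.node (.node (.node (.node (.leaf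 86964) (.leaf 36009)) (.node (.leaf 56641) (.leaf 0))) (.node (.node (.leaf 33962) (.leaf 0)) (.node (.leaf 121151) (.leaf 0)))) (.node (.node (.node (.leaf 89871) (.leaf 20549)) (.node (.leaf 95547) (.leaf 0))) (.node (.node (.leaf 31314) (.leaf 0)) (.node (.leaf 123305) (.leaf 0)))))) (.node (.node (.node (.node (.node (.leaf 74077) (.leaf 8894)) (.node (.leaf 42817) (.leaf 0))) (.node (.node (.leaf 21352) (.leaf 0)) (.node (.leaf 115083) (.leaf 0)))) (.node (.node (.node (.leaf 4350) (.leaf 12904)) (.node (.leaf 26836) (.leaf 0))) (.node (.node (.leaf 101208) (.leaf 0)) (.node (.leaf 20611) (.leaf 0))))) (.node (.node (.node (.node (.leaf 35299) (.leaf 81677)) (.node (.leaf 69891) (.leaf 0))) (.node (.node (.leaf 20773) (.leaf 0)) (.node (.leaf 78617) (.leaf 0)))) (.node (.node (.node (.leaf 33466) (.leaf 13856)) (.node (.leaf 89861) (.leaf 0))) (.node (.node (.leaf 92580) (.leaf 0)) (.node (.leaf 32527) (.leaf 0)))))))) (.node (.node (.node (.node (.node (.node (.node (.leaf 54614) (.leaf 126892))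 (.node (.leaf 40959) (.leaf 0))) (.node (.node (.leaf 48792) (.leaf 0)) (.node (.leaf 109918) (.leaf 0)))) (.node (.node (.node (.leaf 57840) (.leaf 72664)) (.node (.leaf 130901) (.leaf 0))) (.node (.node (.leaf 125352) (.leaf 0)) (.node (.leaf 120779) (.leaf 0))))) (.node (.node (.node (.node (.leaf 130938) (.leaf 124691)) (.node (.leaf 129014) (.leaf 0))) (.node (.node (.leaf 86339) (.leaf 0)) (.node (.leaf 9523) (.leaf 0)))) (.node (.node (.node (.leaf 59800) (.leaf 25309)) (.node (.leaf 86427) (.leaf 0))) (.node (.node (.leaf 68427) (.leaf 0)) (.node (.leaf 81271) (.leaf 0)))))) (.node (.node (.node (.node (.node (.leaf 49640) (.leaf 68421)) (.node (.leaf 125889) (.leaf 0))) (.node (.node (.leaf 35698) (.leaf 0)) (.node (.leaf 74500) (.leaf 0)))) (.node (.node (.node (.leaf 43494) (.leaf 38032)) (.node (.leaf 25957) (.leaf 0))) (.node (.node (.leaf 8492) (.leaf 0)) (.node (.leaf 99122) (.leaf 0))))) (.node (.node (.node (.node (.leaf 114597) (.leaf 42246)) (.node (.leaf 57839) (.leaf 0))) (.node (.node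 (.leaf 1480) (.leaf 0)) (.node (.leaf 6533) (.leaf 0)))) (.node (.node (.node (.leaf 16783) (.leaf 74751)) (.node (.leaf 48613) (.leaf 0))) (.node (.node (.leaf 50334) (.leaf 0)) (.node (.leaf 68993) (.leaf 0))))))) (.node (.node (.node (.node (.node (.node (.leaf 13068) (.leaf 46871)) (.node (.leaf 63773) (.leaf 0))) (.node (.node (.leaf 65933) (.leaf 0)) (.node (.leaf 61233) (.leaf 0)))) (.node (.node (.node (.leaf 14141) (.leaf 85929)) (.node (.leaf 124202) (.leaf 0))) (.node (.node (.leaf 19328) (.leaf 0)) (.node (.leaf 25250) (.leaf 0))))) (.node (.node (.node (.node (.leaf 5990) (.leaf 20131)) (.node (.leaf 6517) (.leaf 0))) (.node (.node (.leaf 77767) (.leaf 0)) (.node (.leaf 46531) (.leaf 0)))) (.node (.node (.node (.leaf 7071) (.leaf 95063)) (.node (.leaf 27496) (.leaf 0))) (.node (.node (.leaf 92966) (.leaf 0)) (.node (.leaf 27978) (.leaf 0)))))) (.node (.node (.node (.node (.node (.leaf 78651) (.leaf 3896)) (.node (.leaf 122673) (.leaf 0))) (.node (.node (.leaf 120771) (.leaf 0)) (.node (.leaf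 33428) (.leaf 0)))) (.node (.node (.node (.leaf 34961) (.leaf 88452)) (.node (.leaf 19918) (.leaf 0))) (.node (.node (.leaf 38170) (.leaf 0)) (.node (.leaf 45512) (.leaf 0))))) (.node (.node (.node (.node (.leaf 116572) (.leaf 19747)) (.node (.leaf 58193) (.leaf 0))) (.node (.node (.leaf 63414) (.leaf 0)) (.node (.leaf 111498) (.leaf 0)))) (.node (.node (.node (.leaf 5113) (.leaf 25556)) (.node (.leaf 54003) (.leaf 0))) (.node (.node (.leaf 41867) (.leaf 0)) (.node (.leaf 14473) (.leaf 0))))))))

def kT69 : NT := .node (.node (.node (.node (.node (.node (.node (.node (.leaf 60389) (.leaf 114605)) (.node (.leaf 21933) (.leaf 0))) (.node (.node (.leaf 6782) (.leaf 0)) (.node (.leaf 9512) (.leaf 0)))) (.node (.node (.node (.leaf 76689) (.leaf 7987)) (.node (.leaf 2549) (.leaf 0))) (.node (.node (.leaf 32084) (.leaf 0)) (.node (.leaf 113643) (.leaf 0))))) (.node (.node (.node (.node (.leaf 62261) (.leaf 61339)) (.node (.leaf 86973) (.leaf 0))) (.node (.node (.leaf 31915) (.leaf 0)) (.node (.leaf 1221) (.leaf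 0)))) (.node (.node (.node (.leaf 58249) (.leaf 70137)) (.node (.leaf 49625) (.leaf 0))) (.node (.node (.leaf 10595) (.leaf 0)) (.node (.leaf 96160) (.leaf 0)))))) (.node (.node (.node (.node (.node (.leaf 70627) (.leaf 35032)) (.node (.leaf 41615) (.leaf 0))) (.node (.node (.leaf 101334) (.leaf 0)) (.node (.leaf 44253) (.leaf 0)))) (.node (.node (.node (.leaf 91007) (.leaf 41465)) (.node (.leaf 15440) (.leaf 0))) (.node (.node (.leaf 20098) (.leaf 0)) (.node (.leaf 36259) (.leaf 0))))) (.node (.node (.node (.node (.leaf 23337) (.leaf 86845)) (.node (.leaf 78710) (.leaf 0))) (.node (.node (.leaf 20286) (.leaf 0)) (.node (.leaf 35103) (.leaf 0)))) (.node (.node (.node (.leaf 27459) (.leaf 121339)) (.node (.leaf 2722) (.leaf 0))) (.node (.node (.leaf 27465) (.leaf 0)) (.node (.leaf 45374) (.leaf 0))))))) (.node (.node (.node (.node (.node (.node (.leaf 26611) (.leaf 119078)) (.node (.leaf 40412) (.leaf 0))) (.node (.node (.leaf 72549) (.leaf 0)) (.node (.leaf 53508) (.leaf 0)))) (.node (.node (.node (.leaf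 38743) (.leaf 12145)) (.node (.leaf 106427) (.leaf 0))) (.node (.node (.leaf 81675) (.leaf 0)) (.node (.leaf 18841) (.leaf 0))))) (.node (.node (.node (.node (.leaf 3408) (.leaf 36104)) (.node (.leaf 32386) (.leaf 0))) (.node (.node (.leaf 37629) (.leaf 0)) (.node (.leaf 54056) (.leaf 0)))) (.node (.node (.node (.leaf 41697) (.leaf 4754)) (.node (.leaf 107462) (.leaf 0))) (.node (.node (.leaf 91962) (.leaf 0)) (.node (.leaf 76116) (.leaf 0)))))) (.node (.node (.node (.node (.node (.leaf 42330) (.leaf 24339)) (.node (.leaf 18871) (.leaf 0))) (.node (.node (.leaf 40312) (.leaf 0)) (.node (.leaf 71938) (.leaf 0)))) (.node (.node (.node (.leaf 13769) (.leaf 2350)) (.node (.leaf 84254) (.leaf 0))) (.node (.node (.leaf 2610) (.leaf 0)) (.node (.leaf 65474) (.leaf 0))))) (.node (.node (.node (.node (.leaf 104938) (.leaf 7220)) (.node (.leaf 17813) (.leaf 0))) (.node (.node (.leaf 3244) (.leaf 0)) (.node (.leaf 94469) (.leaf 0)))) (.node (.node (.node (.leaf 54167) (.leaf 54732)) (.node (.leaf 49148) (.leaf 0)))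 (.node (.node (.leaf 103724) (.leaf 0)) (.node (.leaf 77761) (.leaf 0)))))))) (.node (.node (.node (.node (.node (.node (.node (.leaf 26236) (.leaf 84883)) (.node (.leaf 122809) (.leaf 0))) (.node (.node (.leaf 22878) (.leaf 0)) (.node (.leaf 52978) (.leaf 0)))) (.node (.node (.node (.leaf 64325) (.leaf 54113)) (.node (.leaf 130047) (.leaf 0))) (.node (.node (.leaf 80165) (.leaf 0)) (.node (.leaf 52970) (.leaf 0))))) (.node (.node (.node (.node (.leaf 74236) (.leaf 129022)) (.node (.leaf 73031) (.leaf 0))) (.node (.node (.leaf 67433) (.leaf 0)) (.node (.leaf 112502) (.leaf 0)))) (.node (.node (.node (.leaf 52574) (.leaf 55428)) (.node (.leaf 51652) (.leaf 0))) (.node (.node (.leaf 6936) (.leaf 0)) (.node (.leaf 54422) (.leaf 0)))))) (.node (.node (.node (.node (.node (.leaf 35070) (.leaf 111372)) (.node (.leaf 89862) (.leaf 0))) (.node (.node (.leaf 83429) (.leaf 0)) (.node (.leaf 123360) (.leaf 0)))) (.node (.node (.node (.leaf 4458) (.leaf 1029)) (.node (.leaf 121783) (.leaf 0))) (.node (.node (.leaf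 30124) (.leaf 0)) (.node (.leaf 54146) (.leaf 0))))) (.node (.node (.node (.node (.leaf 46501) (.leaf 32229)) (.node (.leaf 21285) (.leaf 0))) (.node (.node (.leaf 109022) (.leaf 0)) (.node (.leaf 46540) (.leaf 0)))) (.node (.node (.node (.leaf 45567) (.leaf 47014)) (.node (.leaf 25952) (.leaf 0))) (.node (.node (.leaf 70473) (.leaf 0)) (.node (.leaf 27545) (.leaf 0))))))) (.node (.node (.node (.node (.node (.node (.leaf 19751) (.leaf 104417)) (.node (.leaf 117002) (.leaf 0))) (.node (.node (.leaf 42690) (.leaf 0)) (.node (.leaf 44160) (.leaf 0)))) (.node (.node (.node (.leaf 107270) (.leaf 47040)) (.node (.leaf 33556) (.leaf 0))) (.node (.node (.leaf 109532) (.leaf 0)) (.node (.leaf 52880) (.leaf 0))))) (.node (.node (.node (.node (.leaf 4568) (.leaf 82887)) (.node (.leaf 76240) (.leaf 0))) (.node (.node (.leaf 43950) (.leaf 0)) (.node (.leaf 2450) (.leaf 0)))) (.node (.node (.node (.leaf 23973) (.leaf 50650)) (.node (.leaf 91068) (.leaf 0))) (.node (.node (.leaf 16047) (.leaf 0)) (.node (.leaf 91482)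 (.leaf 0)))))) (.node (.node (.node (.node (.node (.leaf 24677) (.leaf 120820)) (.node (.leaf 43288) (.leaf 0))) (.node (.node (.leaf 39375) (.leaf 0)) (.node (.leaf 104263) (.leaf 0)))) (.node (.node (.node (.leaf 61155) (.leaf 16698)) (.node (.leaf 9355) (.leaf 0))) (.node (.node (.leaf 68970) (.leaf 0)) (.node (.leaf 101859) (.leaf 0))))) (.node (.node (.node (.node (.leaf 65021) (.leaf 58831)) (.node (.leaf 109922) (.leaf 0))) (.node (.node (.leaf 15410) (.leaf 0)) (.node (.leaf 20663) (.leaf 0)))) (.node (.node (.node (.leaf 15412) (.leaf 22615)) (.node (.leaf 54043) (.leaf 0))) (.node (.node (.leaf 23954) (.leaf 0)) (.node (.leaf 113598) (.leaf 0))))))))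

def kT70 : NT := .node (.node (.node (.node (.node (.node (.node (.node (.leaf 64502) (.leaf 71937)) (.node (.leaf 6581) (.leaf 0))) (.node (.node (.leaf 41885) (.leaf 0)) (.node (.leaf 97578) (.leaf 0)))) (.node (.node (.node (.leaf 54672) (.leaf 97787)) (.node (.leaf 5323) (.leaf 0))) (.node (.node (.leaf 25667) (.leaf 0)) (.node (.leaf 49943) (.leaf 0))))) (.node (.node (.node (.node (.leaf 7717) (.leaf 128285)) (.node (.leaf 60806) (.leaf 0))) (.node (.node (.leaf 128328) (.leaf 0)) (.node (.leaf 53563) (.leaf 0)))) (.node (.node (.node (.leaf 99214) (.leaf 17203)) (.node (.leaf 60563) (.leaf 0))) (.node (.node (.leaf 61219) (.leaf 0)) (.node (.leaf 48409) (.leaf 0)))))) (.node (.node (.node (.node (.node (.leaf 57165) (.leaf 39264)) (.node (.leaf 88901) (.leaf 0))) (.node (.node (.leaf 43205) (.leaf 0)) (.node (.leaf 17386) (.leaf 0)))) (.node (.node (.node (.leaf 38277) (.leaf 12382)) (.node (.leaf 729) (.leaf 0))) (.node (.node (.leaf 8423) (.leaf 0)) (.node (.leaf 59356) (.leaf 0))))) (.node (.node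 (.node (.node (.leaf 85360) (.leaf 13088)) (.node (.leaf 14889) (.leaf 0))) (.node (.node (.leaf 61127) (.leaf 0)) (.node (.leaf 40346) (.leaf 0)))) (.node (.node (.node (.leaf 19190) (.leaf 7075)) (.node (.leaf 44774) (.leaf 0))) (.node (.node (.leaf 58636) (.leaf 0)) (.node (.leaf 44815) (.leaf 0))))))) (.node (.node (.node (.node (.node (.node (.leaf 64925) (.leaf 120639)) (.node (.leaf 91566) (.leaf 0))) (.node (.node (.leaf 28869) (.leaf 0)) (.node (.leaf 15104) (.leaf 0)))) (.node (.node (.node (.leaf 75759) (.leaf 119208)) (.node (.leaf 98255) (.leaf 0))) (.node (.node (.leaf 63468) (.leaf 0)) (.node (.leaf 19172) (.leaf 0))))) (.node (.node (.node (.node (.leaf 121328) (.leaf 57332)) (.node (.leaf 126972) (.leaf 0))) (.node (.node (.leaf 74643) (.leaf 0)) (.node (.leaf 79316) (.leaf 0)))) (.node (.node (.node (.leaf 33625) (.leaf 37781)) (.node (.leaf 55223) (.leaf 0))) (.node (.node (.leaf 55265) (.leaf 0)) (.node (.leaf 96131) (.leaf 0)))))) (.node (.node (.node (.node (.node (.leaf 64423) (.leaf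 37375)) (.node (.leaf 91118) (.leaf 0))) (.node (.node (.leaf 27356) (.leaf 0)) (.node (.leaf 38765) (.leaf 0)))) (.node (.node (.node (.leaf 24487) (.leaf 19124)) (.node (.leaf 84865) (.leaf 0))) (.node (.node (.leaf 118177) (.leaf 0)) (.node (.leaf 92156) (.leaf 0))))) (.node (.node (.node (.node (.leaf 95191) (.leaf 53412)) (.node (.leaf 7100) (.leaf 0))) (.node (.node (.leaf 44990) (.leaf 0)) (.node (.leaf 88572) (.leaf 0)))) (.node (.node (.node (.leaf 100222) (.leaf 74528)) (.node (.leaf 70087) (.leaf 0))) (.node (.node (.leaf 124674) (.leaf 0)) (.node (.leaf 87481) (.leaf 0)))))))) (.node (.node (.node (.node (.node (.node (.node (.leaf 34702) (.leaf 60099)) (.node (.leaf 56735) (.leaf 0))) (.node (.node (.leaf 65455) (.leaf 0)) (.node (.leaf 45784) (.leaf 0)))) (.node (.node (.node (.leaf 83436) (.leaf 5432)) (.node (.leaf 123359) (.leaf 0))) (.node (.node (.leaf 44016) (.leaf 0)) (.node (.leaf 13487) (.leaf 0))))) (.node (.node (.node (.node (.leaf 70036) (.leaf 39863)) (.node (.leaf 117698) (.leaf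 0))) (.node (.node (.leaf 93069) (.leaf 0)) (.node (.leaf 48290) (.leaf 0)))) (.node (.node (.node (.leaf 33068) (.leaf 57804)) (.node (.leaf 38242) (.leaf 0))) (.node (.node (.leaf 85414) (.leaf 0)) (.node (.leaf 2759) (.leaf 0)))))) (.node (.node (.node (.node (.node (.leaf 61237) (.leaf 20886)) (.node (.leaf 111585) (.leaf 0))) (.node (.node (.leaf 14735) (.leaf 0)) (.node (.leaf 21849) (.leaf 0)))) (.node (.node (.node (.leaf 4681) (.leaf 14569)) (.node (.leaf 12733) (.leaf 0))) (.node (.node (.leaf 129283) (.leaf 0)) (.node (.leaf 10688) (.leaf 0))))) (.node (.node (.node (.node (.leaf 111045) (.leaf 44180)) (.node (.leaf 127239) (.leaf 0))) (.node (.node (.leaf 92997) (.leaf 0)) (.node (.leaf 1913) (.leaf 0)))) (.node (.node (.node (.leaf 45038) (.leaf 108466)) (.node (.leaf 31633) (.leaf 0))) (.node (.node (.leaf 97670) (.leaf 0)) (.node (.leaf 119159) (.leaf 0))))))) (.node (.node (.node (.node (.node (.node (.leaf 27956) (.leaf 61582)) (.node (.leaf 2507) (.leaf 0))) (.node (.node (.leaf 127415)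 (.leaf 0)) (.node (.leaf 4646) (.leaf 0)))) (.node (.node (.node (.leaf 98162) (.leaf 23975)) (.node (.leaf 5374) (.leaf 0))) (.node (.node (.leaf 33491) (.leaf 0)) (.node (.leaf 113484) (.leaf 0))))) (.node (.node (.node (.node (.leaf 62178) (.leaf 45849)) (.node (.leaf 32559) (.leaf 0))) (.node (.node (.leaf 91106) (.leaf 0)) (.node (.leaf 7619) (.leaf 0)))) (.node (.node (.node (.leaf 51386) (.leaf 61200)) (.node (.leaf 28067) (.leaf 0))) (.node (.node (.leaf 53566) (.leaf 0)) (.node (.leaf 35735) (.leaf 0)))))) (.node (.node (.node (.node (.node (.leaf 119112) (.leaf 66827)) (.node (.leaf 111470) (.leaf 0))) (.node (.node (.leaf 10474) (.leaf 0)) (.node (.leaf 14724) (.leaf 0)))) (.node (.node (.node (.leaf 101647) (.leaf 16045)) (.node (.leaf 21122) (.leaf 0))) (.node (.node (.leaf 89534) (.leaf 0)) (.node (.leaf 118051) (.leaf 0))))) (.node (.node (.node (.node (.leaf 122188) (.leaf 101259)) (.node (.leaf 35526) (.leaf 0))) (.node (.node (.leaf 57093) (.leaf 0)) (.node (.leaf 17604) (.leaf 0))))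 (.node (.node (.node (.leaf 5691) (.leaf 100226)) (.node (.leaf 114977) (.leaf 0))) (.node (.node (.leaf 104913) (.leaf 0)) (.node (.leaf 81693) (.leaf 0))))))))

def kT71 : NT := .node (.node (.node (.node (.node (.node (.node (.node (.leaf 67467) (.leaf 47398)) (.node (.leaf 21968) (.leaf 0))) (.node (.node (.leaf 108982) (.leaf 0)) (.node (.leaf 78667) (.leaf 0)))) (.node (.node (.node (.leaf 4135) (.leaf 57064)) (.node (.leaf 89452) (.leaf 0))) (.node (.node (.leaf 6099) (.leaf 0)) (.node (.leaf 59065) (.leaf 0))))) (.node (.node (.node (.node (.leaf 5803) (.leaf 44514)) (.node (.leaf 59754) (.leaf 0))) (.node (.node (.leaf 40209) (.leaf 0)) (.node (.leaf 4305) (.leaf 0)))) (.node (.node (.node (.leaf 116676) (.leaf 80871)) (.node (.leaf 15481) (.leaf 0))) (.node (.node (.leaf 61765) (.leaf 0)) (.node (.leaf 119678) (.leaf 0)))))) (.node (.node (.node (.node (.node (.leaf 751) (.leaf 94480)) (.node (.leaf 41122) (.leaf 0))) (.node (.node (.leaf 77622) (.leaf 0)) (.node (.leaf 130949) (.leaf 0)))) (.node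 (.node (.node (.leaf 4698) (.leaf 59295)) (.node (.leaf 24417) (.leaf 0))) (.node (.node (.leaf 42235) (.leaf 0)) (.node (.leaf 119090) (.leaf 0))))) (.node (.node (.node (.node (.leaf 71432) (.leaf 38042)) (.node (.leaf 96079) (.leaf 0))) (.node (.node (.leaf 45840) (.leaf 0)) (.node (.leaf 73113) (.leaf 0)))) (.node (.node (.node (.leaf 53920) (.leaf 125409)) (.node (.leaf 56116) (.leaf 0))) (.node (.node (.leaf 56963) (.leaf 0)) (.node (.leaf 6765) (.leaf 0))))))) (.node (.node (.node (.node (.node (.node (.leaf 68876) (.leaf 102793)) (.node (.leaf 130019) (.leaf 0))) (.node (.node (.leaf 45554) (.leaf 0)) (.node (.leaf 50512) (.leaf 0)))) (.node (.node (.node (.leaf 8099) (.leaf 1660)) (.node (.leaf 63633) (.leaf 0))) (.node (.node (.leaf 78702) (.leaf 0)) (.node (.leaf 2616) (.leaf 0))))) (.node (.node (.node (.node (.leaf 29992) (.leaf 22185)) (.node (.leaf 76717) (.leaf 0))) (.node (.node (.leaf 618) (.leaf 0)) (.node (.leaf 34739) (.leaf 0)))) (.node (.node (.node (.leaf 78316) (.leaf 38369)) (.node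 (.leaf 11416) (.leaf 0))) (.node (.node (.leaf 90892) (.leaf 0)) (.node (.leaf 15430) (.leaf 0)))))) (.node (.node (.node (.node (.node (.leaf 15125) (.leaf 130923)) (.node (.leaf 54639) (.leaf 0))) (.node (.node (.leaf 68034) (.leaf 0)) (.node (.leaf 106879) (.leaf 0)))) (.node (.node (.node (.leaf 55211) (.leaf 100313)) (.node (.leaf 27920) (.leaf 0))) (.node (.node (.leaf 30710) (.leaf 0)) (.node (.leaf 74724) (.leaf 0))))) (.node (.node (.node (.node (.leaf 15993) (.leaf 26194)) (.node (.leaf 8136) (.leaf 0))) (.node (.node (.leaf 62309) (.leaf 0)) (.node (.leaf 83825) (.leaf 0)))) (.node (.node (.node (.leaf 104362) (.leaf 13353)) (.node (.leaf 99227) (.leaf 0))) (.node (.node (.leaf 40404) (.leaf 0)) (.node (.leaf 49367) (.leaf 0)))))))) (.node (.node (.node (.node (.node (.node (.node (.leaf 42357) (.leaf 51540)) (.node (.leaf 116044) (.leaf 0))) (.node (.node (.leaf 67558) (.leaf 0)) (.node (.leaf 72188) (.leaf 0)))) (.node (.node (.node (.leaf 55445) (.leaf 58833)) (.node (.leaf 70592) (.leaf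 0))) (.node (.node (.leaf 44290) (.leaf 0)) (.node (.leaf 124376) (.leaf 0))))) (.node (.node (.node (.node (.leaf 79750) (.leaf 17515)) (.node (.leaf 42729) (.leaf 0))) (.node (.node (.leaf 48475) (.leaf 0)) (.node (.leaf 98620) (.leaf 0)))) (.node (.node (.node (.leaf 1430) (.leaf 32998)) (.node (.leaf 51702) (.leaf 0))) (.node (.node (.leaf 118085) (.leaf 0)) (.node (.leaf 80671) (.leaf 0)))))) (.node (.node (.node (.node (.node (.leaf 29937) (.leaf 9126)) (.node (.leaf 53985) (.leaf 0))) (.node (.node (.leaf 62179) (.leaf 0)) (.node (.leaf 33502) (.leaf 0)))) (.node (.node (.node (.leaf 79333) (.leaf 9108)) (.node (.leaf 70589) (.leaf 0))) (.node (.node (.leaf 42717) (.leaf 0)) (.node (.leaf 62708) (.leaf 0))))) (.node (.node (.node (.node (.leaf 43340) (.leaf 68372)) (.node (.leaf 26934) (.leaf 0))) (.node (.node (.leaf 83230) (.leaf 0)) (.node (.leaf 78245) (.leaf 0)))) (.node (.node (.node (.leaf 25550) (.leaf 99678)) (.node (.leaf 79646) (.leaf 0))) (.node (.node (.leaf 32178) (.leaf 0)) (.node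 (.leaf 94467) (.leaf 0))))))) (.node (.node (.node (.node (.node (.node (.leaf 30791) (.leaf 9103)) (.node (.leaf 16075) (.leaf 0))) (.node (.node (.leaf 45903) (.leaf 0)) (.node (.leaf 87866) (.leaf 0)))) (.node (.node (.node (.leaf 22698) (.leaf 41878)) (.node (.leaf 5827) (.leaf 0))) (.node (.node (.leaf 24337) (.leaf 0)) (.node (.leaf 673) (.leaf 0))))) (.node (.node (.node (.node (.leaf 22226) (.leaf 17567)) (.node (.leaf 29045) (.leaf 0))) (.node (.node (.leaf 92502) (.leaf 0)) (.node (.leaf 27632) (.leaf 0)))) (.node (.node (.node (.leaf 84935) (.leaf 30062)) (.node (.leaf 99223) (.leaf 0))) (.node (.node (.leaf 23284) (.leaf 0)) (.node (.leaf 37654) (.leaf 0)))))) (.node (.node (.node (.node (.node (.leaf 2423) (.leaf 91590)) (.node (.leaf 56729) (.leaf 0))) (.node (.node (.leaf 60659) (.leaf 0)) (.node (.leaf 28010) (.leaf 0)))) (.node (.node (.node (.leaf 8945) (.leaf 90065)) (.node (.leaf 126925) (.leaf 0))) (.node (.node (.leaf 124163) (.leaf 0)) (.node (.leaf 121326) (.leaf 0))))) (.node (.node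 (.node (.node (.leaf 90991) (.leaf 43399)) (.node (.leaf 69529) (.leaf 0))) (.node (.node (.leaf 8231) (.leaf 0)) (.node (.leaf 64360) (.leaf 0)))) (.node (.node (.node (.leaf 78089) (.leaf 7)) (.node (.leaf 26081) (.leaf 0))) (.node (.node (.leaf 39364) (.leaf 0)) (.node (.leaf 117612) (.leaf 0))))))))

def kT72 : NT := .node (.node (.node (.node (.node (.node (.node (.node (.leaf 26858) (.leaf 47342)) (.node (.leaf 59092) (.leaf 0))) (.node (.node (.leaf 20338) (.leaf 0)) (.node (.leaf 7701) (.leaf 0)))) (.node (.node (.node (.leaf 70404) (.leaf 8819)) (.node (.leaf 127783) (.leaf 0))) (.node (.node (.leaf 15116) (.leaf 0)) (.node (.leaf 98148) (.leaf 0))))) (.node (.node (.node (.node (.leaf 3511) (.leaf 94046)) (.node (.leaf 26848) (.leaf 0))) (.node (.node (.leaf 5663) (.leaf 0)) (.node (.leaf 115007) (.leaf 0)))) (.node (.node (.node (.leaf 99239) (.leaf 30418)) (.node (.leaf 51991) (.leaf 0))) (.node (.node (.leaf 130908) (.leaf 0)) (.node (.leaf 109030) (.leaf 0)))))) (.node (.node (.node (.node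 (.node (.leaf 116709) (.leaf 59126)) (.node (.leaf 102305) (.leaf 0))) (.node (.node (.leaf 10391) (.leaf 0)) (.node (.leaf 23116) (.leaf 0)))) (.node (.node (.node (.leaf 91638) (.leaf 79300)) (.node (.leaf 24801) (.leaf 0))) (.node (.node (.leaf 51082) (.leaf 0)) (.node (.leaf 7270) (.leaf 0))))) (.node (.node (.node (.node (.leaf 69067) (.leaf 17528)) (.node (.leaf 36836) (.leaf 0))) (.node (.node (.leaf 15808) (.leaf 0)) (.node (.leaf 44325) (.leaf 0)))) (.node (.node (.node (.leaf 59880) (.leaf 11016)) (.node (.leaf 30868) (.leaf 0))) (.node (.node (.leaf 8995) (.leaf 0)) (.node (.leaf 25991) (.leaf 0))))))) (.node (.node (.node (.node (.node (.node (.leaf 129899) (.leaf 1638)) (.node (.leaf 30648) (.leaf 0))) (.node (.node (.leaf 29783) (.leaf 0)) (.node (.leaf 88430) (.leaf 0)))) (.node (.node (.node (.leaf 115659) (.leaf 39275)) (.node (.leaf 115012) (.leaf 0))) (.node (.node (.leaf 14981) (.leaf 0)) (.node (.leaf 10505) (.leaf 0))))) (.node (.node (.node (.node (.leaf 83331) (.leaf 75575)) (.node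 (.leaf 9327) (.leaf 0))) (.node (.node (.leaf 103885) (.leaf 0)) (.node (.leaf 23136) (.leaf 0)))) (.node (.node (.node (.leaf 97562) (.leaf 52497)) (.node (.leaf 25436) (.leaf 0))) (.node (.node (.leaf 22992) (.leaf 0)) (.node (.leaf 64415) (.leaf 0)))))) (.node (.node (.node (.node (.node (.leaf 37682) (.leaf 101817)) (.node (.leaf 108525) (.leaf 0))) (.node (.node (.leaf 119149) (.leaf 0)) (.node (.leaf 10063) (.leaf 0)))) (.node (.node (.node (.leaf 77782) (.leaf 77237)) (.node (.leaf 31660) (.leaf 0))) (.node (.node (.leaf 11433) (.leaf 0)) (.node (.leaf 66931) (.leaf 0))))) (.node (.node (.node (.node (.leaf 107993) (.leaf 82271)) (.node (.leaf 115486) (.leaf 0))) (.node (.node (.leaf 29848) (.leaf 0)) (.node (.leaf 75097) (.leaf 0)))) (.node (.node (.node (.leaf 69115) (.leaf 32746)) (.node (.leaf 77206) (.leaf 0))) (.node (.node (.leaf 100701) (.leaf 0)) (.node (.leaf 25984) (.leaf 0)))))))) (.node (.node (.node (.node (.node (.node (.node (.leaf 26610) (.leaf 27850)) (.node (.leaf 92126) (.leaf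 0))) (.node (.node (.leaf 119181) (.leaf 0)) (.node (.leaf 7215) (.leaf 0)))) (.node (.node (.node (.leaf 50580) (.leaf 60857)) (.node (.leaf 29564) (.leaf 0))) (.node (.node (.leaf 7899) (.leaf 0)) (.node (.leaf 121718) (.leaf 0))))) (.node (.node (.node (.node (.leaf 123774) (.leaf 11202)) (.node (.leaf 124867) (.leaf 0))) (.node (.node (.leaf 29337) (.leaf 0)) (.node (.leaf 117098) (.leaf 0)))) (.node (.node (.node (.leaf 24920) (.leaf 57779)) (.node (.leaf 86802) (.leaf 0))) (.node (.node (.leaf 95667) (.leaf 0)) (.node (.leaf 17550) (.leaf 0)))))) (.node (.node (.node (.node (.node (.leaf 53637) (.leaf 30036)) (.node (.leaf 26428) (.leaf 0))) (.node (.node (.leaf 107977) (.leaf 0)) (.node (.leaf 58792) (.leaf 0)))) (.node (.node (.node (.leaf 39371) (.leaf 44527)) (.node (.leaf 74667) (.leaf 0))) (.node (.node (.leaf 102328) (.leaf 0)) (.node (.leaf 115666) (.leaf 0))))) (.node (.node (.node (.node (.leaf 77144) (.leaf 43329)) (.node (.leaf 23332) (.leaf 0))) (.node (.node (.leaf 44872) (.leaf 0))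 (.node (.leaf 30409) (.leaf 0)))) (.node (.node (.node (.leaf 74576) (.leaf 33979)) (.node (.leaf 112409) (.leaf 0))) (.node (.node (.leaf 38686) (.leaf 0)) (.node (.leaf 28650) (.leaf 0))))))) (.node (.node (.node (.node (.node (.node (.leaf 77729) (.leaf 40204)) (.node (.leaf 73037) (.leaf 0))) (.node (.node (.leaf 25240) (.leaf 0)) (.node (.leaf 32255) (.leaf 0)))) (.node (.node (.node (.leaf 96103) (.leaf 122801)) (.node (.leaf 126393) (.leaf 0))) (.node (.node (.leaf 78128) (.leaf 0)) (.node (.leaf 6741) (.leaf 0))))) (.node (.node (.node (.node (.leaf 117685) (.leaf 9920)) (.node (.leaf 84390) (.leaf 0))) (.node (.node (.leaf 60337) (.leaf 0)) (.node (.leaf 24254) (.leaf 0)))) (.node (.node (.node (.leaf 7708) (.leaf 61863)) (.node (.leaf 32708) (.leaf 0))) (.node (.node (.leaf 9771) (.leaf 0)) (.node (.leaf 23665) (.leaf 0)))))) (.node (.node (.node (.node (.node (.leaf 111516) (.leaf 57196)) (.node (.leaf 46514) (.leaf 0))) (.node (.node (.leaf 90996) (.leaf 0)) (.node (.leaf 124785) (.leaf 0))))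 (.node (.node (.node (.leaf 115563) (.leaf 117115)) (.node (.leaf 23647) (.leaf 0))) (.node (.node (.leaf 54069) (.leaf 0)) (.node (.leaf 36648) (.leaf 0))))) (.node (.node (.node (.node (.leaf 117722) (.leaf 23714)) (.node (.leaf 66407) (.leaf 0))) (.node (.node (.leaf 95089) (.leaf 0)) (.node (.leaf 70532) (.leaf 0)))) (.node (.node (.node (.leaf 115637) (.leaf 102368)) (.node (.leaf 54251) (.leaf 0))) (.node (.node (.leaf 7305) (.leaf 0)) (.node (.leaf 87378) (.leaf 0))))))))

def kT73 : NT := .node (.node (.node (.node (.node (.node (.node (.node (.leaf 24757) (.leaf 117083)) (.node (.leaf 111881) (.leaf 0))) (.node (.node (.leaf 125237) (.leaf 0)) (.node (.leaf 121600) (.leaf 0)))) (.node (.node (.node (.leaf 47494) (.leaf 14671)) (.node (.leaf 59311) (.leaf 0))) (.node (.node (.leaf 73990) (.leaf 0)) (.node (.leaf 19383) (.leaf 0))))) (.node (.node (.node (.node (.leaf 52637) (.leaf 5833)) (.node (.leaf 24824) (.leaf 0))) (.node (.node (.leaf 41283) (.leaf 0)) (.node (.leaf 45371) (.leaf 0)))) (.node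 (.node (.node (.leaf 20771) (.leaf 32546)) (.node (.leaf 83213) (.leaf 0))) (.node (.node (.leaf 64897) (.leaf 0)) (.node (.leaf 59331) (.leaf 0)))))) (.node (.node (.node (.node (.node (.leaf 64511) (.leaf 77309)) (.node (.leaf 20788) (.leaf 0))) (.node (.node (.leaf 26825) (.leaf 0)) (.node (.leaf 87444) (.leaf 0)))) (.node (.node (.node (.leaf 19881) (.leaf 54573)) (.node (.leaf 53664) (.leaf 0))) (.node (.node (.leaf 97153) (.leaf 0)) (.node (.leaf 2459) (.leaf 0))))) (.node (.node (.node (.node (.leaf 116075) (.leaf 118184)) (.node (.leaf 101705) (.leaf 0))) (.node (.node (.leaf 28404) (.leaf 0)) (.node (.leaf 18227) (.leaf 0)))) (.node (.node (.node (.leaf 68531) (.leaf 118656)) (.node (.leaf 8427) (.leaf 0))) (.node (.node (.leaf 80251) (.leaf 0)) (.node (.leaf 52005) (.leaf 0))))))) (.node (.node (.node (.node (.node (.node (.leaf 35153) (.leaf 22774)) (.node (.leaf 58803) (.leaf 0))) (.node (.node (.leaf 116139) (.leaf 0)) (.node (.leaf 127782) (.leaf 0)))) (.node (.node (.node (.leaf 19795) (.leaf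 102394)) (.node (.leaf 62598) (.leaf 0))) (.node (.node (.leaf 8540) (.leaf 0)) (.node (.leaf 62774) (.leaf 0))))) (.node (.node (.node (.node (.leaf 97165) (.leaf 23371)) (.node (.leaf 41244) (.leaf 0))) (.node (.node (.leaf 107509) (.leaf 0)) (.node (.leaf 37028) (.leaf 0)))) (.node (.node (.node (.leaf 23149) (.leaf 80143)) (.node (.leaf 34779) (.leaf 0))) (.node (.node (.leaf 8263) (.leaf 0)) (.node (.leaf 30400) (.leaf 0)))))) (.node (.node (.node (.node (.node (.leaf 44854) (.leaf 412)) (.node (.leaf 20175) (.leaf 0))) (.node (.node (.leaf 44216) (.leaf 0)) (.node (.leaf 62384) (.leaf 0)))) (.node (.node (.node (.leaf 101182) (.leaf 72448)) (.node (.leaf 96229) (.leaf 0))) (.node (.node (.leaf 107913) (.leaf 0)) (.node (.leaf 4308) (.leaf 0))))) (.node (.node (.node (.node (.leaf 61605) (.leaf 15394)) (.node (.leaf 58355) (.leaf 0))) (.node (.node (.leaf 62646) (.leaf 0)) (.node (.leaf 103787) (.leaf 0)))) (.node (.node (.node (.leaf 51564) (.leaf 7494)) (.node (.leaf 58711) (.leaf 0))) (.node (.node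 (.leaf 62243) (.leaf 0)) (.node (.leaf 34017) (.leaf 0)))))))) (.node (.node (.node (.node (.node (.node (.node (.leaf 76099) (.leaf 24368)) (.node (.leaf 74682) (.leaf 0))) (.node (.node (.leaf 14215) (.leaf 0)) (.node (.leaf 58822) (.leaf 0)))) (.node (.node (.node (.leaf 24957) (.leaf 10869)) (.node (.leaf 64744) (.leaf 0))) (.node (.node (.leaf 24457) (.leaf 0)) (.node (.leaf 22990) (.leaf 0))))) (.node (.node (.node (.node (.leaf 13924) (.leaf 125887)) (.node (.leaf 18307) (.leaf 0))) (.node (.node (.leaf 20420) (.leaf 0)) (.node (.leaf 58270) (.leaf 0)))) (.node (.node (.node (.leaf 34220) (.leaf 24372)) (.node (.leaf 52371) (.leaf 0))) (.node (.node (.leaf 23354) (.leaf 0)) (.node (.leaf 37774) (.leaf 0)))))) (.node (.node (.node (.node (.node (.leaf 60378) (.leaf 26067)) (.node (.leaf 57515) (.leaf 0))) (.node (.node (.leaf 58145) (.leaf 0)) (.node (.leaf 5141) (.leaf 0)))) (.node (.node (.node (.leaf 40285) (.leaf 38636)) (.node (.leaf 99676) (.leaf 0))) (.node (.node (.leaf 40252) (.leaf 0))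 (.node (.leaf 23869) (.leaf 0))))) (.node (.node (.node (.node (.leaf 4816) (.leaf 60166)) (.node (.leaf 85404) (.leaf 0))) (.node (.node (.leaf 4429) (.leaf 0)) (.node (.leaf 79748) (.leaf 0)))) (.node (.node (.node (.leaf 54756) (.leaf 11715)) (.node (.leaf 8374) (.leaf 0))) (.node (.node (.leaf 11395) (.leaf 0)) (.node (.leaf 125711) (.leaf 0))))))) (.node (.node (.node (.node (.node (.node (.leaf 61373) (.leaf 57305)) (.node (.leaf 31419) (.leaf 0))) (.node (.node (.leaf 67520) (.leaf 0)) (.node (.leaf 1356) (.leaf 0)))) (.node (.node (.node (.leaf 48024) (.leaf 20705)) (.node (.leaf 49317) (.leaf 0))) (.node (.node (.leaf 95568) (.leaf 0)) (.node (.leaf 16759) (.leaf 0))))) (.node (.node (.node (.node (.leaf 11826) (.leaf 96690)) (.node (.leaf 111520) (.leaf 0))) (.node (.node (.leaf 116619) (.leaf 0)) (.node (.leaf 22601) (.leaf 0)))) (.node (.node (.node (.leaf 26789) (.leaf 128477)) (.node (.leaf 119664) (.leaf 0))) (.node (.node (.leaf 55545) (.leaf 0)) (.node (.leaf 19093) (.leaf 0)))))) (.node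 (.node (.node (.node (.node (.leaf 21930) (.leaf 21110)) (.node (.leaf 52615) (.leaf 0))) (.node (.node (.leaf 112628) (.leaf 0)) (.node (.leaf 3574) (.leaf 0)))) (.node (.node (.node (.leaf 96196) (.leaf 36288)) (.node (.leaf 57608) (.leaf 0))) (.node (.node (.leaf 26936) (.leaf 0)) (.node (.leaf 48794) (.leaf 0))))) (.node (.node (.node (.node (.leaf 113420) (.leaf 110989)) (.node (.leaf 117609) (.leaf 0))) (.node (.node (.leaf 14382) (.leaf 0)) (.node (.leaf 121222) (.leaf 0)))) (.node (.node (.node (.leaf 61892) (.leaf 12357)) (.node (.leaf 48598) (.leaf 0))) (.node (.node (.leaf 9181) (.leaf 0)) (.node (.leaf 123811) (.leaf 0))))))))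

def kT74 : NT := .node (.node (.node (.node (.node (.node (.node (.node (.leaf 37881) (.leaf 62259)) (.node (.leaf 27902) (.leaf 0))) (.node (.node (.leaf 100620) (.leaf 0)) (.node (.leaf 49988) (.leaf 0)))) (.node (.node (.node (.leaf 24215) (.leaf 100220)) (.node (.leaf 41604) (.leaf 0))) (.node (.node (.leaf 21069) (.leaf 0)) (.node (.leaf 103331) (.leaf 0))))) (.node (.node (.node (.node (.leaf 24300) (.leaf 20898)) (.node (.leaf 44348) (.leaf 0))) (.node (.node (.leaf 11491) (.leaf 0)) (.node (.leaf 49969) (.leaf 0)))) (.node (.node (.node (.leaf 85807) (.leaf 6922)) (.node (.leaf 50873) (.leaf 0))) (.node (.node (.leaf 41683) (.leaf 0)) (.node (.leaf 2378) (.leaf 0)))))) (.node (.node (.node (.node (.node (.leaf 126728) (.leaf 1332)) (.node (.leaf 19916) (.leaf 0))) (.node (.node (.leaf 128892) (.leaf 0)) (.node (.leaf 88335) (.leaf 0)))) (.node (.node (.node (.leaf 13178) (.leaf 4832)) (.node (.leaf 111572) (.leaf 0))) (.node (.node (.leaf 58345) (.leaf 0)) (.node (.leaf 64157) (.leaf 0))))) (.node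 (.node (.node (.node (.leaf 89457) (.leaf 55295)) (.node (.leaf 37529) (.leaf 0))) (.node (.node (.leaf 843) (.leaf 0)) (.node (.leaf 80870) (.leaf 0)))) (.node (.node (.node (.leaf 14443) (.leaf 52722)) (.node (.leaf 80333) (.leaf 0))) (.node (.node (.leaf 25161) (.leaf 0)) (.node (.leaf 37092) (.leaf 0))))))) (.node (.node (.node (.node (.node (.node (.leaf 108800) (.leaf 367)) (.node (.leaf 23496) (.leaf 0))) (.node (.node (.leaf 70441) (.leaf 0)) (.node (.leaf 16058) (.leaf 0)))) (.node (.node (.node (.leaf 57775) (.leaf 26302)) (.node (.leaf 17056) (.leaf 0))) (.node (.node (.leaf 12468) (.leaf 0)) (.node (.leaf 48621) (.leaf 0))))) (.node (.node (.node (.node (.leaf 10236) (.leaf 114480)) (.node (.leaf 25390) (.leaf 0))) (.node (.node (.leaf 17908) (.leaf 0)) (.node (.leaf 15981) (.leaf 0)))) (.node (.node (.node (.leaf 37100) (.leaf 49570)) (.node (.leaf 6398) (.leaf 0))) (.node (.node (.leaf 34129) (.leaf 0)) (.node (.leaf 50843) (.leaf 0)))))) (.node (.node (.node (.node (.node (.leaf 63352) (.leaf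 38022)) (.node (.leaf 91018) (.leaf 0))) (.node (.node (.leaf 49324) (.leaf 0)) (.node (.leaf 48615) (.leaf 0)))) (.node (.node (.node (.leaf 92642) (.leaf 100098)) (.node (.leaf 85400) (.leaf 0))) (.node (.node (.leaf 108373) (.leaf 0)) (.node (.leaf 39054) (.leaf 0))))) (.node (.node (.node (.node (.leaf 6629) (.leaf 35638)) (.node (.leaf 12320) (.leaf 0))) (.node (.node (.leaf 76243) (.leaf 0)) (.node (.leaf 130873) (.leaf 0)))) (.node (.node (.node (.leaf 49956) (.leaf 71425)) (.node (.leaf 23514) (.leaf 0))) (.node (.node (.leaf 78141) (.leaf 0)) (.node (.leaf 73176) (.leaf 0)))))))) (.node (.node (.node (.node (.node (.node (.node (.leaf 103797) (.leaf 17734)) (.node (.leaf 10065) (.leaf 0))) (.node (.node (.leaf 25688) (.leaf 0)) (.node (.leaf 65955) (.leaf 0)))) (.node (.node (.node (.leaf 61327) (.leaf 16036)) (.node (.leaf 22475) (.leaf 0))) (.node (.node (.leaf 115648) (.leaf 0)) (.node (.leaf 39748) (.leaf 0))))) (.node (.node (.node (.node (.leaf 111507) (.leaf 65871)) (.node (.leaf 5228)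 (.leaf 0))) (.node (.node (.leaf 88866) (.leaf 0)) (.node (.leaf 42642) (.leaf 0)))) (.node (.node (.node (.leaf 118077) (.leaf 36085)) (.node (.leaf 75124) (.leaf 0))) (.node (.node (.leaf 11424) (.leaf 0)) (.node (.leaf 16184) (.leaf 0)))))) (.node (.node (.node (.node (.node (.leaf 47874) (.leaf 49475)) (.node (.leaf 99758) (.leaf 0))) (.node (.node (.leaf 64459) (.leaf 0)) (.node (.leaf 39680) (.leaf 0)))) (.node (.node (.node (.leaf 57524) (.leaf 15242)) (.node (.leaf 116221) (.leaf 0))) (.node (.node (.leaf 53395) (.leaf 0)) (.node (.leaf 5905) (.leaf 0))))) (.node (.node (.node (.node (.leaf 50556) (.leaf 34981)) (.node (.leaf 87011) (.leaf 0))) (.node (.node (.leaf 125834) (.leaf 0)) (.node (.leaf 40439) (.leaf 0)))) (.node (.node (.node (.leaf 45957) (.leaf 63429)) (.node (.leaf 94060) (.leaf 0))) (.node (.node (.leaf 25473) (.leaf 0)) (.node (.leaf 120727) (.leaf 0))))))) (.node (.node (.node (.node (.node (.node (.leaf 59626) (.leaf 131021)) (.node (.leaf 22375) (.leaf 0))) (.node (.node (.leaf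 125247) (.leaf 0)) (.node (.leaf 41330) (.leaf 0)))) (.node (.node (.node (.leaf 27954) (.leaf 67373)) (.node (.leaf 34642) (.leaf 0))) (.node (.node (.leaf 11722) (.leaf 0)) (.node (.leaf 38147) (.leaf 0))))) (.node (.node (.node (.node (.leaf 118087) (.leaf 68893)) (.node (.leaf 56570) (.leaf 0))) (.node (.node (.leaf 25878) (.leaf 0)) (.node (.leaf 29180) (.leaf 0)))) (.node (.node (.node (.leaf 24662) (.leaf 76146)) (.node (.leaf 21896) (.leaf 0))) (.node (.node (.leaf 18934) (.leaf 0)) (.node (.leaf 66884) (.leaf 0)))))) (.node (.node (.node (.node (.node (.leaf 3734) (.leaf 73498)) (.node (.leaf 15246) (.leaf 0))) (.node (.node (.leaf 629) (.leaf 0)) (.node (.leaf 27908) (.leaf 0)))) (.node (.node (.node (.leaf 63161) (.leaf 95130)) (.node (.leaf 89402) (.leaf 0))) (.node (.node (.leaf 18620) (.leaf 0)) (.node (.leaf 27998) (.leaf 0))))) (.node (.node (.node (.node (.leaf 23992) (.leaf 58799)) (.node (.leaf 10181) (.leaf 0))) (.node (.node (.leaf 19451) (.leaf 0)) (.node (.leaf 120299) (.leaf 0))))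 (.node (.node (.node (.leaf 36505) (.leaf 90536)) (.node (.leaf 36033) (.leaf 0))) (.node (.node (.leaf 23140) (.leaf 0)) (.node (.leaf 88466) (.leaf 0))))))))

def kT75 : NT := .node (.node (.node (.node (.node (.node (.node (.node (.leaf 101317) (.leaf 86502)) (.node (.leaf 25221) (.leaf 0))) (.node (.node (.leaf 91943) (.leaf 0)) (.node (.leaf 31690) (.leaf 0)))) (.node (.node (.node (.leaf 88055) (.leaf 18077)) (.node (.leaf 66830) (.leaf 0))) (.node (.node (.leaf 115705) (.leaf 0)) (.node (.leaf 3022) (.leaf 0))))) (.node (.node (.node (.node (.leaf 121636) (.leaf 74111)) (.node (.leaf 11430) (.leaf 0))) (.node (.node (.leaf 6470) (.leaf 0)) (.node (.leaf 41648) (.leaf 0)))) (.node (.node (.node (.leaf 46817) (.leaf 31145)) (.node (.leaf 21781) (.leaf 0))) (.node (.node (.leaf 24241) (.leaf 0)) (.node (.leaf 5075) (.leaf 0)))))) (.node (.node (.node (.node (.node (.leaf 28429) (.leaf 6778)) (.node (.leaf 107889) (.leaf 0))) (.node (.node (.leaf 21118) (.leaf 0)) (.node (.leaf 115585) (.leaf 0))))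 (.node (.node (.node (.leaf 100274) (.leaf 33135)) (.node (.leaf 58706) (.leaf 0))) (.node (.node (.leaf 10367) (.leaf 0)) (.node (.leaf 97540) (.leaf 0))))) (.node (.node (.node (.node (.leaf 75189) (.leaf 101689)) (.node (.leaf 117695) (.leaf 0))) (.node (.node (.leaf 107932) (.leaf 0)) (.node (.leaf 18058) (.leaf 0)))) (.node (.node (.node (.leaf 81890) (.leaf 75254)) (.node (.leaf 12446) (.leaf 0))) (.node (.node (.leaf 55161) (.leaf 0)) (.node (.leaf 254) (.leaf 0))))))) (.node (.node (.node (.node (.node (.node (.leaf 51978) (.leaf 16603)) (.node (.leaf 60618) (.leaf 0))) (.node (.node (.leaf 11521) (.leaf 0)) (.node (.leaf 60698) (.leaf 0)))) (.node (.node (.node (.leaf 41909) (.leaf 13457)) (.node (.leaf 76284) (.leaf 0))) (.node (.node (.leaf 29043) (.leaf 0)) (.node (.leaf 12391) (.leaf 0))))) (.node (.node (.node (.node (.leaf 42664) (.leaf 11263)) (.node (.leaf 112081) (.leaf 0))) (.node (.node (.leaf 1288) (.leaf 0)) (.node (.leaf 116201) (.leaf 0)))) (.node (.node (.node (.leaf 18555) (.leaf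 130969)) (.node (.leaf 40733) (.leaf 0))) (.node (.node (.leaf 35540) (.leaf 0)) (.node (.leaf 76640) (.leaf 0)))))) (.node (.node (.node (.node (.node (.leaf 27828) (.leaf 130914)) (.node (.leaf 22769) (.leaf 0))) (.node (.node (.leaf 7466) (.leaf 0)) (.node (.leaf 43231) (.leaf 0)))) (.node (.node (.node (.leaf 10032) (.leaf 60405)) (.node (.leaf 64301) (.leaf 0))) (.node (.node (.leaf 39397) (.leaf 0)) (.node (.leaf 100099) (.leaf 0))))) (.node (.node (.node (.node (.leaf 60657) (.leaf 23751)) (.node (.leaf 426) (.leaf 0))) (.node (.node (.leaf 51887) (.leaf 0)) (.node (.leaf 52444) (.leaf 0)))) (.node (.node (.node (.leaf 119156) (.leaf 129927)) (.node (.leaf 115039) (.leaf 0))) (.node (.node (.leaf 55799) (.leaf 0)) (.node (.leaf 57129) (.leaf 0)))))))) (.node (.node (.node (.node (.node (.node (.node (.leaf 32203) (.leaf 39042)) (.node (.leaf 17895) (.leaf 0))) (.node (.node (.leaf 34791) (.leaf 0)) (.node (.leaf 53709) (.leaf 0)))) (.node (.node (.node (.leaf 41810) (.leaf 55233)) (.node (.leaf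 97649) (.leaf 0))) (.node (.node (.leaf 3499) (.leaf 0)) (.node (.leaf 112487) (.leaf 0))))) (.node (.node (.node (.node (.leaf 13802) (.leaf 88505)) (.node (.leaf 6098) (.leaf 0))) (.node (.node (.leaf 34065) (.leaf 0)) (.node (.leaf 21988) (.leaf 0)))) (.node (.node (.node (.leaf 41621) (.leaf 44895)) (.node (.leaf 79324) (.leaf 0))) (.node (.node (.leaf 117206) (.leaf 0)) (.node (.leaf 20248) (.leaf 0)))))) (.node (.node (.node (.node (.node (.leaf 6191) (.leaf 1331)) (.node (.leaf 3862) (.leaf 0))) (.node (.node (.leaf 14394) (.leaf 0)) (.node (.leaf 123205) (.leaf 0)))) (.node (.node (.node (.leaf 101736) (.leaf 94129)) (.node (.leaf 125950) (.leaf 0))) (.node (.node (.leaf 2151) (.leaf 0)) (.node (.leaf 124752) (.leaf 0))))) (.node (.node (.node (.node (.leaf 119737) (.leaf 129352)) (.node (.leaf 11310) (.leaf 0))) (.node (.node (.leaf 15630) (.leaf 0)) (.node (.leaf 49064) (.leaf 0)))) (.node (.node (.node (.leaf 46274) (.leaf 27538)) (.node (.leaf 59874) (.leaf 0))) (.node (.node (.leaf 72117)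 (.leaf 0)) (.node (.leaf 19110) (.leaf 0))))))) (.node (.node (.node (.node (.node (.node (.leaf 82857) (.leaf 47535)) (.node (.leaf 45469) (.leaf 0))) (.node (.node (.leaf 21296) (.leaf 0)) (.node (.leaf 126765) (.leaf 0)))) (.node (.node (.node (.leaf 63405) (.leaf 111059)) (.node (.leaf 74101) (.leaf 0))) (.node (.node (.leaf 15011) (.leaf 0)) (.node (.leaf 40072) (.leaf 0))))) (.node (.node (.node (.node (.leaf 72588) (.leaf 79740)) (.node (.leaf 42314) (.leaf 0))) (.node (.node (.leaf 31632) (.leaf 0)) (.node (.leaf 105832) (.leaf 0)))) (.node (.node (.node (.leaf 51897) (.leaf 123327)) (.node (.leaf 125903) (.leaf 0))) (.node (.node (.leaf 8293) (.leaf 0)) (.node (.leaf 90939) (.leaf 0)))))) (.node (.node (.node (.node (.node (.leaf 16545) (.leaf 127260)) (.node (.leaf 45035) (.leaf 0))) (.node (.node (.leaf 61814) (.leaf 0)) (.node (.leaf 31644) (.leaf 0)))) (.node (.node (.node (.leaf 21753) (.leaf 49489)) (.node (.leaf 86402) (.leaf 0))) (.node (.node (.leaf 70938) (.leaf 0)) (.node (.leaf 31359)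 (.leaf 0))))) (.node (.node (.node (.node (.leaf 67967) (.leaf 57155)) (.node (.leaf 36336) (.leaf 0))) (.node (.node (.leaf 31849) (.leaf 0)) (.node (.leaf 92495) (.leaf 0)))) (.node (.node (.node (.leaf 119650) (.leaf 3826)) (.node (.leaf 9119) (.leaf 0))) (.node (.node (.leaf 121304) (.leaf 0)) (.node (.leaf 6272) (.leaf 0))))))))

def kT76 : NT := .node (.node (.node (.node (.node (.node (.node (.node (.leaf 11428) (.leaf 93475)) (.node (.leaf 50045) (.leaf 0))) (.node (.node (.leaf 28953) (.leaf 0)) (.node (.leaf 131007) (.leaf 0)))) (.node (.node (.node (.leaf 51432) (.leaf 103828)) (.node (.leaf 125215) (.leaf 0))) (.node (.node (.leaf 56746) (.leaf 0)) (.node (.leaf 21182) (.leaf 0))))) (.node (.node (.node (.node (.leaf 60281) (.leaf 40122)) (.node (.leaf 58856) (.leaf 0))) (.node (.node (.leaf 34710) (.leaf 0)) (.node (.leaf 32957) (.leaf 0)))) (.node (.node (.node (.leaf 85769) (.leaf 9781)) (.node (.leaf 21105) (.leaf 0))) (.node (.node (.leaf 70125) (.leaf 0)) (.node (.leaf 1242) (.leaf 0))))))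 (.node (.node (.node (.node (.node (.leaf 115181) (.leaf 23816)) (.node (.leaf 108999) (.leaf 0))) (.node (.node (.leaf 94190) (.leaf 0)) (.node (.leaf 54709) (.leaf 0)))) (.node (.node (.node (.leaf 42846) (.leaf 6323)) (.node (.leaf 32434) (.leaf 0))) (.node (.node (.leaf 9502) (.leaf 0)) (.node (.leaf 16760) (.leaf 0))))) (.node (.node (.node (.node (.leaf 128367) (.leaf 99808)) (.node (.leaf 27764) (.leaf 0))) (.node (.node (.leaf 69075) (.leaf 0)) (.node (.leaf 114489) (.leaf 0)))) (.node (.node (.node (.leaf 125700) (.leaf 34524)) (.node (.leaf 109566) (.leaf 0))) (.node (.node (.leaf 51365) (.leaf 0)) (.node (.leaf 76544) (.leaf 0))))))) (.node (.node (.node (.node (.node (.node (.leaf 21463) (.leaf 24807)) (.node (.leaf 14435) (.leaf 0))) (.node (.node (.leaf 63354) (.leaf 0)) (.node (.leaf 567) (.leaf 0)))) (.node (.node (.node (.leaf 104270) (.leaf 54994)) (.node (.leaf 42667) (.leaf 0))) (.node (.node (.leaf 75573) (.leaf 0)) (.node (.leaf 26224) (.leaf 0))))) (.node (.node (.node (.node (.leaf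 19161) (.leaf 18243)) (.node (.leaf 36794) (.leaf 0))) (.node (.node (.leaf 3149) (.leaf 0)) (.node (.leaf 124289) (.leaf 0)))) (.node (.node (.node (.leaf 76549) (.leaf 113565)) (.node (.leaf 86790) (.leaf 0))) (.node (.node (.leaf 39668) (.leaf 0)) (.node (.leaf 655) (.leaf 0)))))) (.node (.node (.node (.node (.node (.leaf 129339) (.leaf 9768)) (.node (.leaf 75261) (.leaf 0))) (.node (.node (.leaf 285) (.leaf 0)) (.node (.leaf 9524) (.leaf 0)))) (.node (.node (.node (.leaf 80874) (.leaf 20702)) (.node (.leaf 21199) (.leaf 0))) (.node (.node (.leaf 43402) (.leaf 0)) (.node (.leaf 45922) (.leaf 0))))) (.node (.node (.node (.node (.leaf 32360) (.leaf 46018)) (.node (.leaf 16620) (.leaf 0))) (.node (.node (.leaf 66833) (.leaf 0)) (.node (.leaf 43860) (.leaf 0)))) (.node (.node (.node (.leaf 45012) (.leaf 3235)) (.node (.leaf 11534) (.leaf 0))) (.node (.node (.leaf 22424) (.leaf 0)) (.node (.leaf 91429) (.leaf 0)))))))) (.node (.node (.node (.node (.node (.node (.node (.leaf 58319) (.leaf 47303)) (.node (.leaf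 43202) (.leaf 0))) (.node (.node (.leaf 117176) (.leaf 0)) (.node (.leaf 73510) (.leaf 0)))) (.node (.node (.node (.leaf 40600) (.leaf 129919)) (.node (.leaf 55570) (.leaf 0))) (.node (.node (.leaf 19769) (.leaf 0)) (.node (.leaf 57061) (.leaf 0))))) (.node (.node (.node (.node (.leaf 6900) (.leaf 34465)) (.node (.leaf 101272) (.leaf 0))) (.node (.node (.leaf 109865) (.leaf 0)) (.node (.leaf 116528) (.leaf 0)))) (.node (.node (.node (.leaf 81328) (.leaf 39237)) (.node (.leaf 70047) (.leaf 0))) (.node (.node (.leaf 67489) (.leaf 0)) (.node (.leaf 62433) (.leaf 0)))))) (.node (.node (.node (.node (.node (.leaf 70030) (.leaf 47431)) (.node (.leaf 109452) (.leaf 0))) (.node (.node (.leaf 65465) (.leaf 0)) (.node (.leaf 55648) (.leaf 0)))) (.node (.node (.node (.leaf 56712) (.leaf 62962)) (.node (.leaf 62869) (.leaf 0))) (.node (.node (.leaf 31464) (.leaf 0)) (.node (.leaf 37537) (.leaf 0))))) (.node (.node (.node (.node (.leaf 28388) (.leaf 89979)) (.node (.leaf 76726) (.leaf 0))) (.node (.node (.leaf 28567)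 (.leaf 0)) (.node (.leaf 67960) (.leaf 0)))) (.node (.node (.node (.leaf 26102) (.leaf 41114)) (.node (.leaf 59635) (.leaf 0))) (.node (.node (.leaf 79200) (.leaf 0)) (.node (.leaf 82279) (.leaf 0))))))) (.node (.node (.node (.node (.node (.node (.leaf 5578) (.leaf 11881)) (.node (.leaf 27810) (.leaf 0))) (.node (.node (.leaf 79158) (.leaf 0)) (.node (.leaf 114965) (.leaf 0)))) (.node (.node (.node (.leaf 29046) (.leaf 84859)) (.node (.leaf 73079) (.leaf 0))) (.node (.node (.leaf 65445) (.leaf 0)) (.node (.leaf 43941) (.leaf 0))))) (.node (.node (.node (.node (.leaf 11558) (.leaf 79651)) (.node (.leaf 34010) (.leaf 0))) (.node (.node (.leaf 15646) (.leaf 0)) (.node (.leaf 81397) (.leaf 0)))) (.node (.node (.node (.leaf 112928) (.leaf 60302)) (.node (.leaf 2484) (.leaf 0))) (.node (.node (.leaf 14844) (.leaf 0)) (.node (.leaf 115147) (.leaf 0)))))) (.node (.node (.node (.node (.node (.leaf 12852) (.leaf 76089)) (.node (.leaf 70915) (.leaf 0))) (.node (.node (.leaf 107420) (.leaf 0)) (.node (.leaf 43326)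 (.leaf 0)))) (.node (.node (.node (.leaf 60108) (.leaf 57123)) (.node (.leaf 39664) (.leaf 0))) (.node (.node (.leaf 20684) (.leaf 0)) (.node (.leaf 34215) (.leaf 0))))) (.node (.node (.node (.node (.leaf 19244) (.leaf 122675)) (.node (.leaf 102291) (.leaf 0))) (.node (.node (.leaf 64308) (.leaf 0)) (.node (.leaf 7389) (.leaf 0)))) (.node (.node (.node (.leaf 1931) (.leaf 69117)) (.node (.leaf 58291) (.leaf 0))) (.node (.node (.leaf 99168) (.leaf 0)) (.node (.leaf 90476) (.leaf 0))))))))

def kT77 : NT := .node (.node (.node (.node (.node (.node (.node (.node (.leaf 61216) (.leaf 61391)) (.node (.leaf 67415) (.leaf 0))) (.node (.node (.leaf 116489) (.leaf 0)) (.node (.leaf 15171) (.leaf 0)))) (.node (.node (.node (.leaf 100737) (.leaf 7018)) (.node (.leaf 66881) (.leaf 0))) (.node (.node (.leaf 80268) (.leaf 0)) (.node (.leaf 71671) (.leaf 0))))) (.node (.node (.node (.node (.leaf 19370) (.leaf 22133)) (.node (.leaf 130331) (.leaf 0))) (.node (.node (.leaf 82819) (.leaf 0)) (.node (.leaf 37372) (.leaf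 0)))) (.node (.node (.node (.leaf 15216) (.leaf 86824)) (.node (.leaf 26930) (.leaf 0))) (.node (.node (.leaf 13015) (.leaf 0)) (.node (.leaf 118681) (.leaf 0)))))) (.node (.node (.node (.node (.node (.leaf 33706) (.leaf 32741)) (.node (.leaf 31847) (.leaf 0))) (.node (.node (.leaf 42213) (.leaf 0)) (.node (.leaf 5052) (.leaf 0)))) (.node (.node (.node (.leaf 50840) (.leaf 43469)) (.node (.leaf 20893) (.leaf 0))) (.node (.node (.leaf 28636) (.leaf 0)) (.node (.leaf 100668) (.leaf 0))))) (.node (.node (.node (.node (.leaf 100649) (.leaf 68583)) (.node (.leaf 25208) (.leaf 0))) (.node (.node (.leaf 64686) (.leaf 0)) (.node (.leaf 103764) (.leaf 0)))) (.node (.node (.node (.leaf 63248) (.leaf 116550)) (.node (.leaf 20035) (.leaf 0))) (.node (.node (.leaf 44488) (.leaf 0)) (.node (.leaf 13105) (.leaf 0))))))) (.node (.node (.node (.node (.node (.node (.leaf 100208) (.leaf 46073)) (.node (.leaf 86282) (.leaf 0))) (.node (.node (.leaf 23762) (.leaf 0)) (.node (.leaf 106436) (.leaf 0)))) (.node (.node (.node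 (.leaf 3474) (.leaf 55605)) (.node (.leaf 111565) (.leaf 0))) (.node (.node (.leaf 99652) (.leaf 0)) (.node (.leaf 74728) (.leaf 0))))) (.node (.node (.node (.node (.leaf 91392) (.leaf 7485)) (.node (.leaf 86792) (.leaf 0))) (.node (.node (.leaf 11920) (.leaf 0)) (.node (.leaf 508) (.leaf 0)))) (.node (.node (.node (.leaf 16565) (.leaf 44919)) (.node (.leaf 13076) (.leaf 0))) (.node (.node (.leaf 127274) (.leaf 0)) (.node (.leaf 47981) (.leaf 0)))))) (.node (.node (.node (.node (.node (.leaf 45704) (.leaf 42626)) (.node (.leaf 1256) (.leaf 0))) (.node (.node (.leaf 51908) (.leaf 0)) (.node (.leaf 54580) (.leaf 0)))) (.node (.node (.node (.leaf 106418) (.leaf 31023)) (.node (.leaf 91006) (.leaf 0))) (.node (.node (.leaf 12661) (.leaf 0)) (.node (.leaf 50113) (.leaf 0))))) (.node (.node (.node (.node (.leaf 41395) (.leaf 61280)) (.node (.leaf 60057) (.leaf 0))) (.node (.node (.leaf 24842) (.leaf 0)) (.node (.leaf 61359) (.leaf 0)))) (.node (.node (.node (.leaf 83387) (.leaf 118683)) (.node (.leaf 63383)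 (.leaf 0))) (.node (.node (.leaf 12226) (.leaf 0)) (.node (.leaf 122289) (.leaf 0)))))))) (.node (.node (.node (.node (.node (.node (.node (.leaf 19235) (.leaf 125233)) (.node (.leaf 31935) (.leaf 0))) (.node (.node (.leaf 113481) (.leaf 0)) (.node (.leaf 41947) (.leaf 0)))) (.node (.node (.node (.leaf 100768) (.leaf 110040)) (.node (.leaf 59358) (.leaf 0))) (.node (.node (.leaf 106763) (.leaf 0)) (.node (.leaf 114483) (.leaf 0))))) (.node (.node (.node (.node (.leaf 18602) (.leaf 127865)) (.node (.leaf 101219) (.leaf 0))) (.node (.node (.leaf 2445) (.leaf 0)) (.node (.leaf 46246) (.leaf 0)))) (.node (.node (.node (.leaf 30819) (.leaf 32324)) (.node (.leaf 1502) (.leaf 0))) (.node (.node (.leaf 9208) (.leaf 0)) (.node (.leaf 78210) (.leaf 0)))))) (.node (.node (.node (.node (.node (.leaf 93479) (.leaf 28901)) (.node (.leaf 108020) (.leaf 0))) (.node (.node (.leaf 49513) (.leaf 0)) (.node (.leaf 1434) (.leaf 0)))) (.node (.node (.node (.leaf 123183) (.leaf 36132)) (.node (.leaf 45894) (.leaf 0))) (.node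 (.node (.leaf 56463) (.leaf 0)) (.node (.leaf 41972) (.leaf 0))))) (.node (.node (.node (.node (.leaf 54017) (.leaf 11999)) (.node (.leaf 104311) (.leaf 0))) (.node (.node (.leaf 108501) (.leaf 0)) (.node (.leaf 1446) (.leaf 0)))) (.node (.node (.node (.leaf 64165) (.leaf 15198)) (.node (.leaf 119154) (.leaf 0))) (.node (.node (.leaf 21685) (.leaf 0)) (.node (.leaf 47823) (.leaf 0))))))) (.node (.node (.node (.node (.node (.node (.leaf 83733) (.leaf 48534)) (.node (.leaf 101878) (.leaf 0))) (.node (.node (.leaf 30921) (.leaf 0)) (.node (.leaf 13110) (.leaf 0)))) (.node (.node (.node (.leaf 26517) (.leaf 76784)) (.node (.leaf 25040) (.leaf 0))) (.node (.node (.leaf 14613) (.leaf 0)) (.node (.leaf 80816) (.leaf 0))))) (.node (.node (.node (.node (.leaf 100223) (.leaf 116995)) (.node (.leaf 8019) (.leaf 0))) (.node (.node (.leaf 93641) (.leaf 0)) (.node (.leaf 99316) (.leaf 0)))) (.node (.node (.node (.leaf 38020) (.leaf 23731)) (.node (.leaf 33939) (.leaf 0))) (.node (.node (.leaf 57480) (.leaf 0)) (.node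 (.leaf 91599) (.leaf 0)))))) (.node (.node (.node (.node (.node (.leaf 75534) (.leaf 104907)) (.node (.leaf 7533) (.leaf 0))) (.node (.node (.leaf 127383) (.leaf 0)) (.node (.leaf 105266) (.leaf 0)))) (.node (.node (.node (.leaf 55624) (.leaf 14880)) (.node (.leaf 14901) (.leaf 0))) (.node (.node (.leaf 31028) (.leaf 0)) (.node (.leaf 61423) (.leaf 0))))) (.node (.node (.node (.node (.leaf 50423) (.leaf 5678)) (.node (.leaf 12339) (.leaf 0))) (.node (.node (.leaf 17057) (.leaf 0)) (.node (.leaf 114116) (.leaf 0)))) (.node (.node (.node (.leaf 14997) (.leaf 15855)) (.node (.leaf 53727) (.leaf 0))) (.node (.node (.leaf 97037) (.leaf 0)) (.node (.leaf 13452) (.leaf 0))))))))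

def kT78 : NT := .node (.node (.node (.node (.node (.node (.node (.node (.leaf 112403) (.leaf 95711)) (.node (.leaf 73163) (.leaf 0))) (.node (.node (.leaf 124803) (.leaf 0)) (.node (.leaf 59142) (.leaf 0)))) (.node (.node (.node (.leaf 89444) (.leaf 130043)) (.node (.leaf 45459) (.leaf 0))) (.node (.node (.leaf 68902) (.leaf 0)) (.node (.leaf 42770) (.leaf 0))))) (.node (.node (.node (.node (.leaf 14058) (.leaf 27517)) (.node (.leaf 32414) (.leaf 0))) (.node (.node (.leaf 38265) (.leaf 0)) (.node (.leaf 109360) (.leaf 0)))) (.node (.node (.node (.leaf 61937) (.leaf 37844)) (.node (.leaf 59144) (.leaf 0))) (.node (.node (.leaf 113087) (.leaf 0)) (.node (.leaf 121655) (.leaf 0)))))) (.node (.node (.node (.node (.node (.leaf 95163) (.leaf 20946)) (.node (.leaf 87416) (.leaf 0))) (.node (.node (.leaf 15863) (.leaf 0)) (.node (.leaf 2230) (.leaf 0)))) (.node (.node (.node (.leaf 51065) (.leaf 63798)) (.node (.leaf 33264) (.leaf 0))) (.node (.node (.leaf 32100) (.leaf 0)) (.node (.leaf 48788) (.leaf 0)))))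 (.node (.node (.node (.node (.leaf 10530) (.leaf 11236)) (.node (.leaf 27741) (.leaf 0))) (.node (.node (.leaf 9963) (.leaf 0)) (.node (.leaf 31423) (.leaf 0)))) (.node (.node (.node (.leaf 57306) (.leaf 10989)) (.node (.leaf 55699) (.leaf 0))) (.node (.node (.leaf 98629) (.leaf 0)) (.node (.leaf 5328) (.leaf 0))))))) (.node (.node (.node (.node (.node (.node (.leaf 26025) (.leaf 20762)) (.node (.leaf 33457) (.leaf 0))) (.node (.node (.leaf 99739) (.leaf 0)) (.node (.leaf 44273) (.leaf 0)))) (.node (.node (.node (.leaf 36130) (.leaf 12366)) (.node (.leaf 24948) (.leaf 0))) (.node (.node (.leaf 2590) (.leaf 0)) (.node (.leaf 112539) (.leaf 0))))) (.node (.node (.node (.node (.leaf 6417) (.leaf 117567)) (.node (.leaf 33152) (.leaf 0))) (.node (.node (.leaf 48285) (.leaf 0)) (.node (.leaf 6280) (.leaf 0)))) (.node (.node (.node (.leaf 111371) (.leaf 116191)) (.node (.leaf 62700) (.leaf 0))) (.node (.node (.leaf 76053) (.leaf 0)) (.node (.leaf 113140) (.leaf 0)))))) (.node (.node (.node (.node (.node (.leaf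 57617) (.leaf 34643)) (.node (.leaf 36594) (.leaf 0))) (.node (.node (.leaf 119144) (.leaf 0)) (.node (.leaf 4668) (.leaf 0)))) (.node (.node (.node (.leaf 48987) (.leaf 85905)) (.node (.leaf 47333) (.leaf 0))) (.node (.node (.leaf 84448) (.leaf 0)) (.node (.leaf 90418) (.leaf 0))))) (.node (.node (.node (.node (.leaf 55241) (.leaf 1351)) (.node (.leaf 54119) (.leaf 0))) (.node (.node (.leaf 33773) (.leaf 0)) (.node (.leaf 20793) (.leaf 0)))) (.node (.node (.node (.leaf 57264) (.leaf 20839)) (.node (.leaf 117078) (.leaf 0))) (.node (.node (.leaf 4048) (.leaf 0)) (.node (.leaf 46315) (.leaf 0)))))))) (.node (.node (.node (.node (.node (.node (.node (.leaf 107920) (.leaf 52916)) (.node (.leaf 128972) (.leaf 0))) (.node (.node (.leaf 28298) (.leaf 0)) (.node (.leaf 106377) (.leaf 0)))) (.node (.node (.node (.leaf 2283) (.leaf 63257)) (.node (.leaf 44830) (.leaf 0))) (.node (.node (.leaf 82226) (.leaf 0)) (.node (.leaf 87389) (.leaf 0))))) (.node (.node (.node (.node (.leaf 11946) (.leaf 12948)) (.node (.leaf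 10125) (.leaf 0))) (.node (.node (.leaf 11724) (.leaf 0)) (.node (.leaf 68005) (.leaf 0)))) (.node (.node (.node (.leaf 63865) (.leaf 130956)) (.node (.leaf 38537) (.leaf 0))) (.node (.node (.leaf 80152) (.leaf 0)) (.node (.leaf 65829) (.leaf 0)))))) (.node (.node (.node (.node (.node (.leaf 2441) (.leaf 59156)) (.node (.leaf 48912) (.leaf 0))) (.node (.node (.leaf 8581) (.leaf 0)) (.node (.leaf 109547) (.leaf 0)))) (.node (.node (.node (.leaf 16261) (.leaf 2274)) (.node (.leaf 46287) (.leaf 0))) (.node (.node (.leaf 14222) (.leaf 0)) (.node (.leaf 37868) (.leaf 0))))) (.node (.node (.node (.node (.leaf 60702) (.leaf 116056)) (.node (.leaf 8030) (.leaf 0))) (.node (.node (.leaf 52212) (.leaf 0)) (.node (.leaf 57188) (.leaf 0)))) (.node (.node (.node (.leaf 44308) (.leaf 29503)) (.node (.leaf 94627) (.leaf 0))) (.node (.node (.leaf 39926) (.leaf 0)) (.node (.leaf 10127) (.leaf 0))))))) (.node (.node (.node (.node (.node (.node (.leaf 53926) (.leaf 104801)) (.node (.leaf 63834) (.leaf 0))) (.node (.node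 (.leaf 30084) (.leaf 0)) (.node (.leaf 30070) (.leaf 0)))) (.node (.node (.node (.leaf 65432) (.leaf 26939)) (.node (.leaf 75763) (.leaf 0))) (.node (.node (.leaf 37815) (.leaf 0)) (.node (.leaf 62619) (.leaf 0))))) (.node (.node (.node (.node (.leaf 75757) (.leaf 26519)) (.node (.leaf 80140) (.leaf 0))) (.node (.node (.leaf 72654) (.leaf 0)) (.node (.leaf 23922) (.leaf 0)))) (.node (.node (.node (.leaf 38603) (.leaf 53178)) (.node (.leaf 23267) (.leaf 0))) (.node (.node (.leaf 115162) (.leaf 0)) (.node (.leaf 39234) (.leaf 0)))))) (.node (.node (.node (.node (.node (.leaf 55191) (.leaf 82728)) (.node (.leaf 59571) (.leaf 0))) (.node (.node (.leaf 116574) (.leaf 0)) (.node (.leaf 80743) (.leaf 0)))) (.node (.node (.node (.leaf 39797) (.leaf 266)) (.node (.leaf 5386) (.leaf 0))) (.node (.node (.leaf 5174) (.leaf 0)) (.node (.leaf 1663) (.leaf 0))))) (.node (.node (.node (.node (.leaf 33745) (.leaf 13650)) (.node (.leaf 74555) (.leaf 0))) (.node (.node (.leaf 61921) (.leaf 0)) (.node (.leaf 97668) (.leaf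 0)))) (.node (.node (.node (.leaf 129356) (.leaf 63737)) (.node (.leaf 119167) (.leaf 0))) (.node (.node (.leaf 114960) (.leaf 0)) (.node (.leaf 43900) (.leaf 0))))))))

def kT79 : NT := .node (.node (.node (.node (.node (.node (.node (.node (.leaf 21211) (.leaf 40260)) (.node (.leaf 35723) (.leaf 0))) (.node (.node (.leaf 83864) (.leaf 0)) (.node (.leaf 75561) (.leaf 0)))) (.node (.node (.node (.leaf 67915) (.leaf 57303)) (.node (.leaf 55235) (.leaf 0))) (.node (.node (.leaf 101759) (.leaf 0)) (.node (.leaf 33527) (.leaf 0))))) (.node (.node (.node (.node (.leaf 23787) (.leaf 96130)) (.node (.leaf 71552) (.leaf 0))) (.node (.node (.leaf 29304) (.leaf 0)) (.node (.leaf 52531) (.leaf 0)))) (.node (.node (.node (.leaf 53153) (.leaf 57634)) (.node (.leaf 32979) (.leaf 0))) (.node (.node (.leaf 126824) (.leaf 0)) (.node (.leaf 67580) (.leaf 0)))))) (.node (.node (.node (.node (.node (.leaf 19553) (.leaf 20726)) (.node (.leaf 851) (.leaf 0))) (.node (.node (.leaf 82268) (.leaf 0)) (.node (.leaf 66391) (.leaf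 0)))) (.node (.node (.node (.leaf 83344) (.leaf 64656)) (.node (.leaf 94648) (.leaf 0))) (.node (.node (.leaf 28562) (.leaf 0)) (.node (.leaf 65987) (.leaf 0))))) (.node (.node (.node (.node (.leaf 61571) (.leaf 17030)) (.node (.leaf 2620) (.leaf 0))) (.node (.node (.leaf 110531) (.leaf 0)) (.node (.leaf 128790) (.leaf 0)))) (.node (.node (.node (.leaf 122719) (.leaf 39276)) (.node (.leaf 23539) (.leaf 0))) (.node (.node (.leaf 8436) (.leaf 0)) (.node (.leaf 3909) (.leaf 0))))))) (.node (.node (.node (.node (.node (.node (.leaf 22507) (.leaf 130343)) (.node (.leaf 62317) (.leaf 0))) (.node (.node (.leaf 84400) (.leaf 0)) (.node (.leaf 12184) (.leaf 0)))) (.node (.node (.node (.leaf 38872) (.leaf 17681)) (.node (.leaf 126909) (.leaf 0))) (.node (.node (.leaf 64221) (.leaf 0)) (.node (.leaf 7209) (.leaf 0))))) (.node (.node (.node (.node (.leaf 27906) (.leaf 50459)) (.node (.leaf 3906) (.leaf 0))) (.node (.node (.leaf 59388) (.leaf 0)) (.node (.leaf 119789) (.leaf 0)))) (.node (.node (.node (.leaf 20791)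 (.leaf 92159)) (.node (.leaf 61865) (.leaf 0))) (.node (.node (.leaf 23741) (.leaf 0)) (.node (.leaf 10641) (.leaf 0)))))) (.node (.node (.node (.node (.node (.leaf 80190) (.leaf 6709)) (.node (.leaf 27757) (.leaf 0))) (.node (.node (.leaf 112992) (.leaf 0)) (.node (.leaf 84347) (.leaf 0)))) (.node (.node (.node (.leaf 45414) (.leaf 59344)) (.node (.leaf 42746) (.leaf 0))) (.node (.node (.leaf 52025) (.leaf 0)) (.node (.leaf 121714) (.leaf 0))))) (.node (.node (.node (.node (.leaf 12955) (.leaf 123827)) (.node (.leaf 51840) (.leaf 0))) (.node (.node (.leaf 6001) (.leaf 0)) (.node (.leaf 63710) (.leaf 0)))) (.node (.node (.node (.leaf 86812) (.leaf 34110)) (.node (.leaf 110338) (.leaf 0))) (.node (.node (.leaf 120660) (.leaf 0)) (.node (.leaf 50957) (.leaf 0)))))))) (.node (.node (.node (.node (.node (.node (.node (.leaf 8021) (.leaf 68956)) (.node (.leaf 57198) (.leaf 0))) (.node (.node (.leaf 96252) (.leaf 0)) (.node (.leaf 114608) (.leaf 0)))) (.node (.node (.node (.leaf 11222) (.leaf 100633)) (.node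 (.leaf 115559) (.leaf 0))) (.node (.node (.leaf 128429) (.leaf 0)) (.node (.leaf 12842) (.leaf 0))))) (.node (.node (.node (.node (.leaf 129978) (.leaf 35042)) (.node (.leaf 15418) (.leaf 0))) (.node (.node (.leaf 5283) (.leaf 0)) (.node (.leaf 129826) (.leaf 0)))) (.node (.node (.node (.leaf 25237) (.leaf 77748)) (.node (.leaf 55012) (.leaf 0))) (.node (.node (.leaf 20366) (.leaf 0)) (.node (.leaf 42857) (.leaf 0)))))) (.node (.node (.node (.node (.node (.leaf 47578) (.leaf 113552)) (.node (.leaf 59093) (.leaf 0))) (.node (.node (.leaf 46512) (.leaf 0)) (.node (.leaf 30642) (.leaf 0)))) (.node (.node (.node (.leaf 115009) (.leaf 98153)) (.node (.leaf 3013) (.leaf 0))) (.node (.node (.leaf 40379) (.leaf 0)) (.node (.leaf 33733) (.leaf 0))))) (.node (.node (.node (.node (.leaf 26225) (.leaf 42384)) (.node (.leaf 58225) (.leaf 0))) (.node (.node (.leaf 27021) (.leaf 0)) (.node (.leaf 2205) (.leaf 0)))) (.node (.node (.node (.leaf 22451) (.leaf 56282)) (.node (.leaf 8465) (.leaf 0))) (.node (.node (.leaf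 78684) (.leaf 0)) (.node (.leaf 89383) (.leaf 0))))))) (.node (.node (.node (.node (.node (.node (.leaf 11122) (.leaf 77193)) (.node (.leaf 65007) (.leaf 0))) (.node (.node (.leaf 103238) (.leaf 0)) (.node (.leaf 22312) (.leaf 0)))) (.node (.node (.node (.leaf 16207) (.leaf 117240)) (.node (.leaf 79258) (.leaf 0))) (.node (.node (.leaf 26032) (.leaf 0)) (.node (.leaf 65886) (.leaf 0))))) (.node (.node (.node (.node (.leaf 12341) (.leaf 122175)) (.node (.leaf 69014) (.leaf 0))) (.node (.node (.leaf 104373) (.leaf 0)) (.node (.leaf 27031) (.leaf 0)))) (.node (.node (.node (.leaf 90483) (.leaf 16212)) (.node (.leaf 25892) (.leaf 0))) (.node (.node (.leaf 106776) (.leaf 0)) (.node (.leaf 49871) (.leaf 0)))))) (.node (.node (.node (.node (.node (.leaf 66011) (.leaf 50946)) (.node (.leaf 50682) (.leaf 0))) (.node (.node (.leaf 15355) (.leaf 0)) (.node (.leaf 72522) (.leaf 0)))) (.node (.node (.node (.leaf 126808) (.leaf 34576)) (.node (.leaf 73724) (.leaf 0))) (.node (.node (.leaf 31718) (.leaf 0)) (.node (.leaf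 24870) (.leaf 0))))) (.node (.node (.node (.node (.leaf 51472) (.leaf 41654)) (.node (.leaf 55500) (.leaf 0))) (.node (.node (.leaf 21928) (.leaf 0)) (.node (.leaf 3113) (.leaf 0)))) (.node (.node (.node (.leaf 12325) (.leaf 37644)) (.node (.leaf 17729) (.leaf 0))) (.node (.node (.leaf 83921) (.leaf 0)) (.node (.leaf 6175) (.leaf 0))))))))

def kT80 : NT := .node (.node (.node (.node (.node (.node (.node (.node (.leaf 120125) (.leaf 16540)) (.node (.leaf 117127) (.leaf 0))) (.node (.node (.leaf 35727) (.leaf 0)) (.node (.leaf 102374) (.leaf 0)))) (.node (.node (.node (.leaf 42858) (.leaf 105915)) (.node (.leaf 51398) (.leaf 0))) (.node (.node (.leaf 26522) (.leaf 0)) (.node (.leaf 102264) (.leaf 0))))) (.node (.node (.node (.node (.leaf 45533) (.leaf 49853)) (.node (.leaf 53916) (.leaf 0))) (.node (.node (.leaf 113060) (.leaf 0)) (.node (.leaf 96069) (.leaf 0)))) (.node (.node (.node (.leaf 3164) (.leaf 22626)) (.node (.leaf 51996) (.leaf 0))) (.node (.node (.leaf 88936) (.leaf 0)) (.node (.leaf 69893)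 (.leaf 0)))))) (.node (.node (.node (.node (.node (.leaf 25279) (.leaf 67417)) (.node (.leaf 109487) (.leaf 0))) (.node (.node (.leaf 75251) (.leaf 0)) (.node (.leaf 10324) (.leaf 0)))) (.node (.node (.node (.leaf 97052) (.leaf 122878)) (.node (.leaf 9549) (.leaf 0))) (.node (.node (.leaf 34658) (.leaf 0)) (.node (.leaf 2453) (.leaf 0))))) (.node (.node (.node (.node (.leaf 51108) (.leaf 72537)) (.node (.leaf 103852) (.leaf 0))) (.node (.node (.leaf 82188) (.leaf 0)) (.node (.leaf 7059) (.leaf 0)))) (.node (.node (.node (.leaf 6702) (.leaf 70993)) (.node (.leaf 71061) (.leaf 0))) (.node (.node (.leaf 46413) (.leaf 0)) (.node (.leaf 25908) (.leaf 0))))))) (.node (.node (.node (.node (.node (.node (.leaf 76670) (.leaf 112045)) (.node (.leaf 67338) (.leaf 0))) (.node (.node (.leaf 75548) (.leaf 0)) (.node (.leaf 16886) (.leaf 0)))) (.node (.node (.node (.leaf 118759) (.leaf 100674)) (.node (.leaf 3061) (.leaf 0))) (.node (.node (.leaf 43430) (.leaf 0)) (.node (.leaf 81919) (.leaf 0))))) (.node (.node (.node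 (.node (.leaf 84253) (.leaf 22184)) (.node (.leaf 9935) (.leaf 0))) (.node (.node (.leaf 3608) (.leaf 0)) (.node (.leaf 123669) (.leaf 0)))) (.node (.node (.node (.leaf 60038) (.leaf 114552)) (.node (.leaf 53672) (.leaf 0))) (.node (.node (.leaf 53213) (.leaf 0)) (.node (.leaf 103351) (.leaf 0)))))) (.node (.node (.node (.node (.node (.leaf 80371) (.leaf 87296)) (.node (.leaf 25252) (.leaf 0))) (.node (.node (.leaf 45048) (.leaf 0)) (.node (.leaf 114613) (.leaf 0)))) (.node (.node (.node (.leaf 92435) (.leaf 39612)) (.node (.leaf 89345) (.leaf 0))) (.node (.node (.leaf 26852) (.leaf 0)) (.node (.leaf 107482) (.leaf 0))))) (.node (.node (.node (.node (.leaf 83932) (.leaf 129388)) (.node (.leaf 86522) (.leaf 0))) (.node (.node (.leaf 47531) (.leaf 0)) (.node (.leaf 6723) (.leaf 0)))) (.node (.node (.node (.leaf 96253) (.leaf 23226)) (.node (.leaf 56034) (.leaf 0))) (.node (.node (.leaf 65883) (.leaf 0)) (.node (.leaf 68945) (.leaf 0)))))))) (.node (.node (.node (.node (.node (.node (.node (.leaf 15867) (.leaf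 29011)) (.node (.leaf 49128) (.leaf 0))) (.node (.node (.leaf 60061) (.leaf 0)) (.node (.leaf 84991) (.leaf 0)))) (.node (.node (.node (.leaf 55552) (.leaf 21303)) (.node (.leaf 52461) (.leaf 0))) (.node (.node (.leaf 108402) (.leaf 0)) (.node (.leaf 39639) (.leaf 0))))) (.node (.node (.node (.node (.leaf 82384) (.leaf 102266)) (.node (.leaf 52131) (.leaf 0))) (.node (.node (.leaf 61338) (.leaf 0)) (.node (.leaf 7093) (.leaf 0)))) (.node (.node (.node (.leaf 7355) (.leaf 81905)) (.node (.leaf 51043) (.leaf 0))) (.node (.node (.leaf 66522) (.leaf 0)) (.node (.leaf 97073) (.leaf 0)))))) (.node (.node (.node (.node (.node (.leaf 54755) (.leaf 75191)) (.node (.leaf 13717) (.leaf 0))) (.node (.node (.leaf 109933) (.leaf 0)) (.node (.leaf 16172) (.leaf 0)))) (.node (.node (.node (.leaf 91442) (.leaf 126942)) (.node (.leaf 43198) (.leaf 0))) (.node (.node (.leaf 20472) (.leaf 0)) (.node (.leaf 7907) (.leaf 0))))) (.node (.node (.node (.node (.leaf 27723) (.leaf 98277)) (.node (.leaf 52459) (.leaf 0))) (.node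 (.node (.leaf 30800) (.leaf 0)) (.node (.leaf 81781) (.leaf 0)))) (.node (.node (.node (.leaf 23322) (.leaf 118621)) (.node (.leaf 111920) (.leaf 0))) (.node (.node (.leaf 15398) (.leaf 0)) (.node (.leaf 22392) (.leaf 0))))))) (.node (.node (.node (.node (.node (.node (.leaf 61296) (.leaf 97753)) (.node (.leaf 115582) (.leaf 0))) (.node (.node (.leaf 48008) (.leaf 0)) (.node (.leaf 43157) (.leaf 0)))) (.node (.node (.node (.leaf 72977) (.leaf 77125)) (.node (.leaf 279) (.leaf 0))) (.node (.node (.leaf 126955) (.leaf 0)) (.node (.leaf 79792) (.leaf 0))))) (.node (.node (.node (.node (.leaf 101709) (.leaf 44414)) (.node (.leaf 65521) (.leaf 0))) (.node (.node (.leaf 34286) (.leaf 0)) (.node (.leaf 65842) (.leaf 0)))) (.node (.node (.node (.leaf 6504) (.leaf 7230)) (.node (.leaf 115080) (.leaf 0))) (.node (.node (.leaf 124244) (.leaf 0)) (.node (.leaf 28638) (.leaf 0)))))) (.node (.node (.node (.node (.node (.leaf 9798) (.leaf 78097)) (.node (.leaf 34020) (.leaf 0))) (.node (.node (.leaf 21353) (.leaf 0))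 (.node (.leaf 4639) (.leaf 0)))) (.node (.node (.node (.leaf 48051) (.leaf 34119)) (.node (.leaf 117535) (.leaf 0))) (.node (.node (.leaf 6074) (.leaf 0)) (.node (.leaf 28334) (.leaf 0))))) (.node (.node (.node (.node (.leaf 60552) (.leaf 15985)) (.node (.leaf 6095) (.leaf 0))) (.node (.node (.leaf 43345) (.leaf 0)) (.node (.leaf 3412) (.leaf 0)))) (.node (.node (.node (.leaf 115187) (.leaf 27728)) (.node (.leaf 119563) (.leaf 0))) (.node (.node (.leaf 97222) (.leaf 0)) (.node (.leaf 2769) (.leaf 0))))))))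

def kT81 : NT := .node (.node (.node (.node (.node (.node (.node (.node (.leaf 21080) (.leaf 35978)) (.node (.leaf 36272) (.leaf 0))) (.node (.node (.leaf 12019) (.leaf 0)) (.node (.leaf 10085) (.leaf 0)))) (.node (.node (.node (.leaf 38150) (.leaf 39922)) (.node (.leaf 91462) (.leaf 0))) (.node (.node (.leaf 26303) (.leaf 0)) (.node (.leaf 122648) (.leaf 0))))) (.node (.node (.node (.node (.leaf 68412) (.leaf 26207)) (.node (.leaf 27294) (.leaf 0))) (.node (.node (.leaf 100820) (.leaf 0)) (.node (.leaf 49826) (.leaf 0)))) (.node (.node (.node (.leaf 58851) (.leaf 97219)) (.node (.leaf 57554) (.leaf 0))) (.node (.node (.leaf 62162) (.leaf 0)) (.node (.leaf 14214) (.leaf 0)))))) (.node (.node (.node (.node (.node (.leaf 74171) (.leaf 9510)) (.node (.leaf 3509) (.leaf 0))) (.node (.node (.leaf 52088) (.leaf 0)) (.node (.leaf 4052) (.leaf 0)))) (.node (.node (.node (.leaf 75644) (.leaf 13007)) (.node (.leaf 68572) (.leaf 0))) (.node (.node (.leaf 34191) (.leaf 0)) (.node (.leaf 117513) (.leaf 0))))) (.node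 (.node (.node (.node (.leaf 62165) (.leaf 45490)) (.node (.leaf 95524) (.leaf 0))) (.node (.node (.leaf 5199) (.leaf 0)) (.node (.leaf 120802) (.leaf 0)))) (.node (.node (.node (.leaf 49978) (.leaf 113041)) (.node (.leaf 74601) (.leaf 0))) (.node (.node (.leaf 61688) (.leaf 0)) (.node (.leaf 31191) (.leaf 0))))))) (.node (.node (.node (.node (.node (.node (.leaf 25286) (.leaf 98289)) (.node (.leaf 98703) (.leaf 0))) (.node (.node (.leaf 41642) (.leaf 0)) (.node (.leaf 35085) (.leaf 0)))) (.node (.node (.node (.leaf 85931) (.leaf 48263)) (.node (.leaf 80813) (.leaf 0))) (.node (.node (.leaf 127870) (.leaf 0)) (.node (.leaf 78637) (.leaf 0))))) (.node (.node (.node (.node (.leaf 55596) (.leaf 95687)) (.node (.leaf 96204) (.leaf 0))) (.node (.node (.leaf 117205) (.leaf 0)) (.node (.leaf 11613) (.leaf 0)))) (.node (.node (.node (.leaf 24392) (.leaf 67920)) (.node (.leaf 62662) (.leaf 0))) (.node (.node (.leaf 90448) (.leaf 0)) (.node (.leaf 111450) (.leaf 0)))))) (.node (.node (.node (.node (.node (.leaf 20170)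 (.leaf 26607)) (.node (.leaf 43489) (.leaf 0))) (.node (.node (.leaf 14083) (.leaf 0)) (.node (.leaf 13866) (.leaf 0)))) (.node (.node (.node (.leaf 8844) (.leaf 54034)) (.node (.leaf 47324) (.leaf 0))) (.node (.node (.leaf 78220) (.leaf 0)) (.node (.leaf 61768) (.leaf 0))))) (.node (.node (.node (.node (.leaf 105795) (.leaf 15251)) (.node (.leaf 93535) (.leaf 0))) (.node (.node (.leaf 64903) (.leaf 0)) (.node (.leaf 10859) (.leaf 0)))) (.node (.node (.node (.leaf 123749) (.leaf 20696)) (.node (.leaf 83767) (.leaf 0))) (.node (.node (.leaf 32142) (.leaf 0)) (.node (.leaf 7089) (.leaf 0)))))))) (.node (.node (.node (.node (.node (.node (.node (.leaf 31933) (.leaf 51655)) (.node (.leaf 32565) (.leaf 0))) (.node (.node (.leaf 124232) (.leaf 0)) (.node (.leaf 39415) (.leaf 0)))) (.node (.node (.node (.leaf 40289) (.leaf 24251)) (.node (.leaf 89055) (.leaf 0))) (.node (.node (.leaf 97161) (.leaf 0)) (.node (.leaf 11213) (.leaf 0))))) (.node (.node (.node (.node (.leaf 3830) (.leaf 1816)) (.node (.leaf 117133)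 (.leaf 0))) (.node (.node (.leaf 42243) (.leaf 0)) (.node (.leaf 53601) (.leaf 0)))) (.node (.node (.node (.leaf 56310) (.leaf 3935)) (.node (.leaf 36213) (.leaf 0))) (.node (.node (.leaf 108490) (.leaf 0)) (.node (.leaf 80170) (.leaf 0)))))) (.node (.node (.node (.node (.node (.leaf 72475) (.leaf 118045)) (.node (.leaf 117129) (.leaf 0))) (.node (.node (.leaf 6465) (.leaf 0)) (.node (.leaf 14496) (.leaf 0)))) (.node (.node (.node (.leaf 5278) (.leaf 18902)) (.node (.leaf 81184) (.leaf 0))) (.node (.node (.leaf 126797) (.leaf 0)) (.node (.leaf 87951) (.leaf 0))))) (.node (.node (.node (.node (.leaf 110529) (.leaf 47510)) (.node (.leaf 13727) (.leaf 0))) (.node (.node (.leaf 28817) (.leaf 0)) (.node (.leaf 46740) (.leaf 0)))) (.node (.node (.node (.leaf 3664) (.leaf 10062)) (.node (.leaf 111499) (.leaf 0))) (.node (.node (.leaf 96650) (.leaf 0)) (.node (.leaf 111415) (.leaf 0))))))) (.node (.node (.node (.node (.node (.node (.leaf 118597) (.leaf 53177)) (.node (.leaf 19933) (.leaf 0))) (.node (.node (.leaf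 67463) (.leaf 0)) (.node (.leaf 32176) (.leaf 0)))) (.node (.node (.node (.leaf 123854) (.leaf 27565)) (.node (.leaf 38728) (.leaf 0))) (.node (.node (.leaf 59687) (.leaf 0)) (.node (.leaf 53003) (.leaf 0))))) (.node (.node (.node (.node (.leaf 86477) (.leaf 5171)) (.node (.leaf 35294) (.leaf 0))) (.node (.node (.leaf 1833) (.leaf 0)) (.node (.leaf 105324) (.leaf 0)))) (.node (.node (.node (.leaf 69462) (.leaf 5346)) (.node (.leaf 33970) (.leaf 0))) (.node (.node (.leaf 118237) (.leaf 0)) (.node (.leaf 34679) (.leaf 0)))))) (.node (.node (.node (.node (.node (.leaf 74655) (.leaf 7158)) (.node (.leaf 37678) (.leaf 0))) (.node (.node (.leaf 121618) (.leaf 0)) (.node (.leaf 53102) (.leaf 0)))) (.node (.node (.node (.leaf 14551) (.leaf 83966)) (.node (.leaf 9537) (.leaf 0))) (.node (.node (.leaf 52593) (.leaf 0)) (.node (.leaf 46560) (.leaf 0))))) (.node (.node (.node (.node (.leaf 62138) (.leaf 65420)) (.node (.leaf 7278) (.leaf 0))) (.node (.node (.leaf 59604) (.leaf 0)) (.node (.leaf 36795) (.leaf 0))))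 (.node (.node (.node (.leaf 18135) (.leaf 11166)) (.node (.leaf 98254) (.leaf 0))) (.node (.node (.leaf 108528) (.leaf 0)) (.node (.leaf 23694) (.leaf 0))))))))

def kT82 : NT := .node (.node (.node (.node (.node (.node (.node (.node (.leaf 81210) (.leaf 106443)) (.node (.leaf 41437) (.leaf 0))) (.node (.node (.leaf 74134) (.leaf 0)) (.node (.leaf 26311) (.leaf 0)))) (.node (.node (.node (.leaf 34954) (.leaf 119683)) (.node (.leaf 24394) (.leaf 0))) (.node (.node (.leaf 74683) (.leaf 0)) (.node (.leaf 20446) (.leaf 0))))) (.node (.node (.node (.node (.leaf 14390) (.leaf 28761)) (.node (.leaf 85358) (.leaf 0))) (.node (.node (.leaf 123765) (.leaf 0)) (.node (.leaf 130313) (.leaf 0)))) (.node (.node (.node (.leaf 93680) (.leaf 34530)) (.node (.leaf 61622) (.leaf 0))) (.node (.node (.leaf 76121) (.leaf 0)) (.node (.leaf 43867) (.leaf 0)))))) (.node (.node (.node (.node (.node (.leaf 97200) (.leaf 120714)) (.node (.leaf 1936) (.leaf 0))) (.node (.node (.leaf 15258) (.leaf 0)) (.node (.leaf 18298) (.leaf 0))))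 (.node (.node (.node (.leaf 65914) (.leaf 19279)) (.node (.leaf 25078) (.leaf 0))) (.node (.node (.leaf 11858) (.leaf 0)) (.node (.leaf 71104) (.leaf 0))))) (.node (.node (.node (.node (.leaf 6940) (.leaf 98767)) (.node (.leaf 71447) (.leaf 0))) (.node (.node (.leaf 39651) (.leaf 0)) (.node (.leaf 43485) (.leaf 0)))) (.node (.node (.node (.leaf 76660) (.leaf 55961)) (.node (.leaf 22840) (.leaf 0))) (.node (.node (.leaf 126434) (.leaf 0)) (.node (.leaf 116644) (.leaf 0))))))) (.node (.node (.node (.node (.node (.node (.leaf 109929) (.leaf 20156)) (.node (.leaf 12003) (.leaf 0))) (.node (.node (.leaf 4658) (.leaf 0)) (.node (.leaf 85362) (.leaf 0)))) (.node (.node (.node (.leaf 47041) (.leaf 76068)) (.node (.leaf 43830) (.leaf 0))) (.node (.node (.leaf 21572) (.leaf 0)) (.node (.leaf 48059) (.leaf 0))))) (.node (.node (.node (.node (.leaf 25936) (.leaf 9068)) (.node (.leaf 50030) (.leaf 0))) (.node (.node (.leaf 35183) (.leaf 0)) (.node (.leaf 54637) (.leaf 0)))) (.node (.node (.node (.leaf 82285) (.leaf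 70500)) (.node (.leaf 112101) (.leaf 0))) (.node (.node (.leaf 97564) (.leaf 0)) (.node (.leaf 101375) (.leaf 0)))))) (.node (.node (.node (.node (.node (.leaf 42215) (.leaf 43894)) (.node (.leaf 30820) (.leaf 0))) (.node (.node (.leaf 13912) (.leaf 0)) (.node (.leaf 39638) (.leaf 0)))) (.node (.node (.node (.leaf 58259) (.leaf 46876)) (.node (.leaf 15436) (.leaf 0))) (.node (.node (.leaf 24854) (.leaf 0)) (.node (.leaf 40352) (.leaf 0))))) (.node (.node (.node (.node (.leaf 79665) (.leaf 55149)) (.node (.leaf 5660) (.leaf 0))) (.node (.node (.leaf 13406) (.leaf 0)) (.node (.leaf 27462) (.leaf 0)))) (.node (.node (.node (.leaf 51362) (.leaf 20060)) (.node (.leaf 101835) (.leaf 0))) (.node (.node (.leaf 58209) (.leaf 0)) (.node (.leaf 54410) (.leaf 0)))))))) (.node (.node (.node (.node (.node (.node (.node (.leaf 64442) (.leaf 18720)) (.node (.leaf 5895) (.leaf 0))) (.node (.node (.leaf 27501) (.leaf 0)) (.node (.leaf 70530) (.leaf 0)))) (.node (.node (.node (.leaf 88031) (.leaf 113026)) (.node (.leaf 41471)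 (.leaf 0))) (.node (.node (.leaf 45710) (.leaf 0)) (.node (.leaf 37220) (.leaf 0))))) (.node (.node (.node (.node (.leaf 53479) (.leaf 90507)) (.node (.leaf 126228) (.leaf 0))) (.node (.node (.leaf 53391) (.leaf 0)) (.node (.leaf 4402) (.leaf 0)))) (.node (.node (.node (.leaf 90581) (.leaf 4362)) (.node (.leaf 130523) (.leaf 0))) (.node (.node (.leaf 45386) (.leaf 0)) (.node (.leaf 15194) (.leaf 0)))))) (.node (.node (.node (.node (.node (.leaf 11415) (.leaf 110984)) (.node (.leaf 116002) (.leaf 0))) (.node (.node (.leaf 40138) (.leaf 0)) (.node (.leaf 112906) (.leaf 0)))) (.node (.node (.node (.leaf 11857) (.leaf 30966)) (.node (.leaf 117229) (.leaf 0))) (.node (.node (.leaf 126345) (.leaf 0)) (.node (.leaf 107418) (.leaf 0))))) (.node (.node (.node (.node (.leaf 25589) (.leaf 53575)) (.node (.leaf 52130) (.leaf 0))) (.node (.node (.leaf 52684) (.leaf 0)) (.node (.leaf 42707) (.leaf 0)))) (.node (.node (.node (.leaf 82862) (.leaf 15313)) (.node (.leaf 20871) (.leaf 0))) (.node (.node (.leaf 25280) (.leaf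 0)) (.node (.leaf 101824) (.leaf 0))))))) (.node (.node (.node (.node (.node (.node (.leaf 29610) (.leaf 37190)) (.node (.leaf 51101) (.leaf 0))) (.node (.node (.leaf 105351) (.leaf 0)) (.node (.leaf 25538) (.leaf 0)))) (.node (.node (.node (.leaf 17775) (.leaf 41242)) (.node (.leaf 82734) (.leaf 0))) (.node (.node (.leaf 59565) (.leaf 0)) (.node (.leaf 42766) (.leaf 0))))) (.node (.node (.node (.node (.leaf 35239) (.leaf 5949)) (.node (.leaf 70493) (.leaf 0))) (.node (.node (.leaf 18195) (.leaf 0)) (.node (.leaf 55993) (.leaf 0)))) (.node (.node (.node (.leaf 23643) (.leaf 54498)) (.node (.leaf 25015) (.leaf 0))) (.node (.node (.leaf 113443) (.leaf 0)) (.node (.leaf 9816) (.leaf 0)))))) (.node (.node (.node (.node (.node (.leaf 23488) (.leaf 19168)) (.node (.leaf 84941) (.leaf 0))) (.node (.node (.leaf 125298) (.leaf 0)) (.node (.leaf 117727) (.leaf 0)))) (.node (.node (.node (.leaf 63935) (.leaf 17790)) (.node (.leaf 2262) (.leaf 0))) (.node (.node (.leaf 62863) (.leaf 0)) (.node (.leaf 125211) (.leaf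 0))))) (.node (.node (.node (.node (.leaf 25009) (.leaf 37708)) (.node (.leaf 920) (.leaf 0))) (.node (.node (.leaf 125339) (.leaf 0)) (.node (.leaf 20100) (.leaf 0)))) (.node (.node (.node (.leaf 7711) (.leaf 47523)) (.node (.leaf 3769) (.leaf 0))) (.node (.node (.leaf 76570) (.leaf 0)) (.node (.leaf 118688) (.leaf 0))))))))

def kT83 : NT := .node (.node (.node (.node (.node (.node (.node (.node (.leaf 117037) (.leaf 13193)) (.node (.leaf 47588) (.leaf 0))) (.node (.node (.leaf 14684) (.leaf 0)) (.node (.leaf 129307) (.leaf 0)))) (.node (.node (.node (.leaf 129891) (.leaf 14133)) (.node (.leaf 100111) (.leaf 0))) (.node (.node (.leaf 23173) (.leaf 0)) (.node (.leaf 118659) (.leaf 0))))) (.node (.node (.node (.node (.leaf 44275) (.leaf 104388)) (.node (.leaf 92523) (.leaf 0))) (.node (.node (.leaf 51458) (.leaf 0)) (.node (.leaf 96102) (.leaf 0)))) (.node (.node (.node (.leaf 104210) (.leaf 64486)) (.node (.leaf 44930) (.leaf 0))) (.node (.node (.leaf 31984) (.leaf 0)) (.node (.leaf 53658) (.leaf 0))))))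 (.node (.node (.node (.node (.node (.leaf 109931) (.leaf 123710)) (.node (.leaf 77675) (.leaf 0))) (.node (.node (.leaf 8966) (.leaf 0)) (.node (.leaf 122803) (.leaf 0)))) (.node (.node (.node (.leaf 36857) (.leaf 81222)) (.node (.leaf 127897) (.leaf 0))) (.node (.node (.leaf 85862) (.leaf 0)) (.node (.leaf 50384) (.leaf 0))))) (.node (.node (.node (.node (.leaf 63911) (.leaf 3404)) (.node (.leaf 74194) (.leaf 0))) (.node (.node (.leaf 53182) (.leaf 0)) (.node (.leaf 54970) (.leaf 0)))) (.node (.node (.node (.leaf 125886) (.leaf 91585)) (.node (.leaf 117031) (.leaf 0))) (.node (.node (.leaf 117024) (.leaf 0)) (.node (.leaf 80235) (.leaf 0))))))) (.node (.node (.node (.node (.node (.node (.leaf 51877) (.leaf 119684)) (.node (.leaf 23620) (.leaf 0))) (.node (.node (.leaf 79674) (.leaf 0)) (.node (.leaf 69095) (.leaf 0)))) (.node (.node (.node (.leaf 127760) (.leaf 73617)) (.node (.leaf 3638) (.leaf 0))) (.node (.node (.leaf 6104) (.leaf 0)) (.node (.leaf 51605) (.leaf 0))))) (.node (.node (.node (.node (.leaf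 44917) (.leaf 85301)) (.node (.leaf 118120) (.leaf 0))) (.node (.node (.leaf 83965) (.leaf 0)) (.node (.leaf 4846) (.leaf 0)))) (.node (.node (.node (.leaf 22798) (.leaf 91046)) (.node (.leaf 43275) (.leaf 0))) (.node (.node (.leaf 58001) (.leaf 0)) (.node (.leaf 9657) (.leaf 0)))))) (.node (.node (.node (.node (.node (.leaf 82737) (.leaf 48292)) (.node (.leaf 63960) (.leaf 0))) (.node (.node (.leaf 113634) (.leaf 0)) (.node (.leaf 19819) (.leaf 0)))) (.node (.node (.node (.leaf 26486) (.leaf 9939)) (.node (.leaf 85901) (.leaf 0))) (.node (.node (.leaf 127974) (.leaf 0)) (.node (.leaf 114664) (.leaf 0))))) (.node (.node (.node (.node (.leaf 49882) (.leaf 27281)) (.node (.leaf 127790) (.leaf 0))) (.node (.node (.leaf 59294) (.leaf 0)) (.node (.leaf 81395) (.leaf 0)))) (.node (.node (.node (.leaf 130883) (.leaf 33176)) (.node (.leaf 115196) (.leaf 0))) (.node (.node (.leaf 38224) (.leaf 0)) (.node (.leaf 83783) (.leaf 0)))))))) (.node (.node (.node (.node (.node (.node (.node (.leaf 78185) (.leaf 32396))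 (.node (.leaf 49589) (.leaf 0))) (.node (.node (.leaf 89446) (.leaf 0)) (.node (.leaf 79351) (.leaf 0)))) (.node (.node (.node (.leaf 127847) (.leaf 126895)) (.node (.leaf 73587) (.leaf 0))) (.node (.node (.leaf 107885) (.leaf 0)) (.node (.leaf 44440) (.leaf 0))))) (.node (.node (.node (.node (.leaf 31053) (.leaf 117705)) (.node (.leaf 42809) (.leaf 0))) (.node (.node (.leaf 2075) (.leaf 0)) (.node (.leaf 57031) (.leaf 0)))) (.node (.node (.node (.leaf 27214) (.leaf 32341)) (.node (.leaf 56992) (.leaf 0))) (.node (.node (.leaf 5025) (.leaf 0)) (.node (.leaf 32971) (.leaf 0)))))) (.node (.node (.node (.node (.node (.leaf 43499) (.leaf 87942)) (.node (.leaf 66370) (.leaf 0))) (.node (.node (.leaf 20688) (.leaf 0)) (.node (.leaf 16795) (.leaf 0)))) (.node (.node (.node (.leaf 81311) (.leaf 37036)) (.node (.leaf 24659) (.leaf 0))) (.node (.node (.leaf 76630) (.leaf 0)) (.node (.leaf 51479) (.leaf 0))))) (.node (.node (.node (.node (.leaf 71094) (.leaf 46454)) (.node (.leaf 111393) (.leaf 0))) (.node (.node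 (.leaf 53098) (.leaf 0)) (.node (.leaf 71964) (.leaf 0)))) (.node (.node (.node (.leaf 8921) (.leaf 6904)) (.node (.leaf 13678) (.leaf 0))) (.node (.node (.leaf 30926) (.leaf 0)) (.node (.leaf 44419) (.leaf 0))))))) (.node (.node (.node (.node (.node (.node (.leaf 60385) (.leaf 48847)) (.node (.leaf 125436) (.leaf 0))) (.node (.node (.leaf 12379) (.leaf 0)) (.node (.leaf 121189) (.leaf 0)))) (.node (.node (.node (.leaf 61606) (.leaf 4144)) (.node (.leaf 15638) (.leaf 0))) (.node (.node (.leaf 63104) (.leaf 0)) (.node (.leaf 50455) (.leaf 0))))) (.node (.node (.node (.node (.leaf 17684) (.leaf 57164)) (.node (.leaf 52145) (.leaf 0))) (.node (.node (.leaf 80800) (.leaf 0)) (.node (.leaf 21704) (.leaf 0)))) (.node (.node (.node (.leaf 30294) (.leaf 34553)) (.node (.leaf 87345) (.leaf 0))) (.node (.node (.leaf 29885) (.leaf 0)) (.node (.leaf 9916) (.leaf 0)))))) (.node (.node (.node (.node (.node (.leaf 105981) (.leaf 12604)) (.node (.leaf 124324) (.leaf 0))) (.node (.node (.leaf 100771) (.leaf 0)) (.node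 (.leaf 19528) (.leaf 0)))) (.node (.node (.node (.leaf 69924) (.leaf 49304)) (.node (.leaf 14644) (.leaf 0))) (.node (.node (.leaf 140) (.leaf 0)) (.node (.leaf 24297) (.leaf 0))))) (.node (.node (.node (.node (.leaf 22982) (.leaf 13227)) (.node (.leaf 55674) (.leaf 0))) (.node (.node (.leaf 56307) (.leaf 0)) (.node (.leaf 40356) (.leaf 0)))) (.node (.node (.node (.leaf 121677) (.leaf 101374)) (.node (.leaf 44944) (.leaf 0))) (.node (.node (.leaf 24034) (.leaf 0)) (.node (.leaf 62235) (.leaf 0))))))))

def kT84 : NT := .node (.node (.node (.node (.node (.node (.node (.node (.leaf 5815) (.leaf 52910)) (.node (.leaf 58135) (.leaf 0))) (.node (.node (.leaf 58622) (.leaf 0)) (.node (.leaf 16078) (.leaf 0)))) (.node (.node (.node (.leaf 106928) (.leaf 18764)) (.node (.leaf 99105) (.leaf 0))) (.node (.node (.leaf 44284) (.leaf 0)) (.node (.leaf 339) (.leaf 0))))) (.node (.node (.node (.node (.leaf 24150) (.leaf 85410)) (.node (.leaf 15212) (.leaf 0))) (.node (.node (.leaf 20335) (.leaf 0)) (.node (.leaf 20371)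 (.leaf 0)))) (.node (.node (.node (.leaf 128973) (.leaf 7591)) (.node (.leaf 128958) (.leaf 0))) (.node (.node (.leaf 110953) (.leaf 0)) (.node (.leaf 63959) (.leaf 0)))))) (.node (.node (.node (.node (.node (.leaf 67385) (.leaf 29162)) (.node (.leaf 68029) (.leaf 0))) (.node (.node (.leaf 62819) (.leaf 0)) (.node (.leaf 12845) (.leaf 0)))) (.node (.node (.node (.leaf 7053) (.leaf 10887)) (.node (.leaf 105394) (.leaf 0))) (.node (.node (.leaf 69456) (.leaf 0)) (.node (.leaf 23238) (.leaf 0))))) (.node (.node (.node (.node (.leaf 6293) (.leaf 111551)) (.node (.leaf 8026) (.leaf 0))) (.node (.node (.leaf 18661) (.leaf 0)) (.node (.leaf 49478) (.leaf 0)))) (.node (.node (.node (.leaf 50938) (.leaf 47838)) (.node (.leaf 87855) (.leaf 0))) (.node (.node (.leaf 86844) (.leaf 0)) (.node (.leaf 98617) (.leaf 0))))))) (.node (.node (.node (.node (.node (.node (.leaf 80214) (.leaf 116174)) (.node (.leaf 67003) (.leaf 0))) (.node (.node (.leaf 26877) (.leaf 0)) (.node (.leaf 43896) (.leaf 0)))) (.node (.node (.node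 (.leaf 56748) (.leaf 25854)) (.node (.leaf 117538) (.leaf 0))) (.node (.node (.leaf 66513) (.leaf 0)) (.node (.leaf 120746) (.leaf 0))))) (.node (.node (.node (.node (.leaf 36611) (.leaf 113067)) (.node (.leaf 40235) (.leaf 0))) (.node (.node (.leaf 27595) (.leaf 0)) (.node (.leaf 45818) (.leaf 0)))) (.node (.node (.node (.leaf 976) (.leaf 119618)) (.node (.leaf 93621) (.leaf 0))) (.node (.node (.leaf 124262) (.leaf 0)) (.node (.leaf 109320) (.leaf 0)))))) (.node (.node (.node (.node (.node (.leaf 44403) (.leaf 90997)) (.node (.leaf 100704) (.leaf 0))) (.node (.node (.leaf 88345) (.leaf 0)) (.node (.leaf 84443) (.leaf 0)))) (.node (.node (.node (.leaf 26344) (.leaf 110470)) (.node (.leaf 14928) (.leaf 0))) (.node (.node (.leaf 91036) (.leaf 0)) (.node (.leaf 119228) (.leaf 0))))) (.node (.node (.node (.node (.leaf 75723) (.leaf 24687)) (.node (.leaf 20945) (.leaf 0))) (.node (.node (.leaf 97130) (.leaf 0)) (.node (.leaf 123228) (.leaf 0)))) (.node (.node (.node (.leaf 104959) (.leaf 9866)) (.node (.leaf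 29940) (.leaf 0))) (.node (.node (.leaf 5092) (.leaf 0)) (.node (.leaf 38847) (.leaf 0)))))))) (.node (.node (.node (.node (.node (.node (.node (.leaf 53584) (.leaf 17163)) (.node (.leaf 35260) (.leaf 0))) (.node (.node (.leaf 92455) (.leaf 0)) (.node (.leaf 30081) (.leaf 0)))) (.node (.node (.node (.leaf 20643) (.leaf 7015)) (.node (.leaf 41685) (.leaf 0))) (.node (.node (.leaf 13164) (.leaf 0)) (.node (.leaf 101808) (.leaf 0))))) (.node (.node (.node (.node (.leaf 80289) (.leaf 3707)) (.node (.leaf 2707) (.leaf 0))) (.node (.node (.leaf 47916) (.leaf 0)) (.node (.leaf 59619) (.leaf 0)))) (.node (.node (.node (.leaf 108358) (.leaf 24994)) (.node (.leaf 51199) (.leaf 0))) (.node (.node (.leaf 89498) (.leaf 0)) (.node (.leaf 60673) (.leaf 0)))))) (.node (.node (.node (.node (.node (.leaf 123161) (.leaf 74161)) (.node (.leaf 1399) (.leaf 0))) (.node (.node (.leaf 106796) (.leaf 0)) (.node (.leaf 31893) (.leaf 0)))) (.node (.node (.node (.leaf 23990) (.leaf 15452)) (.node (.leaf 25670) (.leaf 0))) (.node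 (.node (.leaf 36170) (.leaf 0)) (.node (.leaf 104375) (.leaf 0))))) (.node (.node (.node (.node (.leaf 87001) (.leaf 60314)) (.node (.leaf 23630) (.leaf 0))) (.node (.node (.leaf 91091) (.leaf 0)) (.node (.leaf 37328) (.leaf 0)))) (.node (.node (.node (.leaf 24345) (.leaf 19268)) (.node (.leaf 14985) (.leaf 0))) (.node (.node (.leaf 3568) (.leaf 0)) (.node (.leaf 121669) (.leaf 0))))))) (.node (.node (.node (.node (.node (.node (.leaf 101700) (.leaf 62285)) (.node (.leaf 5316) (.leaf 0))) (.node (.node (.leaf 34615) (.leaf 0)) (.node (.leaf 83338) (.leaf 0)))) (.node (.node (.node (.leaf 68578) (.leaf 40410)) (.node (.leaf 96070) (.leaf 0))) (.node (.node (.leaf 6980) (.leaf 0)) (.node (.leaf 12651) (.leaf 0))))) (.node (.node (.node (.node (.leaf 6716) (.leaf 122846)) (.node (.leaf 22728) (.leaf 0))) (.node (.node (.leaf 63178) (.leaf 0)) (.node (.leaf 3997) (.leaf 0)))) (.node (.node (.node (.leaf 110352) (.leaf 10393)) (.node (.leaf 64987) (.leaf 0))) (.node (.node (.leaf 5516) (.leaf 0)) (.node (.leaf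 9937) (.leaf 0)))))) (.node (.node (.node (.node (.node (.leaf 110447) (.leaf 89574)) (.node (.leaf 62293) (.leaf 0))) (.node (.node (.leaf 37277) (.leaf 0)) (.node (.leaf 105283) (.leaf 0)))) (.node (.node (.node (.leaf 71650) (.leaf 119641)) (.node (.leaf 128266) (.leaf 0))) (.node (.node (.leaf 364) (.leaf 0)) (.node (.leaf 2785) (.leaf 0))))) (.node (.node (.node (.node (.leaf 76283) (.leaf 21142)) (.node (.leaf 11981) (.leaf 0))) (.node (.node (.leaf 18059) (.leaf 0)) (.node (.leaf 114532) (.leaf 0)))) (.node (.node (.node (.leaf 22415) (.leaf 71474)) (.node (.leaf 92426) (.leaf 0))) (.node (.node (.leaf 64852) (.leaf 0)) (.node (.leaf 101634) (.leaf 0))))))))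

def kT85 : NT := .node (.node (.node (.node (.node (.node (.node (.node (.leaf 70971) (.leaf 89899)) (.node (.leaf 75021) (.leaf 0))) (.node (.node (.leaf 65958) (.leaf 0)) (.node (.leaf 128932) (.leaf 0)))) (.node (.node (.node (.leaf 46045) (.leaf 37665)) (.node (.leaf 110912) (.leaf 0))) (.node (.node (.leaf 15073) (.leaf 0)) (.node (.leaf 71986) (.leaf 0))))) (.node (.node (.node (.node (.leaf 14536) (.leaf 97238)) (.node (.leaf 100108) (.leaf 0))) (.node (.node (.leaf 56102) (.leaf 0)) (.node (.leaf 5211) (.leaf 0)))) (.node (.node (.node (.leaf 25362) (.leaf 39591)) (.node (.leaf 49309) (.leaf 0))) (.node (.node (.leaf 45280) (.leaf 0)) (.node (.leaf 51009) (.leaf 0)))))) (.node (.node (.node (.node (.node (.leaf 3352) (.leaf 130905)) (.node (.leaf 115699) (.leaf 0))) (.node (.node (.leaf 36718) (.leaf 0)) (.node (.leaf 121102) (.leaf 0)))) (.node (.node (.node (.leaf 11440) (.leaf 8977)) (.node (.leaf 75011) (.leaf 0))) (.node (.node (.leaf 47076) (.leaf 0)) (.node (.leaf 86459) (.leaf 0))))) (.node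 (.node (.node (.node (.leaf 55772) (.leaf 95728)) (.node (.leaf 60613) (.leaf 0))) (.node (.node (.leaf 45363) (.leaf 0)) (.node (.leaf 17543) (.leaf 0)))) (.node (.node (.node (.leaf 21823) (.leaf 23257)) (.node (.leaf 18908) (.leaf 0))) (.node (.node (.leaf 7614) (.leaf 0)) (.node (.leaf 2861) (.leaf 0))))))) (.node (.node (.node (.node (.node (.node (.leaf 60147) (.leaf 130831)) (.node (.leaf 20122) (.leaf 0))) (.node (.node (.leaf 41358) (.leaf 0)) (.node (.leaf 47372) (.leaf 0)))) (.node (.node (.node (.leaf 92041) (.leaf 121207)) (.node (.leaf 6745) (.leaf 0))) (.node (.node (.leaf 80693) (.leaf 0)) (.node (.leaf 99273) (.leaf 0))))) (.node (.node (.node (.node (.leaf 19301) (.leaf 105863)) (.node (.leaf 49080) (.leaf 0))) (.node (.node (.leaf 59226) (.leaf 0)) (.node (.leaf 93166) (.leaf 0)))) (.node (.node (.node (.leaf 111445) (.leaf 3476)) (.node (.leaf 97193) (.leaf 0))) (.node (.node (.leaf 101717) (.leaf 0)) (.node (.leaf 46224) (.leaf 0)))))) (.node (.node (.node (.node (.node (.leaf 26325)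 (.leaf 54530)) (.node (.leaf 72111) (.leaf 0))) (.node (.node (.leaf 125823) (.leaf 0)) (.node (.leaf 90111) (.leaf 0)))) (.node (.node (.node (.leaf 125410) (.leaf 8446)) (.node (.leaf 30627) (.leaf 0))) (.node (.node (.leaf 22720) (.leaf 0)) (.node (.leaf 48838) (.leaf 0))))) (.node (.node (.node (.node (.leaf 55177) (.leaf 84741)) (.node (.leaf 62721) (.leaf 0))) (.node (.node (.leaf 62970) (.leaf 0)) (.node (.leaf 64876) (.leaf 0)))) (.node (.node (.node (.leaf 63428) (.leaf 55441)) (.node (.leaf 122244) (.leaf 0))) (.node (.node (.leaf 57543) (.leaf 0)) (.node (.leaf 48436) (.leaf 0)))))))) (.node (.node (.node (.node (.node (.node (.node (.leaf 52134) (.leaf 95693)) (.node (.leaf 13602) (.leaf 0))) (.node (.node (.leaf 56821) (.leaf 0)) (.node (.leaf 40750) (.leaf 0)))) (.node (.node (.node (.leaf 25979) (.leaf 72684)) (.node (.leaf 48791) (.leaf 0))) (.node (.node (.leaf 47891) (.leaf 0)) (.node (.leaf 30105) (.leaf 0))))) (.node (.node (.node (.node (.leaf 98762) (.leaf 124246)) (.node (.leaf 126429)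 (.leaf 0))) (.node (.node (.leaf 73625) (.leaf 0)) (.node (.leaf 24492) (.leaf 0)))) (.node (.node (.node (.leaf 7120) (.leaf 131028)) (.node (.leaf 46062) (.leaf 0))) (.node (.node (.leaf 39211) (.leaf 0)) (.node (.leaf 54501) (.leaf 0)))))) (.node (.node (.node (.node (.node (.leaf 106946) (.leaf 54646)) (.node (.leaf 6981) (.leaf 0))) (.node (.node (.leaf 99773) (.leaf 0)) (.node (.leaf 57807) (.leaf 0)))) (.node (.node (.node (.leaf 72474) (.leaf 62188)) (.node (.leaf 32231) (.leaf 0))) (.node (.node (.leaf 5084) (.leaf 0)) (.node (.leaf 36712) (.leaf 0))))) (.node (.node (.node (.node (.leaf 56750) (.leaf 53724)) (.node (.leaf 7579) (.leaf 0))) (.node (.node (.leaf 7724) (.leaf 0)) (.node (.leaf 32575) (.leaf 0)))) (.node (.node (.node (.leaf 25313) (.leaf 161)) (.node (.leaf 65868) (.leaf 0))) (.node (.node (.leaf 49120) (.leaf 0)) (.node (.leaf 84272) (.leaf 0))))))) (.node (.node (.node (.node (.node (.node (.leaf 74234) (.leaf 2936)) (.node (.leaf 43739) (.leaf 0))) (.node (.node (.leaf 61747)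 (.leaf 0)) (.node (.leaf 14248) (.leaf 0)))) (.node (.node (.node (.leaf 67981) (.leaf 88932)) (.node (.leaf 35477) (.leaf 0))) (.node (.node (.leaf 85460) (.leaf 0)) (.node (.leaf 59607) (.leaf 0))))) (.node (.node (.node (.node (.leaf 73627) (.leaf 28550)) (.node (.leaf 24569) (.leaf 0))) (.node (.node (.leaf 32352) (.leaf 0)) (.node (.leaf 120758) (.leaf 0)))) (.node (.node (.node (.leaf 58139) (.leaf 3188)) (.node (.leaf 8319) (.leaf 0))) (.node (.node (.leaf 7132) (.leaf 0)) (.node (.leaf 2916) (.leaf 0)))))) (.node (.node (.node (.node (.node (.leaf 129806) (.leaf 86516)) (.node (.leaf 97712) (.leaf 0))) (.node (.node (.leaf 4534) (.leaf 0)) (.node (.leaf 8825) (.leaf 0)))) (.node (.node (.node (.leaf 125748) (.leaf 61251)) (.node (.leaf 2008) (.leaf 0))) (.node (.node (.leaf 96612) (.leaf 0)) (.node (.leaf 29580) (.leaf 0))))) (.node (.node (.node (.node (.leaf 64706) (.leaf 64184)) (.node (.leaf 42323) (.leaf 0))) (.node (.node (.leaf 58681) (.leaf 0)) (.node (.leaf 105359) (.leaf 0)))) (.node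 (.node (.node (.leaf 41760) (.leaf 106440)) (.node (.leaf 33485) (.leaf 0))) (.node (.node (.leaf 25677) (.leaf 0)) (.node (.leaf 6525) (.leaf 0))))))))

def kT86 : NT := .node (.node (.node (.node (.node (.node (.node (.node (.leaf 42888) (.leaf 9465)) (.node (.leaf 87469) (.leaf 0))) (.node (.node (.leaf 96619) (.leaf 0)) (.node (.leaf 36266) (.leaf 0)))) (.node (.node (.node (.leaf 78264) (.leaf 91435)) (.node (.leaf 1986) (.leaf 0))) (.node (.node (.leaf 84444) (.leaf 0)) (.node (.leaf 92481) (.leaf 0))))) (.node (.node (.node (.node (.leaf 32761) (.leaf 32903)) (.node (.leaf 17191) (.leaf 0))) (.node (.node (.leaf 86429) (.leaf 0)) (.node (.leaf 18254) (.leaf 0)))) (.node (.node (.node (.leaf 80301) (.leaf 42688)) (.node (.leaf 37306) (.leaf 0))) (.node (.node (.leaf 20868) (.leaf 0)) (.node (.leaf 42966) (.leaf 0)))))) (.node (.node (.node (.node (.node (.leaf 43452) (.leaf 21137)) (.node (.leaf 40273) (.leaf 0))) (.node (.node (.leaf 83865) (.leaf 0)) (.node (.leaf 14840) (.leaf 0)))) (.node (.node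 (.node (.leaf 58810) (.leaf 48428)) (.node (.leaf 16731) (.leaf 0))) (.node (.node (.leaf 98712) (.leaf 0)) (.node (.leaf 12758) (.leaf 0))))) (.node (.node (.node (.node (.leaf 24017) (.leaf 12271)) (.node (.leaf 12858) (.leaf 0))) (.node (.node (.leaf 14195) (.leaf 0)) (.node (.leaf 95698) (.leaf 0)))) (.node (.node (.node (.leaf 49968) (.leaf 91041)) (.node (.leaf 22354) (.leaf 0))) (.node (.node (.leaf 52726) (.leaf 0)) (.node (.leaf 111023) (.leaf 0))))))) (.node (.node (.node (.node (.node (.node (.leaf 81695) (.leaf 44379)) (.node (.leaf 130864) (.leaf 0))) (.node (.node (.leaf 100324) (.leaf 0)) (.node (.leaf 29078) (.leaf 0)))) (.node (.node (.node (.leaf 45391) (.leaf 37693)) (.node (.leaf 23854) (.leaf 0))) (.node (.node (.leaf 100789) (.leaf 0)) (.node (.leaf 128975) (.leaf 0))))) (.node (.node (.node (.node (.leaf 37098) (.leaf 47285)) (.node (.leaf 9106) (.leaf 0))) (.node (.node (.leaf 445) (.leaf 0)) (.node (.leaf 76794) (.leaf 0)))) (.node (.node (.node (.leaf 20804) (.leaf 81900)) (.node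 (.leaf 9411) (.leaf 0))) (.node (.node (.leaf 28143) (.leaf 0)) (.node (.leaf 4088) (.leaf 0)))))) (.node (.node (.node (.node (.node (.leaf 83726) (.leaf 66984)) (.node (.leaf 16206) (.leaf 0))) (.node (.node (.leaf 13976) (.leaf 0)) (.node (.leaf 2887) (.leaf 0)))) (.node (.node (.node (.leaf 74184) (.leaf 82413)) (.node (.leaf 113531) (.leaf 0))) (.node (.node (.leaf 103183) (.leaf 0)) (.node (.leaf 49859) (.leaf 0))))) (.node (.node (.node (.node (.leaf 52420) (.leaf 52905)) (.node (.leaf 108527) (.leaf 0))) (.node (.node (.leaf 36118) (.leaf 0)) (.node (.leaf 63899) (.leaf 0)))) (.node (.node (.node (.leaf 112484) (.leaf 13348)) (.node (.leaf 81301) (.leaf 0))) (.node (.node (.leaf 46001) (.leaf 0)) (.node (.leaf 53209) (.leaf 0)))))))) (.node (.node (.node (.node (.node (.node (.node (.leaf 16823) (.leaf 48399)) (.node (.leaf 120250) (.leaf 0))) (.node (.node (.leaf 22425) (.leaf 0)) (.node (.leaf 3250) (.leaf 0)))) (.node (.node (.node (.leaf 89051) (.leaf 35018)) (.node (.leaf 124227) (.leaf 0)))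 (.node (.node (.leaf 109969) (.leaf 0)) (.node (.leaf 49537) (.leaf 0))))) (.node (.node (.node (.node (.leaf 283) (.leaf 120304)) (.node (.leaf 11322) (.leaf 0))) (.node (.node (.leaf 11814) (.leaf 0)) (.node (.leaf 17172) (.leaf 0)))) (.node (.node (.node (.leaf 112514) (.leaf 11057)) (.node (.leaf 130913) (.leaf 0))) (.node (.node (.leaf 119774) (.leaf 0)) (.node (.leaf 47329) (.leaf 0)))))) (.node (.node (.node (.node (.node (.leaf 2226) (.leaf 57268)) (.node (.leaf 6183) (.leaf 0))) (.node (.node (.leaf 92086) (.leaf 0)) (.node (.leaf 18286) (.leaf 0)))) (.node (.node (.node (.leaf 106371) (.leaf 107812)) (.node (.leaf 78652) (.leaf 0))) (.node (.node (.leaf 27936) (.leaf 0)) (.node (.leaf 4267) (.leaf 0))))) (.node (.node (.node (.node (.leaf 44292) (.leaf 127871)) (.node (.leaf 78288) (.leaf 0))) (.node (.node (.leaf 32765) (.leaf 0)) (.node (.leaf 106244) (.leaf 0)))) (.node (.node (.node (.leaf 30068) (.leaf 36224)) (.node (.leaf 4672) (.leaf 0))) (.node (.node (.leaf 125371) (.leaf 0)) (.node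 (.leaf 101738) (.leaf 0))))))) (.node (.node (.node (.node (.node (.node (.leaf 2844) (.leaf 88488)) (.node (.leaf 15683) (.leaf 0))) (.node (.node (.leaf 99825) (.leaf 0)) (.node (.leaf 52945) (.leaf 0)))) (.node (.node (.node (.leaf 26099) (.leaf 20687)) (.node (.leaf 27407) (.leaf 0))) (.node (.node (.leaf 116490) (.leaf 0)) (.node (.leaf 61945) (.leaf 0))))) (.node (.node (.node (.node (.leaf 76254) (.leaf 16653)) (.node (.leaf 41902) (.leaf 0))) (.node (.node (.leaf 37125) (.leaf 0)) (.node (.leaf 15316) (.leaf 0)))) (.node (.node (.node (.leaf 34450) (.leaf 63987)) (.node (.leaf 25273) (.leaf 0))) (.node (.node (.leaf 23718) (.leaf 0)) (.node (.leaf 109940) (.leaf 0)))))) (.node (.node (.node (.node (.node (.leaf 24574) (.leaf 109858)) (.node (.leaf 69404) (.leaf 0))) (.node (.node (.leaf 28530) (.leaf 0)) (.node (.leaf 106938) (.leaf 0)))) (.node (.node (.node (.leaf 56519) (.leaf 74710)) (.node (.leaf 78802) (.leaf 0))) (.node (.node (.leaf 127785) (.leaf 0)) (.node (.leaf 106318) (.leaf 0)))))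 (.node (.node (.node (.node (.leaf 27385) (.leaf 6794)) (.node (.leaf 48545) (.leaf 0))) (.node (.node (.leaf 106805) (.leaf 0)) (.node (.leaf 86513) (.leaf 0)))) (.node (.node (.node (.leaf 7496) (.leaf 89978)) (.node (.leaf 50067) (.leaf 0))) (.node (.node (.leaf 124912) (.leaf 0)) (.node (.leaf 126349) (.leaf 0))))))))

def kT87 : NT := .node (.node (.node (.node (.node (.node (.node (.node (.leaf 50901) (.leaf 26904)) (.node (.leaf 16777) (.leaf 0))) (.node (.node (.leaf 26779) (.leaf 0)) (.node (.leaf 24424) (.leaf 0)))) (.node (.node (.node (.leaf 93112) (.leaf 21851)) (.node (.leaf 125838) (.leaf 0))) (.node (.node (.leaf 105954) (.leaf 0)) (.node (.leaf 23296) (.leaf 0))))) (.node (.node (.node (.node (.leaf 56681) (.leaf 1691)) (.node (.leaf 102699) (.leaf 0))) (.node (.node (.leaf 41128) (.leaf 0)) (.node (.leaf 98146) (.leaf 0)))) (.node (.node (.node (.leaf 57720) (.leaf 8808)) (.node (.leaf 37176) (.leaf 0))) (.node (.node (.leaf 7712) (.leaf 0)) (.node (.leaf 3261) (.leaf 0)))))) (.node (.node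 (.node (.node (.node (.leaf 25734) (.leaf 22152)) (.node (.leaf 125850) (.leaf 0))) (.node (.node (.leaf 102741) (.leaf 0)) (.node (.leaf 57624) (.leaf 0)))) (.node (.node (.node (.leaf 92645) (.leaf 1591)) (.node (.leaf 62260) (.leaf 0))) (.node (.node (.leaf 125206) (.leaf 0)) (.node (.leaf 64752) (.leaf 0))))) (.node (.node (.node (.node (.leaf 17907) (.leaf 65844)) (.node (.leaf 79341) (.leaf 0))) (.node (.node (.leaf 2257) (.leaf 0)) (.node (.leaf 18272) (.leaf 0)))) (.node (.node (.node (.leaf 56534) (.leaf 61686)) (.node (.leaf 60728) (.leaf 0))) (.node (.node (.leaf 67414) (.leaf 0)) (.node (.leaf 57271) (.leaf 0))))))) (.node (.node (.node (.node (.node (.node (.leaf 90551) (.leaf 1168)) (.node (.leaf 22672) (.leaf 0))) (.node (.node (.leaf 92146) (.leaf 0)) (.node (.leaf 50569) (.leaf 0)))) (.node (.node (.node (.leaf 51164) (.leaf 11455)) (.node (.leaf 333) (.leaf 0))) (.node (.node (.leaf 55523) (.leaf 0)) (.node (.leaf 125356) (.leaf 0))))) (.node (.node (.node (.node (.leaf 110070) (.leaf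 27056)) (.node (.leaf 111963) (.leaf 0))) (.node (.node (.leaf 6582) (.leaf 0)) (.node (.leaf 129863) (.leaf 0)))) (.node (.node (.node (.leaf 49332) (.leaf 51601)) (.node (.leaf 24268) (.leaf 0))) (.node (.node (.leaf 18184) (.leaf 0)) (.node (.leaf 13890) (.leaf 0)))))) (.node (.node (.node (.node (.node (.leaf 47501) (.leaf 53438)) (.node (.leaf 105952) (.leaf 0))) (.node (.node (.leaf 113500) (.leaf 0)) (.node (.leaf 69530) (.leaf 0)))) (.node (.node (.node (.leaf 94690) (.leaf 108987)) (.node (.leaf 78695) (.leaf 0))) (.node (.node (.leaf 76716) (.leaf 0)) (.node (.leaf 91000) (.leaf 0))))) (.node (.node (.node (.node (.leaf 41188) (.leaf 38639)) (.node (.leaf 80739) (.leaf 0))) (.node (.node (.leaf 63406) (.leaf 0)) (.node (.leaf 81681) (.leaf 0)))) (.node (.node (.node (.leaf 57300) (.leaf 72999)) (.node (.leaf 69626) (.leaf 0))) (.node (.node (.leaf 119289) (.leaf 0)) (.node (.leaf 111514) (.leaf 0)))))))) (.node (.node (.node (.node (.node (.node (.node (.leaf 38333) (.leaf 49356)) (.node (.leaf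 95057) (.leaf 0))) (.node (.node (.leaf 75079) (.leaf 0)) (.node (.leaf 22264) (.leaf 0)))) (.node (.node (.node (.leaf 32336) (.leaf 124781)) (.node (.leaf 33262) (.leaf 0))) (.node (.node (.leaf 54447) (.leaf 0)) (.node (.leaf 112559) (.leaf 0))))) (.node (.node (.node (.node (.leaf 38039) (.leaf 47604)) (.node (.leaf 24044) (.leaf 0))) (.node (.node (.leaf 54689) (.leaf 0)) (.node (.leaf 30976) (.leaf 0)))) (.node (.node (.node (.leaf 21243) (.leaf 26989)) (.node (.leaf 71609) (.leaf 0))) (.node (.node (.leaf 61286) (.leaf 0)) (.node (.leaf 23840) (.leaf 0)))))) (.node (.node (.node (.node (.node (.leaf 102358) (.leaf 14485)) (.node (.leaf 6429) (.leaf 0))) (.node (.node (.leaf 70135) (.leaf 0)) (.node (.leaf 58858) (.leaf 0)))) (.node (.node (.node (.leaf 13259) (.leaf 56218)) (.node (.leaf 70581) (.leaf 0))) (.node (.node (.leaf 48845) (.leaf 0)) (.node (.leaf 14159) (.leaf 0))))) (.node (.node (.node (.node (.leaf 122182) (.leaf 72143)) (.node (.leaf 100850) (.leaf 0))) (.node (.node (.leaf 127751)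 (.leaf 0)) (.node (.leaf 13274) (.leaf 0)))) (.node (.node (.node (.leaf 83385) (.leaf 53589)) (.node (.leaf 117690) (.leaf 0))) (.node (.node (.leaf 38101) (.leaf 0)) (.node (.leaf 94047) (.leaf 0))))))) (.node (.node (.node (.node (.node (.node (.leaf 34488) (.leaf 130339)) (.node (.leaf 28533) (.leaf 0))) (.node (.node (.leaf 50342) (.leaf 0)) (.node (.leaf 2687) (.leaf 0)))) (.node (.node (.node (.leaf 18376) (.leaf 16487)) (.node (.leaf 115693) (.leaf 0))) (.node (.node (.leaf 42793) (.leaf 0)) (.node (.leaf 24397) (.leaf 0))))) (.node (.node (.node (.node (.leaf 44984) (.leaf 121166)) (.node (.leaf 24726) (.leaf 0))) (.node (.node (.leaf 82248) (.leaf 0)) (.node (.leaf 100802) (.leaf 0)))) (.node (.node (.node (.leaf 78183) (.leaf 117219)) (.node (.leaf 21690) (.leaf 0))) (.node (.node (.leaf 72997) (.leaf 0)) (.node (.leaf 29086) (.leaf 0)))))) (.node (.node (.node (.node (.node (.leaf 62866) (.leaf 31919)) (.node (.leaf 109029) (.leaf 0))) (.node (.node (.leaf 10635) (.leaf 0)) (.node (.leaf 2834)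 (.leaf 0)))) (.node (.node (.node (.leaf 12443) (.leaf 37053)) (.node (.leaf 19797) (.leaf 0))) (.node (.node (.leaf 20848) (.leaf 0)) (.node (.leaf 22880) (.leaf 0))))) (.node (.node (.node (.node (.leaf 79273) (.leaf 31530)) (.node (.leaf 130415) (.leaf 0))) (.node (.node (.leaf 51518) (.leaf 0)) (.node (.leaf 17556) (.leaf 0)))) (.node (.node (.node (.leaf 30151) (.leaf 128836)) (.node (.leaf 2466) (.leaf 0))) (.node (.node (.leaf 97032) (.leaf 0)) (.node (.leaf 67509) (.leaf 0))))))))

def kT88 : NT := .node (.node (.node (.node (.node (.node (.node (.node (.leaf 28405) (.leaf 85897)) (.node (.leaf 19046) (.leaf 0))) (.node (.node (.leaf 74685) (.leaf 0)) (.node (.leaf 40169) (.leaf 0)))) (.node (.node (.node (.leaf 87546) (.leaf 6060)) (.node (.leaf 63407) (.leaf 0))) (.node (.node (.leaf 128933) (.leaf 0)) (.node (.leaf 112050) (.leaf 0))))) (.node (.node (.node (.node (.leaf 105471) (.leaf 56156)) (.node (.leaf 130359) (.leaf 0))) (.node (.node (.leaf 129300) (.leaf 0)) (.node (.leaf 118755) (.leaf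 0)))) (.node (.node (.node (.leaf 5604) (.leaf 33940)) (.node (.leaf 39829) (.leaf 0))) (.node (.node (.leaf 45202) (.leaf 0)) (.node (.leaf 89513) (.leaf 0)))))) (.node (.node (.node (.node (.node (.leaf 71043) (.leaf 95617)) (.node (.leaf 8405) (.leaf 0))) (.node (.node (.leaf 94532) (.leaf 0)) (.node (.leaf 53638) (.leaf 0)))) (.node (.node (.node (.leaf 31350) (.leaf 9902)) (.node (.leaf 30884) (.leaf 0))) (.node (.node (.leaf 5614) (.leaf 0)) (.node (.leaf 78186) (.leaf 0))))) (.node (.node (.node (.node (.leaf 93106) (.leaf 93663)) (.node (.leaf 6860) (.leaf 0))) (.node (.node (.leaf 71029) (.leaf 0)) (.node (.leaf 92000) (.leaf 0)))) (.node (.node (.node (.leaf 103260) (.leaf 91476)) (.node (.leaf 75576) (.leaf 0))) (.node (.node (.leaf 108850) (.leaf 0)) (.node (.leaf 23766) (.leaf 0))))))) (.node (.node (.node (.node (.node (.node (.leaf 130912) (.leaf 784)) (.node (.leaf 104858) (.leaf 0))) (.node (.node (.leaf 130311) (.leaf 0)) (.node (.leaf 13276) (.leaf 0)))) (.node (.node (.node (.leaf 43743)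 (.leaf 43367)) (.node (.leaf 15584) (.leaf 0))) (.node (.node (.leaf 14290) (.leaf 0)) (.node (.leaf 75761) (.leaf 0))))) (.node (.node (.node (.node (.leaf 89372) (.leaf 119756)) (.node (.leaf 86521) (.leaf 0))) (.node (.node (.leaf 58640) (.leaf 0)) (.node (.leaf 117677) (.leaf 0)))) (.node (.node (.node (.leaf 46360) (.leaf 106488)) (.node (.leaf 32064) (.leaf 0))) (.node (.node (.leaf 33149) (.leaf 0)) (.node (.leaf 7890) (.leaf 0)))))) (.node (.node (.node (.node (.node (.leaf 42706) (.leaf 10489)) (.node (.leaf 37006) (.leaf 0))) (.node (.node (.leaf 20883) (.leaf 0)) (.node (.leaf 4524) (.leaf 0)))) (.node (.node (.node (.leaf 33496) (.leaf 119586)) (.node (.leaf 113436) (.leaf 0))) (.node (.node (.leaf 79292) (.leaf 0)) (.node (.leaf 42483) (.leaf 0))))) (.node (.node (.node (.node (.leaf 101864) (.leaf 12718)) (.node (.leaf 17610) (.leaf 0))) (.node (.node (.leaf 11481) (.leaf 0)) (.node (.leaf 91947) (.leaf 0)))) (.node (.node (.node (.leaf 91925) (.leaf 9977)) (.node (.leaf 44450) (.leaf 0)))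 (.node (.node (.leaf 71649) (.leaf 0)) (.node (.leaf 13675) (.leaf 0)))))))) (.node (.node (.node (.node (.node (.node (.node (.leaf 87456) (.leaf 37156)) (.node (.leaf 95491) (.leaf 0))) (.node (.node (.leaf 49955) (.leaf 0)) (.node (.leaf 54141) (.leaf 0)))) (.node (.node (.node (.leaf 47031) (.leaf 127961)) (.node (.leaf 1321) (.leaf 0))) (.node (.node (.leaf 25406) (.leaf 0)) (.node (.leaf 57090) (.leaf 0))))) (.node (.node (.node (.node (.leaf 30303) (.leaf 19530)) (.node (.leaf 127895) (.leaf 0))) (.node (.node (.leaf 129807) (.leaf 0)) (.node (.leaf 86487) (.leaf 0)))) (.node (.node (.node (.leaf 81903) (.leaf 83399)) (.node (.leaf 25049) (.leaf 0))) (.node (.node (.leaf 96747) (.leaf 0)) (.node (.leaf 6555) (.leaf 0)))))) (.node (.node (.node (.node (.node (.leaf 16724) (.leaf 4071)) (.node (.leaf 38120) (.leaf 0))) (.node (.node (.leaf 123381) (.leaf 0)) (.node (.leaf 30609) (.leaf 0)))) (.node (.node (.node (.leaf 28632) (.leaf 79854)) (.node (.leaf 30144) (.leaf 0))) (.node (.node (.leaf 27264)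 (.leaf 0)) (.node (.leaf 10731) (.leaf 0))))) (.node (.node (.node (.node (.leaf 129391) (.leaf 123306)) (.node (.leaf 17076) (.leaf 0))) (.node (.node (.leaf 58772) (.leaf 0)) (.node (.leaf 121805) (.leaf 0)))) (.node (.node (.node (.leaf 49307) (.leaf 40194)) (.node (.leaf 25202) (.leaf 0))) (.node (.node (.leaf 4969) (.leaf 0)) (.node (.leaf 21291) (.leaf 0))))))) (.node (.node (.node (.node (.node (.node (.leaf 11532) (.leaf 70461)) (.node (.leaf 1627) (.leaf 0))) (.node (.node (.leaf 8039) (.leaf 0)) (.node (.leaf 106997) (.leaf 0)))) (.node (.node (.node (.leaf 48578) (.leaf 23711)) (.node (.leaf 33583) (.leaf 0))) (.node (.node (.leaf 75574) (.leaf 0)) (.node (.leaf 7905) (.leaf 0))))) (.node (.node (.node (.node (.leaf 11011) (.leaf 117599)) (.node (.leaf 102177) (.leaf 0))) (.node (.node (.leaf 40178) (.leaf 0)) (.node (.leaf 27808) (.leaf 0)))) (.node (.node (.node (.leaf 26882) (.leaf 4291)) (.node (.leaf 11117) (.leaf 0))) (.node (.node (.leaf 115135) (.leaf 0)) (.node (.leaf 6093) (.leaf 0))))))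 (.node (.node (.node (.node (.node (.leaf 122306) (.leaf 32023)) (.node (.leaf 63972) (.leaf 0))) (.node (.node (.leaf 62855) (.leaf 0)) (.node (.leaf 108363) (.leaf 0)))) (.node (.node (.node (.leaf 56193) (.leaf 15516)) (.node (.leaf 18253) (.leaf 0))) (.node (.node (.leaf 19695) (.leaf 0)) (.node (.leaf 10807) (.leaf 0))))) (.node (.node (.node (.node (.leaf 110417) (.leaf 117042)) (.node (.leaf 101839) (.leaf 0))) (.node (.node (.leaf 66344) (.leaf 0)) (.node (.leaf 28753) (.leaf 0)))) (.node (.node (.node (.leaf 10226) (.leaf 87006)) (.node (.leaf 128871) (.leaf 0))) (.node (.node (.leaf 33200) (.leaf 0)) (.node (.leaf 4784) (.leaf 0))))))))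

def kT89 : NT := .node (.node (.node (.node (.node (.node (.node (.node (.leaf 15594) (.leaf 15296)) (.node (.leaf 64265) (.leaf 0))) (.node (.node (.leaf 18716) (.leaf 0)) (.node (.leaf 27589) (.leaf 0)))) (.node (.node (.node (.leaf 109464) (.leaf 16810)) (.node (.leaf 7248) (.leaf 0))) (.node (.node (.leaf 14389) (.leaf 0)) (.node (.leaf 88998) (.leaf 0))))) (.node (.node (.node (.node (.leaf 118130) (.leaf 49329)) (.node (.leaf 57537) (.leaf 0))) (.node (.node (.leaf 10892) (.leaf 0)) (.node (.leaf 79140) (.leaf 0)))) (.node (.node (.node (.leaf 114153) (.leaf 95673)) (.node (.leaf 49648) (.leaf 0))) (.node (.node (.leaf 124898) (.leaf 0)) (.node (.leaf 90441) (.leaf 0)))))) (.node (.node (.node (.node (.node (.leaf 94155) (.leaf 53383)) (.node (.leaf 15776) (.leaf 0))) (.node (.node (.leaf 12039) (.leaf 0)) (.node (.leaf 130411) (.leaf 0)))) (.node (.node (.node (.leaf 18836) (.leaf 6871)) (.node (.leaf 88853) (.leaf 0))) (.node (.node (.leaf 2106) (.leaf 0)) (.node (.leaf 4953) (.leaf 0))))) (.node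 (.node (.node (.node (.leaf 118218) (.leaf 16168)) (.node (.leaf 121186) (.leaf 0))) (.node (.node (.leaf 113961) (.leaf 0)) (.node (.leaf 1129) (.leaf 0)))) (.node (.node (.node (.leaf 98302) (.leaf 25903)) (.node (.leaf 23462) (.leaf 0))) (.node (.node (.leaf 67051) (.leaf 0)) (.node (.leaf 103250) (.leaf 0))))))) (.node (.node (.node (.node (.node (.node (.leaf 18832) (.leaf 55628)) (.node (.leaf 31303) (.leaf 0))) (.node (.node (.leaf 50383) (.leaf 0)) (.node (.leaf 46367) (.leaf 0)))) (.node (.node (.node (.leaf 122800) (.leaf 6368)) (.node (.leaf 92579) (.leaf 0))) (.node (.node (.leaf 8804) (.leaf 0)) (.node (.leaf 13121) (.leaf 0))))) (.node (.node (.node (.node (.leaf 85332) (.leaf 29539)) (.node (.leaf 94186) (.leaf 0))) (.node (.node (.leaf 109513) (.leaf 0)) (.node (.leaf 2132) (.leaf 0)))) (.node (.node (.node (.leaf 8105) (.leaf 114539)) (.node (.leaf 62595) (.leaf 0))) (.node (.node (.leaf 26371) (.leaf 0)) (.node (.leaf 77265) (.leaf 0)))))) (.node (.node (.node (.node (.node (.leaf 30476)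 (.leaf 64734)) (.node (.leaf 9092) (.leaf 0))) (.node (.node (.leaf 48846) (.leaf 0)) (.node (.leaf 33062) (.leaf 0)))) (.node (.node (.node (.leaf 55614) (.leaf 103794)) (.node (.leaf 28046) (.leaf 0))) (.node (.node (.leaf 8031) (.leaf 0)) (.node (.leaf 52166) (.leaf 0))))) (.node (.node (.node (.node (.leaf 126400) (.leaf 82217)) (.node (.leaf 36533) (.leaf 0))) (.node (.node (.leaf 10148) (.leaf 0)) (.node (.leaf 80670) (.leaf 0)))) (.node (.node (.node (.leaf 23308) (.leaf 1875)) (.node (.leaf 26363) (.leaf 0))) (.node (.node (.leaf 3009) (.leaf 0)) (.node (.leaf 16555) (.leaf 0)))))))) (.node (.node (.node (.node (.node (.node (.node (.leaf 15775) (.leaf 83732)) (.node (.leaf 43396) (.leaf 0))) (.node (.node (.leaf 92655) (.leaf 0)) (.node (.leaf 35566) (.leaf 0)))) (.node (.node (.node (.leaf 70575) (.leaf 110)) (.node (.leaf 127879) (.leaf 0))) (.node (.node (.leaf 23470) (.leaf 0)) (.node (.leaf 103759) (.leaf 0))))) (.node (.node (.node (.node (.leaf 79621) (.leaf 42990)) (.node (.leaf 39756)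 (.leaf 0))) (.node (.node (.leaf 115487) (.leaf 0)) (.node (.leaf 3307) (.leaf 0)))) (.node (.node (.node (.leaf 41155) (.leaf 67843)) (.node (.leaf 56770) (.leaf 0))) (.node (.node (.leaf 69071) (.leaf 0)) (.node (.leaf 59297) (.leaf 0)))))) (.node (.node (.node (.node (.node (.leaf 80786) (.leaf 55254)) (.node (.leaf 2802) (.leaf 0))) (.node (.node (.leaf 16258) (.leaf 0)) (.node (.leaf 22781) (.leaf 0)))) (.node (.node (.node (.leaf 42765) (.leaf 60725)) (.node (.leaf 1760) (.leaf 0))) (.node (.node (.leaf 2856) (.leaf 0)) (.node (.leaf 23930) (.leaf 0))))) (.node (.node (.node (.node (.leaf 8628) (.leaf 17135)) (.node (.leaf 95013) (.leaf 0))) (.node (.node (.leaf 71983) (.leaf 0)) (.node (.leaf 89418) (.leaf 0)))) (.node (.node (.node (.leaf 103315) (.leaf 60570)) (.node (.leaf 87932) (.leaf 0))) (.node (.node (.leaf 37232) (.leaf 0)) (.node (.leaf 36662) (.leaf 0))))))) (.node (.node (.node (.node (.node (.node (.leaf 63382) (.leaf 24643)) (.node (.leaf 26999) (.leaf 0))) (.node (.node (.leaf 68493)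 (.leaf 0)) (.node (.leaf 3975) (.leaf 0)))) (.node (.node (.node (.leaf 63160) (.leaf 11884)) (.node (.leaf 95138) (.leaf 0))) (.node (.node (.leaf 68360) (.leaf 0)) (.node (.leaf 2412) (.leaf 0))))) (.node (.node (.node (.node (.leaf 119582) (.leaf 27882)) (.node (.leaf 14797) (.leaf 0))) (.node (.node (.leaf 31490) (.leaf 0)) (.node (.leaf 105983) (.leaf 0)))) (.node (.node (.node (.leaf 6705) (.leaf 4906)) (.node (.leaf 54753) (.leaf 0))) (.node (.node (.leaf 125425) (.leaf 0)) (.node (.leaf 25420) (.leaf 0)))))) (.node (.node (.node (.node (.node (.leaf 92124) (.leaf 22527)) (.node (.leaf 68930) (.leaf 0))) (.node (.node (.leaf 128870) (.leaf 0)) (.node (.leaf 25681) (.leaf 0)))) (.node (.node (.node (.leaf 36798) (.leaf 24990)) (.node (.leaf 21769) (.leaf 0))) (.node (.node (.leaf 11140) (.leaf 0)) (.node (.leaf 103851) (.leaf 0))))) (.node (.node (.node (.node (.leaf 120736) (.leaf 18610)) (.node (.leaf 13180) (.leaf 0))) (.node (.node (.leaf 3466) (.leaf 0)) (.node (.leaf 110962) (.leaf 0)))) (.node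 (.node (.node (.leaf 26192) (.leaf 58804)) (.node (.leaf 83954) (.leaf 0))) (.node (.node (.leaf 116169) (.leaf 0)) (.node (.leaf 2429) (.leaf 0))))))))

def kT90 : NT := .node (.node (.node (.node (.node (.node (.node (.node (.leaf 30451) (.leaf 29861)) (.node (.leaf 32078) (.leaf 0))) (.node (.node (.leaf 57836) (.leaf 0)) (.node (.leaf 104219) (.leaf 0)))) (.node (.node (.node (.leaf 116212) (.leaf 73192)) (.node (.leaf 395) (.leaf 0))) (.node (.node (.leaf 41410) (.leaf 0)) (.node (.leaf 11565) (.leaf 0))))) (.node (.node (.node (.node (.leaf 101733) (.leaf 130487)) (.node (.leaf 16872) (.leaf 0))) (.node (.node (.leaf 129464) (.leaf 0)) (.node (.leaf 71505) (.leaf 0)))) (.node (.node (.node (.leaf 106376) (.leaf 28356)) (.node (.leaf 127798) (.leaf 0))) (.node (.node (.leaf 26864) (.leaf 0)) (.node (.leaf 50460) (.leaf 0)))))) (.node (.node (.node (.node (.node (.leaf 47049) (.leaf 2135)) (.node (.leaf 98675) (.leaf 0))) (.node (.node (.leaf 113534) (.leaf 0)) (.node (.leaf 70527) (.leaf 0)))) (.node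 (.node (.node (.leaf 71952) (.leaf 50352)) (.node (.leaf 41228) (.leaf 0))) (.node (.node (.leaf 30678) (.leaf 0)) (.node (.leaf 126810) (.leaf 0))))) (.node (.node (.node (.node (.leaf 131036) (.leaf 3399)) (.node (.leaf 15284) (.leaf 0))) (.node (.node (.leaf 106294) (.leaf 0)) (.node (.leaf 33590) (.leaf 0)))) (.node (.node (.node (.leaf 106360) (.leaf 20733)) (.node (.leaf 67054) (.leaf 0))) (.node (.node (.leaf 54087) (.leaf 0)) (.node (.leaf 81273) (.leaf 0))))))) (.node (.node (.node (.node (.node (.node (.leaf 65948) (.leaf 53624)) (.node (.leaf 119779) (.leaf 0))) (.node (.node (.leaf 56600) (.leaf 0)) (.node (.leaf 53619) (.leaf 0)))) (.node (.node (.node (.leaf 13084) (.leaf 18647)) (.node (.leaf 11206) (.leaf 0))) (.node (.node (.leaf 51969) (.leaf 0)) (.node (.leaf 77172) (.leaf 0))))) (.node (.node (.node (.node (.leaf 13288) (.leaf 10033)) (.node (.leaf 112091) (.leaf 0))) (.node (.node (.leaf 56702) (.leaf 0)) (.node (.leaf 33172) (.leaf 0)))) (.node (.node (.node (.leaf 88843) (.leaf 36722))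 (.node (.leaf 50656) (.leaf 0))) (.node (.node (.leaf 80701) (.leaf 0)) (.node (.leaf 64161) (.leaf 0)))))) (.node (.node (.node (.node (.node (.leaf 107472) (.leaf 27269)) (.node (.leaf 47263) (.leaf 0))) (.node (.node (.leaf 16707) (.leaf 0)) (.node (.leaf 61184) (.leaf 0)))) (.node (.node (.node (.leaf 72056) (.leaf 112056)) (.node (.leaf 9678) (.leaf 0))) (.node (.node (.leaf 127234) (.leaf 0)) (.node (.leaf 127385) (.leaf 0))))) (.node (.node (.node (.node (.leaf 25219) (.leaf 101653)) (.node (.leaf 55746) (.leaf 0))) (.node (.node (.leaf 50560) (.leaf 0)) (.node (.leaf 36046) (.leaf 0)))) (.node (.node (.node (.leaf 36485) (.leaf 109486)) (.node (.leaf 118745) (.leaf 0))) (.node (.node (.leaf 121267) (.leaf 0)) (.node (.leaf 2408) (.leaf 0)))))))) (.node (.node (.node (.node (.node (.node (.node (.leaf 28599) (.leaf 98165)) (.node (.leaf 97737) (.leaf 0))) (.node (.node (.leaf 48789) (.leaf 0)) (.node (.leaf 119139) (.leaf 0)))) (.node (.node (.node (.leaf 12247) (.leaf 6529)) (.node (.leaf 121254)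 (.leaf 0))) (.node (.node (.leaf 85345) (.leaf 0)) (.node (.leaf 8377) (.leaf 0))))) (.node (.node (.node (.node (.leaf 4541) (.leaf 25034)) (.node (.leaf 86424) (.leaf 0))) (.node (.node (.leaf 62726) (.leaf 0)) (.node (.leaf 130953) (.leaf 0)))) (.node (.node (.node (.leaf 17326) (.leaf 9066)) (.node (.leaf 27284) (.leaf 0))) (.node (.node (.leaf 56776) (.leaf 0)) (.node (.leaf 130451) (.leaf 0)))))) (.node (.node (.node (.node (.node (.leaf 121782) (.leaf 61806)) (.node (.leaf 118047) (.leaf 0))) (.node (.node (.leaf 109492) (.leaf 0)) (.node (.leaf 5203) (.leaf 0)))) (.node (.node (.node (.leaf 18850) (.leaf 60172)) (.node (.leaf 4882) (.leaf 0))) (.node (.node (.leaf 104206) (.leaf 0)) (.node (.leaf 130491) (.leaf 0))))) (.node (.node (.node (.node (.leaf 103782) (.leaf 11045)) (.node (.leaf 12175) (.leaf 0))) (.node (.node (.leaf 11174) (.leaf 0)) (.node (.leaf 91610) (.leaf 0)))) (.node (.node (.node (.leaf 55267) (.leaf 103754)) (.node (.leaf 65017) (.leaf 0))) (.node (.node (.leaf 71520) (.leaf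 0)) (.node (.leaf 39583) (.leaf 0))))))) (.node (.node (.node (.node (.node (.node (.leaf 50006) (.leaf 77648)) (.node (.leaf 62723) (.leaf 0))) (.node (.node (.leaf 47894) (.leaf 0)) (.node (.leaf 7412) (.leaf 0)))) (.node (.node (.node (.leaf 108314) (.leaf 101830)) (.node (.leaf 19645) (.leaf 0))) (.node (.node (.leaf 30569) (.leaf 0)) (.node (.leaf 2460) (.leaf 0))))) (.node (.node (.node (.node (.leaf 58303) (.leaf 25269)) (.node (.leaf 22080) (.leaf 0))) (.node (.node (.leaf 87972) (.leaf 0)) (.node (.leaf 51890) (.leaf 0)))) (.node (.node (.node (.leaf 89972) (.leaf 42970)) (.node (.leaf 126244) (.leaf 0))) (.node (.node (.leaf 38103) (.leaf 0)) (.node (.leaf 80350) (.leaf 0)))))) (.node (.node (.node (.node (.node (.leaf 43182) (.leaf 102711)) (.node (.leaf 8675) (.leaf 0))) (.node (.node (.leaf 90442) (.leaf 0)) (.node (.leaf 110911) (.leaf 0)))) (.node (.node (.node (.leaf 18595) (.leaf 99181)) (.node (.leaf 40215) (.leaf 0))) (.node (.node (.leaf 126223) (.leaf 0)) (.node (.leaf 130822) (.leaf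 0))))) (.node (.node (.node (.node (.leaf 29639) (.leaf 82232)) (.node (.leaf 104326) (.leaf 0))) (.node (.node (.leaf 26754) (.leaf 0)) (.node (.leaf 52137) (.leaf 0)))) (.node (.node (.node (.leaf 116511) (.leaf 16363)) (.node (.leaf 79774) (.leaf 0))) (.node (.node (.leaf 8944) (.leaf 0)) (.node (.leaf 90381) (.leaf 0))))))))

def kT91 : NT := .node (.node (.node (.node (.node (.node (.node (.node (.leaf 29879) (.leaf 72004)) (.node (.leaf 42379) (.leaf 0))) (.node (.node (.leaf 100650) (.leaf 0)) (.node (.leaf 11329) (.leaf 0)))) (.node (.node (.node (.leaf 18132) (.leaf 49572)) (.node (.leaf 67906) (.leaf 0))) (.node (.node (.leaf 125713) (.leaf 0)) (.node (.leaf 34688) (.leaf 0))))) (.node (.node (.node (.node (.leaf 10464) (.leaf 4659)) (.node (.leaf 22829) (.leaf 0))) (.node (.node (.leaf 69968) (.leaf 0)) (.node (.leaf 21577) (.leaf 0)))) (.node (.node (.node (.leaf 34691) (.leaf 105445)) (.node (.leaf 10792) (.leaf 0))) (.node (.node (.leaf 45796) (.leaf 0)) (.node (.leaf 29075) (.leaf 0))))))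 (.node (.node (.node (.node (.node (.leaf 11815) (.leaf 47929)) (.node (.leaf 52914) (.leaf 0))) (.node (.node (.leaf 1349) (.leaf 0)) (.node (.leaf 11030) (.leaf 0)))) (.node (.node (.node (.leaf 50427) (.leaf 8022)) (.node (.leaf 7498) (.leaf 0))) (.node (.node (.leaf 23398) (.leaf 0)) (.node (.leaf 74137) (.leaf 0))))) (.node (.node (.node (.node (.leaf 75084) (.leaf 44968)) (.node (.leaf 28595) (.leaf 0))) (.node (.node (.leaf 23525) (.leaf 0)) (.node (.leaf 101645) (.leaf 0)))) (.node (.node (.node (.leaf 129495) (.leaf 25036)) (.node (.leaf 15998) (.leaf 0))) (.node (.node (.leaf 83933) (.leaf 0)) (.node (.leaf 33426) (.leaf 0))))))) (.node (.node (.node (.node (.node (.node (.leaf 21279) (.leaf 110867)) (.node (.leaf 12625) (.leaf 0))) (.node (.node (.leaf 32735) (.leaf 0)) (.node (.leaf 4243) (.leaf 0)))) (.node (.node (.node (.leaf 42127) (.leaf 98688)) (.node (.leaf 12780) (.leaf 0))) (.node (.node (.leaf 83260) (.leaf 0)) (.node (.leaf 97676) (.leaf 0))))) (.node (.node (.node (.node (.leaf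 53456) (.leaf 36509)) (.node (.leaf 50163) (.leaf 0))) (.node (.node (.leaf 65510) (.leaf 0)) (.node (.leaf 5439) (.leaf 0)))) (.node (.node (.node (.leaf 130845) (.leaf 28484)) (.node (.leaf 35506) (.leaf 0))) (.node (.node (.leaf 46769) (.leaf 0)) (.node (.leaf 3816) (.leaf 0)))))) (.node (.node (.node (.node (.node (.leaf 87895) (.leaf 46976)) (.node (.leaf 58877) (.leaf 0))) (.node (.node (.leaf 53699) (.leaf 0)) (.node (.leaf 14693) (.leaf 0)))) (.node (.node (.node (.leaf 72665) (.leaf 37727)) (.node (.leaf 7029) (.leaf 0))) (.node (.node (.leaf 6995) (.leaf 0)) (.node (.leaf 106435) (.leaf 0))))) (.node (.node (.node (.node (.leaf 60778) (.leaf 24421)) (.node (.leaf 31897) (.leaf 0))) (.node (.node (.leaf 30718) (.leaf 0)) (.node (.leaf 49318) (.leaf 0)))) (.node (.node (.node (.leaf 13382) (.leaf 41445)) (.node (.leaf 60259) (.leaf 0))) (.node (.node (.leaf 23301) (.leaf 0)) (.node (.leaf 126762) (.leaf 0)))))))) (.node (.node (.node (.node (.node (.node (.node (.leaf 38854) (.leaf 93111)) (.node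 (.leaf 75140) (.leaf 0))) (.node (.node (.leaf 130003) (.leaf 0)) (.node (.leaf 100678) (.leaf 0)))) (.node (.node (.node (.leaf 54230) (.leaf 65526)) (.node (.leaf 115179) (.leaf 0))) (.node (.node (.leaf 25732) (.leaf 0)) (.node (.leaf 129950) (.leaf 0))))) (.node (.node (.node (.node (.leaf 101189) (.leaf 84921)) (.node (.leaf 29271) (.leaf 0))) (.node (.node (.leaf 129986) (.leaf 0)) (.node (.leaf 25820) (.leaf 0)))) (.node (.node (.node (.leaf 1448) (.leaf 127800)) (.node (.leaf 101760) (.leaf 0))) (.node (.node (.leaf 79777) (.leaf 0)) (.node (.leaf 60775) (.leaf 0)))))) (.node (.node (.node (.node (.node (.leaf 94586) (.leaf 53042)) (.node (.leaf 14373) (.leaf 0))) (.node (.node (.leaf 103800) (.leaf 0)) (.node (.leaf 87950) (.leaf 0)))) (.node (.node (.node (.leaf 30561) (.leaf 46064)) (.node (.leaf 11413) (.leaf 0))) (.node (.node (.leaf 15753) (.leaf 0)) (.node (.leaf 20330) (.leaf 0))))) (.node (.node (.node (.node (.leaf 124672) (.leaf 2232)) (.node (.leaf 1583) (.leaf 0))) (.node (.node (.leaf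 2280) (.leaf 0)) (.node (.leaf 6699) (.leaf 0)))) (.node (.node (.node (.leaf 41191) (.leaf 100139)) (.node (.leaf 43515) (.leaf 0))) (.node (.node (.leaf 23247) (.leaf 0)) (.node (.leaf 104941) (.leaf 0))))))) (.node (.node (.node (.node (.node (.node (.leaf 95139) (.leaf 28144)) (.node (.leaf 21761) (.leaf 0))) (.node (.node (.leaf 63347) (.leaf 0)) (.node (.leaf 59871) (.leaf 0)))) (.node (.node (.node (.leaf 97655) (.leaf 357)) (.node (.leaf 48609) (.leaf 0))) (.node (.node (.leaf 50155) (.leaf 0)) (.node (.leaf 68545) (.leaf 0))))) (.node (.node (.node (.node (.leaf 86475) (.leaf 104828)) (.node (.leaf 10187) (.leaf 0))) (.node (.node (.leaf 18758) (.leaf 0)) (.node (.leaf 60620) (.leaf 0)))) (.node (.node (.node (.leaf 39229) (.leaf 42754)) (.node (.leaf 615) (.leaf 0))) (.node (.node (.leaf 30015) (.leaf 0)) (.node (.leaf 50043) (.leaf 0)))))) (.node (.node (.node (.node (.node (.leaf 61805) (.leaf 54452)) (.node (.leaf 54188) (.leaf 0))) (.node (.node (.leaf 40787) (.leaf 0)) (.node (.leaf 21130)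 (.leaf 0)))) (.node (.node (.node (.leaf 61787) (.leaf 107264)) (.node (.leaf 107929) (.leaf 0))) (.node (.node (.leaf 13525) (.leaf 0)) (.node (.leaf 11552) (.leaf 0))))) (.node (.node (.node (.node (.leaf 9923) (.leaf 14718)) (.node (.leaf 116105) (.leaf 0))) (.node (.node (.leaf 29419) (.leaf 0)) (.node (.leaf 128271) (.leaf 0)))) (.node (.node (.node (.leaf 28740) (.leaf 126843)) (.node (.leaf 58182) (.leaf 0))) (.node (.node (.leaf 85248) (.leaf 0)) (.node (.leaf 113437) (.leaf 0))))))))

def kT92 : NT := .node (.node (.node (.node (.node (.node (.node (.node (.leaf 13805) (.leaf 48012)) (.node (.leaf 52548) (.leaf 0))) (.node (.node (.leaf 126778) (.leaf 0)) (.node (.leaf 89012) (.leaf 0)))) (.node (.node (.node (.leaf 102847) (.leaf 35116)) (.node (.leaf 35631) (.leaf 0))) (.node (.node (.leaf 2740) (.leaf 0)) (.node (.leaf 128399) (.leaf 0))))) (.node (.node (.node (.node (.leaf 60606) (.leaf 35036)) (.node (.leaf 115062) (.leaf 0))) (.node (.node (.leaf 53646) (.leaf 0)) (.node (.leaf 6622) (.leaf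 0)))) (.node (.node (.node (.leaf 23297) (.leaf 102290)) (.node (.leaf 24814) (.leaf 0))) (.node (.node (.leaf 76078) (.leaf 0)) (.node (.leaf 12021) (.leaf 0)))))) (.node (.node (.node (.node (.node (.leaf 82918) (.leaf 104389)) (.node (.leaf 23501) (.leaf 0))) (.node (.node (.leaf 38628) (.leaf 0)) (.node (.leaf 63281) (.leaf 0)))) (.node (.node (.node (.leaf 65813) (.leaf 9825)) (.node (.leaf 5022) (.leaf 0))) (.node (.node (.leaf 85395) (.leaf 0)) (.node (.leaf 19836) (.leaf 0))))) (.node (.node (.node (.node (.leaf 100187) (.leaf 66938)) (.node (.leaf 13185) (.leaf 0))) (.node (.node (.leaf 9396) (.leaf 0)) (.node (.leaf 81381) (.leaf 0)))) (.node (.node (.node (.leaf 74633) (.leaf 37557)) (.node (.leaf 35756) (.leaf 0))) (.node (.node (.leaf 9904) (.leaf 0)) (.node (.leaf 72461) (.leaf 0))))))) (.node (.node (.node (.node (.node (.node (.leaf 25456) (.leaf 59896)) (.node (.leaf 72491) (.leaf 0))) (.node (.node (.leaf 107918) (.leaf 0)) (.node (.leaf 30131) (.leaf 0)))) (.node (.node (.node (.leaf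 48114) (.leaf 51440)) (.node (.leaf 57059) (.leaf 0))) (.node (.node (.leaf 21987) (.leaf 0)) (.node (.leaf 91912) (.leaf 0))))) (.node (.node (.node (.node (.leaf 15105) (.leaf 20205)) (.node (.leaf 18263) (.leaf 0))) (.node (.node (.leaf 34713) (.leaf 0)) (.node (.leaf 123695) (.leaf 0)))) (.node (.node (.node (.leaf 98303) (.leaf 58039)) (.node (.leaf 46879) (.leaf 0))) (.node (.node (.leaf 15980) (.leaf 0)) (.node (.leaf 64856) (.leaf 0)))))) (.node (.node (.node (.node (.node (.leaf 99777) (.leaf 91619)) (.node (.leaf 105764) (.leaf 0))) (.node (.node (.leaf 40323) (.leaf 0)) (.node (.leaf 63825) (.leaf 0)))) (.node (.node (.node (.leaf 11304) (.leaf 2975)) (.node (.leaf 26400) (.leaf 0))) (.node (.node (.leaf 112521) (.leaf 0)) (.node (.leaf 40430) (.leaf 0))))) (.node (.node (.node (.node (.leaf 19160) (.leaf 69455)) (.node (.leaf 824) (.leaf 0))) (.node (.node (.leaf 45207) (.leaf 0)) (.node (.leaf 3670) (.leaf 0)))) (.node (.node (.node (.leaf 58861) (.leaf 43510)) (.node (.leaf 28088) (.leaf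 0))) (.node (.node (.leaf 96197) (.leaf 0)) (.node (.leaf 33716) (.leaf 0)))))))) (.node (.node (.node (.node (.node (.node (.node (.leaf 47417) (.leaf 10672)) (.node (.leaf 28839) (.leaf 0))) (.node (.node (.leaf 86393) (.leaf 0)) (.node (.leaf 25463) (.leaf 0)))) (.node (.node (.node (.leaf 86472) (.leaf 40402)) (.node (.leaf 78123) (.leaf 0))) (.node (.node (.leaf 41335) (.leaf 0)) (.node (.leaf 111392) (.leaf 0))))) (.node (.node (.node (.node (.leaf 43236) (.leaf 96715)) (.node (.leaf 79177) (.leaf 0))) (.node (.node (.leaf 91981) (.leaf 0)) (.node (.leaf 25738) (.leaf 0)))) (.node (.node (.node (.leaf 6838) (.leaf 12984)) (.node (.leaf 94076) (.leaf 0))) (.node (.node (.leaf 50122) (.leaf 0)) (.node (.leaf 60067) (.leaf 0)))))) (.node (.node (.node (.node (.node (.leaf 127766) (.leaf 24391)) (.node (.leaf 29856) (.leaf 0))) (.node (.node (.leaf 89595) (.leaf 0)) (.node (.leaf 56449) (.leaf 0)))) (.node (.node (.node (.leaf 77618) (.leaf 38017)) (.node (.leaf 12479) (.leaf 0))) (.node (.node (.leaf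 80166) (.leaf 0)) (.node (.leaf 40612) (.leaf 0))))) (.node (.node (.node (.node (.leaf 21132) (.leaf 44682)) (.node (.leaf 86279) (.leaf 0))) (.node (.node (.leaf 124196) (.leaf 0)) (.node (.leaf 87421) (.leaf 0)))) (.node (.node (.node (.leaf 16375) (.leaf 39578)) (.node (.leaf 74117) (.leaf 0))) (.node (.node (.leaf 10943) (.leaf 0)) (.node (.leaf 12662) (.leaf 0))))))) (.node (.node (.node (.node (.node (.node (.leaf 19853) (.leaf 105342)) (.node (.leaf 33596) (.leaf 0))) (.node (.node (.leaf 71032) (.leaf 0)) (.node (.leaf 26111) (.leaf 0)))) (.node (.node (.node (.leaf 69379) (.leaf 84977)) (.node (.leaf 65476) (.leaf 0))) (.node (.node (.leaf 39643) (.leaf 0)) (.node (.leaf 118617) (.leaf 0))))) (.node (.node (.node (.node (.leaf 21422) (.leaf 67868)) (.node (.leaf 115975) (.leaf 0))) (.node (.node (.leaf 26929) (.leaf 0)) (.node (.leaf 62244) (.leaf 0)))) (.node (.node (.node (.leaf 111070) (.leaf 101866)) (.node (.leaf 90073) (.leaf 0))) (.node (.node (.leaf 44810) (.leaf 0)) (.node (.leaf 69935)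 (.leaf 0)))))) (.node (.node (.node (.node (.node (.leaf 54233) (.leaf 38630)) (.node (.leaf 70492) (.leaf 0))) (.node (.node (.leaf 43417) (.leaf 0)) (.node (.leaf 96129) (.leaf 0)))) (.node (.node (.node (.leaf 57007) (.leaf 1204)) (.node (.leaf 42299) (.leaf 0))) (.node (.node (.leaf 42989) (.leaf 0)) (.node (.leaf 6957) (.leaf 0))))) (.node (.node (.node (.node (.leaf 26177) (.leaf 89387)) (.node (.leaf 56495) (.leaf 0))) (.node (.node (.leaf 113029) (.leaf 0)) (.node (.leaf 14200) (.leaf 0)))) (.node (.node (.node (.leaf 45939) (.leaf 98800)) (.node (.leaf 75155) (.leaf 0))) (.node (.node (.leaf 6433) (.leaf 0)) (.node (.leaf 66886) (.leaf 0))))))))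

def kT93 : NT := .node (.node (.node (.node (.node (.node (.node (.node (.leaf 86433) (.leaf 114555)) (.node (.leaf 915) (.leaf 0))) (.node (.node (.leaf 50849) (.leaf 0)) (.node (.leaf 11404) (.leaf 0)))) (.node (.node (.node (.leaf 58033) (.leaf 126974)) (.node (.leaf 48461) (.leaf 0))) (.node (.node (.leaf 112048) (.leaf 0)) (.node (.leaf 13034) (.leaf 0))))) (.node (.node (.node (.node (.leaf 127889) (.leaf 23031)) (.node (.leaf 96631) (.leaf 0))) (.node (.node (.leaf 54511) (.leaf 0)) (.node (.leaf 70431) (.leaf 0)))) (.node (.node (.node (.leaf 115004) (.leaf 67066)) (.node (.leaf 21177) (.leaf 0))) (.node (.node (.leaf 81259) (.leaf 0)) (.node (.leaf 127815) (.leaf 0)))))) (.node (.node (.node (.node (.node (.leaf 129827) (.leaf 63471)) (.node (.leaf 48318) (.leaf 0))) (.node (.node (.leaf 11588) (.leaf 0)) (.node (.leaf 58183) (.leaf 0)))) (.node (.node (.node (.leaf 16191) (.leaf 110398)) (.node (.leaf 96635) (.leaf 0))) (.node (.node (.leaf 100327) (.leaf 0)) (.node (.leaf 19208) (.leaf 0)))))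 (.node (.node (.node (.node (.leaf 28457) (.leaf 740)) (.node (.leaf 107801) (.leaf 0))) (.node (.node (.leaf 18570) (.leaf 0)) (.node (.leaf 23326) (.leaf 0)))) (.node (.node (.node (.leaf 119086) (.leaf 115022)) (.node (.leaf 121631) (.leaf 0))) (.node (.node (.leaf 109962) (.leaf 0)) (.node (.leaf 47286) (.leaf 0))))))) (.node (.node (.node (.node (.node (.node (.leaf 71583) (.leaf 75170)) (.node (.leaf 41271) (.leaf 0))) (.node (.node (.leaf 11033) (.leaf 0)) (.node (.leaf 23434) (.leaf 0)))) (.node (.node (.node (.leaf 41709) (.leaf 64229)) (.node (.leaf 29396) (.leaf 0))) (.node (.node (.leaf 58160) (.leaf 0)) (.node (.leaf 23104) (.leaf 0))))) (.node (.node (.node (.node (.leaf 126404) (.leaf 32361)) (.node (.leaf 116020) (.leaf 0))) (.node (.node (.leaf 49391) (.leaf 0)) (.node (.leaf 51425) (.leaf 0)))) (.node (.node (.node (.leaf 130834) (.leaf 18386)) (.node (.leaf 78599) (.leaf 0))) (.node (.node (.leaf 95630) (.leaf 0)) (.node (.leaf 51408) (.leaf 0)))))) (.node (.node (.node (.node (.node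 (.leaf 120204) (.leaf 22115)) (.node (.leaf 93039) (.leaf 0))) (.node (.node (.leaf 42828) (.leaf 0)) (.node (.leaf 64658) (.leaf 0)))) (.node (.node (.node (.leaf 9617) (.leaf 57094)) (.node (.leaf 56124) (.leaf 0))) (.node (.node (.leaf 21382) (.leaf 0)) (.node (.leaf 126431) (.leaf 0))))) (.node (.node (.node (.node (.leaf 118036) (.leaf 17669)) (.node (.leaf 127297) (.leaf 0))) (.node (.node (.leaf 6010) (.leaf 0)) (.node (.leaf 58140) (.leaf 0)))) (.node (.node (.node (.leaf 88385) (.leaf 55721)) (.node (.leaf 115161) (.leaf 0))) (.node (.node (.leaf 9331) (.leaf 0)) (.node (.leaf 121272) (.leaf 0)))))))) (.node (.node (.node (.node (.node (.node (.node (.leaf 103174) (.leaf 25016)) (.node (.leaf 44987) (.leaf 0))) (.node (.node (.leaf 53430) (.leaf 0)) (.node (.leaf 111875) (.leaf 0)))) (.node (.node (.node (.leaf 28235) (.leaf 104857)) (.node (.leaf 53072) (.leaf 0))) (.node (.node (.leaf 124291) (.leaf 0)) (.node (.leaf 18542) (.leaf 0))))) (.node (.node (.node (.node (.leaf 28946) (.leaf 22142))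 (.node (.leaf 78136) (.leaf 0))) (.node (.node (.leaf 35770) (.leaf 0)) (.node (.leaf 28667) (.leaf 0)))) (.node (.node (.node (.leaf 90503) (.leaf 42288)) (.node (.leaf 64901) (.leaf 0))) (.node (.node (.leaf 12128) (.leaf 0)) (.node (.leaf 89993) (.leaf 0)))))) (.node (.node (.node (.node (.node (.leaf 15767) (.leaf 53525)) (.node (.leaf 61935) (.leaf 0))) (.node (.node (.leaf 57160) (.leaf 0)) (.node (.leaf 42901) (.leaf 0)))) (.node (.node (.node (.leaf 109889) (.leaf 76686)) (.node (.leaf 56017) (.leaf 0))) (.node (.node (.leaf 52486) (.leaf 0)) (.node (.leaf 2896) (.leaf 0))))) (.node (.node (.node (.node (.leaf 8506) (.leaf 112501)) (.node (.leaf 82690) (.leaf 0))) (.node (.node (.leaf 40130) (.leaf 0)) (.node (.leaf 35245) (.leaf 0)))) (.node (.node (.node (.leaf 82393) (.leaf 33059)) (.node (.leaf 46336) (.leaf 0))) (.node (.node (.leaf 39083) (.leaf 0)) (.node (.leaf 28355) (.leaf 0))))))) (.node (.node (.node (.node (.node (.node (.leaf 103695) (.leaf 60280)) (.node (.leaf 18682) (.leaf 0)))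 (.node (.node (.leaf 123816) (.leaf 0)) (.node (.leaf 112631) (.leaf 0)))) (.node (.node (.node (.leaf 4155) (.leaf 52527)) (.node (.leaf 88474) (.leaf 0))) (.node (.node (.leaf 11243) (.leaf 0)) (.node (.leaf 90922) (.leaf 0))))) (.node (.node (.node (.node (.leaf 95537) (.leaf 30325)) (.node (.leaf 107863) (.leaf 0))) (.node (.node (.leaf 62620) (.leaf 0)) (.node (.leaf 47477) (.leaf 0)))) (.node (.node (.node (.leaf 93569) (.leaf 73085)) (.node (.leaf 69052) (.leaf 0))) (.node (.node (.leaf 24897) (.leaf 0)) (.node (.leaf 23641) (.leaf 0)))))) (.node (.node (.node (.node (.node (.leaf 91135) (.leaf 13621)) (.node (.leaf 117230) (.leaf 0))) (.node (.node (.leaf 19538) (.leaf 0)) (.node (.leaf 62369) (.leaf 0)))) (.node (.node (.node (.leaf 91924) (.leaf 5157)) (.node (.leaf 99158) (.leaf 0))) (.node (.node (.leaf 4717) (.leaf 0)) (.node (.leaf 36064) (.leaf 0))))) (.node (.node (.node (.node (.leaf 38839) (.leaf 41655)) (.node (.leaf 93691) (.leaf 0))) (.node (.node (.leaf 45380) (.leaf 0)) (.node (.leaf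 18133) (.leaf 0)))) (.node (.node (.node (.leaf 5854) (.leaf 72165)) (.node (.leaf 107986) (.leaf 0))) (.node (.node (.leaf 19773) (.leaf 0)) (.node (.leaf 92547) (.leaf 0))))))))

def kT94 : NT := .node (.node (.node (.node (.node (.node (.node (.node (.leaf 22295) (.leaf 100823)) (.node (.leaf 39281) (.leaf 0))) (.node (.node (.leaf 94488) (.leaf 0)) (.node (.leaf 116627) (.leaf 0)))) (.node (.node (.node (.leaf 5670) (.leaf 83203)) (.node (.leaf 29352) (.leaf 0))) (.node (.node (.leaf 6617) (.leaf 0)) (.node (.leaf 53914) (.leaf 0))))) (.node (.node (.node (.node (.leaf 35275) (.leaf 32337)) (.node (.leaf 110942) (.leaf 0))) (.node (.node (.leaf 51426) (.leaf 0)) (.node (.leaf 89032) (.leaf 0)))) (.node (.node (.node (.leaf 82228) (.leaf 102696)) (.node (.leaf 90614) (.leaf 0))) (.node (.node (.leaf 99129) (.leaf 0)) (.node (.leaf 56047) (.leaf 0)))))) (.node (.node (.node (.node (.node (.leaf 123343) (.leaf 2602)) (.node (.leaf 15818) (.leaf 0))) (.node (.node (.leaf 63444) (.leaf 0)) (.node (.leaf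 52912) (.leaf 0)))) (.node (.node (.node (.leaf 36161) (.leaf 58852)) (.node (.leaf 45702) (.leaf 0))) (.node (.node (.leaf 45556) (.leaf 0)) (.node (.leaf 112638) (.leaf 0))))) (.node (.node (.node (.node (.leaf 51174) (.leaf 4692)) (.node (.leaf 77251) (.leaf 0))) (.node (.node (.leaf 96109) (.leaf 0)) (.node (.leaf 7795) (.leaf 0)))) (.node (.node (.node (.leaf 8286) (.leaf 38855)) (.node (.leaf 110504) (.leaf 0))) (.node (.node (.leaf 58565) (.leaf 0)) (.node (.leaf 18260) (.leaf 0))))))) (.node (.node (.node (.node (.node (.node (.leaf 1592) (.leaf 106487)) (.node (.leaf 65436) (.leaf 0))) (.node (.node (.leaf 77276) (.leaf 0)) (.node (.leaf 62300) (.leaf 0)))) (.node (.node (.node (.leaf 42122) (.leaf 8660)) (.node (.leaf 42138) (.leaf 0))) (.node (.node (.leaf 14881) (.leaf 0)) (.node (.leaf 39635) (.leaf 0))))) (.node (.node (.node (.node (.leaf 48841) (.leaf 28828)) (.node (.leaf 27821) (.leaf 0))) (.node (.node (.leaf 56604) (.leaf 0)) (.node (.leaf 41109) (.leaf 0)))) (.node (.node (.node (.leaf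 80799) (.leaf 13143)) (.node (.leaf 6817) (.leaf 0))) (.node (.node (.leaf 24913) (.leaf 0)) (.node (.leaf 39893) (.leaf 0)))))) (.node (.node (.node (.node (.node (.leaf 8235) (.leaf 49298)) (.node (.leaf 59035) (.leaf 0))) (.node (.node (.leaf 5237) (.leaf 0)) (.node (.leaf 64137) (.leaf 0)))) (.node (.node (.node (.leaf 119780) (.leaf 59060)) (.node (.leaf 2795) (.leaf 0))) (.node (.node (.leaf 81899) (.leaf 0)) (.node (.leaf 73644) (.leaf 0))))) (.node (.node (.node (.node (.leaf 25012) (.leaf 63689)) (.node (.leaf 5492) (.leaf 0))) (.node (.node (.leaf 110961) (.leaf 0)) (.node (.leaf 61418) (.leaf 0)))) (.node (.node (.node (.leaf 45885) (.leaf 77597)) (.node (.leaf 45378) (.leaf 0))) (.node (.node (.leaf 19598) (.leaf 0)) (.node (.leaf 125314) (.leaf 0)))))))) (.node (.node (.node (.node (.node (.node (.node (.leaf 59751) (.leaf 95722)) (.node (.leaf 84261) (.leaf 0))) (.node (.node (.leaf 35679) (.leaf 0)) (.node (.leaf 77653) (.leaf 0)))) (.node (.node (.node (.leaf 58695) (.leaf 101887)) (.node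 (.leaf 35541) (.leaf 0))) (.node (.node (.leaf 98614) (.leaf 0)) (.node (.leaf 32562) (.leaf 0))))) (.node (.node (.node (.node (.leaf 60119) (.leaf 33004)) (.node (.leaf 14593) (.leaf 0))) (.node (.node (.leaf 83223) (.leaf 0)) (.node (.leaf 79281) (.leaf 0)))) (.node (.node (.node (.leaf 29815) (.leaf 52028)) (.node (.leaf 108506) (.leaf 0))) (.node (.node (.leaf 47368) (.leaf 0)) (.node (.leaf 41920) (.leaf 0)))))) (.node (.node (.node (.node (.node (.leaf 76250) (.leaf 24376)) (.node (.leaf 49143) (.leaf 0))) (.node (.node (.leaf 130893) (.leaf 0)) (.node (.leaf 80132) (.leaf 0)))) (.node (.node (.node (.leaf 19574) (.leaf 23253)) (.node (.leaf 129975) (.leaf 0))) (.node (.node (.leaf 7571) (.leaf 0)) (.node (.leaf 73495) (.leaf 0))))) (.node (.node (.node (.node (.leaf 15324) (.leaf 57156)) (.node (.leaf 7041) (.leaf 0))) (.node (.node (.leaf 98156) (.leaf 0)) (.node (.leaf 54037) (.leaf 0)))) (.node (.node (.node (.leaf 50661) (.leaf 21948)) (.node (.leaf 81224) (.leaf 0))) (.node (.node (.leaf 31819)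 (.leaf 0)) (.node (.leaf 31061) (.leaf 0))))))) (.node (.node (.node (.node (.node (.node (.leaf 15545) (.leaf 87358)) (.node (.leaf 40076) (.leaf 0))) (.node (.node (.leaf 59826) (.leaf 0)) (.node (.leaf 101769) (.leaf 0)))) (.node (.node (.node (.leaf 5341) (.leaf 18056)) (.node (.leaf 25435) (.leaf 0))) (.node (.node (.leaf 68364) (.leaf 0)) (.node (.leaf 22122) (.leaf 0))))) (.node (.node (.node (.node (.leaf 6956) (.leaf 155)) (.node (.leaf 8533) (.leaf 0))) (.node (.node (.leaf 47380) (.leaf 0)) (.node (.leaf 129874) (.leaf 0)))) (.node (.node (.node (.leaf 29821) (.leaf 6397)) (.node (.leaf 69035) (.leaf 0))) (.node (.node (.leaf 47973) (.leaf 0)) (.node (.leaf 53442) (.leaf 0)))))) (.node (.node (.node (.node (.node (.leaf 54783) (.leaf 63136)) (.node (.leaf 62960) (.leaf 0))) (.node (.node (.leaf 83840) (.leaf 0)) (.node (.leaf 8434) (.leaf 0)))) (.node (.node (.node (.leaf 8749) (.leaf 5792)) (.node (.leaf 107405) (.leaf 0))) (.node (.node (.leaf 55077) (.leaf 0)) (.node (.leaf 118122) (.leaf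 0))))) (.node (.node (.node (.node (.leaf 40660) (.leaf 73542)) (.node (.leaf 56996) (.leaf 0))) (.node (.node (.leaf 9427) (.leaf 0)) (.node (.leaf 73591) (.leaf 0)))) (.node (.node (.node (.leaf 27346) (.leaf 23624)) (.node (.leaf 341) (.leaf 0))) (.node (.node (.leaf 79835) (.leaf 0)) (.node (.leaf 355) (.leaf 0))))))))

def kT95 : NT := .node (.node (.node (.node (.node (.node (.node (.node (.leaf 63857) (.leaf 113447)) (.node (.leaf 108810) (.leaf 0))) (.node (.node (.leaf 57157) (.leaf 0)) (.node (.leaf 63849) (.leaf 0)))) (.node (.node (.node (.leaf 87355) (.leaf 101356)) (.node (.leaf 5477) (.leaf 0))) (.node (.node (.leaf 20926) (.leaf 0)) (.node (.leaf 20206) (.leaf 0))))) (.node (.node (.node (.node (.leaf 48084) (.leaf 73062)) (.node (.leaf 29473) (.leaf 0))) (.node (.node (.leaf 43299) (.leaf 0)) (.node (.leaf 85811) (.leaf 0)))) (.node (.node (.node (.leaf 5363) (.leaf 6976)) (.node (.leaf 12336) (.leaf 0))) (.node (.node (.leaf 1830) (.leaf 0)) (.node (.leaf 77239) (.leaf 0)))))) (.node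 (.node (.node (.node (.node (.leaf 80267) (.leaf 26190)) (.node (.leaf 28345) (.leaf 0))) (.node (.node (.leaf 60682) (.leaf 0)) (.node (.leaf 96244) (.leaf 0)))) (.node (.node (.node (.leaf 73595) (.leaf 60679)) (.node (.leaf 76693) (.leaf 0))) (.node (.node (.leaf 36595) (.leaf 0)) (.node (.leaf 106857) (.leaf 0))))) (.node (.node (.node (.node (.leaf 44405) (.leaf 32066)) (.node (.leaf 62764) (.leaf 0))) (.node (.node (.leaf 51993) (.leaf 0)) (.node (.leaf 26795) (.leaf 0)))) (.node (.node (.node (.leaf 59347) (.leaf 65471)) (.node (.leaf 93445) (.leaf 0))) (.node (.node (.leaf 84286) (.leaf 0)) (.node (.leaf 27574) (.leaf 0))))))) (.node (.node (.node (.node (.node (.node (.leaf 53895) (.leaf 19650)) (.node (.leaf 44970) (.leaf 0))) (.node (.node (.leaf 2358) (.leaf 0)) (.node (.leaf 64672) (.leaf 0)))) (.node (.node (.node (.leaf 84301) (.leaf 37369)) (.node (.leaf 57521) (.leaf 0))) (.node (.node (.leaf 29962) (.leaf 0)) (.node (.leaf 11087) (.leaf 0))))) (.node (.node (.node (.node (.leaf 66371)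 (.leaf 7915)) (.node (.leaf 13355) (.leaf 0))) (.node (.node (.leaf 50491) (.leaf 0)) (.node (.leaf 10223) (.leaf 0)))) (.node (.node (.node (.leaf 49077) (.leaf 77215)) (.node (.leaf 24851) (.leaf 0))) (.node (.node (.leaf 127380) (.leaf 0)) (.node (.leaf 14127) (.leaf 0)))))) (.node (.node (.node (.node (.node (.leaf 79846) (.leaf 37207)) (.node (.leaf 21703) (.leaf 0))) (.node (.node (.leaf 5902) (.leaf 0)) (.node (.leaf 72964) (.leaf 0)))) (.node (.node (.node (.leaf 87432) (.leaf 19379)) (.node (.leaf 12557) (.leaf 0))) (.node (.node (.leaf 43325) (.leaf 0)) (.node (.leaf 41766) (.leaf 0))))) (.node (.node (.node (.node (.leaf 55059) (.leaf 49954)) (.node (.leaf 27201) (.leaf 0))) (.node (.node (.leaf 5989) (.leaf 0)) (.node (.leaf 131002) (.leaf 0)))) (.node (.node (.node (.leaf 113926) (.leaf 62228)) (.node (.leaf 94169) (.leaf 0))) (.node (.node (.leaf 67465) (.leaf 0)) (.node (.leaf 3507) (.leaf 0)))))))) (.node (.node (.node (.node (.node (.node (.node (.leaf 59555) (.leaf 13356)) (.node (.leaf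 42743) (.leaf 0))) (.node (.node (.leaf 14430) (.leaf 0)) (.node (.leaf 130878) (.leaf 0)))) (.node (.node (.node (.leaf 2284) (.leaf 21678)) (.node (.leaf 122704) (.leaf 0))) (.node (.node (.leaf 67361) (.leaf 0)) (.node (.leaf 34203) (.leaf 0))))) (.node (.node (.node (.node (.leaf 90952) (.leaf 47465)) (.node (.leaf 28026) (.leaf 0))) (.node (.node (.leaf 67985) (.leaf 0)) (.node (.leaf 66821) (.leaf 0)))) (.node (.node (.node (.leaf 84461) (.leaf 36307)) (.node (.leaf 56003) (.leaf 0))) (.node (.node (.leaf 3134) (.leaf 0)) (.node (.leaf 86904) (.leaf 0)))))) (.node (.node (.node (.node (.node (.leaf 76087) (.leaf 102217)) (.node (.leaf 83765) (.leaf 0))) (.node (.node (.leaf 114083) (.leaf 0)) (.node (.leaf 42676) (.leaf 0)))) (.node (.node (.node (.leaf 62440) (.leaf 38741)) (.node (.leaf 26189) (.leaf 0))) (.node (.node (.leaf 53415) (.leaf 0)) (.node (.leaf 22374) (.leaf 0))))) (.node (.node (.node (.node (.leaf 14639) (.leaf 114471)) (.node (.leaf 37034) (.leaf 0))) (.node (.node (.leaf 31440)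 (.leaf 0)) (.node (.leaf 58750) (.leaf 0)))) (.node (.node (.node (.leaf 9303) (.leaf 18692)) (.node (.leaf 4239) (.leaf 0))) (.node (.node (.leaf 95175) (.leaf 0)) (.node (.leaf 101845) (.leaf 0))))))) (.node (.node (.node (.node (.node (.node (.leaf 80306) (.leaf 10048)) (.node (.leaf 98259) (.leaf 0))) (.node (.node (.leaf 91914) (.leaf 0)) (.node (.leaf 24343) (.leaf 0)))) (.node (.node (.node (.leaf 47797) (.leaf 41830)) (.node (.leaf 63862) (.leaf 0))) (.node (.node (.leaf 54023) (.leaf 0)) (.node (.leaf 57266) (.leaf 0))))) (.node (.node (.node (.node (.leaf 115094) (.leaf 109)) (.node (.leaf 11650) (.leaf 0))) (.node (.node (.leaf 28794) (.leaf 0)) (.node (.leaf 48126) (.leaf 0)))) (.node (.node (.node (.leaf 115710) (.leaf 73003)) (.node (.leaf 73678) (.leaf 0))) (.node (.node (.leaf 117162) (.leaf 0)) (.node (.leaf 101336) (.leaf 0)))))) (.node (.node (.node (.node (.node (.leaf 53215) (.leaf 116054)) (.node (.leaf 46305) (.leaf 0))) (.node (.node (.leaf 125391) (.leaf 0)) (.node (.leaf 18822)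 (.leaf 0)))) (.node (.node (.node (.leaf 8898) (.leaf 94708)) (.node (.leaf 11378) (.leaf 0))) (.node (.node (.leaf 104869) (.leaf 0)) (.node (.leaf 40746) (.leaf 0))))) (.node (.node (.node (.node (.leaf 56035) (.leaf 26917)) (.node (.leaf 42768) (.leaf 0))) (.node (.node (.leaf 24462) (.leaf 0)) (.node (.leaf 32025) (.leaf 0)))) (.node (.node (.node (.leaf 16198) (.leaf 22143)) (.node (.leaf 22848) (.leaf 0))) (.node (.node (.leaf 97255) (.leaf 0)) (.node (.leaf 91420) (.leaf 0))))))))

def kT96 : NT := .node (.node (.node (.node (.node (.node (.node (.node (.leaf 7562) (.leaf 120597)) (.node (.leaf 12631) (.leaf 0))) (.node (.node (.leaf 39663) (.leaf 0)) (.node (.leaf 9782) (.leaf 0)))) (.node (.node (.node (.leaf 68569) (.leaf 39136)) (.node (.leaf 33508) (.leaf 0))) (.node (.node (.leaf 53590) (.leaf 0)) (.node (.leaf 26357) (.leaf 0))))) (.node (.node (.node (.node (.leaf 58753) (.leaf 52103)) (.node (.leaf 111422) (.leaf 0))) (.node (.node (.leaf 76651) (.leaf 0)) (.node (.leaf 12775) (.leaf 0))))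 (.node (.node (.node (.leaf 27481) (.leaf 60822)) (.node (.leaf 100628) (.leaf 0))) (.node (.node (.leaf 50467) (.leaf 0)) (.node (.leaf 72699) (.leaf 0)))))) (.node (.node (.node (.node (.node (.leaf 68999) (.leaf 39242)) (.node (.leaf 18679) (.leaf 0))) (.node (.node (.leaf 49599) (.leaf 0)) (.node (.leaf 58199) (.leaf 0)))) (.node (.node (.node (.leaf 41625) (.leaf 26285)) (.node (.leaf 506) (.leaf 0))) (.node (.node (.leaf 76636) (.leaf 0)) (.node (.leaf 58533) (.leaf 0))))) (.node (.node (.node (.node (.leaf 76083) (.leaf 43911)) (.node (.leaf 1737) (.leaf 0))) (.node (.node (.leaf 58530) (.leaf 0)) (.node (.leaf 39144) (.leaf 0)))) (.node (.node (.node (.leaf 10741) (.leaf 51638)) (.node (.leaf 2297) (.leaf 0))) (.node (.node (.leaf 36672) (.leaf 0)) (.node (.leaf 72647) (.leaf 0))))))) (.node (.node (.node (.node (.node (.node (.leaf 22910) (.leaf 72154)) (.node (.leaf 41098) (.leaf 0))) (.node (.node (.leaf 63463) (.leaf 0)) (.node (.leaf 67884) (.leaf 0)))) (.node (.node (.node (.leaf 45495) (.leaf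 110507)) (.node (.leaf 25494) (.leaf 0))) (.node (.node (.leaf 67332) (.leaf 0)) (.node (.leaf 53006) (.leaf 0))))) (.node (.node (.node (.node (.leaf 30933) (.leaf 88003)) (.node (.leaf 10979) (.leaf 0))) (.node (.node (.leaf 35537) (.leaf 0)) (.node (.leaf 13504) (.leaf 0)))) (.node (.node (.node (.leaf 93007) (.leaf 29124)) (.node (.leaf 80689) (.leaf 0))) (.node (.node (.leaf 72146) (.leaf 0)) (.node (.leaf 60625) (.leaf 0)))))) (.node (.node (.node (.node (.node (.leaf 18685) (.leaf 17285)) (.node (.leaf 12626) (.leaf 0))) (.node (.node (.leaf 42804) (.leaf 0)) (.node (.leaf 70545) (.leaf 0)))) (.node (.node (.node (.leaf 58075) (.leaf 114058)) (.node (.leaf 49934) (.leaf 0))) (.node (.node (.leaf 25862) (.leaf 0)) (.node (.leaf 24269) (.leaf 0))))) (.node (.node (.node (.node (.leaf 80866) (.leaf 43144)) (.node (.leaf 33690) (.leaf 0))) (.node (.node (.leaf 128487) (.leaf 0)) (.node (.leaf 28754) (.leaf 0)))) (.node (.node (.node (.leaf 7697) (.leaf 30946)) (.node (.leaf 79240) (.leaf 0))) (.node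 (.node (.leaf 28877) (.leaf 0)) (.node (.leaf 49645) (.leaf 0)))))))) (.node (.node (.node (.node (.node (.node (.node (.leaf 27991) (.leaf 21365)) (.node (.leaf 119564) (.leaf 0))) (.node (.node (.leaf 7804) (.leaf 0)) (.node (.leaf 117223) (.leaf 0)))) (.node (.node (.node (.leaf 82852) (.leaf 81391)) (.node (.leaf 107442) (.leaf 0))) (.node (.node (.leaf 126861) (.leaf 0)) (.node (.leaf 46986) (.leaf 0))))) (.node (.node (.node (.node (.leaf 101249) (.leaf 64824)) (.node (.leaf 32704) (.leaf 0))) (.node (.node (.leaf 54528) (.leaf 0)) (.node (.leaf 8955) (.leaf 0)))) (.node (.node (.node (.leaf 115553) (.leaf 8802)) (.node (.leaf 26488) (.leaf 0))) (.node (.node (.leaf 89431) (.leaf 0)) (.node (.leaf 39685) (.leaf 0)))))) (.node (.node (.node (.node (.node (.leaf 72011) (.leaf 43832)) (.node (.leaf 102347) (.leaf 0))) (.node (.node (.leaf 42326) (.leaf 0)) (.node (.leaf 45785) (.leaf 0)))) (.node (.node (.node (.leaf 122804) (.leaf 68365)) (.node (.leaf 5032) (.leaf 0))) (.node (.node (.leaf 82369)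 (.leaf 0)) (.node (.leaf 115558) (.leaf 0))))) (.node (.node (.node (.node (.leaf 57511) (.leaf 129005)) (.node (.leaf 2301) (.leaf 0))) (.node (.node (.leaf 63289) (.leaf 0)) (.node (.leaf 35616) (.leaf 0)))) (.node (.node (.node (.leaf 116646) (.leaf 127999)) (.node (.leaf 38679) (.leaf 0))) (.node (.node (.leaf 15262) (.leaf 0)) (.node (.leaf 42829) (.leaf 0))))))) (.node (.node (.node (.node (.node (.node (.leaf 83824) (.leaf 34975)) (.node (.leaf 97789) (.leaf 0))) (.node (.node (.leaf 23105) (.leaf 0)) (.node (.leaf 115469) (.leaf 0)))) (.node (.node (.node (.leaf 130952) (.leaf 3823)) (.node (.leaf 27247) (.leaf 0))) (.node (.node (.leaf 8534) (.leaf 0)) (.node (.leaf 585) (.leaf 0))))) (.node (.node (.node (.node (.leaf 19121) (.leaf 125426)) (.node (.leaf 55123) (.leaf 0))) (.node (.node (.leaf 82366) (.leaf 0)) (.node (.leaf 120247) (.leaf 0)))) (.node (.node (.node (.leaf 106251) (.leaf 70471)) (.node (.leaf 126443) (.leaf 0))) (.node (.node (.leaf 128479) (.leaf 0)) (.node (.leaf 81895) (.leaf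 0)))))) (.node (.node (.node (.node (.node (.leaf 119679) (.leaf 126447)) (.node (.leaf 55514) (.leaf 0))) (.node (.node (.leaf 92461) (.leaf 0)) (.node (.leaf 8417) (.leaf 0)))) (.node (.node (.node (.leaf 19231) (.leaf 116084)) (.node (.leaf 14386) (.leaf 0))) (.node (.node (.leaf 46388) (.leaf 0)) (.node (.leaf 111933) (.leaf 0))))) (.node (.node (.node (.node (.leaf 18873) (.leaf 8334)) (.node (.leaf 24798) (.leaf 0))) (.node (.node (.leaf 109546) (.leaf 0)) (.node (.leaf 118158) (.leaf 0)))) (.node (.node (.node (.leaf 25381) (.leaf 9539)) (.node (.leaf 19756) (.leaf 0))) (.node (.node (.leaf 105847) (.leaf 0)) (.node (.leaf 57709) (.leaf 0))))))))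

def kT97 : NT := .node (.node (.node (.node (.node (.node (.node (.node (.leaf 112639) (.leaf 46459)) (.node (.leaf 81358) (.leaf 0))) (.node (.node (.leaf 126448) (.leaf 0)) (.node (.leaf 86388) (.leaf 0)))) (.node (.node (.node (.leaf 20594) (.leaf 50415)) (.node (.leaf 35226) (.leaf 0))) (.node (.node (.leaf 26237) (.leaf 0)) (.node (.leaf 2733) (.leaf 0))))) (.node (.node (.node (.node (.leaf 24483) (.leaf 16713)) (.node (.leaf 28249) (.leaf 0))) (.node (.node (.leaf 68540) (.leaf 0)) (.node (.leaf 54035) (.leaf 0)))) (.node (.node (.node (.leaf 114130) (.leaf 93973)) (.node (.leaf 62750) (.leaf 0))) (.node (.node (.leaf 35645) (.leaf 0)) (.node (.leaf 42855) (.leaf 0)))))) (.node (.node (.node (.node (.node (.leaf 23688) (.leaf 4470)) (.node (.leaf 54160) (.leaf 0))) (.node (.node (.leaf 35313) (.leaf 0)) (.node (.leaf 98293) (.leaf 0)))) (.node (.node (.node (.leaf 115636) (.leaf 118243)) (.node (.leaf 64466) (.leaf 0))) (.node (.node (.leaf 29122) (.leaf 0)) (.node (.leaf 52452) (.leaf 0))))) (.node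 (.node (.node (.node (.leaf 123308) (.leaf 20392)) (.node (.leaf 124721) (.leaf 0))) (.node (.node (.leaf 109850) (.leaf 0)) (.node (.leaf 119263) (.leaf 0)))) (.node (.node (.node (.leaf 31220) (.leaf 29781)) (.node (.leaf 50612) (.leaf 0))) (.node (.node (.leaf 34977) (.leaf 0)) (.node (.leaf 23532) (.leaf 0))))))) (.node (.node (.node (.node (.node (.node (.leaf 65513) (.leaf 1812)) (.node (.leaf 49873) (.leaf 0))) (.node (.node (.leaf 14602) (.leaf 0)) (.node (.leaf 95532) (.leaf 0)))) (.node (.node (.node (.leaf 11246) (.leaf 109469)) (.node (.leaf 8860) (.leaf 0))) (.node (.node (.leaf 51854) (.leaf 0)) (.node (.leaf 70413) (.leaf 0))))) (.node (.node (.node (.node (.leaf 61369) (.leaf 8548)) (.node (.leaf 92028) (.leaf 0))) (.node (.node (.leaf 47) (.leaf 0)) (.node (.leaf 97619) (.leaf 0)))) (.node (.node (.node (.leaf 127455) (.leaf 61416)) (.node (.leaf 25339) (.leaf 0))) (.node (.node (.leaf 127305) (.leaf 0)) (.node (.leaf 40375) (.leaf 0)))))) (.node (.node (.node (.node (.node (.leaf 5281)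 (.leaf 6284)) (.node (.leaf 34726) (.leaf 0))) (.node (.node (.leaf 62697) (.leaf 0)) (.node (.leaf 105834) (.leaf 0)))) (.node (.node (.node (.leaf 19197) (.leaf 22121)) (.node (.leaf 3026) (.leaf 0))) (.node (.node (.leaf 25761) (.leaf 0)) (.node (.leaf 10431) (.leaf 0))))) (.node (.node (.node (.node (.leaf 58709) (.leaf 116159)) (.node (.leaf 95103) (.leaf 0))) (.node (.node (.leaf 9994) (.leaf 0)) (.node (.leaf 34730) (.leaf 0)))) (.node (.node (.node (.leaf 84849) (.leaf 81813)) (.node (.leaf 93601) (.leaf 0))) (.node (.node (.leaf 10686) (.leaf 0)) (.node (.leaf 9577) (.leaf 0)))))))) (.node (.node (.node (.node (.node (.node (.node (.leaf 31491) (.leaf 86320)) (.node (.leaf 99159) (.leaf 0))) (.node (.node (.leaf 24350) (.leaf 0)) (.node (.leaf 7144) (.leaf 0)))) (.node (.node (.node (.leaf 30503) (.leaf 53488)) (.node (.leaf 20176) (.leaf 0))) (.node (.node (.leaf 10238) (.leaf 0)) (.node (.leaf 51927) (.leaf 0))))) (.node (.node (.node (.node (.leaf 43466) (.leaf 105304)) (.node (.leaf 38292)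 (.leaf 0))) (.node (.node (.leaf 6690) (.leaf 0)) (.node (.leaf 25263) (.leaf 0)))) (.node (.node (.node (.leaf 117191) (.leaf 7897)) (.node (.leaf 112622) (.leaf 0))) (.node (.node (.leaf 64836) (.leaf 0)) (.node (.leaf 33960) (.leaf 0)))))) (.node (.node (.node (.node (.node (.leaf 15051) (.leaf 66951)) (.node (.leaf 83899) (.leaf 0))) (.node (.node (.leaf 1196) (.leaf 0)) (.node (.leaf 119249) (.leaf 0)))) (.node (.node (.node (.leaf 12940) (.leaf 57797)) (.node (.leaf 10669) (.leaf 0))) (.node (.node (.leaf 96642) (.leaf 0)) (.node (.leaf 6801) (.leaf 0))))) (.node (.node (.node (.node (.leaf 86825) (.leaf 34197)) (.node (.leaf 46943) (.leaf 0))) (.node (.node (.leaf 118618) (.leaf 0)) (.node (.leaf 16845) (.leaf 0)))) (.node (.node (.node (.leaf 119237) (.leaf 114554)) (.node (.leaf 30041) (.leaf 0))) (.node (.node (.leaf 728) (.leaf 0)) (.node (.leaf 59600) (.leaf 0))))))) (.node (.node (.node (.node (.node (.node (.leaf 54219) (.leaf 14896)) (.node (.leaf 69630) (.leaf 0))) (.node (.node (.leaf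 83346) (.leaf 0)) (.node (.leaf 100654) (.leaf 0)))) (.node (.node (.node (.leaf 123151) (.leaf 125813)) (.node (.leaf 21175) (.leaf 0))) (.node (.node (.leaf 60319) (.leaf 0)) (.node (.leaf 34096) (.leaf 0))))) (.node (.node (.node (.node (.leaf 52422) (.leaf 104816)) (.node (.leaf 75756) (.leaf 0))) (.node (.node (.leaf 30458) (.leaf 0)) (.node (.leaf 118075) (.leaf 0)))) (.node (.node (.node (.leaf 55189) (.leaf 73064)) (.node (.leaf 101327) (.leaf 0))) (.node (.node (.leaf 126235) (.leaf 0)) (.node (.leaf 24571) (.leaf 0)))))) (.node (.node (.node (.node (.node (.leaf 102280) (.leaf 100160)) (.node (.leaf 66452) (.leaf 0))) (.node (.node (.leaf 21706) (.leaf 0)) (.node (.leaf 53734) (.leaf 0)))) (.node (.node (.node (.leaf 66549) (.leaf 25799)) (.node (.leaf 43448) (.leaf 0))) (.node (.node (.leaf 96561) (.leaf 0)) (.node (.leaf 6521) (.leaf 0))))) (.node (.node (.node (.node (.leaf 41412) (.leaf 30875)) (.node (.leaf 68451) (.leaf 0))) (.node (.node (.leaf 94987) (.leaf 0)) (.node (.leaf 34083) (.leaf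 0)))) (.node (.node (.node (.leaf 58357) (.leaf 2716)) (.node (.leaf 24914) (.leaf 0))) (.node (.node (.leaf 21871) (.leaf 0)) (.node (.leaf 128456) (.leaf 0))))))))

def kT98 : NT := .node (.node (.node (.node (.node (.node (.node (.node (.leaf 57273) (.leaf 97258)) (.node (.leaf 18418) (.leaf 0))) (.node (.node (.leaf 40395) (.leaf 0)) (.node (.leaf 62748) (.leaf 0)))) (.node (.node (.node (.leaf 29547) (.leaf 56466)) (.node (.leaf 20841) (.leaf 0))) (.node (.node (.leaf 11297) (.leaf 0)) (.node (.leaf 130984) (.leaf 0))))) (.node (.node (.node (.node (.leaf 31998) (.leaf 6526)) (.node (.leaf 58234) (.leaf 0))) (.node (.node (.leaf 3878) (.leaf 0)) (.node (.leaf 80867) (.leaf 0)))) (.node (.node (.node (.leaf 69060) (.leaf 116543)) (.node (.leaf 1499) (.leaf 0))) (.node (.node (.leaf 125359) (.leaf 0)) (.node (.leaf 63225) (.leaf 0)))))) (.node (.node (.node (.node (.node (.leaf 15050) (.leaf 27200)) (.node (.leaf 115176) (.leaf 0))) (.node (.node (.leaf 83812) (.leaf 0)) (.node (.leaf 66895) (.leaf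 0)))) (.node (.node (.node (.leaf 72008) (.leaf 118117)) (.node (.leaf 47950) (.leaf 0))) (.node (.node (.leaf 91940) (.leaf 0)) (.node (.leaf 68416) (.leaf 0))))) (.node (.node (.node (.node (.leaf 26964) (.leaf 14059)) (.node (.leaf 10437) (.leaf 0))) (.node (.node (.leaf 90981) (.leaf 0)) (.node (.leaf 113519) (.leaf 0)))) (.node (.node (.node (.leaf 24540) (.leaf 127791)) (.node (.leaf 61696) (.leaf 0))) (.node (.node (.leaf 114553) (.leaf 0)) (.node (.leaf 62944) (.leaf 0))))))) (.node (.node (.node (.node (.node (.node (.leaf 105735) (.leaf 116733)) (.node (.leaf 15097) (.leaf 0))) (.node (.node (.leaf 120260) (.leaf 0)) (.node (.leaf 48925) (.leaf 0)))) (.node (.node (.node (.leaf 61158) (.leaf 105271)) (.node (.leaf 64217) (.leaf 0))) (.node (.node (.leaf 112073) (.leaf 0)) (.node (.leaf 12615) (.leaf 0))))) (.node (.node (.node (.node (.leaf 49445) (.leaf 13016)) (.node (.leaf 17197) (.leaf 0))) (.node (.node (.leaf 36077) (.leaf 0)) (.node (.leaf 30007) (.leaf 0)))) (.node (.node (.node (.leaf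 171) (.leaf 51602)) (.node (.leaf 37649) (.leaf 0))) (.node (.node (.leaf 16734) (.leaf 0)) (.node (.leaf 18911) (.leaf 0)))))) (.node (.node (.node (.node (.node (.leaf 6016) (.leaf 42795)) (.node (.leaf 15264) (.leaf 0))) (.node (.node (.leaf 108401) (.leaf 0)) (.node (.leaf 32005) (.leaf 0)))) (.node (.node (.node (.leaf 109528) (.leaf 30934)) (.node (.leaf 130899) (.leaf 0))) (.node (.node (.leaf 50340) (.leaf 0)) (.node (.leaf 8573) (.leaf 0))))) (.node (.node (.node (.node (.leaf 82851) (.leaf 70042)) (.node (.leaf 23804) (.leaf 0))) (.node (.node (.leaf 88022) (.leaf 0)) (.node (.leaf 130852) (.leaf 0)))) (.node (.node (.node (.leaf 47886) (.leaf 46323)) (.node (.leaf 116551) (.leaf 0))) (.node (.node (.leaf 35556) (.leaf 0)) (.node (.leaf 125270) (.leaf 0)))))))) (.node (.node (.node (.node (.node (.node (.node (.leaf 15810) (.leaf 93612)) (.node (.leaf 77186) (.leaf 0))) (.node (.node (.leaf 58000) (.leaf 0)) (.node (.leaf 88560) (.leaf 0)))) (.node (.node (.node (.leaf 29847) (.leaf 7898)) (.node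 (.leaf 31829) (.leaf 0))) (.node (.node (.leaf 37554) (.leaf 0)) (.node (.leaf 3037) (.leaf 0))))) (.node (.node (.node (.node (.leaf 16830) (.leaf 104332)) (.node (.leaf 4810) (.leaf 0))) (.node (.node (.leaf 61574) (.leaf 0)) (.node (.leaf 116553) (.leaf 0)))) (.node (.node (.node (.leaf 29679) (.leaf 70403)) (.node (.leaf 52363) (.leaf 0))) (.node (.node (.leaf 65426) (.leaf 0)) (.node (.leaf 47819) (.leaf 0)))))) (.node (.node (.node (.node (.node (.leaf 73548) (.leaf 46752)) (.node (.leaf 94084) (.leaf 0))) (.node (.node (.leaf 36716) (.leaf 0)) (.node (.leaf 50020) (.leaf 0)))) (.node (.node (.node (.leaf 92125) (.leaf 58151)) (.node (.leaf 41171) (.leaf 0))) (.node (.node (.leaf 38078) (.leaf 0)) (.node (.leaf 16588) (.leaf 0))))) (.node (.node (.node (.node (.leaf 126342) (.leaf 45489)) (.node (.leaf 78601) (.leaf 0))) (.node (.node (.leaf 65482) (.leaf 0)) (.node (.leaf 17653) (.leaf 0)))) (.node (.node (.node (.leaf 60140) (.leaf 111997)) (.node (.leaf 113983) (.leaf 0))) (.node (.node (.leaf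 50480) (.leaf 0)) (.node (.leaf 61784) (.leaf 0))))))) (.node (.node (.node (.node (.node (.node (.leaf 106952) (.leaf 34461)) (.node (.leaf 62275) (.leaf 0))) (.node (.node (.leaf 9819) (.leaf 0)) (.node (.leaf 20582) (.leaf 0)))) (.node (.node (.node (.leaf 66007) (.leaf 7531)) (.node (.leaf 2669) (.leaf 0))) (.node (.node (.leaf 80345) (.leaf 0)) (.node (.leaf 27942) (.leaf 0))))) (.node (.node (.node (.node (.leaf 112909) (.leaf 60925)) (.node (.leaf 36290) (.leaf 0))) (.node (.node (.leaf 109502) (.leaf 0)) (.node (.leaf 122781) (.leaf 0)))) (.node (.node (.node (.leaf 86013) (.leaf 99740)) (.node (.leaf 55220) (.leaf 0))) (.node (.node (.leaf 42115) (.leaf 0)) (.node (.leaf 57032) (.leaf 0)))))) (.node (.node (.node (.node (.node (.leaf 130353) (.leaf 35201)) (.node (.leaf 14397) (.leaf 0))) (.node (.node (.leaf 49058) (.leaf 0)) (.node (.leaf 128408) (.leaf 0)))) (.node (.node (.node (.leaf 47868) (.leaf 86011)) (.node (.leaf 94994) (.leaf 0))) (.node (.node (.leaf 13446) (.leaf 0)) (.node (.leaf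 109315) (.leaf 0))))) (.node (.node (.node (.node (.leaf 66020) (.leaf 35694)) (.node (.leaf 78830) (.leaf 0))) (.node (.node (.leaf 9890) (.leaf 0)) (.node (.leaf 10103) (.leaf 0)))) (.node (.node (.node (.leaf 108978) (.leaf 95208)) (.node (.leaf 98150) (.leaf 0))) (.node (.node (.leaf 29178) (.leaf 0)) (.node (.leaf 47427) (.leaf 0))))))))

def kT99 : NT := .node (.node (.node (.node (.node (.node (.node (.node (.leaf 37580) (.leaf 55262)) (.node (.leaf 53627) (.leaf 0))) (.node (.node (.leaf 8601) (.leaf 0)) (.node (.leaf 57759) (.leaf 0)))) (.node (.node (.node (.leaf 77183) (.leaf 130966)) (.node (.leaf 3454) (.leaf 0))) (.node (.node (.leaf 58344) (.leaf 0)) (.node (.leaf 122165) (.leaf 0))))) (.node (.node (.node (.node (.leaf 99267) (.leaf 116649)) (.node (.leaf 85465) (.leaf 0))) (.node (.node (.leaf 123158) (.leaf 0)) (.node (.leaf 5091) (.leaf 0)))) (.node (.node (.node (.leaf 8043) (.leaf 102265)) (.node (.leaf 109909) (.leaf 0))) (.node (.node (.leaf 3775) (.leaf 0)) (.node (.leaf 112464)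 (.leaf 0)))))) (.node (.node (.node (.node (.node (.leaf 124863) (.leaf 48267)) (.node (.leaf 68512) (.leaf 0))) (.node (.node (.leaf 46027) (.leaf 0)) (.node (.leaf 48080) (.leaf 0)))) (.node (.node (.node (.leaf 6878) (.leaf 86793)) (.node (.leaf 6478) (.leaf 0))) (.node (.node (.leaf 55196) (.leaf 0)) (.node (.leaf 21235) (.leaf 0))))) (.node (.node (.node (.node (.leaf 21763) (.leaf 77267)) (.node (.leaf 15406) (.leaf 0))) (.node (.node (.leaf 85310) (.leaf 0)) (.node (.leaf 31098) (.leaf 0)))) (.node (.node (.node (.leaf 52503) (.leaf 84768)) (.node (.leaf 59160) (.leaf 0))) (.node (.node (.leaf 30327) (.leaf 0)) (.node (.leaf 72989) (.leaf 0))))))) (.node (.node (.node (.node (.node (.node (.leaf 120770) (.leaf 30661)) (.node (.leaf 50536) (.leaf 0))) (.node (.node (.leaf 130850) (.leaf 0)) (.node (.leaf 24369) (.leaf 0)))) (.node (.node (.node (.leaf 52495) (.leaf 62084)) (.node (.leaf 27980) (.leaf 0))) (.node (.node (.leaf 74521) (.leaf 0)) (.node (.leaf 117571) (.leaf 0))))) (.node (.node (.node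 (.node (.leaf 50136) (.leaf 112978)) (.node (.leaf 109995) (.leaf 0))) (.node (.node (.leaf 20836) (.leaf 0)) (.node (.leaf 87826) (.leaf 0)))) (.node (.node (.node (.leaf 36301) (.leaf 25346)) (.node (.leaf 112098) (.leaf 0))) (.node (.node (.leaf 4284) (.leaf 0)) (.node (.leaf 61914) (.leaf 0)))))) (.node (.node (.node (.node (.node (.leaf 92458) (.leaf 71087)) (.node (.leaf 128442) (.leaf 0))) (.node (.node (.leaf 30686) (.leaf 0)) (.node (.leaf 107404) (.leaf 0)))) (.node (.node (.node (.leaf 14465) (.leaf 29897)) (.node (.leaf 75628) (.leaf 0))) (.node (.node (.leaf 8038) (.leaf 0)) (.node (.leaf 84396) (.leaf 0))))) (.node (.node (.node (.node (.leaf 3633) (.leaf 125914)) (.node (.leaf 3803) (.leaf 0))) (.node (.node (.leaf 67394) (.leaf 0)) (.node (.leaf 10697) (.leaf 0)))) (.node (.node (.node (.leaf 81672) (.leaf 31648)) (.node (.leaf 56015) (.leaf 0))) (.node (.node (.leaf 127960) (.leaf 0)) (.node (.leaf 26289) (.leaf 0)))))))) (.node (.node (.node (.node (.node (.node (.node (.leaf 60151) (.leaf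 11225)) (.node (.leaf 31992) (.leaf 0))) (.node (.node (.leaf 35630) (.leaf 0)) (.node (.leaf 62604) (.leaf 0)))) (.node (.node (.node (.leaf 110395) (.leaf 64868)) (.node (.leaf 30536) (.leaf 0))) (.node (.node (.leaf 19252) (.leaf 0)) (.node (.leaf 120248) (.leaf 0))))) (.node (.node (.node (.node (.leaf 23800) (.leaf 11478)) (.node (.leaf 121843) (.leaf 0))) (.node (.node (.leaf 100260) (.leaf 0)) (.node (.leaf 129923) (.leaf 0)))) (.node (.node (.node (.leaf 2888) (.leaf 83295)) (.node (.leaf 39181) (.leaf 0))) (.node (.node (.leaf 95165) (.leaf 0)) (.node (.leaf 64862) (.leaf 0)))))) (.node (.node (.node (.node (.node (.leaf 10584) (.leaf 83248)) (.node (.leaf 29872) (.leaf 0))) (.node (.node (.leaf 69927) (.leaf 0)) (.node (.leaf 49521) (.leaf 0)))) (.node (.node (.node (.leaf 84282) (.leaf 14164)) (.node (.leaf 45553) (.leaf 0))) (.node (.node (.leaf 100185) (.leaf 0)) (.node (.leaf 119653) (.leaf 0))))) (.node (.node (.node (.node (.leaf 120739) (.leaf 119164)) (.node (.leaf 223) (.leaf 0))) (.node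 (.node (.leaf 130992) (.leaf 0)) (.node (.leaf 54469) (.leaf 0)))) (.node (.node (.node (.leaf 21774) (.leaf 124685)) (.node (.leaf 102683) (.leaf 0))) (.node (.node (.leaf 129452) (.leaf 0)) (.node (.leaf 4281) (.leaf 0))))))) (.node (.node (.node (.node (.node (.node (.leaf 94700) (.leaf 4455)) (.node (.leaf 117607) (.leaf 0))) (.node (.node (.leaf 33937) (.leaf 0)) (.node (.leaf 27059) (.leaf 0)))) (.node (.node (.node (.leaf 76558) (.leaf 4464)) (.node (.leaf 2278) (.leaf 0))) (.node (.node (.leaf 20654) (.leaf 0)) (.node (.leaf 94535) (.leaf 0))))) (.node (.node (.node (.node (.leaf 118662) (.leaf 35025)) (.node (.leaf 121847) (.leaf 0))) (.node (.node (.leaf 69429) (.leaf 0)) (.node (.leaf 49136) (.leaf 0)))) (.node (.node (.node (.leaf 91536) (.leaf 116133)) (.node (.leaf 42641) (.leaf 0))) (.node (.node (.leaf 15575) (.leaf 0)) (.node (.leaf 33951) (.leaf 0)))))) (.node (.node (.node (.node (.node (.leaf 10889) (.leaf 77156)) (.node (.leaf 11773) (.leaf 0))) (.node (.node (.leaf 118616) (.leaf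 0)) (.node (.leaf 43957) (.leaf 0)))) (.node (.node (.node (.leaf 99782) (.leaf 14422)) (.node (.leaf 49581) (.leaf 0))) (.node (.node (.leaf 46260) (.leaf 0)) (.node (.leaf 73716) (.leaf 0))))) (.node (.node (.node (.node (.leaf 37201) (.leaf 83353)) (.node (.leaf 81894) (.leaf 0))) (.node (.node (.leaf 45036) (.leaf 0)) (.node (.leaf 80709) (.leaf 0)))) (.node (.node (.node (.leaf 295) (.leaf 33702)) (.node (.leaf 52971) (.leaf 0))) (.node (.node (.leaf 29064) (.leaf 0)) (.node (.leaf 12844) (.leaf 0))))))))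

def kT100 : NT := .node (.node (.node (.node (.node (.node (.node (.node (.leaf 8562) (.leaf 49141)) (.node (.leaf 46934) (.leaf 0))) (.node (.node (.leaf 56508) (.leaf 0)) (.node (.leaf 7006) (.leaf 0)))) (.node (.node (.node (.leaf 36180) (.leaf 72562)) (.node (.leaf 28649) (.leaf 0))) (.node (.node (.leaf 21716) (.leaf 0)) (.node (.leaf 45033) (.leaf 0))))) (.node (.node (.node (.node (.leaf 18799) (.leaf 60134)) (.node (.leaf 71140) (.leaf 0))) (.node (.node (.leaf 31535) (.leaf 0)) (.node (.leaf 120796) (.leaf 0)))) (.node (.node (.node (.leaf 17827) (.leaf 9880)) (.node (.leaf 18785) (.leaf 0))) (.node (.node (.leaf 118781) (.leaf 0)) (.node (.leaf 23650) (.leaf 0)))))) (.node (.node (.node (.node (.node (.leaf 65880) (.leaf 59341)) (.node (.leaf 14586) (.leaf 0))) (.node (.node (.leaf 43505) (.leaf 0)) (.node (.leaf 10153) (.leaf 0)))) (.node (.node (.node (.leaf 119665) (.leaf 33469)) (.node (.leaf 20177) (.leaf 0))) (.node (.node (.leaf 50408) (.leaf 0)) (.node (.leaf 11593) (.leaf 0))))) (.node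 (.node (.node (.node (.leaf 33597) (.leaf 51886)) (.node (.leaf 108420) (.leaf 0))) (.node (.node (.leaf 58138) (.leaf 0)) (.node (.leaf 12692) (.leaf 0)))) (.node (.node (.node (.leaf 81299) (.leaf 77249)) (.node (.leaf 75744) (.leaf 0))) (.node (.node (.leaf 434) (.leaf 0)) (.node (.leaf 15782) (.leaf 0))))))) (.node (.node (.node (.node (.node (.node (.leaf 75099) (.leaf 81810)) (.node (.leaf 32985) (.leaf 0))) (.node (.node (.leaf 38392) (.leaf 0)) (.node (.leaf 30375) (.leaf 0)))) (.node (.node (.node (.leaf 65989) (.leaf 47277)) (.node (.leaf 12993) (.leaf 0))) (.node (.node (.leaf 64890) (.leaf 0)) (.node (.leaf 60622) (.leaf 0))))) (.node (.node (.node (.node (.leaf 55602) (.leaf 130997)) (.node (.leaf 83392) (.leaf 0))) (.node (.node (.leaf 26696) (.leaf 0)) (.node (.leaf 81332) (.leaf 0)))) (.node (.node (.node (.leaf 18688) (.leaf 68445)) (.node (.leaf 37508) (.leaf 0))) (.node (.node (.leaf 5324) (.leaf 0)) (.node (.leaf 63884) (.leaf 0)))))) (.node (.node (.node (.node (.node (.leaf 33419)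 (.leaf 12006)) (.node (.leaf 25922) (.leaf 0))) (.node (.node (.leaf 15569) (.leaf 0)) (.node (.leaf 51494) (.leaf 0)))) (.node (.node (.node (.leaf 63872) (.leaf 9921)) (.node (.leaf 55711) (.leaf 0))) (.node (.node (.leaf 47887) (.leaf 0)) (.node (.leaf 116029) (.leaf 0))))) (.node (.node (.node (.node (.leaf 40728) (.leaf 121778)) (.node (.leaf 50882) (.leaf 0))) (.node (.node (.leaf 23934) (.leaf 0)) (.node (.leaf 115577) (.leaf 0)))) (.node (.node (.node (.leaf 100765) (.leaf 107439)) (.node (.leaf 103268) (.leaf 0))) (.node (.node (.leaf 121672) (.leaf 0)) (.node (.leaf 37090) (.leaf 0)))))))) (.node (.node (.node (.node (.node (.node (.node (.leaf 126734) (.leaf 20834)) (.node (.leaf 64276) (.leaf 0))) (.node (.node (.leaf 23249) (.leaf 0)) (.node (.leaf 2502) (.leaf 0)))) (.node (.node (.node (.leaf 125343) (.leaf 60586)) (.node (.leaf 4933) (.leaf 0))) (.node (.node (.leaf 74499) (.leaf 0)) (.node (.leaf 13732) (.leaf 0))))) (.node (.node (.node (.node (.leaf 103389) (.leaf 131034)) (.node (.leaf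 81283) (.leaf 0))) (.node (.node (.leaf 104877) (.leaf 0)) (.node (.leaf 116587) (.leaf 0)))) (.node (.node (.node (.leaf 4322) (.leaf 97103)) (.node (.leaf 49628) (.leaf 0))) (.node (.node (.leaf 43321) (.leaf 0)) (.node (.leaf 127) (.leaf 0)))))) (.node (.node (.node (.node (.node (.leaf 125892) (.leaf 129403)) (.node (.leaf 96237) (.leaf 0))) (.node (.node (.leaf 14064) (.leaf 0)) (.node (.leaf 34962) (.leaf 0)))) (.node (.node (.node (.leaf 71530) (.leaf 71946)) (.node (.leaf 51594) (.leaf 0))) (.node (.node (.leaf 78173) (.leaf 0)) (.node (.leaf 40308) (.leaf 0))))) (.node (.node (.node (.node (.leaf 54957) (.leaf 75256)) (.node (.leaf 106992) (.leaf 0))) (.node (.node (.leaf 6847) (.leaf 0)) (.node (.leaf 10841) (.leaf 0)))) (.node (.node (.node (.leaf 2901) (.leaf 18144)) (.node (.leaf 104794) (.leaf 0))) (.node (.node (.leaf 79188) (.leaf 0)) (.node (.leaf 54721) (.leaf 0))))))) (.node (.node (.node (.node (.node (.node (.leaf 121275) (.leaf 130363)) (.node (.leaf 75135) (.leaf 0))) (.node (.node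 (.leaf 104402) (.leaf 0)) (.node (.leaf 34292) (.leaf 0)))) (.node (.node (.node (.leaf 56314) (.leaf 46346)) (.node (.leaf 88514) (.leaf 0))) (.node (.node (.leaf 9620) (.leaf 0)) (.node (.leaf 83955) (.leaf 0))))) (.node (.node (.node (.node (.leaf 10029) (.leaf 118528)) (.node (.leaf 12723) (.leaf 0))) (.node (.node (.leaf 55148) (.leaf 0)) (.node (.leaf 31515) (.leaf 0)))) (.node (.node (.node (.leaf 797) (.leaf 62109)) (.node (.leaf 22227) (.leaf 0))) (.node (.node (.leaf 28878) (.leaf 0)) (.node (.leaf 8189) (.leaf 0)))))) (.node (.node (.node (.node (.node (.leaf 18499) (.leaf 72660)) (.node (.leaf 31672) (.leaf 0))) (.node (.node (.leaf 117202) (.leaf 0)) (.node (.leaf 2538) (.leaf 0)))) (.node (.node (.node (.leaf 15871) (.leaf 77692)) (.node (.leaf 126875) (.leaf 0))) (.node (.node (.leaf 8130) (.leaf 0)) (.node (.leaf 90429) (.leaf 0))))) (.node (.node (.node (.node (.leaf 58571) (.leaf 58642)) (.node (.leaf 16379) (.leaf 0))) (.node (.node (.leaf 22275) (.leaf 0)) (.node (.leaf 33162) (.leaf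 0)))) (.node (.node (.node (.leaf 105414) (.leaf 45874)) (.node (.leaf 33250) (.leaf 0))) (.node (.node (.leaf 123152) (.leaf 0)) (.node (.leaf 111939) (.leaf 0))))))))

def kT101 : NT := .node (.node (.node (.node (.node (.node (.node (.node (.leaf 113025) (.leaf 77202)) (.node (.leaf 70928) (.leaf 0))) (.node (.node (.leaf 24983) (.leaf 0)) (.node (.leaf 29343) (.leaf 0)))) (.node (.node (.node (.leaf 63218) (.leaf 18241)) (.node (.leaf 11811) (.leaf 0))) (.node (.node (.leaf 16286) (.leaf 0)) (.node (.leaf 71427) (.leaf 0))))) (.node (.node (.node (.node (.leaf 71074) (.leaf 22247)) (.node (.leaf 68019) (.leaf 0))) (.node (.node (.leaf 50623) (.leaf 0)) (.node (.leaf 105960) (.leaf 0)))) (.node (.node (.node (.leaf 64365) (.leaf 35737)) (.node (.leaf 119258) (.leaf 0))) (.node (.node (.leaf 122644) (.leaf 0)) (.node (.leaf 113120) (.leaf 0)))))) (.node (.node (.node (.node (.node (.leaf 111370) (.leaf 87449)) (.node (.leaf 102282) (.leaf 0))) (.node (.node (.leaf 25700) (.leaf 0)) (.node (.leaf 80774)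 (.leaf 0)))) (.node (.node (.node (.leaf 75034) (.leaf 129360)) (.node (.leaf 128482) (.leaf 0))) (.node (.node (.leaf 74005) (.leaf 0)) (.node (.leaf 63288) (.leaf 0))))) (.node (.node (.node (.node (.leaf 46753) (.leaf 105279)) (.node (.leaf 52074) (.leaf 0))) (.node (.node (.leaf 40807) (.leaf 0)) (.node (.leaf 108413) (.leaf 0)))) (.node (.node (.node (.leaf 55975) (.leaf 65416)) (.node (.leaf 4966) (.leaf 0))) (.node (.node (.leaf 6491) (.leaf 0)) (.node (.leaf 12505) (.leaf 0))))))) (.node (.node (.node (.node (.node (.node (.leaf 70479) (.leaf 20401)) (.node (.leaf 87844) (.leaf 0))) (.node (.node (.leaf 71989) (.leaf 0)) (.node (.leaf 100236) (.leaf 0)))) (.node (.node (.node (.leaf 61834) (.leaf 14104)) (.node (.leaf 9879) (.leaf 0))) (.node (.node (.leaf 20779) (.leaf 0)) (.node (.leaf 47600) (.leaf 0))))) (.node (.node (.node (.node (.leaf 101720) (.leaf 4421)) (.node (.leaf 71445) (.leaf 0))) (.node (.node (.leaf 71620) (.leaf 0)) (.node (.leaf 6107) (.leaf 0)))) (.node (.node (.node (.leaf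 51851) (.leaf 9786)) (.node (.leaf 42354) (.leaf 0))) (.node (.node (.leaf 38656) (.leaf 0)) (.node (.leaf 64864) (.leaf 0)))))) (.node (.node (.node (.node (.node (.leaf 5083) (.leaf 76218)) (.node (.leaf 116186) (.leaf 0))) (.node (.node (.leaf 42259) (.leaf 0)) (.node (.leaf 29967) (.leaf 0)))) (.node (.node (.node (.leaf 99623) (.leaf 2999)) (.node (.leaf 24542) (.leaf 0))) (.node (.node (.leaf 85935) (.leaf 0)) (.node (.leaf 125760) (.leaf 0))))) (.node (.node (.node (.node (.leaf 86950) (.leaf 10790)) (.node (.leaf 32910) (.leaf 0))) (.node (.node (.leaf 68011) (.leaf 0)) (.node (.leaf 88397) (.leaf 0)))) (.node (.node (.node (.leaf 107876) (.leaf 25434)) (.node (.leaf 13001) (.leaf 0))) (.node (.node (.leaf 42319) (.leaf 0)) (.node (.leaf 88976) (.leaf 0)))))))) (.node (.node (.node (.node (.node (.node (.node (.leaf 3008) (.leaf 97254)) (.node (.leaf 105321) (.leaf 0))) (.node (.node (.leaf 29118) (.leaf 0)) (.node (.leaf 98266) (.leaf 0)))) (.node (.node (.node (.leaf 67057) (.leaf 32443)) (.node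 (.leaf 22474) (.leaf 0))) (.node (.node (.leaf 54651) (.leaf 0)) (.node (.leaf 361) (.leaf 0))))) (.node (.node (.node (.node (.leaf 47608) (.leaf 15334)) (.node (.leaf 69579) (.leaf 0))) (.node (.node (.leaf 87954) (.leaf 0)) (.node (.leaf 95685) (.leaf 0)))) (.node (.node (.node (.leaf 100337) (.leaf 122122)) (.node (.leaf 1230) (.leaf 0))) (.node (.node (.leaf 46015) (.leaf 0)) (.node (.leaf 51040) (.leaf 0)))))) (.node (.node (.node (.node (.node (.leaf 74162) (.leaf 31568)) (.node (.leaf 74089) (.leaf 0))) (.node (.node (.leaf 44442) (.leaf 0)) (.node (.leaf 5479) (.leaf 0)))) (.node (.node (.node (.leaf 4938) (.leaf 25027)) (.node (.leaf 98123) (.leaf 0))) (.node (.node (.leaf 17011) (.leaf 0)) (.node (.leaf 54075) (.leaf 0))))) (.node (.node (.node (.node (.leaf 13673) (.leaf 5182)) (.node (.leaf 25588) (.leaf 0))) (.node (.node (.leaf 23477) (.leaf 0)) (.node (.leaf 8678) (.leaf 0)))) (.node (.node (.node (.leaf 129363) (.leaf 50465)) (.node (.leaf 23168) (.leaf 0))) (.node (.node (.leaf 47290)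 (.leaf 0)) (.node (.leaf 109900) (.leaf 0))))))) (.node (.node (.node (.node (.node (.node (.leaf 35002) (.leaf 12639)) (.node (.leaf 36678) (.leaf 0))) (.node (.node (.leaf 113033) (.leaf 0)) (.node (.leaf 1732) (.leaf 0)))) (.node (.node (.node (.leaf 127348) (.leaf 4014)) (.node (.leaf 106416) (.leaf 0))) (.node (.node (.leaf 54773) (.leaf 0)) (.node (.leaf 122642) (.leaf 0))))) (.node (.node (.node (.node (.leaf 69556) (.leaf 47278)) (.node (.leaf 41261) (.leaf 0))) (.node (.node (.leaf 3023) (.leaf 0)) (.node (.leaf 72615) (.leaf 0)))) (.node (.node (.node (.leaf 104745) (.leaf 77121)) (.node (.leaf 2528) (.leaf 0))) (.node (.node (.leaf 73642) (.leaf 0)) (.node (.leaf 90022) (.leaf 0)))))) (.node (.node (.node (.node (.node (.leaf 36097) (.leaf 54597)) (.node (.leaf 125346) (.leaf 0))) (.node (.node (.leaf 25378) (.leaf 0)) (.node (.leaf 80692) (.leaf 0)))) (.node (.node (.node (.leaf 58297) (.leaf 12419)) (.node (.leaf 10949) (.leaf 0))) (.node (.node (.leaf 42151) (.leaf 0)) (.node (.leaf 13658)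 (.leaf 0))))) (.node (.node (.node (.node (.leaf 55785) (.leaf 13192)) (.node (.leaf 64698) (.leaf 0))) (.node (.node (.leaf 120095) (.leaf 0)) (.node (.leaf 40593) (.leaf 0)))) (.node (.node (.node (.leaf 12645) (.leaf 54939)) (.node (.leaf 49300) (.leaf 0))) (.node (.node (.leaf 28975) (.leaf 0)) (.node (.leaf 55577) (.leaf 0))))))))

def kT102 : NT := .node (.node (.node (.node (.node (.node (.node (.node (.leaf 17673) (.leaf 121129)) (.node (.leaf 16714) (.leaf 0))) (.node (.node (.leaf 9132) (.leaf 0)) (.node (.leaf 80169) (.leaf 0)))) (.node (.node (.node (.leaf 108377) (.leaf 94501)) (.node (.leaf 9493) (.leaf 0))) (.node (.node (.leaf 69504) (.leaf 0)) (.node (.leaf 116032) (.leaf 0))))) (.node (.node (.node (.node (.leaf 5361) (.leaf 3176)) (.node (.leaf 12482) (.leaf 0))) (.node (.node (.leaf 35825) (.leaf 0)) (.node (.leaf 14165) (.leaf 0)))) (.node (.node (.node (.leaf 122342) (.leaf 42404)) (.node (.leaf 83228) (.leaf 0))) (.node (.node (.leaf 25891) (.leaf 0)) (.node (.leaf 59125) (.leaf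 0)))))) (.node (.node (.node (.node (.node (.leaf 3631) (.leaf 49297)) (.node (.leaf 82747) (.leaf 0))) (.node (.node (.leaf 96043) (.leaf 0)) (.node (.leaf 17282) (.leaf 0)))) (.node (.node (.node (.leaf 108026) (.leaf 71157)) (.node (.leaf 40344) (.leaf 0))) (.node (.node (.leaf 8538) (.leaf 0)) (.node (.leaf 11467) (.leaf 0))))) (.node (.node (.node (.node (.leaf 64140) (.leaf 14402)) (.node (.leaf 1624) (.leaf 0))) (.node (.node (.leaf 5359) (.leaf 0)) (.node (.leaf 60759) (.leaf 0)))) (.node (.node (.node (.leaf 108360) (.leaf 5835)) (.node (.leaf 84848) (.leaf 0))) (.node (.node (.leaf 120629) (.leaf 0)) (.node (.leaf 33555) (.leaf 0))))))) (.node (.node (.node (.node (.node (.node (.leaf 86831) (.leaf 22727)) (.node (.leaf 58258) (.leaf 0))) (.node (.node (.leaf 21856) (.leaf 0)) (.node (.leaf 38075) (.leaf 0)))) (.node (.node (.node (.leaf 123679) (.leaf 42870)) (.node (.leaf 101636) (.leaf 0))) (.node (.node (.leaf 44485) (.leaf 0)) (.node (.leaf 117074) (.leaf 0))))) (.node (.node (.node (.node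 (.leaf 52437) (.leaf 33497)) (.node (.leaf 34244) (.leaf 0))) (.node (.node (.leaf 116615) (.leaf 0)) (.node (.leaf 42248) (.leaf 0)))) (.node (.node (.node (.leaf 119179) (.leaf 8622)) (.node (.leaf 58220) (.leaf 0))) (.node (.node (.leaf 38259) (.leaf 0)) (.node (.leaf 13377) (.leaf 0)))))) (.node (.node (.node (.node (.node (.leaf 37138) (.leaf 81808)) (.node (.leaf 104903) (.leaf 0))) (.node (.node (.leaf 112446) (.leaf 0)) (.node (.leaf 52135) (.leaf 0)))) (.node (.node (.node (.leaf 45235) (.leaf 30925)) (.node (.leaf 2713) (.leaf 0))) (.node (.node (.leaf 11903) (.leaf 0)) (.node (.leaf 125742) (.leaf 0))))) (.node (.node (.node (.node (.leaf 24006) (.leaf 48484)) (.node (.leaf 16880) (.leaf 0))) (.node (.node (.leaf 7268) (.leaf 0)) (.node (.leaf 122254) (.leaf 0)))) (.node (.node (.node (.leaf 99766) (.leaf 95214)) (.node (.leaf 39849) (.leaf 0))) (.node (.node (.leaf 86860) (.leaf 0)) (.node (.leaf 104218) (.leaf 0)))))))) (.node (.node (.node (.node (.node (.node (.node (.leaf 9687) (.leaf 127386))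 (.node (.leaf 122738) (.leaf 0))) (.node (.node (.leaf 99175) (.leaf 0)) (.node (.leaf 40687) (.leaf 0)))) (.node (.node (.node (.leaf 6857) (.leaf 27585)) (.node (.leaf 130958) (.leaf 0))) (.node (.node (.leaf 40795) (.leaf 0)) (.node (.leaf 6456) (.leaf 0))))) (.node (.node (.node (.node (.leaf 122180) (.leaf 42660)) (.node (.leaf 7193) (.leaf 0))) (.node (.node (.leaf 113089) (.leaf 0)) (.node (.leaf 23677) (.leaf 0)))) (.node (.node (.node (.leaf 51687) (.leaf 24341)) (.node (.leaf 121194) (.leaf 0))) (.node (.node (.leaf 62935) (.leaf 0)) (.node (.leaf 16840) (.leaf 0)))))) (.node (.node (.node (.node (.node (.leaf 3626) (.leaf 79664)) (.node (.leaf 5874) (.leaf 0))) (.node (.node (.leaf 88320) (.leaf 0)) (.node (.leaf 6197) (.leaf 0)))) (.node (.node (.node (.leaf 92583) (.leaf 8449)) (.node (.leaf 73201) (.leaf 0))) (.node (.node (.leaf 47879) (.leaf 0)) (.node (.leaf 107497) (.leaf 0))))) (.node (.node (.node (.node (.leaf 113549) (.leaf 94561)) (.node (.leaf 45274) (.leaf 0))) (.node (.node (.leaf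 15059) (.leaf 0)) (.node (.leaf 103340) (.leaf 0)))) (.node (.node (.node (.leaf 47822) (.leaf 32564)) (.node (.leaf 77137) (.leaf 0))) (.node (.node (.leaf 26973) (.leaf 0)) (.node (.leaf 35704) (.leaf 0))))))) (.node (.node (.node (.node (.node (.node (.leaf 68568) (.leaf 4772)) (.node (.leaf 130951) (.leaf 0))) (.node (.node (.leaf 1747) (.leaf 0)) (.node (.leaf 25440) (.leaf 0)))) (.node (.node (.node (.leaf 85499) (.leaf 129500)) (.node (.leaf 16566) (.leaf 0))) (.node (.node (.leaf 36770) (.leaf 0)) (.node (.leaf 7254) (.leaf 0))))) (.node (.node (.node (.node (.leaf 38529) (.leaf 115155)) (.node (.leaf 85252) (.leaf 0))) (.node (.node (.leaf 13043) (.leaf 0)) (.node (.leaf 127377) (.leaf 0)))) (.node (.node (.node (.leaf 45422) (.leaf 114151)) (.node (.leaf 9824) (.leaf 0))) (.node (.node (.leaf 105233) (.leaf 0)) (.node (.leaf 12077) (.leaf 0)))))) (.node (.node (.node (.node (.node (.leaf 90069) (.leaf 32432)) (.node (.leaf 63107) (.leaf 0))) (.node (.node (.leaf 50558) (.leaf 0)) (.node (.leaf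 62858) (.leaf 0)))) (.node (.node (.node (.leaf 98268) (.leaf 35265)) (.node (.leaf 12783) (.leaf 0))) (.node (.node (.leaf 28775) (.leaf 0)) (.node (.leaf 17354) (.leaf 0))))) (.node (.node (.node (.node (.leaf 35160) (.leaf 123168)) (.node (.leaf 59163) (.leaf 0))) (.node (.node (.leaf 107925) (.leaf 0)) (.node (.leaf 16579) (.leaf 0)))) (.node (.node (.node (.leaf 31415) (.leaf 53246)) (.node (.leaf 21778) (.leaf 0))) (.node (.node (.leaf 115527) (.leaf 0)) (.node (.leaf 24675) (.leaf 0))))))))

def kT103 : NT := .node (.node (.node (.node (.node (.node (.node (.node (.leaf 7024) (.leaf 45352)) (.node (.leaf 6223) (.leaf 0))) (.node (.node (.leaf 46814) (.leaf 0)) (.node (.leaf 57814) (.leaf 0)))) (.node (.node (.node (.leaf 47595) (.leaf 127367)) (.node (.leaf 82923) (.leaf 0))) (.node (.node (.leaf 18108) (.leaf 0)) (.node (.leaf 1201) (.leaf 0))))) (.node (.node (.node (.node (.leaf 14636) (.leaf 48965)) (.node (.leaf 24480) (.leaf 0))) (.node (.node (.leaf 69535) (.leaf 0)) (.node (.leaf 77636)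 (.leaf 0)))) (.node (.node (.node (.leaf 100249) (.leaf 86316)) (.node (.leaf 57549) (.leaf 0))) (.node (.node (.leaf 110059) (.leaf 0)) (.node (.leaf 81912) (.leaf 0)))))) (.node (.node (.node (.node (.node (.leaf 90385) (.leaf 106995)) (.node (.leaf 1911) (.leaf 0))) (.node (.node (.leaf 20337) (.leaf 0)) (.node (.leaf 20861) (.leaf 0)))) (.node (.node (.node (.leaf 5395) (.leaf 98154)) (.node (.leaf 27938) (.leaf 0))) (.node (.node (.leaf 18275) (.leaf 0)) (.node (.leaf 35482) (.leaf 0))))) (.node (.node (.node (.node (.leaf 23812) (.leaf 5618)) (.node (.leaf 108337) (.leaf 0))) (.node (.node (.leaf 121619) (.leaf 0)) (.node (.leaf 36247) (.leaf 0)))) (.node (.node (.node (.leaf 4205) (.leaf 92610)) (.node (.leaf 35211) (.leaf 0))) (.node (.node (.leaf 68489) (.leaf 0)) (.node (.leaf 12712) (.leaf 0))))))) (.node (.node (.node (.node (.node (.node (.leaf 19885) (.leaf 46863)) (.node (.leaf 75037) (.leaf 0))) (.node (.node (.leaf 24781) (.leaf 0)) (.node (.leaf 36487) (.leaf 0)))) (.node (.node (.node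 (.leaf 106827) (.leaf 37664)) (.node (.leaf 98149) (.leaf 0))) (.node (.node (.leaf 17013) (.leaf 0)) (.node (.leaf 66338) (.leaf 0))))) (.node (.node (.node (.node (.leaf 17369) (.leaf 112106)) (.node (.leaf 35684) (.leaf 0))) (.node (.node (.leaf 58205) (.leaf 0)) (.node (.leaf 16033) (.leaf 0)))) (.node (.node (.node (.leaf 34506) (.leaf 89017)) (.node (.leaf 43762) (.leaf 0))) (.node (.node (.leaf 51178) (.leaf 0)) (.node (.leaf 130904) (.leaf 0)))))) (.node (.node (.node (.node (.node (.leaf 4587) (.leaf 6327)) (.node (.leaf 35502) (.leaf 0))) (.node (.node (.leaf 96542) (.leaf 0)) (.node (.leaf 106383) (.leaf 0)))) (.node (.node (.node (.leaf 125423) (.leaf 65803)) (.node (.leaf 129392) (.leaf 0))) (.node (.node (.leaf 2375) (.leaf 0)) (.node (.leaf 19444) (.leaf 0))))) (.node (.node (.node (.node (.leaf 15626) (.leaf 107887)) (.node (.leaf 3018) (.leaf 0))) (.node (.node (.leaf 92613) (.leaf 0)) (.node (.leaf 44683) (.leaf 0)))) (.node (.node (.node (.leaf 61619) (.leaf 25431)) (.node (.leaf 70539)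 (.leaf 0))) (.node (.node (.leaf 46969) (.leaf 0)) (.node (.leaf 11460) (.leaf 0)))))))) (.node (.node (.node (.node (.node (.node (.node (.leaf 15851) (.leaf 41137)) (.node (.leaf 13219) (.leaf 0))) (.node (.node (.leaf 22437) (.leaf 0)) (.node (.leaf 55564) (.leaf 0)))) (.node (.node (.node (.leaf 121282) (.leaf 87883)) (.node (.leaf 3570) (.leaf 0))) (.node (.node (.leaf 5942) (.leaf 0)) (.node (.leaf 28653) (.leaf 0))))) (.node (.node (.node (.node (.leaf 129903) (.leaf 50964)) (.node (.leaf 57792) (.leaf 0))) (.node (.node (.leaf 43703) (.leaf 0)) (.node (.leaf 39406) (.leaf 0)))) (.node (.node (.node (.leaf 10611) (.leaf 115468)) (.node (.leaf 60373) (.leaf 0))) (.node (.node (.leaf 31542) (.leaf 0)) (.node (.leaf 103894) (.leaf 0)))))) (.node (.node (.node (.node (.node (.leaf 108386) (.leaf 18086)) (.node (.leaf 18747) (.leaf 0))) (.node (.node (.leaf 6508) (.leaf 0)) (.node (.leaf 12573) (.leaf 0)))) (.node (.node (.node (.leaf 38742) (.leaf 12983)) (.node (.leaf 94030) (.leaf 0))) (.node (.node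 (.leaf 14221) (.leaf 0)) (.node (.leaf 92464) (.leaf 0))))) (.node (.node (.node (.node (.leaf 11694) (.leaf 18518)) (.node (.leaf 24211) (.leaf 0))) (.node (.node (.leaf 24419) (.leaf 0)) (.node (.leaf 126340) (.leaf 0)))) (.node (.node (.node (.leaf 39071) (.leaf 31035)) (.node (.leaf 48391) (.leaf 0))) (.node (.node (.leaf 89078) (.leaf 0)) (.node (.leaf 83368) (.leaf 0))))))) (.node (.node (.node (.node (.node (.node (.leaf 56110) (.leaf 21068)) (.node (.leaf 15330) (.leaf 0))) (.node (.node (.leaf 31007) (.leaf 0)) (.node (.leaf 104426) (.leaf 0)))) (.node (.node (.node (.leaf 47921) (.leaf 206)) (.node (.leaf 45401) (.leaf 0))) (.node (.node (.leaf 128909) (.leaf 0)) (.node (.leaf 129890) (.leaf 0))))) (.node (.node (.node (.node (.leaf 124787) (.leaf 18065)) (.node (.leaf 93101) (.leaf 0))) (.node (.node (.leaf 7600) (.leaf 0)) (.node (.leaf 65945) (.leaf 0)))) (.node (.node (.node (.leaf 32427) (.leaf 7538)) (.node (.leaf 32146) (.leaf 0))) (.node (.node (.leaf 12506) (.leaf 0)) (.node (.leaf 99837)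 (.leaf 0)))))) (.node (.node (.node (.node (.node (.leaf 7334) (.leaf 14157)) (.node (.leaf 76743) (.leaf 0))) (.node (.node (.leaf 102813) (.leaf 0)) (.node (.leaf 79224) (.leaf 0)))) (.node (.node (.node (.leaf 58731) (.leaf 19954)) (.node (.leaf 38824) (.leaf 0))) (.node (.node (.leaf 119557) (.leaf 0)) (.node (.leaf 131011) (.leaf 0))))) (.node (.node (.node (.node (.leaf 42149) (.leaf 12095)) (.node (.leaf 108829) (.leaf 0))) (.node (.node (.leaf 89941) (.leaf 0)) (.node (.leaf 35617) (.leaf 0)))) (.node (.node (.node (.leaf 96076) (.leaf 10184)) (.node (.leaf 121790) (.leaf 0))) (.node (.node (.leaf 101678) (.leaf 0)) (.node (.leaf 44888) (.leaf 0))))))))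

def kT104 : NT := .node (.node (.node (.node (.node (.node (.node (.node (.leaf 18671) (.leaf 44771)) (.node (.leaf 124344) (.leaf 0))) (.node (.node (.leaf 8403) (.leaf 0)) (.node (.leaf 41443) (.leaf 0)))) (.node (.node (.node (.leaf 64905) (.leaf 69532)) (.node (.leaf 60796) (.leaf 0))) (.node (.node (.leaf 51033) (.leaf 0)) (.node (.leaf 5253) (.leaf 0))))) (.node (.node (.node (.node (.leaf 57750) (.leaf 34132)) (.node (.leaf 13991) (.leaf 0))) (.node (.node (.leaf 84793) (.leaf 0)) (.node (.leaf 77819) (.leaf 0)))) (.node (.node (.node (.leaf 70411) (.leaf 14299)) (.node (.leaf 17863) (.leaf 0))) (.node (.node (.leaf 126283) (.leaf 0)) (.node (.leaf 55745) (.leaf 0)))))) (.node (.node (.node (.node (.node (.leaf 80256) (.leaf 70117)) (.node (.leaf 61757) (.leaf 0))) (.node (.node (.leaf 130854) (.leaf 0)) (.node (.leaf 6306) (.leaf 0)))) (.node (.node (.node (.leaf 11126) (.leaf 24491)) (.node (.leaf 6774) (.leaf 0))) (.node (.node (.leaf 42816) (.leaf 0)) (.node (.leaf 89437) (.leaf 0))))) (.node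 (.node (.node (.node (.leaf 19320) (.leaf 42431)) (.node (.leaf 11626) (.leaf 0))) (.node (.node (.leaf 37515) (.leaf 0)) (.node (.leaf 24021) (.leaf 0)))) (.node (.node (.node (.leaf 96247) (.leaf 118628)) (.node (.leaf 38707) (.leaf 0))) (.node (.node (.leaf 33542) (.leaf 0)) (.node (.leaf 93526) (.leaf 0))))))) (.node (.node (.node (.node (.node (.node (.leaf 4980) (.leaf 128349)) (.node (.leaf 109896) (.leaf 0))) (.node (.node (.leaf 10738) (.leaf 0)) (.node (.leaf 51078) (.leaf 0)))) (.node (.node (.node (.leaf 56148) (.leaf 124303)) (.node (.leaf 69450) (.leaf 0))) (.node (.node (.leaf 28094) (.leaf 0)) (.node (.leaf 4439) (.leaf 0))))) (.node (.node (.node (.node (.leaf 77177) (.leaf 95206)) (.node (.leaf 49470) (.leaf 0))) (.node (.node (.leaf 75086) (.leaf 0)) (.node (.leaf 27778) (.leaf 0)))) (.node (.node (.node (.leaf 124876) (.leaf 11360)) (.node (.leaf 53704) (.leaf 0))) (.node (.node (.leaf 130954) (.leaf 0)) (.node (.leaf 9215) (.leaf 0)))))) (.node (.node (.node (.node (.node (.leaf 82735)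 (.leaf 5024)) (.node (.leaf 69460) (.leaf 0))) (.node (.node (.leaf 76064) (.leaf 0)) (.node (.leaf 9932) (.leaf 0)))) (.node (.node (.node (.leaf 73153) (.leaf 128311)) (.node (.leaf 52186) (.leaf 0))) (.node (.node (.leaf 86461) (.leaf 0)) (.node (.leaf 89381) (.leaf 0))))) (.node (.node (.node (.node (.leaf 3632) (.leaf 86970)) (.node (.leaf 42730) (.leaf 0))) (.node (.node (.leaf 9374) (.leaf 0)) (.node (.leaf 61201) (.leaf 0)))) (.node (.node (.node (.leaf 53751) (.leaf 10503)) (.node (.leaf 902) (.leaf 0))) (.node (.node (.leaf 36575) (.leaf 0)) (.node (.leaf 65472) (.leaf 0)))))))) (.node (.node (.node (.node (.node (.node (.node (.leaf 94085) (.leaf 124784)) (.node (.leaf 32136) (.leaf 0))) (.node (.node (.leaf 30028) (.leaf 0)) (.node (.leaf 109526) (.leaf 0)))) (.node (.node (.node (.leaf 457) (.leaf 16979)) (.node (.leaf 28347) (.leaf 0))) (.node (.node (.leaf 63242) (.leaf 0)) (.node (.leaf 116585) (.leaf 0))))) (.node (.node (.node (.node (.leaf 123354) (.leaf 30991)) (.node (.leaf 92074)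 (.leaf 0))) (.node (.node (.leaf 127816) (.leaf 0)) (.node (.leaf 96513) (.leaf 0)))) (.node (.node (.node (.leaf 110015) (.leaf 6363)) (.node (.leaf 90370) (.leaf 0))) (.node (.node (.leaf 31547) (.leaf 0)) (.node (.leaf 5546) (.leaf 0)))))) (.node (.node (.node (.node (.node (.leaf 17989) (.leaf 28477)) (.node (.leaf 64197) (.leaf 0))) (.node (.node (.leaf 6534) (.leaf 0)) (.node (.leaf 31179) (.leaf 0)))) (.node (.node (.node (.leaf 36520) (.leaf 68355)) (.node (.leaf 30528) (.leaf 0))) (.node (.node (.leaf 14098) (.leaf 0)) (.node (.leaf 71596) (.leaf 0))))) (.node (.node (.node (.node (.leaf 104337) (.leaf 33270)) (.node (.leaf 103281) (.leaf 0))) (.node (.node (.leaf 74072) (.leaf 0)) (.node (.leaf 37033) (.leaf 0)))) (.node (.node (.node (.leaf 24530) (.leaf 83745)) (.node (.leaf 70634) (.leaf 0))) (.node (.node (.leaf 129987) (.leaf 0)) (.node (.leaf 85421) (.leaf 0))))))) (.node (.node (.node (.node (.node (.node (.leaf 86481) (.leaf 35601)) (.node (.leaf 63641) (.leaf 0))) (.node (.node (.leaf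 122771) (.leaf 0)) (.node (.leaf 95094) (.leaf 0)))) (.node (.node (.node (.leaf 112020) (.leaf 54271)) (.node (.leaf 89370) (.leaf 0))) (.node (.node (.leaf 26516) (.leaf 0)) (.node (.leaf 1979) (.leaf 0))))) (.node (.node (.node (.node (.leaf 34996) (.leaf 115071)) (.node (.leaf 41386) (.leaf 0))) (.node (.node (.leaf 62253) (.leaf 0)) (.node (.leaf 19676) (.leaf 0)))) (.node (.node (.node (.leaf 54232) (.leaf 106490)) (.node (.leaf 15665) (.leaf 0))) (.node (.node (.leaf 7916) (.leaf 0)) (.node (.leaf 92088) (.leaf 0)))))) (.node (.node (.node (.node (.node (.leaf 95643) (.leaf 113561)) (.node (.leaf 46216) (.leaf 0))) (.node (.node (.leaf 94646) (.leaf 0)) (.node (.leaf 127825) (.leaf 0)))) (.node (.node (.node (.leaf 15718) (.leaf 53649)) (.node (.leaf 121253) (.leaf 0))) (.node (.node (.leaf 125924) (.leaf 0)) (.node (.leaf 77298) (.leaf 0))))) (.node (.node (.node (.node (.leaf 8697) (.leaf 43971)) (.node (.leaf 29287) (.leaf 0))) (.node (.node (.leaf 66032) (.leaf 0)) (.node (.leaf 52046) (.leaf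 0)))) (.node (.node (.node (.leaf 124403) (.leaf 124748)) (.node (.leaf 113526) (.leaf 0))) (.node (.node (.leaf 32219) (.leaf 0)) (.node (.leaf 7362) (.leaf 0))))))))

def kT105 : NT := .node (.node (.node (.node (.node (.node (.node (.node (.leaf 35982) (.leaf 98563)) (.node (.leaf 120253) (.leaf 0))) (.node (.node (.leaf 113045) (.leaf 0)) (.node (.leaf 118749) (.leaf 0)))) (.node (.node (.node (.leaf 40128) (.leaf 46726)) (.node (.leaf 5749) (.leaf 0))) (.node (.node (.leaf 42834) (.leaf 0)) (.node (.leaf 34062) (.leaf 0))))) (.node (.node (.node (.node (.leaf 78734) (.leaf 25157)) (.node (.leaf 40202) (.leaf 0))) (.node (.node (.leaf 46288) (.leaf 0)) (.node (.leaf 21396) (.leaf 0)))) (.node (.node (.node (.leaf 91014) (.leaf 75591)) (.node (.leaf 53041) (.leaf 0))) (.node (.node (.leaf 55128) (.leaf 0)) (.node (.leaf 47582) (.leaf 0)))))) (.node (.node (.node (.node (.node (.leaf 91911) (.leaf 43172)) (.node (.leaf 119255) (.leaf 0))) (.node (.node (.leaf 7988) (.leaf 0)) (.node (.leaf 90923) (.leaf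 0)))) (.node (.node (.node (.leaf 23444) (.leaf 50156)) (.node (.leaf 67473) (.leaf 0))) (.node (.node (.leaf 118691) (.leaf 0)) (.node (.leaf 34491) (.leaf 0))))) (.node (.node (.node (.node (.leaf 94072) (.leaf 10659)) (.node (.leaf 4660) (.leaf 0))) (.node (.node (.leaf 44230) (.leaf 0)) (.node (.leaf 2951) (.leaf 0)))) (.node (.node (.node (.leaf 20403) (.leaf 87443)) (.node (.leaf 106310) (.leaf 0))) (.node (.node (.leaf 127457) (.leaf 0)) (.node (.leaf 87822) (.leaf 0))))))) (.node (.node (.node (.node (.node (.node (.leaf 59652) (.leaf 37707)) (.node (.leaf 4301) (.leaf 0))) (.node (.node (.leaf 41201) (.leaf 0)) (.node (.leaf 38748) (.leaf 0)))) (.node (.node (.node (.leaf 36021) (.leaf 108923)) (.node (.leaf 13287) (.leaf 0))) (.node (.node (.leaf 40845) (.leaf 0)) (.node (.leaf 3397) (.leaf 0))))) (.node (.node (.node (.node (.leaf 10893) (.leaf 5676)) (.node (.leaf 27204) (.leaf 0))) (.node (.node (.leaf 9269) (.leaf 0)) (.node (.leaf 79811) (.leaf 0)))) (.node (.node (.node (.leaf 78313) (.leaf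 45783)) (.node (.leaf 40190) (.leaf 0))) (.node (.node (.leaf 124321) (.leaf 0)) (.node (.leaf 122193) (.leaf 0)))))) (.node (.node (.node (.node (.node (.leaf 115499) (.leaf 50572)) (.node (.leaf 30419) (.leaf 0))) (.node (.node (.leaf 38086) (.leaf 0)) (.node (.leaf 74594) (.leaf 0)))) (.node (.node (.node (.leaf 116519) (.leaf 83235)) (.node (.leaf 27464) (.leaf 0))) (.node (.node (.leaf 106305) (.leaf 0)) (.node (.leaf 131026) (.leaf 0))))) (.node (.node (.node (.node (.leaf 129850) (.leaf 11882)) (.node (.leaf 2526) (.leaf 0))) (.node (.node (.leaf 19430) (.leaf 0)) (.node (.leaf 80287) (.leaf 0)))) (.node (.node (.node (.leaf 4531) (.leaf 102885)) (.node (.leaf 17334) (.leaf 0))) (.node (.node (.leaf 25819) (.leaf 0)) (.node (.leaf 91645) (.leaf 0)))))))) (.node (.node (.node (.node (.node (.node (.node (.leaf 14753) (.leaf 51061)) (.node (.leaf 58096) (.leaf 0))) (.node (.node (.leaf 32737) (.leaf 0)) (.node (.leaf 101169) (.leaf 0)))) (.node (.node (.node (.leaf 78743) (.leaf 78669)) (.node (.leaf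 22314) (.leaf 0))) (.node (.node (.leaf 112615) (.leaf 0)) (.node (.leaf 27312) (.leaf 0))))) (.node (.node (.node (.node (.leaf 46028) (.leaf 46993)) (.node (.leaf 55025) (.leaf 0))) (.node (.node (.leaf 18127) (.leaf 0)) (.node (.leaf 57734) (.leaf 0)))) (.node (.node (.node (.leaf 67511) (.leaf 100225)) (.node (.leaf 94133) (.leaf 0))) (.node (.node (.leaf 22898) (.leaf 0)) (.node (.leaf 33463) (.leaf 0)))))) (.node (.node (.node (.node (.node (.leaf 2857) (.leaf 5963)) (.node (.leaf 45404) (.leaf 0))) (.node (.node (.leaf 129942) (.leaf 0)) (.node (.leaf 64277) (.leaf 0)))) (.node (.node (.node (.leaf 10985) (.leaf 107484)) (.node (.leaf 1235) (.leaf 0))) (.node (.node (.leaf 58587) (.leaf 0)) (.node (.leaf 54442) (.leaf 0))))) (.node (.node (.node (.node (.leaf 68394) (.leaf 83313)) (.node (.leaf 108826) (.leaf 0))) (.node (.node (.leaf 112486) (.leaf 0)) (.node (.leaf 64204) (.leaf 0)))) (.node (.node (.node (.leaf 11769) (.leaf 36521)) (.node (.leaf 60336) (.leaf 0))) (.node (.node (.leaf 8285)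 (.leaf 0)) (.node (.leaf 41275) (.leaf 0))))))) (.node (.node (.node (.node (.node (.node (.leaf 8939) (.leaf 31972)) (.node (.leaf 63105) (.leaf 0))) (.node (.node (.leaf 57827) (.leaf 0)) (.node (.leaf 76134) (.leaf 0)))) (.node (.node (.node (.leaf 58727) (.leaf 102200)) (.node (.leaf 26330) (.leaf 0))) (.node (.node (.leaf 76177) (.leaf 0)) (.node (.leaf 125803) (.leaf 0))))) (.node (.node (.node (.node (.leaf 106439) (.leaf 53377)) (.node (.leaf 27322) (.leaf 0))) (.node (.node (.leaf 61592) (.leaf 0)) (.node (.leaf 31881) (.leaf 0)))) (.node (.node (.node (.leaf 16766) (.leaf 48921)) (.node (.leaf 15225) (.leaf 0))) (.node (.node (.leaf 7141) (.leaf 0)) (.node (.leaf 26037) (.leaf 0)))))) (.node (.node (.node (.node (.node (.leaf 43728) (.leaf 6113)) (.node (.leaf 129311) (.leaf 0))) (.node (.node (.leaf 19338) (.leaf 0)) (.node (.leaf 117539) (.leaf 0)))) (.node (.node (.node (.leaf 1567) (.leaf 36203)) (.node (.leaf 52159) (.leaf 0))) (.node (.node (.leaf 33061) (.leaf 0)) (.node (.leaf 25572)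 (.leaf 0))))) (.node (.node (.node (.node (.leaf 131006) (.leaf 82824)) (.node (.leaf 24046) (.leaf 0))) (.node (.node (.leaf 54483) (.leaf 0)) (.node (.leaf 103212) (.leaf 0)))) (.node (.node (.node (.leaf 18294) (.leaf 19713)) (.node (.leaf 60299) (.leaf 0))) (.node (.node (.leaf 15473) (.leaf 0)) (.node (.leaf 3776) (.leaf 0))))))))

def kT106 : NT := .node (.node (.node (.node (.node (.node (.node (.node (.leaf 124319) (.leaf 125307)) (.node (.leaf 95216) (.leaf 0))) (.node (.node (.leaf 100836) (.leaf 0)) (.node (.leaf 110404) (.leaf 0)))) (.node (.node (.node (.leaf 60055) (.leaf 22013)) (.node (.leaf 101784) (.leaf 0))) (.node (.node (.leaf 76109) (.leaf 0)) (.node (.leaf 9163) (.leaf 0))))) (.node (.node (.node (.node (.leaf 15400) (.leaf 49611)) (.node (.leaf 1428) (.leaf 0))) (.node (.node (.leaf 72158) (.leaf 0)) (.node (.leaf 59791) (.leaf 0)))) (.node (.node (.node (.leaf 62125) (.leaf 86314)) (.node (.leaf 18284) (.leaf 0))) (.node (.node (.leaf 36294) (.leaf 0)) (.node (.leaf 32438) (.leaf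 0)))))) (.node (.node (.node (.node (.node (.leaf 17655) (.leaf 68501)) (.node (.leaf 130483) (.leaf 0))) (.node (.node (.leaf 72673) (.leaf 0)) (.node (.leaf 62390) (.leaf 0)))) (.node (.node (.node (.leaf 55520) (.leaf 16479)) (.node (.leaf 125866) (.leaf 0))) (.node (.node (.leaf 11375) (.leaf 0)) (.node (.leaf 56084) (.leaf 0))))) (.node (.node (.node (.node (.leaf 11259) (.leaf 73066)) (.node (.leaf 48378) (.leaf 0))) (.node (.node (.leaf 96689) (.leaf 0)) (.node (.leaf 61781) (.leaf 0)))) (.node (.node (.node (.leaf 126922) (.leaf 23260)) (.node (.leaf 13269) (.leaf 0))) (.node (.node (.leaf 54924) (.leaf 0)) (.node (.leaf 112109) (.leaf 0))))))) (.node (.node (.node (.node (.node (.node (.leaf 112400) (.leaf 20127)) (.node (.leaf 28513) (.leaf 0))) (.node (.node (.leaf 22702) (.leaf 0)) (.node (.leaf 28929) (.leaf 0)))) (.node (.node (.node (.leaf 94203) (.leaf 74168)) (.node (.leaf 43653) (.leaf 0))) (.node (.node (.leaf 59095) (.leaf 0)) (.node (.leaf 97111) (.leaf 0))))) (.node (.node (.node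 (.node (.leaf 11570) (.leaf 118587)) (.node (.leaf 79308) (.leaf 0))) (.node (.node (.leaf 11055) (.leaf 0)) (.node (.leaf 20421) (.leaf 0)))) (.node (.node (.node (.leaf 18537) (.leaf 9500)) (.node (.leaf 65459) (.leaf 0))) (.node (.node (.leaf 24808) (.leaf 0)) (.node (.leaf 62267) (.leaf 0)))))) (.node (.node (.node (.node (.node (.leaf 52472) (.leaf 6928)) (.node (.leaf 107785) (.leaf 0))) (.node (.node (.leaf 95155) (.leaf 0)) (.node (.leaf 121854) (.leaf 0)))) (.node (.node (.node (.leaf 77060) (.leaf 91603)) (.node (.leaf 40258) (.leaf 0))) (.node (.node (.leaf 126829) (.leaf 0)) (.node (.leaf 121343) (.leaf 0))))) (.node (.node (.node (.node (.leaf 46008) (.leaf 34564)) (.node (.leaf 36714) (.leaf 0))) (.node (.node (.leaf 120099) (.leaf 0)) (.node (.leaf 5712) (.leaf 0)))) (.node (.node (.node (.leaf 76599) (.leaf 75660)) (.node (.leaf 128480) (.leaf 0))) (.node (.node (.leaf 19394) (.leaf 0)) (.node (.leaf 17565) (.leaf 0)))))))) (.node (.node (.node (.node (.node (.node (.node (.leaf 87478)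 (.leaf 35060)) (.node (.leaf 58141) (.leaf 0))) (.node (.node (.leaf 62148) (.leaf 0)) (.node (.leaf 87341) (.leaf 0)))) (.node (.node (.node (.leaf 19963) (.leaf 11922)) (.node (.leaf 31636) (.leaf 0))) (.node (.node (.leaf 29807) (.leaf 0)) (.node (.leaf 44288) (.leaf 0))))) (.node (.node (.node (.node (.leaf 78120) (.leaf 54515)) (.node (.leaf 31078) (.leaf 0))) (.node (.node (.leaf 11106) (.leaf 0)) (.node (.leaf 128821) (.leaf 0)))) (.node (.node (.node (.leaf 131049) (.leaf 109324)) (.node (.leaf 124381) (.leaf 0))) (.node (.node (.leaf 937) (.leaf 0)) (.node (.leaf 43665) (.leaf 0)))))) (.node (.node (.node (.node (.node (.leaf 88374) (.leaf 116113)) (.node (.leaf 18125) (.leaf 0))) (.node (.node (.leaf 16039) (.leaf 0)) (.node (.leaf 34126) (.leaf 0)))) (.node (.node (.node (.leaf 89377) (.leaf 51336)) (.node (.leaf 36713) (.leaf 0))) (.node (.node (.leaf 19404) (.leaf 0)) (.node (.leaf 34283) (.leaf 0))))) (.node (.node (.node (.node (.leaf 3611) (.leaf 15448)) (.node (.leaf 54464) (.leaf 0)))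 (.node (.node (.leaf 57301) (.leaf 0)) (.node (.leaf 16644) (.leaf 0)))) (.node (.node (.node (.leaf 10813) (.leaf 113007)) (.node (.leaf 36677) (.leaf 0))) (.node (.node (.leaf 116128) (.leaf 0)) (.node (.leaf 25750) (.leaf 0))))))) (.node (.node (.node (.node (.node (.node (.leaf 60829) (.leaf 65412)) (.node (.leaf 4491) (.leaf 0))) (.node (.node (.leaf 53220) (.leaf 0)) (.node (.leaf 56268) (.leaf 0)))) (.node (.node (.node (.leaf 7083) (.leaf 97572)) (.node (.leaf 110357) (.leaf 0))) (.node (.node (.leaf 54432) (.leaf 0)) (.node (.leaf 40233) (.leaf 0))))) (.node (.node (.node (.node (.leaf 12885) (.leaf 19726)) (.node (.leaf 120070) (.leaf 0))) (.node (.node (.leaf 5409) (.leaf 0)) (.node (.leaf 113984) (.leaf 0)))) (.node (.node (.node (.leaf 13181) (.leaf 91915)) (.node (.leaf 16474) (.leaf 0))) (.node (.node (.leaf 43188) (.leaf 0)) (.node (.leaf 72077) (.leaf 0)))))) (.node (.node (.node (.node (.node (.leaf 119672) (.leaf 18405)) (.node (.leaf 27252) (.leaf 0))) (.node (.node (.leaf 47788) (.leaf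 0)) (.node (.leaf 25418) (.leaf 0)))) (.node (.node (.node (.leaf 63793) (.leaf 82901)) (.node (.leaf 117233) (.leaf 0))) (.node (.node (.leaf 1258) (.leaf 0)) (.node (.leaf 111906) (.leaf 0))))) (.node (.node (.node (.node (.leaf 99192) (.leaf 88506)) (.node (.leaf 58054) (.leaf 0))) (.node (.node (.leaf 49438) (.leaf 0)) (.node (.leaf 33221) (.leaf 0)))) (.node (.node (.node (.leaf 46868) (.leaf 41231)) (.node (.leaf 22906) (.leaf 0))) (.node (.node (.leaf 38862) (.leaf 0)) (.node (.leaf 494) (.leaf 0))))))))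

def kT107 : NT := .node (.node (.node (.node (.node (.node (.node (.node (.leaf 82408) (.leaf 74055)) (.node (.leaf 42120) (.leaf 0))) (.node (.node (.leaf 17474) (.leaf 0)) (.node (.leaf 98722) (.leaf 0)))) (.node (.node (.node (.leaf 98120) (.leaf 103799)) (.node (.leaf 102153) (.leaf 0))) (.node (.node (.leaf 45276) (.leaf 0)) (.node (.leaf 112009) (.leaf 0))))) (.node (.node (.node (.node (.leaf 30284) (.leaf 17339)) (.node (.leaf 38602) (.leaf 0))) (.node (.node (.leaf 17743) (.leaf 0)) (.node (.leaf 22526) (.leaf 0)))) (.node (.node (.node (.leaf 13512) (.leaf 128981)) (.node (.leaf 15039) (.leaf 0))) (.node (.node (.leaf 60854) (.leaf 0)) (.node (.leaf 121850) (.leaf 0)))))) (.node (.node (.node (.node (.node (.leaf 74561) (.leaf 46586)) (.node (.leaf 103933) (.leaf 0))) (.node (.node (.leaf 17017) (.leaf 0)) (.node (.leaf 10904) (.leaf 0)))) (.node (.node (.node (.leaf 12515) (.leaf 36101)) (.node (.leaf 123653) (.leaf 0))) (.node (.node (.leaf 1363) (.leaf 0)) (.node (.leaf 12949) (.leaf 0)))))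 (.node (.node (.node (.node (.leaf 5588) (.leaf 4968)) (.node (.leaf 83887) (.leaf 0))) (.node (.node (.leaf 26620) (.leaf 0)) (.node (.leaf 23198) (.leaf 0)))) (.node (.node (.node (.leaf 92667) (.leaf 122340)) (.node (.leaf 85376) (.leaf 0))) (.node (.node (.leaf 85473) (.leaf 0)) (.node (.leaf 2586) (.leaf 0))))))) (.node (.node (.node (.node (.node (.node (.leaf 21482) (.leaf 50025)) (.node (.leaf 48573) (.leaf 0))) (.node (.node (.leaf 25860) (.leaf 0)) (.node (.leaf 40142) (.leaf 0)))) (.node (.node (.node (.leaf 57236) (.leaf 73083)) (.node (.leaf 26886) (.leaf 0))) (.node (.node (.leaf 53736) (.leaf 0)) (.node (.leaf 96147) (.leaf 0))))) (.node (.node (.node (.node (.leaf 28894) (.leaf 75550)) (.node (.leaf 32535) (.leaf 0))) (.node (.node (.leaf 12749) (.leaf 0)) (.node (.leaf 4546) (.leaf 0)))) (.node (.node (.node (.leaf 53046) (.leaf 45243)) (.node (.leaf 6318) (.leaf 0))) (.node (.node (.leaf 92436) (.leaf 0)) (.node (.leaf 37528) (.leaf 0)))))) (.node (.node (.node (.node (.node (.leaf 9604)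 (.leaf 85482)) (.node (.leaf 51029) (.leaf 0))) (.node (.node (.leaf 15759) (.leaf 0)) (.node (.leaf 12495) (.leaf 0)))) (.node (.node (.node (.leaf 70410) (.leaf 100841)) (.node (.leaf 11896) (.leaf 0))) (.node (.node (.leaf 122139) (.leaf 0)) (.node (.leaf 126846) (.leaf 0))))) (.node (.node (.node (.node (.leaf 25170) (.leaf 95164)) (.node (.leaf 4778) (.leaf 0))) (.node (.node (.leaf 118649) (.leaf 0)) (.node (.leaf 31707) (.leaf 0)))) (.node (.node (.node (.leaf 30043) (.leaf 57598)) (.node (.leaf 44327) (.leaf 0))) (.node (.node (.leaf 6367) (.leaf 0)) (.node (.leaf 78737) (.leaf 0)))))))) (.node (.node (.node (.node (.node (.node (.node (.leaf 64475) (.leaf 24495)) (.node (.leaf 75072) (.leaf 0))) (.node (.node (.leaf 76136) (.leaf 0)) (.node (.leaf 44727) (.leaf 0)))) (.node (.node (.node (.leaf 127346) (.leaf 58006)) (.node (.leaf 72140) (.leaf 0))) (.node (.node (.leaf 62827) (.leaf 0)) (.node (.leaf 39833) (.leaf 0))))) (.node (.node (.node (.node (.leaf 114481) (.leaf 21631)) (.node (.leaf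 19641) (.leaf 0))) (.node (.node (.leaf 18517) (.leaf 0)) (.node (.leaf 71069) (.leaf 0)))) (.node (.node (.node (.leaf 29000) (.leaf 107783)) (.node (.leaf 15716) (.leaf 0))) (.node (.node (.leaf 95548) (.leaf 0)) (.node (.leaf 73087) (.leaf 0)))))) (.node (.node (.node (.node (.node (.leaf 100157) (.leaf 128423)) (.node (.leaf 4779) (.leaf 0))) (.node (.node (.leaf 97246) (.leaf 0)) (.node (.leaf 25679) (.leaf 0)))) (.node (.node (.node (.leaf 14119) (.leaf 69065)) (.node (.leaf 32997) (.leaf 0))) (.node (.node (.leaf 32243) (.leaf 0)) (.node (.leaf 1929) (.leaf 0))))) (.node (.node (.node (.node (.leaf 22966) (.leaf 22956)) (.node (.leaf 2808) (.leaf 0))) (.node (.node (.leaf 114599) (.leaf 0)) (.node (.leaf 45429) (.leaf 0)))) (.node (.node (.node (.leaf 55574) (.leaf 48842)) (.node (.leaf 741) (.leaf 0))) (.node (.node (.leaf 86993) (.leaf 0)) (.node (.leaf 70520) (.leaf 0))))))) (.node (.node (.node (.node (.node (.node (.leaf 44473) (.leaf 31187)) (.node (.leaf 3463) (.leaf 0))) (.node (.node (.leaf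 59296) (.leaf 0)) (.node (.leaf 122222) (.leaf 0)))) (.node (.node (.node (.leaf 115079) (.leaf 44831)) (.node (.leaf 28783) (.leaf 0))) (.node (.node (.leaf 24220) (.leaf 0)) (.node (.leaf 35208) (.leaf 0))))) (.node (.node (.node (.node (.leaf 14958) (.leaf 39325)) (.node (.leaf 130973) (.leaf 0))) (.node (.node (.leaf 80643) (.leaf 0)) (.node (.leaf 10555) (.leaf 0)))) (.node (.node (.node (.leaf 106760) (.leaf 124161)) (.node (.leaf 126313) (.leaf 0))) (.node (.node (.leaf 97629) (.leaf 0)) (.node (.leaf 11568) (.leaf 0)))))) (.node (.node (.node (.node (.node (.leaf 101233) (.leaf 126776)) (.node (.leaf 113110) (.leaf 0))) (.node (.node (.leaf 77242) (.leaf 0)) (.node (.leaf 59220) (.leaf 0)))) (.node (.node (.node (.leaf 120756) (.leaf 13209)) (.node (.leaf 37814) (.leaf 0))) (.node (.node (.leaf 53109) (.leaf 0)) (.node (.leaf 1069) (.leaf 0))))) (.node (.node (.node (.node (.leaf 18396) (.leaf 61222)) (.node (.leaf 33520) (.leaf 0))) (.node (.node (.leaf 53216) (.leaf 0)) (.node (.leaf 41289) (.leaf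 0)))) (.node (.node (.node (.leaf 62691) (.leaf 98126)) (.node (.leaf 31964) (.leaf 0))) (.node (.node (.leaf 112902) (.leaf 0)) (.node (.leaf 6441) (.leaf 0))))))))

def kT108 : NT := .node (.node (.node (.node (.node (.node (.node (.node (.leaf 2298) (.leaf 35163)) (.node (.leaf 85990) (.leaf 0))) (.node (.node (.leaf 122641) (.leaf 0)) (.node (.leaf 4012) (.leaf 0)))) (.node (.node (.node (.leaf 84845) (.leaf 64192)) (.node (.leaf 59639) (.leaf 0))) (.node (.node (.leaf 99616) (.leaf 0)) (.node (.leaf 22351) (.leaf 0))))) (.node (.node (.node (.node (.leaf 43836) (.leaf 41732)) (.node (.leaf 54054) (.leaf 0))) (.node (.node (.leaf 81780) (.leaf 0)) (.node (.leaf 27402) (.leaf 0)))) (.node (.node (.node (.leaf 65441) (.leaf 41773)) (.node (.leaf 16196) (.leaf 0))) (.node (.node (.leaf 60045) (.leaf 0)) (.node (.leaf 27210) (.leaf 0)))))) (.node (.node (.node (.node (.node (.leaf 54644) (.leaf 62668)) (.node (.leaf 40304) (.leaf 0))) (.node (.node (.leaf 76196) (.leaf 0)) (.node (.leaf 100752) (.leaf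 0)))) (.node (.node (.node (.leaf 110466) (.leaf 95154)) (.node (.leaf 58540) (.leaf 0))) (.node (.node (.leaf 38613) (.leaf 0)) (.node (.leaf 124812) (.leaf 0))))) (.node (.node (.node (.node (.leaf 3780) (.leaf 56765)) (.node (.leaf 41882) (.leaf 0))) (.node (.node (.leaf 10971) (.leaf 0)) (.node (.leaf 17066) (.leaf 0)))) (.node (.node (.node (.leaf 56997) (.leaf 29916)) (.node (.leaf 96657) (.leaf 0))) (.node (.node (.leaf 6024) (.leaf 0)) (.node (.leaf 111017) (.leaf 0))))))) (.node (.node (.node (.node (.node (.node (.leaf 128812) (.leaf 40900)) (.node (.leaf 65462) (.leaf 0))) (.node (.node (.leaf 25517) (.leaf 0)) (.node (.leaf 90558) (.leaf 0)))) (.node (.node (.node (.leaf 130909) (.leaf 37272)) (.node (.leaf 14038) (.leaf 0))) (.node (.node (.leaf 39883) (.leaf 0)) (.node (.leaf 66941) (.leaf 0))))) (.node (.node (.node (.node (.leaf 68399) (.leaf 121257)) (.node (.leaf 48922) (.leaf 0))) (.node (.node (.leaf 111443) (.leaf 0)) (.node (.leaf 3317) (.leaf 0)))) (.node (.node (.node (.leaf 31448)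 (.leaf 47406)) (.node (.leaf 25871) (.leaf 0))) (.node (.node (.leaf 26179) (.leaf 0)) (.node (.leaf 117562) (.leaf 0)))))) (.node (.node (.node (.node (.node (.leaf 66539) (.leaf 53076)) (.node (.leaf 36589) (.leaf 0))) (.node (.node (.leaf 11808) (.leaf 0)) (.node (.leaf 22146) (.leaf 0)))) (.node (.node (.node (.leaf 3969) (.leaf 87330)) (.node (.leaf 85349) (.leaf 0))) (.node (.node (.leaf 4994) (.leaf 0)) (.node (.leaf 28935) (.leaf 0))))) (.node (.node (.node (.node (.leaf 63931) (.leaf 113595)) (.node (.leaf 95570) (.leaf 0))) (.node (.node (.leaf 94202) (.leaf 0)) (.node (.leaf 26790) (.leaf 0)))) (.node (.node (.node (.leaf 114494) (.leaf 11249)) (.node (.leaf 96661) (.leaf 0))) (.node (.node (.leaf 7550) (.leaf 0)) (.node (.leaf 112055) (.leaf 0)))))))) (.node (.node (.node (.node (.node (.node (.node (.leaf 57121) (.leaf 5076)) (.node (.leaf 48576) (.leaf 0))) (.node (.node (.leaf 61816) (.leaf 0)) (.node (.leaf 11507) (.leaf 0)))) (.node (.node (.node (.leaf 4944) (.leaf 16088)) (.node (.leaf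 58619) (.leaf 0))) (.node (.node (.leaf 109993) (.leaf 0)) (.node (.leaf 31398) (.leaf 0))))) (.node (.node (.node (.node (.leaf 111909) (.leaf 52208)) (.node (.leaf 21947) (.leaf 0))) (.node (.node (.leaf 19269) (.leaf 0)) (.node (.leaf 124813) (.leaf 0)))) (.node (.node (.node (.leaf 40366) (.leaf 82691)) (.node (.leaf 20066) (.leaf 0))) (.node (.node (.leaf 35021) (.leaf 0)) (.node (.leaf 64933) (.leaf 0)))))) (.node (.node (.node (.node (.node (.leaf 39823) (.leaf 22852)) (.node (.leaf 43285) (.leaf 0))) (.node (.node (.leaf 106303) (.leaf 0)) (.node (.leaf 47818) (.leaf 0)))) (.node (.node (.node (.leaf 6618) (.leaf 48479)) (.node (.leaf 126226) (.leaf 0))) (.node (.node (.leaf 10295) (.leaf 0)) (.node (.leaf 23937) (.leaf 0))))) (.node (.node (.node (.node (.leaf 3877) (.leaf 126358)) (.node (.leaf 12918) (.leaf 0))) (.node (.node (.leaf 98243) (.leaf 0)) (.node (.leaf 23246) (.leaf 0)))) (.node (.node (.node (.leaf 23333) (.leaf 80762)) (.node (.leaf 97733) (.leaf 0))) (.node (.node (.leaf 33175)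 (.leaf 0)) (.node (.leaf 7289) (.leaf 0))))))) (.node (.node (.node (.node (.node (.node (.leaf 20331) (.leaf 18003)) (.node (.leaf 45919) (.leaf 0))) (.node (.node (.leaf 53187) (.leaf 0)) (.node (.leaf 77734) (.leaf 0)))) (.node (.node (.node (.leaf 99804) (.leaf 122838)) (.node (.leaf 84809) (.leaf 0))) (.node (.node (.leaf 105350) (.leaf 0)) (.node (.leaf 93538) (.leaf 0))))) (.node (.node (.node (.node (.leaf 82324) (.leaf 43951)) (.node (.leaf 31706) (.leaf 0))) (.node (.node (.leaf 105398) (.leaf 0)) (.node (.leaf 43408) (.leaf 0)))) (.node (.node (.node (.leaf 33050) (.leaf 35086)) (.node (.leaf 101246) (.leaf 0))) (.node (.node (.leaf 42691) (.leaf 0)) (.node (.leaf 113124) (.leaf 0)))))) (.node (.node (.node (.node (.node (.leaf 14781) (.leaf 39689)) (.node (.leaf 39560) (.leaf 0))) (.node (.node (.leaf 121198) (.leaf 0)) (.node (.leaf 55956) (.leaf 0)))) (.node (.node (.node (.leaf 71941) (.leaf 19632)) (.node (.leaf 15072) (.leaf 0))) (.node (.node (.leaf 117506) (.leaf 0)) (.node (.leaf 59046)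 (.leaf 0))))) (.node (.node (.node (.node (.leaf 127855) (.leaf 45327)) (.node (.leaf 63626) (.leaf 0))) (.node (.node (.leaf 127744) (.leaf 0)) (.node (.leaf 37364) (.leaf 0)))) (.node (.node (.node (.leaf 124684) (.leaf 20873)) (.node (.leaf 30340) (.leaf 0))) (.node (.node (.leaf 43929) (.leaf 0)) (.node (.leaf 88029) (.leaf 0))))))))

def kT109 : NT := .node (.node (.node (.node (.node (.node (.node (.node (.leaf 1055) (.leaf 26016)) (.node (.leaf 46883) (.leaf 0))) (.node (.node (.leaf 44350) (.leaf 0)) (.node (.leaf 61252) (.leaf 0)))) (.node (.node (.node (.leaf 15224) (.leaf 127484)) (.node (.leaf 52658) (.leaf 0))) (.node (.node (.leaf 65856) (.leaf 0)) (.node (.leaf 122782) (.leaf 0))))) (.node (.node (.node (.node (.leaf 98806) (.leaf 109018)) (.node (.leaf 84792) (.leaf 0))) (.node (.node (.leaf 59781) (.leaf 0)) (.node (.leaf 55002) (.leaf 0)))) (.node (.node (.node (.leaf 68361) (.leaf 218)) (.node (.leaf 108295) (.leaf 0))) (.node (.node (.leaf 37174) (.leaf 0)) (.node (.leaf 50018) (.leaf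 0)))))) (.node (.node (.node (.node (.node (.leaf 78703) (.leaf 66469)) (.node (.leaf 30687) (.leaf 0))) (.node (.node (.leaf 103818) (.leaf 0)) (.node (.leaf 121664) (.leaf 0)))) (.node (.node (.node (.leaf 128782) (.leaf 19741)) (.node (.leaf 68527) (.leaf 0))) (.node (.node (.leaf 8102) (.leaf 0)) (.node (.leaf 16186) (.leaf 0))))) (.node (.node (.node (.node (.leaf 49818) (.leaf 93986)) (.node (.leaf 125776) (.leaf 0))) (.node (.node (.leaf 119746) (.leaf 0)) (.node (.leaf 81803) (.leaf 0)))) (.node (.node (.node (.leaf 120606) (.leaf 34210)) (.node (.leaf 50349) (.leaf 0))) (.node (.node (.leaf 60864) (.leaf 0)) (.node (.leaf 113639) (.leaf 0))))))) (.node (.node (.node (.node (.node (.node (.leaf 5204) (.leaf 86884)) (.node (.leaf 51481) (.leaf 0))) (.node (.node (.leaf 121815) (.leaf 0)) (.node (.leaf 27949) (.leaf 0)))) (.node (.node (.node (.leaf 65423) (.leaf 56774)) (.node (.leaf 42205) (.leaf 0))) (.node (.node (.leaf 86409) (.leaf 0)) (.node (.leaf 13915) (.leaf 0))))) (.node (.node (.node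 (.node (.leaf 17093) (.leaf 9765)) (.node (.leaf 89353) (.leaf 0))) (.node (.node (.leaf 58562) (.leaf 0)) (.node (.leaf 62659) (.leaf 0)))) (.node (.node (.node (.leaf 2683) (.leaf 126239)) (.node (.leaf 115532) (.leaf 0))) (.node (.node (.leaf 110457) (.leaf 0)) (.node (.leaf 10737) (.leaf 0)))))) (.node (.node (.node (.node (.node (.leaf 59809) (.leaf 51146)) (.node (.leaf 42171) (.leaf 0))) (.node (.node (.leaf 2956) (.leaf 0)) (.node (.leaf 91982) (.leaf 0)))) (.node (.node (.node (.leaf 57194) (.leaf 67359)) (.node (.leaf 83401) (.leaf 0))) (.node (.node (.leaf 14614) (.leaf 0)) (.node (.leaf 125855) (.leaf 0))))) (.node (.node (.node (.node (.leaf 28769) (.leaf 20441)) (.node (.leaf 64196) (.leaf 0))) (.node (.node (.leaf 84475) (.leaf 0)) (.node (.leaf 38089) (.leaf 0)))) (.node (.node (.node (.leaf 62133) (.leaf 104888)) (.node (.leaf 73109) (.leaf 0))) (.node (.node (.leaf 95531) (.leaf 0)) (.node (.leaf 84319) (.leaf 0)))))))) (.node (.node (.node (.node (.node (.node (.node (.leaf 78728) (.leaf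 1840)) (.node (.leaf 29428) (.leaf 0))) (.node (.node (.leaf 62234) (.leaf 0)) (.node (.leaf 15600) (.leaf 0)))) (.node (.node (.node (.leaf 107830) (.leaf 93661)) (.node (.leaf 51891) (.leaf 0))) (.node (.node (.leaf 39909) (.leaf 0)) (.node (.leaf 1240) (.leaf 0))))) (.node (.node (.node (.node (.leaf 24208) (.leaf 97025)) (.node (.leaf 105240) (.leaf 0))) (.node (.node (.leaf 7340) (.leaf 0)) (.node (.leaf 23521) (.leaf 0)))) (.node (.node (.node (.leaf 14288) (.leaf 96212)) (.node (.leaf 37608) (.leaf 0))) (.node (.node (.leaf 42444) (.leaf 0)) (.node (.leaf 46382) (.leaf 0)))))) (.node (.node (.node (.node (.node (.leaf 11967) (.leaf 128814)) (.node (.leaf 59722) (.leaf 0))) (.node (.node (.leaf 292) (.leaf 0)) (.node (.leaf 124849) (.leaf 0)))) (.node (.node (.node (.leaf 67045) (.leaf 15567)) (.node (.leaf 67501) (.leaf 0))) (.node (.node (.leaf 103275) (.leaf 0)) (.node (.leaf 51421) (.leaf 0))))) (.node (.node (.node (.node (.leaf 36525) (.leaf 32351)) (.node (.leaf 32421) (.leaf 0))) (.node (.node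 (.leaf 58865) (.leaf 0)) (.node (.leaf 82725) (.leaf 0)))) (.node (.node (.node (.leaf 5286) (.leaf 63690)) (.node (.leaf 12034) (.leaf 0))) (.node (.node (.leaf 35323) (.leaf 0)) (.node (.leaf 107849) (.leaf 0))))))) (.node (.node (.node (.node (.node (.node (.leaf 120703) (.leaf 18854)) (.node (.leaf 58171) (.leaf 0))) (.node (.node (.leaf 34988) (.leaf 0)) (.node (.leaf 110013) (.leaf 0)))) (.node (.node (.node (.leaf 64245) (.leaf 128798)) (.node (.leaf 39113) (.leaf 0))) (.node (.node (.leaf 96701) (.leaf 0)) (.node (.leaf 44853) (.leaf 0))))) (.node (.node (.node (.node (.leaf 24764) (.leaf 50905)) (.node (.leaf 53548) (.leaf 0))) (.node (.node (.leaf 96623) (.leaf 0)) (.node (.leaf 59738) (.leaf 0)))) (.node (.node (.node (.leaf 13364) (.leaf 30871)) (.node (.leaf 104381) (.leaf 0))) (.node (.node (.leaf 13305) (.leaf 0)) (.node (.leaf 105828) (.leaf 0)))))) (.node (.node (.node (.node (.node (.leaf 57782) (.leaf 24528)) (.node (.leaf 60568) (.leaf 0))) (.node (.node (.leaf 126760) (.leaf 0)) (.node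 (.leaf 129312) (.leaf 0)))) (.node (.node (.node (.leaf 40147) (.leaf 57483)) (.node (.leaf 97716) (.leaf 0))) (.node (.node (.leaf 36636) (.leaf 0)) (.node (.leaf 81767) (.leaf 0))))) (.node (.node (.node (.node (.leaf 20719) (.leaf 23652)) (.node (.leaf 87306) (.leaf 0))) (.node (.node (.leaf 6242) (.leaf 0)) (.node (.leaf 5779) (.leaf 0)))) (.node (.node (.node (.leaf 5469) (.leaf 496)) (.node (.leaf 100741) (.leaf 0))) (.node (.node (.leaf 19810) (.leaf 0)) (.node (.leaf 44543) (.leaf 0))))))))

def kT110 : NT := .node (.node (.node (.node (.node (.node (.node (.node (.leaf 10955) (.leaf 96599)) (.node (.leaf 2023) (.leaf 0))) (.node (.node (.leaf 20328) (.leaf 0)) (.node (.leaf 29479) (.leaf 0)))) (.node (.node (.node (.leaf 119104) (.leaf 12344)) (.node (.leaf 102869) (.leaf 0))) (.node (.node (.leaf 35006) (.leaf 0)) (.node (.leaf 128831) (.leaf 0))))) (.node (.node (.node (.node (.leaf 61106) (.leaf 3873)) (.node (.leaf 73540) (.leaf 0))) (.node (.node (.leaf 72045) (.leaf 0)) (.node (.leaf 16693)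 (.leaf 0)))) (.node (.node (.node (.leaf 97641) (.leaf 118109)) (.node (.leaf 42740) (.leaf 0))) (.node (.node (.leaf 8035) (.leaf 0)) (.node (.leaf 30152) (.leaf 0)))))) (.node (.node (.node (.node (.node (.leaf 123902) (.leaf 52946)) (.node (.leaf 128402) (.leaf 0))) (.node (.node (.leaf 7353) (.leaf 0)) (.node (.leaf 27716) (.leaf 0)))) (.node (.node (.node (.leaf 4054) (.leaf 20440)) (.node (.leaf 10525) (.leaf 0))) (.node (.node (.leaf 111927) (.leaf 0)) (.node (.leaf 38274) (.leaf 0))))) (.node (.node (.node (.node (.leaf 20478) (.leaf 124234)) (.node (.leaf 8626) (.leaf 0))) (.node (.node (.leaf 92029) (.leaf 0)) (.node (.leaf 39084) (.leaf 0)))) (.node (.node (.node (.leaf 58302) (.leaf 15347)) (.node (.leaf 123737) (.leaf 0))) (.node (.node (.leaf 26290) (.leaf 0)) (.node (.leaf 43947) (.leaf 0))))))) (.node (.node (.node (.node (.node (.node (.leaf 31859) (.leaf 10747)) (.node (.leaf 106818) (.leaf 0))) (.node (.node (.leaf 48563) (.leaf 0)) (.node (.leaf 63200) (.leaf 0)))) (.node (.node (.node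 (.leaf 41758) (.leaf 129503)) (.node (.leaf 63713) (.leaf 0))) (.node (.node (.leaf 56493) (.leaf 0)) (.node (.leaf 41730) (.leaf 0))))) (.node (.node (.node (.node (.leaf 73718) (.leaf 50007)) (.node (.leaf 98115) (.leaf 0))) (.node (.node (.leaf 15081) (.leaf 0)) (.node (.leaf 55717) (.leaf 0)))) (.node (.node (.node (.leaf 56613) (.leaf 67393)) (.node (.leaf 36125) (.leaf 0))) (.node (.node (.leaf 7368) (.leaf 0)) (.node (.leaf 13244) (.leaf 0)))))) (.node (.node (.node (.node (.node (.leaf 59788) (.leaf 131020)) (.node (.leaf 43975) (.leaf 0))) (.node (.node (.leaf 36024) (.leaf 0)) (.node (.leaf 23519) (.leaf 0)))) (.node (.node (.node (.leaf 40678) (.leaf 93551)) (.node (.leaf 25231) (.leaf 0))) (.node (.node (.leaf 27771) (.leaf 0)) (.node (.leaf 34738) (.leaf 0))))) (.node (.node (.node (.node (.leaf 128965) (.leaf 72611)) (.node (.leaf 7904) (.leaf 0))) (.node (.node (.leaf 89033) (.leaf 0)) (.node (.leaf 129822) (.leaf 0)))) (.node (.node (.node (.leaf 108022) (.leaf 56656)) (.node (.leaf 5009)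 (.leaf 0))) (.node (.node (.leaf 90028) (.leaf 0)) (.node (.leaf 6644) (.leaf 0)))))))) (.node (.node (.node (.node (.node (.node (.node (.leaf 19638) (.leaf 26552)) (.node (.leaf 21059) (.leaf 0))) (.node (.node (.leaf 114145) (.leaf 0)) (.node (.leaf 67372) (.leaf 0)))) (.node (.node (.node (.leaf 32051) (.leaf 98250)) (.node (.leaf 121281) (.leaf 0))) (.node (.node (.leaf 120734) (.leaf 0)) (.node (.leaf 102229) (.leaf 0))))) (.node (.node (.node (.node (.leaf 61836) (.leaf 104944)) (.node (.leaf 110853) (.leaf 0))) (.node (.node (.leaf 86273) (.leaf 0)) (.node (.leaf 26041) (.leaf 0)))) (.node (.node (.node (.leaf 77652) (.leaf 18000)) (.node (.leaf 96168) (.leaf 0))) (.node (.node (.leaf 108320) (.leaf 0)) (.node (.leaf 50655) (.leaf 0)))))) (.node (.node (.node (.node (.node (.leaf 93477) (.leaf 55086)) (.node (.leaf 3804) (.leaf 0))) (.node (.node (.leaf 21858) (.leaf 0)) (.node (.leaf 64426) (.leaf 0)))) (.node (.node (.node (.leaf 43241) (.leaf 32570)) (.node (.leaf 46576) (.leaf 0))) (.node (.node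 (.leaf 20174) (.leaf 0)) (.node (.leaf 55768) (.leaf 0))))) (.node (.node (.node (.node (.leaf 127807) (.leaf 22302)) (.node (.leaf 10676) (.leaf 0))) (.node (.node (.leaf 98131) (.leaf 0)) (.node (.leaf 24375) (.leaf 0)))) (.node (.node (.node (.leaf 81348) (.leaf 117708)) (.node (.leaf 30694) (.leaf 0))) (.node (.node (.leaf 29112) (.leaf 0)) (.node (.leaf 101790) (.leaf 0))))))) (.node (.node (.node (.node (.node (.node (.leaf 95064) (.leaf 6437)) (.node (.leaf 2772) (.leaf 0))) (.node (.node (.leaf 38127) (.leaf 0)) (.node (.leaf 6238) (.leaf 0)))) (.node (.node (.node (.leaf 68937) (.leaf 15471)) (.node (.leaf 8658) (.leaf 0))) (.node (.node (.leaf 69104) (.leaf 0)) (.node (.leaf 46532) (.leaf 0))))) (.node (.node (.node (.node (.leaf 5401) (.leaf 93035)) (.node (.leaf 4560) (.leaf 0))) (.node (.node (.leaf 53894) (.leaf 0)) (.node (.leaf 49528) (.leaf 0)))) (.node (.node (.node (.leaf 24987) (.leaf 123226)) (.node (.leaf 10994) (.leaf 0))) (.node (.node (.leaf 49290) (.leaf 0)) (.node (.leaf 31306)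 (.leaf 0)))))) (.node (.node (.node (.node (.node (.leaf 59377) (.leaf 97040)) (.node (.leaf 119736) (.leaf 0))) (.node (.node (.leaf 70022) (.leaf 0)) (.node (.leaf 6276) (.leaf 0)))) (.node (.node (.node (.leaf 59825) (.leaf 59747)) (.node (.leaf 61712) (.leaf 0))) (.node (.node (.leaf 22756) (.leaf 0)) (.node (.leaf 49449) (.leaf 0))))) (.node (.node (.node (.node (.leaf 25966) (.leaf 106848)) (.node (.leaf 33456) (.leaf 0))) (.node (.node (.leaf 17688) (.leaf 0)) (.node (.leaf 104780) (.leaf 0)))) (.node (.node (.node (.leaf 3848) (.leaf 20699)) (.node (.leaf 53493) (.leaf 0))) (.node (.node (.leaf 42293) (.leaf 0)) (.node (.leaf 26553) (.leaf 0))))))))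

def kT111 : NT := .node (.node (.node (.node (.node (.node (.node (.node (.leaf 100096) (.leaf 51368)) (.node (.leaf 43880) (.leaf 0))) (.node (.node (.leaf 40101) (.leaf 0)) (.node (.leaf 98670) (.leaf 0)))) (.node (.node (.node (.leaf 75720) (.leaf 108461)) (.node (.leaf 63785) (.leaf 0))) (.node (.node (.leaf 130010) (.leaf 0)) (.node (.leaf 13961) (.leaf 0))))) (.node (.node (.node (.node (.leaf 3901) (.leaf 109997)) (.node (.leaf 70508) (.leaf 0))) (.node (.node (.leaf 75236) (.leaf 0)) (.node (.leaf 1688) (.leaf 0)))) (.node (.node (.node (.leaf 66866) (.leaf 98727)) (.node (.leaf 44761) (.leaf 0))) (.node (.node (.leaf 115573) (.leaf 0)) (.node (.leaf 98284) (.leaf 0)))))) (.node (.node (.node (.node (.node (.leaf 51407) (.leaf 11050)) (.node (.leaf 34143) (.leaf 0))) (.node (.node (.leaf 101143) (.leaf 0)) (.node (.leaf 38092) (.leaf 0)))) (.node (.node (.node (.leaf 98175) (.leaf 88926)) (.node (.leaf 99075) (.leaf 0))) (.node (.node (.leaf 10591) (.leaf 0)) (.node (.leaf 60114) (.leaf 0)))))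 (.node (.node (.node (.node (.leaf 18667) (.leaf 85830)) (.node (.leaf 128980) (.leaf 0))) (.node (.node (.leaf 39363) (.leaf 0)) (.node (.leaf 51905) (.leaf 0)))) (.node (.node (.node (.leaf 23374) (.leaf 54089)) (.node (.leaf 57704) (.leaf 0))) (.node (.node (.leaf 7669) (.leaf 0)) (.node (.leaf 25683) (.leaf 0))))))) (.node (.node (.node (.node (.node (.node (.leaf 863) (.leaf 129288)) (.node (.leaf 101719) (.leaf 0))) (.node (.node (.leaf 21123) (.leaf 0)) (.node (.leaf 97142) (.leaf 0)))) (.node (.node (.node (.leaf 40445) (.leaf 63307)) (.node (.leaf 40377) (.leaf 0))) (.node (.node (.leaf 24989) (.leaf 0)) (.node (.leaf 38559) (.leaf 0))))) (.node (.node (.node (.node (.leaf 41669) (.leaf 25394)) (.node (.leaf 119214) (.leaf 0))) (.node (.node (.leaf 102666) (.leaf 0)) (.node (.leaf 112096) (.leaf 0)))) (.node (.node (.node (.leaf 88373) (.leaf 116218)) (.node (.leaf 70459) (.leaf 0))) (.node (.node (.leaf 67901) (.leaf 0)) (.node (.leaf 122274) (.leaf 0)))))) (.node (.node (.node (.node (.node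 (.leaf 97645) (.leaf 35716)) (.node (.leaf 43793) (.leaf 0))) (.node (.node (.leaf 10450) (.leaf 0)) (.node (.leaf 77130) (.leaf 0)))) (.node (.node (.node (.leaf 96558) (.leaf 21245)) (.node (.leaf 130871) (.leaf 0))) (.node (.node (.leaf 123334) (.leaf 0)) (.node (.leaf 103288) (.leaf 0))))) (.node (.node (.node (.node (.leaf 9341) (.leaf 41419)) (.node (.leaf 10923) (.leaf 0))) (.node (.node (.leaf 41422) (.leaf 0)) (.node (.leaf 58255) (.leaf 0)))) (.node (.node (.node (.leaf 8461) (.leaf 64479)) (.node (.leaf 62155) (.leaf 0))) (.node (.node (.leaf 6087) (.leaf 0)) (.node (.leaf 99642) (.leaf 0)))))))) (.node (.node (.node (.node (.node (.node (.node (.leaf 48973) (.leaf 41197)) (.node (.leaf 110487) (.leaf 0))) (.node (.node (.leaf 13170) (.leaf 0)) (.node (.leaf 32332) (.leaf 0)))) (.node (.node (.node (.leaf 28317) (.leaf 114173)) (.node (.leaf 104831) (.leaf 0))) (.node (.node (.leaf 9692) (.leaf 0)) (.node (.leaf 43315) (.leaf 0))))) (.node (.node (.node (.node (.leaf 73198) (.leaf 20613)) (.node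 (.leaf 120306) (.leaf 0))) (.node (.node (.leaf 123196) (.leaf 0)) (.node (.leaf 49547) (.leaf 0)))) (.node (.node (.node (.leaf 131003) (.leaf 30002)) (.node (.leaf 28544) (.leaf 0))) (.node (.node (.leaf 17994) (.leaf 0)) (.node (.leaf 12698) (.leaf 0)))))) (.node (.node (.node (.node (.node (.leaf 52939) (.leaf 44408)) (.node (.leaf 16973) (.leaf 0))) (.node (.node (.leaf 15592) (.leaf 0)) (.node (.leaf 123897) (.leaf 0)))) (.node (.node (.node (.leaf 31968) (.leaf 99204)) (.node (.leaf 96239) (.leaf 0))) (.node (.node (.leaf 20340) (.leaf 0)) (.node (.leaf 107967) (.leaf 0))))) (.node (.node (.node (.node (.leaf 20801) (.leaf 58112)) (.node (.leaf 7205) (.leaf 0))) (.node (.node (.leaf 75618) (.leaf 0)) (.node (.leaf 85773) (.leaf 0)))) (.node (.node (.node (.leaf 69476) (.leaf 10566)) (.node (.leaf 77603) (.leaf 0))) (.node (.node (.leaf 115608) (.leaf 0)) (.node (.leaf 38788) (.leaf 0))))))) (.node (.node (.node (.node (.node (.node (.leaf 49646) (.leaf 120122)) (.node (.leaf 58601) (.leaf 0))) (.node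 (.node (.leaf 2643) (.leaf 0)) (.node (.leaf 64764) (.leaf 0)))) (.node (.node (.node (.leaf 69534) (.leaf 128893)) (.node (.leaf 99144) (.leaf 0))) (.node (.node (.leaf 118034) (.leaf 0)) (.node (.leaf 69553) (.leaf 0))))) (.node (.node (.node (.node (.leaf 9344) (.leaf 111026)) (.node (.leaf 6734) (.leaf 0))) (.node (.node (.leaf 23712) (.leaf 0)) (.node (.leaf 35310) (.leaf 0)))) (.node (.node (.node (.leaf 21489) (.leaf 30435)) (.node (.leaf 86785) (.leaf 0))) (.node (.node (.leaf 37051) (.leaf 0)) (.node (.leaf 2831) (.leaf 0)))))) (.node (.node (.node (.node (.node (.leaf 53157) (.leaf 108823)) (.node (.leaf 24788) (.leaf 0))) (.node (.node (.leaf 19374) (.leaf 0)) (.node (.leaf 91037) (.leaf 0)))) (.node (.node (.node (.leaf 22616) (.leaf 59699)) (.node (.leaf 67996) (.leaf 0))) (.node (.node (.leaf 92636) (.leaf 0)) (.node (.leaf 106864) (.leaf 0))))) (.node (.node (.node (.node (.leaf 56223) (.leaf 42297)) (.node (.leaf 112034) (.leaf 0))) (.node (.node (.leaf 20308) (.leaf 0)) (.node (.leaf 87303)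 (.leaf 0)))) (.node (.node (.node (.leaf 96207) (.leaf 64999)) (.node (.leaf 34296) (.leaf 0))) (.node (.node (.leaf 21376) (.leaf 0)) (.node (.leaf 121704) (.leaf 0))))))))

def kT112 : NT := .node (.node (.node (.node (.node (.node (.node (.node (.leaf 129846) (.leaf 8780)) (.node (.leaf 4179) (.leaf 0))) (.node (.node (.leaf 55778) (.leaf 0)) (.node (.leaf 91545) (.leaf 0)))) (.node (.node (.node (.leaf 54968) (.leaf 51554)) (.node (.leaf 29040) (.leaf 0))) (.node (.node (.leaf 82942) (.leaf 0)) (.node (.leaf 113612) (.leaf 0))))) (.node (.node (.node (.node (.leaf 88838) (.leaf 53154)) (.node (.leaf 45504) (.leaf 0))) (.node (.node (.leaf 62237) (.leaf 0)) (.node (.leaf 7374) (.leaf 0)))) (.node (.node (.node (.leaf 97259) (.leaf 37700)) (.node (.leaf 25544) (.leaf 0))) (.node (.node (.leaf 6595) (.leaf 0)) (.node (.leaf 65434) (.leaf 0)))))) (.node (.node (.node (.node (.node (.leaf 55044) (.leaf 107965)) (.node (.leaf 38594) (.leaf 0))) (.node (.node (.leaf 43339) (.leaf 0)) (.node (.leaf 88909)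 (.leaf 0)))) (.node (.node (.node (.leaf 30625) (.leaf 64434)) (.node (.leaf 34442) (.leaf 0))) (.node (.node (.leaf 109847) (.leaf 0)) (.node (.leaf 2741) (.leaf 0))))) (.node (.node (.node (.node (.leaf 114466) (.leaf 97064)) (.node (.leaf 102222) (.leaf 0))) (.node (.node (.leaf 9278) (.leaf 0)) (.node (.leaf 119240) (.leaf 0)))) (.node (.node (.node (.leaf 94056) (.leaf 4150)) (.node (.leaf 30205) (.leaf 0))) (.node (.node (.leaf 19409) (.leaf 0)) (.node (.leaf 6614) (.leaf 0))))))) (.node (.node (.node (.node (.node (.node (.leaf 59258) (.leaf 8283)) (.node (.leaf 16741) (.leaf 0))) (.node (.node (.leaf 111554) (.leaf 0)) (.node (.leaf 76627) (.leaf 0)))) (.node (.node (.node (.leaf 125818) (.leaf 114559)) (.node (.leaf 19961) (.leaf 0))) (.node (.node (.leaf 47532) (.leaf 0)) (.node (.leaf 10796) (.leaf 0))))) (.node (.node (.node (.node (.leaf 12903) (.leaf 37146)) (.node (.leaf 7124) (.leaf 0))) (.node (.node (.leaf 77709) (.leaf 0)) (.node (.leaf 125355) (.leaf 0)))) (.node (.node (.node (.leaf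 66027) (.leaf 71494)) (.node (.leaf 77655) (.leaf 0))) (.node (.node (.leaf 21804) (.leaf 0)) (.node (.leaf 5922) (.leaf 0)))))) (.node (.node (.node (.node (.node (.leaf 46318) (.leaf 64443)) (.node (.leaf 20283) (.leaf 0))) (.node (.node (.leaf 24863) (.leaf 0)) (.node (.leaf 15736) (.leaf 0)))) (.node (.node (.node (.leaf 70012) (.leaf 20991)) (.node (.leaf 5972) (.leaf 0))) (.node (.node (.leaf 13242) (.leaf 0)) (.node (.leaf 52686) (.leaf 0))))) (.node (.node (.node (.node (.leaf 25341) (.leaf 43927)) (.node (.leaf 60818) (.leaf 0))) (.node (.node (.leaf 8037) (.leaf 0)) (.node (.leaf 73094) (.leaf 0)))) (.node (.node (.node (.leaf 64784) (.leaf 99756)) (.node (.leaf 62636) (.leaf 0))) (.node (.node (.leaf 57808) (.leaf 0)) (.node (.leaf 19140) (.leaf 0)))))))) (.node (.node (.node (.node (.node (.node (.node (.leaf 71658) (.leaf 108403)) (.node (.leaf 84368) (.leaf 0))) (.node (.node (.leaf 23654) (.leaf 0)) (.node (.leaf 71670) (.leaf 0)))) (.node (.node (.node (.leaf 71049) (.leaf 6800)) (.node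 (.leaf 19113) (.leaf 0))) (.node (.node (.leaf 69987) (.leaf 0)) (.node (.leaf 31090) (.leaf 0))))) (.node (.node (.node (.node (.leaf 105791) (.leaf 13451)) (.node (.leaf 3639) (.leaf 0))) (.node (.node (.leaf 28566) (.leaf 0)) (.node (.leaf 42393) (.leaf 0)))) (.node (.node (.node (.leaf 43194) (.leaf 37698)) (.node (.leaf 120662) (.leaf 0))) (.node (.node (.leaf 32199) (.leaf 0)) (.node (.leaf 54711) (.leaf 0)))))) (.node (.node (.node (.node (.node (.leaf 77224) (.leaf 118553)) (.node (.leaf 117073) (.leaf 0))) (.node (.node (.leaf 30450) (.leaf 0)) (.node (.leaf 96735) (.leaf 0)))) (.node (.node (.node (.leaf 64248) (.leaf 73545)) (.node (.leaf 96144) (.leaf 0))) (.node (.node (.leaf 5119) (.leaf 0)) (.node (.leaf 24298) (.leaf 0))))) (.node (.node (.node (.node (.leaf 101138) (.leaf 112394)) (.node (.leaf 82235) (.leaf 0))) (.node (.node (.leaf 80275) (.leaf 0)) (.node (.leaf 83221) (.leaf 0)))) (.node (.node (.node (.leaf 17251) (.leaf 86441)) (.node (.leaf 28863) (.leaf 0))) (.node (.node (.leaf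 107906) (.leaf 0)) (.node (.leaf 2339) (.leaf 0))))))) (.node (.node (.node (.node (.node (.node (.leaf 96530) (.leaf 55569)) (.node (.leaf 22447) (.leaf 0))) (.node (.node (.leaf 81403) (.leaf 0)) (.node (.leaf 59012) (.leaf 0)))) (.node (.node (.node (.leaf 46727) (.leaf 54445)) (.node (.leaf 44705) (.leaf 0))) (.node (.node (.leaf 69913) (.leaf 0)) (.node (.leaf 34792) (.leaf 0))))) (.node (.node (.node (.node (.leaf 1705) (.leaf 2910)) (.node (.leaf 55541) (.leaf 0))) (.node (.node (.leaf 68895) (.leaf 0)) (.node (.leaf 50541) (.leaf 0)))) (.node (.node (.node (.leaf 91552) (.leaf 115646)) (.node (.leaf 40064) (.leaf 0))) (.node (.node (.leaf 167) (.leaf 0)) (.node (.leaf 95559) (.leaf 0)))))) (.node (.node (.node (.node (.node (.leaf 79683) (.leaf 100683)) (.node (.leaf 102702) (.leaf 0))) (.node (.node (.leaf 123317) (.leaf 0)) (.node (.leaf 23024) (.leaf 0)))) (.node (.node (.node (.leaf 20693) (.leaf 46977)) (.node (.leaf 69100) (.leaf 0))) (.node (.node (.leaf 49533) (.leaf 0)) (.node (.leaf 5536)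 (.leaf 0))))) (.node (.node (.node (.node (.leaf 122353) (.leaf 77109)) (.node (.leaf 108500) (.leaf 0))) (.node (.node (.leaf 25759) (.leaf 0)) (.node (.leaf 84782) (.leaf 0)))) (.node (.node (.node (.leaf 27523) (.leaf 14072)) (.node (.leaf 8501) (.leaf 0))) (.node (.node (.leaf 96716) (.leaf 0)) (.node (.leaf 49516) (.leaf 0))))))))

def kT113 : NT := .node (.node (.node (.node (.node (.node (.node (.node (.leaf 31621) (.leaf 122240)) (.node (.leaf 130832) (.leaf 0))) (.node (.node (.leaf 80248) (.leaf 0)) (.node (.leaf 38322) (.leaf 0)))) (.node (.node (.node (.leaf 61141) (.leaf 2007)) (.node (.leaf 73131) (.leaf 0))) (.node (.node (.leaf 54189) (.leaf 0)) (.node (.leaf 47581) (.leaf 0))))) (.node (.node (.node (.node (.leaf 4891) (.leaf 93668)) (.node (.leaf 64470) (.leaf 0))) (.node (.node (.leaf 55582) (.leaf 0)) (.node (.leaf 99588) (.leaf 0)))) (.node (.node (.node (.leaf 42324) (.leaf 121144)) (.node (.leaf 33567) (.leaf 0))) (.node (.node (.leaf 17676) (.leaf 0)) (.node (.leaf 15695) (.leaf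 0)))))) (.node (.node (.node (.node (.node (.leaf 121800) (.leaf 5757)) (.node (.leaf 98252) (.leaf 0))) (.node (.node (.leaf 77258) (.leaf 0)) (.node (.leaf 37059) (.leaf 0)))) (.node (.node (.node (.leaf 1023) (.leaf 128853)) (.node (.leaf 94188) (.leaf 0))) (.node (.node (.leaf 101195) (.leaf 0)) (.node (.leaf 117716) (.leaf 0))))) (.node (.node (.node (.node (.leaf 38836) (.leaf 5777)) (.node (.leaf 99123) (.leaf 0))) (.node (.node (.leaf 64410) (.leaf 0)) (.node (.leaf 102724) (.leaf 0)))) (.node (.node (.node (.leaf 40373) (.leaf 5169)) (.node (.leaf 52645) (.leaf 0))) (.node (.node (.leaf 24541) (.leaf 0)) (.node (.leaf 13295) (.leaf 0))))))) (.node (.node (.node (.node (.node (.node (.leaf 21462) (.leaf 56196)) (.node (.leaf 97781) (.leaf 0))) (.node (.node (.leaf 20725) (.leaf 0)) (.node (.leaf 109359) (.leaf 0)))) (.node (.node (.node (.leaf 14324) (.leaf 64349)) (.node (.leaf 101868) (.leaf 0))) (.node (.node (.leaf 106781) (.leaf 0)) (.node (.leaf 79174) (.leaf 0))))) (.node (.node (.node (.node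 (.leaf 27290) (.leaf 4519)) (.node (.leaf 16860) (.leaf 0))) (.node (.node (.leaf 11757) (.leaf 0)) (.node (.leaf 867) (.leaf 0)))) (.node (.node (.node (.leaf 22634) (.leaf 76601)) (.node (.leaf 67583) (.leaf 0))) (.node (.node (.leaf 76584) (.leaf 0)) (.node (.leaf 130825) (.leaf 0)))))) (.node (.node (.node (.node (.node (.leaf 101797) (.leaf 80758)) (.node (.leaf 10864) (.leaf 0))) (.node (.node (.leaf 48518) (.leaf 0)) (.node (.leaf 58280) (.leaf 0)))) (.node (.node (.node (.leaf 28872) (.leaf 16596)) (.node (.leaf 59715) (.leaf 0))) (.node (.node (.leaf 106775) (.leaf 0)) (.node (.leaf 39595) (.leaf 0))))) (.node (.node (.node (.node (.leaf 74164) (.leaf 69901)) (.node (.leaf 26397) (.leaf 0))) (.node (.node (.leaf 26239) (.leaf 0)) (.node (.leaf 39207) (.leaf 0)))) (.node (.node (.node (.leaf 65452) (.leaf 37786)) (.node (.leaf 105376) (.leaf 0))) (.node (.node (.leaf 90530) (.leaf 0)) (.node (.leaf 127942) (.leaf 0)))))))) (.node (.node (.node (.node (.node (.node (.node (.leaf 95521) (.leaf 116078))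 (.node (.leaf 24876) (.leaf 0))) (.node (.node (.leaf 2525) (.leaf 0)) (.node (.leaf 101124) (.leaf 0)))) (.node (.node (.node (.leaf 20407) (.leaf 110875)) (.node (.leaf 82314) (.leaf 0))) (.node (.node (.leaf 15598) (.leaf 0)) (.node (.leaf 43878) (.leaf 0))))) (.node (.node (.node (.node (.leaf 58325) (.leaf 11901)) (.node (.leaf 121613) (.leaf 0))) (.node (.node (.leaf 60034) (.leaf 0)) (.node (.leaf 72603) (.leaf 0)))) (.node (.node (.node (.leaf 61789) (.leaf 18267)) (.node (.leaf 69091) (.leaf 0))) (.node (.node (.leaf 29672) (.leaf 0)) (.node (.leaf 127335) (.leaf 0)))))) (.node (.node (.node (.node (.node (.leaf 57614) (.leaf 7079)) (.node (.leaf 75184) (.leaf 0))) (.node (.node (.leaf 63745) (.leaf 0)) (.node (.leaf 98815) (.leaf 0)))) (.node (.node (.node (.leaf 37737) (.leaf 12088)) (.node (.leaf 75258) (.leaf 0))) (.node (.node (.leaf 84404) (.leaf 0)) (.node (.leaf 65990) (.leaf 0))))) (.node (.node (.node (.node (.leaf 71001) (.leaf 3630)) (.node (.leaf 6552) (.leaf 0))) (.node (.node (.leaf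 55021) (.leaf 0)) (.node (.leaf 97036) (.leaf 0)))) (.node (.node (.node (.leaf 88355) (.leaf 51904)) (.node (.leaf 110341) (.leaf 0))) (.node (.node (.leaf 76783) (.leaf 0)) (.node (.leaf 118684) (.leaf 0))))))) (.node (.node (.node (.node (.node (.node (.leaf 57582) (.leaf 34199)) (.node (.leaf 100775) (.leaf 0))) (.node (.node (.leaf 21224) (.leaf 0)) (.node (.leaf 964) (.leaf 0)))) (.node (.node (.node (.leaf 39665) (.leaf 13401)) (.node (.leaf 17356) (.leaf 0))) (.node (.node (.leaf 72981) (.leaf 0)) (.node (.leaf 108321) (.leaf 0))))) (.node (.node (.node (.node (.leaf 96119) (.leaf 70007)) (.node (.leaf 21970) (.leaf 0))) (.node (.node (.leaf 55659) (.leaf 0)) (.node (.leaf 61624) (.leaf 0)))) (.node (.node (.node (.leaf 96743) (.leaf 99077)) (.node (.leaf 52633) (.leaf 0))) (.node (.node (.leaf 8791) (.leaf 0)) (.node (.leaf 45882) (.leaf 0)))))) (.node (.node (.node (.node (.node (.leaf 20341) (.leaf 49527)) (.node (.leaf 33009) (.leaf 0))) (.node (.node (.leaf 119124) (.leaf 0)) (.node (.leaf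 89982) (.leaf 0)))) (.node (.node (.node (.leaf 5624) (.leaf 96698)) (.node (.leaf 124882) (.leaf 0))) (.node (.node (.leaf 87904) (.leaf 0)) (.node (.leaf 33530) (.leaf 0))))) (.node (.node (.node (.node (.leaf 102267) (.leaf 122144)) (.node (.leaf 45193) (.leaf 0))) (.node (.node (.leaf 14291) (.leaf 0)) (.node (.leaf 46545) (.leaf 0)))) (.node (.node (.node (.leaf 66316) (.leaf 10304)) (.node (.leaf 16728) (.leaf 0))) (.node (.node (.leaf 9102) (.leaf 0)) (.node (.leaf 40837) (.leaf 0))))))))

def kT114 : NT := .node (.node (.node (.node (.node (.node (.node (.node (.leaf 25910) (.leaf 96723)) (.node (.leaf 43007) (.leaf 0))) (.node (.node (.leaf 129512) (.leaf 0)) (.node (.leaf 21283) (.leaf 0)))) (.node (.node (.node (.leaf 113977) (.leaf 88874)) (.node (.leaf 52572) (.leaf 0))) (.node (.node (.leaf 41320) (.leaf 0)) (.node (.leaf 51661) (.leaf 0))))) (.node (.node (.node (.node (.leaf 126367) (.leaf 104226)) (.node (.leaf 12689) (.leaf 0))) (.node (.node (.leaf 58287) (.leaf 0)) (.node (.leaf 80260)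 (.leaf 0)))) (.node (.node (.node (.leaf 59793) (.leaf 24288)) (.node (.leaf 39178) (.leaf 0))) (.node (.node (.leaf 47401) (.leaf 0)) (.node (.leaf 42639) (.leaf 0)))))) (.node (.node (.node (.node (.node (.leaf 48382) (.leaf 9198)) (.node (.leaf 72681) (.leaf 0))) (.node (.node (.leaf 62377) (.leaf 0)) (.node (.leaf 56113) (.leaf 0)))) (.node (.node (.node (.leaf 19602) (.leaf 36859)) (.node (.leaf 56143) (.leaf 0))) (.node (.node (.leaf 65861) (.leaf 0)) (.node (.leaf 23190) (.leaf 0))))) (.node (.node (.node (.node (.leaf 8383) (.leaf 61656)) (.node (.leaf 75664) (.leaf 0))) (.node (.node (.leaf 31073) (.leaf 0)) (.node (.leaf 114078) (.leaf 0)))) (.node (.node (.node (.leaf 117534) (.leaf 104445)) (.node (.leaf 25583) (.leaf 0))) (.node (.node (.leaf 99116) (.leaf 0)) (.node (.leaf 82356) (.leaf 0))))))) (.node (.node (.node (.node (.node (.node (.leaf 68507) (.leaf 39204)) (.node (.leaf 55619) (.leaf 0))) (.node (.node (.leaf 43286) (.leaf 0)) (.node (.leaf 40834) (.leaf 0)))) (.node (.node (.node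 (.leaf 38700) (.leaf 334)) (.node (.leaf 5923) (.leaf 0))) (.node (.node (.leaf 55587) (.leaf 0)) (.node (.leaf 95011) (.leaf 0))))) (.node (.node (.node (.node (.leaf 33560) (.leaf 57062)) (.node (.leaf 82825) (.leaf 0))) (.node (.node (.leaf 99819) (.leaf 0)) (.node (.leaf 62614) (.leaf 0)))) (.node (.node (.node (.leaf 10433) (.leaf 37048)) (.node (.leaf 9442) (.leaf 0))) (.node (.node (.leaf 3514) (.leaf 0)) (.node (.leaf 94168) (.leaf 0)))))) (.node (.node (.node (.node (.node (.leaf 90953) (.leaf 58672)) (.node (.leaf 119110) (.leaf 0))) (.node (.node (.leaf 21604) (.leaf 0)) (.node (.leaf 9841) (.leaf 0)))) (.node (.node (.node (.leaf 21252) (.leaf 79323)) (.node (.leaf 3854) (.leaf 0))) (.node (.node (.leaf 4306) (.leaf 0)) (.node (.leaf 7045) (.leaf 0))))) (.node (.node (.node (.node (.leaf 8253) (.leaf 6484)) (.node (.leaf 22394) (.leaf 0))) (.node (.node (.leaf 74501) (.leaf 0)) (.node (.leaf 84310) (.leaf 0)))) (.node (.node (.node (.leaf 34715) (.leaf 115152)) (.node (.leaf 44173) (.leaf 0)))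 (.node (.node (.leaf 31402) (.leaf 0)) (.node (.leaf 56611) (.leaf 0)))))))) (.node (.node (.node (.node (.node (.node (.node (.leaf 128424) (.leaf 83744)) (.node (.leaf 8842) (.leaf 0))) (.node (.node (.leaf 97698) (.leaf 0)) (.node (.leaf 17793) (.leaf 0)))) (.node (.node (.node (.leaf 120765) (.leaf 63398)) (.node (.leaf 40095) (.leaf 0))) (.node (.node (.leaf 1854) (.leaf 0)) (.node (.leaf 27331) (.leaf 0))))) (.node (.node (.node (.node (.leaf 75186) (.leaf 94515)) (.node (.leaf 27594) (.leaf 0))) (.node (.node (.leaf 126911) (.leaf 0)) (.node (.leaf 127290) (.leaf 0)))) (.node (.node (.node (.leaf 22213) (.leaf 114658)) (.node (.leaf 119085) (.leaf 0))) (.node (.node (.leaf 33637) (.leaf 0)) (.node (.leaf 25521) (.leaf 0)))))) (.node (.node (.node (.node (.node (.leaf 59298) (.leaf 46779)) (.node (.leaf 20567) (.leaf 0))) (.node (.node (.leaf 125419) (.leaf 0)) (.node (.leaf 13208) (.leaf 0)))) (.node (.node (.node (.leaf 70566) (.leaf 20581)) (.node (.leaf 86850) (.leaf 0))) (.node (.node (.leaf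 9175) (.leaf 0)) (.node (.leaf 2516) (.leaf 0))))) (.node (.node (.node (.node (.leaf 24247) (.leaf 20215)) (.node (.leaf 35734) (.leaf 0))) (.node (.node (.leaf 6310) (.leaf 0)) (.node (.leaf 36480) (.leaf 0)))) (.node (.node (.node (.leaf 14118) (.leaf 51958)) (.node (.leaf 40111) (.leaf 0))) (.node (.node (.leaf 13221) (.leaf 0)) (.node (.leaf 49062) (.leaf 0))))))) (.node (.node (.node (.node (.node (.node (.leaf 71598) (.leaf 35835)) (.node (.leaf 63353) (.leaf 0))) (.node (.node (.leaf 94204) (.leaf 0)) (.node (.leaf 19827) (.leaf 0)))) (.node (.node (.node (.leaf 23690) (.leaf 58526)) (.node (.leaf 41797) (.leaf 0))) (.node (.node (.leaf 56103) (.leaf 0)) (.node (.leaf 114004) (.leaf 0))))) (.node (.node (.node (.node (.leaf 26412) (.leaf 89400)) (.node (.leaf 55435) (.leaf 0))) (.node (.node (.leaf 130928) (.leaf 0)) (.node (.leaf 88571) (.leaf 0)))) (.node (.node (.node (.leaf 66351) (.leaf 131029)) (.node (.leaf 49651) (.leaf 0))) (.node (.node (.leaf 58129) (.leaf 0)) (.node (.leaf 114087) (.leaf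 0)))))) (.node (.node (.node (.node (.node (.leaf 72191) (.leaf 54434)) (.node (.leaf 104299) (.leaf 0))) (.node (.node (.leaf 3898) (.leaf 0)) (.node (.leaf 37228) (.leaf 0)))) (.node (.node (.node (.leaf 19024) (.leaf 104283)) (.node (.leaf 11668) (.leaf 0))) (.node (.node (.leaf 11983) (.leaf 0)) (.node (.leaf 6072) (.leaf 0))))) (.node (.node (.node (.node (.leaf 9881) (.leaf 3522)) (.node (.leaf 34552) (.leaf 0))) (.node (.node (.leaf 56827) (.leaf 0)) (.node (.leaf 75052) (.leaf 0)))) (.node (.node (.node (.leaf 131037) (.leaf 48111)) (.node (.leaf 6638) (.leaf 0))) (.node (.node (.leaf 108029) (.leaf 0)) (.node (.leaf 77621) (.leaf 0))))))))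

def kT115 : NT := .node (.node (.node (.node (.node (.node (.node (.node (.leaf 123225) (.leaf 35635)) (.node (.leaf 114023) (.leaf 0))) (.node (.node (.leaf 89439) (.leaf 0)) (.node (.leaf 51197) (.leaf 0)))) (.node (.node (.node (.leaf 45775) (.leaf 128295)) (.node (.leaf 65005) (.leaf 0))) (.node (.node (.leaf 40362) (.leaf 0)) (.node (.leaf 8044) (.leaf 0))))) (.node (.node (.node (.node (.leaf 67569) (.leaf 63830)) (.node (.leaf 58781) (.leaf 0))) (.node (.node (.leaf 58016) (.leaf 0)) (.node (.leaf 16046) (.leaf 0)))) (.node (.node (.node (.leaf 52000) (.leaf 110548)) (.node (.leaf 3999) (.leaf 0))) (.node (.node (.leaf 26593) (.leaf 0)) (.node (.leaf 47810) (.leaf 0)))))) (.node (.node (.node (.node (.node (.leaf 91647) (.leaf 74587)) (.node (.leaf 1139) (.leaf 0))) (.node (.node (.leaf 78272) (.leaf 0)) (.node (.leaf 26792) (.leaf 0)))) (.node (.node (.node (.leaf 56965) (.leaf 19907)) (.node (.leaf 114530) (.leaf 0))) (.node (.node (.leaf 103766) (.leaf 0)) (.node (.leaf 77638) (.leaf 0)))))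 (.node (.node (.node (.node (.leaf 42336) (.leaf 84808)) (.node (.leaf 55130) (.leaf 0))) (.node (.node (.leaf 126269) (.leaf 0)) (.node (.leaf 130515) (.leaf 0)))) (.node (.node (.node (.leaf 9329) (.leaf 37237)) (.node (.leaf 38220) (.leaf 0))) (.node (.node (.leaf 10626) (.leaf 0)) (.node (.leaf 58086) (.leaf 0))))))) (.node (.node (.node (.node (.node (.node (.leaf 20093) (.leaf 9934)) (.node (.leaf 12492) (.leaf 0))) (.node (.node (.leaf 7796) (.leaf 0)) (.node (.leaf 74233) (.leaf 0)))) (.node (.node (.node (.leaf 53701) (.leaf 4805)) (.node (.leaf 44784) (.leaf 0))) (.node (.node (.leaf 16187) (.leaf 0)) (.node (.leaf 28633) (.leaf 0))))) (.node (.node (.node (.node (.leaf 28024) (.leaf 22495)) (.node (.leaf 39308) (.leaf 0))) (.node (.node (.leaf 10961) (.leaf 0)) (.node (.leaf 50606) (.leaf 0)))) (.node (.node (.node (.leaf 24974) (.leaf 90595)) (.node (.leaf 98136) (.leaf 0))) (.node (.node (.leaf 28967) (.leaf 0)) (.node (.leaf 116669) (.leaf 0)))))) (.node (.node (.node (.node (.node (.leaf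 109949) (.leaf 117566)) (.node (.leaf 79213) (.leaf 0))) (.node (.node (.leaf 39896) (.leaf 0)) (.node (.leaf 83283) (.leaf 0)))) (.node (.node (.node (.leaf 121200) (.leaf 120700)) (.node (.leaf 98258) (.leaf 0))) (.node (.node (.leaf 39199) (.leaf 0)) (.node (.leaf 46332) (.leaf 0))))) (.node (.node (.node (.node (.leaf 10044) (.leaf 22597)) (.node (.leaf 110903) (.leaf 0))) (.node (.node (.leaf 60384) (.leaf 0)) (.node (.leaf 2024) (.leaf 0)))) (.node (.node (.node (.leaf 11193) (.leaf 100266)) (.node (.leaf 79148) (.leaf 0))) (.node (.node (.leaf 8511) (.leaf 0)) (.node (.leaf 106493) (.leaf 0)))))))) (.node (.node (.node (.node (.node (.node (.node (.leaf 123369) (.leaf 109507)) (.node (.leaf 55952) (.leaf 0))) (.node (.node (.leaf 29670) (.leaf 0)) (.node (.leaf 62375) (.leaf 0)))) (.node (.node (.node (.leaf 30410) (.leaf 46344)) (.node (.leaf 61352) (.leaf 0))) (.node (.node (.leaf 39672) (.leaf 0)) (.node (.leaf 54025) (.leaf 0))))) (.node (.node (.node (.node (.leaf 24572) (.leaf 11098)) (.node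 (.leaf 131059) (.leaf 0))) (.node (.node (.leaf 2961) (.leaf 0)) (.node (.leaf 127768) (.leaf 0)))) (.node (.node (.node (.leaf 45411) (.leaf 17233)) (.node (.leaf 36585) (.leaf 0))) (.node (.node (.leaf 127458) (.leaf 0)) (.node (.leaf 110939) (.leaf 0)))))) (.node (.node (.node (.node (.node (.leaf 95529) (.leaf 91419)) (.node (.leaf 5449) (.leaf 0))) (.node (.node (.leaf 68592) (.leaf 0)) (.node (.leaf 77078) (.leaf 0)))) (.node (.node (.node (.leaf 50830) (.leaf 82913)) (.node (.leaf 29278) (.leaf 0))) (.node (.node (.leaf 112117) (.leaf 0)) (.node (.leaf 100638) (.leaf 0))))) (.node (.node (.node (.node (.leaf 70138) (.leaf 82937)) (.node (.leaf 24292) (.leaf 0))) (.node (.node (.leaf 41290) (.leaf 0)) (.node (.leaf 29902) (.leaf 0)))) (.node (.node (.node (.leaf 6495) (.leaf 25532)) (.node (.leaf 27598) (.leaf 0))) (.node (.node (.leaf 37679) (.leaf 0)) (.node (.leaf 74669) (.leaf 0))))))) (.node (.node (.node (.node (.node (.node (.leaf 945) (.leaf 32952)) (.node (.leaf 72533) (.leaf 0))) (.node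 (.node (.leaf 63346) (.leaf 0)) (.node (.leaf 59520) (.leaf 0)))) (.node (.node (.node (.leaf 39620) (.leaf 98755)) (.node (.leaf 40670) (.leaf 0))) (.node (.node (.leaf 57333) (.leaf 0)) (.node (.leaf 27807) (.leaf 0))))) (.node (.node (.node (.node (.leaf 112592) (.leaf 117244)) (.node (.leaf 16276) (.leaf 0))) (.node (.node (.leaf 44903) (.leaf 0)) (.node (.leaf 131016) (.leaf 0)))) (.node (.node (.node (.leaf 85803) (.leaf 17800)) (.node (.leaf 52654) (.leaf 0))) (.node (.node (.leaf 38826) (.leaf 0)) (.node (.leaf 41292) (.leaf 0)))))) (.node (.node (.node (.node (.node (.leaf 59588) (.leaf 92513)) (.node (.leaf 9917) (.leaf 0))) (.node (.node (.leaf 46770) (.leaf 0)) (.node (.leaf 30602) (.leaf 0)))) (.node (.node (.node (.leaf 30560) (.leaf 94)) (.node (.leaf 95183) (.leaf 0))) (.node (.node (.leaf 104419) (.leaf 0)) (.node (.leaf 53105) (.leaf 0))))) (.node (.node (.node (.node (.leaf 77708) (.leaf 61640)) (.node (.leaf 88469) (.leaf 0))) (.node (.node (.leaf 57334) (.leaf 0)) (.node (.leaf 19241)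 (.leaf 0)))) (.node (.node (.node (.leaf 69905) (.leaf 110545)) (.node (.leaf 91440) (.leaf 0))) (.node (.node (.leaf 3993) (.leaf 0)) (.node (.leaf 35283) (.leaf 0))))))))

def kT116 : NT := .node (.node (.node (.node (.node (.node (.node (.node (.leaf 114124) (.leaf 62114)) (.node (.leaf 46509) (.leaf 0))) (.node (.node (.leaf 27403) (.leaf 0)) (.node (.leaf 71541) (.leaf 0)))) (.node (.node (.node (.leaf 8747) (.leaf 30950)) (.node (.leaf 5862) (.leaf 0))) (.node (.node (.leaf 125244) (.leaf 0)) (.node (.leaf 121299) (.leaf 0))))) (.node (.node (.node (.node (.leaf 20182) (.leaf 49303)) (.node (.leaf 123193) (.leaf 0))) (.node (.node (.leaf 53406) (.leaf 0)) (.node (.leaf 52491) (.leaf 0)))) (.node (.node (.node (.leaf 6376) (.leaf 100657)) (.node (.leaf 32722) (.leaf 0))) (.node (.node (.leaf 76115) (.leaf 0)) (.node (.leaf 122126) (.leaf 0)))))) (.node (.node (.node (.node (.node (.leaf 84315) (.leaf 54425)) (.node (.leaf 36511) (.leaf 0))) (.node (.node (.leaf 21696) (.leaf 0)) (.node (.leaf 88531)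 (.leaf 0)))) (.node (.node (.node (.leaf 126256) (.leaf 24458)) (.node (.leaf 23839) (.leaf 0))) (.node (.node (.leaf 53432) (.leaf 0)) (.node (.leaf 24059) (.leaf 0))))) (.node (.node (.node (.node (.leaf 35303) (.leaf 14414)) (.node (.leaf 128942) (.leaf 0))) (.node (.node (.leaf 101184) (.leaf 0)) (.node (.leaf 18156) (.leaf 0)))) (.node (.node (.node (.leaf 130307) (.leaf 29662)) (.node (.leaf 5016) (.leaf 0))) (.node (.node (.leaf 59823) (.leaf 0)) (.node (.leaf 110379) (.leaf 0))))))) (.node (.node (.node (.node (.node (.node (.leaf 4790) (.leaf 121604)) (.node (.leaf 73196) (.leaf 0))) (.node (.node (.leaf 11469) (.leaf 0)) (.node (.leaf 89364) (.leaf 0)))) (.node (.node (.node (.leaf 9308) (.leaf 57769)) (.node (.leaf 92115) (.leaf 0))) (.node (.node (.leaf 65509) (.leaf 0)) (.node (.leaf 56675) (.leaf 0))))) (.node (.node (.node (.node (.leaf 63470) (.leaf 99117)) (.node (.leaf 67453) (.leaf 0))) (.node (.node (.leaf 6359) (.leaf 0)) (.node (.leaf 57553) (.leaf 0)))) (.node (.node (.node (.leaf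 56485) (.leaf 106800)) (.node (.leaf 40796) (.leaf 0))) (.node (.node (.leaf 50611) (.leaf 0)) (.node (.leaf 30277) (.leaf 0)))))) (.node (.node (.node (.node (.node (.leaf 67336) (.leaf 120808)) (.node (.leaf 105331) (.leaf 0))) (.node (.node (.leaf 123376) (.leaf 0)) (.node (.leaf 35206) (.leaf 0)))) (.node (.node (.node (.leaf 71434) (.leaf 94075)) (.node (.leaf 53079) (.leaf 0))) (.node (.node (.leaf 64316) (.leaf 0)) (.node (.leaf 99080) (.leaf 0))))) (.node (.node (.node (.node (.leaf 27819) (.leaf 5384)) (.node (.leaf 42486) (.leaf 0))) (.node (.node (.leaf 97065) (.leaf 0)) (.node (.leaf 94597) (.leaf 0)))) (.node (.node (.node (.leaf 19754) (.leaf 1338)) (.node (.leaf 102225) (.leaf 0))) (.node (.node (.leaf 87980) (.leaf 0)) (.node (.leaf 6918) (.leaf 0)))))))) (.node (.node (.node (.node (.node (.node (.node (.leaf 23213) (.leaf 59264)) (.node (.leaf 113485) (.leaf 0))) (.node (.node (.leaf 77091) (.leaf 0)) (.node (.leaf 37026) (.leaf 0)))) (.node (.node (.node (.leaf 71444) (.leaf 59561))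 (.node (.leaf 58044) (.leaf 0))) (.node (.node (.leaf 84306) (.leaf 0)) (.node (.leaf 93628) (.leaf 0))))) (.node (.node (.node (.node (.leaf 53927) (.leaf 116554)) (.node (.leaf 61407) (.leaf 0))) (.node (.node (.leaf 54400) (.leaf 0)) (.node (.leaf 39041) (.leaf 0)))) (.node (.node (.node (.leaf 51380) (.leaf 75182)) (.node (.leaf 106292) (.leaf 0))) (.node (.node (.leaf 92075) (.leaf 0)) (.node (.leaf 110336) (.leaf 0)))))) (.node (.node (.node (.node (.node (.leaf 93100) (.leaf 2392)) (.node (.leaf 41208) (.leaf 0))) (.node (.node (.leaf 14676) (.leaf 0)) (.node (.leaf 112986) (.leaf 0)))) (.node (.node (.node (.leaf 13725) (.leaf 37322)) (.node (.leaf 15158) (.leaf 0))) (.node (.node (.leaf 7914) (.leaf 0)) (.node (.leaf 4566) (.leaf 0))))) (.node (.node (.node (.node (.leaf 7239) (.leaf 93563)) (.node (.leaf 21272) (.leaf 0))) (.node (.node (.leaf 5101) (.leaf 0)) (.node (.leaf 66964) (.leaf 0)))) (.node (.node (.node (.leaf 79845) (.leaf 81904)) (.node (.leaf 603) (.leaf 0))) (.node (.node (.leaf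 77200) (.leaf 0)) (.node (.leaf 47849) (.leaf 0))))))) (.node (.node (.node (.node (.node (.node (.leaf 33206) (.leaf 102353)) (.node (.leaf 36588) (.leaf 0))) (.node (.node (.leaf 78755) (.leaf 0)) (.node (.leaf 1427) (.leaf 0)))) (.node (.node (.node (.leaf 96731) (.leaf 108833)) (.node (.leaf 43981) (.leaf 0))) (.node (.node (.leaf 18907) (.leaf 0)) (.node (.leaf 80713) (.leaf 0))))) (.node (.node (.node (.node (.leaf 99647) (.leaf 105898)) (.node (.leaf 94077) (.leaf 0))) (.node (.node (.leaf 117734) (.leaf 0)) (.node (.leaf 9275) (.leaf 0)))) (.node (.node (.node (.leaf 23768) (.leaf 49911)) (.node (.leaf 92629) (.leaf 0))) (.node (.node (.leaf 85462) (.leaf 0)) (.node (.leaf 620) (.leaf 0)))))) (.node (.node (.node (.node (.node (.leaf 61800) (.leaf 81368)) (.node (.leaf 18527) (.leaf 0))) (.node (.node (.leaf 56060) (.leaf 0)) (.node (.leaf 16593) (.leaf 0)))) (.node (.node (.node (.leaf 1173) (.leaf 65467)) (.node (.leaf 45713) (.leaf 0))) (.node (.node (.leaf 48385) (.leaf 0)) (.node (.leaf 51973)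 (.leaf 0))))) (.node (.node (.node (.node (.leaf 19948) (.leaf 16788)) (.node (.leaf 106787) (.leaf 0))) (.node (.node (.leaf 99725) (.leaf 0)) (.node (.leaf 120176) (.leaf 0)))) (.node (.node (.node (.leaf 55478) (.leaf 52116)) (.node (.leaf 126811) (.leaf 0))) (.node (.node (.leaf 109355) (.leaf 0)) (.node (.leaf 76159) (.leaf 0))))))))

def kT117 : NT := .node (.node (.node (.node (.node (.node (.node (.node (.leaf 13441) (.leaf 76166)) (.node (.leaf 59530) (.leaf 0))) (.node (.node (.leaf 64268) (.leaf 0)) (.node (.leaf 819) (.leaf 0)))) (.node (.node (.node (.leaf 4997) (.leaf 102204)) (.node (.leaf 78236) (.leaf 0))) (.node (.node (.leaf 29381) (.leaf 0)) (.node (.leaf 17849) (.leaf 0))))) (.node (.node (.node (.node (.leaf 23783) (.leaf 9727)) (.node (.leaf 58167) (.leaf 0))) (.node (.node (.leaf 23141) (.leaf 0)) (.node (.leaf 61343) (.leaf 0)))) (.node (.node (.node (.leaf 81194) (.leaf 52144)) (.node (.leaf 114085) (.leaf 0))) (.node (.node (.leaf 16074) (.leaf 0)) (.node (.leaf 97647) (.leaf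 0)))))) (.node (.node (.node (.node (.node (.leaf 60895) (.leaf 22920)) (.node (.leaf 69989) (.leaf 0))) (.node (.node (.leaf 5880) (.leaf 0)) (.node (.leaf 97720) (.leaf 0)))) (.node (.node (.node (.leaf 101292) (.leaf 24952)) (.node (.leaf 74193) (.leaf 0))) (.node (.node (.leaf 34074) (.leaf 0)) (.node (.leaf 54474) (.leaf 0))))) (.node (.node (.node (.node (.leaf 60714) (.leaf 14489)) (.node (.leaf 6879) (.leaf 0))) (.node (.node (.leaf 27898) (.leaf 0)) (.node (.leaf 15178) (.leaf 0)))) (.node (.node (.node (.leaf 122210) (.leaf 16080)) (.node (.leaf 28248) (.leaf 0))) (.node (.node (.leaf 19060) (.leaf 0)) (.node (.leaf 3265) (.leaf 0))))))) (.node (.node (.node (.node (.node (.node (.leaf 74173) (.leaf 35184)) (.node (.leaf 64241) (.leaf 0))) (.node (.node (.leaf 30701) (.leaf 0)) (.node (.leaf 15606) (.leaf 0)))) (.node (.node (.node (.leaf 97769) (.leaf 93679)) (.node (.leaf 7213) (.leaf 0))) (.node (.node (.leaf 9499) (.leaf 0)) (.node (.leaf 114111) (.leaf 0))))) (.node (.node (.node (.node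 (.leaf 27814) (.leaf 1805)) (.node (.leaf 121190) (.leaf 0))) (.node (.node (.leaf 118211) (.leaf 0)) (.node (.leaf 32035) (.leaf 0)))) (.node (.node (.node (.leaf 44421) (.leaf 127250)) (.node (.leaf 99792) (.leaf 0))) (.node (.node (.leaf 120210) (.leaf 0)) (.node (.leaf 124770) (.leaf 0)))))) (.node (.node (.node (.node (.node (.leaf 72173) (.leaf 130423)) (.node (.leaf 21843) (.leaf 0))) (.node (.node (.leaf 46565) (.leaf 0)) (.node (.leaf 33955) (.leaf 0)))) (.node (.node (.node (.leaf 68478) (.leaf 131058)) (.node (.leaf 83715) (.leaf 0))) (.node (.node (.leaf 45832) (.leaf 0)) (.node (.leaf 48588) (.leaf 0))))) (.node (.node (.node (.node (.leaf 121630) (.leaf 92468)) (.node (.leaf 57161) (.leaf 0))) (.node (.node (.leaf 101814) (.leaf 0)) (.node (.leaf 59861) (.leaf 0)))) (.node (.node (.node (.leaf 108914) (.leaf 43282)) (.node (.leaf 42742) (.leaf 0))) (.node (.node (.leaf 32211) (.leaf 0)) (.node (.leaf 85467) (.leaf 0)))))))) (.node (.node (.node (.node (.node (.node (.node (.leaf 13558) (.leaf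 56007)) (.node (.leaf 44178) (.leaf 0))) (.node (.node (.leaf 16367) (.leaf 0)) (.node (.leaf 2225) (.leaf 0)))) (.node (.node (.node (.leaf 62973) (.leaf 128509)) (.node (.leaf 109378) (.leaf 0))) (.node (.node (.leaf 31355) (.leaf 0)) (.node (.leaf 16877) (.leaf 0))))) (.node (.node (.node (.node (.leaf 118248) (.leaf 104839)) (.node (.leaf 103927) (.leaf 0))) (.node (.node (.leaf 130407) (.leaf 0)) (.node (.leaf 43662) (.leaf 0)))) (.node (.node (.node (.leaf 36659) (.leaf 122805)) (.node (.leaf 41432) (.leaf 0))) (.node (.node (.leaf 17294) (.leaf 0)) (.node (.leaf 5352) (.leaf 0)))))) (.node (.node (.node (.node (.node (.leaf 79354) (.leaf 49071)) (.node (.leaf 37283) (.leaf 0))) (.node (.node (.leaf 92013) (.leaf 0)) (.node (.leaf 21086) (.leaf 0)))) (.node (.node (.node (.leaf 9127) (.leaf 108414)) (.node (.leaf 17521) (.leaf 0))) (.node (.node (.leaf 11070) (.leaf 0)) (.node (.leaf 9764) (.leaf 0))))) (.node (.node (.node (.node (.leaf 89970) (.leaf 10443)) (.node (.leaf 74096) (.leaf 0))) (.node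 (.node (.leaf 872) (.leaf 0)) (.node (.leaf 46777) (.leaf 0)))) (.node (.node (.node (.leaf 27233) (.leaf 121754)) (.node (.leaf 108515) (.leaf 0))) (.node (.node (.leaf 104282) (.leaf 0)) (.node (.leaf 61355) (.leaf 0))))))) (.node (.node (.node (.node (.node (.node (.leaf 1227) (.leaf 16637)) (.node (.leaf 11500) (.leaf 0))) (.node (.node (.leaf 81782) (.leaf 0)) (.node (.leaf 111000) (.leaf 0)))) (.node (.node (.node (.leaf 50351) (.leaf 15255)) (.node (.leaf 12636) (.leaf 0))) (.node (.node (.leaf 57331) (.leaf 0)) (.node (.leaf 46467) (.leaf 0))))) (.node (.node (.node (.node (.leaf 61255) (.leaf 6046)) (.node (.leaf 16686) (.leaf 0))) (.node (.node (.leaf 93540) (.leaf 0)) (.node (.leaf 102176) (.leaf 0)))) (.node (.node (.node (.leaf 55463) (.leaf 62699)) (.node (.leaf 16984) (.leaf 0))) (.node (.node (.leaf 23448) (.leaf 0)) (.node (.leaf 84342) (.leaf 0)))))) (.node (.node (.node (.node (.node (.leaf 111048) (.leaf 69400)) (.node (.leaf 40318) (.leaf 0))) (.node (.node (.leaf 52450) (.leaf 0))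 (.node (.leaf 56247) (.leaf 0)))) (.node (.node (.node (.leaf 34261) (.leaf 36037)) (.node (.leaf 16626) (.leaf 0))) (.node (.node (.leaf 20123) (.leaf 0)) (.node (.leaf 7330) (.leaf 0))))) (.node (.node (.node (.node (.leaf 93147) (.leaf 74722)) (.node (.leaf 58535) (.leaf 0))) (.node (.node (.leaf 35055) (.leaf 0)) (.node (.leaf 104269) (.leaf 0)))) (.node (.node (.node (.leaf 123338) (.leaf 67570)) (.node (.leaf 64947) (.leaf 0))) (.node (.node (.leaf 559) (.leaf 0)) (.node (.leaf 71945) (.leaf 0))))))))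

def kT118 : NT := .node (.node (.node (.node (.node (.node (.node (.node (.leaf 50391) (.leaf 115616)) (.node (.leaf 78081) (.leaf 0))) (.node (.node (.leaf 35990) (.leaf 0)) (.node (.leaf 47502) (.leaf 0)))) (.node (.node (.node (.leaf 46444) (.leaf 39745)) (.node (.leaf 77272) (.leaf 0))) (.node (.node (.leaf 45250) (.leaf 0)) (.node (.leaf 22091) (.leaf 0))))) (.node (.node (.node (.node (.leaf 43269) (.leaf 112537)) (.node (.leaf 1515) (.leaf 0))) (.node (.node (.leaf 4401) (.leaf 0)) (.node (.leaf 57786) (.leaf 0)))) (.node (.node (.node (.leaf 55222) (.leaf 28023)) (.node (.leaf 7869) (.leaf 0))) (.node (.node (.leaf 83805) (.leaf 0)) (.node (.leaf 128439) (.leaf 0)))))) (.node (.node (.node (.node (.node (.leaf 79229) (.leaf 57027)) (.node (.leaf 36757) (.leaf 0))) (.node (.node (.leaf 74080) (.leaf 0)) (.node (.leaf 79718) (.leaf 0)))) (.node (.node (.node (.leaf 49891) (.leaf 48345)) (.node (.leaf 33654) (.leaf 0))) (.node (.node (.leaf 49626) (.leaf 0)) (.node (.leaf 106824) (.leaf 0))))) (.node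 (.node (.node (.node (.leaf 46226) (.leaf 89394)) (.node (.leaf 74124) (.leaf 0))) (.node (.node (.leaf 25365) (.leaf 0)) (.node (.leaf 4879) (.leaf 0)))) (.node (.node (.node (.leaf 1834) (.leaf 19401)) (.node (.leaf 125439) (.leaf 0))) (.node (.node (.leaf 113587) (.leaf 0)) (.node (.leaf 16273) (.leaf 0))))))) (.node (.node (.node (.node (.node (.node (.leaf 87324) (.leaf 7941)) (.node (.leaf 102757) (.leaf 0))) (.node (.node (.leaf 48329) (.leaf 0)) (.node (.leaf 6356) (.leaf 0)))) (.node (.node (.node (.leaf 69582) (.leaf 61782)) (.node (.leaf 74086) (.leaf 0))) (.node (.node (.leaf 11897) (.leaf 0)) (.node (.leaf 131068) (.leaf 0))))) (.node (.node (.node (.node (.leaf 76758) (.leaf 31334)) (.node (.leaf 78103) (.leaf 0))) (.node (.node (.leaf 82211) (.leaf 0)) (.node (.leaf 19213) (.leaf 0)))) (.node (.node (.node (.leaf 39344) (.leaf 112448)) (.node (.leaf 84279) (.leaf 0))) (.node (.node (.leaf 91999) (.leaf 0)) (.node (.leaf 47968) (.leaf 0)))))) (.node (.node (.node (.node (.node (.leaf 12664)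 (.leaf 80779)) (.node (.leaf 33427) (.leaf 0))) (.node (.node (.leaf 113942) (.leaf 0)) (.node (.leaf 99753) (.leaf 0)))) (.node (.node (.node (.leaf 14393) (.leaf 69974)) (.node (.leaf 57776) (.leaf 0))) (.node (.node (.leaf 22393) (.leaf 0)) (.node (.leaf 38371) (.leaf 0))))) (.node (.node (.node (.node (.leaf 24158) (.leaf 103177)) (.node (.leaf 122750) (.leaf 0))) (.node (.node (.leaf 113030) (.leaf 0)) (.node (.leaf 85863) (.leaf 0)))) (.node (.node (.node (.leaf 11661) (.leaf 94630)) (.node (.leaf 7587) (.leaf 0))) (.node (.node (.leaf 18002) (.leaf 0)) (.node (.leaf 51651) (.leaf 0)))))))) (.node (.node (.node (.node (.node (.node (.node (.leaf 49321) (.leaf 45821)) (.node (.leaf 43296) (.leaf 0))) (.node (.node (.leaf 112112) (.leaf 0)) (.node (.leaf 17587) (.leaf 0)))) (.node (.node (.node (.leaf 73590) (.leaf 95508)) (.node (.leaf 35761) (.leaf 0))) (.node (.node (.leaf 76761) (.leaf 0)) (.node (.leaf 10314) (.leaf 0))))) (.node (.node (.node (.node (.leaf 35828) (.leaf 42457)) (.node (.leaf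 67871) (.leaf 0))) (.node (.node (.leaf 89500) (.leaf 0)) (.node (.leaf 50958) (.leaf 0)))) (.node (.node (.node (.leaf 61603) (.leaf 66324)) (.node (.leaf 4299) (.leaf 0))) (.node (.node (.leaf 130305) (.leaf 0)) (.node (.leaf 95534) (.leaf 0)))))) (.node (.node (.node (.node (.node (.leaf 44946) (.leaf 76655)) (.node (.leaf 71433) (.leaf 0))) (.node (.node (.leaf 47470) (.leaf 0)) (.node (.leaf 116098) (.leaf 0)))) (.node (.node (.node (.leaf 4669) (.leaf 103715)) (.node (.leaf 51961) (.leaf 0))) (.node (.node (.leaf 28475) (.leaf 0)) (.node (.leaf 25968) (.leaf 0))))) (.node (.node (.node (.node (.leaf 2099) (.leaf 84827)) (.node (.leaf 63128) (.leaf 0))) (.node (.node (.leaf 4404) (.leaf 0)) (.node (.leaf 26715) (.leaf 0)))) (.node (.node (.node (.leaf 74040) (.leaf 120828)) (.node (.leaf 97033) (.leaf 0))) (.node (.node (.leaf 27835) (.leaf 0)) (.node (.leaf 67909) (.leaf 0))))))) (.node (.node (.node (.node (.node (.node (.leaf 39904) (.leaf 436)) (.node (.leaf 129447) (.leaf 0))) (.node (.node (.leaf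 8364) (.leaf 0)) (.node (.leaf 50574) (.leaf 0)))) (.node (.node (.node (.leaf 123715) (.leaf 419)) (.node (.leaf 124764) (.leaf 0))) (.node (.node (.leaf 92962) (.leaf 0)) (.node (.leaf 21312) (.leaf 0))))) (.node (.node (.node (.node (.leaf 83872) (.leaf 69552)) (.node (.leaf 38353) (.leaf 0))) (.node (.node (.leaf 104338) (.leaf 0)) (.node (.leaf 10286) (.leaf 0)))) (.node (.node (.node (.leaf 44933) (.leaf 67887)) (.node (.leaf 28875) (.leaf 0))) (.node (.node (.leaf 115024) (.leaf 0)) (.node (.leaf 99228) (.leaf 0)))))) (.node (.node (.node (.node (.node (.leaf 94624) (.leaf 113515)) (.node (.leaf 31039) (.leaf 0))) (.node (.node (.leaf 66500) (.leaf 0)) (.node (.leaf 83240) (.leaf 0)))) (.node (.node (.node (.leaf 27237) (.leaf 84924)) (.node (.leaf 33015) (.leaf 0))) (.node (.node (.leaf 22220) (.leaf 0)) (.node (.leaf 43184) (.leaf 0))))) (.node (.node (.node (.node (.leaf 61432) (.leaf 61385)) (.node (.leaf 1420) (.leaf 0))) (.node (.node (.leaf 26709) (.leaf 0)) (.node (.leaf 86305) (.leaf 0))))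 (.node (.node (.node (.leaf 131053) (.leaf 31149)) (.node (.leaf 25334) (.leaf 0))) (.node (.node (.leaf 125362) (.leaf 0)) (.node (.leaf 2291) (.leaf 0))))))))

def kT119 : NT := .node (.node (.node (.node (.node (.node (.node (.node (.leaf 2138) (.leaf 96632)) (.node (.leaf 24984) (.leaf 0))) (.node (.node (.leaf 66334) (.leaf 0)) (.node (.leaf 10630) (.leaf 0)))) (.node (.node (.node (.leaf 46072) (.leaf 104253)) (.node (.leaf 104216) (.leaf 0))) (.node (.node (.leaf 23289) (.leaf 0)) (.node (.leaf 15129) (.leaf 0))))) (.node (.node (.node (.node (.leaf 74649) (.leaf 7721)) (.node (.leaf 43330) (.leaf 0))) (.node (.node (.leaf 32986) (.leaf 0)) (.node (.leaf 93156) (.leaf 0)))) (.node (.node (.node (.leaf 24051) (.leaf 63235)) (.node (.leaf 88060) (.leaf 0))) (.node (.node (.leaf 100237) (.leaf 0)) (.node (.leaf 84249) (.leaf 0)))))) (.node (.node (.node (.node (.node (.leaf 45905) (.leaf 37615)) (.node (.leaf 60918) (.leaf 0))) (.node (.node (.leaf 27475) (.leaf 0)) (.node (.leaf 50133) (.leaf 0))))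 (.node (.node (.node (.leaf 126782) (.leaf 19844)) (.node (.leaf 19706) (.leaf 0))) (.node (.node (.leaf 1375) (.leaf 0)) (.node (.leaf 130830) (.leaf 0))))) (.node (.node (.node (.node (.leaf 124387) (.leaf 70951)) (.node (.leaf 3533) (.leaf 0))) (.node (.node (.leaf 47996) (.leaf 0)) (.node (.leaf 9434) (.leaf 0)))) (.node (.node (.node (.leaf 64702) (.leaf 119728)) (.node (.leaf 123843) (.leaf 0))) (.node (.node (.leaf 93151) (.leaf 0)) (.node (.leaf 9165) (.leaf 0))))))) (.node (.node (.node (.node (.node (.node (.leaf 44988) (.leaf 45293)) (.node (.leaf 13253) (.leaf 0))) (.node (.node (.leaf 30911) (.leaf 0)) (.node (.leaf 42854) (.leaf 0)))) (.node (.node (.node (.leaf 120776) (.leaf 75647)) (.node (.leaf 103196) (.leaf 0))) (.node (.node (.leaf 61616) (.leaf 0)) (.node (.leaf 63948) (.leaf 0))))) (.node (.node (.node (.node (.leaf 101183) (.leaf 64760)) (.node (.leaf 62173) (.leaf 0))) (.node (.node (.leaf 120149) (.leaf 0)) (.node (.leaf 64648) (.leaf 0)))) (.node (.node (.node (.leaf 53940) (.leaf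 111970)) (.node (.leaf 12107) (.leaf 0))) (.node (.node (.leaf 23375) (.leaf 0)) (.node (.leaf 35082) (.leaf 0)))))) (.node (.node (.node (.node (.node (.leaf 112959) (.leaf 96231)) (.node (.leaf 61062) (.leaf 0))) (.node (.node (.leaf 102350) (.leaf 0)) (.node (.leaf 21673) (.leaf 0)))) (.node (.node (.node (.leaf 50837) (.leaf 122327)) (.node (.leaf 19264) (.leaf 0))) (.node (.node (.leaf 9452) (.leaf 0)) (.node (.leaf 18138) (.leaf 0))))) (.node (.node (.node (.node (.leaf 120579) (.leaf 128829)) (.node (.leaf 87347) (.leaf 0))) (.node (.node (.leaf 69995) (.leaf 0)) (.node (.leaf 46755) (.leaf 0)))) (.node (.node (.node (.leaf 112127) (.leaf 124861)) (.node (.leaf 13777) (.leaf 0))) (.node (.node (.leaf 82723) (.leaf 0)) (.node (.leaf 40333) (.leaf 0)))))))) (.node (.node (.node (.node (.node (.node (.node (.leaf 116607) (.leaf 67035)) (.node (.leaf 107854) (.leaf 0))) (.node (.node (.leaf 74083) (.leaf 0)) (.node (.leaf 3053) (.leaf 0)))) (.node (.node (.node (.leaf 18513) (.leaf 87298)) (.node (.leaf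 85984) (.leaf 0))) (.node (.node (.leaf 22407) (.leaf 0)) (.node (.leaf 30988) (.leaf 0))))) (.node (.node (.node (.node (.leaf 52386) (.leaf 3300)) (.node (.leaf 56170) (.leaf 0))) (.node (.node (.leaf 98721) (.leaf 0)) (.node (.leaf 68023) (.leaf 0)))) (.node (.node (.node (.leaf 59362) (.leaf 2439)) (.node (.leaf 10402) (.leaf 0))) (.node (.node (.leaf 106300) (.leaf 0)) (.node (.leaf 101655) (.leaf 0)))))) (.node (.node (.node (.node (.node (.leaf 15685) (.leaf 101228)) (.node (.leaf 91015) (.leaf 0))) (.node (.node (.leaf 64921) (.leaf 0)) (.node (.leaf 7347) (.leaf 0)))) (.node (.node (.node (.leaf 25072) (.leaf 64971)) (.node (.leaf 63761) (.leaf 0))) (.node (.node (.leaf 6415) (.leaf 0)) (.node (.leaf 37867) (.leaf 0))))) (.node (.node (.node (.node (.leaf 74567) (.leaf 14559)) (.node (.leaf 32068) (.leaf 0))) (.node (.node (.leaf 16353) (.leaf 0)) (.node (.leaf 60565) (.leaf 0)))) (.node (.node (.node (.leaf 95516) (.leaf 105799)) (.node (.leaf 102295) (.leaf 0))) (.node (.node (.leaf 79133) (.leaf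 0)) (.node (.leaf 86496) (.leaf 0))))))) (.node (.node (.node (.node (.node (.node (.leaf 13550) (.leaf 22770)) (.node (.leaf 2157) (.leaf 0))) (.node (.node (.leaf 71142) (.leaf 0)) (.node (.leaf 1889) (.leaf 0)))) (.node (.node (.node (.leaf 17715) (.leaf 104862)) (.node (.leaf 18046) (.leaf 0))) (.node (.node (.leaf 33438) (.leaf 0)) (.node (.leaf 93617) (.leaf 0))))) (.node (.node (.node (.node (.leaf 1864) (.leaf 32988)) (.node (.leaf 17068) (.leaf 0))) (.node (.node (.leaf 15402) (.leaf 0)) (.node (.leaf 5017) (.leaf 0)))) (.node (.node (.node (.leaf 62406) (.leaf 85899)) (.node (.leaf 24490) (.leaf 0))) (.node (.node (.leaf 68506) (.leaf 0)) (.node (.leaf 103408) (.leaf 0)))))) (.node (.node (.node (.node (.node (.leaf 127918) (.leaf 30930)) (.node (.leaf 27969) (.leaf 0))) (.node (.node (.leaf 129523) (.leaf 0)) (.node (.leaf 130335) (.leaf 0)))) (.node (.node (.node (.leaf 119272) (.leaf 119659)) (.node (.leaf 37311) (.leaf 0))) (.node (.node (.leaf 23896) (.leaf 0)) (.node (.leaf 29664) (.leaf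 0))))) (.node (.node (.node (.node (.leaf 58663) (.leaf 125263)) (.node (.leaf 38694) (.leaf 0))) (.node (.node (.leaf 60744) (.leaf 0)) (.node (.leaf 62856) (.leaf 0)))) (.node (.node (.node (.leaf 47577) (.leaf 113451)) (.node (.leaf 78683) (.leaf 0))) (.node (.node (.leaf 100637) (.leaf 0)) (.node (.leaf 130959) (.leaf 0))))))))

def kT120 : NT := .node (.node (.node (.node (.node (.node (.node (.node (.leaf 59280) (.leaf 43768)) (.node (.leaf 64435) (.leaf 0))) (.node (.node (.leaf 74629) (.leaf 0)) (.node (.leaf 97146) (.leaf 0)))) (.node (.node (.node (.leaf 113944) (.leaf 29115)) (.node (.leaf 74679) (.leaf 0))) (.node (.node (.leaf 18632) (.leaf 0)) (.node (.leaf 73665) (.leaf 0))))) (.node (.node (.node (.node (.leaf 19532) (.leaf 131066)) (.node (.leaf 45355) (.leaf 0))) (.node (.node (.leaf 20088) (.leaf 0)) (.node (.leaf 38584) (.leaf 0)))) (.node (.node (.node (.leaf 18356) (.leaf 81387)) (.node (.leaf 8276) (.leaf 0))) (.node (.node (.leaf 62729) (.leaf 0)) (.node (.leaf 44374) (.leaf 0))))))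 (.node (.node (.node (.node (.node (.leaf 9553) (.leaf 106943)) (.node (.leaf 60035) (.leaf 0))) (.node (.node (.leaf 75679) (.leaf 0)) (.node (.leaf 80236) (.leaf 0)))) (.node (.node (.node (.leaf 58277) (.leaf 59803)) (.node (.leaf 43148) (.leaf 0))) (.node (.node (.leaf 34633) (.leaf 0)) (.node (.leaf 117174) (.leaf 0))))) (.node (.node (.node (.node (.leaf 34729) (.leaf 97672)) (.node (.leaf 12739) (.leaf 0))) (.node (.node (.leaf 63201) (.leaf 0)) (.node (.leaf 23871) (.leaf 0)))) (.node (.node (.node (.leaf 59019) (.leaf 76168)) (.node (.leaf 11574) (.leaf 0))) (.node (.node (.leaf 34748) (.leaf 0)) (.node (.leaf 31228) (.leaf 0))))))) (.node (.node (.node (.node (.node (.node (.leaf 68997) (.leaf 108908)) (.node (.leaf 7519) (.leaf 0))) (.node (.node (.leaf 125857) (.leaf 0)) (.node (.leaf 59829) (.leaf 0)))) (.node (.node (.node (.leaf 66977) (.leaf 2357)) (.node (.leaf 27559) (.leaf 0))) (.node (.node (.leaf 12550) (.leaf 0)) (.node (.leaf 64878) (.leaf 0))))) (.node (.node (.node (.node (.leaf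 48314) (.leaf 88526)) (.node (.leaf 59893) (.leaf 0))) (.node (.node (.leaf 130818) (.leaf 0)) (.node (.leaf 101232) (.leaf 0)))) (.node (.node (.node (.leaf 113600) (.leaf 11229)) (.node (.leaf 58699) (.leaf 0))) (.node (.node (.leaf 129875) (.leaf 0)) (.node (.leaf 6764) (.leaf 0)))))) (.node (.node (.node (.node (.node (.leaf 80209) (.leaf 29335)) (.node (.leaf 20918) (.leaf 0))) (.node (.node (.leaf 43817) (.leaf 0)) (.node (.leaf 70952) (.leaf 0)))) (.node (.node (.node (.leaf 33730) (.leaf 12210)) (.node (.leaf 1276) (.leaf 0))) (.node (.node (.leaf 33037) (.leaf 0)) (.node (.leaf 100673) (.leaf 0))))) (.node (.node (.node (.node (.leaf 28516) (.leaf 101271)) (.node (.leaf 21687) (.leaf 0))) (.node (.node (.leaf 106241) (.leaf 0)) (.node (.leaf 13883) (.leaf 0)))) (.node (.node (.node (.leaf 118111) (.leaf 124846)) (.node (.leaf 91475) (.leaf 0))) (.node (.node (.leaf 128876) (.leaf 0)) (.node (.leaf 11663) (.leaf 0)))))))) (.node (.node (.node (.node (.node (.node (.node (.leaf 71109) (.leaf 112623))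 (.node (.leaf 56275) (.leaf 0))) (.node (.node (.leaf 89408) (.leaf 0)) (.node (.leaf 112076) (.leaf 0)))) (.node (.node (.node (.leaf 8294) (.leaf 6908)) (.node (.leaf 111563) (.leaf 0))) (.node (.node (.leaf 56755) (.leaf 0)) (.node (.leaf 7191) (.leaf 0))))) (.node (.node (.node (.node (.leaf 125275) (.leaf 49481)) (.node (.leaf 2377) (.leaf 0))) (.node (.node (.leaf 95654) (.leaf 0)) (.node (.leaf 130939) (.leaf 0)))) (.node (.node (.node (.leaf 74187) (.leaf 273)) (.node (.leaf 130006) (.leaf 0))) (.node (.node (.leaf 5846) (.leaf 0)) (.node (.leaf 17315) (.leaf 0)))))) (.node (.node (.node (.node (.node (.leaf 44468) (.leaf 80243)) (.node (.leaf 102727) (.leaf 0))) (.node (.node (.leaf 79164) (.leaf 0)) (.node (.leaf 106766) (.leaf 0)))) (.node (.node (.node (.leaf 127466) (.leaf 45430)) (.node (.leaf 74744) (.leaf 0))) (.node (.node (.leaf 99302) (.leaf 0)) (.node (.leaf 108485) (.leaf 0))))) (.node (.node (.node (.node (.leaf 98728) (.leaf 79705)) (.node (.leaf 5954) (.leaf 0))) (.node (.node (.leaf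 68378) (.leaf 0)) (.node (.leaf 57682) (.leaf 0)))) (.node (.node (.node (.leaf 75758) (.leaf 97231)) (.node (.leaf 44027) (.leaf 0))) (.node (.node (.leaf 8983) (.leaf 0)) (.node (.leaf 5149) (.leaf 0))))))) (.node (.node (.node (.node (.node (.node (.leaf 38081) (.leaf 24301)) (.node (.leaf 90514) (.leaf 0))) (.node (.node (.leaf 9716) (.leaf 0)) (.node (.leaf 4398) (.leaf 0)))) (.node (.node (.node (.leaf 12531) (.leaf 57703)) (.node (.leaf 120270) (.leaf 0))) (.node (.node (.leaf 39385) (.leaf 0)) (.node (.leaf 29480) (.leaf 0))))) (.node (.node (.node (.node (.leaf 4467) (.leaf 24180)) (.node (.leaf 13616) (.leaf 0))) (.node (.node (.leaf 75047) (.leaf 0)) (.node (.leaf 103223) (.leaf 0)))) (.node (.node (.node (.leaf 129914) (.leaf 94598)) (.node (.leaf 41198) (.leaf 0))) (.node (.node (.leaf 46359) (.leaf 0)) (.node (.leaf 79310) (.leaf 0)))))) (.node (.node (.node (.node (.node (.leaf 30278) (.leaf 13037)) (.node (.leaf 83293) (.leaf 0))) (.node (.node (.leaf 92616) (.leaf 0)) (.node (.leaf 22658)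 (.leaf 0)))) (.node (.node (.node (.leaf 98706) (.leaf 117759)) (.node (.leaf 97558) (.leaf 0))) (.node (.node (.leaf 32721) (.leaf 0)) (.node (.leaf 18582) (.leaf 0))))) (.node (.node (.node (.node (.leaf 88904) (.leaf 53545)) (.node (.leaf 98694) (.leaf 0))) (.node (.node (.leaf 4817) (.leaf 0)) (.node (.leaf 124735) (.leaf 0)))) (.node (.node (.node (.leaf 8248) (.leaf 113471)) (.node (.leaf 19609) (.leaf 0))) (.node (.node (.leaf 12124) (.leaf 0)) (.node (.leaf 10806) (.leaf 0))))))))

def kT121 : NT := .node (.node (.node (.node (.node (.node (.node (.node (.leaf 74505) (.leaf 62887)) (.node (.leaf 10483) (.leaf 0))) (.node (.node (.leaf 16665) (.leaf 0)) (.node (.leaf 1134) (.leaf 0)))) (.node (.node (.node (.leaf 89492) (.leaf 50119)) (.node (.leaf 23035) (.leaf 0))) (.node (.node (.leaf 94543) (.leaf 0)) (.node (.leaf 12228) (.leaf 0))))) (.node (.node (.node (.node (.leaf 46429) (.leaf 111894)) (.node (.leaf 98758) (.leaf 0))) (.node (.node (.leaf 26044) (.leaf 0)) (.node (.leaf 20626) (.leaf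 0)))) (.node (.node (.node (.leaf 45562) (.leaf 99202)) (.node (.leaf 129507) (.leaf 0))) (.node (.node (.leaf 33543) (.leaf 0)) (.node (.leaf 127449) (.leaf 0)))))) (.node (.node (.node (.node (.node (.leaf 22797) (.leaf 84754)) (.node (.leaf 24181) (.leaf 0))) (.node (.node (.leaf 56962) (.leaf 0)) (.node (.leaf 5245) (.leaf 0)))) (.node (.node (.node (.leaf 72457) (.leaf 81668)) (.node (.leaf 32108) (.leaf 0))) (.node (.node (.leaf 29655) (.leaf 0)) (.node (.leaf 45338) (.leaf 0))))) (.node (.node (.node (.node (.leaf 30316) (.leaf 25281)) (.node (.leaf 71460) (.leaf 0))) (.node (.node (.leaf 127958) (.leaf 0)) (.node (.leaf 26725) (.leaf 0)))) (.node (.node (.node (.leaf 37153) (.leaf 87955)) (.node (.leaf 4382) (.leaf 0))) (.node (.node (.leaf 73999) (.leaf 0)) (.node (.leaf 17845) (.leaf 0))))))) (.node (.node (.node (.node (.node (.node (.leaf 55754) (.leaf 66968)) (.node (.leaf 81303) (.leaf 0))) (.node (.node (.leaf 61421) (.leaf 0)) (.node (.leaf 73727) (.leaf 0)))) (.node (.node (.node (.leaf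 97226) (.leaf 13661)) (.node (.leaf 15191) (.leaf 0))) (.node (.node (.leaf 64422) (.leaf 0)) (.node (.leaf 46797) (.leaf 0))))) (.node (.node (.node (.node (.leaf 27485) (.leaf 8032)) (.node (.leaf 16275) (.leaf 0))) (.node (.node (.leaf 128335) (.leaf 0)) (.node (.leaf 9700) (.leaf 0)))) (.node (.node (.node (.leaf 40097) (.leaf 68460)) (.node (.leaf 40140) (.leaf 0))) (.node (.node (.leaf 75629) (.leaf 0)) (.node (.leaf 9292) (.leaf 0)))))) (.node (.node (.node (.node (.node (.leaf 42118) (.leaf 70104)) (.node (.leaf 3213) (.leaf 0))) (.node (.node (.leaf 62399) (.leaf 0)) (.node (.leaf 22892) (.leaf 0)))) (.node (.node (.node (.leaf 125825) (.leaf 90585)) (.node (.leaf 46491) (.leaf 0))) (.node (.node (.leaf 34982) (.leaf 0)) (.node (.leaf 31172) (.leaf 0))))) (.node (.node (.node (.node (.leaf 111435) (.leaf 2161)) (.node (.leaf 128418) (.leaf 0))) (.node (.node (.leaf 48449) (.leaf 0)) (.node (.leaf 12891) (.leaf 0)))) (.node (.node (.node (.leaf 94132) (.leaf 38798)) (.node (.leaf 57788) (.leaf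 0))) (.node (.node (.leaf 21470) (.leaf 0)) (.node (.leaf 47050) (.leaf 0)))))))) (.node (.node (.node (.node (.node (.node (.node (.leaf 26623) (.leaf 13881)) (.node (.leaf 115513) (.leaf 0))) (.node (.node (.leaf 1379) (.leaf 0)) (.node (.leaf 25369) (.leaf 0)))) (.node (.node (.node (.leaf 78239) (.leaf 91527)) (.node (.leaf 9883) (.leaf 0))) (.node (.node (.leaf 79704) (.leaf 0)) (.node (.leaf 113117) (.leaf 0))))) (.node (.node (.node (.node (.leaf 47746) (.leaf 8586)) (.node (.leaf 96057) (.leaf 0))) (.node (.node (.leaf 127912) (.leaf 0)) (.node (.leaf 65487) (.leaf 0)))) (.node (.node (.node (.leaf 108378) (.leaf 38106)) (.node (.leaf 131047) (.leaf 0))) (.node (.node (.leaf 50538) (.leaf 0)) (.node (.leaf 2746) (.leaf 0)))))) (.node (.node (.node (.node (.node (.leaf 2673) (.leaf 86817)) (.node (.leaf 127872) (.leaf 0))) (.node (.node (.leaf 55646) (.leaf 0)) (.node (.leaf 41807) (.leaf 0)))) (.node (.node (.node (.leaf 112595) (.leaf 37020)) (.node (.leaf 22808) (.leaf 0))) (.node (.node (.leaf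 118658) (.leaf 0)) (.node (.leaf 23983) (.leaf 0))))) (.node (.node (.node (.node (.leaf 23905) (.leaf 95041)) (.node (.leaf 64328) (.leaf 0))) (.node (.node (.leaf 50831) (.leaf 0)) (.node (.leaf 930) (.leaf 0)))) (.node (.node (.node (.leaf 10878) (.leaf 37736)) (.node (.leaf 103825) (.leaf 0))) (.node (.node (.leaf 49584) (.leaf 0)) (.node (.leaf 5786) (.leaf 0))))))) (.node (.node (.node (.node (.node (.node (.leaf 64792) (.leaf 36137)) (.node (.leaf 796) (.leaf 0))) (.node (.node (.leaf 100713) (.leaf 0)) (.node (.leaf 77580) (.leaf 0)))) (.node (.node (.node (.leaf 24453) (.leaf 62811)) (.node (.leaf 98161) (.leaf 0))) (.node (.node (.leaf 23127) (.leaf 0)) (.node (.leaf 32982) (.leaf 0))))) (.node (.node (.node (.node (.leaf 32524) (.leaf 61589)) (.node (.leaf 31649) (.leaf 0))) (.node (.node (.leaf 120822) (.leaf 0)) (.node (.leaf 68558) (.leaf 0)))) (.node (.node (.node (.leaf 3368) (.leaf 82892)) (.node (.leaf 59140) (.leaf 0))) (.node (.node (.leaf 22173) (.leaf 0)) (.node (.leaf 36318) (.leaf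 0)))))) (.node (.node (.node (.node (.node (.leaf 56106) (.leaf 122137)) (.node (.leaf 97102) (.leaf 0))) (.node (.node (.leaf 103253) (.leaf 0)) (.node (.leaf 24063) (.leaf 0)))) (.node (.node (.node (.leaf 118598) (.leaf 97755)) (.node (.leaf 31484) (.leaf 0))) (.node (.node (.leaf 63738) (.leaf 0)) (.node (.leaf 7086) (.leaf 0))))) (.node (.node (.node (.node (.leaf 69416) (.leaf 10371)) (.node (.leaf 125291) (.leaf 0))) (.node (.node (.leaf 23890) (.leaf 0)) (.node (.leaf 52033) (.leaf 0)))) (.node (.node (.node (.leaf 62652) (.leaf 37367)) (.node (.leaf 72570) (.leaf 0))) (.node (.node (.leaf 116110) (.leaf 0)) (.node (.leaf 13069) (.leaf 0))))))))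

def kT122 : NT := .node (.node (.node (.node (.node (.node (.node (.node (.leaf 54582) (.leaf 32247)) (.node (.leaf 99216) (.leaf 0))) (.node (.node (.leaf 6352) (.leaf 0)) (.node (.leaf 114161) (.leaf 0)))) (.node (.node (.node (.leaf 46296) (.leaf 28988)) (.node (.leaf 19766) (.leaf 0))) (.node (.node (.leaf 122815) (.leaf 0)) (.node (.leaf 93989) (.leaf 0))))) (.node (.node (.node (.node (.leaf 39629) (.leaf 63330)) (.node (.leaf 31861) (.leaf 0))) (.node (.node (.leaf 98603) (.leaf 0)) (.node (.leaf 5463) (.leaf 0)))) (.node (.node (.node (.leaf 131032) (.leaf 68869)) (.node (.leaf 70019) (.leaf 0))) (.node (.node (.leaf 120735) (.leaf 0)) (.node (.leaf 56624) (.leaf 0)))))) (.node (.node (.node (.node (.node (.leaf 114992) (.leaf 127399)) (.node (.leaf 35173) (.leaf 0))) (.node (.node (.leaf 112473) (.leaf 0)) (.node (.leaf 90372) (.leaf 0)))) (.node (.node (.node (.leaf 60663) (.leaf 4757)) (.node (.leaf 17873) (.leaf 0))) (.node (.node (.leaf 106931) (.leaf 0)) (.node (.leaf 88974) (.leaf 0)))))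 (.node (.node (.node (.node (.leaf 126908) (.leaf 63123)) (.node (.leaf 54567) (.leaf 0))) (.node (.node (.leaf 56451) (.leaf 0)) (.node (.leaf 5177) (.leaf 0)))) (.node (.node (.node (.leaf 49353) (.leaf 32754)) (.node (.leaf 40748) (.leaf 0))) (.node (.node (.leaf 7704) (.leaf 0)) (.node (.leaf 38844) (.leaf 0))))))) (.node (.node (.node (.node (.node (.node (.leaf 10279) (.leaf 90097)) (.node (.leaf 46494) (.leaf 0))) (.node (.node (.leaf 48411) (.leaf 0)) (.node (.leaf 6945) (.leaf 0)))) (.node (.node (.node (.leaf 49524) (.leaf 7715)) (.node (.leaf 39067) (.leaf 0))) (.node (.node (.leaf 118215) (.leaf 0)) (.node (.leaf 42113) (.leaf 0))))) (.node (.node (.node (.node (.leaf 49992) (.leaf 68383)) (.node (.leaf 8672) (.leaf 0))) (.node (.node (.leaf 70050) (.leaf 0)) (.node (.leaf 75533) (.leaf 0)))) (.node (.node (.node (.leaf 11157) (.leaf 34141)) (.node (.leaf 90532) (.leaf 0))) (.node (.node (.leaf 120272) (.leaf 0)) (.node (.leaf 119246) (.leaf 0)))))) (.node (.node (.node (.node (.node (.leaf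 105805) (.leaf 127233)) (.node (.leaf 8104) (.leaf 0))) (.node (.node (.leaf 78321) (.leaf 0)) (.node (.leaf 9519) (.leaf 0)))) (.node (.node (.node (.leaf 77694) (.leaf 56690)) (.node (.leaf 34487) (.leaf 0))) (.node (.node (.leaf 116617) (.leaf 0)) (.node (.leaf 9362) (.leaf 0))))) (.node (.node (.node (.node (.leaf 17364) (.leaf 5583)) (.node (.leaf 121768) (.leaf 0))) (.node (.node (.leaf 29556) (.leaf 0)) (.node (.leaf 12287) (.leaf 0)))) (.node (.node (.node (.leaf 53520) (.leaf 9972)) (.node (.leaf 98596) (.leaf 0))) (.node (.node (.leaf 94079) (.leaf 0)) (.node (.leaf 56723) (.leaf 0)))))))) (.node (.node (.node (.node (.node (.node (.node (.leaf 108863) (.leaf 36507)) (.node (.leaf 16462) (.leaf 0))) (.node (.node (.leaf 91466) (.leaf 0)) (.node (.leaf 58010) (.leaf 0)))) (.node (.node (.node (.leaf 82710) (.leaf 106359)) (.node (.leaf 128940) (.leaf 0))) (.node (.node (.leaf 76785) (.leaf 0)) (.node (.leaf 30518) (.leaf 0))))) (.node (.node (.node (.node (.leaf 130884) (.leaf 4395)) (.node (.leaf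 38882) (.leaf 0))) (.node (.node (.leaf 20720) (.leaf 0)) (.node (.leaf 63437) (.leaf 0)))) (.node (.node (.node (.leaf 130425) (.leaf 1031)) (.node (.leaf 27022) (.leaf 0))) (.node (.node (.leaf 5189) (.leaf 0)) (.node (.leaf 9432) (.leaf 0)))))) (.node (.node (.node (.node (.node (.leaf 61670) (.leaf 37151)) (.node (.leaf 22301) (.leaf 0))) (.node (.node (.leaf 51060) (.leaf 0)) (.node (.leaf 591) (.leaf 0)))) (.node (.node (.node (.leaf 58027) (.leaf 65879)) (.node (.leaf 57030) (.leaf 0))) (.node (.node (.leaf 54764) (.leaf 0)) (.node (.leaf 64919) (.leaf 0))))) (.node (.node (.node (.node (.leaf 84887) (.leaf 88338)) (.node (.leaf 5039) (.leaf 0))) (.node (.node (.leaf 14178) (.leaf 0)) (.node (.leaf 29061) (.leaf 0)))) (.node (.node (.node (.leaf 59189) (.leaf 58606)) (.node (.leaf 48372) (.leaf 0))) (.node (.node (.leaf 35100) (.leaf 0)) (.node (.leaf 28130) (.leaf 0))))))) (.node (.node (.node (.node (.node (.node (.leaf 65504) (.leaf 24032)) (.node (.leaf 24935) (.leaf 0))) (.node (.node (.leaf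 44251) (.leaf 0)) (.node (.leaf 56315) (.leaf 0)))) (.node (.node (.node (.leaf 84360) (.leaf 96125)) (.node (.leaf 75045) (.leaf 0))) (.node (.node (.leaf 30815) (.leaf 0)) (.node (.leaf 5053) (.leaf 0))))) (.node (.node (.node (.node (.leaf 59646) (.leaf 20094)) (.node (.leaf 19967) (.leaf 0))) (.node (.node (.leaf 93605) (.leaf 0)) (.node (.leaf 52879) (.leaf 0)))) (.node (.node (.node (.leaf 3483) (.leaf 43729)) (.node (.leaf 20815) (.leaf 0))) (.node (.node (.leaf 58813) (.leaf 0)) (.node (.leaf 22773) (.leaf 0)))))) (.node (.node (.node (.node (.node (.leaf 33513) (.leaf 66936)) (.node (.leaf 62877) (.leaf 0))) (.node (.node (.leaf 30899) (.leaf 0)) (.node (.leaf 72452) (.leaf 0)))) (.node (.node (.node (.leaf 10131) (.leaf 2556)) (.node (.leaf 69941) (.leaf 0))) (.node (.node (.leaf 72504) (.leaf 0)) (.node (.leaf 125771) (.leaf 0))))) (.node (.node (.node (.node (.leaf 3099) (.leaf 63192)) (.node (.leaf 97607) (.leaf 0))) (.node (.node (.leaf 4941) (.leaf 0)) (.node (.leaf 90023) (.leaf 0)))) (.node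 (.node (.node (.leaf 107792) (.leaf 65527)) (.node (.leaf 108502) (.leaf 0))) (.node (.node (.leaf 102163) (.leaf 0)) (.node (.leaf 35644) (.leaf 0))))))))

def kT123 : NT := .node (.node (.node (.node (.node (.node (.node (.node (.leaf 40907) (.leaf 1417)) (.node (.leaf 62245) (.leaf 0))) (.node (.node (.leaf 37131) (.leaf 0)) (.node (.leaf 51371) (.leaf 0)))) (.node (.node (.node (.leaf 91107) (.leaf 78087)) (.node (.leaf 48005) (.leaf 0))) (.node (.node (.leaf 41421) (.leaf 0)) (.node (.leaf 88407) (.leaf 0))))) (.node (.node (.node (.node (.leaf 42160) (.leaf 229)) (.node (.leaf 116612) (.leaf 0))) (.node (.node (.leaf 89520) (.leaf 0)) (.node (.leaf 18096) (.leaf 0)))) (.node (.node (.node (.leaf 82943) (.leaf 120193)) (.node (.leaf 89435) (.leaf 0))) (.node (.node (.leaf 59277) (.leaf 0)) (.node (.leaf 113094) (.leaf 0)))))) (.node (.node (.node (.node (.node (.leaf 45313) (.leaf 15109)) (.node (.leaf 3240) (.leaf 0))) (.node (.node (.leaf 21144) (.leaf 0)) (.node (.leaf 27780) (.leaf 0)))) (.node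 (.node (.node (.leaf 63912) (.leaf 60800)) (.node (.leaf 45413) (.leaf 0))) (.node (.node (.leaf 20404) (.leaf 0)) (.node (.leaf 5482) (.leaf 0))))) (.node (.node (.node (.node (.leaf 98613) (.leaf 43709)) (.node (.leaf 4781) (.leaf 0))) (.node (.node (.leaf 83276) (.leaf 0)) (.node (.leaf 5852) (.leaf 0)))) (.node (.node (.node (.leaf 30076) (.leaf 34753)) (.node (.leaf 122774) (.leaf 0))) (.node (.node (.leaf 121836) (.leaf 0)) (.node (.leaf 22764) (.leaf 0))))))) (.node (.node (.node (.node (.node (.node (.leaf 60577) (.leaf 34670)) (.node (.leaf 69422) (.leaf 0))) (.node (.node (.leaf 67011) (.leaf 0)) (.node (.leaf 17618) (.leaf 0)))) (.node (.node (.node (.leaf 25718) (.leaf 123871)) (.node (.leaf 56255) (.leaf 0))) (.node (.node (.leaf 130439) (.leaf 0)) (.node (.leaf 4763) (.leaf 0))))) (.node (.node (.node (.node (.leaf 127951) (.leaf 125937)) (.node (.leaf 125272) (.leaf 0))) (.node (.node (.leaf 5872) (.leaf 0)) (.node (.leaf 21265) (.leaf 0)))) (.node (.node (.node (.leaf 120638) (.leaf 21953))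 (.node (.leaf 60762) (.leaf 0))) (.node (.node (.leaf 85771) (.leaf 0)) (.node (.leaf 16060) (.leaf 0)))))) (.node (.node (.node (.node (.node (.leaf 86401) (.leaf 50526)) (.node (.leaf 44769) (.leaf 0))) (.node (.node (.leaf 9631) (.leaf 0)) (.node (.leaf 43844) (.leaf 0)))) (.node (.node (.node (.leaf 29572) (.leaf 29921)) (.node (.leaf 20208) (.leaf 0))) (.node (.node (.leaf 8616) (.leaf 0)) (.node (.leaf 20742) (.leaf 0))))) (.node (.node (.node (.node (.leaf 67006) (.leaf 3609)) (.node (.leaf 12528) (.leaf 0))) (.node (.node (.leaf 125707) (.leaf 0)) (.node (.leaf 14282) (.leaf 0)))) (.node (.node (.node (.leaf 40364) (.leaf 63344)) (.node (.leaf 5389) (.leaf 0))) (.node (.node (.leaf 59797) (.leaf 0)) (.node (.leaf 23538) (.leaf 0)))))))) (.node (.node (.node (.node (.node (.node (.node (.leaf 66823) (.leaf 72026)) (.node (.leaf 27087) (.leaf 0))) (.node (.node (.leaf 25593) (.leaf 0)) (.node (.leaf 43913) (.leaf 0)))) (.node (.node (.node (.leaf 31495) (.leaf 93058)) (.node (.leaf 21344) (.leaf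 0))) (.node (.node (.leaf 35499) (.leaf 0)) (.node (.leaf 34502) (.leaf 0))))) (.node (.node (.node (.node (.leaf 63438) (.leaf 33079)) (.node (.leaf 89985) (.leaf 0))) (.node (.node (.leaf 95602) (.leaf 0)) (.node (.leaf 48257) (.leaf 0)))) (.node (.node (.node (.leaf 44681) (.leaf 50457)) (.node (.leaf 81257) (.leaf 0))) (.node (.node (.leaf 19728) (.leaf 0)) (.node (.leaf 35690) (.leaf 0)))))) (.node (.node (.node (.node (.node (.leaf 55985) (.leaf 126856)) (.node (.leaf 25457) (.leaf 0))) (.node (.node (.leaf 67929) (.leaf 0)) (.node (.leaf 62796) (.leaf 0)))) (.node (.node (.node (.leaf 81291) (.leaf 102288)) (.node (.leaf 129895) (.leaf 0))) (.node (.node (.leaf 4974) (.leaf 0)) (.node (.leaf 65469) (.leaf 0))))) (.node (.node (.node (.node (.leaf 24682) (.leaf 40099)) (.node (.leaf 12135) (.leaf 0))) (.node (.node (.leaf 45868) (.leaf 0)) (.node (.leaf 64446) (.leaf 0)))) (.node (.node (.node (.leaf 70533) (.leaf 56800)) (.node (.leaf 27278) (.leaf 0))) (.node (.node (.leaf 50395) (.leaf 0)) (.node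 (.leaf 63155) (.leaf 0))))))) (.node (.node (.node (.node (.node (.node (.leaf 39698) (.leaf 111098)) (.node (.leaf 83785) (.leaf 0))) (.node (.node (.leaf 102778) (.leaf 0)) (.node (.leaf 5456) (.leaf 0)))) (.node (.node (.node (.leaf 40618) (.leaf 32061)) (.node (.leaf 16044) (.leaf 0))) (.node (.node (.leaf 29957) (.leaf 0)) (.node (.leaf 101744) (.leaf 0))))) (.node (.node (.node (.node (.leaf 31877) (.leaf 120206)) (.node (.leaf 12643) (.leaf 0))) (.node (.node (.leaf 12269) (.leaf 0)) (.node (.leaf 12957) (.leaf 0)))) (.node (.node (.node (.leaf 114677) (.leaf 44317)) (.node (.leaf 33007) (.leaf 0))) (.node (.node (.leaf 11237) (.leaf 0)) (.node (.leaf 109459) (.leaf 0)))))) (.node (.node (.node (.node (.node (.leaf 71610) (.leaf 127447)) (.node (.leaf 90099) (.leaf 0))) (.node (.node (.leaf 13948) (.leaf 0)) (.node (.leaf 11738) (.leaf 0)))) (.node (.node (.node (.leaf 20227) (.leaf 69908)) (.node (.leaf 123210) (.leaf 0))) (.node (.node (.leaf 41382) (.leaf 0)) (.node (.leaf 82871) (.leaf 0)))))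 (.node (.node (.node (.node (.leaf 22835) (.leaf 6488)) (.node (.leaf 50369) (.leaf 0))) (.node (.node (.leaf 86430) (.leaf 0)) (.node (.leaf 33192) (.leaf 0)))) (.node (.node (.node (.leaf 98133) (.leaf 43987)) (.node (.leaf 51909) (.leaf 0))) (.node (.node (.leaf 57725) (.leaf 0)) (.node (.leaf 106772) (.leaf 0))))))))

def kT124 : NT := .node (.node (.node (.node (.node (.node (.node (.node (.leaf 42791) (.leaf 38790)) (.node (.leaf 26776) (.leaf 0))) (.node (.node (.leaf 4407) (.leaf 0)) (.node (.leaf 34567) (.leaf 0)))) (.node (.node (.node (.leaf 13821) (.leaf 83860)) (.node (.leaf 67858) (.leaf 0))) (.node (.node (.leaf 37145) (.leaf 0)) (.node (.leaf 77116) (.leaf 0))))) (.node (.node (.node (.node (.leaf 27438) (.leaf 84925)) (.node (.leaf 77286) (.leaf 0))) (.node (.node (.leaf 85909) (.leaf 0)) (.node (.leaf 65913) (.leaf 0)))) (.node (.node (.node (.leaf 10974) (.leaf 7299)) (.node (.leaf 71668) (.leaf 0))) (.node (.node (.leaf 7092) (.leaf 0)) (.node (.leaf 26773) (.leaf 0)))))) (.node (.node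 (.node (.node (.node (.leaf 107944) (.leaf 43359)) (.node (.leaf 129323) (.leaf 0))) (.node (.node (.leaf 121331) (.leaf 0)) (.node (.leaf 14452) (.leaf 0)))) (.node (.node (.node (.leaf 28912) (.leaf 55938)) (.node (.leaf 13304) (.leaf 0))) (.node (.node (.leaf 100325) (.leaf 0)) (.node (.leaf 4680) (.leaf 0))))) (.node (.node (.node (.node (.leaf 85324) (.leaf 109041)) (.node (.leaf 111462) (.leaf 0))) (.node (.node (.leaf 89515) (.leaf 0)) (.node (.leaf 51937) (.leaf 0)))) (.node (.node (.node (.leaf 85490) (.leaf 114101)) (.node (.leaf 15250) (.leaf 0))) (.node (.node (.leaf 117184) (.leaf 0)) (.node (.leaf 127452) (.leaf 0))))))) (.node (.node (.node (.node (.node (.node (.leaf 70041) (.leaf 42653)) (.node (.leaf 20451) (.leaf 0))) (.node (.node (.leaf 126288) (.leaf 0)) (.node (.leaf 24176) (.leaf 0)))) (.node (.node (.node (.leaf 54451) (.leaf 114680)) (.node (.leaf 109472) (.leaf 0))) (.node (.node (.leaf 15058) (.leaf 0)) (.node (.leaf 56081) (.leaf 0))))) (.node (.node (.node (.node (.leaf 25198)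 (.leaf 24399)) (.node (.leaf 64144) (.leaf 0))) (.node (.node (.leaf 84807) (.leaf 0)) (.node (.leaf 75592) (.leaf 0)))) (.node (.node (.node (.leaf 58360) (.leaf 21202)) (.node (.leaf 72527) (.leaf 0))) (.node (.node (.leaf 15217) (.leaf 0)) (.node (.leaf 81360) (.leaf 0)))))) (.node (.node (.node (.node (.node (.leaf 41906) (.leaf 23518)) (.node (.leaf 19799) (.leaf 0))) (.node (.node (.leaf 23547) (.leaf 0)) (.node (.leaf 74052) (.leaf 0)))) (.node (.node (.node (.leaf 50817) (.leaf 5700)) (.node (.leaf 82776) (.leaf 0))) (.node (.node (.leaf 93466) (.leaf 0)) (.node (.leaf 33181) (.leaf 0))))) (.node (.node (.node (.node (.leaf 5369) (.leaf 100182)) (.node (.leaf 129419) (.leaf 0))) (.node (.node (.leaf 6626) (.leaf 0)) (.node (.leaf 9624) (.leaf 0)))) (.node (.node (.node (.leaf 7266) (.leaf 130895)) (.node (.leaf 29929) (.leaf 0))) (.node (.node (.leaf 114673) (.leaf 0)) (.node (.leaf 86822) (.leaf 0)))))))) (.node (.node (.node (.node (.node (.node (.node (.leaf 66528) (.leaf 49403)) (.node (.leaf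 21260) (.leaf 0))) (.node (.node (.leaf 56500) (.leaf 0)) (.node (.leaf 126939) (.leaf 0)))) (.node (.node (.node (.leaf 89069) (.leaf 40679)) (.node (.leaf 44680) (.leaf 0))) (.node (.node (.leaf 119245) (.leaf 0)) (.node (.leaf 123386) (.leaf 0))))) (.node (.node (.node (.node (.leaf 17263) (.leaf 11675)) (.node (.leaf 12415) (.leaf 0))) (.node (.node (.leaf 92439) (.leaf 0)) (.node (.leaf 63999) (.leaf 0)))) (.node (.node (.node (.leaf 46393) (.leaf 56144)) (.node (.leaf 99128) (.leaf 0))) (.node (.node (.leaf 25501) (.leaf 0)) (.node (.leaf 4169) (.leaf 0)))))) (.node (.node (.node (.node (.node (.leaf 77679) (.leaf 15636)) (.node (.leaf 7450) (.leaf 0))) (.node (.node (.leaf 78322) (.leaf 0)) (.node (.leaf 99687) (.leaf 0)))) (.node (.node (.node (.leaf 66535) (.leaf 71522)) (.node (.leaf 83739) (.leaf 0))) (.node (.node (.leaf 68530) (.leaf 0)) (.node (.leaf 82795) (.leaf 0))))) (.node (.node (.node (.node (.leaf 2981) (.leaf 18398)) (.node (.leaf 52613) (.leaf 0))) (.node (.node (.leaf 21258) (.leaf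 0)) (.node (.leaf 37571) (.leaf 0)))) (.node (.node (.node (.leaf 46556) (.leaf 127433)) (.node (.leaf 54169) (.leaf 0))) (.node (.node (.leaf 12036) (.leaf 0)) (.node (.leaf 111486) (.leaf 0))))))) (.node (.node (.node (.node (.node (.node (.leaf 86507) (.leaf 129351)) (.node (.leaf 96669) (.leaf 0))) (.node (.node (.leaf 130473) (.leaf 0)) (.node (.leaf 4068) (.leaf 0)))) (.node (.node (.node (.leaf 45221) (.leaf 35816)) (.node (.leaf 25526) (.leaf 0))) (.node (.node (.leaf 72149) (.leaf 0)) (.node (.leaf 49393) (.leaf 0))))) (.node (.node (.node (.node (.leaf 85880) (.leaf 66420)) (.node (.leaf 76768) (.leaf 0))) (.node (.node (.leaf 12565) (.leaf 0)) (.node (.leaf 113148) (.leaf 0)))) (.node (.node (.node (.leaf 6143) (.leaf 26758)) (.node (.leaf 13119) (.leaf 0))) (.node (.node (.leaf 11546) (.leaf 0)) (.node (.leaf 55199) (.leaf 0)))))) (.node (.node (.node (.node (.node (.leaf 32359) (.leaf 128453)) (.node (.leaf 25533) (.leaf 0))) (.node (.node (.leaf 95502) (.leaf 0)) (.node (.leaf 19594) (.leaf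 0)))) (.node (.node (.node (.leaf 81906) (.leaf 19389)) (.node (.leaf 24152) (.leaf 0))) (.node (.node (.leaf 23459) (.leaf 0)) (.node (.leaf 61386) (.leaf 0))))) (.node (.node (.node (.node (.leaf 15653) (.leaf 91020)) (.node (.leaf 3681) (.leaf 0))) (.node (.node (.leaf 20931) (.leaf 0)) (.node (.leaf 81778) (.leaf 0)))) (.node (.node (.node (.leaf 128941) (.leaf 28329)) (.node (.leaf 2751) (.leaf 0))) (.node (.node (.leaf 87524) (.leaf 0)) (.node (.leaf 62766) (.leaf 0))))))))

def kT125 : NT := .node (.node (.node (.node (.node (.node (.node (.node (.leaf 61587) (.leaf 73033)) (.node (.leaf 47763) (.leaf 0))) (.node (.node (.leaf 29471) (.leaf 0)) (.node (.leaf 37542) (.leaf 0)))) (.node (.node (.node (.leaf 46049) (.leaf 12892)) (.node (.leaf 103217) (.leaf 0))) (.node (.node (.leaf 4246) (.leaf 0)) (.node (.leaf 23945) (.leaf 0))))) (.node (.node (.node (.node (.leaf 79690) (.leaf 18606)) (.node (.leaf 115667) (.leaf 0))) (.node (.node (.leaf 15292) (.leaf 0)) (.node (.leaf 7311) (.leaf 0)))) (.node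 (.node (.node (.leaf 100291) (.leaf 127396)) (.node (.leaf 100613) (.leaf 0))) (.node (.node (.leaf 21728) (.leaf 0)) (.node (.leaf 44321) (.leaf 0)))))) (.node (.node (.node (.node (.node (.leaf 29070) (.leaf 97611)) (.node (.leaf 84821) (.leaf 0))) (.node (.node (.leaf 18187) (.leaf 0)) (.node (.leaf 113458) (.leaf 0)))) (.node (.node (.node (.leaf 117595) (.leaf 8518)) (.node (.leaf 25998) (.leaf 0))) (.node (.node (.leaf 43479) (.leaf 0)) (.node (.leaf 46000) (.leaf 0))))) (.node (.node (.node (.node (.leaf 20306) (.leaf 87504)) (.node (.leaf 46503) (.leaf 0))) (.node (.node (.leaf 118055) (.leaf 0)) (.node (.leaf 49396) (.leaf 0)))) (.node (.node (.node (.leaf 61803) (.leaf 52065)) (.node (.leaf 5209) (.leaf 0))) (.node (.node (.leaf 5882) (.leaf 0)) (.node (.leaf 5668) (.leaf 0))))))) (.node (.node (.node (.node (.node (.node (.leaf 19307) (.leaf 46019)) (.node (.leaf 120707) (.leaf 0))) (.node (.node (.leaf 67490) (.leaf 0)) (.node (.leaf 90990) (.leaf 0)))) (.node (.node (.node (.leaf 22888) (.leaf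 118235)) (.node (.leaf 82214) (.leaf 0))) (.node (.node (.leaf 130369) (.leaf 0)) (.node (.leaf 47561) (.leaf 0))))) (.node (.node (.node (.node (.leaf 15547) (.leaf 35254)) (.node (.leaf 52036) (.leaf 0))) (.node (.node (.leaf 14499) (.leaf 0)) (.node (.leaf 92602) (.leaf 0)))) (.node (.node (.node (.leaf 35590) (.leaf 41127)) (.node (.leaf 44191) (.leaf 0))) (.node (.node (.leaf 60179) (.leaf 0)) (.node (.leaf 9671) (.leaf 0)))))) (.node (.node (.node (.node (.node (.leaf 84840) (.leaf 17819)) (.node (.leaf 68373) (.leaf 0))) (.node (.node (.leaf 57033) (.leaf 0)) (.node (.leaf 21829) (.leaf 0)))) (.node (.node (.node (.leaf 89043) (.leaf 130015)) (.node (.leaf 117010) (.leaf 0))) (.node (.node (.leaf 84371) (.leaf 0)) (.node (.leaf 16271) (.leaf 0))))) (.node (.node (.node (.node (.leaf 5730) (.leaf 51532)) (.node (.leaf 107320) (.leaf 0))) (.node (.node (.leaf 125733) (.leaf 0)) (.node (.leaf 55518) (.leaf 0)))) (.node (.node (.node (.leaf 8084) (.leaf 78658)) (.node (.leaf 72017) (.leaf 0))) (.node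 (.node (.leaf 51611) (.leaf 0)) (.node (.leaf 24942) (.leaf 0)))))))) (.node (.node (.node (.node (.node (.node (.node (.leaf 125304) (.leaf 85936)) (.node (.leaf 82288) (.leaf 0))) (.node (.node (.leaf 21423) (.leaf 0)) (.node (.leaf 16659) (.leaf 0)))) (.node (.node (.node (.leaf 33594) (.leaf 61402)) (.node (.leaf 53186) (.leaf 0))) (.node (.node (.leaf 61776) (.leaf 0)) (.node (.leaf 122877) (.leaf 0))))) (.node (.node (.node (.node (.leaf 122773) (.leaf 34136)) (.node (.leaf 119722) (.leaf 0))) (.node (.node (.leaf 43851) (.leaf 0)) (.node (.leaf 33996) (.leaf 0)))) (.node (.node (.node (.leaf 83329) (.leaf 120829)) (.node (.leaf 21313) (.leaf 0))) (.node (.node (.leaf 96116) (.leaf 0)) (.node (.leaf 31958) (.leaf 0)))))) (.node (.node (.node (.node (.node (.leaf 86804) (.leaf 28282)) (.node (.leaf 14242) (.leaf 0))) (.node (.node (.leaf 38162) (.leaf 0)) (.node (.leaf 44211) (.leaf 0)))) (.node (.node (.node (.leaf 43993) (.leaf 30367)) (.node (.leaf 60845) (.leaf 0))) (.node (.node (.leaf 116491)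 (.leaf 0)) (.node (.leaf 42375) (.leaf 0))))) (.node (.node (.node (.node (.leaf 106817) (.leaf 15027)) (.node (.leaf 44497) (.leaf 0))) (.node (.node (.leaf 47770) (.leaf 0)) (.node (.leaf 129906) (.leaf 0)))) (.node (.node (.node (.leaf 64483) (.leaf 74078)) (.node (.leaf 21332) (.leaf 0))) (.node (.node (.leaf 115138) (.leaf 0)) (.node (.leaf 9112) (.leaf 0))))))) (.node (.node (.node (.node (.node (.node (.leaf 87894) (.leaf 125902)) (.node (.leaf 33991) (.leaf 0))) (.node (.node (.leaf 10034) (.leaf 0)) (.node (.leaf 87523) (.leaf 0)))) (.node (.node (.node (.leaf 48571) (.leaf 3280)) (.node (.leaf 4590) (.leaf 0))) (.node (.node (.leaf 71119) (.leaf 0)) (.node (.leaf 87821) (.leaf 0))))) (.node (.node (.node (.node (.leaf 47086) (.leaf 130820)) (.node (.leaf 106362) (.leaf 0))) (.node (.node (.leaf 87881) (.leaf 0)) (.node (.leaf 14947) (.leaf 0)))) (.node (.node (.node (.leaf 36592) (.leaf 76589)) (.node (.leaf 49949) (.leaf 0))) (.node (.node (.leaf 83746) (.leaf 0)) (.node (.leaf 50871) (.leaf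 0)))))) (.node (.node (.node (.node (.node (.leaf 119716) (.leaf 10748)) (.node (.leaf 45407) (.leaf 0))) (.node (.node (.leaf 65873) (.leaf 0)) (.node (.leaf 96108) (.leaf 0)))) (.node (.node (.node (.leaf 28137) (.leaf 3071)) (.node (.leaf 2162) (.leaf 0))) (.node (.node (.leaf 128280) (.leaf 0)) (.node (.leaf 27094) (.leaf 0))))) (.node (.node (.node (.node (.leaf 58090) (.leaf 91035)) (.node (.leaf 3066) (.leaf 0))) (.node (.node (.leaf 105237) (.leaf 0)) (.node (.leaf 81383) (.leaf 0)))) (.node (.node (.node (.leaf 47811) (.leaf 27857)) (.node (.leaf 118269) (.leaf 0))) (.node (.node (.leaf 25801) (.leaf 0)) (.node (.leaf 105444) (.leaf 0))))))))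

def kT126 : NT := .node (.node (.node (.node (.node (.node (.node (.node (.leaf 42993) (.leaf 16167)) (.node (.leaf 94637) (.leaf 0))) (.node (.node (.leaf 70077) (.leaf 0)) (.node (.leaf 11060) (.leaf 0)))) (.node (.node (.node (.leaf 12867) (.leaf 58542)) (.node (.leaf 60231) (.leaf 0))) (.node (.node (.leaf 23327) (.leaf 0)) (.node (.leaf 9169) (.leaf 0))))) (.node (.node (.node (.node (.leaf 97127) (.leaf 96550)) (.node (.leaf 18337) (.leaf 0))) (.node (.node (.leaf 100286) (.leaf 0)) (.node (.leaf 129511) (.leaf 0)))) (.node (.node (.node (.leaf 4900) (.leaf 33932)) (.node (.leaf 38845) (.leaf 0))) (.node (.node (.leaf 12932) (.leaf 0)) (.node (.leaf 26490) (.leaf 0)))))) (.node (.node (.node (.node (.node (.leaf 21203) (.leaf 97700)) (.node (.leaf 1198) (.leaf 0))) (.node (.node (.leaf 14273) (.leaf 0)) (.node (.leaf 121140) (.leaf 0)))) (.node (.node (.node (.leaf 9439) (.leaf 3001)) (.node (.leaf 81169) (.leaf 0))) (.node (.node (.leaf 14317) (.leaf 0)) (.node (.leaf 56188) (.leaf 0))))) (.node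 (.node (.node (.node (.leaf 88995) (.leaf 23381)) (.node (.leaf 129412) (.leaf 0))) (.node (.node (.leaf 36052) (.leaf 0)) (.node (.leaf 79163) (.leaf 0)))) (.node (.node (.node (.leaf 68880) (.leaf 46825)) (.node (.leaf 10209) (.leaf 0))) (.node (.node (.leaf 105810) (.leaf 0)) (.node (.leaf 87867) (.leaf 0))))))) (.node (.node (.node (.node (.node (.node (.leaf 120191) (.leaf 30942)) (.node (.leaf 98163) (.leaf 0))) (.node (.node (.leaf 91635) (.leaf 0)) (.node (.leaf 37362) (.leaf 0)))) (.node (.node (.node (.leaf 40408) (.leaf 75214)) (.node (.leaf 128413) (.leaf 0))) (.node (.node (.leaf 106290) (.leaf 0)) (.node (.leaf 79196) (.leaf 0))))) (.node (.node (.node (.node (.leaf 30317) (.leaf 104281)) (.node (.leaf 67014) (.leaf 0))) (.node (.node (.leaf 14029) (.leaf 0)) (.node (.leaf 103761) (.leaf 0)))) (.node (.node (.node (.leaf 63338) (.leaf 28654)) (.node (.leaf 8316) (.leaf 0))) (.node (.node (.leaf 52639) (.leaf 0)) (.node (.leaf 43966) (.leaf 0)))))) (.node (.node (.node (.node (.node (.leaf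 10330) (.leaf 53219)) (.node (.leaf 46410) (.leaf 0))) (.node (.node (.leaf 35045) (.leaf 0)) (.node (.leaf 75721) (.leaf 0)))) (.node (.node (.node (.leaf 18035) (.leaf 98590)) (.node (.leaf 73506) (.leaf 0))) (.node (.node (.leaf 38641) (.leaf 0)) (.node (.leaf 94530) (.leaf 0))))) (.node (.node (.node (.node (.leaf 90392) (.leaf 39314)) (.node (.leaf 29829) (.leaf 0))) (.node (.node (.leaf 127255) (.leaf 0)) (.node (.leaf 68369) (.leaf 0)))) (.node (.node (.node (.leaf 27352) (.leaf 15673)) (.node (.leaf 56651) (.leaf 0))) (.node (.node (.leaf 22254) (.leaf 0)) (.node (.leaf 27626) (.leaf 0)))))))) (.node (.node (.node (.node (.node (.node (.node (.leaf 33980) (.leaf 115508)) (.node (.leaf 71455) (.leaf 0))) (.node (.node (.leaf 41831) (.leaf 0)) (.node (.leaf 12927) (.leaf 0)))) (.node (.node (.node (.leaf 94592) (.leaf 15644)) (.node (.leaf 50154) (.leaf 0))) (.node (.node (.leaf 72983) (.leaf 0)) (.node (.leaf 13310) (.leaf 0))))) (.node (.node (.node (.node (.leaf 123382) (.leaf 35752)) (.node (.leaf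 24926) (.leaf 0))) (.node (.node (.leaf 29169) (.leaf 0)) (.node (.leaf 58208) (.leaf 0)))) (.node (.node (.node (.leaf 97164) (.leaf 26898)) (.node (.leaf 34160) (.leaf 0))) (.node (.node (.leaf 27513) (.leaf 0)) (.node (.leaf 90592) (.leaf 0)))))) (.node (.node (.node (.node (.node (.leaf 91097) (.leaf 57006)) (.node (.leaf 21713) (.leaf 0))) (.node (.node (.leaf 70483) (.leaf 0)) (.node (.leaf 37204) (.leaf 0)))) (.node (.node (.node (.leaf 81171) (.leaf 34607)) (.node (.leaf 19061) (.leaf 0))) (.node (.node (.leaf 82231) (.leaf 0)) (.node (.leaf 68606) (.leaf 0))))) (.node (.node (.node (.node (.leaf 88327) (.leaf 39416)) (.node (.leaf 8821) (.leaf 0))) (.node (.node (.leaf 16194) (.leaf 0)) (.node (.leaf 12919) (.leaf 0)))) (.node (.node (.node (.leaf 121708) (.leaf 13585)) (.node (.leaf 12715) (.leaf 0))) (.node (.node (.leaf 23920) (.leaf 0)) (.node (.leaf 86442) (.leaf 0))))))) (.node (.node (.node (.node (.node (.node (.leaf 53615) (.leaf 56757)) (.node (.leaf 17486) (.leaf 0))) (.node (.node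 (.leaf 80875) (.leaf 0)) (.node (.leaf 30184) (.leaf 0)))) (.node (.node (.node (.leaf 20056) (.leaf 86326)) (.node (.leaf 33065) (.leaf 0))) (.node (.node (.leaf 12974) (.leaf 0)) (.node (.leaf 98246) (.leaf 0))))) (.node (.node (.node (.node (.leaf 19408) (.leaf 45503)) (.node (.leaf 117608) (.leaf 0))) (.node (.node (.leaf 43923) (.leaf 0)) (.node (.leaf 27389) (.leaf 0)))) (.node (.node (.node (.leaf 126395) (.leaf 7535)) (.node (.leaf 58674) (.leaf 0))) (.node (.node (.leaf 7110) (.leaf 0)) (.node (.leaf 9648) (.leaf 0)))))) (.node (.node (.node (.node (.node (.leaf 109425) (.leaf 41795)) (.node (.leaf 82856) (.leaf 0))) (.node (.node (.leaf 34514) (.leaf 0)) (.node (.leaf 126308) (.leaf 0)))) (.node (.node (.node (.leaf 92664) (.leaf 39252)) (.node (.leaf 18047) (.leaf 0))) (.node (.node (.leaf 22640) (.leaf 0)) (.node (.leaf 33228) (.leaf 0))))) (.node (.node (.node (.node (.leaf 30918) (.leaf 41249)) (.node (.leaf 126938) (.leaf 0))) (.node (.node (.leaf 12618) (.leaf 0)) (.node (.leaf 31208) (.leaf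 0)))) (.node (.node (.node (.leaf 105282) (.leaf 446)) (.node (.leaf 33492) (.leaf 0))) (.node (.node (.leaf 74189) (.leaf 0)) (.node (.leaf 37779) (.leaf 0))))))))

def kT127 : NT := .node (.node (.node (.node (.node (.node (.node (.node (.leaf 65520) (.leaf 112003)) (.node (.leaf 41286) (.leaf 0))) (.node (.node (.leaf 123318) (.leaf 0)) (.node (.leaf 111069) (.leaf 0)))) (.node (.node (.node (.leaf 120297) (.leaf 96592)) (.node (.leaf 83873) (.leaf 0))) (.node (.node (.leaf 6675) (.leaf 0)) (.node (.leaf 113523) (.leaf 0))))) (.node (.node (.node (.node (.leaf 101236) (.leaf 69021)) (.node (.leaf 47574) (.leaf 0))) (.node (.node (.leaf 69380) (.leaf 0)) (.node (.leaf 199) (.leaf 0)))) (.node (.node (.node (.leaf 23827) (.leaf 73050)) (.node (.leaf 49069) (.leaf 0))) (.node (.node (.leaf 33144) (.leaf 0)) (.node (.leaf 45368) (.leaf 0)))))) (.node (.node (.node (.node (.node (.leaf 54099) (.leaf 28390)) (.node (.leaf 405) (.leaf 0))) (.node (.node (.leaf 77764) (.leaf 0)) (.node (.leaf 30996) (.leaf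 0)))) (.node (.node (.node (.leaf 130881) (.leaf 27005)) (.node (.leaf 47751) (.leaf 0))) (.node (.node (.leaf 12489) (.leaf 0)) (.node (.leaf 111389) (.leaf 0))))) (.node (.node (.node (.node (.leaf 11373) (.leaf 64381)) (.node (.leaf 53696) (.leaf 0))) (.node (.node (.leaf 87497) (.leaf 0)) (.node (.leaf 2047) (.leaf 0)))) (.node (.node (.node (.leaf 66411) (.leaf 76738)) (.node (.leaf 83358) (.leaf 0))) (.node (.node (.leaf 61598) (.leaf 0)) (.node (.leaf 46324) (.leaf 0))))))) (.node (.node (.node (.node (.node (.node (.leaf 28561) (.leaf 24693)) (.node (.leaf 75556) (.leaf 0))) (.node (.node (.leaf 18296) (.leaf 0)) (.node (.leaf 40277) (.leaf 0)))) (.node (.node (.node (.leaf 55) (.leaf 58715)) (.node (.leaf 5351) (.leaf 0))) (.node (.node (.leaf 130517) (.leaf 0)) (.node (.leaf 60264) (.leaf 0))))) (.node (.node (.node (.node (.leaf 17365) (.leaf 25873)) (.node (.leaf 128869) (.leaf 0))) (.node (.node (.leaf 97094) (.leaf 0)) (.node (.leaf 34512) (.leaf 0)))) (.node (.node (.node (.leaf 40662) (.leaf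 7479)) (.node (.leaf 32550) (.leaf 0))) (.node (.node (.leaf 25071) (.leaf 0)) (.node (.leaf 15483) (.leaf 0)))))) (.node (.node (.node (.node (.node (.leaf 130431) (.leaf 117635)) (.node (.leaf 57329) (.leaf 0))) (.node (.node (.leaf 15814) (.leaf 0)) (.node (.leaf 55176) (.leaf 0)))) (.node (.node (.node (.leaf 103713) (.leaf 6271)) (.node (.leaf 5206) (.leaf 0))) (.node (.node (.leaf 23835) (.leaf 0)) (.node (.leaf 3824) (.leaf 0))))) (.node (.node (.node (.node (.leaf 22327) (.leaf 61301)) (.node (.leaf 44541) (.leaf 0))) (.node (.node (.leaf 42964) (.leaf 0)) (.node (.leaf 47969) (.leaf 0)))) (.node (.node (.node (.leaf 62283) (.leaf 1490)) (.node (.leaf 78275) (.leaf 0))) (.node (.node (.leaf 129460) (.leaf 0)) (.node (.leaf 30517) (.leaf 0)))))))) (.node (.node (.node (.node (.node (.node (.node (.leaf 3162) (.leaf 31224)) (.node (.leaf 109379) (.leaf 0))) (.node (.node (.leaf 6975) (.leaf 0)) (.node (.leaf 79171) (.leaf 0)))) (.node (.node (.node (.leaf 96748) (.leaf 47984)) (.node (.leaf 130955)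 (.leaf 0))) (.node (.node (.leaf 28616) (.leaf 0)) (.node (.leaf 11032) (.leaf 0))))) (.node (.node (.node (.node (.leaf 129834) (.leaf 120159)) (.node (.leaf 65491) (.leaf 0))) (.node (.node (.leaf 9271) (.leaf 0)) (.node (.leaf 1238) (.leaf 0)))) (.node (.node (.node (.leaf 1086) (.leaf 43674)) (.node (.leaf 51858) (.leaf 0))) (.node (.node (.leaf 114068) (.leaf 0)) (.node (.leaf 52154) (.leaf 0)))))) (.node (.node (.node (.node (.node (.leaf 22638) (.leaf 54971)) (.node (.leaf 14581) (.leaf 0))) (.node (.node (.leaf 109395) (.leaf 0)) (.node (.leaf 4212) (.leaf 0)))) (.node (.node (.node (.leaf 63177) (.leaf 73516)) (.node (.leaf 17003) (.leaf 0))) (.node (.node (.leaf 48331) (.leaf 0)) (.node (.leaf 570) (.leaf 0))))) (.node (.node (.node (.node (.leaf 89037) (.leaf 129443)) (.node (.leaf 29270) (.leaf 0))) (.node (.node (.leaf 6503) (.leaf 0)) (.node (.leaf 79119) (.leaf 0)))) (.node (.node (.node (.leaf 12766) (.leaf 1419)) (.node (.leaf 112467) (.leaf 0))) (.node (.node (.leaf 27543) (.leaf 0))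 (.node (.leaf 91525) (.leaf 0))))))) (.node (.node (.node (.node (.node (.node (.leaf 4335) (.leaf 19353)) (.node (.leaf 46402) (.leaf 0))) (.node (.node (.leaf 54717) (.leaf 0)) (.node (.leaf 130393) (.leaf 0)))) (.node (.node (.node (.leaf 126940) (.leaf 53247)) (.node (.leaf 106769) (.leaf 0))) (.node (.node (.leaf 58626) (.leaf 0)) (.node (.leaf 9860) (.leaf 0))))) (.node (.node (.node (.node (.leaf 87517) (.leaf 26726)) (.node (.leaf 13396) (.leaf 0))) (.node (.node (.leaf 55087) (.leaf 0)) (.node (.leaf 35787) (.leaf 0)))) (.node (.node (.node (.leaf 49828) (.leaf 1264)) (.node (.leaf 71126) (.leaf 0))) (.node (.node (.leaf 130866) (.leaf 0)) (.node (.leaf 126893) (.leaf 0)))))) (.node (.node (.node (.node (.node (.leaf 57162) (.leaf 108917)) (.node (.leaf 10988) (.leaf 0))) (.node (.node (.leaf 2658) (.leaf 0)) (.node (.leaf 21416) (.leaf 0)))) (.node (.node (.node (.leaf 103774) (.leaf 23798)) (.node (.leaf 50314) (.leaf 0))) (.node (.node (.leaf 27100) (.leaf 0)) (.node (.leaf 35112) (.leaf 0)))))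 (.node (.node (.node (.node (.leaf 30057) (.leaf 117134)) (.node (.leaf 66438) (.leaf 0))) (.node (.node (.leaf 18733) (.leaf 0)) (.node (.leaf 21905) (.leaf 0)))) (.node (.node (.node (.leaf 3132) (.leaf 15063)) (.node (.leaf 124241) (.leaf 0))) (.node (.node (.leaf 12610) (.leaf 0)) (.node (.leaf 233) (.leaf 0))))))))

def kT : NT := .node (.node (.node (.node (.node (.node (.node (kT0) (kT64)) (.node (kT32) (kT96))) (.node (.node (kT16) (kT80)) (.node (kT48) (kT112)))) (.node (.node (.node (kT8) (kT72)) (.node (kT40) (kT104))) (.node (.node (kT24) (kT88)) (.node (kT56) (kT120))))) (.node (.node (.node (.node (kT4) (kT68)) (.node (kT36) (kT100))) (.node (.node (kT20) (kT84)) (.node (kT52) (kT116)))) (.node (.node (.node (kT12) (kT76)) (.node (kT44) (kT108))) (.node (.node (kT28) (kT92)) (.node (kT60) (kT124)))))) (.node (.node (.node (.node (.node (kT2) (kT66)) (.node (kT34) (kT98))) (.node (.node (kT18) (kT82)) (.node (kT50) (kT114)))) (.node (.node (.node (kT10) (kT74)) (.node (kT42) (kT106))) (.node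 (.node (kT26) (kT90)) (.node (kT58) (kT122))))) (.node (.node (.node (.node (kT6) (kT70)) (.node (kT38) (kT102))) (.node (.node (kT22) (kT86)) (.node (kT54) (kT118)))) (.node (.node (.node (kT14) (kT78)) (.node (kT46) (kT110))) (.node (.node (kT30) (kT94)) (.node (kT62) (kT126))))))) (.node (.node (.node (.node (.node (.node (kT1) (kT65)) (.node (kT33) (kT97))) (.node (.node (kT17) (kT81)) (.node (kT49) (kT113)))) (.node (.node (.node (kT9) (kT73)) (.node (kT41) (kT105))) (.node (.node (kT25) (kT89)) (.node (kT57) (kT121))))) (.node (.node (.node (.node (kT5) (kT69)) (.node (kT37) (kT101))) (.node (.node (kT21) (kT85)) (.node (kT53) (kT117)))) (.node (.node (.node (kT13) (kT77)) (.node (kT45) (kT109))) (.node (.node (kT29) (kT93)) (.node (kT61) (kT125)))))) (.node (.node (.node (.node (.node (kT3) (kT67)) (.node (kT35) (kT99))) (.node (.node (kT19) (kT83)) (.node (kT51) (kT115)))) (.node (.node (.node (kT11) (kT75)) (.node (kT43) (kT107))) (.node (.node (kT27) (kT91)) (.node (kT59) (kT123))))) (.node (.node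 (.node (.node (kT7) (kT71)) (.node (kT39) (kT103))) (.node (.node (kT23) (kT87)) (.node (kT55) (kT119)))) (.node (.node (.node (kT15) (kT79)) (.node (kT47) (kT111))) (.node (.node (kT31) (kT95)) (.node (kT63) (kT127)))))))

def omT0 : NT := .node (.node (.node (.node (.node (.node (.node (.node (.leaf 20423) (.leaf 6637)) (.node (.leaf 9251) (.leaf 0))) (.node (.node (.leaf 4185) (.leaf 11332)) (.node (.leaf 1572) (.leaf 0)))) (.node (.node (.node (.leaf 2420) (.leaf 1648)) (.node (.leaf 3526) (.leaf 0))) (.node (.node (.leaf 1283) (.leaf 0)) (.node (.leaf 13534) (.leaf 0))))) (.node (.node (.node (.node (.leaf 14130) (.leaf 17987)) (.node (.leaf 6750) (.leaf 0))) (.node (.node (.leaf 184) (.leaf 0)) (.node (.leaf 13152) (.leaf 0)))) (.node (.node (.node (.leaf 18753) (.leaf 18406)) (.node (.leaf 582) (.leaf 0))) (.node (.node (.leaf 15748) (.leaf 0)) (.node (.leaf 18574) (.leaf 0)))))) (.node (.node (.node (.node (.node (.leaf 13284) (.leaf 5748)) (.node (.leaf 6287) (.leaf 0))) (.node (.node (.leaf 5884)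 (.leaf 0)) (.node (.leaf 20016) (.leaf 0)))) (.node (.node (.node (.leaf 20401) (.leaf 19724)) (.node (.leaf 11925) (.leaf 0))) (.node (.node (.leaf 15413) (.leaf 0)) (.node (.leaf 4547) (.leaf 0))))) (.node (.node (.node (.node (.leaf 4351) (.leaf 2874)) (.node (.leaf 19734) (.leaf 0))) (.node (.node (.leaf 10791) (.leaf 0)) (.node (.leaf 19117) (.leaf 0)))) (.node (.node (.node (.leaf 1823) (.leaf 15652)) (.node (.leaf 16582) (.leaf 0))) (.node (.node (.leaf 4126) (.leaf 0)) (.node (.leaf 1673) (.leaf 0))))))) (.node (.node (.node (.node (.node (.node (.leaf 11066) (.leaf 2480)) (.node (.leaf 8384) (.leaf 0))) (.node (.node (.leaf 11204) (.leaf 0)) (.node (.leaf 17938) (.leaf 0)))) (.node (.node (.node (.leaf 4975) (.leaf 11908)) (.node (.leaf 14766) (.leaf 0))) (.node (.node (.leaf 12500) (.leaf 0)) (.node (.leaf 19204) (.leaf 0))))) (.node (.node (.node (.node (.leaf 16572) (.leaf 649)) (.node (.leaf 17833) (.leaf 0))) (.node (.node (.leaf 11730) (.leaf 0)) (.node (.leaf 15547) (.leaf 0)))) (.node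 (.node (.node (.leaf 610) (.leaf 18423)) (.node (.leaf 9514) (.leaf 0))) (.node (.node (.leaf 6325) (.leaf 0)) (.node (.leaf 16693) (.leaf 0)))))) (.node (.node (.node (.node (.node (.leaf 6809) (.leaf 17980)) (.node (.leaf 269) (.leaf 0))) (.node (.node (.leaf 6445) (.leaf 0)) (.node (.leaf 8803) (.leaf 0)))) (.node (.node (.node (.leaf 18264) (.leaf 19709)) (.node (.leaf 14104) (.leaf 0))) (.node (.node (.leaf 9369) (.leaf 0)) (.node (.leaf 3201) (.leaf 0))))) (.node (.node (.node (.node (.leaf 8987) (.leaf 9547)) (.node (.leaf 14406) (.leaf 0))) (.node (.node (.leaf 1401) (.leaf 0)) (.node (.leaf 18416) (.leaf 0)))) (.node (.node (.node (.leaf 17607) (.leaf 11111)) (.node (.leaf 14989) (.leaf 0))) (.node (.node (.leaf 11891) (.leaf 0)) (.node (.leaf 8354) (.leaf 0)))))))) (.node (.node (.node (.node (.node (.node (.node (.leaf 5658) (.leaf 19330)) (.node (.leaf 9735) (.leaf 0))) (.node (.node (.leaf 16389) (.leaf 0)) (.node (.leaf 10606) (.leaf 0)))) (.node (.node (.node (.leaf 6179) (.leaf 19687))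 (.node (.leaf 15908) (.leaf 0))) (.node (.node (.leaf 10131) (.leaf 0)) (.node (.leaf 10662) (.leaf 0))))) (.node (.node (.node (.node (.leaf 13659) (.leaf 11820)) (.node (.leaf 8082) (.leaf 0))) (.node (.node (.leaf 275) (.leaf 0)) (.node (.leaf 4486) (.leaf 0)))) (.node (.node (.node (.leaf 8524) (.leaf 3761)) (.node (.leaf 12391) (.leaf 0))) (.node (.node (.leaf 5468) (.leaf 0)) (.node (.leaf 12380) (.leaf 0)))))) (.node (.node (.node (.node (.node (.leaf 3152) (.leaf 11458)) (.node (.leaf 62) (.leaf 0))) (.node (.node (.leaf 18577) (.leaf 0)) (.node (.leaf 71) (.leaf 0)))) (.node (.node (.node (.leaf 15797) (.leaf 11549)) (.node (.leaf 10679) (.leaf 0))) (.node (.node (.leaf 4273) (.leaf 0)) (.node (.leaf 9325) (.leaf 0))))) (.node (.node (.node (.node (.leaf 19839) (.leaf 1013)) (.node (.leaf 15491) (.leaf 0))) (.node (.node (.leaf 17450) (.leaf 0)) (.node (.leaf 4968) (.leaf 0)))) (.node (.node (.node (.leaf 12066) (.leaf 6171)) (.node (.leaf 3639) (.leaf 0))) (.node (.node (.leaf 10793) (.leaf 0))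 (.node (.leaf 7224) (.leaf 0))))))) (.node (.node (.node (.node (.node (.node (.leaf 686) (.leaf 5699)) (.node (.leaf 892) (.leaf 0))) (.node (.node (.leaf 15135) (.leaf 0)) (.node (.leaf 3180) (.leaf 0)))) (.node (.node (.node (.leaf 9024) (.leaf 17279)) (.node (.leaf 18130) (.leaf 0))) (.node (.node (.leaf 5840) (.leaf 0)) (.node (.leaf 8055) (.leaf 0))))) (.node (.node (.node (.node (.leaf 4817) (.leaf 16760)) (.node (.leaf 13036) (.leaf 0))) (.node (.node (.leaf 8215) (.leaf 0)) (.node (.leaf 2372) (.leaf 0)))) (.node (.node (.node (.leaf 2079) (.leaf 2495)) (.node (.leaf 4587) (.leaf 0))) (.node (.node (.leaf 16942) (.leaf 0)) (.node (.leaf 16351) (.leaf 0)))))) (.node (.node (.node (.node (.node (.leaf 3300) (.leaf 13103)) (.node (.leaf 12342) (.leaf 0))) (.node (.node (.leaf 244) (.leaf 0)) (.node (.leaf 2543) (.leaf 0)))) (.node (.node (.node (.leaf 10601) (.leaf 19685)) (.node (.leaf 13824) (.leaf 0))) (.node (.node (.leaf 8526) (.leaf 0)) (.node (.leaf 16749) (.leaf 0))))) (.node (.node (.node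 (.node (.leaf 2024) (.leaf 13820)) (.node (.leaf 17085) (.leaf 0))) (.node (.node (.leaf 3384) (.leaf 0)) (.node (.leaf 17347) (.leaf 0)))) (.node (.node (.node (.leaf 9094) (.leaf 705)) (.node (.leaf 5232) (.leaf 0))) (.node (.node (.leaf 10618) (.leaf 0)) (.node (.leaf 4923) (.leaf 0))))))))

def omT1 : NT := .node (.node (.node (.node (.node (.node (.node (.node (.leaf 12067) (.leaf 20508)) (.node (.leaf 3022) (.leaf 0))) (.node (.node (.leaf 16594) (.leaf 14175)) (.node (.leaf 3250) (.leaf 0)))) (.node (.node (.node (.leaf 7340) (.leaf 18860)) (.node (.leaf 16262) (.leaf 0))) (.node (.node (.leaf 7053) (.leaf 0)) (.node (.leaf 2096) (.leaf 0))))) (.node (.node (.node (.node (.leaf 10502) (.leaf 1112)) (.node (.leaf 1298) (.leaf 0))) (.node (.node (.leaf 1103) (.leaf 0)) (.node (.leaf 15139) (.leaf 0)))) (.node (.node (.node (.leaf 19742) (.leaf 2765)) (.node (.leaf 14030) (.leaf 0))) (.node (.node (.leaf 15423) (.leaf 0)) (.node (.leaf 14598) (.leaf 0)))))) (.node (.node (.node (.node (.node (.leaf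 10309) (.leaf 5657)) (.node (.leaf 7936) (.leaf 0))) (.node (.node (.leaf 9996) (.leaf 0)) (.node (.leaf 10184) (.leaf 0)))) (.node (.node (.node (.leaf 7676) (.leaf 16338)) (.node (.leaf 13365) (.leaf 0))) (.node (.node (.leaf 6860) (.leaf 0)) (.node (.leaf 17193) (.leaf 0))))) (.node (.node (.node (.node (.leaf 19551) (.leaf 3855)) (.node (.leaf 3616) (.leaf 0))) (.node (.node (.leaf 14398) (.leaf 0)) (.node (.leaf 8277) (.leaf 0)))) (.node (.node (.node (.leaf 11372) (.leaf 8716)) (.node (.leaf 7335) (.leaf 0))) (.node (.node (.leaf 4693) (.leaf 0)) (.node (.leaf 11652) (.leaf 0))))))) (.node (.node (.node (.node (.node (.node (.leaf 8916) (.leaf 3080)) (.node (.leaf 16105) (.leaf 0))) (.node (.node (.leaf 8657) (.leaf 0)) (.node (.leaf 18047) (.leaf 0)))) (.node (.node (.node (.leaf 9497) (.leaf 13538)) (.node (.leaf 5307) (.leaf 0))) (.node (.node (.leaf 4558) (.leaf 0)) (.node (.leaf 4592) (.leaf 0))))) (.node (.node (.node (.node (.leaf 2345) (.leaf 12571)) (.node (.leaf 3003) (.leaf 0))) (.node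 (.node (.leaf 16605) (.leaf 0)) (.node (.leaf 15456) (.leaf 0)))) (.node (.node (.node (.leaf 737) (.leaf 3900)) (.node (.leaf 8970) (.leaf 0))) (.node (.node (.leaf 2825) (.leaf 0)) (.node (.leaf 9211) (.leaf 0)))))) (.node (.node (.node (.node (.node (.leaf 11800) (.leaf 4559)) (.node (.leaf 13053) (.leaf 0))) (.node (.node (.leaf 17779) (.leaf 0)) (.node (.leaf 22) (.leaf 0)))) (.node (.node (.node (.leaf 9700) (.leaf 8324)) (.node (.leaf 10781) (.leaf 0))) (.node (.node (.leaf 11720) (.leaf 0)) (.node (.leaf 6739) (.leaf 0))))) (.node (.node (.node (.node (.leaf 6765) (.leaf 16680)) (.node (.leaf 12979) (.leaf 0))) (.node (.node (.leaf 950) (.leaf 0)) (.node (.leaf 4897) (.leaf 0)))) (.node (.node (.node (.leaf 67) (.leaf 7818)) (.node (.leaf 1615) (.leaf 0))) (.node (.node (.leaf 14901) (.leaf 0)) (.node (.leaf 10922) (.leaf 0)))))))) (.node (.node (.node (.node (.node (.node (.node (.leaf 10657) (.leaf 16848)) (.node (.leaf 18457) (.leaf 0))) (.node (.node (.leaf 16895) (.leaf 0)) (.node (.leaf 8969)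 (.leaf 0)))) (.node (.node (.node (.leaf 10597) (.leaf 12768)) (.node (.leaf 20480) (.leaf 0))) (.node (.node (.leaf 14472) (.leaf 0)) (.node (.leaf 9253) (.leaf 0))))) (.node (.node (.node (.node (.leaf 1445) (.leaf 17953)) (.node (.leaf 41) (.leaf 0))) (.node (.node (.leaf 10322) (.leaf 0)) (.node (.leaf 8024) (.leaf 0)))) (.node (.node (.node (.leaf 3658) (.leaf 10454)) (.node (.leaf 3980) (.leaf 0))) (.node (.node (.leaf 3954) (.leaf 0)) (.node (.leaf 19815) (.leaf 0)))))) (.node (.node (.node (.node (.node (.leaf 7352) (.leaf 18921)) (.node (.leaf 18776) (.leaf 0))) (.node (.node (.leaf 9077) (.leaf 0)) (.node (.leaf 10857) (.leaf 0)))) (.node (.node (.node (.leaf 8184) (.leaf 7382)) (.node (.leaf 7134) (.leaf 0))) (.node (.node (.leaf 17596) (.leaf 0)) (.node (.leaf 5224) (.leaf 0))))) (.node (.node (.node (.node (.leaf 19240) (.leaf 8892)) (.node (.leaf 7479) (.leaf 0))) (.node (.node (.leaf 10281) (.leaf 0)) (.node (.leaf 18770) (.leaf 0)))) (.node (.node (.node (.leaf 1250) (.leaf 14428)) (.node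 (.leaf 9286) (.leaf 0))) (.node (.node (.leaf 18242) (.leaf 0)) (.node (.leaf 5274) (.leaf 0))))))) (.node (.node (.node (.node (.node (.node (.leaf 4257) (.leaf 15847)) (.node (.leaf 13620) (.leaf 0))) (.node (.node (.leaf 14277) (.leaf 0)) (.node (.leaf 6604) (.leaf 0)))) (.node (.node (.node (.leaf 2793) (.leaf 2957)) (.node (.leaf 12954) (.leaf 0))) (.node (.node (.leaf 5137) (.leaf 0)) (.node (.leaf 14061) (.leaf 0))))) (.node (.node (.node (.node (.leaf 2560) (.leaf 18998)) (.node (.leaf 15586) (.leaf 0))) (.node (.node (.leaf 15337) (.leaf 0)) (.node (.leaf 20097) (.leaf 0)))) (.node (.node (.node (.leaf 1028) (.leaf 14604)) (.node (.leaf 15577) (.leaf 0))) (.node (.node (.leaf 15325) (.leaf 0)) (.node (.leaf 17566) (.leaf 0)))))) (.node (.node (.node (.node (.node (.leaf 7044) (.leaf 11277)) (.node (.leaf 18622) (.leaf 0))) (.node (.node (.leaf 12419) (.leaf 0)) (.node (.leaf 5223) (.leaf 0)))) (.node (.node (.node (.leaf 1370) (.leaf 15476)) (.node (.leaf 4196) (.leaf 0))) (.node (.node (.leaf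 15593) (.leaf 0)) (.node (.leaf 15531) (.leaf 0))))) (.node (.node (.node (.node (.leaf 1855) (.leaf 3256)) (.node (.leaf 12631) (.leaf 0))) (.node (.node (.leaf 4546) (.leaf 0)) (.node (.leaf 6884) (.leaf 0)))) (.node (.node (.node (.leaf 8938) (.leaf 12889)) (.node (.leaf 8009) (.leaf 0))) (.node (.node (.leaf 13980) (.leaf 0)) (.node (.leaf 13541) (.leaf 0))))))))

def omT2 : NT := .node (.node (.node (.node (.node (.node (.node (.node (.leaf 5473) (.leaf 17628)) (.node (.leaf 10638) (.leaf 0))) (.node (.node (.leaf 15370) (.leaf 3311)) (.node (.leaf 9411) (.leaf 0)))) (.node (.node (.node (.leaf 9544) (.leaf 13842)) (.node (.leaf 20115) (.leaf 0))) (.node (.node (.leaf 20153) (.leaf 0)) (.node (.leaf 9389) (.leaf 0))))) (.node (.node (.node (.node (.leaf 1154) (.leaf 12291)) (.node (.leaf 10688) (.leaf 0))) (.node (.node (.leaf 9651) (.leaf 0)) (.node (.leaf 2183) (.leaf 0)))) (.node (.node (.node (.leaf 2834) (.leaf 2307)) (.node (.leaf 4525) (.leaf 0))) (.node (.node (.leaf 14817) (.leaf 0)) (.node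 (.leaf 12992) (.leaf 0)))))) (.node (.node (.node (.node (.node (.leaf 15254) (.leaf 1243)) (.node (.leaf 640) (.leaf 0))) (.node (.node (.leaf 8444) (.leaf 0)) (.node (.leaf 5021) (.leaf 0)))) (.node (.node (.node (.leaf 15323) (.leaf 14343)) (.node (.leaf 12232) (.leaf 0))) (.node (.node (.leaf 10527) (.leaf 0)) (.node (.leaf 12842) (.leaf 0))))) (.node (.node (.node (.node (.leaf 6612) (.leaf 6380)) (.node (.leaf 8587) (.leaf 0))) (.node (.node (.leaf 13850) (.leaf 0)) (.node (.leaf 6714) (.leaf 0)))) (.node (.node (.node (.leaf 19869) (.leaf 19592)) (.node (.leaf 3020) (.leaf 0))) (.node (.node (.leaf 6157) (.leaf 0)) (.node (.leaf 15279) (.leaf 0))))))) (.node (.node (.node (.node (.node (.node (.leaf 10407) (.leaf 6161)) (.node (.leaf 5193) (.leaf 0))) (.node (.node (.leaf 6968) (.leaf 0)) (.node (.leaf 6428) (.leaf 0)))) (.node (.node (.node (.leaf 8198) (.leaf 17652)) (.node (.leaf 183) (.leaf 0))) (.node (.node (.leaf 18696) (.leaf 0)) (.node (.leaf 6167) (.leaf 0))))) (.node (.node (.node (.node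 (.leaf 18224) (.leaf 2285)) (.node (.leaf 17292) (.leaf 0))) (.node (.node (.leaf 2961) (.leaf 0)) (.node (.leaf 12601) (.leaf 0)))) (.node (.node (.node (.leaf 6524) (.leaf 16226)) (.node (.leaf 10476) (.leaf 0))) (.node (.node (.leaf 10754) (.leaf 0)) (.node (.leaf 12087) (.leaf 0)))))) (.node (.node (.node (.node (.node (.leaf 13478) (.leaf 906)) (.node (.leaf 18694) (.leaf 0))) (.node (.node (.leaf 14340) (.leaf 0)) (.node (.leaf 10861) (.leaf 0)))) (.node (.node (.node (.leaf 10950) (.leaf 17667)) (.node (.leaf 15659) (.leaf 0))) (.node (.node (.leaf 3490) (.leaf 0)) (.node (.leaf 14198) (.leaf 0))))) (.node (.node (.node (.node (.leaf 9082) (.leaf 9562)) (.node (.leaf 5421) (.leaf 0))) (.node (.node (.leaf 11716) (.leaf 0)) (.node (.leaf 14460) (.leaf 0)))) (.node (.node (.node (.leaf 10997) (.leaf 10051)) (.node (.leaf 5346) (.leaf 0))) (.node (.node (.leaf 8019) (.leaf 0)) (.node (.leaf 10041) (.leaf 0)))))))) (.node (.node (.node (.node (.node (.node (.node (.leaf 15010) (.leaf 19449)) (.node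 (.leaf 10429) (.leaf 0))) (.node (.node (.leaf 11685) (.leaf 0)) (.node (.leaf 14474) (.leaf 0)))) (.node (.node (.node (.leaf 19556) (.leaf 10805)) (.node (.leaf 1725) (.leaf 0))) (.node (.node (.leaf 4221) (.leaf 0)) (.node (.leaf 6626) (.leaf 0))))) (.node (.node (.node (.node (.leaf 12937) (.leaf 16734)) (.node (.leaf 11924) (.leaf 0))) (.node (.node (.leaf 17595) (.leaf 0)) (.node (.leaf 3028) (.leaf 0)))) (.node (.node (.node (.leaf 12924) (.leaf 4305)) (.node (.leaf 4585) (.leaf 0))) (.node (.node (.leaf 9057) (.leaf 0)) (.node (.leaf 11043) (.leaf 0)))))) (.node (.node (.node (.node (.node (.leaf 10276) (.leaf 13190)) (.node (.leaf 7201) (.leaf 0))) (.node (.node (.leaf 5652) (.leaf 0)) (.node (.leaf 7355) (.leaf 0)))) (.node (.node (.node (.leaf 7389) (.leaf 8238)) (.node (.leaf 19586) (.leaf 0))) (.node (.node (.leaf 8424) (.leaf 0)) (.node (.leaf 6825) (.leaf 0))))) (.node (.node (.node (.node (.leaf 17741) (.leaf 14143)) (.node (.leaf 12101) (.leaf 0))) (.node (.node (.leaf 4436) (.leaf 0))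 (.node (.leaf 5393) (.leaf 0)))) (.node (.node (.node (.leaf 1580) (.leaf 8814)) (.node (.leaf 8713) (.leaf 0))) (.node (.node (.leaf 15723) (.leaf 0)) (.node (.leaf 4237) (.leaf 0))))))) (.node (.node (.node (.node (.node (.node (.leaf 12211) (.leaf 111)) (.node (.leaf 2379) (.leaf 0))) (.node (.node (.leaf 1437) (.leaf 0)) (.node (.leaf 3890) (.leaf 0)))) (.node (.node (.node (.leaf 9215) (.leaf 13356)) (.node (.leaf 17975) (.leaf 0))) (.node (.node (.leaf 18721) (.leaf 0)) (.node (.leaf 17358) (.leaf 0))))) (.node (.node (.node (.node (.leaf 5195) (.leaf 3957)) (.node (.leaf 3814) (.leaf 0))) (.node (.node (.leaf 2101) (.leaf 0)) (.node (.leaf 8593) (.leaf 0)))) (.node (.node (.node (.leaf 1895) (.leaf 14055)) (.node (.leaf 754) (.leaf 0))) (.node (.node (.leaf 18471) (.leaf 0)) (.node (.leaf 16204) (.leaf 0)))))) (.node (.node (.node (.node (.node (.leaf 511) (.leaf 707)) (.node (.leaf 1363) (.leaf 0))) (.node (.node (.leaf 20304) (.leaf 0)) (.node (.leaf 20236) (.leaf 0)))) (.node (.node (.node (.leaf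 15985) (.leaf 2077)) (.node (.leaf 14262) (.leaf 0))) (.node (.node (.leaf 3908) (.leaf 0)) (.node (.leaf 16650) (.leaf 0))))) (.node (.node (.node (.node (.leaf 6786) (.leaf 2185)) (.node (.leaf 17257) (.leaf 0))) (.node (.node (.leaf 16808) (.leaf 0)) (.node (.leaf 13575) (.leaf 0)))) (.node (.node (.node (.leaf 5353) (.leaf 2617)) (.node (.leaf 13788) (.leaf 0))) (.node (.node (.leaf 3815) (.leaf 0)) (.node (.leaf 17745) (.leaf 0))))))))

def omT3 : NT := .node (.node (.node (.node (.node (.node (.node (.node (.leaf 2431) (.leaf 8176)) (.node (.leaf 3253) (.leaf 0))) (.node (.node (.leaf 20103) (.leaf 2025)) (.node (.leaf 829) (.leaf 0)))) (.node (.node (.node (.leaf 3699) (.leaf 18143)) (.node (.leaf 1059) (.leaf 0))) (.node (.node (.leaf 5841) (.leaf 0)) (.node (.leaf 7000) (.leaf 0))))) (.node (.node (.node (.node (.leaf 10468) (.leaf 354)) (.node (.leaf 3193) (.leaf 0))) (.node (.node (.leaf 19455) (.leaf 0)) (.node (.leaf 4522) (.leaf 0)))) (.node (.node (.node (.leaf 9136) (.leaf 9332)) (.node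 (.leaf 2925) (.leaf 0))) (.node (.node (.leaf 8606) (.leaf 0)) (.node (.leaf 17107) (.leaf 0)))))) (.node (.node (.node (.node (.node (.leaf 19450) (.leaf 6769)) (.node (.leaf 9415) (.leaf 0))) (.node (.node (.leaf 8114) (.leaf 0)) (.node (.leaf 3711) (.leaf 0)))) (.node (.node (.node (.leaf 6284) (.leaf 6761)) (.node (.leaf 19733) (.leaf 0))) (.node (.node (.leaf 1816) (.leaf 0)) (.node (.leaf 11004) (.leaf 0))))) (.node (.node (.node (.node (.leaf 8917) (.leaf 9571)) (.node (.leaf 4879) (.leaf 0))) (.node (.node (.leaf 575) (.leaf 0)) (.node (.leaf 8385) (.leaf 0)))) (.node (.node (.node (.leaf 4063) (.leaf 13101)) (.node (.leaf 14959) (.leaf 0))) (.node (.node (.leaf 9880) (.leaf 0)) (.node (.leaf 10683) (.leaf 0))))))) (.node (.node (.node (.node (.node (.node (.leaf 19597) (.leaf 16311)) (.node (.leaf 8319) (.leaf 0))) (.node (.node (.leaf 1322) (.leaf 0)) (.node (.leaf 5745) (.leaf 0)))) (.node (.node (.node (.leaf 3636) (.leaf 5125)) (.node (.leaf 18262) (.leaf 0))) (.node (.node (.leaf 2315) (.leaf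 0)) (.node (.leaf 15266) (.leaf 0))))) (.node (.node (.node (.node (.leaf 7094) (.leaf 1728)) (.node (.leaf 3507) (.leaf 0))) (.node (.node (.leaf 4511) (.leaf 0)) (.node (.leaf 11811) (.leaf 0)))) (.node (.node (.node (.leaf 5862) (.leaf 9595)) (.node (.leaf 4180) (.leaf 0))) (.node (.node (.leaf 18434) (.leaf 0)) (.node (.leaf 17036) (.leaf 0)))))) (.node (.node (.node (.node (.node (.leaf 6702) (.leaf 5259)) (.node (.leaf 4937) (.leaf 0))) (.node (.node (.leaf 16422) (.leaf 0)) (.node (.leaf 6908) (.leaf 0)))) (.node (.node (.node (.leaf 4157) (.leaf 8622)) (.node (.leaf 11108) (.leaf 0))) (.node (.node (.leaf 3854) (.leaf 0)) (.node (.leaf 1532) (.leaf 0))))) (.node (.node (.node (.node (.leaf 3417) (.leaf 3650)) (.node (.leaf 11773) (.leaf 0))) (.node (.node (.leaf 11789) (.leaf 0)) (.node (.leaf 19941) (.leaf 0)))) (.node (.node (.node (.leaf 14245) (.leaf 17124)) (.node (.leaf 16838) (.leaf 0))) (.node (.node (.leaf 16520) (.leaf 0)) (.node (.leaf 1014) (.leaf 0)))))))) (.node (.node (.node (.node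 (.node (.node (.node (.leaf 16285) (.leaf 9867)) (.node (.leaf 4194) (.leaf 0))) (.node (.node (.leaf 2108) (.leaf 0)) (.node (.leaf 19518) (.leaf 0)))) (.node (.node (.node (.leaf 2034) (.leaf 17827)) (.node (.leaf 20093) (.leaf 0))) (.node (.node (.leaf 9311) (.leaf 0)) (.node (.leaf 12983) (.leaf 0))))) (.node (.node (.node (.node (.leaf 8947) (.leaf 19800)) (.node (.leaf 7672) (.leaf 0))) (.node (.node (.leaf 14807) (.leaf 0)) (.node (.leaf 8359) (.leaf 0)))) (.node (.node (.node (.leaf 10497) (.leaf 18030)) (.node (.leaf 1421) (.leaf 0))) (.node (.node (.leaf 7223) (.leaf 0)) (.node (.leaf 13406) (.leaf 0)))))) (.node (.node (.node (.node (.node (.leaf 17510) (.leaf 18549)) (.node (.leaf 16128) (.leaf 0))) (.node (.node (.leaf 12998) (.leaf 0)) (.node (.leaf 9989) (.leaf 0)))) (.node (.node (.node (.leaf 9979) (.leaf 5890)) (.node (.leaf 6206) (.leaf 0))) (.node (.node (.leaf 12611) (.leaf 0)) (.node (.leaf 5500) (.leaf 0))))) (.node (.node (.node (.node (.leaf 17305) (.leaf 18891)) (.node (.leaf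 6812) (.leaf 0))) (.node (.node (.leaf 3544) (.leaf 0)) (.node (.leaf 7260) (.leaf 0)))) (.node (.node (.node (.leaf 7988) (.leaf 13282)) (.node (.leaf 10096) (.leaf 0))) (.node (.node (.leaf 9802) (.leaf 0)) (.node (.leaf 36) (.leaf 0))))))) (.node (.node (.node (.node (.node (.node (.leaf 1290) (.leaf 19274)) (.node (.leaf 14993) (.leaf 0))) (.node (.node (.leaf 5312) (.leaf 0)) (.node (.leaf 4513) (.leaf 0)))) (.node (.node (.node (.leaf 20046) (.leaf 1311)) (.node (.leaf 10528) (.leaf 0))) (.node (.node (.leaf 6650) (.leaf 0)) (.node (.leaf 10706) (.leaf 0))))) (.node (.node (.node (.node (.leaf 2973) (.leaf 17407)) (.node (.leaf 16077) (.leaf 0))) (.node (.node (.leaf 11890) (.leaf 0)) (.node (.leaf 6946) (.leaf 0)))) (.node (.node (.node (.leaf 10901) (.leaf 1762)) (.node (.leaf 9752) (.leaf 0))) (.node (.node (.leaf 5474) (.leaf 0)) (.node (.leaf 13227) (.leaf 0)))))) (.node (.node (.node (.node (.node (.leaf 20139) (.leaf 3911)) (.node (.leaf 19789) (.leaf 0))) (.node (.node (.leaf 15038) (.leaf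 0)) (.node (.leaf 17678) (.leaf 0)))) (.node (.node (.node (.leaf 7345) (.leaf 17401)) (.node (.leaf 3030) (.leaf 0))) (.node (.node (.leaf 19044) (.leaf 0)) (.node (.leaf 15583) (.leaf 0))))) (.node (.node (.node (.node (.leaf 7715) (.leaf 1993)) (.node (.leaf 12790) (.leaf 0))) (.node (.node (.leaf 15681) (.leaf 0)) (.node (.leaf 3543) (.leaf 0)))) (.node (.node (.node (.leaf 2139) (.leaf 10199)) (.node (.leaf 8315) (.leaf 0))) (.node (.node (.leaf 18060) (.leaf 0)) (.node (.leaf 16597) (.leaf 0))))))))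

def omT4 : NT := .node (.node (.node (.node (.node (.node (.node (.node (.leaf 9218) (.leaf 19629)) (.node (.leaf 3586) (.leaf 0))) (.node (.node (.leaf 6143) (.leaf 12364)) (.node (.leaf 20400) (.leaf 0)))) (.node (.node (.node (.leaf 8029) (.leaf 10164)) (.node (.leaf 10320) (.leaf 0))) (.node (.node (.leaf 3602) (.leaf 0)) (.node (.leaf 14999) (.leaf 0))))) (.node (.node (.node (.node (.leaf 2789) (.leaf 10431)) (.node (.leaf 3781) (.leaf 0))) (.node (.node (.leaf 1251) (.leaf 0)) (.node (.leaf 2802) (.leaf 0)))) (.node (.node (.node (.leaf 14131) (.leaf 14647)) (.node (.leaf 17352) (.leaf 0))) (.node (.node (.leaf 20303) (.leaf 0)) (.node (.leaf 4156) (.leaf 0)))))) (.node (.node (.node (.node (.node (.leaf 15979) (.leaf 2496)) (.node (.leaf 10088) (.leaf 0))) (.node (.node (.leaf 13691) (.leaf 0)) (.node (.leaf 17916) (.leaf 0)))) (.node (.node (.node (.leaf 1484) (.leaf 6058)) (.node (.leaf 20265) (.leaf 0))) (.node (.node (.leaf 5299) (.leaf 0)) (.node (.leaf 16626) (.leaf 0))))) (.node (.node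 (.node (.node (.leaf 4366) (.leaf 17519)) (.node (.leaf 4977) (.leaf 0))) (.node (.node (.leaf 5010) (.leaf 0)) (.node (.leaf 2661) (.leaf 0)))) (.node (.node (.node (.leaf 15140) (.leaf 15601)) (.node (.leaf 1246) (.leaf 0))) (.node (.node (.leaf 19802) (.leaf 0)) (.node (.leaf 14283) (.leaf 0))))))) (.node (.node (.node (.node (.node (.node (.leaf 11156) (.leaf 19333)) (.node (.leaf 14315) (.leaf 0))) (.node (.node (.leaf 18325) (.leaf 0)) (.node (.leaf 15688) (.leaf 0)))) (.node (.node (.node (.leaf 9392) (.leaf 7100)) (.node (.leaf 16468) (.leaf 0))) (.node (.node (.leaf 10690) (.leaf 0)) (.node (.leaf 15628) (.leaf 0))))) (.node (.node (.node (.node (.leaf 6375) (.leaf 18730)) (.node (.leaf 2567) (.leaf 0))) (.node (.node (.leaf 17565) (.leaf 0)) (.node (.leaf 13151) (.leaf 0)))) (.node (.node (.node (.leaf 20479) (.leaf 1272)) (.node (.leaf 6655) (.leaf 0))) (.node (.node (.leaf 19983) (.leaf 0)) (.node (.leaf 18738) (.leaf 0)))))) (.node (.node (.node (.node (.node (.leaf 970) (.leaf 7353)) (.node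 (.leaf 15679) (.leaf 0))) (.node (.node (.leaf 335) (.leaf 0)) (.node (.leaf 3657) (.leaf 0)))) (.node (.node (.node (.leaf 9848) (.leaf 17326)) (.node (.leaf 5559) (.leaf 0))) (.node (.node (.leaf 320) (.leaf 0)) (.node (.leaf 8376) (.leaf 0))))) (.node (.node (.node (.node (.leaf 6277) (.leaf 13679)) (.node (.leaf 18271) (.leaf 0))) (.node (.node (.leaf 4306) (.leaf 0)) (.node (.leaf 18896) (.leaf 0)))) (.node (.node (.node (.leaf 17992) (.leaf 6442)) (.node (.leaf 8475) (.leaf 0))) (.node (.node (.leaf 12307) (.leaf 0)) (.node (.leaf 11982) (.leaf 0)))))))) (.node (.node (.node (.node (.node (.node (.node (.leaf 12933) (.leaf 2421)) (.node (.leaf 6191) (.leaf 0))) (.node (.node (.leaf 1940) (.leaf 0)) (.node (.leaf 445) (.leaf 0)))) (.node (.node (.node (.leaf 10489) (.leaf 6956)) (.node (.leaf 12328) (.leaf 0))) (.node (.node (.leaf 12398) (.leaf 0)) (.node (.leaf 5947) (.leaf 0))))) (.node (.node (.node (.node (.leaf 14740) (.leaf 9739)) (.node (.leaf 3416) (.leaf 0))) (.node (.node (.leaf 17788)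 (.leaf 0)) (.node (.leaf 15555) (.leaf 0)))) (.node (.node (.node (.leaf 12557) (.leaf 17721)) (.node (.leaf 4186) (.leaf 0))) (.node (.node (.leaf 1656) (.leaf 0)) (.node (.leaf 5998) (.leaf 0)))))) (.node (.node (.node (.node (.node (.leaf 15891) (.leaf 19346)) (.node (.leaf 835) (.leaf 0))) (.node (.node (.leaf 18519) (.leaf 0)) (.node (.leaf 7372) (.leaf 0)))) (.node (.node (.node (.leaf 18757) (.leaf 8538)) (.node (.leaf 13853) (.leaf 0))) (.node (.node (.leaf 14096) (.leaf 0)) (.node (.leaf 18035) (.leaf 0))))) (.node (.node (.node (.node (.leaf 20297) (.leaf 13379)) (.node (.leaf 14780) (.leaf 0))) (.node (.node (.leaf 10603) (.leaf 0)) (.node (.leaf 1632) (.leaf 0)))) (.node (.node (.node (.leaf 15590) (.leaf 10251)) (.node (.leaf 19552) (.leaf 0))) (.node (.node (.leaf 15052) (.leaf 0)) (.node (.leaf 7739) (.leaf 0))))))) (.node (.node (.node (.node (.node (.node (.leaf 12612) (.leaf 15179)) (.node (.leaf 12468) (.leaf 0))) (.node (.node (.leaf 3999) (.leaf 0)) (.node (.leaf 4880) (.leaf 0))))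 (.node (.node (.node (.leaf 11758) (.leaf 17588)) (.node (.leaf 5157) (.leaf 0))) (.node (.node (.leaf 3277) (.leaf 0)) (.node (.leaf 872) (.leaf 0))))) (.node (.node (.node (.node (.leaf 10851) (.leaf 576)) (.node (.leaf 20052) (.leaf 0))) (.node (.node (.leaf 9957) (.leaf 0)) (.node (.leaf 19841) (.leaf 0)))) (.node (.node (.node (.leaf 5835) (.leaf 6866)) (.node (.leaf 10313) (.leaf 0))) (.node (.node (.leaf 19658) (.leaf 0)) (.node (.leaf 18518) (.leaf 0)))))) (.node (.node (.node (.node (.node (.leaf 18620) (.leaf 5583)) (.node (.leaf 15644) (.leaf 0))) (.node (.node (.leaf 1203) (.leaf 0)) (.node (.leaf 17910) (.leaf 0)))) (.node (.node (.node (.leaf 19761) (.leaf 7019)) (.node (.leaf 4630) (.leaf 0))) (.node (.node (.leaf 11540) (.leaf 0)) (.node (.leaf 10765) (.leaf 0))))) (.node (.node (.node (.node (.leaf 1466) (.leaf 18339)) (.node (.leaf 5785) (.leaf 0))) (.node (.node (.leaf 16122) (.leaf 0)) (.node (.leaf 211) (.leaf 0)))) (.node (.node (.node (.leaf 14301) (.leaf 18229)) (.node (.leaf 19614)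 (.leaf 0))) (.node (.node (.leaf 7901) (.leaf 0)) (.node (.leaf 3222) (.leaf 0))))))))

def omT5 : NT := .node (.node (.node (.node (.node (.node (.node (.node (.leaf 9863) (.leaf 2491)) (.node (.leaf 6928) (.leaf 0))) (.node (.node (.leaf 16777) (.leaf 1449)) (.node (.leaf 7398) (.leaf 0)))) (.node (.node (.node (.leaf 1152) (.leaf 14610)) (.node (.leaf 12456) (.leaf 0))) (.node (.node (.leaf 17758) (.leaf 0)) (.node (.leaf 9529) (.leaf 0))))) (.node (.node (.node (.node (.leaf 6138) (.leaf 4259)) (.node (.leaf 10846) (.leaf 0))) (.node (.node (.leaf 9373) (.leaf 0)) (.node (.leaf 3506) (.leaf 0)))) (.node (.node (.node (.leaf 16133) (.leaf 5359)) (.node (.leaf 16385) (.leaf 0))) (.node (.node (.leaf 14124) (.leaf 0)) (.node (.leaf 13019) (.leaf 0)))))) (.node (.node (.node (.node (.node (.leaf 6478) (.leaf 14752)) (.node (.leaf 11374) (.leaf 0))) (.node (.node (.leaf 9972) (.leaf 0)) (.node (.leaf 14111) (.leaf 0)))) (.node (.node (.node (.leaf 8748) (.leaf 3892)) (.node (.leaf 18920) (.leaf 0))) (.node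 (.node (.leaf 17287) (.leaf 0)) (.node (.leaf 20200) (.leaf 0))))) (.node (.node (.node (.node (.leaf 11929) (.leaf 7862)) (.node (.leaf 1186) (.leaf 0))) (.node (.node (.leaf 19040) (.leaf 0)) (.node (.leaf 8551) (.leaf 0)))) (.node (.node (.node (.leaf 9046) (.leaf 804)) (.node (.leaf 16278) (.leaf 0))) (.node (.node (.leaf 7585) (.leaf 0)) (.node (.leaf 11969) (.leaf 0))))))) (.node (.node (.node (.node (.node (.node (.leaf 6676) (.leaf 20444)) (.node (.leaf 5875) (.leaf 0))) (.node (.node (.leaf 14732) (.leaf 0)) (.node (.leaf 14484) (.leaf 0)))) (.node (.node (.node (.leaf 1115) (.leaf 1988)) (.node (.leaf 5804) (.leaf 0))) (.node (.node (.leaf 14549) (.leaf 0)) (.node (.leaf 8616) (.leaf 0))))) (.node (.node (.node (.node (.leaf 12931) (.leaf 16109)) (.node (.leaf 20165) (.leaf 0))) (.node (.node (.leaf 19173) (.leaf 0)) (.node (.leaf 12589) (.leaf 0)))) (.node (.node (.node (.leaf 11244) (.leaf 9914)) (.node (.leaf 18837) (.leaf 0))) (.node (.node (.leaf 10709) (.leaf 0)) (.node (.leaf 12197) (.leaf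 0)))))) (.node (.node (.node (.node (.node (.leaf 20494) (.leaf 4655)) (.node (.leaf 5737) (.leaf 0))) (.node (.node (.leaf 11055) (.leaf 0)) (.node (.leaf 9629) (.leaf 0)))) (.node (.node (.node (.leaf 16658) (.leaf 17315)) (.node (.leaf 13678) (.leaf 0))) (.node (.node (.leaf 9027) (.leaf 0)) (.node (.leaf 16472) (.leaf 0))))) (.node (.node (.node (.node (.leaf 550) (.leaf 11619)) (.node (.leaf 4312) (.leaf 0))) (.node (.node (.leaf 7460) (.leaf 0)) (.node (.leaf 13758) (.leaf 0)))) (.node (.node (.node (.leaf 13909) (.leaf 5126)) (.node (.leaf 125) (.leaf 0))) (.node (.node (.leaf 15008) (.leaf 0)) (.node (.leaf 9385) (.leaf 0)))))))) (.node (.node (.node (.node (.node (.node (.node (.leaf 7905) (.leaf 17813)) (.node (.leaf 16935) (.leaf 0))) (.node (.node (.leaf 1101) (.leaf 0)) (.node (.leaf 5636) (.leaf 0)))) (.node (.node (.node (.leaf 4287) (.leaf 10056)) (.node (.leaf 9829) (.leaf 0))) (.node (.node (.leaf 14840) (.leaf 0)) (.node (.leaf 15834) (.leaf 0))))) (.node (.node (.node (.node (.leaf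 12795) (.leaf 19944)) (.node (.leaf 12633) (.leaf 0))) (.node (.node (.leaf 10823) (.leaf 0)) (.node (.leaf 240) (.leaf 0)))) (.node (.node (.node (.leaf 2915) (.leaf 12287)) (.node (.leaf 9924) (.leaf 0))) (.node (.node (.leaf 14177) (.leaf 0)) (.node (.leaf 1791) (.leaf 0)))))) (.node (.node (.node (.node (.node (.leaf 19486) (.leaf 4499)) (.node (.leaf 19902) (.leaf 0))) (.node (.node (.leaf 4454) (.leaf 0)) (.node (.leaf 4477) (.leaf 0)))) (.node (.node (.node (.leaf 5531) (.leaf 2910)) (.node (.leaf 17134) (.leaf 0))) (.node (.node (.leaf 8017) (.leaf 0)) (.node (.leaf 10732) (.leaf 0))))) (.node (.node (.node (.node (.leaf 4054) (.leaf 12415)) (.node (.leaf 7662) (.leaf 0))) (.node (.node (.leaf 19710) (.leaf 0)) (.node (.leaf 735) (.leaf 0)))) (.node (.node (.node (.leaf 14049) (.leaf 10622)) (.node (.leaf 2054) (.leaf 0))) (.node (.node (.leaf 12413) (.leaf 0)) (.node (.leaf 19884) (.leaf 0))))))) (.node (.node (.node (.node (.node (.node (.leaf 14824) (.leaf 9301)) (.node (.leaf 3205) (.leaf 0)))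 (.node (.node (.leaf 815) (.leaf 0)) (.node (.leaf 3953) (.leaf 0)))) (.node (.node (.node (.leaf 15260) (.leaf 7234)) (.node (.leaf 212) (.leaf 0))) (.node (.node (.leaf 9042) (.leaf 0)) (.node (.leaf 16791) (.leaf 0))))) (.node (.node (.node (.node (.leaf 264) (.leaf 3775)) (.node (.leaf 2959) (.leaf 0))) (.node (.node (.leaf 1746) (.leaf 0)) (.node (.leaf 3830) (.leaf 0)))) (.node (.node (.node (.leaf 1922) (.leaf 8208)) (.node (.leaf 15778) (.leaf 0))) (.node (.node (.leaf 997) (.leaf 0)) (.node (.leaf 33) (.leaf 0)))))) (.node (.node (.node (.node (.node (.leaf 18844) (.leaf 15060)) (.node (.leaf 11347) (.leaf 0))) (.node (.node (.leaf 8595) (.leaf 0)) (.node (.leaf 14831) (.leaf 0)))) (.node (.node (.node (.leaf 11289) (.leaf 18417)) (.node (.leaf 9534) (.leaf 0))) (.node (.node (.leaf 2226) (.leaf 0)) (.node (.leaf 48) (.leaf 0))))) (.node (.node (.node (.node (.leaf 2164) (.leaf 14898)) (.node (.leaf 2248) (.leaf 0))) (.node (.node (.leaf 9249) (.leaf 0)) (.node (.leaf 14936) (.leaf 0)))) (.node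 (.node (.node (.leaf 4049) (.leaf 17269)) (.node (.leaf 7574) (.leaf 0))) (.node (.node (.leaf 13934) (.leaf 0)) (.node (.leaf 13910) (.leaf 0))))))))

def omT6 : NT := .node (.node (.node (.node (.node (.node (.node (.node (.leaf 12861) (.leaf 16498)) (.node (.leaf 656) (.leaf 0))) (.node (.node (.leaf 8935) (.leaf 15525)) (.node (.leaf 15970) (.leaf 0)))) (.node (.node (.node (.leaf 1903) (.leaf 18492)) (.node (.leaf 623) (.leaf 0))) (.node (.node (.leaf 8412) (.leaf 0)) (.node (.leaf 19016) (.leaf 0))))) (.node (.node (.node (.node (.leaf 2284) (.leaf 11831)) (.node (.leaf 845) (.leaf 0))) (.node (.node (.leaf 10082) (.leaf 0)) (.node (.leaf 17039) (.leaf 0)))) (.node (.node (.node (.leaf 4946) (.leaf 10522)) (.node (.leaf 8399) (.leaf 0))) (.node (.node (.leaf 19408) (.leaf 0)) (.node (.leaf 15057) (.leaf 0)))))) (.node (.node (.node (.node (.node (.leaf 16990) (.leaf 17694)) (.node (.leaf 12149) (.leaf 0))) (.node (.node (.leaf 7298) (.leaf 0)) (.node (.leaf 3330) (.leaf 0)))) (.node (.node (.node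 (.leaf 14426) (.leaf 19492)) (.node (.leaf 5364) (.leaf 0))) (.node (.node (.leaf 11257) (.leaf 0)) (.node (.leaf 7677) (.leaf 0))))) (.node (.node (.node (.node (.leaf 2436) (.leaf 18049)) (.node (.leaf 6920) (.leaf 0))) (.node (.node (.leaf 16227) (.leaf 0)) (.node (.leaf 1414) (.leaf 0)))) (.node (.node (.node (.leaf 2511) (.leaf 20026)) (.node (.leaf 9742) (.leaf 0))) (.node (.node (.leaf 9773) (.leaf 0)) (.node (.leaf 9265) (.leaf 0))))))) (.node (.node (.node (.node (.node (.node (.leaf 16507) (.leaf 19627)) (.node (.leaf 15859) (.leaf 0))) (.node (.node (.leaf 2036) (.leaf 0)) (.node (.leaf 3645) (.leaf 0)))) (.node (.node (.node (.leaf 5062) (.leaf 5070)) (.node (.leaf 12894) (.leaf 0))) (.node (.node (.leaf 10665) (.leaf 0)) (.node (.leaf 19065) (.leaf 0))))) (.node (.node (.node (.node (.leaf 17874) (.leaf 18473)) (.node (.leaf 2356) (.leaf 0))) (.node (.node (.leaf 11015) (.leaf 0)) (.node (.leaf 2512) (.leaf 0)))) (.node (.node (.node (.leaf 6229) (.leaf 18853)) (.node (.leaf 1824) (.leaf 0)))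 (.node (.node (.leaf 14951) (.leaf 0)) (.node (.leaf 13492) (.leaf 0)))))) (.node (.node (.node (.node (.node (.leaf 6207) (.leaf 15961)) (.node (.leaf 13501) (.leaf 0))) (.node (.node (.leaf 13419) (.leaf 0)) (.node (.leaf 57) (.leaf 0)))) (.node (.node (.node (.leaf 5483) (.leaf 12885)) (.node (.leaf 13374) (.leaf 0))) (.node (.node (.leaf 7160) (.leaf 0)) (.node (.leaf 19959) (.leaf 0))))) (.node (.node (.node (.node (.leaf 7140) (.leaf 11602)) (.node (.leaf 3914) (.leaf 0))) (.node (.node (.leaf 7422) (.leaf 0)) (.node (.leaf 13167) (.leaf 0)))) (.node (.node (.node (.leaf 8625) (.leaf 9854)) (.node (.leaf 17913) (.leaf 0))) (.node (.node (.leaf 11462) (.leaf 0)) (.node (.leaf 20342) (.leaf 0)))))))) (.node (.node (.node (.node (.node (.node (.node (.leaf 10822) (.leaf 6919)) (.node (.leaf 18652) (.leaf 0))) (.node (.node (.leaf 5103) (.leaf 0)) (.node (.leaf 20430) (.leaf 0)))) (.node (.node (.node (.leaf 6114) (.leaf 5337)) (.node (.leaf 9906) (.leaf 0))) (.node (.node (.leaf 4538) (.leaf 0)) (.node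 (.leaf 14211) (.leaf 0))))) (.node (.node (.node (.node (.leaf 18621) (.leaf 5041)) (.node (.leaf 6794) (.leaf 0))) (.node (.node (.leaf 16038) (.leaf 0)) (.node (.leaf 11388) (.leaf 0)))) (.node (.node (.node (.leaf 4153) (.leaf 7632)) (.node (.leaf 2244) (.leaf 0))) (.node (.node (.leaf 7485) (.leaf 0)) (.node (.leaf 2941) (.leaf 0)))))) (.node (.node (.node (.node (.node (.leaf 19925) (.leaf 17119)) (.node (.leaf 8409) (.leaf 0))) (.node (.node (.leaf 4846) (.leaf 0)) (.node (.leaf 3863) (.leaf 0)))) (.node (.node (.node (.leaf 12435) (.leaf 13345)) (.node (.leaf 5631) (.leaf 0))) (.node (.node (.leaf 1070) (.leaf 0)) (.node (.leaf 16912) (.leaf 0))))) (.node (.node (.node (.node (.leaf 10843) (.leaf 3548)) (.node (.leaf 16998) (.leaf 0))) (.node (.node (.leaf 19635) (.leaf 0)) (.node (.leaf 17356) (.leaf 0)))) (.node (.node (.node (.leaf 14118) (.leaf 8982)) (.node (.leaf 490) (.leaf 0))) (.node (.node (.leaf 6370) (.leaf 0)) (.node (.leaf 2212) (.leaf 0))))))) (.node (.node (.node (.node (.node (.node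 (.leaf 6547) (.leaf 10323)) (.node (.leaf 1972) (.leaf 0))) (.node (.node (.leaf 7116) (.leaf 0)) (.node (.leaf 19493) (.leaf 0)))) (.node (.node (.node (.leaf 19341) (.leaf 1559)) (.node (.leaf 20183) (.leaf 0))) (.node (.node (.leaf 3502) (.leaf 0)) (.node (.leaf 851) (.leaf 0))))) (.node (.node (.node (.node (.leaf 18290) (.leaf 18793)) (.node (.leaf 16116) (.leaf 0))) (.node (.node (.leaf 4347) (.leaf 0)) (.node (.leaf 3624) (.leaf 0)))) (.node (.node (.node (.leaf 6802) (.leaf 16342)) (.node (.leaf 4635) (.leaf 0))) (.node (.node (.leaf 15502) (.leaf 0)) (.node (.leaf 12275) (.leaf 0)))))) (.node (.node (.node (.node (.node (.leaf 2884) (.leaf 5817)) (.node (.leaf 3574) (.leaf 0))) (.node (.node (.leaf 14932) (.leaf 0)) (.node (.leaf 6211) (.leaf 0)))) (.node (.node (.node (.leaf 10876) (.leaf 3763)) (.node (.leaf 1594) (.leaf 0))) (.node (.node (.leaf 3638) (.leaf 0)) (.node (.leaf 7597) (.leaf 0))))) (.node (.node (.node (.node (.leaf 3038) (.leaf 11096)) (.node (.leaf 6969) (.leaf 0))) (.node (.node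 (.leaf 3069) (.leaf 0)) (.node (.leaf 10383) (.leaf 0)))) (.node (.node (.node (.leaf 15223) (.leaf 3322)) (.node (.leaf 5608) (.leaf 0))) (.node (.node (.leaf 6040) (.leaf 0)) (.node (.leaf 4517) (.leaf 0))))))))

def omT7 : NT := .node (.node (.node (.node (.node (.node (.node (.node (.leaf 30) (.leaf 8105)) (.node (.leaf 748) (.leaf 0))) (.node (.node (.leaf 15263) (.leaf 15335)) (.node (.leaf 11941) (.leaf 0)))) (.node (.node (.node (.leaf 1519) (.leaf 20008)) (.node (.leaf 15709) (.leaf 0))) (.node (.node (.leaf 16028) (.leaf 0)) (.node (.leaf 8219) (.leaf 0))))) (.node (.node (.node (.node (.leaf 4253) (.leaf 443)) (.node (.leaf 12581) (.leaf 0))) (.node (.node (.leaf 1959) (.leaf 0)) (.node (.leaf 2265) (.leaf 0)))) (.node (.node (.node (.leaf 16900) (.leaf 13003)) (.node (.leaf 7700) (.leaf 0))) (.node (.node (.leaf 13034) (.leaf 0)) (.node (.leaf 5349) (.leaf 0)))))) (.node (.node (.node (.node (.node (.leaf 8093) (.leaf 6980)) (.node (.leaf 8415) (.leaf 0))) (.node (.node (.leaf 347) (.leaf 0))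 (.node (.leaf 6050) (.leaf 0)))) (.node (.node (.node (.leaf 958) (.leaf 12050)) (.node (.leaf 9649) (.leaf 0))) (.node (.node (.leaf 7481) (.leaf 0)) (.node (.leaf 9530) (.leaf 0))))) (.node (.node (.node (.node (.leaf 7003) (.leaf 12781)) (.node (.leaf 16845) (.leaf 0))) (.node (.node (.leaf 7790) (.leaf 0)) (.node (.leaf 6320) (.leaf 0)))) (.node (.node (.node (.leaf 4006) (.leaf 2283)) (.node (.leaf 6940) (.leaf 0))) (.node (.node (.leaf 2956) (.leaf 0)) (.node (.leaf 5575) (.leaf 0))))))) (.node (.node (.node (.node (.node (.node (.leaf 20223) (.leaf 1133)) (.node (.leaf 4614) (.leaf 0))) (.node (.node (.leaf 14773) (.leaf 0)) (.node (.leaf 6521) (.leaf 0)))) (.node (.node (.node (.leaf 4120) (.leaf 7952)) (.node (.leaf 8795) (.leaf 0))) (.node (.node (.leaf 9871) (.leaf 0)) (.node (.leaf 3939) (.leaf 0))))) (.node (.node (.node (.node (.leaf 5297) (.leaf 8439)) (.node (.leaf 6149) (.leaf 0))) (.node (.node (.leaf 17626) (.leaf 0)) (.node (.leaf 6641) (.leaf 0)))) (.node (.node (.node (.leaf 17089)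 (.leaf 14220)) (.node (.leaf 11675) (.leaf 0))) (.node (.node (.leaf 17921) (.leaf 0)) (.node (.leaf 13141) (.leaf 0)))))) (.node (.node (.node (.node (.node (.leaf 12242) (.leaf 5113)) (.node (.leaf 15643) (.leaf 0))) (.node (.node (.leaf 17369) (.leaf 0)) (.node (.leaf 5217) (.leaf 0)))) (.node (.node (.node (.leaf 3359) (.leaf 12606)) (.node (.leaf 20317) (.leaf 0))) (.node (.node (.leaf 11380) (.leaf 0)) (.node (.leaf 11091) (.leaf 0))))) (.node (.node (.node (.node (.leaf 3103) (.leaf 12802)) (.node (.leaf 15674) (.leaf 0))) (.node (.node (.leaf 17486) (.leaf 0)) (.node (.leaf 12006) (.leaf 0)))) (.node (.node (.node (.leaf 4271) (.leaf 11661)) (.node (.leaf 5609) (.leaf 0))) (.node (.node (.leaf 2856) (.leaf 0)) (.node (.leaf 961) (.leaf 0)))))))) (.node (.node (.node (.node (.node (.node (.node (.leaf 18013) (.leaf 8561)) (.node (.leaf 8007) (.leaf 0))) (.node (.node (.leaf 19295) (.leaf 0)) (.node (.leaf 7161) (.leaf 0)))) (.node (.node (.node (.leaf 14848) (.leaf 6278)) (.node (.leaf 17539) (.leaf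 0))) (.node (.node (.leaf 8986) (.leaf 0)) (.node (.leaf 7575) (.leaf 0))))) (.node (.node (.node (.node (.leaf 13434) (.leaf 16243)) (.node (.leaf 19848) (.leaf 0))) (.node (.node (.leaf 5863) (.leaf 0)) (.node (.leaf 3363) (.leaf 0)))) (.node (.node (.node (.leaf 16324) (.leaf 17621)) (.node (.leaf 7993) (.leaf 0))) (.node (.node (.leaf 15214) (.leaf 0)) (.node (.leaf 4396) (.leaf 0)))))) (.node (.node (.node (.node (.node (.leaf 9397) (.leaf 17474)) (.node (.leaf 18375) (.leaf 0))) (.node (.node (.leaf 8161) (.leaf 0)) (.node (.leaf 10989) (.leaf 0)))) (.node (.node (.node (.leaf 7230) (.leaf 13647)) (.node (.leaf 18097) (.leaf 0))) (.node (.node (.leaf 11751) (.leaf 0)) (.node (.leaf 17705) (.leaf 0))))) (.node (.node (.node (.node (.leaf 10260) (.leaf 9535)) (.node (.leaf 17246) (.leaf 0))) (.node (.node (.leaf 16471) (.leaf 0)) (.node (.leaf 10941) (.leaf 0)))) (.node (.node (.node (.leaf 8322) (.leaf 10105)) (.node (.leaf 11005) (.leaf 0))) (.node (.node (.leaf 20060) (.leaf 0)) (.node (.leaf 12129)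 (.leaf 0))))))) (.node (.node (.node (.node (.node (.node (.leaf 10326) (.leaf 1307)) (.node (.leaf 15582) (.leaf 0))) (.node (.node (.leaf 18902) (.leaf 0)) (.node (.leaf 4294) (.leaf 0)))) (.node (.node (.node (.leaf 1496) (.leaf 13656)) (.node (.leaf 6240) (.leaf 0))) (.node (.node (.leaf 13235) (.leaf 0)) (.node (.leaf 5059) (.leaf 0))))) (.node (.node (.node (.node (.leaf 18427) (.leaf 12981)) (.node (.leaf 10035) (.leaf 0))) (.node (.node (.leaf 4928) (.leaf 0)) (.node (.leaf 10141) (.leaf 0)))) (.node (.node (.node (.leaf 17148) (.leaf 18156)) (.node (.leaf 15433) (.leaf 0))) (.node (.node (.leaf 19051) (.leaf 0)) (.node (.leaf 2768) (.leaf 0)))))) (.node (.node (.node (.node (.node (.leaf 11940) (.leaf 11757)) (.node (.leaf 5407) (.leaf 0))) (.node (.node (.leaf 14770) (.leaf 0)) (.node (.leaf 1509) (.leaf 0)))) (.node (.node (.node (.leaf 7661) (.leaf 13454)) (.node (.leaf 3671) (.leaf 0))) (.node (.node (.leaf 12245) (.leaf 0)) (.node (.leaf 6176) (.leaf 0))))) (.node (.node (.node (.node (.leaf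 12987) (.leaf 16347)) (.node (.leaf 9999) (.leaf 0))) (.node (.node (.leaf 12966) (.leaf 0)) (.node (.leaf 16529) (.leaf 0)))) (.node (.node (.node (.leaf 20196) (.leaf 895)) (.node (.leaf 16458) (.leaf 0))) (.node (.node (.leaf 4656) (.leaf 0)) (.node (.leaf 12843) (.leaf 0))))))))

def omT8 : NT := .node (.node (.node (.node (.node (.node (.node (.node (.leaf 0) (.leaf 2548)) (.node (.leaf 18835) (.leaf 0))) (.node (.node (.leaf 10915) (.leaf 13366)) (.node (.leaf 13118) (.leaf 0)))) (.node (.node (.node (.leaf 13982) (.leaf 17738)) (.node (.leaf 8128) (.leaf 0))) (.node (.node (.leaf 10545) (.leaf 0)) (.node (.leaf 9578) (.leaf 0))))) (.node (.node (.node (.node (.leaf 18946) (.leaf 13854)) (.node (.leaf 6354) (.leaf 0))) (.node (.node (.leaf 1639) (.leaf 0)) (.node (.leaf 1082) (.leaf 0)))) (.node (.node (.node (.leaf 14701) (.leaf 15934)) (.node (.leaf 19598) (.leaf 0))) (.node (.node (.leaf 7498) (.leaf 0)) (.node (.leaf 20089) (.leaf 0)))))) (.node (.node (.node (.node (.node (.leaf 3895) (.leaf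 9421)) (.node (.leaf 2855) (.leaf 0))) (.node (.node (.leaf 12402) (.leaf 0)) (.node (.leaf 10239) (.leaf 0)))) (.node (.node (.node (.leaf 15851) (.leaf 17564)) (.node (.leaf 16210) (.leaf 0))) (.node (.node (.leaf 5593) (.leaf 0)) (.node (.leaf 5899) (.leaf 0))))) (.node (.node (.node (.node (.leaf 12568) (.leaf 3304)) (.node (.leaf 9103) (.leaf 0))) (.node (.node (.leaf 17178) (.leaf 0)) (.node (.leaf 10746) (.leaf 0)))) (.node (.node (.node (.leaf 19919) (.leaf 2533)) (.node (.leaf 17508) (.leaf 0))) (.node (.node (.leaf 18623) (.leaf 0)) (.node (.leaf 11921) (.leaf 0))))))) (.node (.node (.node (.node (.node (.node (.leaf 10230) (.leaf 13041)) (.node (.leaf 4618) (.leaf 0))) (.node (.node (.leaf 3340) (.leaf 0)) (.node (.leaf 838) (.leaf 0)))) (.node (.node (.node (.leaf 8313) (.leaf 12577)) (.node (.leaf 20132) (.leaf 0))) (.node (.node (.leaf 6853) (.leaf 0)) (.node (.leaf 8741) (.leaf 0))))) (.node (.node (.node (.node (.leaf 9976) (.leaf 7694)) (.node (.leaf 19864) (.leaf 0))) (.node (.node (.leaf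 20059) (.leaf 0)) (.node (.leaf 6398) (.leaf 0)))) (.node (.node (.node (.leaf 16665) (.leaf 4418)) (.node (.leaf 16307) (.leaf 0))) (.node (.node (.leaf 13210) (.leaf 0)) (.node (.leaf 11496) (.leaf 0)))))) (.node (.node (.node (.node (.node (.leaf 19585) (.leaf 3672)) (.node (.leaf 6203) (.leaf 0))) (.node (.node (.leaf 448) (.leaf 0)) (.node (.leaf 11166) (.leaf 0)))) (.node (.node (.node (.leaf 4412) (.leaf 20416)) (.node (.leaf 16547) (.leaf 0))) (.node (.node (.leaf 5651) (.leaf 0)) (.node (.leaf 17027) (.leaf 0))))) (.node (.node (.node (.node (.leaf 14763) (.leaf 2576)) (.node (.leaf 14522) (.leaf 0))) (.node (.node (.leaf 4080) (.leaf 0)) (.node (.leaf 1736) (.leaf 0)))) (.node (.node (.node (.leaf 15560) (.leaf 10108)) (.node (.leaf 6165) (.leaf 0))) (.node (.node (.leaf 7458) (.leaf 0)) (.node (.leaf 8318) (.leaf 0)))))))) (.node (.node (.node (.node (.node (.node (.node (.leaf 12011) (.leaf 15932)) (.node (.leaf 2430) (.leaf 0))) (.node (.node (.leaf 14649) (.leaf 0)) (.node (.leaf 3244) (.leaf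 0)))) (.node (.node (.node (.leaf 19032) (.leaf 10773)) (.node (.leaf 4689) (.leaf 0))) (.node (.node (.leaf 20174) (.leaf 0)) (.node (.leaf 20503) (.leaf 0))))) (.node (.node (.node (.node (.leaf 2072) (.leaf 5939)) (.node (.leaf 8614) (.leaf 0))) (.node (.node (.leaf 18267) (.leaf 0)) (.node (.leaf 12528) (.leaf 0)))) (.node (.node (.node (.leaf 3243) (.leaf 3266)) (.node (.leaf 7838) (.leaf 0))) (.node (.node (.leaf 13639) (.leaf 0)) (.node (.leaf 2262) (.leaf 0)))))) (.node (.node (.node (.node (.node (.leaf 9081) (.leaf 9840)) (.node (.leaf 6988) (.leaf 0))) (.node (.node (.leaf 7689) (.leaf 0)) (.node (.leaf 3485) (.leaf 0)))) (.node (.node (.node (.leaf 9625) (.leaf 17837)) (.node (.leaf 3756) (.leaf 0))) (.node (.node (.leaf 18739) (.leaf 0)) (.node (.leaf 8829) (.leaf 0))))) (.node (.node (.node (.node (.leaf 13621) (.leaf 5551)) (.node (.leaf 12261) (.leaf 0))) (.node (.node (.leaf 5023) (.leaf 0)) (.node (.leaf 201) (.leaf 0)))) (.node (.node (.node (.leaf 9585) (.leaf 13704)) (.node (.leaf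 11294) (.leaf 0))) (.node (.node (.leaf 11264) (.leaf 0)) (.node (.leaf 5626) (.leaf 0))))))) (.node (.node (.node (.node (.node (.node (.leaf 5424) (.leaf 18973)) (.node (.leaf 16932) (.leaf 0))) (.node (.node (.leaf 4819) (.leaf 0)) (.node (.leaf 16819) (.leaf 0)))) (.node (.node (.node (.leaf 20040) (.leaf 17448)) (.node (.leaf 16041) (.leaf 0))) (.node (.node (.leaf 154) (.leaf 0)) (.node (.leaf 8806) (.leaf 0))))) (.node (.node (.node (.node (.leaf 7781) (.leaf 12826)) (.node (.leaf 4788) (.leaf 0))) (.node (.node (.leaf 17795) (.leaf 0)) (.node (.leaf 13180) (.leaf 0)))) (.node (.node (.node (.leaf 10707) (.leaf 1138)) (.node (.leaf 16996) (.leaf 0))) (.node (.node (.leaf 7602) (.leaf 0)) (.node (.leaf 19631) (.leaf 0)))))) (.node (.node (.node (.node (.node (.leaf 16534) (.leaf 6540)) (.node (.leaf 12243) (.leaf 0))) (.node (.node (.leaf 14060) (.leaf 0)) (.node (.leaf 13231) (.leaf 0)))) (.node (.node (.node (.leaf 14590) (.leaf 14435)) (.node (.leaf 19844) (.leaf 0))) (.node (.node (.leaf 6598)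 (.leaf 0)) (.node (.leaf 11574) (.leaf 0))))) (.node (.node (.node (.node (.leaf 9353) (.leaf 7634)) (.node (.leaf 5821) (.leaf 0))) (.node (.node (.leaf 16796) (.leaf 0)) (.node (.leaf 15565) (.leaf 0)))) (.node (.node (.node (.leaf 16576) (.leaf 8872)) (.node (.leaf 10839) (.leaf 0))) (.node (.node (.leaf 15259) (.leaf 0)) (.node (.leaf 16462) (.leaf 0))))))))

def omT9 : NT := .node (.node (.node (.node (.node (.node (.node (.node (.leaf 15668) (.leaf 13040)) (.node (.leaf 11352) (.leaf 0))) (.node (.node (.leaf 5595) (.leaf 13811)) (.node (.leaf 3134) (.leaf 0)))) (.node (.node (.node (.leaf 18960) (.leaf 1259)) (.node (.leaf 1944) (.leaf 0))) (.node (.node (.leaf 4767) (.leaf 0)) (.node (.leaf 15864) (.leaf 0))))) (.node (.node (.node (.node (.leaf 14937) (.leaf 9052)) (.node (.leaf 8766) (.leaf 0))) (.node (.node (.leaf 16972) (.leaf 0)) (.node (.leaf 10967) (.leaf 0)))) (.node (.node (.node (.leaf 1225) (.leaf 16432)) (.node (.leaf 2411) (.leaf 0))) (.node (.node (.leaf 7325) (.leaf 0)) (.node (.leaf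 5594) (.leaf 0)))))) (.node (.node (.node (.node (.node (.leaf 6981) (.leaf 4868)) (.node (.leaf 11087) (.leaf 0))) (.node (.node (.leaf 9925) (.leaf 0)) (.node (.leaf 7823) (.leaf 0)))) (.node (.node (.node (.leaf 1386) (.leaf 8585)) (.node (.leaf 8891) (.leaf 0))) (.node (.node (.leaf 225) (.leaf 0)) (.node (.leaf 8927) (.leaf 0))))) (.node (.node (.node (.node (.leaf 2703) (.leaf 408)) (.node (.leaf 10634) (.leaf 0))) (.node (.node (.leaf 10916) (.leaf 0)) (.node (.leaf 5624) (.leaf 0)))) (.node (.node (.node (.leaf 16414) (.leaf 19389)) (.node (.leaf 15753) (.leaf 0))) (.node (.node (.leaf 4248) (.leaf 0)) (.node (.leaf 17395) (.leaf 0))))))) (.node (.node (.node (.node (.node (.node (.leaf 12788) (.leaf 10863)) (.node (.leaf 8368) (.leaf 0))) (.node (.node (.leaf 19431) (.leaf 0)) (.node (.leaf 13038) (.leaf 0)))) (.node (.node (.node (.leaf 17240) (.leaf 14568)) (.node (.leaf 16590) (.leaf 0))) (.node (.node (.leaf 12636) (.leaf 0)) (.node (.leaf 7439) (.leaf 0))))) (.node (.node (.node (.node (.leaf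 17129) (.leaf 9693)) (.node (.leaf 8576) (.leaf 0))) (.node (.node (.leaf 10701) (.leaf 0)) (.node (.leaf 11786) (.leaf 0)))) (.node (.node (.node (.leaf 5486) (.leaf 5922)) (.node (.leaf 7750) (.leaf 0))) (.node (.node (.leaf 17927) (.leaf 0)) (.node (.leaf 12922) (.leaf 0)))))) (.node (.node (.node (.node (.node (.leaf 1190) (.leaf 11539)) (.node (.leaf 4602) (.leaf 0))) (.node (.node (.leaf 18291) (.leaf 0)) (.node (.leaf 14811) (.leaf 0)))) (.node (.node (.node (.leaf 14934) (.leaf 19395)) (.node (.leaf 5538) (.leaf 0))) (.node (.node (.leaf 545) (.leaf 0)) (.node (.leaf 19278) (.leaf 0))))) (.node (.node (.node (.node (.leaf 7610) (.leaf 17767)) (.node (.leaf 3670) (.leaf 0))) (.node (.node (.leaf 18371) (.leaf 0)) (.node (.leaf 12722) (.leaf 0)))) (.node (.node (.node (.leaf 14295) (.leaf 5161)) (.node (.leaf 7807) (.leaf 0))) (.node (.node (.leaf 174) (.leaf 0)) (.node (.leaf 8488) (.leaf 0)))))))) (.node (.node (.node (.node (.node (.node (.node (.leaf 6071) (.leaf 18502)) (.node (.leaf 18900)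 (.leaf 0))) (.node (.node (.leaf 14409) (.leaf 0)) (.node (.leaf 4849) (.leaf 0)))) (.node (.node (.node (.leaf 7772) (.leaf 873)) (.node (.leaf 12972) (.leaf 0))) (.node (.node (.leaf 9606) (.leaf 0)) (.node (.leaf 19997) (.leaf 0))))) (.node (.node (.node (.node (.leaf 16258) (.leaf 3563)) (.node (.leaf 15597) (.leaf 0))) (.node (.node (.leaf 12375) (.leaf 0)) (.node (.leaf 14413) (.leaf 0)))) (.node (.node (.node (.leaf 14382) (.leaf 2566)) (.node (.leaf 14479) (.leaf 0))) (.node (.node (.leaf 7800) (.leaf 0)) (.node (.leaf 10449) (.leaf 0)))))) (.node (.node (.node (.node (.node (.leaf 16403) (.leaf 12148)) (.node (.leaf 12713) (.leaf 0))) (.node (.node (.leaf 15033) (.leaf 0)) (.node (.leaf 16343) (.leaf 0)))) (.node (.node (.node (.leaf 1345) (.leaf 13830)) (.node (.leaf 7682) (.leaf 0))) (.node (.node (.leaf 4255) (.leaf 0)) (.node (.leaf 18166) (.leaf 0))))) (.node (.node (.node (.node (.leaf 8568) (.leaf 12483)) (.node (.leaf 17524) (.leaf 0))) (.node (.node (.leaf 18399) (.leaf 0)) (.node (.leaf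 6250) (.leaf 0)))) (.node (.node (.node (.leaf 19482) (.leaf 17131)) (.node (.leaf 7275) (.leaf 0))) (.node (.node (.leaf 14076) (.leaf 0)) (.node (.leaf 16610) (.leaf 0))))))) (.node (.node (.node (.node (.node (.node (.leaf 2455) (.leaf 9627)) (.node (.leaf 10416) (.leaf 0))) (.node (.node (.leaf 3056) (.leaf 0)) (.node (.leaf 3724) (.leaf 0)))) (.node (.node (.node (.leaf 10632) (.leaf 1480)) (.node (.leaf 6164) (.leaf 0))) (.node (.node (.leaf 2459) (.leaf 0)) (.node (.leaf 11041) (.leaf 0))))) (.node (.node (.node (.node (.leaf 3827) (.leaf 16909)) (.node (.leaf 4138) (.leaf 0))) (.node (.node (.leaf 6214) (.leaf 0)) (.node (.leaf 16491) (.leaf 0)))) (.node (.node (.node (.leaf 18686) (.leaf 8897)) (.node (.leaf 19279) (.leaf 0))) (.node (.node (.leaf 17733) (.leaf 0)) (.node (.leaf 10321) (.leaf 0)))))) (.node (.node (.node (.node (.node (.leaf 19666) (.leaf 17491)) (.node (.leaf 758) (.leaf 0))) (.node (.node (.leaf 7899) (.leaf 0)) (.node (.leaf 1812) (.leaf 0)))) (.node (.node (.node (.leaf 19750)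 (.leaf 12576)) (.node (.leaf 11192) (.leaf 0))) (.node (.node (.leaf 12286) (.leaf 0)) (.node (.leaf 7185) (.leaf 0))))) (.node (.node (.node (.node (.leaf 2343) (.leaf 6692)) (.node (.leaf 8244) (.leaf 0))) (.node (.node (.leaf 7510) (.leaf 0)) (.node (.leaf 4899) (.leaf 0)))) (.node (.node (.node (.leaf 13940) (.leaf 6523)) (.node (.leaf 1093) (.leaf 0))) (.node (.node (.leaf 18469) (.leaf 0)) (.node (.leaf 6826) (.leaf 0))))))))

def omT10 : NT := .node (.node (.node (.node (.node (.node (.node (.node (.leaf 29) (.leaf 19896)) (.node (.leaf 14571) (.leaf 0))) (.node (.node (.leaf 18984) (.leaf 9603)) (.node (.leaf 17423) (.leaf 0)))) (.node (.node (.node (.leaf 11205) (.leaf 14541)) (.node (.leaf 6323) (.leaf 0))) (.node (.node (.leaf 12016) (.leaf 0)) (.node (.leaf 17972) (.leaf 0))))) (.node (.node (.node (.node (.leaf 11877) (.leaf 4738)) (.node (.leaf 11252) (.leaf 0))) (.node (.node (.leaf 3199) (.leaf 0)) (.node (.leaf 10951) (.leaf 0)))) (.node (.node (.node (.leaf 10774) (.leaf 11259)) (.node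 (.leaf 7103) (.leaf 0))) (.node (.node (.leaf 17512) (.leaf 0)) (.node (.leaf 9781) (.leaf 0)))))) (.node (.node (.node (.node (.node (.leaf 5517) (.leaf 17143)) (.node (.leaf 19931) (.leaf 0))) (.node (.node (.leaf 16088) (.leaf 0)) (.node (.leaf 7588) (.leaf 0)))) (.node (.node (.node (.leaf 11896) (.leaf 13461)) (.node (.leaf 15557) (.leaf 0))) (.node (.node (.leaf 2299) (.leaf 0)) (.node (.leaf 12113) (.leaf 0))))) (.node (.node (.node (.node (.leaf 12388) (.leaf 192)) (.node (.leaf 20030) (.leaf 0))) (.node (.node (.leaf 18762) (.leaf 0)) (.node (.leaf 15625) (.leaf 0)))) (.node (.node (.node (.leaf 4235) (.leaf 4999)) (.node (.leaf 6699) (.leaf 0))) (.node (.node (.leaf 8822) (.leaf 0)) (.node (.leaf 10628) (.leaf 0))))))) (.node (.node (.node (.node (.node (.node (.leaf 9322) (.leaf 9473)) (.node (.leaf 9010) (.leaf 0))) (.node (.node (.leaf 10608) (.leaf 0)) (.node (.leaf 8349) (.leaf 0)))) (.node (.node (.node (.leaf 1422) (.leaf 13540)) (.node (.leaf 20133) (.leaf 0))) (.node (.node (.leaf 18498)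 (.leaf 0)) (.node (.leaf 6469) (.leaf 0))))) (.node (.node (.node (.node (.leaf 11120) (.leaf 13699)) (.node (.leaf 4736) (.leaf 0))) (.node (.node (.leaf 11480) (.leaf 0)) (.node (.leaf 15971) (.leaf 0)))) (.node (.node (.node (.leaf 4134) (.leaf 10233)) (.node (.leaf 5464) (.leaf 0))) (.node (.node (.leaf 15930) (.leaf 0)) (.node (.leaf 16346) (.leaf 0)))))) (.node (.node (.node (.node (.node (.leaf 1169) (.leaf 12132)) (.node (.leaf 12869) (.leaf 0))) (.node (.node (.leaf 13769) (.leaf 0)) (.node (.leaf 3997) (.leaf 0)))) (.node (.node (.node (.leaf 1084) (.leaf 16486)) (.node (.leaf 12353) (.leaf 0))) (.node (.node (.leaf 11056) (.leaf 0)) (.node (.leaf 13580) (.leaf 0))))) (.node (.node (.node (.node (.leaf 10055) (.leaf 15978)) (.node (.leaf 13386) (.leaf 0))) (.node (.node (.leaf 9663) (.leaf 0)) (.node (.leaf 17853) (.leaf 0)))) (.node (.node (.node (.leaf 10772) (.leaf 18088)) (.node (.leaf 1583) (.leaf 0))) (.node (.node (.leaf 7526) (.leaf 0)) (.node (.leaf 5096) (.leaf 0)))))))) (.node (.node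 (.node (.node (.node (.node (.node (.leaf 583) (.leaf 8672)) (.node (.leaf 8517) (.leaf 0))) (.node (.node (.leaf 7710) (.leaf 0)) (.node (.leaf 5764) (.leaf 0)))) (.node (.node (.node (.leaf 15827) (.leaf 16638)) (.node (.leaf 4232) (.leaf 0))) (.node (.node (.leaf 12822) (.leaf 0)) (.node (.leaf 11568) (.leaf 0))))) (.node (.node (.node (.node (.leaf 4077) (.leaf 6349)) (.node (.leaf 10815) (.leaf 0))) (.node (.node (.leaf 5414) (.leaf 0)) (.node (.leaf 16454) (.leaf 0)))) (.node (.node (.node (.leaf 16913) (.leaf 10819)) (.node (.leaf 4322) (.leaf 0))) (.node (.node (.leaf 3608) (.leaf 0)) (.node (.leaf 8894) (.leaf 0)))))) (.node (.node (.node (.node (.node (.leaf 20300) (.leaf 14574)) (.node (.leaf 13804) (.leaf 0))) (.node (.node (.leaf 11722) (.leaf 0)) (.node (.leaf 14524) (.leaf 0)))) (.node (.node (.node (.leaf 9946) (.leaf 9706)) (.node (.leaf 4404) (.leaf 0))) (.node (.node (.leaf 10179) (.leaf 0)) (.node (.leaf 17058) (.leaf 0))))) (.node (.node (.node (.node (.leaf 9916) (.leaf 1681)) (.node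 (.leaf 19411) (.leaf 0))) (.node (.node (.leaf 15004) (.leaf 0)) (.node (.leaf 7284) (.leaf 0)))) (.node (.node (.node (.leaf 18186) (.leaf 242)) (.node (.leaf 18632) (.leaf 0))) (.node (.node (.leaf 20250) (.leaf 0)) (.node (.leaf 15401) (.leaf 0))))))) (.node (.node (.node (.node (.node (.node (.leaf 16407) (.leaf 2588)) (.node (.leaf 6061) (.leaf 0))) (.node (.node (.leaf 20305) (.leaf 0)) (.node (.leaf 11626) (.leaf 0)))) (.node (.node (.node (.leaf 12891) (.leaf 11991)) (.node (.leaf 13521) (.leaf 0))) (.node (.node (.leaf 8709) (.leaf 0)) (.node (.leaf 3845) (.leaf 0))))) (.node (.node (.node (.node (.leaf 13733) (.leaf 15676)) (.node (.leaf 3042) (.leaf 0))) (.node (.node (.leaf 10964) (.leaf 0)) (.node (.leaf 10944) (.leaf 0)))) (.node (.node (.node (.leaf 5580) (.leaf 3620)) (.node (.leaf 3679) (.leaf 0))) (.node (.node (.leaf 6844) (.leaf 0)) (.node (.leaf 4346) (.leaf 0)))))) (.node (.node (.node (.node (.node (.leaf 3646) (.leaf 16988)) (.node (.leaf 8772) (.leaf 0))) (.node (.node (.leaf 4324)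 (.leaf 0)) (.node (.leaf 10435) (.leaf 0)))) (.node (.node (.node (.leaf 14009) (.leaf 15766)) (.node (.leaf 12043) (.leaf 0))) (.node (.node (.leaf 2904) (.leaf 0)) (.node (.leaf 17204) (.leaf 0))))) (.node (.node (.node (.node (.leaf 13870) (.leaf 16479)) (.node (.leaf 13683) (.leaf 0))) (.node (.node (.leaf 16859) (.leaf 0)) (.node (.leaf 6993) (.leaf 0)))) (.node (.node (.node (.leaf 4029) (.leaf 12293)) (.node (.leaf 15722) (.leaf 0))) (.node (.node (.leaf 10733) (.leaf 0)) (.node (.leaf 16606) (.leaf 0))))))))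

def omT11 : NT := .node (.node (.node (.node (.node (.node (.node (.node (.leaf 17589) (.leaf 3569)) (.node (.leaf 4674) (.leaf 0))) (.node (.node (.leaf 15248) (.leaf 17262)) (.node (.leaf 9182) (.leaf 0)))) (.node (.node (.node (.leaf 19104) (.leaf 924)) (.node (.leaf 15085) (.leaf 0))) (.node (.node (.leaf 4422) (.leaf 0)) (.node (.leaf 13638) (.leaf 0))))) (.node (.node (.node (.node (.leaf 18027) (.leaf 803)) (.node (.leaf 2095) (.leaf 0))) (.node (.node (.leaf 12439) (.leaf 0)) (.node (.leaf 10439) (.leaf 0)))) (.node (.node (.node (.leaf 8509) (.leaf 5790)) (.node (.leaf 18222) (.leaf 0))) (.node (.node (.leaf 17661) (.leaf 0)) (.node (.leaf 8052) (.leaf 0)))))) (.node (.node (.node (.node (.node (.leaf 14663) (.leaf 15682)) (.node (.leaf 19726) (.leaf 0))) (.node (.node (.leaf 15533) (.leaf 0)) (.node (.leaf 9875) (.leaf 0)))) (.node (.node (.node (.leaf 2859) (.leaf 4625)) (.node (.leaf 17012) (.leaf 0))) (.node (.node (.leaf 3385) (.leaf 0)) (.node (.leaf 17074) (.leaf 0))))) (.node (.node (.node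 (.node (.leaf 11699) (.leaf 4912)) (.node (.leaf 10198) (.leaf 0))) (.node (.node (.leaf 6225) (.leaf 0)) (.node (.leaf 14322) (.leaf 0)))) (.node (.node (.node (.leaf 11011) (.leaf 18535)) (.node (.leaf 3810) (.leaf 0))) (.node (.node (.leaf 6630) (.leaf 0)) (.node (.leaf 6184) (.leaf 0))))))) (.node (.node (.node (.node (.node (.node (.leaf 3271) (.leaf 19953)) (.node (.leaf 6258) (.leaf 0))) (.node (.node (.leaf 2282) (.leaf 0)) (.node (.leaf 19056) (.leaf 0)))) (.node (.node (.node (.leaf 19385) (.leaf 13852)) (.node (.leaf 14623) (.leaf 0))) (.node (.node (.leaf 10968) (.leaf 0)) (.node (.leaf 12988) (.leaf 0))))) (.node (.node (.node (.node (.leaf 3475) (.leaf 3941)) (.node (.leaf 2264) (.leaf 0))) (.node (.node (.leaf 1938) (.leaf 0)) (.node (.leaf 2948) (.leaf 0)))) (.node (.node (.node (.leaf 10173) (.leaf 5074)) (.node (.leaf 18404) (.leaf 0))) (.node (.node (.leaf 7212) (.leaf 0)) (.node (.leaf 615) (.leaf 0)))))) (.node (.node (.node (.node (.node (.leaf 7267) (.leaf 6893)) (.node (.leaf 2461)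 (.leaf 0))) (.node (.node (.leaf 20028) (.leaf 0)) (.node (.leaf 13817) (.leaf 0)))) (.node (.node (.node (.leaf 3839) (.leaf 12926)) (.node (.leaf 18178) (.leaf 0))) (.node (.node (.leaf 15788) (.leaf 0)) (.node (.leaf 5244) (.leaf 0))))) (.node (.node (.node (.node (.leaf 3770) (.leaf 4342)) (.node (.leaf 9879) (.leaf 0))) (.node (.node (.leaf 20171) (.leaf 0)) (.node (.leaf 17379) (.leaf 0)))) (.node (.node (.node (.leaf 16234) (.leaf 17033)) (.node (.leaf 3318) (.leaf 0))) (.node (.node (.leaf 5198) (.leaf 0)) (.node (.leaf 10831) (.leaf 0)))))))) (.node (.node (.node (.node (.node (.node (.node (.leaf 11316) (.leaf 7311)) (.node (.leaf 16294) (.leaf 0))) (.node (.node (.leaf 783) (.leaf 0)) (.node (.leaf 816) (.leaf 0)))) (.node (.node (.node (.leaf 9203) (.leaf 8441)) (.node (.leaf 17504) (.leaf 0))) (.node (.node (.leaf 12348) (.leaf 0)) (.node (.leaf 848) (.leaf 0))))) (.node (.node (.node (.node (.leaf 10335) (.leaf 8090)) (.node (.leaf 7136) (.leaf 0))) (.node (.node (.leaf 10806) (.leaf 0))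 (.node (.leaf 13125) (.leaf 0)))) (.node (.node (.node (.leaf 17111) (.leaf 12081)) (.node (.leaf 7507) (.leaf 0))) (.node (.node (.leaf 3471) (.leaf 0)) (.node (.leaf 8515) (.leaf 0)))))) (.node (.node (.node (.node (.node (.leaf 19900) (.leaf 5311)) (.node (.leaf 5084) (.leaf 0))) (.node (.node (.leaf 14335) (.leaf 0)) (.node (.leaf 3305) (.leaf 0)))) (.node (.node (.node (.leaf 12623) (.leaf 2751)) (.node (.leaf 5791) (.leaf 0))) (.node (.node (.leaf 5667) (.leaf 0)) (.node (.leaf 893) (.leaf 0))))) (.node (.node (.node (.node (.leaf 7704) (.leaf 2861)) (.node (.leaf 3800) (.leaf 0))) (.node (.node (.leaf 5596) (.leaf 0)) (.node (.leaf 15685) (.leaf 0)))) (.node (.node (.node (.leaf 9306) (.leaf 6351)) (.node (.leaf 7789) (.leaf 0))) (.node (.node (.leaf 99) (.leaf 0)) (.node (.leaf 14839) (.leaf 0))))))) (.node (.node (.node (.node (.node (.node (.leaf 17456) (.leaf 20187)) (.node (.leaf 12493) (.leaf 0))) (.node (.node (.leaf 20462) (.leaf 0)) (.node (.leaf 8556) (.leaf 0)))) (.node (.node (.node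 (.leaf 14591) (.leaf 1831)) (.node (.leaf 9743) (.leaf 0))) (.node (.node (.leaf 9346) (.leaf 0)) (.node (.leaf 5898) (.leaf 0))))) (.node (.node (.node (.node (.leaf 5887) (.leaf 17797)) (.node (.leaf 714) (.leaf 0))) (.node (.node (.leaf 3897) (.leaf 0)) (.node (.leaf 16675) (.leaf 0)))) (.node (.node (.node (.leaf 14114) (.leaf 2619)) (.node (.leaf 14918) (.leaf 0))) (.node (.node (.leaf 6723) (.leaf 0)) (.node (.leaf 9376) (.leaf 0)))))) (.node (.node (.node (.node (.node (.leaf 12801) (.leaf 10375)) (.node (.leaf 9524) (.leaf 0))) (.node (.node (.leaf 19166) (.leaf 0)) (.node (.leaf 8841) (.leaf 0)))) (.node (.node (.node (.leaf 20310) (.leaf 1306)) (.node (.leaf 9487) (.leaf 0))) (.node (.node (.leaf 17766) (.leaf 0)) (.node (.leaf 1724) (.leaf 0))))) (.node (.node (.node (.node (.leaf 2970) (.leaf 20258)) (.node (.leaf 7540) (.leaf 0))) (.node (.node (.leaf 15874) (.leaf 0)) (.node (.leaf 18752) (.leaf 0)))) (.node (.node (.node (.leaf 18079) (.leaf 15578)) (.node (.leaf 4372) (.leaf 0))) (.node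 (.node (.leaf 15663) (.leaf 0)) (.node (.leaf 18005) (.leaf 0))))))))

def omT12 : NT := .node (.node (.node (.node (.node (.node (.node (.node (.leaf 19443) (.leaf 10379)) (.node (.leaf 12134) (.leaf 0))) (.node (.node (.leaf 18516) (.leaf 16842)) (.node (.leaf 19148) (.leaf 0)))) (.node (.node (.node (.leaf 15226) (.leaf 809)) (.node (.leaf 19236) (.leaf 0))) (.node (.node (.leaf 20142) (.leaf 0)) (.node (.leaf 19314) (.leaf 0))))) (.node (.node (.node (.node (.leaf 7896) (.leaf 12304)) (.node (.leaf 1696) (.leaf 0))) (.node (.node (.leaf 7039) (.leaf 0)) (.node (.leaf 20489) (.leaf 0)))) (.node (.node (.node (.leaf 9006) (.leaf 18443)) (.node (.leaf 5943) (.leaf 0))) (.node (.node (.leaf 19834) (.leaf 0)) (.node (.leaf 17600) (.leaf 0)))))) (.node (.node (.node (.node (.node (.leaf 9807) (.leaf 13688)) (.node (.leaf 2777) (.leaf 0))) (.node (.node (.leaf 4555) (.leaf 0)) (.node (.leaf 181) (.leaf 0)))) (.node (.node (.node (.leaf 18716) (.leaf 12122)) (.node (.leaf 6634) (.leaf 0))) (.node (.node (.leaf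 1935) (.leaf 0)) (.node (.leaf 1042) (.leaf 0))))) (.node (.node (.node (.node (.leaf 8623) (.leaf 13361)) (.node (.leaf 8120) (.leaf 0))) (.node (.node (.leaf 12370) (.leaf 0)) (.node (.leaf 7809) (.leaf 0)))) (.node (.node (.node (.leaf 10681) (.leaf 19732)) (.node (.leaf 307) (.leaf 0))) (.node (.node (.leaf 4609) (.leaf 0)) (.node (.leaf 9299) (.leaf 0))))))) (.node (.node (.node (.node (.node (.node (.leaf 13005) (.leaf 15220)) (.node (.leaf 9614) (.leaf 0))) (.node (.node (.leaf 15037) (.leaf 0)) (.node (.leaf 8312) (.leaf 0)))) (.node (.node (.node (.leaf 11073) (.leaf 247)) (.node (.leaf 14136) (.leaf 0))) (.node (.node (.leaf 14903) (.leaf 0)) (.node (.leaf 18244) (.leaf 0))))) (.node (.node (.node (.node (.leaf 8504) (.leaf 6355)) (.node (.leaf 8479) (.leaf 0))) (.node (.node (.leaf 1667) (.leaf 0)) (.node (.leaf 7639) (.leaf 0)))) (.node (.node (.node (.leaf 8546) (.leaf 4001)) (.node (.leaf 3227) (.leaf 0))) (.node (.node (.leaf 18707) (.leaf 0)) (.node (.leaf 17152) (.leaf 0)))))) (.node (.node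 (.node (.node (.node (.leaf 16361) (.leaf 3092)) (.node (.leaf 18446) (.leaf 0))) (.node (.node (.leaf 14267) (.leaf 0)) (.node (.leaf 5037) (.leaf 0)))) (.node (.node (.node (.leaf 13408) (.leaf 19569)) (.node (.leaf 15464) (.leaf 0))) (.node (.node (.leaf 4443) (.leaf 0)) (.node (.leaf 5443) (.leaf 0))))) (.node (.node (.node (.node (.leaf 1058) (.leaf 6899)) (.node (.leaf 3665) (.leaf 0))) (.node (.node (.leaf 3343) (.leaf 0)) (.node (.leaf 13503) (.leaf 0)))) (.node (.node (.node (.leaf 17863) (.leaf 6451)) (.node (.leaf 1865) (.leaf 0))) (.node (.node (.leaf 14958) (.leaf 0)) (.node (.leaf 11783) (.leaf 0)))))))) (.node (.node (.node (.node (.node (.node (.node (.leaf 2222) (.leaf 9582)) (.node (.leaf 10894) (.leaf 0))) (.node (.node (.leaf 19452) (.leaf 0)) (.node (.leaf 5806) (.leaf 0)))) (.node (.node (.node (.leaf 17864) (.leaf 8166)) (.node (.leaf 436) (.leaf 0))) (.node (.node (.leaf 15522) (.leaf 0)) (.node (.leaf 5611) (.leaf 0))))) (.node (.node (.node (.node (.leaf 13029) (.leaf 13048))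 (.node (.leaf 4225) (.leaf 0))) (.node (.node (.leaf 2553) (.leaf 0)) (.node (.leaf 3052) (.leaf 0)))) (.node (.node (.node (.leaf 18037) (.leaf 19632)) (.node (.leaf 18667) (.leaf 0))) (.node (.node (.leaf 20091) (.leaf 0)) (.node (.leaf 2300) (.leaf 0)))))) (.node (.node (.node (.node (.node (.leaf 8827) (.leaf 11395)) (.node (.leaf 6480) (.leaf 0))) (.node (.node (.leaf 1168) (.leaf 0)) (.node (.leaf 12450) (.leaf 0)))) (.node (.node (.node (.leaf 1180) (.leaf 7204)) (.node (.leaf 19874) (.leaf 0))) (.node (.node (.leaf 8965) (.leaf 0)) (.node (.leaf 5431) (.leaf 0))))) (.node (.node (.node (.node (.leaf 18914) (.leaf 16891)) (.node (.leaf 11349) (.leaf 0))) (.node (.node (.leaf 11341) (.leaf 0)) (.node (.leaf 7250) (.leaf 0)))) (.node (.node (.node (.leaf 14581) (.leaf 15478)) (.node (.leaf 14342) (.leaf 0))) (.node (.node (.leaf 12310) (.leaf 0)) (.node (.leaf 1462) (.leaf 0))))))) (.node (.node (.node (.node (.node (.node (.leaf 6052) (.leaf 12474)) (.node (.leaf 5903) (.leaf 0))) (.node (.node (.leaf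 19276) (.leaf 0)) (.node (.leaf 4812) (.leaf 0)))) (.node (.node (.node (.leaf 4445) (.leaf 9803)) (.node (.leaf 510) (.leaf 0))) (.node (.node (.leaf 13952) (.leaf 0)) (.node (.leaf 8600) (.leaf 0))))) (.node (.node (.node (.node (.leaf 3536) (.leaf 1343)) (.node (.leaf 13576) (.leaf 0))) (.node (.node (.leaf 8149) (.leaf 0)) (.node (.leaf 5864) (.leaf 0)))) (.node (.node (.node (.leaf 2044) (.leaf 1703)) (.node (.leaf 10792) (.leaf 0))) (.node (.node (.leaf 5974) (.leaf 0)) (.node (.leaf 4277) (.leaf 0)))))) (.node (.node (.node (.node (.node (.leaf 11897) (.leaf 5043)) (.node (.leaf 18011) (.leaf 0))) (.node (.node (.leaf 2106) (.leaf 0)) (.node (.leaf 2483) (.leaf 0)))) (.node (.node (.node (.leaf 20295) (.leaf 17871)) (.node (.leaf 13976) (.leaf 0))) (.node (.node (.leaf 12999) (.leaf 0)) (.node (.leaf 1893) (.leaf 0))))) (.node (.node (.node (.node (.leaf 16496) (.leaf 20471)) (.node (.leaf 11873) (.leaf 0))) (.node (.node (.leaf 4866) (.leaf 0)) (.node (.leaf 7718) (.leaf 0)))) (.node (.node (.node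 (.leaf 9728) (.leaf 5566)) (.node (.leaf 8674) (.leaf 0))) (.node (.node (.leaf 18528) (.leaf 0)) (.node (.leaf 13251) (.leaf 0))))))))

def omT13 : NT := .node (.node (.node (.node (.node (.node (.node (.node (.leaf 429) (.leaf 7384)) (.node (.leaf 7949) (.leaf 0))) (.node (.node (.leaf 16169) (.leaf 15209)) (.node (.leaf 7181) (.leaf 0)))) (.node (.node (.node (.leaf 17471) (.leaf 16282)) (.node (.leaf 13661) (.leaf 0))) (.node (.node (.leaf 2929) (.leaf 0)) (.node (.leaf 11467) (.leaf 0))))) (.node (.node (.node (.node (.leaf 6907) (.leaf 1957)) (.node (.leaf 14737) (.leaf 0))) (.node (.node (.leaf 10868) (.leaf 0)) (.node (.leaf 3213) (.leaf 0)))) (.node (.node (.node (.leaf 12098) (.leaf 115)) (.node (.leaf 14105) (.leaf 0))) (.node (.node (.leaf 8815) (.leaf 0)) (.node (.leaf 13880) (.leaf 0)))))) (.node (.node (.node (.node (.node (.leaf 414) (.leaf 1003)) (.node (.leaf 14802) (.leaf 0))) (.node (.node (.leaf 18640) (.leaf 0)) (.node (.leaf 9185) (.leaf 0)))) (.node (.node (.node (.leaf 4701) (.leaf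 17560)) (.node (.leaf 17394) (.leaf 0))) (.node (.node (.leaf 16447) (.leaf 0)) (.node (.leaf 16211) (.leaf 0))))) (.node (.node (.node (.node (.leaf 18644) (.leaf 6030)) (.node (.leaf 2190) (.leaf 0))) (.node (.node (.leaf 5638) (.leaf 0)) (.node (.leaf 13588) (.leaf 0)))) (.node (.node (.node (.leaf 4825) (.leaf 13798)) (.node (.leaf 341) (.leaf 0))) (.node (.node (.leaf 14081) (.leaf 0)) (.node (.leaf 17579) (.leaf 0))))))) (.node (.node (.node (.node (.node (.node (.leaf 1417) (.leaf 2822)) (.node (.leaf 1426) (.leaf 0))) (.node (.node (.leaf 9722) (.leaf 0)) (.node (.leaf 9361) (.leaf 0)))) (.node (.node (.node (.leaf 20328) (.leaf 9339)) (.node (.leaf 751) (.leaf 0))) (.node (.node (.leaf 4055) (.leaf 0)) (.node (.leaf 544) (.leaf 0))))) (.node (.node (.node (.node (.leaf 5983) (.leaf 18279)) (.node (.leaf 18885) (.leaf 0))) (.node (.node (.leaf 7692) (.leaf 0)) (.node (.leaf 20311) (.leaf 0)))) (.node (.node (.node (.leaf 7327) (.leaf 253)) (.node (.leaf 16960) (.leaf 0))) (.node (.node (.leaf 6395)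 (.leaf 0)) (.node (.leaf 11067) (.leaf 0)))))) (.node (.node (.node (.node (.node (.leaf 9484) (.leaf 9960)) (.node (.leaf 8642) (.leaf 0))) (.node (.node (.leaf 18858) (.leaf 0)) (.node (.leaf 1435) (.leaf 0)))) (.node (.node (.node (.leaf 10587) (.leaf 13636)) (.node (.leaf 10074) (.leaf 0))) (.node (.node (.leaf 4329) (.leaf 0)) (.node (.leaf 18884) (.leaf 0))))) (.node (.node (.node (.node (.leaf 12479) (.leaf 19866)) (.node (.leaf 10177) (.leaf 0))) (.node (.node (.leaf 7935) (.leaf 0)) (.node (.leaf 2852) (.leaf 0)))) (.node (.node (.node (.leaf 13470) (.leaf 13864)) (.node (.leaf 2515) (.leaf 0))) (.node (.node (.leaf 2630) (.leaf 0)) (.node (.leaf 1540) (.leaf 0)))))))) (.node (.node (.node (.node (.node (.node (.node (.leaf 16728) (.leaf 19605)) (.node (.leaf 8465) (.leaf 0))) (.node (.node (.leaf 8042) (.leaf 0)) (.node (.leaf 10999) (.leaf 0)))) (.node (.node (.node (.leaf 19300) (.leaf 11629)) (.node (.leaf 17030) (.leaf 0))) (.node (.node (.leaf 14491) (.leaf 0)) (.node (.leaf 833) (.leaf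 0))))) (.node (.node (.node (.node (.leaf 5313) (.leaf 10751)) (.node (.leaf 3324) (.leaf 0))) (.node (.node (.leaf 6345) (.leaf 0)) (.node (.leaf 16373) (.leaf 0)))) (.node (.node (.node (.leaf 6678) (.leaf 7508)) (.node (.leaf 12538) (.leaf 0))) (.node (.node (.leaf 14396) (.leaf 0)) (.node (.leaf 4774) (.leaf 0)))))) (.node (.node (.node (.node (.node (.leaf 3079) (.leaf 17054)) (.node (.leaf 3138) (.leaf 0))) (.node (.node (.leaf 7484) (.leaf 0)) (.node (.leaf 4553) (.leaf 0)))) (.node (.node (.node (.leaf 10268) (.leaf 6117)) (.node (.leaf 9696) (.leaf 0))) (.node (.node (.leaf 12089) (.leaf 0)) (.node (.leaf 2156) (.leaf 0))))) (.node (.node (.node (.node (.leaf 9165) (.leaf 4803)) (.node (.leaf 10697) (.leaf 0))) (.node (.node (.leaf 9927) (.leaf 0)) (.node (.leaf 13318) (.leaf 0)))) (.node (.node (.node (.leaf 10086) (.leaf 9059)) (.node (.leaf 19986) (.leaf 0))) (.node (.node (.leaf 6923) (.leaf 0)) (.node (.leaf 11604) (.leaf 0))))))) (.node (.node (.node (.node (.node (.node (.leaf 18545) (.leaf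 11668)) (.node (.leaf 14765) (.leaf 0))) (.node (.node (.leaf 18889) (.leaf 0)) (.node (.leaf 19444) (.leaf 0)))) (.node (.node (.node (.leaf 10935) (.leaf 9414)) (.node (.leaf 12634) (.leaf 0))) (.node (.node (.leaf 18695) (.leaf 0)) (.node (.leaf 10787) (.leaf 0))))) (.node (.node (.node (.node (.leaf 4839) (.leaf 2616)) (.node (.leaf 12178) (.leaf 0))) (.node (.node (.leaf 13035) (.leaf 0)) (.node (.leaf 836) (.leaf 0)))) (.node (.node (.node (.leaf 16009) (.leaf 4493)) (.node (.leaf 10445) (.leaf 0))) (.node (.node (.leaf 11630) (.leaf 0)) (.node (.leaf 12152) (.leaf 0)))))) (.node (.node (.node (.node (.node (.leaf 17280) (.leaf 1064)) (.node (.leaf 14238) (.leaf 0))) (.node (.node (.leaf 20053) (.leaf 0)) (.node (.leaf 9445) (.leaf 0)))) (.node (.node (.node (.leaf 9567) (.leaf 1254)) (.node (.leaf 8224) (.leaf 0))) (.node (.node (.leaf 15927) (.leaf 0)) (.node (.leaf 20282) (.leaf 0))))) (.node (.node (.node (.node (.leaf 7665) (.leaf 18484)) (.node (.leaf 5417) (.leaf 0))) (.node (.node (.leaf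 2269) (.leaf 0)) (.node (.leaf 10357) (.leaf 0)))) (.node (.node (.node (.leaf 7333) (.leaf 512)) (.node (.leaf 4390) (.leaf 0))) (.node (.node (.leaf 13920) (.leaf 0)) (.node (.leaf 18859) (.leaf 0))))))))

def omT14 : NT := .node (.node (.node (.node (.node (.node (.node (.node (.leaf 17887) (.leaf 2303)) (.node (.leaf 17606) (.leaf 0))) (.node (.node (.leaf 11454) (.leaf 4737)) (.node (.leaf 5973) (.leaf 0)))) (.node (.node (.node (.leaf 5992) (.leaf 5944)) (.node (.leaf 5214) (.leaf 0))) (.node (.node (.leaf 11766) (.leaf 0)) (.node (.leaf 2759) (.leaf 0))))) (.node (.node (.node (.node (.leaf 4133) (.leaf 2714)) (.node (.leaf 6669) (.leaf 0))) (.node (.node (.leaf 15575) (.leaf 0)) (.node (.leaf 3842) (.leaf 0)))) (.node (.node (.node (.leaf 5115) (.leaf 19950)) (.node (.leaf 4104) (.leaf 0))) (.node (.node (.leaf 12061) (.leaf 0)) (.node (.leaf 11780) (.leaf 0)))))) (.node (.node (.node (.node (.node (.leaf 4591) (.leaf 1151)) (.node (.leaf 10207) (.leaf 0))) (.node (.node (.leaf 18849) (.leaf 0))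 (.node (.leaf 19845) (.leaf 0)))) (.node (.node (.node (.leaf 14948) (.leaf 12393)) (.node (.leaf 15081) (.leaf 0))) (.node (.node (.leaf 13796) (.leaf 0)) (.node (.leaf 8699) (.leaf 0))))) (.node (.node (.node (.node (.leaf 18509) (.leaf 18637)) (.node (.leaf 4462) (.leaf 0))) (.node (.node (.leaf 302) (.leaf 0)) (.node (.leaf 16903) (.leaf 0)))) (.node (.node (.node (.leaf 4289) (.leaf 15894)) (.node (.leaf 227) (.leaf 0))) (.node (.node (.leaf 9548) (.leaf 0)) (.node (.leaf 16349) (.leaf 0))))))) (.node (.node (.node (.node (.node (.node (.leaf 20270) (.leaf 8085)) (.node (.leaf 12746) (.leaf 0))) (.node (.node (.leaf 3113) (.leaf 0)) (.node (.leaf 210) (.leaf 0)))) (.node (.node (.node (.leaf 14664) (.leaf 5478)) (.node (.leaf 4793) (.leaf 0))) (.node (.node (.leaf 15470) (.leaf 0)) (.node (.leaf 14167) (.leaf 0))))) (.node (.node (.node (.node (.leaf 1476) (.leaf 8779)) (.node (.leaf 2386) (.leaf 0))) (.node (.node (.leaf 7551) (.leaf 0)) (.node (.leaf 19935) (.leaf 0)))) (.node (.node (.node (.leaf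 12614) (.leaf 16490)) (.node (.leaf 2039) (.leaf 0))) (.node (.node (.leaf 9063) (.leaf 0)) (.node (.leaf 1918) (.leaf 0)))))) (.node (.node (.node (.node (.node (.leaf 16824) (.leaf 15215)) (.node (.leaf 12622) (.leaf 0))) (.node (.node (.leaf 6204) (.leaf 0)) (.node (.leaf 14395) (.leaf 0)))) (.node (.node (.node (.leaf 11238) (.leaf 3517)) (.node (.leaf 377) (.leaf 0))) (.node (.node (.leaf 8234) (.leaf 0)) (.node (.leaf 2385) (.leaf 0))))) (.node (.node (.node (.node (.leaf 14384) (.leaf 805)) (.node (.leaf 12362) (.leaf 0))) (.node (.node (.leaf 18690) (.leaf 0)) (.node (.leaf 5938) (.leaf 0)))) (.node (.node (.node (.leaf 14353) (.leaf 14338)) (.node (.leaf 17929) (.leaf 0))) (.node (.node (.leaf 5004) (.leaf 0)) (.node (.leaf 11451) (.leaf 0)))))))) (.node (.node (.node (.node (.node (.node (.node (.leaf 17820) (.leaf 9525)) (.node (.leaf 17823) (.leaf 0))) (.node (.node (.leaf 6552) (.leaf 0)) (.node (.leaf 8644) (.leaf 0)))) (.node (.node (.node (.leaf 2011) (.leaf 16391)) (.node (.leaf 2719)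 (.leaf 0))) (.node (.node (.leaf 13994) (.leaf 0)) (.node (.leaf 10883) (.leaf 0))))) (.node (.node (.node (.node (.leaf 14971) (.leaf 16379)) (.node (.leaf 6288) (.leaf 0))) (.node (.node (.leaf 19060) (.leaf 0)) (.node (.leaf 19172) (.leaf 0)))) (.node (.node (.node (.leaf 13009) (.leaf 20285)) (.node (.leaf 5235) (.leaf 0))) (.node (.node (.leaf 9495) (.leaf 0)) (.node (.leaf 7911) (.leaf 0)))))) (.node (.node (.node (.node (.node (.leaf 5957) (.leaf 14416)) (.node (.leaf 15238) (.leaf 0))) (.node (.node (.leaf 4747) (.leaf 0)) (.node (.leaf 3769) (.leaf 0)))) (.node (.node (.node (.leaf 4357) (.leaf 16431)) (.node (.leaf 7273) (.leaf 0))) (.node (.node (.leaf 12753) (.leaf 0)) (.node (.leaf 11878) (.leaf 0))))) (.node (.node (.node (.node (.leaf 19966) (.leaf 10144)) (.node (.leaf 14171) (.leaf 0))) (.node (.node (.leaf 7113) (.leaf 0)) (.node (.leaf 12777) (.leaf 0)))) (.node (.node (.node (.leaf 12805) (.leaf 17404)) (.node (.leaf 18957) (.leaf 0))) (.node (.node (.leaf 1939) (.leaf 0)) (.node (.leaf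 17469) (.leaf 0))))))) (.node (.node (.node (.node (.node (.node (.leaf 11221) (.leaf 747)) (.node (.leaf 18587) (.leaf 0))) (.node (.node (.leaf 11558) (.leaf 0)) (.node (.leaf 15099) (.leaf 0)))) (.node (.node (.node (.leaf 8628) (.leaf 11695)) (.node (.leaf 11939) (.leaf 0))) (.node (.node (.leaf 18715) (.leaf 0)) (.node (.leaf 8076) (.leaf 0))))) (.node (.node (.node (.node (.leaf 580) (.leaf 7304)) (.node (.leaf 6886) (.leaf 0))) (.node (.node (.leaf 13273) (.leaf 0)) (.node (.leaf 20221) (.leaf 0)))) (.node (.node (.node (.leaf 11752) (.leaf 12356)) (.node (.leaf 155) (.leaf 0))) (.node (.node (.leaf 2382) (.leaf 0)) (.node (.leaf 20056) (.leaf 0)))))) (.node (.node (.node (.node (.node (.leaf 17658) (.leaf 4580)) (.node (.leaf 8543) (.leaf 0))) (.node (.node (.leaf 20074) (.leaf 0)) (.node (.leaf 19007) (.leaf 0)))) (.node (.node (.node (.leaf 16607) (.leaf 1751)) (.node (.leaf 5048) (.leaf 0))) (.node (.node (.leaf 129) (.leaf 0)) (.node (.leaf 3603) (.leaf 0))))) (.node (.node (.node (.node (.leaf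 7219) (.leaf 12925)) (.node (.leaf 5221) (.leaf 0))) (.node (.node (.leaf 11893) (.leaf 0)) (.node (.leaf 2297) (.leaf 0)))) (.node (.node (.node (.leaf 7511) (.leaf 6709)) (.node (.leaf 951) (.leaf 0))) (.node (.node (.leaf 17583) (.leaf 0)) (.node (.leaf 15532) (.leaf 0))))))))

def omT15 : NT := .node (.node (.node (.node (.node (.node (.node (.node (.leaf 18649) (.leaf 19880)) (.node (.leaf 5774) (.leaf 0))) (.node (.node (.leaf 11364) (.leaf 19669)) (.node (.leaf 2293) (.leaf 0)))) (.node (.node (.node (.leaf 7232) (.leaf 13900)) (.node (.leaf 17858) (.leaf 0))) (.node (.node (.leaf 8032) (.leaf 0)) (.node (.leaf 20362) (.leaf 0))))) (.node (.node (.node (.node (.leaf 360) (.leaf 20487)) (.node (.leaf 296) (.leaf 0))) (.node (.node (.leaf 10582) (.leaf 0)) (.node (.leaf 2060) (.leaf 0)))) (.node (.node (.node (.leaf 2457) (.leaf 14164)) (.node (.leaf 3918) (.leaf 0))) (.node (.node (.leaf 11928) (.leaf 0)) (.node (.leaf 10284) (.leaf 0)))))) (.node (.node (.node (.node (.node (.leaf 7612) (.leaf 7871))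 (.node (.leaf 9399) (.leaf 0))) (.node (.node (.leaf 14838) (.leaf 0)) (.node (.leaf 4750) (.leaf 0)))) (.node (.node (.node (.leaf 2204) (.leaf 13697)) (.node (.leaf 18928) (.leaf 0))) (.node (.node (.leaf 9764) (.leaf 0)) (.node (.leaf 1933) (.leaf 0))))) (.node (.node (.node (.node (.leaf 7592) (.leaf 15022)) (.node (.leaf 446) (.leaf 0))) (.node (.node (.leaf 13194) (.leaf 0)) (.node (.leaf 6186) (.leaf 0)))) (.node (.node (.node (.leaf 2766) (.leaf 7519)) (.node (.leaf 8636) (.leaf 0))) (.node (.node (.leaf 14289) (.leaf 0)) (.node (.leaf 3905) (.leaf 0))))))) (.node (.node (.node (.node (.node (.node (.leaf 16265) (.leaf 3987)) (.node (.leaf 13085) (.leaf 0))) (.node (.node (.leaf 11853) (.leaf 0)) (.node (.leaf 17264) (.leaf 0)))) (.node (.node (.node (.leaf 6694) (.leaf 7034)) (.node (.leaf 13377) (.leaf 0))) (.node (.node (.leaf 912) (.leaf 0)) (.node (.leaf 11777) (.leaf 0))))) (.node (.node (.node (.node (.leaf 6063) (.leaf 563)) (.node (.leaf 602) (.leaf 0))) (.node (.node (.leaf 2807) (.leaf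 0)) (.node (.leaf 402) (.leaf 0)))) (.node (.node (.node (.leaf 1372) (.leaf 14214)) (.node (.leaf 13720) (.leaf 0))) (.node (.node (.leaf 2094) (.leaf 0)) (.node (.leaf 18832) (.leaf 0)))))) (.node (.node (.node (.node (.node (.leaf 1644) (.leaf 11543)) (.node (.leaf 1107) (.leaf 0))) (.node (.node (.leaf 20421) (.leaf 0)) (.node (.leaf 486) (.leaf 0)))) (.node (.node (.node (.leaf 3519) (.leaf 14592)) (.node (.leaf 1071) (.leaf 0))) (.node (.node (.leaf 9241) (.leaf 0)) (.node (.leaf 16805) (.leaf 0))))) (.node (.node (.node (.node (.leaf 3776) (.leaf 1031)) (.node (.leaf 6020) (.leaf 0))) (.node (.node (.leaf 16069) (.leaf 0)) (.node (.leaf 14682) (.leaf 0)))) (.node (.node (.node (.leaf 8379) (.leaf 18175)) (.node (.leaf 6519) (.leaf 0))) (.node (.node (.leaf 933) (.leaf 0)) (.node (.leaf 10028) (.leaf 0)))))))) (.node (.node (.node (.node (.node (.node (.node (.leaf 8697) (.leaf 2155)) (.node (.leaf 15196) (.leaf 0))) (.node (.node (.leaf 20086) (.leaf 0)) (.node (.leaf 4154) (.leaf 0)))) (.node (.node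 (.node (.leaf 13160) (.leaf 9394)) (.node (.leaf 20468) (.leaf 0))) (.node (.node (.leaf 6921) (.leaf 0)) (.node (.leaf 8839) (.leaf 0))))) (.node (.node (.node (.node (.leaf 19231) (.leaf 7025)) (.node (.leaf 8703) (.leaf 0))) (.node (.node (.leaf 3515) (.leaf 0)) (.node (.leaf 15516) (.leaf 0)))) (.node (.node (.node (.leaf 5501) (.leaf 7442)) (.node (.leaf 14473) (.leaf 0))) (.node (.node (.leaf 5403) (.leaf 0)) (.node (.leaf 12942) (.leaf 0)))))) (.node (.node (.node (.node (.node (.leaf 2105) (.leaf 19555)) (.node (.leaf 11233) (.leaf 0))) (.node (.node (.leaf 6095) (.leaf 0)) (.node (.leaf 16) (.leaf 0)))) (.node (.node (.node (.leaf 529) (.leaf 5994)) (.node (.leaf 9843) (.leaf 0))) (.node (.node (.leaf 7879) (.leaf 0)) (.node (.leaf 3937) (.leaf 0))))) (.node (.node (.node (.node (.leaf 19943) (.leaf 613)) (.node (.leaf 246) (.leaf 0))) (.node (.node (.leaf 18894) (.leaf 0)) (.node (.leaf 4331) (.leaf 0)))) (.node (.node (.node (.leaf 12624) (.leaf 16353)) (.node (.leaf 3394) (.leaf 0))) (.node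 (.node (.leaf 1685) (.leaf 0)) (.node (.leaf 14580) (.leaf 0))))))) (.node (.node (.node (.node (.node (.node (.leaf 8497) (.leaf 15535)) (.node (.leaf 16065) (.leaf 0))) (.node (.node (.leaf 11914) (.leaf 0)) (.node (.leaf 20063) (.leaf 0)))) (.node (.node (.node (.leaf 18138) (.leaf 17619)) (.node (.leaf 16730) (.leaf 0))) (.node (.node (.leaf 11848) (.leaf 0)) (.node (.leaf 11132) (.leaf 0))))) (.node (.node (.node (.node (.leaf 9668) (.leaf 20247)) (.node (.leaf 3938) (.leaf 0))) (.node (.node (.leaf 15983) (.leaf 0)) (.node (.leaf 4726) (.leaf 0)))) (.node (.node (.node (.leaf 6562) (.leaf 10696)) (.node (.leaf 3319) (.leaf 0))) (.node (.node (.leaf 19149) (.leaf 0)) (.node (.leaf 15813) (.leaf 0)))))) (.node (.node (.node (.node (.node (.leaf 11199) (.leaf 2732)) (.node (.leaf 2074) (.leaf 0))) (.node (.node (.leaf 15893) (.leaf 0)) (.node (.leaf 2422) (.leaf 0)))) (.node (.node (.node (.leaf 3623) (.leaf 1990)) (.node (.leaf 9674) (.leaf 0))) (.node (.node (.leaf 10336) (.leaf 0)) (.node (.leaf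 2950) (.leaf 0))))) (.node (.node (.node (.node (.leaf 19680) (.leaf 7215)) (.node (.leaf 9477) (.leaf 0))) (.node (.node (.leaf 9313) (.leaf 0)) (.node (.leaf 14023) (.leaf 0)))) (.node (.node (.node (.leaf 4733) (.leaf 15115)) (.node (.leaf 3967) (.leaf 0))) (.node (.node (.leaf 4887) (.leaf 0)) (.node (.leaf 6662) (.leaf 0))))))))

def omT16 : NT := .node (.node (.node (.node (.node (.node (.node (.node (.leaf 16666) (.leaf 2864)) (.node (.leaf 16526) (.leaf 0))) (.node (.node (.leaf 1124) (.leaf 19954)) (.node (.leaf 6611) (.leaf 0)))) (.node (.node (.node (.leaf 15683) (.leaf 8233)) (.node (.leaf 2124) (.leaf 0))) (.node (.node (.leaf 7652) (.leaf 0)) (.node (.leaf 9815) (.leaf 0))))) (.node (.node (.node (.node (.leaf 10686) (.leaf 3127)) (.node (.leaf 1699) (.leaf 0))) (.node (.node (.leaf 6159) (.leaf 0)) (.node (.leaf 9225) (.leaf 0)))) (.node (.node (.node (.leaf 5128) (.leaf 7567)) (.node (.leaf 14815) (.leaf 0))) (.node (.node (.leaf 4250) (.leaf 0)) (.node (.leaf 20387) (.leaf 0)))))) (.node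 (.node (.node (.node (.node (.leaf 5119) (.leaf 11756)) (.node (.leaf 14414) (.leaf 0))) (.node (.node (.leaf 11517) (.leaf 0)) (.node (.leaf 13184) (.leaf 0)))) (.node (.node (.node (.leaf 7469) (.leaf 1806)) (.node (.leaf 6359) (.leaf 0))) (.node (.node (.leaf 11781) (.leaf 0)) (.node (.leaf 3514) (.leaf 0))))) (.node (.node (.node (.node (.leaf 103) (.leaf 774)) (.node (.leaf 2557) (.leaf 0))) (.node (.node (.leaf 853) (.leaf 0)) (.node (.leaf 8427) (.leaf 0)))) (.node (.node (.node (.leaf 19722) (.leaf 5069)) (.node (.leaf 6958) (.leaf 0))) (.node (.node (.leaf 3033) (.leaf 0)) (.node (.leaf 3462) (.leaf 0))))))) (.node (.node (.node (.node (.node (.node (.leaf 14029) (.leaf 10324)) (.node (.leaf 6364) (.leaf 0))) (.node (.node (.leaf 14855) (.leaf 0)) (.node (.leaf 14075) (.leaf 0)))) (.node (.node (.node (.leaf 12690) (.leaf 5577)) (.node (.leaf 19720) (.leaf 0))) (.node (.node (.leaf 11686) (.leaf 0)) (.node (.leaf 5797) (.leaf 0))))) (.node (.node (.node (.node (.leaf 5967) (.leaf 7427)) (.node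 (.leaf 16249) (.leaf 0))) (.node (.node (.leaf 19081) (.leaf 0)) (.node (.leaf 10658) (.leaf 0)))) (.node (.node (.node (.leaf 14727) (.leaf 16222)) (.node (.leaf 17266) (.leaf 0))) (.node (.node (.leaf 11611) (.leaf 0)) (.node (.leaf 7820) (.leaf 0)))))) (.node (.node (.node (.node (.node (.leaf 1328) (.leaf 10289)) (.node (.leaf 10293) (.leaf 0))) (.node (.node (.leaf 3055) (.leaf 0)) (.node (.leaf 2144) (.leaf 0)))) (.node (.node (.node (.leaf 15517) (.leaf 18852)) (.node (.leaf 15086) (.leaf 0))) (.node (.node (.leaf 16973) (.leaf 0)) (.node (.leaf 7013) (.leaf 0))))) (.node (.node (.node (.node (.leaf 15295) (.leaf 3959)) (.node (.leaf 1402) (.leaf 0))) (.node (.node (.leaf 10616) (.leaf 0)) (.node (.leaf 1384) (.leaf 0)))) (.node (.node (.node (.leaf 12534) (.leaf 8694)) (.node (.leaf 3943) (.leaf 0))) (.node (.node (.leaf 18745) (.leaf 0)) (.node (.leaf 7099) (.leaf 0)))))))) (.node (.node (.node (.node (.node (.node (.node (.leaf 3556) (.leaf 14138)) (.node (.leaf 18346) (.leaf 0))) (.node (.node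 (.leaf 6890) (.leaf 0)) (.node (.leaf 15542) (.leaf 0)))) (.node (.node (.node (.leaf 16755) (.leaf 12709)) (.node (.leaf 6079) (.leaf 0))) (.node (.node (.leaf 11456) (.leaf 0)) (.node (.leaf 17707) (.leaf 0))))) (.node (.node (.node (.node (.leaf 18494) (.leaf 7631)) (.node (.leaf 9086) (.leaf 0))) (.node (.node (.leaf 6111) (.leaf 0)) (.node (.leaf 2650) (.leaf 0)))) (.node (.node (.node (.leaf 5019) (.leaf 12312)) (.node (.leaf 2810) (.leaf 0))) (.node (.node (.leaf 18318) (.leaf 0)) (.node (.leaf 11088) (.leaf 0)))))) (.node (.node (.node (.node (.node (.leaf 12502) (.leaf 17616)) (.node (.leaf 13071) (.leaf 0))) (.node (.node (.leaf 969) (.leaf 0)) (.node (.leaf 4411) (.leaf 0)))) (.node (.node (.node (.leaf 12046) (.leaf 17829)) (.node (.leaf 5604) (.leaf 0))) (.node (.node (.leaf 8243) (.leaf 0)) (.node (.leaf 17831) (.leaf 0))))) (.node (.node (.node (.node (.leaf 9898) (.leaf 3406)) (.node (.leaf 5123) (.leaf 0))) (.node (.node (.leaf 6201) (.leaf 0)) (.node (.leaf 691) (.leaf 0)))) (.node (.node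 (.node (.leaf 18749) (.leaf 13496)) (.node (.leaf 7951) (.leaf 0))) (.node (.node (.leaf 11501) (.leaf 0)) (.node (.leaf 5038) (.leaf 0))))))) (.node (.node (.node (.node (.node (.node (.leaf 10892) (.leaf 17377)) (.node (.leaf 15053) (.leaf 0))) (.node (.node (.leaf 12726) (.leaf 0)) (.node (.leaf 16232) (.leaf 0)))) (.node (.node (.node (.leaf 17007) (.leaf 20206)) (.node (.leaf 8291) (.leaf 0))) (.node (.node (.leaf 19949) (.leaf 0)) (.node (.leaf 1429) (.leaf 0))))) (.node (.node (.node (.node (.leaf 15329) (.leaf 2876)) (.node (.leaf 7012) (.leaf 0))) (.node (.node (.leaf 4298) (.leaf 0)) (.node (.leaf 4343) (.leaf 0)))) (.node (.node (.node (.leaf 7064) (.leaf 3582)) (.node (.leaf 17947) (.leaf 0))) (.node (.node (.leaf 16889) (.leaf 0)) (.node (.leaf 3465) (.leaf 0)))))) (.node (.node (.node (.node (.node (.leaf 12792) (.leaf 1212)) (.node (.leaf 1495) (.leaf 0))) (.node (.node (.leaf 11726) (.leaf 0)) (.node (.leaf 13215) (.leaf 0)))) (.node (.node (.node (.leaf 3565) (.leaf 12961)) (.node (.leaf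 14905) (.leaf 0))) (.node (.node (.leaf 6822) (.leaf 0)) (.node (.leaf 11025) (.leaf 0))))) (.node (.node (.node (.node (.leaf 1166) (.leaf 5432)) (.node (.leaf 15770) (.leaf 0))) (.node (.node (.leaf 11305) (.leaf 0)) (.node (.leaf 18735) (.leaf 0)))) (.node (.node (.node (.leaf 2982) (.leaf 12858)) (.node (.leaf 16852) (.leaf 0))) (.node (.node (.leaf 2850) (.leaf 0)) (.node (.leaf 934) (.leaf 0))))))))

def omT17 : NT := .node (.node (.node (.node (.node (.node (.node (.node (.leaf 13065) (.leaf 4903)) (.node (.leaf 9876) (.leaf 0))) (.node (.node (.leaf 18103) (.leaf 3194)) (.node (.leaf 8681) (.leaf 0)))) (.node (.node (.node (.leaf 13491) (.leaf 20003)) (.node (.leaf 15669) (.leaf 0))) (.node (.node (.leaf 19595) (.leaf 0)) (.node (.leaf 1331) (.leaf 0))))) (.node (.node (.node (.node (.leaf 7326) (.leaf 1264)) (.node (.leaf 11523) (.leaf 0))) (.node (.node (.leaf 15049) (.leaf 0)) (.node (.leaf 17568) (.leaf 0)))) (.node (.node (.node (.leaf 13327) (.leaf 13121)) (.node (.leaf 17110) (.leaf 0)))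 (.node (.node (.leaf 3634) (.leaf 0)) (.node (.leaf 11709) (.leaf 0)))))) (.node (.node (.node (.node (.node (.leaf 9138) (.leaf 16423)) (.node (.leaf 9132) (.leaf 0))) (.node (.node (.leaf 18329) (.leaf 0)) (.node (.leaf 17005) (.leaf 0)))) (.node (.node (.node (.leaf 4121) (.leaf 13400)) (.node (.leaf 2428) (.leaf 0))) (.node (.node (.leaf 18391) (.leaf 0)) (.node (.leaf 2833) (.leaf 0))))) (.node (.node (.node (.node (.leaf 7601) (.leaf 7271)) (.node (.leaf 8555) (.leaf 0))) (.node (.node (.leaf 14109) (.leaf 0)) (.node (.leaf 4311) (.leaf 0)))) (.node (.node (.node (.leaf 1927) (.leaf 15194)) (.node (.leaf 18121) (.leaf 0))) (.node (.node (.leaf 6565) (.leaf 0)) (.node (.leaf 13451) (.leaf 0))))))) (.node (.node (.node (.node (.node (.node (.leaf 3291) (.leaf 3474)) (.node (.leaf 4405) (.leaf 0))) (.node (.node (.leaf 2558) (.leaf 0)) (.node (.leaf 3476) (.leaf 0)))) (.node (.node (.node (.leaf 19248) (.leaf 13087)) (.node (.leaf 12758) (.leaf 0))) (.node (.node (.leaf 16034) (.leaf 0)) (.node (.leaf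 12296) (.leaf 0))))) (.node (.node (.node (.node (.leaf 17822) (.leaf 7920)) (.node (.leaf 12426) (.leaf 0))) (.node (.node (.leaf 10834) (.leaf 0)) (.node (.leaf 568) (.leaf 0)))) (.node (.node (.node (.leaf 17019) (.leaf 6548)) (.node (.leaf 11774) (.leaf 0))) (.node (.node (.leaf 1556) (.leaf 0)) (.node (.leaf 277) (.leaf 0)))))) (.node (.node (.node (.node (.node (.leaf 15388) (.leaf 14910)) (.node (.leaf 132) (.leaf 0))) (.node (.node (.leaf 12191) (.leaf 0)) (.node (.leaf 10833) (.leaf 0)))) (.node (.node (.node (.leaf 4143) (.leaf 17879)) (.node (.leaf 1621) (.leaf 0))) (.node (.node (.leaf 20296) (.leaf 0)) (.node (.leaf 16637) (.leaf 0))))) (.node (.node (.node (.node (.leaf 12477) (.leaf 9644)) (.node (.leaf 190) (.leaf 0))) (.node (.node (.leaf 18897) (.leaf 0)) (.node (.leaf 2147) (.leaf 0)))) (.node (.node (.node (.leaf 10395) (.leaf 7907)) (.node (.leaf 11346) (.leaf 0))) (.node (.node (.leaf 4109) (.leaf 0)) (.node (.leaf 17591) (.leaf 0)))))))) (.node (.node (.node (.node (.node (.node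 (.node (.leaf 6979) (.leaf 10981)) (.node (.leaf 19979) (.leaf 0))) (.node (.node (.leaf 1534) (.leaf 0)) (.node (.leaf 18338) (.leaf 0)))) (.node (.node (.node (.leaf 9552) (.leaf 1302)) (.node (.leaf 19857) (.leaf 0))) (.node (.node (.leaf 17753) (.leaf 0)) (.node (.leaf 14169) (.leaf 0))))) (.node (.node (.node (.node (.leaf 10078) (.leaf 6513)) (.node (.leaf 7760) (.leaf 0))) (.node (.node (.leaf 10921) (.leaf 0)) (.node (.leaf 10648) (.leaf 0)))) (.node (.node (.node (.leaf 17199) (.leaf 19126)) (.node (.leaf 7087) (.leaf 0))) (.node (.node (.leaf 3379) (.leaf 0)) (.node (.leaf 9581) (.leaf 0)))))) (.node (.node (.node (.node (.node (.leaf 20228) (.leaf 2033)) (.node (.leaf 598) (.leaf 0))) (.node (.node (.leaf 8261) (.leaf 0)) (.node (.leaf 319) (.leaf 0)))) (.node (.node (.node (.leaf 11060) (.leaf 14762)) (.node (.leaf 18258) (.leaf 0))) (.node (.node (.leaf 7865) (.leaf 0)) (.node (.leaf 14864) (.leaf 0))))) (.node (.node (.node (.node (.leaf 8044) (.leaf 17093)) (.node (.leaf 4938) (.leaf 0)))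 (.node (.node (.leaf 5045) (.leaf 0)) (.node (.leaf 18949) (.leaf 0)))) (.node (.node (.node (.leaf 8943) (.leaf 164)) (.node (.leaf 629) (.leaf 0))) (.node (.node (.leaf 17015) (.leaf 0)) (.node (.leaf 18750) (.leaf 0))))))) (.node (.node (.node (.node (.node (.node (.leaf 8302) (.leaf 9760)) (.node (.leaf 12845) (.leaf 0))) (.node (.node (.leaf 2029) (.leaf 0)) (.node (.leaf 15173) (.leaf 0)))) (.node (.node (.node (.leaf 2098) (.leaf 14961)) (.node (.leaf 18597) (.leaf 0))) (.node (.node (.leaf 18401) (.leaf 0)) (.node (.leaf 18702) (.leaf 0))))) (.node (.node (.node (.node (.leaf 16341) (.leaf 4066)) (.node (.leaf 6357) (.leaf 0))) (.node (.node (.leaf 11667) (.leaf 0)) (.node (.leaf 6450) (.leaf 0)))) (.node (.node (.node (.leaf 20350) (.leaf 1881)) (.node (.leaf 18868) (.leaf 0))) (.node (.node (.leaf 11319) (.leaf 0)) (.node (.leaf 2988) (.leaf 0)))))) (.node (.node (.node (.node (.node (.leaf 5238) (.leaf 8861)) (.node (.leaf 8413) (.leaf 0))) (.node (.node (.leaf 1463) (.leaf 0)) (.node (.leaf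 16186) (.leaf 0)))) (.node (.node (.node (.leaf 5044) (.leaf 15721)) (.node (.leaf 8096) (.leaf 0))) (.node (.node (.leaf 1018) (.leaf 0)) (.node (.leaf 1348) (.leaf 0))))) (.node (.node (.node (.node (.leaf 6489) (.leaf 12985)) (.node (.leaf 14101) (.leaf 0))) (.node (.node (.leaf 20100) (.leaf 0)) (.node (.leaf 10947) (.leaf 0)))) (.node (.node (.node (.leaf 10140) (.leaf 4604)) (.node (.leaf 133) (.leaf 0))) (.node (.node (.leaf 14477) (.leaf 0)) (.node (.leaf 6150) (.leaf 0))))))))

def omT18 : NT := .node (.node (.node (.node (.node (.node (.node (.node (.leaf 3497) (.leaf 17645)) (.node (.leaf 6508) (.leaf 0))) (.node (.node (.leaf 1804) (.leaf 10404)) (.node (.leaf 9190) (.leaf 0)))) (.node (.node (.node (.leaf 19894) (.leaf 3948)) (.node (.leaf 18780) (.leaf 0))) (.node (.node (.leaf 15880) (.leaf 0)) (.node (.leaf 12499) (.leaf 0))))) (.node (.node (.node (.node (.leaf 7020) (.leaf 11306)) (.node (.leaf 7611) (.leaf 0))) (.node (.node (.leaf 13944) (.leaf 0)) (.node (.leaf 581) (.leaf 0)))) (.node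 (.node (.node (.leaf 12309) (.leaf 12335)) (.node (.leaf 15959) (.leaf 0))) (.node (.node (.leaf 11518) (.leaf 0)) (.node (.leaf 17760) (.leaf 0)))))) (.node (.node (.node (.node (.node (.leaf 2689) (.leaf 1248)) (.node (.leaf 9885) (.leaf 0))) (.node (.node (.leaf 12029) (.leaf 0)) (.node (.leaf 7072) (.leaf 0)))) (.node (.node (.node (.leaf 11392) (.leaf 2384)) (.node (.leaf 17371) (.leaf 0))) (.node (.node (.leaf 5220) (.leaf 0)) (.node (.leaf 7286) (.leaf 0))))) (.node (.node (.node (.node (.leaf 11099) (.leaf 6795)) (.node (.leaf 8428) (.leaf 0))) (.node (.node (.leaf 13453) (.leaf 0)) (.node (.leaf 1627) (.leaf 0)))) (.node (.node (.node (.leaf 15229) (.leaf 16614)) (.node (.leaf 2452) (.leaf 0))) (.node (.node (.leaf 19094) (.leaf 0)) (.node (.leaf 15527) (.leaf 0))))))) (.node (.node (.node (.node (.node (.node (.leaf 7873) (.leaf 4512)) (.node (.leaf 963) (.leaf 0))) (.node (.node (.leaf 20306) (.leaf 0)) (.node (.leaf 4810) (.leaf 0)))) (.node (.node (.node (.leaf 9386) (.leaf 12382)) (.node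 (.leaf 17006) (.leaf 0))) (.node (.node (.leaf 6803) (.leaf 0)) (.node (.leaf 20007) (.leaf 0))))) (.node (.node (.node (.node (.leaf 7566) (.leaf 8081)) (.node (.leaf 7734) (.leaf 0))) (.node (.node (.leaf 18821) (.leaf 0)) (.node (.leaf 318) (.leaf 0)))) (.node (.node (.node (.leaf 6216) (.leaf 9403)) (.node (.leaf 6101) (.leaf 0))) (.node (.node (.leaf 16670) (.leaf 0)) (.node (.leaf 15182) (.leaf 0)))))) (.node (.node (.node (.node (.node (.leaf 10083) (.leaf 12425)) (.node (.leaf 6228) (.leaf 0))) (.node (.node (.leaf 19536) (.leaf 0)) (.node (.leaf 2516) (.leaf 0)))) (.node (.node (.node (.leaf 13499) (.leaf 12579)) (.node (.leaf 17435) (.leaf 0))) (.node (.node (.leaf 4008) (.leaf 0)) (.node (.leaf 13249) (.leaf 0))))) (.node (.node (.node (.node (.leaf 814) (.leaf 18160)) (.node (.leaf 2571) (.leaf 0))) (.node (.node (.leaf 15967) (.leaf 0)) (.node (.leaf 15916) (.leaf 0)))) (.node (.node (.node (.leaf 14278) (.leaf 8063)) (.node (.leaf 13809) (.leaf 0))) (.node (.node (.leaf 19645) (.leaf 0))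 (.node (.leaf 2903) (.leaf 0)))))))) (.node (.node (.node (.node (.node (.node (.node (.leaf 5779) (.leaf 20459)) (.node (.leaf 20418) (.leaf 0))) (.node (.node (.leaf 7792) (.leaf 0)) (.node (.leaf 6069) (.leaf 0)))) (.node (.node (.node (.leaf 10511) (.leaf 3296)) (.node (.leaf 9938) (.leaf 0))) (.node (.node (.leaf 5303) (.leaf 0)) (.node (.leaf 15559) (.leaf 0))))) (.node (.node (.node (.node (.leaf 10636) (.leaf 12306)) (.node (.leaf 7833) (.leaf 0))) (.node (.node (.leaf 9319) (.leaf 0)) (.node (.leaf 260) (.leaf 0)))) (.node (.node (.node (.leaf 13754) (.leaf 13644)) (.node (.leaf 2141) (.leaf 0))) (.node (.node (.leaf 15526) (.leaf 0)) (.node (.leaf 11582) (.leaf 0)))))) (.node (.node (.node (.node (.node (.leaf 15447) (.leaf 14270)) (.node (.leaf 12094) (.leaf 0))) (.node (.node (.leaf 8329) (.leaf 0)) (.node (.leaf 516) (.leaf 0)))) (.node (.node (.node (.leaf 15002) (.leaf 5285)) (.node (.leaf 13962) (.leaf 0))) (.node (.node (.leaf 18101) (.leaf 0)) (.node (.leaf 18892) (.leaf 0))))) (.node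 (.node (.node (.node (.leaf 11835) (.leaf 20499)) (.node (.leaf 17497) (.leaf 0))) (.node (.node (.leaf 11793) (.leaf 0)) (.node (.leaf 19914) (.leaf 0)))) (.node (.node (.node (.leaf 7434) (.leaf 921)) (.node (.leaf 20273) (.leaf 0))) (.node (.node (.leaf 15369) (.leaf 0)) (.node (.leaf 5413) (.leaf 0))))))) (.node (.node (.node (.node (.node (.node (.leaf 14195) (.leaf 1067)) (.node (.leaf 14714) (.leaf 0))) (.node (.node (.leaf 5370) (.leaf 0)) (.node (.leaf 10716) (.leaf 0)))) (.node (.node (.node (.leaf 5482) (.leaf 4034)) (.node (.leaf 7307) (.leaf 0))) (.node (.node (.leaf 10840) (.leaf 0)) (.node (.leaf 5827) (.leaf 0))))) (.node (.node (.node (.node (.leaf 17506) (.leaf 11311)) (.node (.leaf 4570) (.leaf 0))) (.node (.node (.leaf 15250) (.leaf 0)) (.node (.leaf 10614) (.leaf 0)))) (.node (.node (.node (.leaf 8662) (.leaf 1373)) (.node (.leaf 1006) (.leaf 0))) (.node (.node (.leaf 19636) (.leaf 0)) (.node (.leaf 6305) (.leaf 0)))))) (.node (.node (.node (.node (.node (.leaf 13522) (.leaf 16837))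 (.node (.leaf 375) (.leaf 0))) (.node (.node (.leaf 8835) (.leaf 0)) (.node (.leaf 10172) (.leaf 0)))) (.node (.node (.node (.leaf 18475) (.leaf 12326)) (.node (.leaf 807) (.leaf 0))) (.node (.node (.leaf 13315) (.leaf 0)) (.node (.leaf 18280) (.leaf 0))))) (.node (.node (.node (.node (.leaf 19543) (.leaf 20472)) (.node (.leaf 19909) (.leaf 0))) (.node (.node (.leaf 7459) (.leaf 0)) (.node (.leaf 2134) (.leaf 0)))) (.node (.node (.node (.leaf 5586) (.leaf 8810)) (.node (.leaf 9172) (.leaf 0))) (.node (.node (.leaf 11378) (.leaf 0)) (.node (.leaf 389) (.leaf 0))))))))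

def omT19 : NT := .node (.node (.node (.node (.node (.node (.node (.node (.leaf 15588) (.leaf 8151)) (.node (.leaf 12856) (.leaf 0))) (.node (.node (.leaf 12703) (.leaf 17636)) (.node (.leaf 6294) (.leaf 0)))) (.node (.node (.node (.leaf 5724) (.leaf 10867)) (.node (.leaf 49) (.leaf 0))) (.node (.node (.leaf 1387) (.leaf 0)) (.node (.leaf 757) (.leaf 0))))) (.node (.node (.node (.node (.leaf 286) (.leaf 1873)) (.node (.leaf 15289) (.leaf 0))) (.node (.node (.leaf 10417) (.leaf 0)) (.node (.leaf 12008) (.leaf 0)))) (.node (.node (.node (.leaf 17411) (.leaf 18583)) (.node (.leaf 98) (.leaf 0))) (.node (.node (.leaf 10891) (.leaf 0)) (.node (.leaf 18612) (.leaf 0)))))) (.node (.node (.node (.node (.node (.leaf 10722) (.leaf 7176)) (.node (.leaf 124) (.leaf 0))) (.node (.node (.leaf 14607) (.leaf 0)) (.node (.leaf 14085) (.leaf 0)))) (.node (.node (.node (.leaf 13649) (.leaf 660)) (.node (.leaf 15294) (.leaf 0))) (.node (.node (.leaf 10899) (.leaf 0)) (.node (.leaf 4240) (.leaf 0))))) (.node (.node (.node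 (.node (.leaf 16648) (.leaf 3217)) (.node (.leaf 2520) (.leaf 0))) (.node (.node (.leaf 10729) (.leaf 0)) (.node (.leaf 5480) (.leaf 0)))) (.node (.node (.node (.leaf 13122) (.leaf 19746)) (.node (.leaf 19162) (.leaf 0))) (.node (.node (.leaf 6947) (.leaf 0)) (.node (.leaf 11070) (.leaf 0))))))) (.node (.node (.node (.node (.node (.node (.leaf 795) (.leaf 7794)) (.node (.leaf 3229) (.leaf 0))) (.node (.node (.leaf 8725) (.leaf 0)) (.node (.leaf 10849) (.leaf 0)))) (.node (.node (.node (.leaf 10862) (.leaf 8613)) (.node (.leaf 7746) (.leaf 0))) (.node (.node (.leaf 12798) (.leaf 0)) (.node (.leaf 16326) (.leaf 0))))) (.node (.node (.node (.node (.leaf 5981) (.leaf 6302)) (.node (.leaf 19458) (.leaf 0))) (.node (.node (.leaf 2817) (.leaf 0)) (.node (.leaf 9413) (.leaf 0)))) (.node (.node (.node (.leaf 7054) (.leaf 6098)) (.node (.leaf 17852) (.leaf 0))) (.node (.node (.leaf 7069) (.leaf 0)) (.node (.leaf 14355) (.leaf 0)))))) (.node (.node (.node (.node (.node (.leaf 8942) (.leaf 3801)) (.node (.leaf 14570)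 (.leaf 0))) (.node (.node (.leaf 3441) (.leaf 0)) (.node (.leaf 12056) (.leaf 0)))) (.node (.node (.node (.leaf 14543) (.leaf 6561)) (.node (.leaf 4208) (.leaf 0))) (.node (.node (.leaf 12734) (.leaf 0)) (.node (.leaf 20367) (.leaf 0))))) (.node (.node (.node (.node (.leaf 12864) (.leaf 10011)) (.node (.leaf 474) (.leaf 0))) (.node (.node (.leaf 9771) (.leaf 0)) (.node (.leaf 8418) (.leaf 0)))) (.node (.node (.node (.leaf 386) (.leaf 9000)) (.node (.leaf 6429) (.leaf 0))) (.node (.node (.leaf 9441) (.leaf 0)) (.node (.leaf 7236) (.leaf 0)))))))) (.node (.node (.node (.node (.node (.node (.node (.leaf 12405) (.leaf 10673)) (.node (.leaf 14026) (.leaf 0))) (.node (.node (.leaf 16062) (.leaf 0)) (.node (.leaf 10351) (.leaf 0)))) (.node (.node (.node (.leaf 15828) (.leaf 15072)) (.node (.leaf 9424) (.leaf 0))) (.node (.node (.leaf 2146) (.leaf 0)) (.node (.leaf 16272) (.leaf 0))))) (.node (.node (.node (.node (.leaf 16436) (.leaf 10228)) (.node (.leaf 5049) (.leaf 0))) (.node (.node (.leaf 1121) (.leaf 0))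 (.node (.leaf 14035) (.leaf 0)))) (.node (.node (.node (.leaf 18219) (.leaf 6365)) (.node (.leaf 1695) (.leaf 0))) (.node (.node (.leaf 18077) (.leaf 0)) (.node (.leaf 12660) (.leaf 0)))))) (.node (.node (.node (.node (.node (.leaf 15989) (.leaf 993)) (.node (.leaf 1249) (.leaf 0))) (.node (.node (.leaf 1853) (.leaf 0)) (.node (.leaf 1085) (.leaf 0)))) (.node (.node (.node (.leaf 14347) (.leaf 1941)) (.node (.leaf 7702) (.leaf 0))) (.node (.node (.leaf 15414) (.leaf 0)) (.node (.leaf 11078) (.leaf 0))))) (.node (.node (.node (.node (.leaf 96) (.leaf 2730)) (.node (.leaf 3415) (.leaf 0))) (.node (.node (.leaf 1961) (.leaf 0)) (.node (.leaf 18331) (.leaf 0)))) (.node (.node (.node (.leaf 18664) (.leaf 19913)) (.node (.leaf 7744) (.leaf 0))) (.node (.node (.leaf 10897) (.leaf 0)) (.node (.leaf 5581) (.leaf 0))))))) (.node (.node (.node (.node (.node (.node (.leaf 11705) (.leaf 6833)) (.node (.leaf 7650) (.leaf 0))) (.node (.node (.leaf 15298) (.leaf 0)) (.node (.leaf 3767) (.leaf 0)))) (.node (.node (.node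 (.leaf 19670) (.leaf 1992)) (.node (.leaf 12475) (.leaf 0))) (.node (.node (.leaf 15129) (.leaf 0)) (.node (.leaf 8864) (.leaf 0))))) (.node (.node (.node (.node (.leaf 18650) (.leaf 4167)) (.node (.leaf 8372) (.leaf 0))) (.node (.node (.leaf 7724) (.leaf 0)) (.node (.leaf 8933) (.leaf 0)))) (.node (.node (.node (.leaf 759) (.leaf 5175)) (.node (.leaf 5455) (.leaf 0))) (.node (.node (.leaf 2958) (.leaf 0)) (.node (.leaf 5006) (.leaf 0)))))) (.node (.node (.node (.node (.node (.leaf 5878) (.leaf 7155)) (.node (.leaf 5958) (.leaf 0))) (.node (.node (.leaf 17185) (.leaf 0)) (.node (.leaf 16668) (.leaf 0)))) (.node (.node (.node (.leaf 13504) (.leaf 7950)) (.node (.leaf 395) (.leaf 0))) (.node (.node (.leaf 9903) (.leaf 0)) (.node (.leaf 9285) (.leaf 0))))) (.node (.node (.node (.node (.leaf 18504) (.leaf 20395)) (.node (.leaf 15598) (.leaf 0))) (.node (.node (.leaf 20020) (.leaf 0)) (.node (.leaf 9472) (.leaf 0)))) (.node (.node (.node (.leaf 4892) (.leaf 17498)) (.node (.leaf 12638) (.leaf 0))) (.node (.node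 (.leaf 11491) (.leaf 0)) (.node (.leaf 12674) (.leaf 0))))))))

def omT20 : NT := .node (.node (.node (.node (.node (.node (.node (.node (.leaf 7123) (.leaf 12022)) (.node (.leaf 12455) (.leaf 0))) (.node (.node (.leaf 8840) (.leaf 1626)) (.node (.leaf 13100) (.leaf 0)))) (.node (.node (.node (.leaf 12953) (.leaf 14292)) (.node (.leaf 5203) (.leaf 0))) (.node (.node (.leaf 17101) (.leaf 0)) (.node (.leaf 1241) (.leaf 0))))) (.node (.node (.node (.node (.leaf 2165) (.leaf 20215)) (.node (.leaf 5140) (.leaf 0))) (.node (.node (.leaf 15011) (.leaf 0)) (.node (.leaf 10136) (.leaf 0)))) (.node (.node (.node (.leaf 14447) (.leaf 18610)) (.node (.leaf 10753) (.leaf 0))) (.node (.node (.leaf 18182) (.leaf 0)) (.node (.leaf 16031) (.leaf 0)))))) (.node (.node (.node (.node (.node (.leaf 761) (.leaf 18374)) (.node (.leaf 6615) (.leaf 0))) (.node (.node (.leaf 5811) (.leaf 0)) (.node (.leaf 11267) (.leaf 0)))) (.node (.node (.node (.leaf 16130) (.leaf 20415)) (.node (.leaf 9962) (.leaf 0))) (.node (.node (.leaf 7399)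 (.leaf 0)) (.node (.leaf 4706) (.leaf 0))))) (.node (.node (.node (.node (.leaf 15264) (.leaf 1367)) (.node (.leaf 5302) (.leaf 0))) (.node (.node (.leaf 689) (.leaf 0)) (.node (.leaf 14152) (.leaf 0)))) (.node (.node (.node (.leaf 15990) (.leaf 19581)) (.node (.leaf 16683) (.leaf 0))) (.node (.node (.leaf 10537) (.leaf 0)) (.node (.leaf 10585) (.leaf 0))))))) (.node (.node (.node (.node (.node (.node (.leaf 12567) (.leaf 17780)) (.node (.leaf 4118) (.leaf 0))) (.node (.node (.leaf 11171) (.leaf 0)) (.node (.leaf 9329) (.leaf 0)))) (.node (.node (.node (.leaf 8347) (.leaf 13725)) (.node (.leaf 781) (.leaf 0))) (.node (.node (.leaf 13711) (.leaf 0)) (.node (.leaf 15153) (.leaf 0))))) (.node (.node (.node (.node (.leaf 8990) (.leaf 6985)) (.node (.leaf 6741) (.leaf 0))) (.node (.node (.leaf 12672) (.leaf 0)) (.node (.leaf 16509) (.leaf 0)))) (.node (.node (.node (.leaf 4514) (.leaf 2276)) (.node (.leaf 11024) (.leaf 0))) (.node (.node (.leaf 10182) (.leaf 0)) (.node (.leaf 15332) (.leaf 0)))))) (.node (.node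 (.node (.node (.node (.leaf 15707) (.leaf 10246)) (.node (.leaf 6343) (.leaf 0))) (.node (.node (.leaf 14336) (.leaf 0)) (.node (.leaf 17997) (.leaf 0)))) (.node (.node (.node (.leaf 1554) (.leaf 5787)) (.node (.leaf 2021) (.leaf 0))) (.node (.node (.leaf 7440) (.leaf 0)) (.node (.leaf 11295) (.leaf 0))))) (.node (.node (.node (.node (.leaf 15844) (.leaf 362)) (.node (.leaf 17774) (.leaf 0))) (.node (.node (.leaf 18662) (.leaf 0)) (.node (.leaf 15883) (.leaf 0)))) (.node (.node (.node (.leaf 10072) (.leaf 5210)) (.node (.leaf 7576) (.leaf 0))) (.node (.node (.leaf 15368) (.leaf 0)) (.node (.leaf 7323) (.leaf 0)))))))) (.node (.node (.node (.node (.node (.node (.node (.leaf 14978) (.leaf 323)) (.node (.leaf 14121) (.leaf 0))) (.node (.node (.leaf 12223) (.leaf 0)) (.node (.leaf 3050) (.leaf 0)))) (.node (.node (.node (.leaf 19283) (.leaf 10447)) (.node (.leaf 213) (.leaf 0))) (.node (.node (.leaf 19462) (.leaf 0)) (.node (.leaf 898) (.leaf 0))))) (.node (.node (.node (.node (.leaf 4665) (.leaf 4820)) (.node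 (.leaf 15003) (.leaf 0))) (.node (.node (.leaf 2886) (.leaf 0)) (.node (.leaf 5376) (.leaf 0)))) (.node (.node (.node (.leaf 6066) (.leaf 1934)) (.node (.leaf 19804) (.leaf 0))) (.node (.node (.leaf 9796) (.leaf 0)) (.node (.leaf 10728) (.leaf 0)))))) (.node (.node (.node (.node (.node (.leaf 10272) (.leaf 8805)) (.node (.leaf 19021) (.leaf 0))) (.node (.node (.leaf 9452) (.leaf 0)) (.node (.leaf 5653) (.leaf 0)))) (.node (.node (.node (.leaf 14894) (.leaf 15637)) (.node (.leaf 7755) (.leaf 0))) (.node (.node (.leaf 10135) (.leaf 0)) (.node (.leaf 2722) (.leaf 0))))) (.node (.node (.node (.node (.leaf 6878) (.leaf 14975)) (.node (.leaf 15627) (.leaf 0))) (.node (.node (.leaf 1634) (.leaf 0)) (.node (.leaf 10298) (.leaf 0)))) (.node (.node (.node (.leaf 19102) (.leaf 7648)) (.node (.leaf 13971) (.leaf 0))) (.node (.node (.leaf 16684) (.leaf 0)) (.node (.leaf 15394) (.leaf 0))))))) (.node (.node (.node (.node (.node (.node (.leaf 8865) (.leaf 18300)) (.node (.leaf 889) (.leaf 0))) (.node (.node (.leaf 4465)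 (.leaf 0)) (.node (.leaf 14364) (.leaf 0)))) (.node (.node (.node (.leaf 12414) (.leaf 6807)) (.node (.leaf 712) (.leaf 0))) (.node (.node (.leaf 20015) (.leaf 0)) (.node (.leaf 15100) (.leaf 0))))) (.node (.node (.node (.node (.leaf 14020) (.leaf 2583)) (.node (.leaf 5332) (.leaf 0))) (.node (.node (.leaf 4709) (.leaf 0)) (.node (.leaf 3633) (.leaf 0)))) (.node (.node (.node (.leaf 15144) (.leaf 4365)) (.node (.leaf 18192) (.leaf 0))) (.node (.node (.leaf 2654) (.leaf 0)) (.node (.leaf 16127) (.leaf 0)))))) (.node (.node (.node (.node (.node (.leaf 4220) (.leaf 15632)) (.node (.leaf 1803) (.leaf 0))) (.node (.node (.leaf 7623) (.leaf 0)) (.node (.leaf 10663) (.leaf 0)))) (.node (.node (.node (.leaf 9382) (.leaf 3072)) (.node (.leaf 7975) (.leaf 0))) (.node (.node (.leaf 10219) (.leaf 0)) (.node (.leaf 11409) (.leaf 0))))) (.node (.node (.node (.node (.leaf 6942) (.leaf 11435)) (.node (.leaf 11610) (.leaf 0))) (.node (.node (.leaf 9256) (.leaf 0)) (.node (.leaf 4723) (.leaf 0)))) (.node (.node (.node (.leaf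 8626) (.leaf 15066)) (.node (.leaf 8643) (.leaf 0))) (.node (.node (.leaf 3459) (.leaf 0)) (.node (.leaf 6937) (.leaf 0))))))))

def omT21 : NT := .node (.node (.node (.node (.node (.node (.node (.node (.leaf 20396) (.leaf 14065)) (.node (.leaf 3221) (.leaf 0))) (.node (.node (.leaf 8601) (.leaf 4082)) (.node (.leaf 18042) (.leaf 0)))) (.node (.node (.node (.leaf 14400) (.leaf 7206)) (.node (.leaf 8490) (.leaf 0))) (.node (.node (.leaf 11920) (.leaf 0)) (.node (.leaf 9485) (.leaf 0))))) (.node (.node (.node (.node (.leaf 10156) (.leaf 19463)) (.node (.leaf 9379) (.leaf 0))) (.node (.node (.leaf 13844) (.leaf 0)) (.node (.leaf 9770) (.leaf 0)))) (.node (.node (.node (.leaf 7186) (.leaf 19138)) (.node (.leaf 4996) (.leaf 0))) (.node (.node (.leaf 19129) (.leaf 0)) (.node (.leaf 5986) (.leaf 0)))))) (.node (.node (.node (.node (.node (.leaf 8374) (.leaf 7061)) (.node (.leaf 7048) (.leaf 0))) (.node (.node (.leaf 10491) (.leaf 0)) (.node (.leaf 834) (.leaf 0)))) (.node (.node (.node (.leaf 13991) (.leaf 7268))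 (.node (.leaf 14051) (.leaf 0))) (.node (.node (.leaf 7400) (.leaf 0)) (.node (.leaf 16192) (.leaf 0))))) (.node (.node (.node (.node (.leaf 9950) (.leaf 15604)) (.node (.leaf 15221) (.leaf 0))) (.node (.node (.leaf 2900) (.leaf 0)) (.node (.leaf 356) (.leaf 0)))) (.node (.node (.node (.leaf 9593) (.leaf 17018)) (.node (.leaf 7549) (.leaf 0))) (.node (.node (.leaf 13875) (.leaf 0)) (.node (.leaf 8004) (.leaf 0))))))) (.node (.node (.node (.node (.node (.node (.leaf 6147) (.leaf 15044)) (.node (.leaf 140) (.leaf 0))) (.node (.node (.leaf 11500) (.leaf 0)) (.node (.leaf 12441) (.leaf 0)))) (.node (.node (.node (.leaf 1614) (.leaf 15954)) (.node (.leaf 14533) (.leaf 0))) (.node (.node (.leaf 2067) (.leaf 0)) (.node (.leaf 342) (.leaf 0))))) (.node (.node (.node (.node (.leaf 866) (.leaf 4444)) (.node (.leaf 10163) (.leaf 0))) (.node (.node (.leaf 19897) (.leaf 0)) (.node (.leaf 8648) (.leaf 0)))) (.node (.node (.node (.leaf 839) (.leaf 9189)) (.node (.leaf 2270) (.leaf 0))) (.node (.node (.leaf 1060) (.leaf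 0)) (.node (.leaf 15449) (.leaf 0)))))) (.node (.node (.node (.node (.node (.leaf 18912) (.leaf 18691)) (.node (.leaf 1750) (.leaf 0))) (.node (.node (.leaf 767) (.leaf 0)) (.node (.leaf 13753) (.leaf 0)))) (.node (.node (.node (.leaf 16355) (.leaf 9817)) (.node (.leaf 1324) (.leaf 0))) (.node (.node (.leaf 20090) (.leaf 0)) (.node (.leaf 2986) (.leaf 0))))) (.node (.node (.node (.node (.leaf 14996) (.leaf 13747)) (.node (.leaf 14389) (.leaf 0))) (.node (.node (.leaf 12377) (.leaf 0)) (.node (.leaf 16847) (.leaf 0)))) (.node (.node (.node (.leaf 10305) (.leaf 19898)) (.node (.leaf 5901) (.leaf 0))) (.node (.node (.leaf 6798) (.leaf 0)) (.node (.leaf 483) (.leaf 0)))))))) (.node (.node (.node (.node (.node (.node (.node (.leaf 10076) (.leaf 12226)) (.node (.leaf 19774) (.leaf 0))) (.node (.node (.leaf 10817) (.leaf 0)) (.node (.leaf 19022) (.leaf 0)))) (.node (.node (.node (.leaf 18111) (.leaf 3016)) (.node (.leaf 13158) (.leaf 0))) (.node (.node (.leaf 6010) (.leaf 0)) (.node (.leaf 11616) (.leaf 0)))))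 (.node (.node (.node (.node (.leaf 1092) (.leaf 19828)) (.node (.leaf 8216) (.leaf 0))) (.node (.node (.leaf 11767) (.leaf 0)) (.node (.leaf 5849) (.leaf 0)))) (.node (.node (.node (.leaf 1109) (.leaf 18792)) (.node (.leaf 10484) (.leaf 0))) (.node (.node (.leaf 4137) (.leaf 0)) (.node (.leaf 1368) (.leaf 0)))))) (.node (.node (.node (.node (.node (.leaf 14757) (.leaf 13881)) (.node (.leaf 7451) (.leaf 0))) (.node (.node (.leaf 20190) (.leaf 0)) (.node (.leaf 4295) (.leaf 0)))) (.node (.node (.node (.leaf 19320) (.leaf 16879)) (.node (.leaf 13183) (.leaf 0))) (.node (.node (.leaf 7408) (.leaf 0)) (.node (.leaf 8341) (.leaf 0))))) (.node (.node (.node (.node (.leaf 13702) (.leaf 14556)) (.node (.leaf 16661) (.leaf 0))) (.node (.node (.leaf 17855) (.leaf 0)) (.node (.leaf 16372) (.leaf 0)))) (.node (.node (.node (.leaf 11765) (.leaf 12138)) (.node (.leaf 10903) (.leaf 0))) (.node (.node (.leaf 14516) (.leaf 0)) (.node (.leaf 12975) (.leaf 0))))))) (.node (.node (.node (.node (.node (.node (.leaf 12855) (.leaf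 5522)) (.node (.leaf 8299) (.leaf 0))) (.node (.node (.leaf 16975) (.leaf 0)) (.node (.leaf 5858) (.leaf 0)))) (.node (.node (.node (.leaf 6901) (.leaf 13266)) (.node (.leaf 12888) (.leaf 0))) (.node (.node (.leaf 5114) (.leaf 0)) (.node (.leaf 11147) (.leaf 0))))) (.node (.node (.node (.node (.leaf 4840) (.leaf 19287)) (.node (.leaf 2535) (.leaf 0))) (.node (.node (.leaf 2427) (.leaf 0)) (.node (.leaf 20409) (.leaf 0)))) (.node (.node (.node (.leaf 13362) (.leaf 2224)) (.node (.leaf 13463) (.leaf 0))) (.node (.node (.leaf 13602) (.leaf 0)) (.node (.leaf 18681) (.leaf 0)))))) (.node (.node (.node (.node (.node (.leaf 2099) (.leaf 12775)) (.node (.leaf 8455) (.leaf 0))) (.node (.node (.leaf 6263) (.leaf 0)) (.node (.leaf 12119) (.leaf 0)))) (.node (.node (.node (.leaf 15718) (.leaf 16309)) (.node (.leaf 4442) (.leaf 0))) (.node (.node (.leaf 14415) (.leaf 0)) (.node (.leaf 14208) (.leaf 0))))) (.node (.node (.node (.node (.leaf 9982) (.leaf 4301)) (.node (.leaf 3806) (.leaf 0))) (.node (.node (.leaf 5013)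 (.leaf 0)) (.node (.leaf 12159) (.leaf 0)))) (.node (.node (.node (.leaf 4539) (.leaf 14386)) (.node (.leaf 5959) (.leaf 0))) (.node (.node (.leaf 3482) (.leaf 0)) (.node (.leaf 4710) (.leaf 0))))))))

def omT22 : NT := .node (.node (.node (.node (.node (.node (.node (.node (.leaf 12093) (.leaf 8141)) (.node (.leaf 15710) (.leaf 0))) (.node (.node (.leaf 13279) (.leaf 3358)) (.node (.leaf 9974) (.leaf 0)))) (.node (.node (.node (.leaf 11606) (.leaf 11186)) (.node (.leaf 18945) (.leaf 0))) (.node (.node (.leaf 2684) (.leaf 0)) (.node (.leaf 1465) (.leaf 0))))) (.node (.node (.node (.node (.leaf 2316) (.leaf 890)) (.node (.leaf 10001) (.leaf 0))) (.node (.node (.leaf 6137) (.leaf 0)) (.node (.leaf 14018) (.leaf 0)))) (.node (.node (.node (.leaf 17179) (.leaf 14631)) (.node (.leaf 11188) (.leaf 0))) (.node (.node (.leaf 8) (.leaf 0)) (.node (.leaf 12834) (.leaf 0)))))) (.node (.node (.node (.node (.node (.leaf 4911) (.leaf 11271)) (.node (.leaf 17250) (.leaf 0))) (.node (.node (.leaf 9383) (.leaf 0)) (.node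 (.leaf 16023) (.leaf 0)))) (.node (.node (.node (.leaf 5159) (.leaf 19357)) (.node (.leaf 12196) (.leaf 0))) (.node (.node (.leaf 8724) (.leaf 0)) (.node (.leaf 16193) (.leaf 0))))) (.node (.node (.node (.node (.leaf 15218) (.leaf 15640)) (.node (.leaf 12233) (.leaf 0))) (.node (.node (.leaf 7487) (.leaf 0)) (.node (.leaf 19262) (.leaf 0)))) (.node (.node (.node (.leaf 9715) (.leaf 4550)) (.node (.leaf 8723) (.leaf 0))) (.node (.node (.leaf 16928) (.leaf 0)) (.node (.leaf 2790) (.leaf 0))))))) (.node (.node (.node (.node (.node (.node (.leaf 134) (.leaf 9841)) (.node (.leaf 4437) (.leaf 0))) (.node (.node (.leaf 10885) (.leaf 0)) (.node (.leaf 235) (.leaf 0)))) (.node (.node (.node (.leaf 13204) (.leaf 3808)) (.node (.leaf 12259) (.leaf 0))) (.node (.node (.leaf 1969) (.leaf 0)) (.node (.leaf 423) (.leaf 0))))) (.node (.node (.node (.node (.leaf 2312) (.leaf 206)) (.node (.leaf 1533) (.leaf 0))) (.node (.node (.leaf 17513) (.leaf 0)) (.node (.leaf 6571) (.leaf 0)))) (.node (.node (.node (.leaf 5564) (.leaf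 6340)) (.node (.leaf 11640) (.leaf 0))) (.node (.node (.leaf 17854) (.leaf 0)) (.node (.leaf 5082) (.leaf 0)))))) (.node (.node (.node (.node (.node (.leaf 15231) (.leaf 14410)) (.node (.leaf 19751) (.leaf 0))) (.node (.node (.leaf 7166) (.leaf 0)) (.node (.leaf 4851) (.leaf 0)))) (.node (.node (.node (.leaf 12884) (.leaf 12755)) (.node (.leaf 8011) (.leaf 0))) (.node (.node (.leaf 11169) (.leaf 0)) (.node (.leaf 9481) (.leaf 0))))) (.node (.node (.node (.node (.leaf 6087) (.leaf 78)) (.node (.leaf 16319) (.leaf 0))) (.node (.node (.leaf 9458) (.leaf 0)) (.node (.leaf 7924) (.leaf 0)))) (.node (.node (.node (.leaf 12667) (.leaf 3675)) (.node (.leaf 18419) (.leaf 0))) (.node (.node (.leaf 315) (.leaf 0)) (.node (.leaf 19423) (.leaf 0)))))))) (.node (.node (.node (.node (.node (.node (.node (.leaf 13586) (.leaf 5870)) (.node (.leaf 2415) (.leaf 0))) (.node (.node (.leaf 5993) (.leaf 0)) (.node (.leaf 6665) (.leaf 0)))) (.node (.node (.node (.leaf 8228) (.leaf 3114)) (.node (.leaf 14298) (.leaf 0))) (.node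 (.node (.leaf 3223) (.leaf 0)) (.node (.leaf 13285) (.leaf 0))))) (.node (.node (.node (.node (.leaf 7636) (.leaf 12823)) (.node (.leaf 4031) (.leaf 0))) (.node (.node (.leaf 19048) (.leaf 0)) (.node (.leaf 14421) (.leaf 0)))) (.node (.node (.node (.leaf 51) (.leaf 17722)) (.node (.leaf 2470) (.leaf 0))) (.node (.node (.leaf 11593) (.leaf 0)) (.node (.leaf 2794) (.leaf 0)))))) (.node (.node (.node (.node (.node (.leaf 9537) (.leaf 19195)) (.node (.leaf 2465) (.leaf 0))) (.node (.node (.leaf 19835) (.leaf 0)) (.node (.leaf 2476) (.leaf 0)))) (.node (.node (.node (.leaf 8013) (.leaf 80)) (.node (.leaf 1877) (.leaf 0))) (.node (.node (.leaf 7177) (.leaf 0)) (.node (.leaf 16581) (.leaf 0))))) (.node (.node (.node (.node (.leaf 9941) (.leaf 9939)) (.node (.leaf 19587) (.leaf 0))) (.node (.node (.leaf 7910) (.leaf 0)) (.node (.leaf 18495) (.leaf 0)))) (.node (.node (.node (.leaf 7984) (.leaf 10853)) (.node (.leaf 8823) (.leaf 0))) (.node (.node (.leaf 11439) (.leaf 0)) (.node (.leaf 17322) (.leaf 0))))))) (.node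 (.node (.node (.node (.node (.node (.leaf 1055) (.leaf 6883)) (.node (.leaf 2398) (.leaf 0))) (.node (.node (.leaf 3481) (.leaf 0)) (.node (.leaf 8330) (.leaf 0)))) (.node (.node (.node (.leaf 17078) (.leaf 5620)) (.node (.leaf 5212) (.leaf 0))) (.node (.node (.leaf 1821) (.leaf 0)) (.node (.leaf 9127) (.leaf 0))))) (.node (.node (.node (.node (.leaf 8099) (.leaf 11413)) (.node (.leaf 18324) (.leaf 0))) (.node (.node (.leaf 16813) (.leaf 0)) (.node (.leaf 9973) (.leaf 0)))) (.node (.node (.node (.leaf 15473) (.leaf 9429)) (.node (.leaf 12787) (.leaf 0))) (.node (.node (.leaf 2306) (.leaf 0)) (.node (.leaf 16312) (.leaf 0)))))) (.node (.node (.node (.node (.node (.leaf 17765) (.leaf 911)) (.node (.leaf 9357) (.leaf 0))) (.node (.node (.leaf 14423) (.leaf 0)) (.node (.leaf 16420) (.leaf 0)))) (.node (.node (.node (.leaf 17946) (.leaf 3701)) (.node (.leaf 5470) (.leaf 0))) (.node (.node (.leaf 15345) (.leaf 0)) (.node (.leaf 7915) (.leaf 0))))) (.node (.node (.node (.node (.leaf 13269) (.leaf 14790)) (.node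 (.leaf 12092) (.leaf 0))) (.node (.node (.leaf 17149) (.leaf 0)) (.node (.leaf 16013) (.leaf 0)))) (.node (.node (.node (.leaf 8989) (.leaf 6285)) (.node (.leaf 8527) (.leaf 0))) (.node (.node (.leaf 7681) (.leaf 0)) (.node (.leaf 2947) (.leaf 0))))))))

def omT23 : NT := .node (.node (.node (.node (.node (.node (.node (.node (.leaf 17886) (.leaf 17390)) (.node (.leaf 4979) (.leaf 0))) (.node (.node (.leaf 11576) (.leaf 15926)) (.node (.leaf 17346) (.leaf 0)))) (.node (.node (.node (.leaf 19755) (.leaf 2568)) (.node (.leaf 1215) (.leaf 0))) (.node (.node (.leaf 12723) (.leaf 0)) (.node (.leaf 11975) (.leaf 0))))) (.node (.node (.node (.node (.leaf 11953) (.leaf 3233)) (.node (.leaf 2163) (.leaf 0))) (.node (.node (.leaf 7159) (.leaf 0)) (.node (.leaf 16688) (.leaf 0)))) (.node (.node (.node (.leaf 16168) (.leaf 6943)) (.node (.leaf 17963) (.leaf 0))) (.node (.node (.leaf 19772) (.leaf 0)) (.node (.leaf 10430) (.leaf 0)))))) (.node (.node (.node (.node (.node (.leaf 3437) (.leaf 18296)) (.node (.leaf 4960)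 (.leaf 0))) (.node (.node (.leaf 3383) (.leaf 0)) (.node (.leaf 145) (.leaf 0)))) (.node (.node (.node (.leaf 9832) (.leaf 12827)) (.node (.leaf 14965) (.leaf 0))) (.node (.node (.leaf 7453) (.leaf 0)) (.node (.leaf 4610) (.leaf 0))))) (.node (.node (.node (.node (.leaf 5275) (.leaf 12111)) (.node (.leaf 10715) (.leaf 0))) (.node (.node (.leaf 8991) (.leaf 0)) (.node (.leaf 7972) (.leaf 0)))) (.node (.node (.node (.leaf 14858) (.leaf 5895)) (.node (.leaf 2081) (.leaf 0))) (.node (.node (.leaf 9800) (.leaf 0)) (.node (.leaf 5284) (.leaf 0))))))) (.node (.node (.node (.node (.node (.node (.leaf 17210) (.leaf 1536)) (.node (.leaf 5892) (.leaf 0))) (.node (.node (.leaf 5240) (.leaf 0)) (.node (.leaf 20335) (.leaf 0)))) (.node (.node (.node (.leaf 519) (.leaf 17507)) (.node (.leaf 10782) (.leaf 0))) (.node (.node (.leaf 15545) (.leaf 0)) (.node (.leaf 15341) (.leaf 0))))) (.node (.node (.node (.node (.leaf 13739) (.leaf 6118)) (.node (.leaf 13216) (.leaf 0))) (.node (.node (.leaf 7754) (.leaf 0)) (.node (.leaf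 15284) (.leaf 0)))) (.node (.node (.node (.leaf 14455) (.leaf 13680)) (.node (.leaf 3111) (.leaf 0))) (.node (.node (.leaf 5472) (.leaf 0)) (.node (.leaf 19974) (.leaf 0)))))) (.node (.node (.node (.node (.node (.leaf 387) (.leaf 14054)) (.node (.leaf 6535) (.leaf 0))) (.node (.node (.leaf 10143) (.leaf 0)) (.node (.leaf 15795) (.leaf 0)))) (.node (.node (.node (.leaf 12598) (.leaf 9589)) (.node (.leaf 4657) (.leaf 0))) (.node (.node (.leaf 1110) (.leaf 0)) (.node (.leaf 3622) (.leaf 0))))) (.node (.node (.node (.node (.leaf 7557) (.leaf 11976)) (.node (.leaf 15469) (.leaf 0))) (.node (.node (.leaf 5460) (.leaf 0)) (.node (.leaf 16485) (.leaf 0)))) (.node (.node (.node (.leaf 5506) (.leaf 16962)) (.node (.leaf 19738) (.leaf 0))) (.node (.node (.leaf 14217) (.leaf 0)) (.node (.leaf 3877) (.leaf 0)))))))) (.node (.node (.node (.node (.node (.node (.node (.leaf 5706) (.leaf 4091)) (.node (.leaf 8980) (.leaf 0))) (.node (.node (.leaf 11399) (.leaf 0)) (.node (.leaf 18074) (.leaf 0)))) (.node (.node (.node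 (.leaf 8101) (.leaf 9767)) (.node (.leaf 19573) (.leaf 0))) (.node (.node (.leaf 10440) (.leaf 0)) (.node (.leaf 6485) (.leaf 0))))) (.node (.node (.node (.node (.leaf 7605) (.leaf 6102)) (.node (.leaf 1145) (.leaf 0))) (.node (.node (.leaf 13525) (.leaf 0)) (.node (.leaf 4453) (.leaf 0)))) (.node (.node (.node (.leaf 7614) (.leaf 19467)) (.node (.leaf 10218) (.leaf 0))) (.node (.node (.leaf 19107) (.leaf 0)) (.node (.leaf 15208) (.leaf 0)))))) (.node (.node (.node (.node (.node (.leaf 9269) (.leaf 20484)) (.node (.leaf 6781) (.leaf 0))) (.node (.node (.leaf 4798) (.leaf 0)) (.node (.leaf 1139) (.leaf 0)))) (.node (.node (.node (.leaf 14457) (.leaf 19495)) (.node (.leaf 16052) (.leaf 0))) (.node (.node (.leaf 203) (.leaf 0)) (.node (.leaf 1786) (.leaf 0))))) (.node (.node (.node (.node (.leaf 12150) (.leaf 5549)) (.node (.leaf 3706) (.leaf 0))) (.node (.node (.leaf 2458) (.leaf 0)) (.node (.leaf 16501) (.leaf 0)))) (.node (.node (.node (.leaf 1692) (.leaf 5984)) (.node (.leaf 17890) (.leaf 0))) (.node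 (.node (.leaf 5445) (.leaf 0)) (.node (.leaf 18669) (.leaf 0))))))) (.node (.node (.node (.node (.node (.node (.leaf 13951) (.leaf 1628)) (.node (.leaf 2395) (.leaf 0))) (.node (.node (.leaf 13336) (.leaf 0)) (.node (.leaf 13561) (.leaf 0)))) (.node (.node (.node (.leaf 4646) (.leaf 7966)) (.node (.leaf 19432) (.leaf 0))) (.node (.node (.leaf 4471) (.leaf 0)) (.node (.leaf 5197) (.leaf 0))))) (.node (.node (.node (.node (.leaf 1430) (.leaf 8617)) (.node (.leaf 16987) (.leaf 0))) (.node (.node (.leaf 8248) (.leaf 0)) (.node (.leaf 2971) (.leaf 0)))) (.node (.node (.node (.leaf 15783) (.leaf 15197)) (.node (.leaf 5524) (.leaf 0))) (.node (.node (.leaf 6868) (.leaf 0)) (.node (.leaf 15286) (.leaf 0)))))) (.node (.node (.node (.node (.node (.leaf 5833) (.leaf 7962)) (.node (.leaf 16776) (.leaf 0))) (.node (.node (.leaf 3164) (.leaf 0)) (.node (.leaf 8673) (.leaf 0)))) (.node (.node (.node (.leaf 3931) (.leaf 1852)) (.node (.leaf 5031) (.leaf 0))) (.node (.node (.leaf 16187) (.leaf 0)) (.node (.leaf 1748) (.leaf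 0))))) (.node (.node (.node (.node (.leaf 15754) (.leaf 8436)) (.node (.leaf 8868) (.leaf 0))) (.node (.node (.leaf 17818) (.leaf 0)) (.node (.leaf 9942) (.leaf 0)))) (.node (.node (.node (.leaf 578) (.leaf 2365)) (.node (.leaf 1679) (.leaf 0))) (.node (.node (.leaf 7027) (.leaf 0)) (.node (.leaf 9465) (.leaf 0))))))))

def omT24 : NT := .node (.node (.node (.node (.node (.node (.node (.node (.leaf 19235) (.leaf 16682)) (.node (.leaf 502) (.leaf 0))) (.node (.node (.leaf 14990) (.leaf 11513)) (.node (.leaf 17374) (.leaf 0)))) (.node (.node (.node (.leaf 6110) (.leaf 19801)) (.node (.leaf 1999) (.leaf 0))) (.node (.node (.leaf 19485) (.leaf 0)) (.node (.leaf 4534) (.leaf 0))))) (.node (.node (.node (.node (.leaf 12142) (.leaf 6452)) (.node (.leaf 14506) (.leaf 0))) (.node (.node (.leaf 15910) (.leaf 0)) (.node (.leaf 7980) (.leaf 0)))) (.node (.node (.node (.leaf 4950) (.leaf 16801)) (.node (.leaf 16937) (.leaf 0))) (.node (.node (.leaf 17716) (.leaf 0)) (.node (.leaf 16364) (.leaf 0)))))) (.node (.node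 (.node (.node (.node (.leaf 12759) (.leaf 9420)) (.node (.leaf 9427) (.leaf 0))) (.node (.node (.leaf 4932) (.leaf 0)) (.node (.leaf 10775) (.leaf 0)))) (.node (.node (.node (.leaf 2322) (.leaf 3599)) (.node (.leaf 9137) (.leaf 0))) (.node (.node (.leaf 4117) (.leaf 0)) (.node (.leaf 480) (.leaf 0))))) (.node (.node (.node (.node (.leaf 9746) (.leaf 12017)) (.node (.leaf 11972) (.leaf 0))) (.node (.node (.leaf 11402) (.leaf 0)) (.node (.leaf 11909) (.leaf 0)))) (.node (.node (.node (.leaf 59) (.leaf 20220)) (.node (.leaf 15373) (.leaf 0))) (.node (.node (.leaf 2643) (.leaf 0)) (.node (.leaf 13069) (.leaf 0))))))) (.node (.node (.node (.node (.node (.node (.leaf 14850) (.leaf 11516)) (.node (.leaf 9870) (.leaf 0))) (.node (.node (.leaf 9486) (.leaf 0)) (.node (.leaf 11797) (.leaf 0)))) (.node (.node (.node (.leaf 13803) (.leaf 15913)) (.node (.leaf 12485) (.leaf 0))) (.node (.node (.leaf 18952) (.leaf 0)) (.node (.leaf 20278) (.leaf 0))))) (.node (.node (.node (.node (.leaf 11059) (.leaf 11227)) (.node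 (.leaf 7846) (.leaf 0))) (.node (.node (.leaf 6197) (.leaf 0)) (.node (.leaf 19583) (.leaf 0)))) (.node (.node (.node (.leaf 12721) (.leaf 14679)) (.node (.leaf 10827) (.leaf 0))) (.node (.node (.leaf 7499) (.leaf 0)) (.node (.leaf 7505) (.leaf 0)))))) (.node (.node (.node (.node (.node (.leaf 20427) (.leaf 20283)) (.node (.leaf 19080) (.leaf 0))) (.node (.node (.leaf 13304) (.leaf 0)) (.node (.leaf 14629) (.leaf 0)))) (.node (.node (.node (.leaf 972) (.leaf 5815)) (.node (.leaf 12071) (.leaf 0))) (.node (.node (.leaf 9515) (.leaf 0)) (.node (.leaf 10487) (.leaf 0))))) (.node (.node (.node (.node (.leaf 862) (.leaf 8002)) (.node (.leaf 7584) (.leaf 0))) (.node (.node (.leaf 12019) (.leaf 0)) (.node (.leaf 12104) (.leaf 0)))) (.node (.node (.node (.leaf 6820) (.leaf 18918)) (.node (.leaf 18034) (.leaf 0))) (.node (.node (.leaf 12401) (.leaf 0)) (.node (.leaf 13750) (.leaf 0)))))))) (.node (.node (.node (.node (.node (.node (.node (.leaf 42) (.leaf 11635)) (.node (.leaf 14309) (.leaf 0))) (.node (.node (.leaf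 10418) (.leaf 0)) (.node (.leaf 16563) (.leaf 0)))) (.node (.node (.node (.leaf 5647) (.leaf 8250)) (.node (.leaf 9683) (.leaf 0))) (.node (.node (.leaf 2939) (.leaf 0)) (.node (.leaf 187) (.leaf 0))))) (.node (.node (.node (.node (.leaf 7083) (.leaf 1789)) (.node (.leaf 2166) (.leaf 0))) (.node (.node (.leaf 16619) (.leaf 0)) (.node (.leaf 16475) (.leaf 0)))) (.node (.node (.node (.leaf 3025) (.leaf 106)) (.node (.leaf 5681) (.leaf 0))) (.node (.node (.leaf 9987) (.leaf 0)) (.node (.leaf 16079) (.leaf 0)))))) (.node (.node (.node (.node (.node (.leaf 18941) (.leaf 19548)) (.node (.leaf 12977) (.leaf 0))) (.node (.node (.leaf 3093) (.leaf 0)) (.node (.leaf 20469) (.leaf 0)))) (.node (.node (.node (.leaf 4409) (.leaf 14142)) (.node (.leaf 8126) (.leaf 0))) (.node (.node (.leaf 20036) (.leaf 0)) (.node (.leaf 3331) (.leaf 0))))) (.node (.node (.node (.node (.leaf 19540) (.leaf 13229)) (.node (.leaf 6441) (.leaf 0))) (.node (.node (.leaf 10789) (.leaf 0)) (.node (.leaf 20088) (.leaf 0)))) (.node (.node (.node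 (.leaf 11007) (.leaf 3628)) (.node (.leaf 20505) (.leaf 0))) (.node (.node (.leaf 8239) (.leaf 0)) (.node (.leaf 18008) (.leaf 0))))))) (.node (.node (.node (.node (.node (.node (.leaf 5331) (.leaf 18723)) (.node (.leaf 3779) (.leaf 0))) (.node (.node (.leaf 20058) (.leaf 0)) (.node (.leaf 18964) (.leaf 0)))) (.node (.node (.node (.leaf 14687) (.leaf 916)) (.node (.leaf 8972) (.leaf 0))) (.node (.node (.leaf 7476) (.leaf 0)) (.node (.leaf 18409) (.leaf 0))))) (.node (.node (.node (.node (.leaf 9969) (.leaf 8780)) (.node (.leaf 3349) (.leaf 0))) (.node (.node (.leaf 18185) (.leaf 0)) (.node (.leaf 10699) (.leaf 0)))) (.node (.node (.node (.leaf 2708) (.leaf 7762)) (.node (.leaf 8309) (.leaf 0))) (.node (.node (.leaf 12862) (.leaf 0)) (.node (.leaf 3555) (.leaf 0)))))) (.node (.node (.node (.node (.node (.leaf 18598) (.leaf 20082)) (.node (.leaf 4506) (.leaf 0))) (.node (.node (.leaf 8027) (.leaf 0)) (.node (.leaf 10052) (.leaf 0)))) (.node (.node (.node (.leaf 1563) (.leaf 17846)) (.node (.leaf 16242) (.leaf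 0))) (.node (.node (.leaf 1708) (.leaf 0)) (.node (.leaf 20440) (.leaf 0))))) (.node (.node (.node (.node (.leaf 1553) (.leaf 19603)) (.node (.leaf 19740) (.leaf 0))) (.node (.node (.leaf 4302) (.leaf 0)) (.node (.leaf 5029) (.leaf 0)))) (.node (.node (.node (.leaf 15272) (.leaf 12739)) (.node (.leaf 4261) (.leaf 0))) (.node (.node (.leaf 11039) (.leaf 0)) (.node (.leaf 17429) (.leaf 0))))))))

def omT25 : NT := .node (.node (.node (.node (.node (.node (.node (.node (.leaf 20181) (.leaf 14393)) (.node (.leaf 6381) (.leaf 0))) (.node (.node (.leaf 16701) (.leaf 12445)) (.node (.leaf 1697) (.leaf 0)))) (.node (.node (.node (.leaf 401) (.leaf 17065)) (.node (.leaf 15059) (.leaf 0))) (.node (.node (.leaf 12650) (.leaf 0)) (.node (.leaf 4002) (.leaf 0))))) (.node (.node (.node (.node (.leaf 9657) (.leaf 7806)) (.node (.leaf 13608) (.leaf 0))) (.node (.node (.leaf 1785) (.leaf 0)) (.node (.leaf 9164) (.leaf 0)))) (.node (.node (.node (.leaf 1929) (.leaf 6830)) (.node (.leaf 1987) (.leaf 0))) (.node (.node (.leaf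 6057) (.leaf 0)) (.node (.leaf 2258) (.leaf 0)))))) (.node (.node (.node (.node (.node (.leaf 792) (.leaf 5914)) (.node (.leaf 6760) (.leaf 0))) (.node (.node (.leaf 5072) (.leaf 0)) (.node (.leaf 5110) (.leaf 0)))) (.node (.node (.node (.leaf 1033) (.leaf 9874)) (.node (.leaf 6121) (.leaf 0))) (.node (.node (.leaf 11449) (.leaf 0)) (.node (.leaf 14151) (.leaf 0))))) (.node (.node (.node (.node (.leaf 9892) (.leaf 3499)) (.node (.leaf 13130) (.leaf 0))) (.node (.node (.leaf 14432) (.leaf 0)) (.node (.leaf 801) (.leaf 0)))) (.node (.node (.node (.leaf 16067) (.leaf 16153)) (.node (.leaf 6536) (.leaf 0))) (.node (.node (.leaf 18082) (.leaf 0)) (.node (.leaf 8834) (.leaf 0))))))) (.node (.node (.node (.node (.node (.node (.leaf 5828) (.leaf 7262)) (.node (.leaf 14235) (.leaf 0))) (.node (.node (.leaf 12183) (.leaf 0)) (.node (.leaf 3837) (.leaf 0)))) (.node (.node (.node (.leaf 20266) (.leaf 4105)) (.node (.leaf 7836) (.leaf 0))) (.node (.node (.leaf 556) (.leaf 0)) (.node (.leaf 9093) (.leaf 0))))) (.node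 (.node (.node (.node (.leaf 7788) (.leaf 6542)) (.node (.leaf 2460) (.leaf 0))) (.node (.node (.leaf 1899) (.leaf 0)) (.node (.leaf 18333) (.leaf 0)))) (.node (.node (.node (.leaf 11312) (.leaf 7266)) (.node (.leaf 1889) (.leaf 0))) (.node (.node (.leaf 10462) (.leaf 0)) (.node (.leaf 7695) (.leaf 0)))))) (.node (.node (.node (.node (.node (.leaf 1233) (.leaf 15696)) (.node (.leaf 13714) (.leaf 0))) (.node (.node (.leaf 7835) (.leaf 0)) (.node (.leaf 15102) (.leaf 0)))) (.node (.node (.node (.leaf 9814) (.leaf 11494)) (.node (.leaf 3979) (.leaf 0))) (.node (.node (.leaf 5846) (.leaf 0)) (.node (.leaf 10242) (.leaf 0))))) (.node (.node (.node (.node (.leaf 19380) (.leaf 5149)) (.node (.leaf 13026) (.leaf 0))) (.node (.node (.leaf 2432) (.leaf 0)) (.node (.leaf 19807) (.leaf 0)))) (.node (.node (.node (.leaf 8492) (.leaf 18798)) (.node (.leaf 7312) (.leaf 0))) (.node (.node (.leaf 215) (.leaf 0)) (.node (.leaf 6304) (.leaf 0)))))))) (.node (.node (.node (.node (.node (.node (.node (.leaf 15040) (.leaf 10007))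 (.node (.leaf 2252) (.leaf 0))) (.node (.node (.leaf 6568) (.leaf 0)) (.node (.leaf 10633) (.leaf 0)))) (.node (.node (.node (.leaf 5710) (.leaf 7279)) (.node (.leaf 15615) (.leaf 0))) (.node (.node (.leaf 131) (.leaf 0)) (.node (.leaf 7514) (.leaf 0))))) (.node (.node (.node (.node (.leaf 15344) (.leaf 8558)) (.node (.leaf 2573) (.leaf 0))) (.node (.node (.leaf 17389) (.leaf 0)) (.node (.leaf 2658) (.leaf 0)))) (.node (.node (.node (.leaf 18167) (.leaf 7529)) (.node (.leaf 4139) (.leaf 0))) (.node (.node (.leaf 4299) (.leaf 0)) (.node (.leaf 19255) (.leaf 0)))))) (.node (.node (.node (.node (.node (.leaf 7076) (.leaf 10188)) (.node (.leaf 13906) (.leaf 0))) (.node (.node (.leaf 8263) (.leaf 0)) (.node (.leaf 144) (.leaf 0)))) (.node (.node (.node (.leaf 15661) (.leaf 1597)) (.node (.leaf 13092) (.leaf 0))) (.node (.node (.leaf 8053) (.leaf 0)) (.node (.leaf 17437) (.leaf 0))))) (.node (.node (.node (.node (.leaf 16651) (.leaf 641)) (.node (.leaf 16599) (.leaf 0))) (.node (.node (.leaf 1826) (.leaf 0))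 (.node (.leaf 6633) (.leaf 0)))) (.node (.node (.node (.leaf 20121) (.leaf 1039)) (.node (.leaf 16018) (.leaf 0))) (.node (.node (.leaf 5384) (.leaf 0)) (.node (.leaf 11140) (.leaf 0))))))) (.node (.node (.node (.node (.node (.node (.leaf 11453) (.leaf 3974)) (.node (.leaf 12594) (.leaf 0))) (.node (.node (.leaf 12209) (.leaf 0)) (.node (.leaf 9471) (.leaf 0)))) (.node (.node (.node (.leaf 16530) (.leaf 17050)) (.node (.leaf 9734) (.leaf 0))) (.node (.node (.leaf 2046) (.leaf 0)) (.node (.leaf 9586) (.leaf 0))))) (.node (.node (.node (.node (.leaf 15576) (.leaf 11935)) (.node (.leaf 1830) (.leaf 0))) (.node (.node (.leaf 6363) (.leaf 0)) (.node (.leaf 11532) (.leaf 0)))) (.node (.node (.node (.leaf 8079) (.leaf 917)) (.node (.leaf 19112) (.leaf 0))) (.node (.node (.leaf 2870) (.leaf 0)) (.node (.leaf 5158) (.leaf 0)))))) (.node (.node (.node (.node (.node (.leaf 19972) (.leaf 20517)) (.node (.leaf 3916) (.leaf 0))) (.node (.node (.leaf 12817) (.leaf 0)) (.node (.leaf 15440) (.leaf 0)))) (.node (.node (.node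 (.leaf 18701) (.leaf 12779)) (.node (.leaf 3438) (.leaf 0))) (.node (.node (.leaf 7784) (.leaf 0)) (.node (.leaf 11455) (.leaf 0))))) (.node (.node (.node (.node (.leaf 18880) (.leaf 9857)) (.node (.leaf 9167) (.leaf 0))) (.node (.node (.leaf 16940) (.leaf 0)) (.node (.leaf 5561) (.leaf 0)))) (.node (.node (.node (.leaf 13897) (.leaf 13939)) (.node (.leaf 15425) (.leaf 0))) (.node (.node (.leaf 16754) (.leaf 0)) (.node (.leaf 13392) (.leaf 0))))))))

def omT26 : NT := .node (.node (.node (.node (.node (.node (.node (.node (.leaf 7664) (.leaf 2640)) (.node (.leaf 18513) (.leaf 0))) (.node (.node (.leaf 345) (.leaf 3306)) (.node (.leaf 9730) (.leaf 0)))) (.node (.node (.node (.leaf 15610) (.leaf 811)) (.node (.leaf 8557) (.leaf 0))) (.node (.node (.leaf 15212) (.leaf 0)) (.node (.leaf 17868) (.leaf 0))))) (.node (.node (.node (.node (.leaf 11892) (.leaf 8353)) (.node (.leaf 19817) (.leaf 0))) (.node (.node (.leaf 9762) (.leaf 0)) (.node (.leaf 4651) (.leaf 0)))) (.node (.node (.node (.leaf 3726) (.leaf 17040))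 (.node (.leaf 15774) (.leaf 0))) (.node (.node (.leaf 6737) (.leaf 0)) (.node (.leaf 19363) (.leaf 0)))))) (.node (.node (.node (.node (.node (.leaf 9428) (.leaf 2498)) (.node (.leaf 9028) (.leaf 0))) (.node (.node (.leaf 9222) (.leaf 0)) (.node (.leaf 3715) (.leaf 0)))) (.node (.node (.node (.leaf 9695) (.leaf 15233)) (.node (.leaf 14464) (.leaf 0))) (.node (.node (.leaf 17125) (.leaf 0)) (.node (.leaf 5086) (.leaf 0))))) (.node (.node (.node (.node (.leaf 2644) (.leaf 3540)) (.node (.leaf 18487) (.leaf 0))) (.node (.node (.leaf 3771) (.leaf 0)) (.node (.leaf 1347) (.leaf 0)))) (.node (.node (.node (.leaf 6245) (.leaf 17403)) (.node (.leaf 20368) (.leaf 0))) (.node (.node (.leaf 19058) (.leaf 0)) (.node (.leaf 10510) (.leaf 0))))))) (.node (.node (.node (.node (.node (.node (.leaf 12041) (.leaf 7454)) (.node (.leaf 7163) (.leaf 0))) (.node (.node (.leaf 371) (.leaf 0)) (.node (.leaf 19539) (.leaf 0)))) (.node (.node (.node (.leaf 17689) (.leaf 15731)) (.node (.leaf 11032) (.leaf 0))) (.node (.node (.leaf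 17282) (.leaf 0)) (.node (.leaf 14332) (.leaf 0))))) (.node (.node (.node (.node (.leaf 952) (.leaf 5707)) (.node (.leaf 1448) (.leaf 0))) (.node (.node (.leaf 11198) (.leaf 0)) (.node (.leaf 6318) (.leaf 0)))) (.node (.node (.node (.leaf 16922) (.leaf 8182)) (.node (.leaf 12105) (.leaf 0))) (.node (.node (.leaf 2310) (.leaf 0)) (.node (.leaf 12172) (.leaf 0)))))) (.node (.node (.node (.node (.node (.leaf 4078) (.leaf 14213)) (.node (.leaf 3790) (.leaf 0))) (.node (.node (.leaf 6697) (.leaf 0)) (.node (.leaf 4399) (.leaf 0)))) (.node (.node (.node (.leaf 16707) (.leaf 5100)) (.node (.leaf 19068) (.leaf 0))) (.node (.node (.leaf 18968) (.leaf 0)) (.node (.leaf 7351) (.leaf 0))))) (.node (.node (.node (.node (.leaf 10910) (.leaf 2820)) (.node (.leaf 1315) (.leaf 0))) (.node (.node (.leaf 1691) (.leaf 0)) (.node (.leaf 752) (.leaf 0)))) (.node (.node (.node (.leaf 266) (.leaf 18607)) (.node (.leaf 16649) (.leaf 0))) (.node (.node (.leaf 11565) (.leaf 0)) (.node (.leaf 5122) (.leaf 0)))))))) (.node (.node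 (.node (.node (.node (.node (.node (.leaf 8783) (.leaf 2338)) (.node (.leaf 18065) (.leaf 0))) (.node (.node (.leaf 13851) (.leaf 0)) (.node (.leaf 12323) (.leaf 0)))) (.node (.node (.node (.leaf 20346) (.leaf 14180)) (.node (.leaf 20005) (.leaf 0))) (.node (.node (.leaf 652) (.leaf 0)) (.node (.leaf 15666) (.leaf 0))))) (.node (.node (.node (.node (.leaf 20145) (.leaf 14966)) (.node (.leaf 18131) (.leaf 0))) (.node (.node (.leaf 3816) (.leaf 0)) (.node (.leaf 736) (.leaf 0)))) (.node (.node (.node (.leaf 19142) (.leaf 9171)) (.node (.leaf 9496) (.leaf 0))) (.node (.node (.leaf 14832) (.leaf 0)) (.node (.leaf 18396) (.leaf 0)))))) (.node (.node (.node (.node (.node (.leaf 17441) (.leaf 12023)) (.node (.leaf 11149) (.leaf 0))) (.node (.node (.leaf 9713) (.leaf 0)) (.node (.leaf 15439) (.leaf 0)))) (.node (.node (.node (.leaf 2266) (.leaf 2049)) (.node (.leaf 3553) (.leaf 0))) (.node (.node (.leaf 4661) (.leaf 0)) (.node (.leaf 16780) (.leaf 0))))) (.node (.node (.node (.node (.leaf 5607) (.leaf 16081))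 (.node (.leaf 16199) (.leaf 0))) (.node (.node (.leaf 19516) (.leaf 0)) (.node (.leaf 11304) (.leaf 0)))) (.node (.node (.node (.leaf 9244) (.leaf 17557)) (.node (.leaf 274) (.leaf 0))) (.node (.node (.leaf 20431) (.leaf 0)) (.node (.leaf 17521) (.leaf 0))))))) (.node (.node (.node (.node (.node (.node (.leaf 11838) (.leaf 20000)) (.node (.leaf 5770) (.leaf 0))) (.node (.node (.leaf 15227) (.leaf 0)) (.node (.leaf 11964) (.leaf 0)))) (.node (.node (.node (.leaf 16957) (.leaf 12689)) (.node (.leaf 14481) (.leaf 0))) (.node (.node (.leaf 4557) (.leaf 0)) (.node (.leaf 10678) (.leaf 0))))) (.node (.node (.node (.node (.leaf 8094) (.leaf 3851)) (.node (.leaf 2241) (.leaf 0))) (.node (.node (.leaf 599) (.leaf 0)) (.node (.leaf 17483) (.leaf 0)))) (.node (.node (.node (.leaf 12807) (.leaf 517)) (.node (.leaf 8753) (.leaf 0))) (.node (.node (.leaf 2148) (.leaf 0)) (.node (.leaf 12400) (.leaf 0)))))) (.node (.node (.node (.node (.node (.leaf 14696) (.leaf 16646)) (.node (.leaf 14436) (.leaf 0))) (.node (.node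 (.leaf 3929) (.leaf 0)) (.node (.leaf 18289) (.leaf 0)))) (.node (.node (.node (.leaf 14019) (.leaf 1793)) (.node (.leaf 19134) (.leaf 0))) (.node (.node (.leaf 7289) (.leaf 0)) (.node (.leaf 9930) (.leaf 0))))) (.node (.node (.node (.node (.leaf 8434) (.leaf 10656)) (.node (.leaf 12863) (.leaf 0))) (.node (.node (.leaf 7866) (.leaf 0)) (.node (.leaf 8083) (.leaf 0)))) (.node (.node (.node (.leaf 18734) (.leaf 6527)) (.node (.leaf 5293) (.leaf 0))) (.node (.node (.leaf 14193) (.leaf 0)) (.node (.leaf 10708) (.leaf 0))))))))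

def omT27 : NT := .node (.node (.node (.node (.node (.node (.node (.node (.leaf 3426) (.leaf 1948)) (.node (.leaf 7561) (.leaf 0))) (.node (.node (.leaf 2649) (.leaf 6951)) (.node (.leaf 18202) (.leaf 0)))) (.node (.node (.node (.leaf 13943) (.leaf 19792)) (.node (.leaf 10433) (.leaf 0))) (.node (.node (.leaf 1245) (.leaf 0)) (.node (.leaf 9878) (.leaf 0))))) (.node (.node (.node (.node (.leaf 13815) (.leaf 16963)) (.node (.leaf 12486) (.leaf 0))) (.node (.node (.leaf 7934) (.leaf 0)) (.node (.leaf 2983) (.leaf 0)))) (.node (.node (.node (.leaf 9320) (.leaf 18570)) (.node (.leaf 3927) (.leaf 0))) (.node (.node (.leaf 18145) (.leaf 0)) (.node (.leaf 18584) (.leaf 0)))))) (.node (.node (.node (.node (.node (.leaf 17189) (.leaf 3991)) (.node (.leaf 4957) (.leaf 0))) (.node (.node (.leaf 3120) (.leaf 0)) (.node (.leaf 6484) (.leaf 0)))) (.node (.node (.node (.leaf 7607) (.leaf 9732)) (.node (.leaf 19922) (.leaf 0))) (.node (.node (.leaf 9216) (.leaf 0)) (.node (.leaf 5784) (.leaf 0))))) (.node (.node (.node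 (.node (.leaf 13904) (.leaf 13448)) (.node (.leaf 10786) (.leaf 0))) (.node (.node (.leaf 13979) (.leaf 0)) (.node (.leaf 11466) (.leaf 0)))) (.node (.node (.node (.leaf 5879) (.leaf 15481)) (.node (.leaf 10366) (.leaf 0))) (.node (.node (.leaf 9775) (.leaf 0)) (.node (.leaf 13693) (.leaf 0))))))) (.node (.node (.node (.node (.node (.node (.leaf 20351) (.leaf 9523)) (.node (.leaf 6293) (.leaf 0))) (.node (.node (.leaf 17914) (.leaf 0)) (.node (.leaf 157) (.leaf 0)))) (.node (.node (.node (.leaf 20207) (.leaf 12065)) (.node (.leaf 1195) (.leaf 0))) (.node (.node (.leaf 11888) (.leaf 0)) (.node (.leaf 5228) (.leaf 0))))) (.node (.node (.node (.node (.leaf 15361) (.leaf 17307)) (.node (.leaf 1165) (.leaf 0))) (.node (.node (.leaf 2620) (.leaf 0)) (.node (.leaf 17503) (.leaf 0)))) (.node (.node (.node (.leaf 10996) (.leaf 7894)) (.node (.leaf 175) (.leaf 0))) (.node (.node (.leaf 8034) (.leaf 0)) (.node (.leaf 5932) (.leaf 0)))))) (.node (.node (.node (.node (.node (.leaf 11033) (.leaf 18050)) (.node (.leaf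 4994) (.leaf 0))) (.node (.node (.leaf 8535) (.leaf 0)) (.node (.leaf 19578) (.leaf 0)))) (.node (.node (.node (.leaf 13441) (.leaf 2931)) (.node (.leaf 1191) (.leaf 0))) (.node (.node (.leaf 13091) (.leaf 0)) (.node (.leaf 8300) (.leaf 0))))) (.node (.node (.node (.node (.leaf 4088) (.leaf 2493)) (.node (.leaf 18360) (.leaf 0))) (.node (.node (.leaf 6538) (.leaf 0)) (.node (.leaf 19272) (.leaf 0)))) (.node (.node (.node (.leaf 10114) (.leaf 11385)) (.node (.leaf 762) (.leaf 0))) (.node (.node (.leaf 3345) (.leaf 0)) (.node (.leaf 6113) (.leaf 0)))))))) (.node (.node (.node (.node (.node (.node (.node (.leaf 8737) (.leaf 14991)) (.node (.leaf 1024) (.leaf 0))) (.node (.node (.leaf 15207) (.leaf 0)) (.node (.leaf 13148) (.leaf 0)))) (.node (.node (.node (.leaf 20312) (.leaf 8656)) (.node (.leaf 11279) (.leaf 0))) (.node (.node (.leaf 15317) (.leaf 0)) (.node (.leaf 7723) (.leaf 0))))) (.node (.node (.node (.node (.leaf 20010) (.leaf 2407)) (.node (.leaf 7361) (.leaf 0))) (.node (.node (.leaf 3902) (.leaf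 0)) (.node (.leaf 12157) (.leaf 0)))) (.node (.node (.node (.leaf 20263) (.leaf 3360)) (.node (.leaf 12929) (.leaf 0))) (.node (.node (.leaf 20116) (.leaf 0)) (.node (.leaf 8874) (.leaf 0)))))) (.node (.node (.node (.node (.node (.leaf 17655) (.leaf 8721)) (.node (.leaf 9041) (.leaf 0))) (.node (.node (.leaf 15363) (.leaf 0)) (.node (.leaf 9877) (.leaf 0)))) (.node (.node (.node (.leaf 20504) (.leaf 19906)) (.node (.leaf 974) (.leaf 0))) (.node (.node (.leaf 16700) (.leaf 0)) (.node (.leaf 16659) (.leaf 0))))) (.node (.node (.node (.node (.leaf 790) (.leaf 9312)) (.node (.leaf 5124) (.leaf 0))) (.node (.node (.leaf 19671) (.leaf 0)) (.node (.leaf 13059) (.leaf 0)))) (.node (.node (.node (.leaf 6885) (.leaf 18677)) (.node (.leaf 9079) (.leaf 0))) (.node (.node (.leaf 11618) (.leaf 0)) (.node (.leaf 18805) (.leaf 0))))))) (.node (.node (.node (.node (.node (.node (.leaf 1782) (.leaf 16548)) (.node (.leaf 10590) (.leaf 0))) (.node (.node (.leaf 153) (.leaf 0)) (.node (.leaf 15639) (.leaf 0)))) (.node (.node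 (.node (.leaf 17651) (.leaf 19448)) (.node (.leaf 15443) (.leaf 0))) (.node (.node (.leaf 16514) (.leaf 0)) (.node (.leaf 16536) (.leaf 0))))) (.node (.node (.node (.node (.leaf 7329) (.leaf 12343)) (.node (.leaf 18452) (.leaf 0))) (.node (.node (.leaf 13532) (.leaf 0)) (.node (.leaf 11996) (.leaf 0)))) (.node (.node (.node (.leaf 11499) (.leaf 11744)) (.node (.leaf 9223) (.leaf 0))) (.node (.node (.leaf 321) (.leaf 0)) (.node (.leaf 3568) (.leaf 0)))))) (.node (.node (.node (.node (.node (.leaf 8363) (.leaf 4290)) (.node (.leaf 6693) (.leaf 0))) (.node (.node (.leaf 3792) (.leaf 0)) (.node (.leaf 4083) (.leaf 0)))) (.node (.node (.node (.leaf 10279) (.leaf 16497)) (.node (.leaf 7831) (.leaf 0))) (.node (.node (.leaf 3732) (.leaf 0)) (.node (.leaf 16564) (.leaf 0))))) (.node (.node (.node (.node (.leaf 14756) (.leaf 9856)) (.node (.leaf 2940) (.leaf 0))) (.node (.node (.leaf 12447) (.leaf 0)) (.node (.leaf 3433) (.leaf 0)))) (.node (.node (.node (.leaf 6564) (.leaf 11474)) (.node (.leaf 6286) (.leaf 0)))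 (.node (.node (.leaf 7381) (.leaf 0)) (.node (.leaf 4071) (.leaf 0))))))))

def omT28 : NT := .node (.node (.node (.node (.node (.node (.node (.node (.leaf 1931) (.leaf 12947)) (.node (.leaf 7886) (.leaf 0))) (.node (.node (.leaf 14661) (.leaf 10814)) (.node (.leaf 16123) (.leaf 0)))) (.node (.node (.node (.leaf 11019) (.leaf 7778)) (.node (.leaf 13156) (.leaf 0))) (.node (.node (.leaf 4172) (.leaf 0)) (.node (.leaf 17126) (.leaf 0))))) (.node (.node (.node (.node (.leaf 10844) (.leaf 15853)) (.node (.leaf 13024) (.leaf 0))) (.node (.node (.leaf 13774) (.leaf 0)) (.node (.leaf 8293) (.leaf 0)))) (.node (.node (.node (.leaf 11285) (.leaf 11581)) (.node (.leaf 5866) (.leaf 0))) (.node (.node (.leaf 16881) (.leaf 0)) (.node (.leaf 7360) (.leaf 0)))))) (.node (.node (.node (.node (.node (.leaf 9776) (.leaf 2677)) (.node (.leaf 16096) (.leaf 0))) (.node (.node (.leaf 16608) (.leaf 0)) (.node (.leaf 149) (.leaf 0)))) (.node (.node (.node (.leaf 3958) (.leaf 11567)) (.node (.leaf 15573) (.leaf 0))) (.node (.node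 (.leaf 6037) (.leaf 0)) (.node (.leaf 4640) (.leaf 0))))) (.node (.node (.node (.node (.leaf 5801) (.leaf 10730)) (.node (.leaf 14666) (.leaf 0))) (.node (.node (.leaf 12121) (.leaf 0)) (.node (.leaf 12610) (.leaf 0)))) (.node (.node (.node (.leaf 9263) (.leaf 8736)) (.node (.leaf 1155) (.leaf 0))) (.node (.node (.leaf 9048) (.leaf 0)) (.node (.leaf 20071) (.leaf 0))))))) (.node (.node (.node (.node (.node (.node (.leaf 11362) (.leaf 13726)) (.node (.leaf 9704) (.leaf 0))) (.node (.node (.leaf 6725) (.leaf 0)) (.node (.leaf 7173) (.leaf 0)))) (.node (.node (.node (.leaf 19865) (.leaf 3143)) (.node (.leaf 14801) (.leaf 0))) (.node (.node (.leaf 16833) (.leaf 0)) (.node (.leaf 14032) (.leaf 0))))) (.node (.node (.node (.node (.leaf 3730) (.leaf 16308)) (.node (.leaf 11057) (.leaf 0))) (.node (.node (.leaf 8474) (.leaf 0)) (.node (.leaf 19937) (.leaf 0)))) (.node (.node (.node (.leaf 14269) (.leaf 19103)) (.node (.leaf 18815) (.leaf 0))) (.node (.node (.leaf 18712) (.leaf 0)) (.node (.leaf 16332) (.leaf 0))))))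 (.node (.node (.node (.node (.node (.leaf 11122) (.leaf 16537)) (.node (.leaf 19963) (.leaf 0))) (.node (.node (.leaf 19254) (.leaf 0)) (.node (.leaf 327) (.leaf 0)))) (.node (.node (.node (.leaf 2174) (.leaf 2594)) (.node (.leaf 13061) (.leaf 0))) (.node (.node (.leaf 17494) (.leaf 0)) (.node (.leaf 10415) (.leaf 0))))) (.node (.node (.node (.node (.leaf 1906) (.leaf 19499)) (.node (.leaf 16747) (.leaf 0))) (.node (.node (.leaf 8742) (.leaf 0)) (.node (.leaf 15455) (.leaf 0)))) (.node (.node (.node (.leaf 18594) (.leaf 14994)) (.node (.leaf 4417) (.leaf 0))) (.node (.node (.leaf 12053) (.leaf 0)) (.node (.leaf 11234) (.leaf 0)))))))) (.node (.node (.node (.node (.node (.node (.node (.leaf 367) (.leaf 16303)) (.node (.leaf 10797) (.leaf 0))) (.node (.node (.leaf 17467) (.leaf 0)) (.node (.leaf 17523) (.leaf 0)))) (.node (.node (.node (.leaf 8722) (.leaf 11074)) (.node (.leaf 11241) (.leaf 0))) (.node (.node (.leaf 12587) (.leaf 0)) (.node (.leaf 14307) (.leaf 0))))) (.node (.node (.node (.node (.leaf 15592)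 (.leaf 15544)) (.node (.leaf 16481) (.leaf 0))) (.node (.node (.leaf 13712) (.leaf 0)) (.node (.leaf 9626) (.leaf 0)))) (.node (.node (.node (.leaf 8959) (.leaf 13717)) (.node (.leaf 5925) (.leaf 0))) (.node (.node (.leaf 1982) (.leaf 0)) (.node (.leaf 10551) (.leaf 0)))))) (.node (.node (.node (.node (.node (.leaf 943) (.leaf 8776)) (.node (.leaf 2756) (.leaf 0))) (.node (.node (.leaf 19382) (.leaf 0)) (.node (.leaf 4924) (.leaf 0)))) (.node (.node (.node (.leaf 12608) (.leaf 5495)) (.node (.leaf 6755) (.leaf 0))) (.node (.node (.leaf 13845) (.leaf 0)) (.node (.leaf 7832) (.leaf 0))))) (.node (.node (.node (.node (.leaf 19868) (.leaf 8095)) (.node (.leaf 16673) (.leaf 0))) (.node (.node (.leaf 6952) (.leaf 0)) (.node (.leaf 2351) (.leaf 0)))) (.node (.node (.node (.leaf 12095) (.leaf 16189)) (.node (.leaf 15549) (.leaf 0))) (.node (.node (.leaf 15815) (.leaf 0)) (.node (.leaf 3154) (.leaf 0))))))) (.node (.node (.node (.node (.node (.node (.leaf 18464) (.leaf 333)) (.node (.leaf 2023) (.leaf 0))) (.node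 (.node (.leaf 13323) (.leaf 0)) (.node (.leaf 13595) (.leaf 0)))) (.node (.node (.node (.leaf 19461) (.leaf 15925)) (.node (.leaf 4992) (.leaf 0))) (.node (.node (.leaf 19302) (.leaf 0)) (.node (.leaf 15412) (.leaf 0))))) (.node (.node (.node (.node (.leaf 5135) (.leaf 12725)) (.node (.leaf 10850) (.leaf 0))) (.node (.node (.leaf 5032) (.leaf 0)) (.node (.leaf 2184) (.leaf 0)))) (.node (.node (.node (.leaf 3048) (.leaf 16690)) (.node (.leaf 7687) (.leaf 0))) (.node (.node (.leaf 9482) (.leaf 0)) (.node (.leaf 17961) (.leaf 0)))))) (.node (.node (.node (.node (.node (.leaf 16867) (.leaf 20034)) (.node (.leaf 9163) (.leaf 0))) (.node (.node (.leaf 13917) (.leaf 0)) (.node (.leaf 19451) (.leaf 0)))) (.node (.node (.node (.leaf 9727) (.leaf 12117)) (.node (.leaf 15482) (.leaf 0))) (.node (.node (.leaf 19851) (.leaf 0)) (.node (.leaf 1849) (.leaf 0))))) (.node (.node (.node (.node (.leaf 2897) (.leaf 4951)) (.node (.leaf 8498) (.leaf 0))) (.node (.node (.leaf 5174) (.leaf 0)) (.node (.leaf 17687) (.leaf 0))))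 (.node (.node (.node (.leaf 18533) (.leaf 9733)) (.node (.leaf 6299) (.leaf 0))) (.node (.node (.leaf 8848) (.leaf 0)) (.node (.leaf 17598) (.leaf 0))))))))

def omT29 : NT := .node (.node (.node (.node (.node (.node (.node (.node (.leaf 14870) (.leaf 4131)) (.node (.leaf 20238) (.leaf 0))) (.node (.node (.leaf 15658) (.leaf 4086)) (.node (.leaf 2521) (.leaf 0)))) (.node (.node (.node (.leaf 2686) (.leaf 20193)) (.node (.leaf 10514) (.leaf 0))) (.node (.node (.leaf 8732) (.leaf 0)) (.node (.leaf 1874) (.leaf 0))))) (.node (.node (.node (.node (.leaf 17256) (.leaf 13771)) (.node (.leaf 12458) (.leaf 0))) (.node (.node (.leaf 4930) (.leaf 0)) (.node (.leaf 10557) (.leaf 0)))) (.node (.node (.node (.leaf 9261) (.leaf 11796)) (.node (.leaf 18511) (.leaf 0))) (.node (.node (.leaf 14559) (.leaf 0)) (.node (.leaf 17594) (.leaf 0)))))) (.node (.node (.node (.node (.node (.leaf 11110) (.leaf 14600)) (.node (.leaf 6249) (.leaf 0))) (.node (.node (.leaf 8175) (.leaf 0)) (.node (.leaf 7376) (.leaf 0)))) (.node (.node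 (.node (.leaf 16248) (.leaf 12716)) (.node (.leaf 20154) (.leaf 0))) (.node (.node (.leaf 17462) (.leaf 0)) (.node (.leaf 18556) (.leaf 0))))) (.node (.node (.node (.node (.leaf 3524) (.leaf 13469)) (.node (.leaf 5639) (.leaf 0))) (.node (.node (.leaf 186) (.leaf 0)) (.node (.leaf 8627) (.leaf 0)))) (.node (.node (.node (.leaf 4025) (.leaf 15996)) (.node (.leaf 15285) (.leaf 0))) (.node (.node (.leaf 6) (.leaf 0)) (.node (.leaf 5991) (.leaf 0))))))) (.node (.node (.node (.node (.node (.node (.leaf 11469) (.leaf 14250)) (.node (.leaf 1869) (.leaf 0))) (.node (.node (.leaf 14290) (.leaf 0)) (.node (.leaf 70) (.leaf 0)))) (.node (.node (.node (.leaf 13117) (.leaf 6558)) (.node (.leaf 18306) (.leaf 0))) (.node (.node (.leaf 15732) (.leaf 0)) (.node (.leaf 4597) (.leaf 0))))) (.node (.node (.node (.node (.leaf 14488) (.leaf 636)) (.node (.leaf 19085) (.leaf 0))) (.node (.node (.leaf 1404) (.leaf 0)) (.node (.leaf 18026) (.leaf 0)))) (.node (.node (.node (.leaf 12365) (.leaf 5087)) (.node (.leaf 6589) (.leaf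 0))) (.node (.node (.leaf 12505) (.leaf 0)) (.node (.leaf 12962) (.leaf 0)))))) (.node (.node (.node (.node (.node (.leaf 20147) (.leaf 7432)) (.node (.leaf 15485) (.leaf 0))) (.node (.node (.leaf 4536) (.leaf 0)) (.node (.leaf 3710) (.leaf 0)))) (.node (.node (.node (.leaf 7969) (.leaf 18773)) (.node (.leaf 8435) (.leaf 0))) (.node (.node (.leaf 19096) (.leaf 0)) (.node (.leaf 19426) (.leaf 0))))) (.node (.node (.node (.node (.leaf 8964) (.leaf 4966)) (.node (.leaf 9554) (.leaf 0))) (.node (.node (.leaf 10760) (.leaf 0)) (.node (.leaf 5099) (.leaf 0)))) (.node (.node (.node (.leaf 14050) (.leaf 13438)) (.node (.leaf 20055) (.leaf 0))) (.node (.node (.leaf 9718) (.leaf 0)) (.node (.leaf 15675) (.leaf 0)))))))) (.node (.node (.node (.node (.node (.node (.node (.leaf 13681) (.leaf 6918)) (.node (.leaf 9120) (.leaf 0))) (.node (.node (.leaf 6090) (.leaf 0)) (.node (.leaf 6467) (.leaf 0)))) (.node (.node (.node (.leaf 19980) (.leaf 12875)) (.node (.leaf 3246) (.leaf 0))) (.node (.node (.leaf 12337) (.leaf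 0)) (.node (.leaf 13577) (.leaf 0))))) (.node (.node (.node (.node (.leaf 3637) (.leaf 17194)) (.node (.leaf 2361) (.leaf 0))) (.node (.node (.leaf 3133) (.leaf 0)) (.node (.leaf 11703) (.leaf 0)))) (.node (.node (.node (.leaf 403) (.leaf 15042)) (.node (.leaf 2912) (.leaf 0))) (.node (.node (.leaf 9538) (.leaf 0)) (.node (.leaf 18038) (.leaf 0)))))) (.node (.node (.node (.node (.node (.leaf 13529) (.leaf 5644)) (.node (.leaf 723) (.leaf 0))) (.node (.node (.leaf 6492) (.leaf 0)) (.node (.leaf 11633) (.leaf 0)))) (.node (.node (.node (.leaf 5627) (.leaf 9655)) (.node (.leaf 18361) (.leaf 0))) (.node (.node (.leaf 8168) (.leaf 0)) (.node (.leaf 17627) (.leaf 0))))) (.node (.node (.node (.node (.leaf 7765) (.leaf 14249)) (.node (.leaf 10266) (.leaf 0))) (.node (.node (.leaf 8665) (.leaf 0)) (.node (.leaf 15662) (.leaf 0)))) (.node (.node (.node (.leaf 6503) (.leaf 3126)) (.node (.leaf 6194) (.leaf 0))) (.node (.node (.leaf 18791) (.leaf 0)) (.node (.leaf 20366) (.leaf 0))))))) (.node (.node (.node (.node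 (.node (.node (.leaf 6745) (.leaf 18506)) (.node (.leaf 7141) (.leaf 0))) (.node (.node (.leaf 16718) (.leaf 0)) (.node (.leaf 5030) (.leaf 0)))) (.node (.node (.node (.leaf 19259) (.leaf 19779)) (.node (.leaf 13473) (.leaf 0))) (.node (.node (.leaf 7891) (.leaf 0)) (.node (.leaf 20009) (.leaf 0))))) (.node (.node (.node (.node (.leaf 8262) (.leaf 17517)) (.node (.leaf 3460) (.leaf 0))) (.node (.node (.leaf 13877) (.leaf 0)) (.node (.leaf 1213) (.leaf 0)))) (.node (.node (.node (.leaf 19850) (.leaf 17376)) (.node (.leaf 17472) (.leaf 0))) (.node (.node (.leaf 19717) (.leaf 0)) (.node (.leaf 6193) (.leaf 0)))))) (.node (.node (.node (.node (.node (.leaf 17841) (.leaf 13981)) (.node (.leaf 6115) (.leaf 0))) (.node (.node (.leaf 6270) (.leaf 0)) (.node (.leaf 6640) (.leaf 0)))) (.node (.node (.node (.leaf 17835) (.leaf 7948)) (.node (.leaf 35) (.leaf 0))) (.node (.node (.leaf 9779) (.leaf 0)) (.node (.leaf 257) (.leaf 0))))) (.node (.node (.node (.node (.leaf 16155) (.leaf 16010)) (.node (.leaf 2803) (.leaf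 0))) (.node (.node (.leaf 19891) (.leaf 0)) (.node (.leaf 3399) (.leaf 0)))) (.node (.node (.node (.leaf 12417) (.leaf 17416)) (.node (.leaf 13277) (.leaf 0))) (.node (.node (.leaf 191) (.leaf 0)) (.node (.leaf 14090) (.leaf 0))))))))

def omT30 : NT := .node (.node (.node (.node (.node (.node (.node (.node (.leaf 13439) (.leaf 18032)) (.node (.leaf 19640) (.leaf 0))) (.node (.node (.leaf 2778) (.leaf 7091)) (.node (.leaf 3018) (.leaf 0)))) (.node (.node (.node (.leaf 11634) (.leaf 16477)) (.node (.leaf 14116) (.leaf 0))) (.node (.node (.leaf 5810) (.leaf 0)) (.node (.leaf 2445) (.leaf 0))))) (.node (.node (.node (.node (.leaf 7379) (.leaf 13153)) (.node (.leaf 8361) (.leaf 0))) (.node (.node (.leaf 15065) (.leaf 0)) (.node (.leaf 7115) (.leaf 0)))) (.node (.node (.node (.leaf 5805) (.leaf 11687)) (.node (.leaf 18823) (.leaf 0))) (.node (.node (.leaf 12330) (.leaf 0)) (.node (.leaf 6310) (.leaf 0)))))) (.node (.node (.node (.node (.node (.leaf 20449) (.leaf 6791)) (.node (.leaf 14496) (.leaf 0))) (.node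 (.node (.leaf 535) (.leaf 0)) (.node (.leaf 5679) (.leaf 0)))) (.node (.node (.node (.leaf 19079) (.leaf 16709)) (.node (.leaf 5213) (.leaf 0))) (.node (.node (.leaf 17057) (.leaf 0)) (.node (.leaf 19988) (.leaf 0))))) (.node (.node (.node (.node (.leaf 20038) (.leaf 15114)) (.node (.leaf 14608) (.leaf 0))) (.node (.node (.leaf 17548) (.leaf 0)) (.node (.leaf 8676) (.leaf 0)))) (.node (.node (.node (.leaf 17468) (.leaf 3425)) (.node (.leaf 4380) (.leaf 0))) (.node (.node (.leaf 10303) (.leaf 0)) (.node (.leaf 5112) (.leaf 0))))))) (.node (.node (.node (.node (.node (.node (.leaf 2964) (.leaf 10735)) (.node (.leaf 11812) (.leaf 0))) (.node (.node (.leaf 6273) (.leaf 0)) (.node (.leaf 3617) (.leaf 0)))) (.node (.node (.node (.leaf 12832) (.leaf 5172)) (.node (.leaf 14688) (.leaf 0))) (.node (.node (.leaf 1016) (.leaf 0)) (.node (.leaf 19878) (.leaf 0))))) (.node (.node (.node (.node (.leaf 17473) (.leaf 14467)) (.node (.leaf 14895) (.leaf 0))) (.node (.node (.leaf 1313) (.leaf 0)) (.node (.leaf 11310) (.leaf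 0)))) (.node (.node (.node (.leaf 13941) (.leaf 11420)) (.node (.leaf 2537) (.leaf 0))) (.node (.node (.leaf 15277) (.leaf 0)) (.node (.leaf 3535) (.leaf 0)))))) (.node (.node (.node (.node (.node (.leaf 8907) (.leaf 17180)) (.node (.leaf 13896) (.leaf 0))) (.node (.node (.leaf 10499) (.leaf 0)) (.node (.leaf 11167) (.leaf 0)))) (.node (.node (.node (.leaf 18479) (.leaf 6065)) (.node (.leaf 13292) (.leaf 0))) (.node (.node (.leaf 10085) (.leaf 0)) (.node (.leaf 6715) (.leaf 0))))) (.node (.node (.node (.node (.leaf 7497) (.leaf 19830)) (.node (.leaf 6663) (.leaf 0))) (.node (.node (.leaf 16254) (.leaf 0)) (.node (.leaf 3884) (.leaf 0)))) (.node (.node (.node (.leaf 618) (.leaf 4210)) (.node (.leaf 7761) (.leaf 0))) (.node (.node (.leaf 6913) (.leaf 0)) (.node (.leaf 8454) (.leaf 0)))))))) (.node (.node (.node (.node (.node (.node (.node (.leaf 16915) (.leaf 13399)) (.node (.leaf 15068) (.leaf 0))) (.node (.node (.leaf 18565) (.leaf 0)) (.node (.leaf 8654) (.leaf 0)))) (.node (.node (.node (.leaf 5985)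 (.leaf 9518)) (.node (.leaf 15193) (.leaf 0))) (.node (.node (.leaf 18560) (.leaf 0)) (.node (.leaf 14836) (.leaf 0))))) (.node (.node (.node (.node (.leaf 23) (.leaf 18414)) (.node (.leaf 14837) (.leaf 0))) (.node (.node (.leaf 13090) (.leaf 0)) (.node (.leaf 16635) (.leaf 0)))) (.node (.node (.node (.leaf 8804) (.leaf 20394)) (.node (.leaf 4353) (.leaf 0))) (.node (.node (.leaf 12208) (.leaf 0)) (.node (.leaf 16016) (.leaf 0)))))) (.node (.node (.node (.node (.node (.leaf 11447) (.leaf 5940)) (.node (.leaf 3712) (.leaf 0))) (.node (.node (.leaf 13515) (.leaf 0)) (.node (.leaf 19673) (.leaf 0)))) (.node (.node (.node (.leaf 18006) (.leaf 17663)) (.node (.leaf 19359) (.leaf 0))) (.node (.node (.leaf 1684) (.leaf 0)) (.node (.leaf 19446) (.leaf 0))))) (.node (.node (.node (.node (.leaf 13766) (.leaf 11557)) (.node (.leaf 16540) (.leaf 0))) (.node (.node (.leaf 19071) (.leaf 0)) (.node (.leaf 14521) (.leaf 0)))) (.node (.node (.node (.leaf 4715) (.leaf 2836)) (.node (.leaf 18440) (.leaf 0))) (.node (.node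 (.leaf 18517) (.leaf 0)) (.node (.leaf 10940) (.leaf 0))))))) (.node (.node (.node (.node (.node (.node (.leaf 1069) (.leaf 3910)) (.node (.leaf 6567) (.leaf 0))) (.node (.node (.leaf 3145) (.leaf 0)) (.node (.leaf 11968) (.leaf 0)))) (.node (.node (.node (.leaf 5354) (.leaf 701)) (.node (.leaf 10825) (.leaf 0))) (.node (.node (.leaf 3875) (.leaf 0)) (.node (.leaf 1890) (.leaf 0))))) (.node (.node (.node (.node (.leaf 5463) (.leaf 5829)) (.node (.leaf 4888) (.leaf 0))) (.node (.node (.leaf 17418) (.leaf 0)) (.node (.leaf 9846) (.leaf 0)))) (.node (.node (.node (.leaf 1178) (.leaf 4193)) (.node (.leaf 223) (.leaf 0))) (.node (.node (.leaf 19433) (.leaf 0)) (.node (.leaf 12853) (.leaf 0)))))) (.node (.node (.node (.node (.node (.leaf 2757) (.leaf 15243)) (.node (.leaf 3468) (.leaf 0))) (.node (.node (.leaf 16057) (.leaf 0)) (.node (.leaf 15768) (.leaf 0)))) (.node (.node (.node (.leaf 18929) (.leaf 17215)) (.node (.leaf 12203) (.leaf 0))) (.node (.node (.leaf 15974) (.leaf 0)) (.node (.leaf 18096) (.leaf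 0))))) (.node (.node (.node (.node (.leaf 2051) (.leaf 10549)) (.node (.leaf 5881) (.leaf 0))) (.node (.node (.leaf 11028) (.leaf 0)) (.node (.leaf 4986) (.leaf 0)))) (.node (.node (.node (.leaf 17740) (.leaf 6827)) (.node (.leaf 12531) (.leaf 0))) (.node (.node (.leaf 824) (.leaf 0)) (.node (.leaf 9799) (.leaf 0))))))))

def omT31 : NT := .node (.node (.node (.node (.node (.node (.node (.node (.leaf 16392) (.leaf 6004)) (.node (.leaf 20372) (.leaf 0))) (.node (.node (.leaf 16877) (.leaf 14612)) (.node (.leaf 9102) (.leaf 0)))) (.node (.node (.node (.leaf 11398) (.leaf 15235)) (.node (.leaf 15383) (.leaf 0))) (.node (.node (.leaf 7539) (.leaf 0)) (.node (.leaf 4435) (.leaf 0))))) (.node (.node (.node (.node (.leaf 9355) (.leaf 13837)) (.node (.leaf 7259) (.leaf 0))) (.node (.node (.leaf 5988) (.leaf 0)) (.node (.leaf 18236) (.leaf 0)))) (.node (.node (.node (.leaf 17826) (.leaf 15684)) (.node (.leaf 16841) (.leaf 0))) (.node (.node (.leaf 20077) (.leaf 0)) (.node (.leaf 2123) (.leaf 0)))))) (.node (.node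 (.node (.node (.node (.leaf 11845) (.leaf 1078)) (.node (.leaf 13964) (.leaf 0))) (.node (.node (.leaf 7005) (.leaf 0)) (.node (.leaf 252) (.leaf 0)))) (.node (.node (.node (.leaf 11250) (.leaf 11410)) (.node (.leaf 17642) (.leaf 0))) (.node (.node (.leaf 2235) (.leaf 0)) (.node (.leaf 4175) (.leaf 0))))) (.node (.node (.node (.node (.leaf 17137) (.leaf 7992)) (.node (.leaf 2068) (.leaf 0))) (.node (.node (.leaf 7513) (.leaf 0)) (.node (.leaf 18817) (.leaf 0)))) (.node (.node (.node (.leaf 20442) (.leaf 7785)) (.node (.leaf 12123) (.leaf 0))) (.node (.node (.leaf 2359) (.leaf 0)) (.node (.leaf 18449) (.leaf 0))))))) (.node (.node (.node (.node (.node (.node (.leaf 12806) (.leaf 3480)) (.node (.leaf 12422) (.leaf 0))) (.node (.node (.leaf 13111) (.leaf 0)) (.node (.leaf 585) (.leaf 0)))) (.node (.node (.node (.leaf 739) (.leaf 6834)) (.node (.leaf 12221) (.leaf 0))) (.node (.node (.leaf 1131) (.leaf 0)) (.node (.leaf 13622) (.leaf 0))))) (.node (.node (.node (.node (.leaf 17909) (.leaf 2731)) (.node (.leaf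 10803) (.leaf 0))) (.node (.node (.leaf 11992) (.leaf 0)) (.node (.leaf 10022) (.leaf 0)))) (.node (.node (.node (.leaf 10617) (.leaf 20039)) (.node (.leaf 7943) (.leaf 0))) (.node (.node (.leaf 780) (.leaf 0)) (.node (.leaf 20023) (.leaf 0)))))) (.node (.node (.node (.node (.node (.leaf 17518) (.leaf 3341)) (.node (.leaf 12139) (.leaf 0))) (.node (.node (.leaf 19885) (.leaf 0)) (.node (.leaf 7999) (.leaf 0)))) (.node (.node (.node (.leaf 12042) (.leaf 14281)) (.node (.leaf 15899) (.leaf 0))) (.node (.node (.leaf 11282) (.leaf 0)) (.node (.leaf 3554) (.leaf 0))))) (.node (.node (.node (.node (.leaf 9613) (.leaf 3119)) (.node (.leaf 15835) (.leaf 0))) (.node (.node (.leaf 13767) (.leaf 0)) (.node (.leaf 20068) (.leaf 0)))) (.node (.node (.node (.leaf 18269) (.leaf 5111)) (.node (.leaf 17076) (.leaf 0))) (.node (.node (.leaf 7940) (.leaf 0)) (.node (.leaf 14706) (.leaf 0)))))))) (.node (.node (.node (.node (.node (.node (.node (.leaf 5877) (.leaf 2053)) (.node (.leaf 10934) (.leaf 0))) (.node (.node (.leaf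 7445) (.leaf 0)) (.node (.leaf 52) (.leaf 0)))) (.node (.node (.node (.leaf 14741) (.leaf 5415)) (.node (.leaf 10945) (.leaf 0))) (.node (.node (.leaf 7196) (.leaf 0)) (.node (.leaf 3200) (.leaf 0))))) (.node (.node (.node (.node (.leaf 9607) (.leaf 14943)) (.node (.leaf 13242) (.leaf 0))) (.node (.node (.leaf 3682) (.leaf 0)) (.node (.leaf 1956) (.leaf 0)))) (.node (.node (.node (.leaf 1968) (.leaf 18627)) (.node (.leaf 7059) (.leaf 0))) (.node (.node (.leaf 18214) (.leaf 0)) (.node (.leaf 17906) (.leaf 0)))))) (.node (.node (.node (.node (.node (.leaf 13676) (.leaf 6856)) (.node (.leaf 4708) (.leaf 0))) (.node (.node (.leaf 19728) (.leaf 0)) (.node (.leaf 7470) (.leaf 0)))) (.node (.node (.node (.leaf 4142) (.leaf 2205)) (.node (.leaf 15868) (.leaf 0))) (.node (.node (.leaf 3518) (.leaf 0)) (.node (.leaf 17532) (.leaf 0))))) (.node (.node (.node (.node (.leaf 17) (.leaf 1913)) (.node (.leaf 5469) (.leaf 0))) (.node (.node (.leaf 4910) (.leaf 0)) (.node (.leaf 4716) (.leaf 0)))) (.node (.node (.node (.leaf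 14603) (.leaf 15935)) (.node (.leaf 13237) (.leaf 0))) (.node (.node (.leaf 9169) (.leaf 0)) (.node (.leaf 7591) (.leaf 0))))))) (.node (.node (.node (.node (.node (.node (.leaf 13657) (.leaf 1485)) (.node (.leaf 1147) (.leaf 0))) (.node (.node (.leaf 5956) (.leaf 0)) (.node (.leaf 506) (.leaf 0)))) (.node (.node (.node (.leaf 6329) (.leaf 18697)) (.node (.leaf 14745) (.leaf 0))) (.node (.node (.leaf 17399) (.leaf 0)) (.node (.leaf 2272) (.leaf 0))))) (.node (.node (.node (.node (.leaf 12948) (.leaf 9175)) (.node (.leaf 2841) (.leaf 0))) (.node (.node (.leaf 16106) (.leaf 0)) (.node (.leaf 7859) (.leaf 0)))) (.node (.node (.node (.leaf 18466) (.leaf 16691)) (.node (.leaf 3986) (.leaf 0))) (.node (.node (.leaf 14643) (.leaf 0)) (.node (.leaf 8518) (.leaf 0)))))) (.node (.node (.node (.node (.node (.leaf 20268) (.leaf 3557)) (.node (.leaf 3782) (.leaf 0))) (.node (.node (.leaf 9928) (.leaf 0)) (.node (.leaf 8386) (.leaf 0)))) (.node (.node (.node (.leaf 5970) (.leaf 14182)) (.node (.leaf 9540) (.leaf 0)))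 (.node (.node (.leaf 10693) (.leaf 0)) (.node (.leaf 8345) (.leaf 0))))) (.node (.node (.node (.node (.leaf 10593) (.leaf 17398)) (.node (.leaf 2935) (.leaf 0))) (.node (.node (.leaf 2287) (.leaf 0)) (.node (.leaf 4860) (.leaf 0)))) (.node (.node (.node (.leaf 9865) (.leaf 3841)) (.node (.leaf 1950) (.leaf 0))) (.node (.node (.leaf 13757) (.leaf 0)) (.node (.leaf 18611) (.leaf 0))))))))

def omT32 : NT := .node (.node (.node (.node (.node (.node (.node (.node (.leaf 18919) (.leaf 7474)) (.node (.leaf 11760) (.leaf 0))) (.node (.node (.leaf 8131) (.leaf 19317)) (.node (.leaf 2882) (.leaf 0)))) (.node (.node (.node (.leaf 7031) (.leaf 10166)) (.node (.leaf 14880) (.leaf 0))) (.node (.node (.leaf 8165) (.leaf 0)) (.node (.leaf 5152) (.leaf 0))))) (.node (.node (.node (.node (.leaf 10976) (.leaf 8160)) (.node (.leaf 5306) (.leaf 0))) (.node (.node (.leaf 15084) (.leaf 0)) (.node (.leaf 18039) (.leaf 0)))) (.node (.node (.node (.leaf 11712) (.leaf 18136)) (.node (.leaf 3662) (.leaf 0))) (.node (.node (.leaf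 10397) (.leaf 0)) (.node (.leaf 11383) (.leaf 0)))))) (.node (.node (.node (.node (.node (.leaf 13354) (.leaf 160)) (.node (.leaf 2636) (.leaf 0))) (.node (.node (.leaf 10925) (.leaf 0)) (.node (.leaf 2812) (.leaf 0)))) (.node (.node (.node (.leaf 17660) (.leaf 2879)) (.node (.leaf 17935) (.leaf 0))) (.node (.node (.leaf 3720) (.leaf 0)) (.node (.leaf 4694) (.leaf 0))))) (.node (.node (.node (.node (.leaf 2538) (.leaf 15988)) (.node (.leaf 19217) (.leaf 0))) (.node (.node (.leaf 15404) (.leaf 0)) (.node (.leaf 8411) (.leaf 0)))) (.node (.node (.node (.leaf 4341) (.leaf 7411)) (.node (.leaf 7428) (.leaf 0))) (.node (.node (.leaf 19853) (.leaf 0)) (.node (.leaf 11764) (.leaf 0))))))) (.node (.node (.node (.node (.node (.node (.leaf 10767) (.leaf 3643)) (.node (.leaf 20481) (.leaf 0))) (.node (.node (.leaf 8533) (.leaf 0)) (.node (.leaf 826) (.leaf 0)))) (.node (.node (.node (.leaf 6767) (.leaf 2182)) (.node (.leaf 300) (.leaf 0))) (.node (.node (.leaf 2449) (.leaf 0)) (.node (.leaf 536) (.leaf 0))))) (.node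 (.node (.node (.node (.leaf 13187) (.leaf 17008)) (.node (.leaf 9050) (.leaf 0))) (.node (.node (.leaf 14212) (.leaf 0)) (.node (.leaf 10700) (.leaf 0)))) (.node (.node (.node (.leaf 15570) (.leaf 2901)) (.node (.leaf 3047) (.leaf 0))) (.node (.node (.leaf 17198) (.leaf 0)) (.node (.leaf 20234) (.leaf 0)))))) (.node (.node (.node (.node (.node (.leaf 19612) (.leaf 1252)) (.node (.leaf 5816) (.leaf 0))) (.node (.node (.leaf 2503) (.leaf 0)) (.node (.leaf 12984) (.leaf 0)))) (.node (.node (.node (.leaf 12166) (.leaf 20380)) (.node (.leaf 20050) (.leaf 0))) (.node (.node (.leaf 10016) (.leaf 0)) (.node (.leaf 5358) (.leaf 0))))) (.node (.node (.node (.node (.leaf 11384) (.leaf 9368)) (.node (.leaf 8268) (.leaf 0))) (.node (.node (.leaf 12910) (.leaf 0)) (.node (.leaf 9822) (.leaf 0)))) (.node (.node (.node (.leaf 102) (.leaf 3109)) (.node (.leaf 11874) (.leaf 0))) (.node (.node (.leaf 19783) (.leaf 0)) (.node (.leaf 9945) (.leaf 0)))))))) (.node (.node (.node (.node (.node (.node (.node (.leaf 19713) (.leaf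 14408)) (.node (.leaf 2555) (.leaf 0))) (.node (.node (.leaf 17182) (.leaf 0)) (.node (.leaf 17195) (.leaf 0)))) (.node (.node (.node (.leaf 12729) (.leaf 7919)) (.node (.leaf 11112) (.leaf 0))) (.node (.node (.leaf 466) (.leaf 0)) (.node (.leaf 5891) (.leaf 0))))) (.node (.node (.node (.node (.leaf 17685) (.leaf 1687)) (.node (.leaf 3610) (.leaf 0))) (.node (.node (.leaf 7793) (.leaf 0)) (.node (.leaf 14892) (.leaf 0)))) (.node (.node (.node (.leaf 9438) (.leaf 8296)) (.node (.leaf 9615) (.leaf 0))) (.node (.node (.leaf 2130) (.leaf 0)) (.node (.leaf 11210) (.leaf 0)))))) (.node (.node (.node (.node (.node (.leaf 17439) (.leaf 14526)) (.node (.leaf 20316) (.leaf 0))) (.node (.node (.leaf 18538) (.leaf 0)) (.node (.leaf 2745) (.leaf 0)))) (.node (.node (.node (.leaf 17043) (.leaf 13613)) (.node (.leaf 2579) (.leaf 0))) (.node (.node (.leaf 18117) (.leaf 0)) (.node (.leaf 3527) (.leaf 0))))) (.node (.node (.node (.node (.leaf 6463) (.leaf 5484)) (.node (.leaf 14844) (.leaf 0))) (.node (.node (.leaf 1820)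 (.leaf 0)) (.node (.leaf 11524) (.leaf 0)))) (.node (.node (.node (.leaf 20022) (.leaf 2669)) (.node (.leaf 14760) (.leaf 0))) (.node (.node (.leaf 7923) (.leaf 0)) (.node (.leaf 10205) (.leaf 0))))))) (.node (.node (.node (.node (.node (.node (.leaf 16986) (.leaf 19689)) (.node (.leaf 9069) (.leaf 0))) (.node (.node (.leaf 6501) (.leaf 0)) (.node (.leaf 15620) (.leaf 0)))) (.node (.node (.node (.leaf 11736) (.leaf 6639)) (.node (.leaf 11600) (.leaf 0))) (.node (.node (.leaf 1376) (.leaf 0)) (.node (.leaf 9214) (.leaf 0))))) (.node (.node (.node (.node (.leaf 19258) (.leaf 15432)) (.node (.leaf 18450) (.leaf 0))) (.node (.node (.leaf 540) (.leaf 0)) (.node (.leaf 4178) (.leaf 0)))) (.node (.node (.node (.leaf 13168) (.leaf 4890)) (.node (.leaf 18676) (.leaf 0))) (.node (.node (.leaf 11473) (.leaf 0)) (.node (.leaf 12180) (.leaf 0)))))) (.node (.node (.node (.node (.node (.leaf 18915) (.leaf 19337)) (.node (.leaf 4944) (.leaf 0))) (.node (.node (.leaf 3820) (.leaf 0)) (.node (.leaf 3027) (.leaf 0)))) (.node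 (.node (.node (.leaf 18201) (.leaf 20375)) (.node (.leaf 6076) (.leaf 0))) (.node (.node (.leaf 1394) (.leaf 0)) (.node (.leaf 16313) (.leaf 0))))) (.node (.node (.node (.node (.leaf 2945) (.leaf 2969)) (.node (.leaf 2637) (.leaf 0))) (.node (.node (.leaf 15940) (.leaf 0)) (.node (.leaf 19477) (.leaf 0)))) (.node (.node (.node (.leaf 11224) (.leaf 17577)) (.node (.leaf 4722) (.leaf 0))) (.node (.node (.leaf 3547) (.leaf 0)) (.node (.leaf 15148) (.leaf 0))))))))

def omT33 : NT := .node (.node (.node (.node (.node (.node (.node (.node (.leaf 11068) (.leaf 15568)) (.node (.leaf 8205) (.leaf 0))) (.node (.node (.leaf 9029) (.leaf 9459)) (.node (.leaf 5187) (.leaf 0)))) (.node (.node (.node (.leaf 16470) (.leaf 18800)) (.node (.leaf 11195) (.leaf 0))) (.node (.node (.leaf 6182) (.leaf 0)) (.node (.leaf 1008) (.leaf 0))))) (.node (.node (.node (.node (.leaf 9978) (.leaf 1051)) (.node (.leaf 14771) (.leaf 0))) (.node (.node (.leaf 14133) (.leaf 0)) (.node (.leaf 13176) (.leaf 0)))) (.node (.node (.node (.leaf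 18483) (.leaf 1633)) (.node (.leaf 19756) (.leaf 0))) (.node (.node (.leaf 15308) (.leaf 0)) (.node (.leaf 18194) (.leaf 0)))))) (.node (.node (.node (.node (.node (.leaf 13099) (.leaf 75)) (.node (.leaf 12663) (.leaf 0))) (.node (.node (.leaf 2193) (.leaf 0)) (.node (.leaf 876) (.leaf 0)))) (.node (.node (.node (.leaf 6083) (.leaf 11506)) (.node (.leaf 14881) (.leaf 0))) (.node (.node (.leaf 6848) (.leaf 0)) (.node (.leaf 19139) (.leaf 0))))) (.node (.node (.node (.node (.leaf 15353) (.leaf 18459)) (.node (.leaf 8708) (.leaf 0))) (.node (.node (.leaf 6700) (.leaf 0)) (.node (.leaf 17442) (.leaf 0)))) (.node (.node (.node (.leaf 10432) (.leaf 18226)) (.node (.leaf 14719) (.leaf 0))) (.node (.node (.leaf 19193) (.leaf 0)) (.node (.leaf 929) (.leaf 0))))))) (.node (.node (.node (.node (.node (.node (.leaf 9334) (.leaf 7987)) (.node (.leaf 6234) (.leaf 0))) (.node (.node (.leaf 7157) (.leaf 0)) (.node (.leaf 13687) (.leaf 0)))) (.node (.node (.node (.leaf 7237) (.leaf 16697)) (.node (.leaf 11369) (.leaf 0)))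 (.node (.node (.leaf 3539) (.leaf 0)) (.node (.leaf 15041) (.leaf 0))))) (.node (.node (.node (.node (.leaf 18520) (.leaf 15087)) (.node (.leaf 4286) (.leaf 0))) (.node (.node (.leaf 4416) (.leaf 0)) (.node (.leaf 18795) (.leaf 0)))) (.node (.node (.node (.leaf 6212) (.leaf 4850)) (.node (.leaf 17029) (.leaf 0))) (.node (.node (.leaf 11446) (.leaf 0)) (.node (.leaf 3293) (.leaf 0)))))) (.node (.node (.node (.node (.node (.leaf 1772) (.leaf 6198)) (.node (.leaf 818) (.leaf 0))) (.node (.node (.leaf 4458) (.leaf 0)) (.node (.leaf 5145) (.leaf 0)))) (.node (.node (.node (.leaf 1514) (.leaf 15029)) (.node (.leaf 17343) (.leaf 0))) (.node (.node (.leaf 5557) (.leaf 0)) (.node (.leaf 9948) (.leaf 0))))) (.node (.node (.node (.node (.leaf 16752) (.leaf 15459)) (.node (.leaf 11927) (.leaf 0))) (.node (.node (.leaf 1744) (.leaf 0)) (.node (.leaf 4721) (.leaf 0)))) (.node (.node (.node (.leaf 7600) (.leaf 12678)) (.node (.leaf 19994) (.leaf 0))) (.node (.node (.leaf 15222) (.leaf 0)) (.node (.leaf 900) (.leaf 0))))))))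 (.node (.node (.node (.node (.node (.node (.node (.leaf 9997) (.leaf 10599)) (.node (.leaf 15027) (.leaf 0))) (.node (.node (.leaf 13267) (.leaf 0)) (.node (.leaf 12383) (.leaf 0)))) (.node (.node (.node (.leaf 14095) (.leaf 16502)) (.node (.leaf 56) (.leaf 0))) (.node (.node (.leaf 16571) (.leaf 0)) (.node (.leaf 8854) (.leaf 0))))) (.node (.node (.node (.node (.leaf 460) (.leaf 15343)) (.node (.leaf 8199) (.leaf 0))) (.node (.node (.leaf 11109) (.leaf 0)) (.node (.leaf 769) (.leaf 0)))) (.node (.node (.node (.leaf 4125) (.leaf 15493)) (.node (.leaf 15987) (.leaf 0))) (.node (.node (.leaf 3012) (.leaf 0)) (.node (.leaf 4344) (.leaf 0)))))) (.node (.node (.node (.node (.node (.leaf 14394) (.leaf 8928)) (.node (.leaf 11995) (.leaf 0))) (.node (.node (.leaf 7207) (.leaf 0)) (.node (.leaf 11193) (.leaf 0)))) (.node (.node (.node (.leaf 14202) (.leaf 4777)) (.node (.leaf 8757) (.leaf 0))) (.node (.node (.leaf 10965) (.leaf 0)) (.node (.leaf 10385) (.leaf 0))))) (.node (.node (.node (.node (.leaf 13480) (.leaf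 3413)) (.node (.leaf 13949) (.leaf 0))) (.node (.node (.leaf 13888) (.leaf 0)) (.node (.leaf 10413) (.leaf 0)))) (.node (.node (.node (.leaf 17999) (.leaf 10536)) (.node (.leaf 7200) (.leaf 0))) (.node (.node (.leaf 840) (.leaf 0)) (.node (.leaf 13077) (.leaf 0))))))) (.node (.node (.node (.node (.node (.node (.leaf 119) (.leaf 20422)) (.node (.leaf 14006) (.leaf 0))) (.node (.node (.leaf 3745) (.leaf 0)) (.node (.leaf 6516) (.leaf 0)))) (.node (.node (.node (.leaf 463) (.leaf 1885)) (.node (.leaf 15775) (.leaf 0))) (.node (.node (.leaf 19298) (.leaf 0)) (.node (.leaf 459) (.leaf 0))))) (.node (.node (.node (.node (.leaf 7280) (.leaf 4401)) (.node (.leaf 15734) (.leaf 0))) (.node (.node (.leaf 6128) (.leaf 0)) (.node (.leaf 14939) (.leaf 0)))) (.node (.node (.node (.leaf 6656) (.leaf 13957)) (.node (.leaf 6610) (.leaf 0))) (.node (.node (.leaf 1159) (.leaf 0)) (.node (.leaf 9404) (.leaf 0)))))) (.node (.node (.node (.node (.node (.leaf 1528) (.leaf 2716)) (.node (.leaf 12574) (.leaf 0))) (.node (.node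 (.leaf 16677) (.leaf 0)) (.node (.leaf 4835) (.leaf 0)))) (.node (.node (.node (.leaf 11907) (.leaf 10176)) (.node (.leaf 17157) (.leaf 0))) (.node (.node (.leaf 13488) (.leaf 0)) (.node (.leaf 11948) (.leaf 0))))) (.node (.node (.node (.node (.leaf 10036) (.leaf 13922)) (.node (.leaf 10637) (.leaf 0))) (.node (.node (.leaf 20476) (.leaf 0)) (.node (.leaf 15515) (.leaf 0)))) (.node (.node (.node (.leaf 13398) (.leaf 6400)) (.node (.leaf 11792) (.leaf 0))) (.node (.node (.leaf 1670) (.leaf 0)) (.node (.leaf 18198) (.leaf 0))))))))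

def omT34 : NT := .node (.node (.node (.node (.node (.node (.node (.node (.leaf 14497) (.leaf 2743)) (.node (.leaf 14795) (.leaf 0))) (.node (.node (.leaf 2016) (.leaf 4490)) (.node (.leaf 2815) (.leaf 0)))) (.node (.node (.node (.leaf 1423) (.leaf 3125)) (.node (.leaf 6103) (.leaf 0))) (.node (.node (.leaf 9647) (.leaf 0)) (.node (.leaf 1149) (.leaf 0))))) (.node (.node (.node (.node (.leaf 15137) (.leaf 17749)) (.node (.leaf 18321) (.leaf 0))) (.node (.node (.leaf 14461) (.leaf 0)) (.node (.leaf 2974) (.leaf 0)))) (.node (.node (.node (.leaf 5502) (.leaf 14876)) (.node (.leaf 20110) (.leaf 0))) (.node (.node (.leaf 3273) (.leaf 0)) (.node (.leaf 4838) (.leaf 0)))))) (.node (.node (.node (.node (.node (.leaf 14433) (.leaf 518)) (.node (.leaf 15457) (.leaf 0))) (.node (.node (.leaf 13417) (.leaf 0)) (.node (.leaf 16131) (.leaf 0)))) (.node (.node (.node (.leaf 16807) (.leaf 3677)) (.node (.leaf 11919) (.leaf 0))) (.node (.node (.leaf 19633) (.leaf 0)) (.node (.leaf 1526) (.leaf 0))))) (.node (.node (.node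 (.node (.leaf 10270) (.leaf 18966)) (.node (.leaf 16171) (.leaf 0))) (.node (.node (.leaf 6172) (.leaf 0)) (.node (.leaf 4278) (.leaf 0)))) (.node (.node (.node (.leaf 18481) (.leaf 2808)) (.node (.leaf 7998) (.leaf 0))) (.node (.node (.leaf 12532) (.leaf 0)) (.node (.leaf 1955) (.leaf 0))))))) (.node (.node (.node (.node (.node (.node (.leaf 2304) (.leaf 11229)) (.node (.leaf 2017) (.leaf 0))) (.node (.node (.leaf 16746) (.leaf 0)) (.node (.leaf 19023) (.leaf 0)))) (.node (.node (.node (.leaf 17428) (.leaf 584)) (.node (.leaf 17115) (.leaf 0))) (.node (.node (.leaf 10151) (.leaf 0)) (.node (.leaf 7316) (.leaf 0))))) (.node (.node (.node (.node (.leaf 5569) (.leaf 4808)) (.node (.leaf 9364) (.leaf 0))) (.node (.node (.leaf 9805) (.leaf 0)) (.node (.leaf 19933) (.leaf 0)))) (.node (.node (.node (.leaf 20173) (.leaf 2919)) (.node (.leaf 8729) (.leaf 0))) (.node (.node (.leaf 15025) (.leaf 0)) (.node (.leaf 5260) (.leaf 0)))))) (.node (.node (.node (.node (.node (.leaf 5218) (.leaf 19768)) (.node (.leaf 18342)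 (.leaf 0))) (.node (.node (.leaf 8852) (.leaf 0)) (.node (.leaf 17866) (.leaf 0)))) (.node (.node (.node (.leaf 14201) (.leaf 15802)) (.node (.leaf 3685) (.leaf 0))) (.node (.node (.leaf 12210) (.leaf 0)) (.node (.leaf 8525) (.leaf 0))))) (.node (.node (.node (.node (.leaf 7913) (.leaf 12031)) (.node (.leaf 13502) (.leaf 0))) (.node (.node (.leaf 20432) (.leaf 0)) (.node (.leaf 7448) (.leaf 0)))) (.node (.node (.node (.leaf 7281) (.leaf 14385)) (.node (.leaf 13835) (.leaf 0))) (.node (.node (.leaf 8320) (.leaf 0)) (.node (.leaf 10796) (.leaf 0)))))))) (.node (.node (.node (.node (.node (.node (.node (.leaf 12136) (.leaf 12258)) (.node (.leaf 4998) (.leaf 0))) (.node (.node (.leaf 17624) (.leaf 0)) (.node (.leaf 95) (.leaf 0)))) (.node (.node (.node (.leaf 18997) (.leaf 15282)) (.node (.leaf 3356) (.leaf 0))) (.node (.node (.leaf 16956) (.leaf 0)) (.node (.leaf 12327) (.leaf 0))))) (.node (.node (.node (.node (.leaf 11045) (.leaf 13127)) (.node (.leaf 11129) (.leaf 0))) (.node (.node (.leaf 5948) (.leaf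 0)) (.node (.leaf 19354) (.leaf 0)))) (.node (.node (.node (.leaf 17697) (.leaf 9268)) (.node (.leaf 2045) (.leaf 0))) (.node (.node (.leaf 13028) (.leaf 0)) (.node (.leaf 20413) (.leaf 0)))))) (.node (.node (.node (.node (.node (.leaf 2335) (.leaf 4983)) (.node (.leaf 15763) (.leaf 0))) (.node (.node (.leaf 9690) (.leaf 0)) (.node (.leaf 10364) (.leaf 0)))) (.node (.node (.node (.leaf 10058) (.leaf 14324)) (.node (.leaf 2887) (.leaf 0))) (.node (.node (.leaf 15417) (.leaf 0)) (.node (.leaf 9170) (.leaf 0))))) (.node (.node (.node (.node (.leaf 7791) (.leaf 15697)) (.node (.leaf 19620) (.leaf 0))) (.node (.node (.leaf 12303) (.leaf 0)) (.node (.leaf 17253) (.leaf 0)))) (.node (.node (.node (.leaf 19475) (.leaf 13903)) (.node (.leaf 9881) (.leaf 0))) (.node (.node (.leaf 10421) (.leaf 0)) (.node (.leaf 4884) (.leaf 0))))))) (.node (.node (.node (.node (.node (.node (.leaf 523) (.leaf 12645)) (.node (.leaf 11266) (.leaf 0))) (.node (.node (.leaf 8777) (.leaf 0)) (.node (.leaf 5467) (.leaf 0)))) (.node (.node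 (.node (.leaf 2664) (.leaf 16190)) (.node (.leaf 2995) (.leaf 0))) (.node (.node (.leaf 7986) (.leaf 0)) (.node (.leaf 3794) (.leaf 0))))) (.node (.node (.node (.node (.leaf 17163) (.leaf 18044)) (.node (.leaf 14207) (.leaf 0))) (.node (.node (.leaf 7009) (.leaf 0)) (.node (.leaf 15267) (.leaf 0)))) (.node (.node (.node (.leaf 18588) (.leaf 20006)) (.node (.leaf 9166) (.leaf 0))) (.node (.node (.leaf 20182) (.leaf 0)) (.node (.leaf 6796) (.leaf 0)))))) (.node (.node (.node (.node (.node (.leaf 16993) (.leaf 1954)) (.node (.leaf 1844) (.leaf 0))) (.node (.node (.leaf 1605) (.leaf 0)) (.node (.leaf 15836) (.leaf 0)))) (.node (.node (.node (.leaf 19519) (.leaf 4027)) (.node (.leaf 12158) (.leaf 0))) (.node (.node (.leaf 11377) (.leaf 0)) (.node (.leaf 10384) (.leaf 0))))) (.node (.node (.node (.node (.leaf 9402) (.leaf 1176)) (.node (.leaf 15690) (.leaf 0))) (.node (.node (.leaf 14510) (.leaf 0)) (.node (.leaf 11613) (.leaf 0)))) (.node (.node (.node (.leaf 15966) (.leaf 1081)) (.node (.leaf 13129) (.leaf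 0))) (.node (.node (.leaf 20515) (.leaf 0)) (.node (.leaf 15655) (.leaf 0))))))))

def omT35 : NT := .node (.node (.node (.node (.node (.node (.node (.node (.leaf 428) (.leaf 5442)) (.node (.leaf 2592) (.leaf 0))) (.node (.node (.leaf 20117) (.leaf 61)) (.node (.leaf 5588) (.leaf 0)))) (.node (.node (.node (.leaf 14404) (.leaf 1732)) (.node (.leaf 66) (.leaf 0))) (.node (.node (.leaf 18554) (.leaf 0)) (.node (.leaf 20257) (.leaf 0))))) (.node (.node (.node (.node (.leaf 20240) (.leaf 16287)) (.node (.leaf 13652) (.leaf 0))) (.node (.node (.leaf 8133) (.leaf 0)) (.node (.leaf 16141) (.leaf 0)))) (.node (.node (.node (.leaf 10770) (.leaf 11534)) (.node (.leaf 19905) (.leaf 0))) (.node (.node (.leaf 5436) (.leaf 0)) (.node (.leaf 5955) (.leaf 0)))))) (.node (.node (.node (.node (.node (.leaf 20493) (.leaf 11745)) (.node (.leaf 15567) (.leaf 0))) (.node (.node (.leaf 9738) (.leaf 0)) (.node (.leaf 9652) (.leaf 0)))) (.node (.node (.node (.leaf 19077) (.leaf 14919)) (.node (.leaf 8876) (.leaf 0))) (.node (.node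 (.leaf 19760) (.leaf 0)) (.node (.leaf 10367) (.leaf 0))))) (.node (.node (.node (.node (.leaf 16209) (.leaf 8102)) (.node (.leaf 2595) (.leaf 0))) (.node (.node (.leaf 13107) (.leaf 0)) (.node (.leaf 12252) (.leaf 0)))) (.node (.node (.node (.leaf 3131) (.leaf 18541)) (.node (.leaf 10626) (.leaf 0))) (.node (.node (.leaf 13641) (.leaf 0)) (.node (.leaf 13841) (.leaf 0))))))) (.node (.node (.node (.node (.node (.node (.leaf 12187) (.leaf 8417)) (.node (.leaf 18287) (.leaf 0))) (.node (.node (.leaf 7179) (.leaf 0)) (.node (.leaf 13149) (.leaf 0)))) (.node (.node (.node (.leaf 16173) (.leaf 7473)) (.node (.leaf 7985) (.leaf 0))) (.node (.node (.leaf 1240) (.leaf 0)) (.node (.leaf 13442) (.leaf 0))))) (.node (.node (.node (.node (.leaf 17569) (.leaf 12582)) (.node (.leaf 18788) (.leaf 0))) (.node (.node (.leaf 11327) (.leaf 0)) (.node (.leaf 15595) (.leaf 0)))) (.node (.node (.node (.leaf 10398) (.leaf 7641)) (.node (.leaf 14047) (.leaf 0))) (.node (.node (.leaf 3453) (.leaf 0)) (.node (.leaf 17618) (.leaf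 0)))))) (.node (.node (.node (.node (.node (.leaf 17348) (.leaf 15863)) (.node (.leaf 17334) (.leaf 0))) (.node (.node (.leaf 17337) (.leaf 0)) (.node (.leaf 5616) (.leaf 0)))) (.node (.node (.node (.leaf 18557) (.leaf 18105)) (.node (.leaf 8360) (.leaf 0))) (.node (.node (.leaf 7425) (.leaf 0)) (.node (.leaf 5315) (.leaf 0))))) (.node (.node (.node (.node (.leaf 3678) (.leaf 18710)) (.node (.leaf 9009) (.leaf 0))) (.node (.node (.leaf 5405) (.leaf 0)) (.node (.leaf 15705) (.leaf 0)))) (.node (.node (.node (.leaf 18767) (.leaf 8493)) (.node (.leaf 11246) (.leaf 0))) (.node (.node (.leaf 4452) (.leaf 0)) (.node (.leaf 3395) (.leaf 0)))))))) (.node (.node (.node (.node (.node (.node (.node (.leaf 16007) (.leaf 17172)) (.node (.leaf 8853) (.leaf 0))) (.node (.node (.leaf 1144) (.leaf 0)) (.node (.leaf 10719) (.leaf 0)))) (.node (.node (.node (.leaf 16705) (.leaf 14637)) (.node (.leaf 17644) (.leaf 0))) (.node (.node (.leaf 6051) (.leaf 0)) (.node (.leaf 1570) (.leaf 0))))) (.node (.node (.node (.node (.leaf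 18298) (.leaf 16179)) (.node (.leaf 8570) (.leaf 0))) (.node (.node (.leaf 16557) (.leaf 0)) (.node (.leaf 10930) (.leaf 0)))) (.node (.node (.node (.leaf 4449) (.leaf 16425)) (.node (.leaf 8425) (.leaf 0))) (.node (.node (.leaf 9512) (.leaf 0)) (.node (.leaf 3463) (.leaf 0)))))) (.node (.node (.node (.node (.node (.leaf 13217) (.leaf 19351)) (.node (.leaf 13481) (.leaf 0))) (.node (.node (.leaf 14454) (.leaf 0)) (.node (.leaf 17884) (.leaf 0)))) (.node (.node (.node (.leaf 4480) (.leaf 1182)) (.node (.leaf 11746) (.leaf 0))) (.node (.node (.leaf 13866) (.leaf 0)) (.node (.leaf 10554) (.leaf 0))))) (.node (.node (.node (.node (.leaf 18562) (.leaf 7579)) (.node (.leaf 16636) (.leaf 0))) (.node (.node (.leaf 11400) (.leaf 0)) (.node (.leaf 15798) (.leaf 0)))) (.node (.node (.node (.leaf 1201) (.leaf 6805)) (.node (.leaf 5390) (.leaf 0))) (.node (.node (.leaf 5656) (.leaf 0)) (.node (.leaf 6152) (.leaf 0))))))) (.node (.node (.node (.node (.node (.node (.leaf 6859) (.leaf 7287)) (.node (.leaf 10818) (.leaf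 0))) (.node (.node (.leaf 3407) (.leaf 0)) (.node (.leaf 2625) (.leaf 0)))) (.node (.node (.node (.leaf 20511) (.leaf 17105)) (.node (.leaf 9855) (.leaf 0))) (.node (.node (.leaf 16766) (.leaf 0)) (.node (.leaf 15355) (.leaf 0))))) (.node (.node (.node (.node (.leaf 14857) (.leaf 6208)) (.node (.leaf 17851) (.leaf 0))) (.node (.node (.leaf 6939) (.leaf 0)) (.node (.leaf 18491) (.leaf 0)))) (.node (.node (.node (.leaf 6875) (.leaf 586)) (.node (.leaf 13234) (.leaf 0))) (.node (.node (.leaf 1419) (.leaf 0)) (.node (.leaf 13207) (.leaf 0)))))) (.node (.node (.node (.node (.node (.leaf 15111) (.leaf 14318)) (.node (.leaf 15013) (.leaf 0))) (.node (.node (.leaf 6927) (.leaf 0)) (.node (.leaf 11258) (.leaf 0)))) (.node (.node (.node (.leaf 8974) (.leaf 15001)) (.node (.leaf 20334) (.leaf 0))) (.node (.node (.leaf 2061) (.leaf 0)) (.node (.leaf 10516) (.leaf 0))))) (.node (.node (.node (.node (.leaf 10046) (.leaf 14463)) (.node (.leaf 4189) (.leaf 0))) (.node (.node (.leaf 15312) (.leaf 0)) (.node (.leaf 9954)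 (.leaf 0)))) (.node (.node (.node (.leaf 9564) (.leaf 9142)) (.node (.leaf 12906) (.leaf 0))) (.node (.node (.leaf 15822) (.leaf 0)) (.node (.leaf 13978) (.leaf 0))))))))

def omT36 : NT := .node (.node (.node (.node (.node (.node (.node (.node (.leaf 19565) (.leaf 12355)) (.node (.leaf 8670) (.leaf 0))) (.node (.node (.leaf 8976) (.leaf 19491)) (.node (.leaf 18426) (.leaf 0)))) (.node (.node (.node (.leaf 9372) (.leaf 5867)) (.node (.leaf 18187) (.leaf 0))) (.node (.node (.leaf 14002) (.leaf 0)) (.node (.leaf 6393) (.leaf 0))))) (.node (.node (.node (.node (.leaf 12877) (.leaf 6460)) (.node (.leaf 14887) (.leaf 0))) (.node (.node (.leaf 12550) (.leaf 0)) (.node (.leaf 3235) (.leaf 0)))) (.node (.node (.node (.leaf 18465) (.leaf 5104)) (.node (.leaf 3123) (.leaf 0))) (.node (.node (.leaf 19097) (.leaf 0)) (.node (.leaf 1790) (.leaf 0)))))) (.node (.node (.node (.node (.node (.leaf 6236) (.leaf 4677)) (.node (.leaf 2128) (.leaf 0))) (.node (.node (.leaf 8221) (.leaf 0)) (.node (.leaf 3041) (.leaf 0))))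 (.node (.node (.node (.leaf 11396) (.leaf 12958)) (.node (.leaf 5344) (.leaf 0))) (.node (.node (.leaf 113) (.leaf 0)) (.node (.leaf 13579) (.leaf 0))))) (.node (.node (.node (.node (.leaf 7292) (.leaf 2275)) (.node (.leaf 18233) (.leaf 0))) (.node (.node (.leaf 18864) (.leaf 0)) (.node (.leaf 6849) (.leaf 0)))) (.node (.node (.node (.leaf 7175) (.leaf 6124)) (.node (.leaf 16861) (.leaf 0))) (.node (.node (.leaf 14056) (.leaf 0)) (.node (.leaf 7151) (.leaf 0))))))) (.node (.node (.node (.node (.node (.node (.leaf 6591) (.leaf 8196)) (.node (.leaf 6267) (.leaf 0))) (.node (.node (.leaf 17860) (.leaf 0)) (.node (.leaf 2690) (.leaf 0)))) (.node (.node (.node (.leaf 3303) (.leaf 8001)) (.node (.leaf 3435) (.leaf 0))) (.node (.node (.leaf 1657) (.leaf 0)) (.node (.leaf 16815) (.leaf 0))))) (.node (.node (.node (.node (.leaf 15346) (.leaf 12253)) (.node (.leaf 17893) (.leaf 0))) (.node (.node (.leaf 1882) (.leaf 0)) (.node (.leaf 14127) (.leaf 0)))) (.node (.node (.node (.leaf 16669) (.leaf 17888)) (.node (.leaf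 1120) (.leaf 0))) (.node (.node (.leaf 17440) (.leaf 0)) (.node (.leaf 19218) (.leaf 0)))))) (.node (.node (.node (.node (.node (.leaf 5106) (.leaf 20519)) (.node (.leaf 6922) (.leaf 0))) (.node (.node (.leaf 6997) (.leaf 0)) (.node (.leaf 13865) (.leaf 0)))) (.node (.node (.node (.leaf 11586) (.leaf 11240)) (.node (.leaf 3727) (.leaf 0))) (.node (.node (.leaf 16883) (.leaf 0)) (.node (.leaf 3896) (.leaf 0))))) (.node (.node (.node (.node (.leaf 7627) (.leaf 4730)) (.node (.leaf 12246) (.leaf 0))) (.node (.node (.leaf 13236) (.leaf 0)) (.node (.leaf 18019) (.leaf 0)))) (.node (.node (.node (.leaf 1491) (.leaf 981)) (.node (.leaf 12588) (.leaf 0))) (.node (.node (.leaf 8832) (.leaf 0)) (.node (.leaf 31) (.leaf 0)))))))) (.node (.node (.node (.node (.node (.node (.node (.leaf 7843) (.leaf 17301)) (.node (.leaf 15117) (.leaf 0))) (.node (.node (.leaf 5085) (.leaf 0)) (.node (.leaf 3278) (.leaf 0)))) (.node (.node (.node (.leaf 1508) (.leaf 2657)) (.node (.leaf 385) (.leaf 0))) (.node (.node (.leaf 15124)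 (.leaf 0)) (.node (.leaf 10071) (.leaf 0))))) (.node (.node (.node (.node (.leaf 9783) (.leaf 12162)) (.node (.leaf 17158) (.leaf 0))) (.node (.node (.leaf 9685) (.leaf 0)) (.node (.leaf 5230) (.leaf 0)))) (.node (.node (.node (.leaf 3354) (.leaf 16952)) (.node (.leaf 7085) (.leaf 0))) (.node (.node (.leaf 16864) (.leaf 0)) (.node (.leaf 14041) (.leaf 0)))))) (.node (.node (.node (.node (.node (.leaf 9116) (.leaf 16884)) (.node (.leaf 10602) (.leaf 0))) (.node (.node (.leaf 2723) (.leaf 0)) (.node (.leaf 9462) (.leaf 0)))) (.node (.node (.node (.leaf 4047) (.leaf 6303)) (.node (.leaf 3190) (.leaf 0))) (.node (.node (.leaf 20019) (.leaf 0)) (.node (.leaf 12719) (.leaf 0))))) (.node (.node (.node (.node (.leaf 3936) (.leaf 404)) (.node (.leaf 17311) (.leaf 0))) (.node (.node (.leaf 5839) (.leaf 0)) (.node (.leaf 9669) (.leaf 0)))) (.node (.node (.node (.leaf 14380) (.leaf 3392)) (.node (.leaf 6410) (.leaf 0))) (.node (.node (.leaf 15015) (.leaf 0)) (.node (.leaf 19553) (.leaf 0))))))) (.node (.node (.node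 (.node (.node (.node (.leaf 8695) (.leaf 1187)) (.node (.leaf 12433) (.leaf 0))) (.node (.node (.leaf 14158) (.leaf 0)) (.node (.leaf 353) (.leaf 0)))) (.node (.node (.node (.leaf 18069) (.leaf 8922)) (.node (.leaf 4955) (.leaf 0))) (.node (.node (.leaf 20320) (.leaf 0)) (.node (.leaf 17861) (.leaf 0))))) (.node (.node (.node (.node (.leaf 922) (.leaf 14915)) (.node (.leaf 7646) (.leaf 0))) (.node (.node (.leaf 9990) (.leaf 0)) (.node (.leaf 14485) (.leaf 0)))) (.node (.node (.node (.leaf 1043) (.leaf 527)) (.node (.leaf 19122) (.leaf 0))) (.node (.node (.leaf 19329) (.leaf 0)) (.node (.leaf 20051) (.leaf 0)))))) (.node (.node (.node (.node (.node (.leaf 645) (.leaf 8881)) (.node (.leaf 20399) (.leaf 0))) (.node (.node (.leaf 12467) (.leaf 0)) (.node (.leaf 7444) (.leaf 0)))) (.node (.node (.node (.leaf 14216) (.leaf 15727)) (.node (.leaf 5937) (.leaf 0))) (.node (.node (.leaf 17556) (.leaf 0)) (.node (.leaf 17232) (.leaf 0))))) (.node (.node (.node (.node (.leaf 10002) (.leaf 12264)) (.node (.leaf 13211)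 (.leaf 0))) (.node (.node (.leaf 8799) (.leaf 0)) (.node (.leaf 20112) (.leaf 0)))) (.node (.node (.node (.leaf 19697) (.leaf 14017)) (.node (.leaf 10130) (.leaf 0))) (.node (.node (.leaf 19660) (.leaf 0)) (.node (.leaf 13395) (.leaf 0))))))))

def omT37 : NT := .node (.node (.node (.node (.node (.node (.node (.node (.leaf 9955) (.leaf 5503)) (.node (.leaf 3977) (.leaf 0))) (.node (.node (.leaf 5772) (.leaf 9639)) (.node (.leaf 18488) (.leaf 0)))) (.node (.node (.node (.leaf 13378) (.leaf 11037)) (.node (.leaf 14489) (.leaf 0))) (.node (.node (.leaf 3307) (.leaf 0)) (.node (.leaf 18168) (.leaf 0))))) (.node (.node (.node (.node (.leaf 14842) (.leaf 12821)) (.node (.leaf 16630) (.leaf 0))) (.node (.node (.leaf 5818) (.leaf 0)) (.node (.leaf 10929) (.leaf 0)))) (.node (.node (.node (.leaf 10604) (.leaf 4223)) (.node (.leaf 9087) (.leaf 0))) (.node (.node (.leaf 5802) (.leaf 0)) (.node (.leaf 3607) (.leaf 0)))))) (.node (.node (.node (.node (.node (.leaf 14960) (.leaf 15839)) (.node (.leaf 1044) (.leaf 0)))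 (.node (.node (.leaf 10274) (.leaf 0)) (.node (.leaf 13591) (.leaf 0)))) (.node (.node (.node (.leaf 569) (.leaf 10561)) (.node (.leaf 17237) (.leaf 0))) (.node (.node (.leaf 14875) (.leaf 0)) (.node (.leaf 9835) (.leaf 0))))) (.node (.node (.node (.node (.leaf 13520) (.leaf 16163)) (.node (.leaf 17424) (.leaf 0))) (.node (.node (.leaf 10097) (.leaf 0)) (.node (.leaf 11834) (.leaf 0)))) (.node (.node (.node (.leaf 3804) (.leaf 34)) (.node (.leaf 1100) (.leaf 0))) (.node (.node (.leaf 9951) (.leaf 0)) (.node (.leaf 2462) (.leaf 0))))))) (.node (.node (.node (.node (.node (.node (.leaf 13968) (.leaf 10801)) (.node (.leaf 5999) (.leaf 0))) (.node (.node (.leaf 16923) (.leaf 0)) (.node (.leaf 5429) (.leaf 0)))) (.node (.node (.node (.leaf 18967) (.leaf 16738)) (.node (.leaf 10461) (.leaf 0))) (.node (.node (.leaf 1406) (.leaf 0)) (.node (.leaf 13933) (.leaf 0))))) (.node (.node (.node (.node (.leaf 4491) (.leaf 1864)) (.node (.leaf 17750) (.leaf 0))) (.node (.node (.leaf 1962) (.leaf 0)) (.node (.leaf 14192)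 (.leaf 0)))) (.node (.node (.node (.leaf 10820) (.leaf 5146)) (.node (.leaf 13353) (.leaf 0))) (.node (.node (.leaf 6915) (.leaf 0)) (.node (.leaf 8696) (.leaf 0)))))) (.node (.node (.node (.node (.node (.leaf 3137) (.leaf 19264)) (.node (.leaf 9290) (.leaf 0))) (.node (.node (.leaf 16742) (.leaf 0)) (.node (.leaf 18744) (.leaf 0)))) (.node (.node (.node (.leaf 1392) (.leaf 10458)) (.node (.leaf 763) (.leaf 0))) (.node (.node (.leaf 7594) (.leaf 0)) (.node (.leaf 1467) (.leaf 0))))) (.node (.node (.node (.node (.leaf 2296) (.leaf 3926)) (.node (.leaf 10286) (.leaf 0))) (.node (.node (.leaf 9806) (.leaf 0)) (.node (.leaf 10358) (.leaf 0)))) (.node (.node (.node (.leaf 6126) (.leaf 5336)) (.node (.leaf 10532) (.leaf 0))) (.node (.node (.leaf 1510) (.leaf 0)) (.node (.leaf 18169) (.leaf 0)))))))) (.node (.node (.node (.node (.node (.node (.node (.leaf 18054) (.leaf 19151)) (.node (.leaf 3106) (.leaf 0))) (.node (.node (.leaf 447) (.leaf 0)) (.node (.leaf 8381) (.leaf 0)))) (.node (.node (.node (.leaf 2891)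 (.leaf 4040)) (.node (.leaf 5838) (.leaf 0))) (.node (.node (.leaf 4906) (.leaf 0)) (.node (.leaf 13262) (.leaf 0))))) (.node (.node (.node (.node (.leaf 1643) (.leaf 20002)) (.node (.leaf 1733) (.leaf 0))) (.node (.node (.leaf 15841) (.leaf 0)) (.node (.leaf 9511) (.leaf 0)))) (.node (.node (.node (.leaf 13633) (.leaf 779)) (.node (.leaf 8467) (.leaf 0))) (.node (.node (.leaf 7777) (.leaf 0)) (.node (.leaf 9778) (.leaf 0)))))) (.node (.node (.node (.node (.node (.leaf 597) (.leaf 15629)) (.node (.leaf 13557) (.leaf 0))) (.node (.node (.leaf 3593) (.leaf 0)) (.node (.leaf 8123) (.leaf 0)))) (.node (.node (.node (.leaf 18975) (.leaf 10369)) (.node (.leaf 11590) (.leaf 0))) (.node (.node (.leaf 18839) (.leaf 0)) (.node (.leaf 20513) (.leaf 0))))) (.node (.node (.node (.node (.leaf 3742) (.leaf 9852)) (.node (.leaf 10038) (.leaf 0))) (.node (.node (.leaf 11514) (.leaf 0)) (.node (.leaf 5962) (.leaf 0)))) (.node (.node (.node (.leaf 10570) (.leaf 18925)) (.node (.leaf 1134) (.leaf 0))) (.node (.node (.leaf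 7305) (.leaf 0)) (.node (.leaf 37) (.leaf 0))))))) (.node (.node (.node (.node (.node (.node (.leaf 3237) (.leaf 923)) (.node (.leaf 9909) (.leaf 0))) (.node (.node (.leaf 1775) (.leaf 0)) (.node (.leaf 2878) (.leaf 0)))) (.node (.node (.node (.leaf 18580) (.leaf 15302)) (.node (.leaf 2419) (.leaf 0))) (.node (.node (.leaf 13232) (.leaf 0)) (.node (.leaf 9125) (.leaf 0))))) (.node (.node (.node (.node (.leaf 15984) (.leaf 15330)) (.node (.leaf 15693) (.leaf 0))) (.node (.node (.leaf 3139) (.leaf 0)) (.node (.leaf 7942) (.leaf 0)))) (.node (.node (.node (.leaf 4971) (.leaf 5661)) (.node (.leaf 1573) (.leaf 0))) (.node (.node (.leaf 3864) (.leaf 0)) (.node (.leaf 17351) (.leaf 0)))))) (.node (.node (.node (.node (.node (.leaf 8682) (.leaf 10946)) (.node (.leaf 10225) (.leaf 0))) (.node (.node (.leaf 12077) (.leaf 0)) (.node (.leaf 1471) (.leaf 0)))) (.node (.node (.node (.leaf 117) (.leaf 1829)) (.node (.leaf 10936) (.leaf 0))) (.node (.node (.leaf 4768) (.leaf 0)) (.node (.leaf 18679) (.leaf 0))))) (.node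 (.node (.node (.node (.leaf 6954) (.leaf 1798)) (.node (.leaf 2207) (.leaf 0))) (.node (.node (.leaf 10472) (.leaf 0)) (.node (.leaf 14731) (.leaf 0)))) (.node (.node (.node (.leaf 13911) (.leaf 16687)) (.node (.leaf 4985) (.leaf 0))) (.node (.node (.leaf 16944) (.leaf 0)) (.node (.leaf 2504) (.leaf 0))))))))

def omT38 : NT := .node (.node (.node (.node (.node (.node (.node (.node (.leaf 8994) (.leaf 2832)) (.node (.leaf 10482) (.leaf 0))) (.node (.node (.leaf 524) (.leaf 17528)) (.node (.leaf 12654) (.leaf 0)))) (.node (.node (.node (.leaf 10342) (.leaf 9151)) (.node (.leaf 18301) (.leaf 0))) (.node (.node (.leaf 4908) (.leaf 0)) (.node (.leaf 13464) (.leaf 0))))) (.node (.node (.node (.node (.leaf 14646) (.leaf 16434)) (.node (.leaf 7029) (.leaf 0))) (.node (.node (.leaf 3525) (.leaf 0)) (.node (.leaf 14228) (.leaf 0)))) (.node (.node (.node (.leaf 9144) (.leaf 19915)) (.node (.leaf 6645) (.leaf 0))) (.node (.node (.leaf 3104) (.leaf 0)) (.node (.leaf 13072) (.leaf 0)))))) (.node (.node (.node (.node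 (.node (.leaf 15609) (.leaf 16165)) (.node (.leaf 18790) (.leaf 0))) (.node (.node (.leaf 4096) (.leaf 0)) (.node (.leaf 13535) (.leaf 0)))) (.node (.node (.node (.leaf 4545) (.leaf 2158)) (.node (.leaf 17570) (.leaf 0))) (.node (.node (.leaf 12220) (.leaf 0)) (.node (.leaf 14597) (.leaf 0))))) (.node (.node (.node (.node (.leaf 10054) (.leaf 19037)) (.node (.leaf 6024) (.leaf 0))) (.node (.node (.leaf 7722) (.leaf 0)) (.node (.leaf 16733) (.leaf 0)))) (.node (.node (.node (.leaf 9352) (.leaf 5847)) (.node (.leaf 10134) (.leaf 0))) (.node (.node (.leaf 19155) (.leaf 0)) (.node (.leaf 2890) (.leaf 0))))))) (.node (.node (.node (.node (.node (.node (.leaf 2085) (.leaf 8140)) (.node (.leaf 9100) (.leaf 0))) (.node (.node (.leaf 16722) (.leaf 0)) (.node (.leaf 12639) (.leaf 0)))) (.node (.node (.node (.leaf 5633) (.leaf 17869)) (.node (.leaf 17260) (.leaf 0))) (.node (.node (.leaf 4386) (.leaf 0)) (.node (.leaf 6338) (.leaf 0))))) (.node (.node (.node (.node (.leaf 7120) (.leaf 7719)) (.node (.leaf 15965)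 (.leaf 0))) (.node (.node (.leaf 8267) (.leaf 0)) (.node (.leaf 20393) (.leaf 0)))) (.node (.node (.node (.leaf 9300) (.leaf 8659)) (.node (.leaf 256) (.leaf 0))) (.node (.node (.leaf 5910) (.leaf 0)) (.node (.leaf 4919) (.leaf 0)))))) (.node (.node (.node (.node (.node (.leaf 1135) (.leaf 5269)) (.node (.leaf 4205) (.leaf 0))) (.node (.node (.leaf 9684) (.leaf 0)) (.node (.leaf 6222) (.leaf 0)))) (.node (.node (.node (.leaf 19268) (.leaf 17772)) (.node (.leaf 13778) (.leaf 0))) (.node (.node (.leaf 13388) (.leaf 0)) (.node (.leaf 11530) (.leaf 0))))) (.node (.node (.node (.node (.leaf 1327) (.leaf 5865)) (.node (.leaf 5798) (.leaf 0))) (.node (.node (.leaf 7447) (.leaf 0)) (.node (.leaf 4446) (.leaf 0)))) (.node (.node (.node (.leaf 7572) (.leaf 15808)) (.node (.leaf 10543) (.leaf 0))) (.node (.node (.leaf 15128) (.leaf 0)) (.node (.leaf 10779) (.leaf 0)))))))) (.node (.node (.node (.node (.node (.node (.node (.leaf 8285) (.leaf 19047)) (.node (.leaf 15492) (.leaf 0))) (.node (.node (.leaf 591) (.leaf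 0)) (.node (.leaf 2916) (.leaf 0)))) (.node (.node (.node (.leaf 17754) (.leaf 19846)) (.node (.leaf 643) (.leaf 0))) (.node (.node (.leaf 7359) (.leaf 0)) (.node (.leaf 4035) (.leaf 0))))) (.node (.node (.node (.node (.leaf 1923) (.leaf 786)) (.node (.leaf 9853) (.leaf 0))) (.node (.node (.leaf 1267) (.leaf 0)) (.node (.leaf 1664) (.leaf 0)))) (.node (.node (.node (.leaf 10555) (.leaf 772)) (.node (.leaf 1718) (.leaf 0))) (.node (.node (.leaf 18122) (.leaf 0)) (.node (.leaf 2311) (.leaf 0)))))) (.node (.node (.node (.node (.node (.leaf 3988) (.leaf 727)) (.node (.leaf 4913) (.leaf 0))) (.node (.node (.leaf 17245) (.leaf 0)) (.node (.leaf 12640) (.leaf 0)))) (.node (.node (.node (.leaf 11178) (.leaf 382)) (.node (.leaf 8594) (.leaf 0))) (.node (.node (.leaf 6891) (.leaf 0)) (.node (.leaf 1319) (.leaf 0))))) (.node (.node (.node (.node (.leaf 12360) (.leaf 7302)) (.node (.leaf 11958) (.leaf 0))) (.node (.node (.leaf 13775) (.leaf 0)) (.node (.leaf 734) (.leaf 0)))) (.node (.node (.node (.leaf 6093) (.leaf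 8220)) (.node (.leaf 16521) (.leaf 0))) (.node (.node (.leaf 18774) (.leaf 0)) (.node (.leaf 18029) (.leaf 0))))))) (.node (.node (.node (.node (.node (.node (.leaf 18297) (.leaf 18237)) (.node (.leaf 2214) (.leaf 0))) (.node (.node (.leaf 3414) (.leaf 0)) (.node (.leaf 10025) (.leaf 0)))) (.node (.node (.node (.leaf 7129) (.leaf 5757)) (.node (.leaf 11624) (.leaf 0))) (.node (.node (.leaf 18548) (.leaf 0)) (.node (.leaf 19961) (.leaf 0))))) (.node (.node (.node (.node (.leaf 6238) (.leaf 15700)) (.node (.leaf 18687) (.leaf 0))) (.node (.node (.leaf 18755) (.leaf 0)) (.node (.leaf 3508) (.leaf 0)))) (.node (.node (.node (.leaf 733) (.leaf 228)) (.node (.leaf 17976) (.leaf 0))) (.node (.node (.leaf 8995) (.leaf 0)) (.node (.leaf 3357) (.leaf 0)))))) (.node (.node (.node (.node (.node (.leaf 1558) (.leaf 12004)) (.node (.leaf 2466) (.leaf 0))) (.node (.node (.leaf 7369) (.leaf 0)) (.node (.leaf 3640) (.leaf 0)))) (.node (.node (.node (.leaf 7138) (.leaf 13745)) (.node (.leaf 19606) (.leaf 0))) (.node (.node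 (.leaf 3005) (.leaf 0)) (.node (.leaf 14319) (.leaf 0))))) (.node (.node (.node (.node (.leaf 14378) (.leaf 11094)) (.node (.leaf 17979) (.leaf 0))) (.node (.node (.leaf 11422) (.leaf 0)) (.node (.leaf 14148) (.leaf 0)))) (.node (.node (.node (.leaf 6759) (.leaf 5496)) (.node (.leaf 19012) (.leaf 0))) (.node (.node (.leaf 16992) (.leaf 0)) (.node (.leaf 13309) (.leaf 0))))))))

def omT39 : NT := .node (.node (.node (.node (.node (.node (.node (.node (.leaf 17531) (.leaf 9209)) (.node (.leaf 3449) (.leaf 0))) (.node (.node (.leaf 19153) (.leaf 14710)) (.node (.leaf 5752) (.leaf 0)))) (.node (.node (.node (.leaf 6517) (.leaf 2624)) (.node (.leaf 16583) (.leaf 0))) (.node (.node (.leaf 16592) (.leaf 0)) (.node (.leaf 12918) (.leaf 0))))) (.node (.node (.node (.node (.leaf 8507) (.leaf 6423)) (.node (.leaf 6411) (.leaf 0))) (.node (.node (.leaf 18886) (.leaf 0)) (.node (.leaf 85) (.leaf 0)))) (.node (.node (.node (.leaf 17810) (.leaf 7829)) (.node (.leaf 17734) (.leaf 0))) (.node (.node (.leaf 16055) (.leaf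 0)) (.node (.leaf 12874) (.leaf 0)))))) (.node (.node (.node (.node (.node (.leaf 13060) (.leaf 16681)) (.node (.leaf 4275) (.leaf 0))) (.node (.node (.leaf 13311) (.leaf 0)) (.node (.leaf 251) (.leaf 0)))) (.node (.node (.node (.leaf 1767) (.leaf 2202)) (.node (.leaf 9850) (.leaf 0))) (.node (.node (.leaf 5579) (.leaf 0)) (.node (.leaf 8929) (.leaf 0))))) (.node (.node (.node (.node (.leaf 19073) (.leaf 7344)) (.node (.leaf 7946) (.leaf 0))) (.node (.node (.leaf 11100) (.leaf 0)) (.node (.leaf 7703) (.leaf 0)))) (.node (.node (.node (.leaf 10212) (.leaf 1452)) (.node (.leaf 1444) (.leaf 0))) (.node (.node (.leaf 1294) (.leaf 0)) (.node (.leaf 2647) (.leaf 0))))))) (.node (.node (.node (.node (.node (.node (.leaf 19466) (.leaf 17807)) (.node (.leaf 11509) (.leaf 0))) (.node (.node (.leaf 12836) (.leaf 0)) (.node (.leaf 19098) (.leaf 0)))) (.node (.node (.node (.leaf 9410) (.leaf 9367)) (.node (.leaf 11124) (.leaf 0))) (.node (.node (.leaf 17885) (.leaf 0)) (.node (.leaf 18693) (.leaf 0))))) (.node (.node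 (.node (.node (.leaf 8047) (.leaf 12850)) (.node (.leaf 7909) (.leaf 0))) (.node (.node (.leaf 14264) (.leaf 0)) (.node (.leaf 6068) (.leaf 0)))) (.node (.node (.node (.leaf 3149) (.leaf 11894)) (.node (.leaf 5848) (.leaf 0))) (.node (.node (.leaf 16872) (.leaf 0)) (.node (.leaf 14862) (.leaf 0)))))) (.node (.node (.node (.node (.node (.leaf 5688) (.leaf 477)) (.node (.leaf 17537) (.leaf 0))) (.node (.node (.leaf 5301) (.leaf 0)) (.node (.leaf 9177) (.leaf 0)))) (.node (.node (.node (.leaf 3869) (.leaf 437)) (.node (.leaf 5950) (.leaf 0))) (.node (.node (.leaf 15571) (.leaf 0)) (.node (.leaf 16293) (.leaf 0))))) (.node (.node (.node (.node (.leaf 12482) (.leaf 14539)) (.node (.leaf 14644) (.leaf 0))) (.node (.node (.leaf 17553) (.leaf 0)) (.node (.leaf 9340) (.leaf 0)))) (.node (.node (.node (.leaf 17212) (.leaf 7057)) (.node (.leaf 3477) (.leaf 0))) (.node (.node (.leaf 11470) (.leaf 0)) (.node (.leaf 17709) (.leaf 0)))))))) (.node (.node (.node (.node (.node (.node (.node (.leaf 68) (.leaf 6405)) (.node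 (.leaf 2014) (.leaf 0))) (.node (.node (.leaf 24) (.leaf 0)) (.node (.leaf 13191) (.leaf 0)))) (.node (.node (.node (.leaf 4605) (.leaf 14997)) (.node (.leaf 10301) (.leaf 0))) (.node (.node (.leaf 10167) (.leaf 0)) (.node (.leaf 17545) (.leaf 0))))) (.node (.node (.node (.node (.leaf 14275) (.leaf 6317)) (.node (.leaf 8308) (.leaf 0))) (.node (.node (.leaf 982) (.leaf 0)) (.node (.leaf 2906) (.leaf 0)))) (.node (.node (.node (.leaf 6605) (.leaf 15271)) (.node (.leaf 18159) (.leaf 0))) (.node (.node (.leaf 7033) (.leaf 0)) (.node (.leaf 7392) (.leaf 0)))))) (.node (.node (.node (.node (.node (.leaf 4668) (.leaf 20424)) (.node (.leaf 15594) (.leaf 0))) (.node (.node (.leaf 19297) (.leaf 0)) (.node (.leaf 19958) (.leaf 0)))) (.node (.node (.node (.leaf 4632) (.leaf 19579)) (.node (.leaf 18635) (.leaf 0))) (.node (.node (.leaf 16506) (.leaf 0)) (.node (.leaf 14362) (.leaf 0))))) (.node (.node (.node (.node (.leaf 10507) (.leaf 9158)) (.node (.leaf 7872) (.leaf 0))) (.node (.node (.leaf 7475) (.leaf 0)) (.node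 (.leaf 1494) (.leaf 0)))) (.node (.node (.node (.leaf 2438) (.leaf 364)) (.node (.leaf 1204) (.leaf 0))) (.node (.node (.leaf 19696) (.leaf 0)) (.node (.leaf 778) (.leaf 0))))))) (.node (.node (.node (.node (.node (.node (.leaf 11261) (.leaf 3175)) (.node (.leaf 10605) (.leaf 0))) (.node (.node (.leaf 11770) (.leaf 0)) (.node (.leaf 16788) (.leaf 0)))) (.node (.node (.node (.leaf 40) (.leaf 797)) (.node (.leaf 12491) (.leaf 0))) (.node (.node (.leaf 19137) (.leaf 0)) (.node (.leaf 6337) (.leaf 0))))) (.node (.node (.node (.node (.leaf 2796) (.leaf 19690)) (.node (.leaf 16051) (.leaf 0))) (.node (.node (.leaf 19425) (.leaf 0)) (.node (.leaf 17108) (.leaf 0)))) (.node (.node (.node (.leaf 19376) (.leaf 16390)) (.node (.leaf 13467) (.leaf 0))) (.node (.node (.leaf 3901) (.leaf 0)) (.node (.leaf 15821) (.leaf 0)))))) (.node (.node (.node (.node (.node (.leaf 9744) (.leaf 16846)) (.node (.leaf 1579) (.leaf 0))) (.node (.node (.leaf 20272) (.leaf 0)) (.node (.leaf 6443) (.leaf 0)))) (.node (.node (.node (.leaf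 17648) (.leaf 5132)) (.node (.leaf 14708) (.leaf 0))) (.node (.node (.leaf 14746) (.leaf 0)) (.node (.leaf 10221) (.leaf 0))))) (.node (.node (.node (.node (.leaf 17220) (.leaf 4698)) (.node (.leaf 15869) (.leaf 0))) (.node (.node (.leaf 8761) (.leaf 0)) (.node (.leaf 7714) (.leaf 0)))) (.node (.node (.node (.leaf 11370) (.leaf 17917)) (.node (.leaf 3575) (.leaf 0))) (.node (.node (.leaf 17932) (.leaf 0)) (.node (.leaf 5726) (.leaf 0))))))))

def omT40 : NT := .node (.node (.node (.node (.node (.node (.node (.node (.leaf 16383) (.leaf 19684)) (.node (.leaf 18171) (.leaf 0))) (.node (.node (.leaf 19855) (.leaf 0)) (.node (.leaf 16516) (.leaf 0)))) (.node (.node (.node (.leaf 19818) (.leaf 16453)) (.node (.leaf 10412) (.leaf 0))) (.node (.node (.leaf 11433) (.leaf 0)) (.node (.leaf 1409) (.leaf 0))))) (.node (.node (.node (.node (.leaf 7603) (.leaf 13246)) (.node (.leaf 5703) (.leaf 0))) (.node (.node (.leaf 15097) (.leaf 0)) (.node (.leaf 14720) (.leaf 0)))) (.node (.node (.node (.leaf 6173) (.leaf 7023))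 (.node (.leaf 6643) (.leaf 0))) (.node (.node (.leaf 19213) (.leaf 0)) (.node (.leaf 18170) (.leaf 0)))))) (.node (.node (.node (.node (.node (.leaf 12284) (.leaf 17580)) (.node (.leaf 8499) (.leaf 0))) (.node (.node (.leaf 1500) (.leaf 0)) (.node (.leaf 12982) (.leaf 0)))) (.node (.node (.node (.leaf 9109) (.leaf 9074)) (.node (.leaf 4541) (.leaf 0))) (.node (.node (.leaf 11974) (.leaf 0)) (.node (.leaf 10297) (.leaf 0))))) (.node (.node (.node (.node (.leaf 7356) (.leaf 6808)) (.node (.leaf 11817) (.leaf 0))) (.node (.node (.leaf 19498) (.leaf 0)) (.node (.leaf 19700) (.leaf 0)))) (.node (.node (.node (.leaf 1567) (.leaf 13998)) (.node (.leaf 1958) (.leaf 0))) (.node (.node (.leaf 5185) (.leaf 0)) (.node (.leaf 19895) (.leaf 0))))))) (.node (.node (.node (.node (.node (.node (.leaf 3629) (.leaf 4326)) (.node (.leaf 8274) (.leaf 0))) (.node (.node (.leaf 849) (.leaf 0)) (.node (.leaf 5765) (.leaf 0)))) (.node (.node (.node (.leaf 7795) (.leaf 1834)) (.node (.leaf 5843) (.leaf 0))) (.node (.node (.leaf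 7779) (.leaf 0)) (.node (.leaf 4356) (.leaf 0))))) (.node (.node (.node (.node (.leaf 15832) (.leaf 8909)) (.node (.leaf 9517) (.leaf 0))) (.node (.node (.leaf 11118) (.leaf 0)) (.node (.leaf 12141) (.leaf 0)))) (.node (.node (.node (.leaf 7548) (.leaf 3660)) (.node (.leaf 9331) (.leaf 0))) (.node (.node (.leaf 16532) (.leaf 0)) (.node (.leaf 8596) (.leaf 0)))))) (.node (.node (.node (.node (.node (.leaf 6532) (.leaf 17798)) (.node (.leaf 17931) (.leaf 0))) (.node (.node (.leaf 7150) (.leaf 0)) (.node (.leaf 6404) (.leaf 0)))) (.node (.node (.node (.leaf 17187) (.leaf 554)) (.node (.leaf 10043) (.leaf 0))) (.node (.node (.leaf 11343) (.leaf 0)) (.node (.leaf 14326) (.leaf 0))))) (.node (.node (.node (.node (.leaf 11646) (.leaf 5942)) (.node (.leaf 6682) (.leaf 0))) (.node (.node (.leaf 9039) (.leaf 0)) (.node (.leaf 11051) (.leaf 0)))) (.node (.node (.node (.leaf 4628) (.leaf 18732)) (.node (.leaf 18719) (.leaf 0))) (.node (.node (.leaf 433) (.leaf 0)) (.node (.leaf 1548) (.leaf 0)))))))) (.node (.node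 (.node (.node (.node (.node (.node (.leaf 10194) (.leaf 5854)) (.node (.leaf 12064) (.leaf 0))) (.node (.node (.leaf 19764) (.leaf 0)) (.node (.leaf 17181) (.leaf 0)))) (.node (.node (.node (.leaf 1907) (.leaf 19952)) (.node (.leaf 303) (.leaf 0))) (.node (.node (.leaf 2010) (.leaf 0)) (.node (.leaf 17265) (.leaf 0))))) (.node (.node (.node (.node (.leaf 905) (.leaf 19610)) (.node (.leaf 4815) (.leaf 0))) (.node (.node (.leaf 16857) (.leaf 0)) (.node (.leaf 5518) (.leaf 0)))) (.node (.node (.node (.leaf 7021) (.leaf 14535)) (.node (.leaf 7299) (.leaf 0))) (.node (.node (.leaf 10631) (.leaf 0)) (.node (.leaf 2695) (.leaf 0)))))) (.node (.node (.node (.node (.node (.leaf 9995) (.leaf 15108)) (.node (.leaf 11158) (.leaf 0))) (.node (.node (.leaf 14814) (.leaf 0)) (.node (.leaf 9631) (.leaf 0)))) (.node (.node (.node (.leaf 11359) (.leaf 3470)) (.node (.leaf 10319) (.leaf 0))) (.node (.node (.leaf 5012) (.leaf 0)) (.node (.leaf 305) (.leaf 0))))) (.node (.node (.node (.node (.leaf 7802) (.leaf 9005)) (.node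 (.leaf 6666) (.leaf 0))) (.node (.node (.leaf 8763) (.leaf 0)) (.node (.leaf 8452) (.leaf 0)))) (.node (.node (.node (.leaf 13932) (.leaf 17133)) (.node (.leaf 16059) (.leaf 0))) (.node (.node (.leaf 19568) (.leaf 0)) (.node (.leaf 7296) (.leaf 0))))))) (.node (.node (.node (.node (.node (.node (.leaf 8336) (.leaf 5347)) (.node (.leaf 12437) (.leaf 0))) (.node (.node (.leaf 28) (.leaf 0)) (.node (.leaf 127) (.leaf 0)))) (.node (.node (.node (.leaf 19345) (.leaf 17555)) (.node (.leaf 18624) (.leaf 0))) (.node (.node (.leaf 6466) (.leaf 0)) (.node (.leaf 12693) (.leaf 0))))) (.node (.node (.node (.node (.leaf 13404) (.leaf 18869)) (.node (.leaf 5751) (.leaf 0))) (.node (.node (.leaf 8189) (.leaf 0)) (.node (.leaf 741) (.leaf 0)))) (.node (.node (.node (.leaf 217) (.leaf 5101)) (.node (.leaf 1011) (.leaf 0))) (.node (.node (.leaf 13927) (.leaf 0)) (.node (.leaf 19306) (.leaf 0)))))) (.node (.node (.node (.node (.node (.leaf 9536) (.leaf 17889)) (.node (.leaf 7256) (.leaf 0))) (.node (.node (.leaf 14616) (.leaf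 0)) (.node (.leaf 5211) (.leaf 0)))) (.node (.node (.node (.leaf 16333) (.leaf 16205)) (.node (.leaf 1111) (.leaf 0))) (.node (.node (.leaf 10712) (.leaf 0)) (.node (.leaf 6417) (.leaf 0))))) (.node (.node (.node (.node (.leaf 3039) (.leaf 18954)) (.node (.leaf 8855) (.leaf 0))) (.node (.node (.leaf 16093) (.leaf 0)) (.node (.leaf 11415) (.leaf 0)))) (.node (.node (.node (.leaf 13014) (.leaf 20371)) (.node (.leaf 16027) (.leaf 0))) (.node (.node (.leaf 13484) (.leaf 0)) (.node (.leaf 18742) (.leaf 0))))))))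

def omT41 : NT := .node (.node (.node (.node (.node (.node (.node (.node (.leaf 7971) (.leaf 17426)) (.node (.leaf 4207) (.leaf 0))) (.node (.node (.leaf 6644) (.leaf 0)) (.node (.leaf 16785) (.leaf 0)))) (.node (.node (.node (.leaf 6732) (.leaf 12495)) (.node (.leaf 5141) (.leaf 0))) (.node (.node (.leaf 5519) (.leaf 0)) (.node (.leaf 669) (.leaf 0))))) (.node (.node (.node (.node (.leaf 15435) (.leaf 17908)) (.node (.leaf 17862) (.leaf 0))) (.node (.node (.leaf 11442) (.leaf 0)) (.node (.leaf 2585) (.leaf 0)))) (.node (.node (.node (.leaf 1102) (.leaf 4085)) (.node (.leaf 6131) (.leaf 0))) (.node (.node (.leaf 9574) (.leaf 0)) (.node (.leaf 13057) (.leaf 0)))))) (.node (.node (.node (.node (.node (.leaf 9130) (.leaf 4022)) (.node (.leaf 2456) (.leaf 0))) (.node (.node (.leaf 4349) (.leaf 0)) (.node (.leaf 17350) (.leaf 0)))) (.node (.node (.node (.leaf 8483) (.leaf 966)) (.node (.leaf 20) (.leaf 0))) (.node (.node (.leaf 10474) (.leaf 0)) (.node (.leaf 18307) (.leaf 0))))) (.node (.node (.node (.node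 (.leaf 7678) (.leaf 12394)) (.node (.leaf 9219) (.leaf 0))) (.node (.node (.leaf 1522) (.leaf 0)) (.node (.leaf 8945) (.leaf 0)))) (.node (.node (.node (.leaf 14736) (.leaf 16522)) (.node (.leaf 10659) (.leaf 0))) (.node (.node (.leaf 19826) (.leaf 0)) (.node (.leaf 17699) (.leaf 0))))))) (.node (.node (.node (.node (.node (.node (.leaf 15749) (.leaf 12317)) (.node (.leaf 9021) (.leaf 0))) (.node (.node (.leaf 2627) (.leaf 0)) (.node (.leaf 5709) (.leaf 0)))) (.node (.node (.node (.leaf 12407) (.leaf 8645)) (.node (.leaf 11962) (.leaf 0))) (.node (.node (.leaf 8730) (.leaf 0)) (.node (.leaf 17254) (.leaf 0))))) (.node (.node (.node (.node (.leaf 6199) (.leaf 3950)) (.node (.leaf 18455) (.leaf 0))) (.node (.node (.leaf 6722) (.leaf 0)) (.node (.leaf 13895) (.leaf 0)))) (.node (.node (.node (.leaf 2157) (.leaf 5645)) (.node (.leaf 12461) (.leaf 0))) (.node (.node (.leaf 14048) (.leaf 0)) (.node (.leaf 8049) (.leaf 0)))))) (.node (.node (.node (.node (.node (.leaf 8226) (.leaf 15136)) (.node (.leaf 8070)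 (.leaf 0))) (.node (.node (.leaf 8246) (.leaf 0)) (.node (.leaf 2542) (.leaf 0)))) (.node (.node (.node (.leaf 9964) (.leaf 8026)) (.node (.leaf 11487) (.leaf 0))) (.node (.node (.leaf 14255) (.leaf 0)) (.node (.leaf 9499) (.leaf 0))))) (.node (.node (.node (.node (.leaf 11733) (.leaf 17209)) (.node (.leaf 12346) (.leaf 0))) (.node (.node (.leaf 161) (.leaf 0)) (.node (.leaf 3224) (.leaf 0)))) (.node (.node (.node (.leaf 773) (.leaf 14190)) (.node (.leaf 4565) (.leaf 0))) (.node (.node (.leaf 15389) (.leaf 0)) (.node (.leaf 18989) (.leaf 0)))))))) (.node (.node (.node (.node (.node (.node (.node (.leaf 14073) (.leaf 6719)) (.node (.leaf 3455) (.leaf 0))) (.node (.node (.leaf 12735) (.leaf 0)) (.node (.leaf 15716) (.leaf 0)))) (.node (.node (.node (.leaf 16863) (.leaf 6346)) (.node (.leaf 19634) (.leaf 0))) (.node (.node (.leaf 2362) (.leaf 0)) (.node (.leaf 20204) (.leaf 0))))) (.node (.node (.node (.node (.leaf 3160) (.leaf 8637)) (.node (.leaf 9160) (.leaf 0))) (.node (.node (.leaf 10963) (.leaf 0))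 (.node (.leaf 13458) (.leaf 0)))) (.node (.node (.node (.leaf 15796) (.leaf 3458)) (.node (.leaf 12694) (.leaf 0))) (.node (.node (.leaf 4589) (.leaf 0)) (.node (.leaf 11387) (.leaf 0)))))) (.node (.node (.node (.node (.node (.leaf 3577) (.leaf 14769)) (.node (.leaf 19711) (.leaf 0))) (.node (.node (.leaf 17485) (.leaf 0)) (.node (.leaf 3472) (.leaf 0)))) (.node (.node (.node (.leaf 10189) (.leaf 861)) (.node (.leaf 1870) (.leaf 0))) (.node (.node (.leaf 12744) (.leaf 0)) (.node (.leaf 18908) (.leaf 0))))) (.node (.node (.node (.node (.leaf 6018) (.leaf 17156)) (.node (.leaf 6122) (.leaf 0))) (.node (.node (.leaf 14633) (.leaf 0)) (.node (.leaf 2869) (.leaf 0)))) (.node (.node (.node (.leaf 2946) (.leaf 13546)) (.node (.leaf 5702) (.leaf 0))) (.node (.node (.leaf 282) (.leaf 0)) (.node (.leaf 14458) (.leaf 0))))))) (.node (.node (.node (.node (.node (.node (.leaf 16310) (.leaf 20339)) (.node (.leaf 391) (.leaf 0))) (.node (.node (.leaf 16048) (.leaf 0)) (.node (.leaf 9680) (.leaf 0)))) (.node (.node (.node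 (.leaf 3450) (.leaf 11531)) (.node (.leaf 10529) (.leaf 0))) (.node (.node (.leaf 19154) (.leaf 0)) (.node (.leaf 19434) (.leaf 0))))) (.node (.node (.node (.node (.leaf 6012) (.leaf 19480)) (.node (.leaf 7938) (.leaf 0))) (.node (.node (.leaf 11967) (.leaf 0)) (.node (.leaf 1905) (.leaf 0)))) (.node (.node (.node (.leaf 8793) (.leaf 16219)) (.node (.leaf 7491) (.leaf 0))) (.node (.node (.leaf 17729) (.leaf 0)) (.node (.leaf 9146) (.leaf 0)))))) (.node (.node (.node (.node (.node (.leaf 10625) (.leaf 13494)) (.node (.leaf 3456) (.leaf 0))) (.node (.node (.leaf 17737) (.leaf 0)) (.node (.leaf 19318) (.leaf 0)))) (.node (.node (.node (.leaf 18763) (.leaf 19208)) (.node (.leaf 19212) (.leaf 0))) (.node (.node (.leaf 2575) (.leaf 0)) (.node (.leaf 2107) (.leaf 0))))) (.node (.node (.node (.node (.leaf 6945) (.leaf 6312)) (.node (.leaf 11338) (.leaf 0))) (.node (.node (.leaf 19546) (.leaf 0)) (.node (.leaf 16539) (.leaf 0)))) (.node (.node (.node (.leaf 9363) (.leaf 15322)) (.node (.leaf 5929) (.leaf 0))) (.node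 (.node (.leaf 19454) (.leaf 0)) (.node (.leaf 7421) (.leaf 0))))))))

def omT42 : NT := .node (.node (.node (.node (.node (.node (.node (.node (.leaf 270) (.leaf 14698)) (.node (.leaf 14642) (.leaf 0))) (.node (.node (.leaf 11861) (.leaf 0)) (.node (.leaf 2149) (.leaf 0)))) (.node (.node (.node (.leaf 11696) (.leaf 1450)) (.node (.leaf 18544) (.leaf 0))) (.node (.node (.leaf 16264) (.leaf 0)) (.node (.leaf 8481) (.leaf 0))))) (.node (.node (.node (.node (.leaf 16620) (.leaf 1539)) (.node (.leaf 11017) (.leaf 0))) (.node (.node (.leaf 11164) (.leaf 0)) (.node (.leaf 5258) (.leaf 0)))) (.node (.node (.node (.leaf 18018) (.leaf 606)) (.node (.leaf 14759) (.leaf 0))) (.node (.node (.leaf 1555) (.leaf 0)) (.node (.leaf 5412) (.leaf 0)))))) (.node (.node (.node (.node (.node (.leaf 15558) (.leaf 12592)) (.node (.leaf 86) (.leaf 0))) (.node (.node (.leaf 6710) (.leaf 0)) (.node (.leaf 10315) (.leaf 0)))) (.node (.node (.node (.leaf 20169) (.leaf 2192)) (.node (.leaf 19017) (.leaf 0))) (.node (.node (.leaf 13259)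 (.leaf 0)) (.node (.leaf 8143) (.leaf 0))))) (.node (.node (.node (.node (.leaf 18240) (.leaf 12804)) (.node (.leaf 14926) (.leaf 0))) (.node (.node (.leaf 18572) (.leaf 0)) (.node (.leaf 1266) (.leaf 0)))) (.node (.node (.node (.leaf 18432) (.leaf 2387)) (.node (.leaf 12265) (.leaf 0))) (.node (.node (.leaf 7663) (.leaf 0)) (.node (.leaf 4313) (.leaf 0))))))) (.node (.node (.node (.node (.node (.node (.leaf 12322) (.leaf 19418)) (.node (.leaf 12392) (.leaf 0))) (.node (.node (.leaf 6894) (.leaf 0)) (.node (.leaf 10213) (.leaf 0)))) (.node (.node (.node (.leaf 6917) (.leaf 12580)) (.node (.leaf 9905) (.leaf 0))) (.node (.node (.leaf 12268) (.leaf 0)) (.node (.leaf 16740) (.leaf 0))))) (.node (.node (.node (.node (.leaf 10192) (.leaf 2662)) (.node (.leaf 16588) (.leaf 0))) (.node (.node (.leaf 3279) (.leaf 0)) (.node (.leaf 2725) (.leaf 0)))) (.node (.node (.node (.leaf 11753) (.leaf 18207)) (.node (.leaf 13000) (.leaf 0))) (.node (.node (.leaf 14311) (.leaf 0)) (.node (.leaf 11642) (.leaf 0)))))) (.node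 (.node (.node (.node (.node (.leaf 9551) (.leaf 6839)) (.node (.leaf 177) (.leaf 0))) (.node (.node (.leaf 15995) (.leaf 0)) (.node (.leaf 16208) (.leaf 0)))) (.node (.node (.node (.leaf 14078) (.leaf 13955)) (.node (.leaf 16629) (.leaf 0))) (.node (.node (.leaf 14841) (.leaf 0)) (.node (.leaf 19562) (.leaf 0))))) (.node (.node (.node (.node (.leaf 8760) (.leaf 18141)) (.node (.leaf 12707) (.leaf 0))) (.node (.node (.leaf 9804) (.leaf 0)) (.node (.leaf 15336) (.leaf 0)))) (.node (.node (.node (.leaf 2551) (.leaf 2467)) (.node (.leaf 19100) (.leaf 0))) (.node (.node (.leaf 17084) (.leaf 0)) (.node (.leaf 8407) (.leaf 0)))))))) (.node (.node (.node (.node (.node (.node (.node (.leaf 11580) (.leaf 10745)) (.node (.leaf 10739) (.leaf 0))) (.node (.node (.leaf 10908) (.leaf 0)) (.node (.leaf 3846) (.leaf 0)))) (.node (.node (.node (.leaf 17208) (.leaf 9126)) (.node (.leaf 4925) (.leaf 0))) (.node (.node (.leaf 6777) (.leaf 0)) (.node (.leaf 9360) (.leaf 0))))) (.node (.node (.node (.node (.leaf 10249) (.leaf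 1086)) (.node (.leaf 4402) (.leaf 0))) (.node (.node (.leaf 15630) (.leaf 0)) (.node (.leaf 14509) (.leaf 0)))) (.node (.node (.node (.leaf 10660) (.leaf 11498)) (.node (.leaf 11202) (.leaf 0))) (.node (.node (.leaf 10503) (.leaf 0)) (.node (.leaf 14952) (.leaf 0)))))) (.node (.node (.node (.node (.node (.leaf 407) (.leaf 14107)) (.node (.leaf 11144) (.leaf 0))) (.node (.node (.leaf 9090) (.leaf 0)) (.node (.leaf 20254) (.leaf 0)))) (.node (.node (.node (.leaf 1487) (.leaf 17915)) (.node (.leaf 14210) (.leaf 0))) (.node (.node (.leaf 5420) (.leaf 0)) (.node (.leaf 11522) (.leaf 0))))) (.node (.node (.node (.node (.leaf 1047) (.leaf 16124)) (.node (.leaf 1378) (.leaf 0))) (.node (.node (.leaf 9757) (.leaf 0)) (.node (.leaf 8962) (.leaf 0)))) (.node (.node (.node (.leaf 9719) (.leaf 18085)) (.node (.leaf 2161) (.leaf 0))) (.node (.node (.leaf 16745) (.leaf 0)) (.node (.leaf 19265) (.leaf 0))))))) (.node (.node (.node (.node (.node (.node (.leaf 3355) (.leaf 2635)) (.node (.leaf 4685) (.leaf 0))) (.node (.node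 (.leaf 9231) (.leaf 0)) (.node (.leaf 577) (.leaf 0)))) (.node (.node (.node (.leaf 11323) (.leaf 15534)) (.node (.leaf 9904) (.leaf 0))) (.node (.node (.leaf 13527) (.leaf 0)) (.node (.leaf 19187) (.leaf 0))))) (.node (.node (.node (.node (.leaf 1866) (.leaf 9388)) (.node (.leaf 10363) (.leaf 0))) (.node (.node (.leaf 12816) (.leaf 0)) (.node (.leaf 18794) (.leaf 0)))) (.node (.node (.node (.leaf 15972) (.leaf 12747)) (.node (.leaf 16097) (.leaf 0))) (.node (.node (.leaf 14917) (.leaf 0)) (.node (.leaf 14042) (.leaf 0)))))) (.node (.node (.node (.node (.node (.leaf 1710) (.leaf 17883)) (.node (.leaf 5980) (.leaf 0))) (.node (.node (.leaf 3695) (.leaf 0)) (.node (.leaf 3614) (.leaf 0)))) (.node (.node (.node (.leaf 9124) (.leaf 3361)) (.node (.leaf 13593) (.leaf 0))) (.node (.node (.leaf 13914) (.leaf 0)) (.node (.leaf 20495) (.leaf 0))))) (.node (.node (.node (.node (.leaf 13355) (.leaf 1065)) (.node (.leaf 3241) (.leaf 0))) (.node (.node (.leaf 15143) (.leaf 0)) (.node (.leaf 15656) (.leaf 0)))) (.node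 (.node (.node (.leaf 2115) (.leaf 15729)) (.node (.leaf 17723) (.leaf 0))) (.node (.node (.leaf 8463) (.leaf 0)) (.node (.leaf 949) (.leaf 0))))))))

def omT43 : NT := .node (.node (.node (.node (.node (.node (.node (.node (.leaf 15947) (.leaf 5541)) (.node (.leaf 19209) (.leaf 0))) (.node (.node (.leaf 15714) (.leaf 0)) (.node (.leaf 15458) (.leaf 0)))) (.node (.node (.node (.leaf 16977) (.leaf 14593)) (.node (.leaf 11329) (.leaf 0))) (.node (.node (.leaf 15123) (.leaf 0)) (.node (.leaf 10265) (.leaf 0))))) (.node (.node (.node (.node (.leaf 869) (.leaf 3377)) (.node (.leaf 15119) (.leaf 0))) (.node (.node (.leaf 2772) (.leaf 0)) (.node (.leaf 20048) (.leaf 0)))) (.node (.node (.node (.leaf 4836) (.leaf 17434)) (.node (.leaf 20286) (.leaf 0))) (.node (.node (.leaf 18575) (.leaf 0)) (.node (.leaf 4948) (.leaf 0)))))) (.node (.node (.node (.node (.node (.leaf 3084) (.leaf 18527)) (.node (.leaf 2696) (.leaf 0))) (.node (.node (.leaf 2581) (.leaf 0)) (.node (.leaf 5964) (.leaf 0)))) (.node (.node (.node (.leaf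 5773) (.leaf 19623)) (.node (.leaf 19087) (.leaf 0))) (.node (.node (.leaf 20323) (.leaf 0)) (.node (.leaf 1872) (.leaf 0))))) (.node (.node (.node (.node (.leaf 3285) (.leaf 2008)) (.node (.leaf 4314) (.leaf 0))) (.node (.node (.leaf 6667) (.leaf 0)) (.node (.leaf 1611) (.leaf 0)))) (.node (.node (.node (.leaf 6658) (.leaf 732)) (.node (.leaf 19916) (.leaf 0))) (.node (.node (.leaf 19415) (.leaf 0)) (.node (.leaf 19879) (.leaf 0))))))) (.node (.node (.node (.node (.node (.node (.leaf 17086) (.leaf 15419)) (.node (.leaf 20315) (.leaf 0))) (.node (.node (.leaf 9033) (.leaf 0)) (.node (.leaf 10121) (.leaf 0)))) (.node (.node (.node (.leaf 5079) (.leaf 11553)) (.node (.leaf 13265) (.leaf 0))) (.node (.node (.leaf 1408) (.leaf 0)) (.node (.leaf 20321) (.leaf 0))))) (.node (.node (.node (.node (.leaf 9419) (.leaf 8178)) (.node (.leaf 8108) (.leaf 0))) (.node (.node (.leaf 4552) (.leaf 0)) (.node (.leaf 14891) (.leaf 0)))) (.node (.node (.node (.leaf 6975) (.leaf 6011)) (.node (.leaf 1712) (.leaf 0))) (.node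 (.node (.leaf 14893) (.leaf 0)) (.node (.leaf 20426) (.leaf 0)))))) (.node (.node (.node (.node (.node (.leaf 9600) (.leaf 292)) (.node (.leaf 10425) (.leaf 0))) (.node (.node (.leaf 9035) (.leaf 0)) (.node (.leaf 11274) (.leaf 0)))) (.node (.node (.node (.leaf 3861) (.leaf 16221)) (.node (.leaf 9155) (.leaf 0))) (.node (.node (.leaf 8548) (.leaf 0)) (.node (.leaf 19559) (.leaf 0))))) (.node (.node (.node (.node (.leaf 19349) (.leaf 13509)) (.node (.leaf 19135) (.leaf 0))) (.node (.node (.leaf 7022) (.leaf 0)) (.node (.leaf 15928) (.leaf 0)))) (.node (.node (.node (.leaf 6038) (.leaf 13519)) (.node (.leaf 8808) (.leaf 0))) (.node (.node (.leaf 17824) (.leaf 0)) (.node (.leaf 19908) (.leaf 0)))))))) (.node (.node (.node (.node (.node (.node (.node (.leaf 7402) (.leaf 2502)) (.node (.leaf 2857) (.leaf 0))) (.node (.node (.leaf 5292) (.leaf 0)) (.node (.leaf 14166) (.leaf 0)))) (.node (.node (.node (.leaf 16927) (.leaf 2376)) (.node (.leaf 11490) (.leaf 0))) (.node (.node (.leaf 20084) (.leaf 0)) (.node (.leaf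 12901) (.leaf 0))))) (.node (.node (.node (.node (.leaf 9915) (.leaf 4012)) (.node (.leaf 15873) (.leaf 0))) (.node (.node (.leaf 3530) (.leaf 0)) (.node (.leaf 15850) (.leaf 0)))) (.node (.node (.node (.leaf 13625) (.leaf 1655)) (.node (.leaf 7666) (.leaf 0))) (.node (.node (.leaf 3) (.leaf 0)) (.node (.leaf 4211) (.leaf 0)))))) (.node (.node (.node (.node (.node (.leaf 4769) (.leaf 12368)) (.node (.leaf 14979) (.leaf 0))) (.node (.node (.leaf 17629) (.leaf 0)) (.node (.leaf 5809) (.leaf 0)))) (.node (.node (.node (.leaf 18542) (.leaf 7541)) (.node (.leaf 17113) (.leaf 0))) (.node (.node (.leaf 16831) (.leaf 0)) (.node (.leaf 4660) (.leaf 0))))) (.node (.node (.node (.node (.leaf 3528) (.leaf 17452)) (.node (.leaf 15342) (.leaf 0))) (.node (.node (.leaf 17751) (.leaf 0)) (.node (.leaf 19776) (.leaf 0)))) (.node (.node (.node (.leaf 16703) (.leaf 14651)) (.node (.leaf 14909) (.leaf 0))) (.node (.node (.leaf 18386) (.leaf 0)) (.node (.leaf 20237) (.leaf 0))))))) (.node (.node (.node (.node (.node (.node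 (.leaf 8064) (.leaf 5664)) (.node (.leaf 850) (.leaf 0))) (.node (.node (.leaf 406) (.leaf 0)) (.node (.leaf 8068) (.leaf 0)))) (.node (.node (.node (.leaf 20433) (.leaf 13793)) (.node (.leaf 18133) (.leaf 0))) (.node (.node (.leaf 20267) (.leaf 0)) (.node (.leaf 604) (.leaf 0))))) (.node (.node (.node (.node (.leaf 17059) (.leaf 17079)) (.node (.leaf 4560) (.leaf 0))) (.node (.node (.leaf 20386) (.leaf 0)) (.node (.leaf 593) (.leaf 0)))) (.node (.node (.node (.leaf 4021) (.leaf 7489)) (.node (.leaf 6097) (.leaf 0))) (.node (.node (.leaf 5927) (.leaf 0)) (.node (.leaf 19886) (.leaf 0)))))) (.node (.node (.node (.node (.node (.leaf 17777) (.leaf 10479)) (.node (.leaf 9262) (.leaf 0))) (.node (.node (.leaf 7543) (.leaf 0)) (.node (.leaf 6384) (.leaf 0)))) (.node (.node (.node (.leaf 12036) (.leaf 984)) (.node (.leaf 7569) (.leaf 0))) (.node (.node (.leaf 2301) (.leaf 0)) (.node (.leaf 374) (.leaf 0))))) (.node (.node (.node (.node (.leaf 1964) (.leaf 1766)) (.node (.leaf 10084) (.leaf 0))) (.node (.node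 (.leaf 10763) (.leaf 0)) (.node (.leaf 16437) (.leaf 0)))) (.node (.node (.node (.leaf 4073) (.leaf 17288)) (.node (.leaf 5571) (.leaf 0))) (.node (.node (.leaf 16966) (.leaf 0)) (.node (.leaf 1521) (.leaf 0))))))))

def omT44 : NT := .node (.node (.node (.node (.node (.node (.node (.node (.leaf 19406) (.leaf 16132)) (.node (.leaf 12018) (.leaf 0))) (.node (.node (.leaf 11906) (.leaf 0)) (.node (.leaf 4636) (.leaf 0)))) (.node (.node (.node (.leaf 12357) (.leaf 13136)) (.node (.leaf 19202) (.leaf 0))) (.node (.node (.leaf 10352) (.leaf 0)) (.node (.leaf 17867) (.leaf 0))))) (.node (.node (.node (.node (.leaf 6869) (.leaf 14907)) (.node (.leaf 5883) (.leaf 0))) (.node (.node (.leaf 1994) (.leaf 0)) (.node (.leaf 1777) (.leaf 0)))) (.node (.node (.node (.leaf 9532) (.leaf 7430)) (.node (.leaf 6793) (.leaf 0))) (.node (.node (.leaf 20389) (.leaf 0)) (.node (.leaf 14129) (.leaf 0)))))) (.node (.node (.node (.node (.node (.leaf 16336) (.leaf 9633)) (.node (.leaf 13021) (.leaf 0))) (.node (.node (.leaf 13988)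 (.leaf 0)) (.node (.leaf 2584) (.leaf 0)))) (.node (.node (.node (.leaf 6602) (.leaf 5105)) (.node (.leaf 13133) (.leaf 0))) (.node (.node (.leaf 9721) (.leaf 0)) (.node (.leaf 7771) (.leaf 0))))) (.node (.node (.node (.node (.leaf 9584) (.leaf 10399)) (.node (.leaf 14482) (.leaf 0))) (.node (.node (.leaf 3001) (.leaf 0)) (.node (.leaf 17104) (.leaf 0)))) (.node (.node (.node (.leaf 11535) (.leaf 806)) (.node (.leaf 3073) (.leaf 0))) (.node (.node (.leaf 12913) (.leaf 0)) (.node (.leaf 3070) (.leaf 0))))))) (.node (.node (.node (.node (.node (.node (.leaf 3049) (.leaf 2026)) (.node (.leaf 2717) (.leaf 0))) (.node (.node (.leaf 10465) (.leaf 0)) (.node (.leaf 3703) (.leaf 0)))) (.node (.node (.node (.leaf 14622) (.leaf 11133)) (.node (.leaf 421) (.leaf 0))) (.node (.node (.leaf 299) (.leaf 0)) (.node (.leaf 1603) (.leaf 0))))) (.node (.node (.node (.node (.leaf 6215) (.leaf 9398)) (.node (.leaf 4354) (.leaf 0))) (.node (.node (.leaf 14788) (.leaf 0)) (.node (.leaf 10353) (.leaf 0)))) (.node (.node (.node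 (.leaf 19146) (.leaf 19392)) (.node (.leaf 18378) (.leaf 0))) (.node (.node (.leaf 4323) (.leaf 0)) (.node (.leaf 343) (.leaf 0)))))) (.node (.node (.node (.node (.node (.leaf 15951) (.leaf 2943)) (.node (.leaf 15480) (.leaf 0))) (.node (.node (.leaf 16887) (.leaf 0)) (.node (.leaf 16591) (.leaf 0)))) (.node (.node (.node (.leaf 12542) (.leaf 484)) (.node (.leaf 15023) (.leaf 0))) (.node (.node (.leaf 5239) (.leaf 0)) (.node (.leaf 16609) (.leaf 0))))) (.node (.node (.node (.node (.leaf 18400) (.leaf 3596)) (.node (.leaf 15181) (.leaf 0))) (.node (.node (.leaf 13672) (.leaf 0)) (.node (.leaf 16969) (.leaf 0)))) (.node (.node (.node (.leaf 12239) (.leaf 605)) (.node (.leaf 5308) (.leaf 0))) (.node (.node (.leaf 14703) (.leaf 0)) (.node (.leaf 494) (.leaf 0)))))))) (.node (.node (.node (.node (.node (.node (.node (.leaf 16401) (.leaf 8574)) (.node (.leaf 3369) (.leaf 0))) (.node (.node (.leaf 2782) (.leaf 0)) (.node (.leaf 4882) (.leaf 0)))) (.node (.node (.node (.leaf 20392) (.leaf 15048)) (.node (.leaf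 11465) (.leaf 0))) (.node (.node (.leaf 8857) (.leaf 0)) (.node (.leaf 17270) (.leaf 0))))) (.node (.node (.node (.node (.leaf 6744) (.leaf 12692)) (.node (.leaf 13764) (.leaf 0))) (.node (.node (.leaf 12205) (.leaf 0)) (.node (.leaf 4920) (.leaf 0)))) (.node (.node (.node (.leaf 1838) (.leaf 16797)) (.node (.leaf 8276) (.leaf 0))) (.node (.node (.leaf 1512) (.leaf 0)) (.node (.leaf 2126) (.leaf 0)))))) (.node (.node (.node (.node (.node (.leaf 1308) (.leaf 9018)) (.node (.leaf 14602) (.leaf 0))) (.node (.node (.leaf 20447) (.leaf 0)) (.node (.leaf 7535) (.leaf 0)))) (.node (.node (.node (.leaf 4241) (.leaf 19364)) (.node (.leaf 4901) (.leaf 0))) (.node (.node (.leaf 19661) (.leaf 0)) (.node (.leaf 10257) (.leaf 0))))) (.node (.node (.node (.node (.leaf 8247) (.leaf 14276)) (.node (.leaf 15759) (.leaf 0))) (.node (.node (.leaf 12771) (.leaf 0)) (.node (.leaf 4931) (.leaf 0)))) (.node (.node (.node (.leaf 9944) (.leaf 18295)) (.node (.leaf 17298) (.leaf 0))) (.node (.node (.leaf 18335) (.leaf 0)) (.node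 (.leaf 15402) (.leaf 0))))))) (.node (.node (.node (.node (.node (.node (.leaf 10126) (.leaf 17081)) (.node (.leaf 3714) (.leaf 0))) (.node (.node (.leaf 16612) (.leaf 0)) (.node (.leaf 18651) (.leaf 0)))) (.node (.node (.node (.leaf 5850) (.leaf 3274)) (.node (.leaf 12237) (.leaf 0))) (.node (.node (.leaf 12971) (.leaf 0)) (.node (.leaf 3353) (.leaf 0))))) (.node (.node (.node (.node (.leaf 12274) (.leaf 8180)) (.node (.leaf 16476) (.leaf 0))) (.node (.node (.leaf 8041) (.leaf 0)) (.node (.leaf 373) (.leaf 0)))) (.node (.node (.node (.leaf 15881) (.leaf 6955)) (.node (.leaf 14805) (.leaf 0))) (.node (.node (.leaf 1840) (.leaf 0)) (.node (.leaf 17244) (.leaf 0)))))) (.node (.node (.node (.node (.node (.leaf 14099) (.leaf 6314)) (.node (.leaf 13452) (.leaf 0))) (.node (.node (.leaf 18046) (.leaf 0)) (.node (.leaf 8821) (.leaf 0)))) (.node (.node (.node (.leaf 11429) (.leaf 17574)) (.node (.leaf 19322) (.leaf 0))) (.node (.node (.leaf 8668) (.leaf 0)) (.node (.leaf 14346) (.leaf 0))))) (.node (.node (.node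 (.node (.leaf 14125) (.leaf 17103)) (.node (.leaf 87) (.leaf 0))) (.node (.node (.leaf 4238) (.leaf 0)) (.node (.leaf 14673) (.leaf 0)))) (.node (.node (.node (.leaf 4479) (.leaf 14967)) (.node (.leaf 17712) (.leaf 0))) (.node (.node (.leaf 12964) (.leaf 0)) (.node (.leaf 9015) (.leaf 0))))))))

def omT45 : NT := .node (.node (.node (.node (.node (.node (.node (.node (.leaf 19704) (.leaf 1150)) (.node (.leaf 17201) (.leaf 0))) (.node (.node (.leaf 15390) (.leaf 0)) (.node (.leaf 19575) (.leaf 0)))) (.node (.node (.node (.leaf 13178) (.leaf 20414)) (.node (.leaf 16030) (.leaf 0))) (.node (.node (.leaf 6475) (.leaf 0)) (.node (.leaf 14025) (.leaf 0))))) (.node (.node (.node (.node (.leaf 13411) (.leaf 18512)) (.node (.leaf 1811) (.leaf 0))) (.node (.node (.leaf 7310) (.leaf 0)) (.node (.leaf 10641) (.leaf 0)))) (.node (.node (.node (.leaf 20464) (.leaf 1256)) (.node (.leaf 8739) (.leaf 0))) (.node (.node (.leaf 3061) (.leaf 0)) (.node (.leaf 3825) (.leaf 0)))))) (.node (.node (.node (.node (.node (.leaf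 8686) (.leaf 9111)) (.node (.leaf 11330) (.leaf 0))) (.node (.node (.leaf 681) (.leaf 0)) (.node (.leaf 16150) (.leaf 0)))) (.node (.node (.node (.leaf 5326) (.leaf 8073)) (.node (.leaf 122) (.leaf 0))) (.node (.node (.leaf 2323) (.leaf 0)) (.node (.leaf 18340) (.leaf 0))))) (.node (.node (.node (.node (.leaf 7637) (.leaf 8256)) (.node (.leaf 10453) (.leaf 0))) (.node (.node (.leaf 8904) (.leaf 0)) (.node (.leaf 6448) (.leaf 0)))) (.node (.node (.node (.leaf 8442) (.leaf 13555)) (.node (.leaf 2078) (.leaf 0))) (.node (.node (.leaf 13832) (.leaf 0)) (.node (.leaf 3691) (.leaf 0))))))) (.node (.node (.node (.node (.node (.node (.leaf 5786) (.leaf 4905)) (.node (.leaf 4544) (.leaf 0))) (.node (.node (.leaf 10852) (.leaf 0)) (.node (.leaf 2005) (.leaf 0)))) (.node (.node (.node (.leaf 15695) (.leaf 16773)) (.node (.leaf 15347) (.leaf 0))) (.node (.node (.leaf 10521) (.leaf 0)) (.node (.leaf 17088) (.leaf 0))))) (.node (.node (.node (.node (.leaf 6483) (.leaf 11373)) (.node (.leaf 11089) (.leaf 0))) (.node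 (.node (.leaf 9040) (.leaf 0)) (.node (.leaf 12434) (.leaf 0)))) (.node (.node (.node (.leaf 9162) (.leaf 16073)) (.node (.leaf 8521) (.leaf 0))) (.node (.node (.leaf 10332) (.leaf 0)) (.node (.leaf 16011) (.leaf 0)))))) (.node (.node (.node (.node (.node (.leaf 11313) (.leaf 19190)) (.node (.leaf 16726) (.leaf 0))) (.node (.node (.leaf 15866) (.leaf 0)) (.node (.leaf 1810) (.leaf 0)))) (.node (.node (.node (.leaf 259) (.leaf 11965)) (.node (.leaf 12131) (.leaf 0))) (.node (.node (.leaf 17911) (.leaf 0)) (.node (.leaf 18942) (.leaf 0))))) (.node (.node (.node (.node (.leaf 17674) (.leaf 16444)) (.node (.leaf 18553) (.leaf 0))) (.node (.node (.leaf 12923) (.leaf 0)) (.node (.leaf 8604) (.leaf 0)))) (.node (.node (.node (.leaf 16586) (.leaf 17420)) (.node (.leaf 7239) (.leaf 0))) (.node (.node (.leaf 3879) (.leaf 0)) (.node (.leaf 13239) (.leaf 0)))))))) (.node (.node (.node (.node (.node (.node (.node (.leaf 499) (.leaf 16602)) (.node (.leaf 2926) (.leaf 0))) (.node (.node (.leaf 8117) (.leaf 0)) (.node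 (.leaf 1619) (.leaf 0)))) (.node (.node (.node (.leaf 20177) (.leaf 9341)) (.node (.leaf 18951) (.leaf 0))) (.node (.node (.leaf 15351) (.leaf 0)) (.node (.leaf 1310) (.leaf 0))))) (.node (.node (.node (.node (.leaf 18023) (.leaf 2132)) (.node (.leaf 14830) (.leaf 0))) (.node (.node (.leaf 16358) (.leaf 0)) (.node (.leaf 6691) (.leaf 0)))) (.node (.node (.node (.leaf 1127) (.leaf 9866)) (.node (.leaf 5732) (.leaf 0))) (.node (.node (.leaf 7813) (.leaf 0)) (.node (.leaf 4307) (.leaf 0)))))) (.node (.node (.node (.node (.node (.leaf 14697) (.leaf 18761)) (.node (.leaf 9635) (.leaf 0))) (.node (.node (.leaf 13164) (.leaf 0)) (.node (.leaf 20024) (.leaf 0)))) (.node (.node (.node (.leaf 13860) (.leaf 4611)) (.node (.leaf 16483) (.leaf 0))) (.node (.node (.leaf 5889) (.leaf 0)) (.node (.leaf 12496) (.leaf 0))))) (.node (.node (.node (.node (.leaf 4050) (.leaf 11985)) (.node (.leaf 15876) (.leaf 0))) (.node (.node (.leaf 18615) (.leaf 0)) (.node (.leaf 16795) (.leaf 0)))) (.node (.node (.node (.leaf 6784) (.leaf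 17800)) (.node (.leaf 15031) (.leaf 0))) (.node (.node (.leaf 8327) (.leaf 0)) (.node (.leaf 10009) (.leaf 0))))))) (.node (.node (.node (.node (.node (.node (.leaf 5160) (.leaf 8749)) (.node (.leaf 1281) (.leaf 0))) (.node (.node (.leaf 5475) (.leaf 0)) (.node (.leaf 20474) (.leaf 0)))) (.node (.node (.node (.leaf 8870) (.leaf 14237)) (.node (.leaf 13281) (.leaf 0))) (.node (.node (.leaf 14583) (.leaf 0)) (.node (.leaf 10343) (.leaf 0))))) (.node (.node (.node (.node (.leaf 16238) (.leaf 12657)) (.node (.leaf 16428) (.leaf 0))) (.node (.node (.leaf 13531) (.leaf 0)) (.node (.leaf 15750) (.leaf 0)))) (.node (.node (.node (.leaf 19372) (.leaf 17387)) (.node (.leaf 8886) (.leaf 0))) (.node (.node (.leaf 12374) (.leaf 0)) (.node (.leaf 6800) (.leaf 0)))))) (.node (.node (.node (.node (.node (.leaf 7424) (.leaf 17653)) (.node (.leaf 2944) (.leaf 0))) (.node (.node (.leaf 6336) (.leaf 0)) (.node (.leaf 15518) (.leaf 0)))) (.node (.node (.node (.leaf 13074) (.leaf 9864)) (.node (.leaf 4783) (.leaf 0))) (.node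 (.node (.leaf 1636) (.leaf 0)) (.node (.leaf 19308) (.leaf 0))))) (.node (.node (.node (.node (.leaf 6418) (.leaf 14742)) (.node (.leaf 13067) (.leaf 0))) (.node (.node (.leaf 1740) (.leaf 0)) (.node (.leaf 964) (.leaf 0)))) (.node (.node (.node (.leaf 9493) (.leaf 16725)) (.node (.leaf 12712) (.leaf 0))) (.node (.node (.leaf 18833) (.leaf 0)) (.node (.leaf 18938) (.leaf 0))))))))

def omT46 : NT := .node (.node (.node (.node (.node (.node (.node (.node (.leaf 10704) (.leaf 5972)) (.node (.leaf 4739) (.leaf 0))) (.node (.node (.leaf 16156) (.leaf 0)) (.node (.leaf 10015) (.leaf 0)))) (.node (.node (.node (.leaf 13508) (.leaf 19643)) (.node (.leaf 3913) (.leaf 0))) (.node (.node (.leaf 9671) (.leaf 0)) (.node (.leaf 1223) (.leaf 0))))) (.node (.node (.node (.node (.leaf 8020) (.leaf 4871)) (.node (.leaf 20452) (.leaf 0))) (.node (.node (.leaf 1894) (.leaf 0)) (.node (.leaf 1726) (.leaf 0)))) (.node (.node (.node (.leaf 4641) (.leaf 1049)) (.node (.leaf 12687) (.leaf 0))) (.node (.node (.leaf 5033) (.leaf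 0)) (.node (.leaf 16005) (.leaf 0)))))) (.node (.node (.node (.node (.node (.leaf 11270) (.leaf 20435)) (.node (.leaf 7197) (.leaf 0))) (.node (.node (.leaf 7825) (.leaf 0)) (.node (.leaf 2877) (.leaf 0)))) (.node (.node (.node (.leaf 16415) (.leaf 12506)) (.node (.leaf 4110) (.leaf 0))) (.node (.node (.leaf 11080) (.leaf 0)) (.node (.leaf 1694) (.leaf 0))))) (.node (.node (.node (.node (.leaf 2693) (.leaf 16292)) (.node (.leaf 4292) (.leaf 0))) (.node (.node (.leaf 4993) (.leaf 0)) (.node (.leaf 13629) (.leaf 0)))) (.node (.node (.node (.leaf 2305) (.leaf 9539)) (.node (.leaf 9617) (.leaf 0))) (.node (.node (.leaf 16657) (.leaf 0)) (.node (.leaf 2604) (.leaf 0))))))) (.node (.node (.node (.node (.node (.node (.leaf 9947) (.leaf 10391)) (.node (.leaf 12546) (.leaf 0))) (.node (.node (.leaf 18600) (.leaf 0)) (.node (.leaf 12454) (.leaf 0)))) (.node (.node (.node (.leaf 7852) (.leaf 7763)) (.node (.leaf 7147) (.leaf 0))) (.node (.node (.leaf 10802) (.leaf 0)) (.node (.leaf 14615) (.leaf 0))))) (.node (.node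 (.node (.node (.leaf 13669) (.leaf 15906)) (.node (.leaf 15574) (.leaf 0))) (.node (.node (.leaf 162) (.leaf 0)) (.node (.leaf 6295) (.leaf 0)))) (.node (.node (.node (.leaf 11900) (.leaf 6235)) (.node (.leaf 20441) (.leaf 0))) (.node (.node (.leaf 3339) (.leaf 0)) (.node (.leaf 12652) (.leaf 0)))))) (.node (.node (.node (.node (.node (.leaf 18496) (.leaf 16555)) (.node (.leaf 2451) (.leaf 0))) (.node (.node (.leaf 16713) (.leaf 0)) (.node (.leaf 7109) (.leaf 0)))) (.node (.node (.node (.leaf 7294) (.leaf 13228)) (.node (.leaf 10973) (.leaf 0))) (.node (.node (.leaf 10987) (.leaf 0)) (.node (.leaf 11139) (.leaf 0))))) (.node (.node (.node (.node (.leaf 9748) (.leaf 17817)) (.node (.leaf 7388) (.leaf 0))) (.node (.node (.leaf 3245) (.leaf 0)) (.node (.leaf 4395) (.leaf 0)))) (.node (.node (.node (.leaf 1443) (.leaf 1279)) (.node (.leaf 15185) (.leaf 0))) (.node (.node (.leaf 17213) (.leaf 0)) (.node (.leaf 667) (.leaf 0)))))))) (.node (.node (.node (.node (.node (.node (.node (.leaf 2230) (.leaf 1219))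 (.node (.leaf 18684) (.leaf 0))) (.node (.node (.leaf 4916) (.leaf 0)) (.node (.leaf 2683) (.leaf 0)))) (.node (.node (.node (.leaf 13128) (.leaf 8610)) (.node (.leaf 18958) (.leaf 0))) (.node (.node (.leaf 15030) (.leaf 0)) (.node (.leaf 729) (.leaf 0))))) (.node (.node (.node (.node (.leaf 3057) (.leaf 6778)) (.node (.leaf 5928) (.leaf 0))) (.node (.node (.leaf 965) (.leaf 0)) (.node (.leaf 692) (.leaf 0)))) (.node (.node (.node (.leaf 1759) (.leaf 393)) (.node (.leaf 3541) (.leaf 0))) (.node (.node (.leaf 485) (.leaf 0)) (.node (.leaf 10311) (.leaf 0)))))) (.node (.node (.node (.node (.node (.leaf 18010) (.leaf 15505)) (.node (.leaf 11265) (.leaf 0))) (.node (.node (.leaf 2069) (.leaf 0)) (.node (.leaf 10331) (.leaf 0)))) (.node (.node (.node (.leaf 20425) (.leaf 14611)) (.node (.leaf 7494) (.leaf 0))) (.node (.node (.leaf 10795) (.leaf 0)) (.node (.leaf 8155) (.leaf 0))))) (.node (.node (.node (.node (.leaf 7255) (.leaf 1226)) (.node (.leaf 16438) (.leaf 0))) (.node (.node (.leaf 19876) (.leaf 0))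 (.node (.leaf 657) (.leaf 0)))) (.node (.node (.node (.leaf 4129) (.leaf 14446)) (.node (.leaf 676) (.leaf 0))) (.node (.node (.leaf 19291) (.leaf 0)) (.node (.leaf 10983) (.leaf 0))))))) (.node (.node (.node (.node (.node (.node (.leaf 17188) (.leaf 5246)) (.node (.leaf 7713) (.leaf 0))) (.node (.node (.leaf 20302) (.leaf 0)) (.node (.leaf 9622) (.leaf 0)))) (.node (.node (.node (.leaf 14140) (.leaf 6659)) (.node (.leaf 6507) (.leaf 0))) (.node (.node (.leaf 17640) (.leaf 0)) (.node (.leaf 3129) (.leaf 0))))) (.node (.node (.node (.node (.leaf 38) (.leaf 13390)) (.node (.leaf 1706) (.leaf 0))) (.node (.node (.leaf 8715) (.leaf 0)) (.node (.leaf 2902) (.leaf 0)))) (.node (.node (.node (.leaf 11408) (.leaf 4188)) (.node (.leaf 13524) (.leaf 0))) (.node (.node (.leaf 8273) (.leaf 0)) (.node (.leaf 12857) (.leaf 0)))))) (.node (.node (.node (.node (.node (.leaf 13144) (.leaf 2211)) (.node (.leaf 2556) (.leaf 0))) (.node (.node (.leaf 2194) (.leaf 0)) (.node (.leaf 6007) (.leaf 0)))) (.node (.node (.node (.leaf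 14534) (.leaf 19360)) (.node (.leaf 7431) (.leaf 0))) (.node (.node (.leaf 13589) (.leaf 0)) (.node (.leaf 11711) (.leaf 0))))) (.node (.node (.node (.node (.leaf 6016) (.leaf 17384)) (.node (.leaf 17901) (.leaf 0))) (.node (.node (.leaf 16188) (.leaf 0)) (.node (.leaf 10966) (.leaf 0)))) (.node (.node (.node (.leaf 12882) (.leaf 8305)) (.node (.leaf 15564) (.leaf 0))) (.node (.node (.leaf 18760) (.leaf 0)) (.node (.leaf 13276) (.leaf 0))))))))

def omT47 : NT := .node (.node (.node (.node (.node (.node (.node (.node (.leaf 1238) (.leaf 12655)) (.node (.leaf 6046) (.leaf 0))) (.node (.node (.leaf 7490) (.leaf 0)) (.node (.leaf 6376) (.leaf 0)))) (.node (.node (.node (.leaf 13132) (.leaf 5668)) (.node (.leaf 17973) (.leaf 0))) (.node (.node (.leaf 2508) (.leaf 0)) (.node (.leaf 2080) (.leaf 0))))) (.node (.node (.node (.node (.leaf 2091) (.leaf 17214)) (.node (.leaf 15857) (.leaf 0))) (.node (.node (.leaf 18091) (.leaf 0)) (.node (.leaf 14743) (.leaf 0)))) (.node (.node (.node (.leaf 4945) (.leaf 10438))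 (.node (.leaf 14722) (.leaf 0))) (.node (.node (.leaf 14230) (.leaf 0)) (.node (.leaf 9901) (.leaf 0)))))) (.node (.node (.node (.node (.node (.leaf 17031) (.leaf 15698)) (.node (.leaf 13084) (.leaf 0))) (.node (.node (.leaf 9474) (.leaf 0)) (.node (.leaf 19584) (.leaf 0)))) (.node (.node (.node (.leaf 20227) (.leaf 4942)) (.node (.leaf 12054) (.leaf 0))) (.node (.node (.leaf 8380) (.leaf 0)) (.node (.leaf 4101) (.leaf 0))))) (.node (.node (.node (.node (.leaf 7657) (.leaf 4358)) (.node (.leaf 15297) (.leaf 0))) (.node (.node (.leaf 6949) (.leaf 0)) (.node (.leaf 18814) (.leaf 0)))) (.node (.node (.node (.leaf 11754) (.leaf 12617)) (.node (.leaf 18132) (.leaf 0))) (.node (.node (.leaf 12201) (.leaf 0)) (.node (.leaf 19589) (.leaf 0))))))) (.node (.node (.node (.node (.node (.node (.leaf 13192) (.leaf 19577)) (.node (.leaf 19013) (.leaf 0))) (.node (.node (.leaf 1140) (.leaf 0)) (.node (.leaf 11788) (.leaf 0)))) (.node (.node (.node (.leaf 11819) (.leaf 11859)) (.node (.leaf 3627) (.leaf 0))) (.node (.node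 (.leaf 8882) (.leaf 0)) (.node (.leaf 3659) (.leaf 0))))) (.node (.node (.node (.node (.leaf 17385) (.leaf 17413)) (.node (.leaf 11086) (.leaf 0))) (.node (.node (.leaf 13537) (.leaf 0)) (.node (.leaf 18366) (.leaf 0)))) (.node (.node (.node (.leaf 18257) (.leaf 4637)) (.node (.leaf 6313) (.leaf 0))) (.node (.node (.leaf 16499) (.leaf 0)) (.node (.leaf 13344) (.leaf 0)))))) (.node (.node (.node (.node (.node (.leaf 19665) (.leaf 10148)) (.node (.leaf 16809) (.leaf 0))) (.node (.node (.leaf 13017) (.leaf 0)) (.node (.leaf 9023) (.leaf 0)))) (.node (.node (.node (.leaf 2347) (.leaf 10478)) (.node (.leaf 5129) (.leaf 0))) (.node (.node (.leaf 19655) (.leaf 0)) (.node (.leaf 14221) (.leaf 0))))) (.node (.node (.node (.node (.leaf 15158) (.leaf 3286)) (.node (.leaf 3615) (.leaf 0))) (.node (.node (.leaf 16058) (.leaf 0)) (.node (.leaf 12793) (.leaf 0)))) (.node (.node (.node (.leaf 12048) (.leaf 1066)) (.node (.leaf 18061) (.leaf 0))) (.node (.node (.leaf 3619) (.leaf 0)) (.node (.leaf 8194) (.leaf 0))))))))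 (.node (.node (.node (.node (.node (.node (.node (.leaf 20483) (.leaf 5515)) (.node (.leaf 12518) (.leaf 0))) (.node (.node (.leaf 9632) (.leaf 0)) (.node (.leaf 1729) (.leaf 0)))) (.node (.node (.node (.leaf 12073) (.leaf 19998)) (.node (.leaf 17048) (.leaf 0))) (.node (.node (.leaf 4339) (.leaf 0)) (.node (.leaf 3422) (.leaf 0))))) (.node (.node (.node (.node (.leaf 11424) (.leaf 19513)) (.node (.leaf 298) (.leaf 0))) (.node (.node (.leaf 14520) (.leaf 0)) (.node (.leaf 416) (.leaf 0)))) (.node (.node (.node (.leaf 11219) (.leaf 4072)) (.node (.leaf 14173) (.leaf 0))) (.node (.node (.leaf 19854) (.leaf 0)) (.node (.leaf 1610) (.leaf 0)))))) (.node (.node (.node (.node (.node (.leaf 3647) (.leaf 10816)) (.node (.leaf 8103) (.leaf 0))) (.node (.node (.leaf 16983) (.leaf 0)) (.node (.leaf 16118) (.leaf 0)))) (.node (.node (.node (.leaf 12558) (.leaf 17840)) (.node (.leaf 3802) (.leaf 0))) (.node (.node (.leaf 13723) (.leaf 0)) (.node (.leaf 9702) (.leaf 0))))) (.node (.node (.node (.node (.leaf 5904) (.leaf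 16215)) (.node (.leaf 9405) (.leaf 0))) (.node (.node (.leaf 4752) (.leaf 0)) (.node (.leaf 2004) (.leaf 0)))) (.node (.node (.node (.leaf 8107) (.leaf 20439)) (.node (.leaf 3013) (.leaf 0))) (.node (.node (.leaf 6414) (.leaf 0)) (.node (.leaf 17443) (.leaf 0))))))) (.node (.node (.node (.node (.node (.node (.leaf 14031) (.leaf 11300)) (.node (.leaf 6727) (.leaf 0))) (.node (.node (.leaf 10338) (.leaf 0)) (.node (.leaf 526) (.leaf 0)))) (.node (.node (.node (.leaf 3955) (.leaf 7367)) (.node (.leaf 1808) (.leaf 0))) (.node (.node (.leaf 12927) (.leaf 0)) (.node (.leaf 18163) (.leaf 0))))) (.node (.node (.node (.node (.leaf 1979) (.leaf 4615)) (.node (.leaf 2505) (.leaf 0))) (.node (.node (.leaf 17293) (.leaf 0)) (.node (.leaf 3320) (.leaf 0)))) (.node (.node (.node (.leaf 14873) (.leaf 8769)) (.node (.leaf 458) (.leaf 0))) (.node (.node (.leaf 3365) (.leaf 0)) (.node (.leaf 4478) (.leaf 0)))))) (.node (.node (.node (.node (.node (.leaf 15649) (.leaf 1974)) (.node (.leaf 3094) (.leaf 0))) (.node (.node (.leaf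 6747) (.leaf 0)) (.node (.leaf 6559) (.leaf 0)))) (.node (.node (.node (.leaf 314) (.leaf 19319)) (.node (.leaf 5466) (.leaf 0))) (.node (.node (.leaf 2593) (.leaf 0)) (.node (.leaf 15787) (.leaf 0))))) (.node (.node (.node (.node (.leaf 15878) (.leaf 19788)) (.node (.leaf 19083) (.leaf 0))) (.node (.node (.leaf 17023) (.leaf 0)) (.node (.leaf 20349) (.leaf 0)))) (.node (.node (.node (.leaf 5814) (.leaf 3421)) (.node (.leaf 939) (.leaf 0))) (.node (.node (.leaf 20047) (.leaf 0)) (.node (.leaf 17487) (.leaf 0))))))))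

def omT48 : NT := .node (.node (.node (.node (.node (.node (.node (.node (.leaf 4940) (.leaf 12408)) (.node (.leaf 20161) (.leaf 0))) (.node (.node (.leaf 7626) (.leaf 0)) (.node (.leaf 3661) (.leaf 0)))) (.node (.node (.node (.leaf 14877) (.leaf 11174)) (.node (.leaf 12851) (.leaf 0))) (.node (.node (.leaf 13829) (.leaf 0)) (.node (.leaf 1309) (.leaf 0))))) (.node (.node (.node (.node (.leaf 4626) (.leaf 9623)) (.node (.leaf 3934) (.leaf 0))) (.node (.node (.leaf 1622) (.leaf 0)) (.node (.leaf 19340) (.leaf 0)))) (.node (.node (.node (.leaf 128) (.leaf 12997)) (.node (.leaf 4099) (.leaf 0))) (.node (.node (.leaf 4865) (.leaf 0)) (.node (.leaf 3439) (.leaf 0)))))) (.node (.node (.node (.node (.node (.leaf 15316) (.leaf 16340)) (.node (.leaf 4413) (.leaf 0))) (.node (.node (.leaf 20129) (.leaf 0)) (.node (.leaf 150) (.leaf 0)))) (.node (.node (.node (.leaf 13307) (.leaf 4936)) (.node (.leaf 17381) (.leaf 0))) (.node (.node (.leaf 16029) (.leaf 0)) (.node (.leaf 17186) (.leaf 0))))) (.node (.node (.node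 (.node (.leaf 12513) (.leaf 980)) (.node (.leaf 15305) (.leaf 0))) (.node (.node (.leaf 1792) (.leaf 0)) (.node (.leaf 15665) (.leaf 0)))) (.node (.node (.node (.leaf 10928) (.leaf 10312)) (.node (.leaf 14015) (.leaf 0))) (.node (.node (.leaf 12060) (.leaf 0)) (.node (.leaf 16925) (.leaf 0))))))) (.node (.node (.node (.node (.node (.node (.leaf 19031) (.leaf 3102)) (.node (.leaf 10450) (.leaf 0))) (.node (.node (.leaf 8837) (.leaf 0)) (.node (.leaf 8087) (.leaf 0)))) (.node (.node (.node (.leaf 10288) (.leaf 83)) (.node (.leaf 11714) (.leaf 0))) (.node (.node (.leaf 13989) (.leaf 0)) (.node (.leaf 12429) (.leaf 0))))) (.node (.node (.node (.node (.leaf 3494) (.leaf 6210)) (.node (.leaf 15269) (.leaf 0))) (.node (.node (.leaf 17882) (.leaf 0)) (.node (.leaf 8461) (.leaf 0)))) (.node (.node (.node (.leaf 5042) (.leaf 6013)) (.node (.leaf 2646) (.leaf 0))) (.node (.node (.leaf 18250) (.leaf 0)) (.node (.leaf 1068) (.leaf 0)))))) (.node (.node (.node (.node (.node (.leaf 18709) (.leaf 8005)) (.node (.leaf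 5783) (.leaf 0))) (.node (.node (.leaf 9521) (.leaf 0)) (.node (.leaf 4379) (.leaf 0)))) (.node (.node (.node (.leaf 2785) (.leaf 2279)) (.node (.leaf 12112) (.leaf 0))) (.node (.node (.leaf 17630) (.leaf 0)) (.node (.leaf 5316) (.leaf 0))))) (.node (.node (.node (.node (.leaf 5276) (.leaf 7004)) (.node (.leaf 18825) (.leaf 0))) (.node (.node (.leaf 11444) (.leaf 0)) (.node (.leaf 12070) (.leaf 0)))) (.node (.node (.node (.leaf 5227) (.leaf 112)) (.node (.leaf 4881) (.leaf 0))) (.node (.node (.leaf 13432) (.leaf 0)) (.node (.leaf 6088) (.leaf 0)))))))) (.node (.node (.node (.node (.node (.node (.node (.leaf 7436) (.leaf 10931)) (.node (.leaf 650) (.leaf 0))) (.node (.node (.leaf 8880) (.leaf 0)) (.node (.leaf 4533) (.leaf 0)))) (.node (.node (.node (.leaf 8394) (.leaf 4624)) (.node (.leaf 9616) (.leaf 0))) (.node (.node (.leaf 7409) (.leaf 0)) (.node (.leaf 5587) (.leaf 0))))) (.node (.node (.node (.node (.leaf 18180) (.leaf 13270)) (.node (.leaf 14021) (.leaf 0))) (.node (.node (.leaf 1787) (.leaf 0))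 (.node (.leaf 15012) (.leaf 0)))) (.node (.node (.node (.leaf 12448) (.leaf 1755)) (.node (.leaf 8426) (.leaf 0))) (.node (.node (.leaf 6254) (.leaf 0)) (.node (.leaf 19502) (.leaf 0)))))) (.node (.node (.node (.node (.node (.leaf 18003) (.leaf 1797)) (.node (.leaf 5351) (.leaf 0))) (.node (.node (.leaf 11287) (.leaf 0)) (.node (.leaf 17325) (.leaf 0)))) (.node (.node (.node (.leaf 18766) (.leaf 13792)) (.node (.leaf 12738) (.leaf 0))) (.node (.node (.leaf 12527) (.leaf 0)) (.node (.leaf 276) (.leaf 0))))) (.node (.node (.node (.node (.leaf 11915) (.leaf 968)) (.node (.leaf 9576) (.leaf 0))) (.node (.node (.leaf 12465) (.leaf 0)) (.node (.leaf 10571) (.leaf 0)))) (.node (.node (.node (.leaf 1389) (.leaf 19873)) (.node (.leaf 9907) (.leaf 0))) (.node (.node (.leaf 11021) (.leaf 0)) (.node (.leaf 19251) (.leaf 0))))))) (.node (.node (.node (.node (.node (.node (.leaf 12533) (.leaf 2070)) (.node (.leaf 5329) (.leaf 0))) (.node (.node (.leaf 15164) (.leaf 0)) (.node (.leaf 19303) (.leaf 0)))) (.node (.node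 (.node (.leaf 17608) (.leaf 1482)) (.node (.leaf 3944) (.leaf 0))) (.node (.node (.leaf 17344) (.leaf 0)) (.node (.leaf 6256) (.leaf 0))))) (.node (.node (.node (.node (.leaf 8620) (.leaf 3874)) (.node (.leaf 11577) (.leaf 0))) (.node (.node (.leaf 5024) (.leaf 0)) (.node (.leaf 8190) (.leaf 0)))) (.node (.node (.node (.leaf 5704) (.leaf 2679)) (.node (.leaf 12733) (.leaf 0))) (.node (.node (.leaf 1937) (.leaf 0)) (.node (.leaf 2632) (.leaf 0)))))) (.node (.node (.node (.node (.node (.leaf 11436) (.leaf 2830)) (.node (.leaf 1053) (.leaf 0))) (.node (.node (.leaf 18569) (.leaf 0)) (.node (.leaf 17905) (.leaf 0)))) (.node (.node (.node (.leaf 151) (.leaf 20075)) (.node (.leaf 2764) (.leaf 0))) (.node (.node (.leaf 7105) (.leaf 0)) (.node (.leaf 12522) (.leaf 0))))) (.node (.node (.node (.node (.leaf 3795) (.leaf 2835)) (.node (.leaf 17447) (.leaf 0))) (.node (.node (.leaf 1565) (.leaf 0)) (.node (.leaf 4148) (.leaf 0)))) (.node (.node (.node (.leaf 9417) (.leaf 14735)) (.node (.leaf 2783) (.leaf 0))) (.node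 (.node (.leaf 8286) (.leaf 0)) (.node (.leaf 15686) (.leaf 0))))))))

def omT49 : NT := .node (.node (.node (.node (.node (.node (.node (.node (.leaf 4845) (.leaf 5396)) (.node (.leaf 17484) (.leaf 0))) (.node (.node (.leaf 11177) (.leaf 0)) (.node (.leaf 16452) (.leaf 0)))) (.node (.node (.node (.leaf 11217) (.leaf 9860)) (.node (.leaf 12290) (.leaf 0))) (.node (.node (.leaf 10378) (.leaf 0)) (.node (.leaf 12250) (.leaf 0))))) (.node (.node (.node (.node (.leaf 5876) (.leaf 16178)) (.node (.leaf 8639) (.leaf 0))) (.node (.node (.leaf 14890) (.leaf 0)) (.node (.leaf 5720) (.leaf 0)))) (.node (.node (.node (.leaf 6888) (.leaf 962)) (.node (.leaf 16160) (.leaf 0))) (.node (.node (.leaf 15082) (.leaf 0)) (.node (.leaf 746) (.leaf 0)))))) (.node (.node (.node (.node (.node (.leaf 799) (.leaf 10598)) (.node (.leaf 5400) (.leaf 0))) (.node (.node (.leaf 142) (.leaf 0)) (.node (.leaf 2867) (.leaf 0)))) (.node (.node (.node (.leaf 182) (.leaf 11981)) (.node (.leaf 9119) (.leaf 0))) (.node (.node (.leaf 9188) (.leaf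 0)) (.node (.leaf 12249) (.leaf 0))))) (.node (.node (.node (.node (.leaf 18092) (.leaf 820)) (.node (.leaf 1211) (.leaf 0))) (.node (.node (.leaf 6832) (.leaf 0)) (.node (.leaf 11428) (.leaf 0)))) (.node (.node (.node (.leaf 19050) (.leaf 7126)) (.node (.leaf 27) (.leaf 0))) (.node (.node (.leaf 3613) (.leaf 0)) (.node (.leaf 5530) (.leaf 0))))))) (.node (.node (.node (.node (.node (.node (.leaf 350) (.leaf 19183)) (.node (.leaf 5795) (.leaf 0))) (.node (.node (.leaf 17756) (.leaf 0)) (.node (.leaf 7047) (.leaf 0)))) (.node (.node (.node (.leaf 5560) (.leaf 18392)) (.node (.leaf 4639) (.leaf 0))) (.node (.node (.leaf 19197) (.leaf 0)) (.node (.leaf 10211) (.leaf 0))))) (.node (.node (.node (.node (.leaf 8727) (.leaf 541)) (.node (.leaf 17449) (.leaf 0))) (.node (.node (.leaf 11734) (.leaf 0)) (.node (.leaf 18217) (.leaf 0)))) (.node (.node (.node (.leaf 18933) (.leaf 18585)) (.node (.leaf 7674) (.leaf 0))) (.node (.node (.leaf 16378) (.leaf 0)) (.node (.leaf 13450) (.leaf 0)))))) (.node (.node (.node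 (.node (.node (.leaf 2746) (.leaf 6950)) (.node (.leaf 13193) (.leaf 0))) (.node (.node (.leaf 2972) (.leaf 0)) (.node (.leaf 10434) (.leaf 0)))) (.node (.node (.node (.leaf 14912) (.leaf 5906)) (.node (.leaf 2015) (.leaf 0))) (.node (.node (.leaf 11771) (.leaf 0)) (.node (.leaf 13321) (.leaf 0))))) (.node (.node (.node (.node (.leaf 4598) (.leaf 13874)) (.node (.leaf 6696) (.leaf 0))) (.node (.node (.leaf 1286) (.leaf 0)) (.node (.leaf 1457) (.leaf 0)))) (.node (.node (.node (.leaf 16410) (.leaf 2313)) (.node (.leaf 6397) (.leaf 0))) (.node (.node (.leaf 3866) (.leaf 0)) (.node (.leaf 12776) (.leaf 0)))))))) (.node (.node (.node (.node (.node (.node (.node (.leaf 12785) (.leaf 2671)) (.node (.leaf 1892) (.leaf 0))) (.node (.node (.leaf 13308) (.leaf 0)) (.node (.leaf 17408) (.leaf 0)))) (.node (.node (.node (.leaf 12369) (.leaf 11950)) (.node (.leaf 13736) (.leaf 0))) (.node (.node (.leaf 13848) (.leaf 0)) (.node (.leaf 7743) (.leaf 0))))) (.node (.node (.node (.node (.leaf 19471) (.leaf 17016)) (.node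 (.leaf 14321) (.leaf 0))) (.node (.node (.leaf 15416) (.leaf 0)) (.node (.leaf 4360) (.leaf 0)))) (.node (.node (.node (.leaf 4245) (.leaf 8006)) (.node (.leaf 4809) (.leaf 0))) (.node (.node (.leaf 18646) (.leaf 0)) (.node (.leaf 20146) (.leaf 0)))))) (.node (.node (.node (.node (.node (.leaf 15000) (.leaf 4009)) (.node (.leaf 12313) (.leaf 0))) (.node (.node (.leaf 14366) (.leaf 0)) (.node (.leaf 2127) (.leaf 0)))) (.node (.node (.node (.leaf 4563) (.leaf 14563)) (.node (.leaf 12198) (.leaf 0))) (.node (.node (.leaf 2263) (.leaf 0)) (.node (.leaf 16792) (.leaf 0))))) (.node (.node (.node (.node (.leaf 18810) (.leaf 5130)) (.node (.leaf 17098) (.leaf 0))) (.node (.node (.leaf 10498) (.leaf 0)) (.node (.leaf 15948) (.leaf 0)))) (.node (.node (.node (.leaf 17682) (.leaf 19057)) (.node (.leaf 11010) (.leaf 0))) (.node (.node (.leaf 20217) (.leaf 0)) (.node (.leaf 17480) (.leaf 0))))))) (.node (.node (.node (.node (.node (.node (.leaf 726) (.leaf 3197)) (.node (.leaf 15786) (.leaf 0))) (.node (.node (.leaf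 7127) (.leaf 0)) (.node (.leaf 2652) (.leaf 0)))) (.node (.node (.node (.leaf 10586) (.leaf 415)) (.node (.leaf 5614) (.leaf 0))) (.node (.node (.leaf 4583) (.leaf 0)) (.node (.leaf 3195) (.leaf 0))))) (.node (.node (.node (.node (.leaf 6271) (.leaf 10485)) (.node (.leaf 1674) (.leaf 0))) (.node (.node (.leaf 4898) (.leaf 0)) (.node (.leaf 11054) (.leaf 0)))) (.node (.node (.node (.leaf 226) (.leaf 5545)) (.node (.leaf 11980) (.leaf 0))) (.node (.node (.leaf 19401) (.leaf 0)) (.node (.leaf 16233) (.leaf 0)))))) (.node (.node (.node (.node (.node (.leaf 3945) (.leaf 648)) (.node (.leaf 13581) (.leaf 0))) (.node (.node (.leaf 3248) (.leaf 0)) (.node (.leaf 10390) (.leaf 0)))) (.node (.node (.node (.leaf 13664) (.leaf 3174)) (.node (.leaf 10405) (.leaf 0))) (.node (.node (.leaf 17192) (.leaf 0)) (.node (.leaf 11731) (.leaf 0))))) (.node (.node (.node (.node (.leaf 16032) (.leaf 8875)) (.node (.leaf 20255) (.leaf 0))) (.node (.node (.leaf 5705) (.leaf 0)) (.node (.leaf 7726) (.leaf 0)))) (.node (.node (.node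 (.leaf 16304) (.leaf 6814)) (.node (.leaf 562) (.leaf 0))) (.node (.node (.leaf 10258) (.leaf 0)) (.node (.leaf 1966) (.leaf 0))))))))

def omT50 : NT := .node (.node (.node (.node (.node (.node (.node (.node (.leaf 4067) (.leaf 6729)) (.node (.leaf 7308) (.leaf 0))) (.node (.node (.leaf 2178) (.leaf 0)) (.node (.leaf 16551) (.leaf 0)))) (.node (.node (.node (.leaf 20448) (.leaf 19698)) (.node (.leaf 6594) (.leaf 0))) (.node (.node (.leaf 13109) (.leaf 0)) (.node (.leaf 5279) (.leaf 0))))) (.node (.node (.node (.node (.leaf 4608) (.leaf 10645)) (.node (.leaf 10957) (.leaf 0))) (.node (.node (.leaf 13928) (.leaf 0)) (.node (.leaf 4572) (.leaf 0)))) (.node (.node (.node (.leaf 18789) (.leaf 243)) (.node (.leaf 7629) (.leaf 0))) (.node (.node (.leaf 5584) (.leaf 0)) (.node (.leaf 8491) (.leaf 0)))))) (.node (.node (.node (.node (.node (.leaf 11102) (.leaf 13915)) (.node (.leaf 11961) (.leaf 0))) (.node (.node (.leaf 16409) (.leaf 0)) (.node (.leaf 3183) (.leaf 0)))) (.node (.node (.node (.leaf 13326) (.leaf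 3915)) (.node (.leaf 12431) (.leaf 0))) (.node (.node (.leaf 16017) (.leaf 0)) (.node (.leaf 14820) (.leaf 0))))) (.node (.node (.node (.node (.leaf 15937) (.leaf 7533)) (.node (.leaf 1973) (.leaf 0))) (.node (.node (.leaf 3105) (.leaf 0)) (.node (.leaf 9221) (.leaf 0)))) (.node (.node (.node (.leaf 1) (.leaf 10067)) (.node (.leaf 6625) (.leaf 0))) (.node (.node (.leaf 19074) (.leaf 0)) (.node (.leaf 11533) (.leaf 0))))))) (.node (.node (.node (.node (.node (.node (.leaf 19609) (.leaf 14274)) (.node (.leaf 399) (.leaf 0))) (.node (.node (.leaf 14431) (.leaf 0)) (.node (.leaf 8370) (.leaf 0)))) (.node (.node (.node (.leaf 12078) (.leaf 9917)) (.node (.leaf 13487) (.leaf 0))) (.node (.node (.leaf 10548) (.leaf 0)) (.node (.leaf 15840) (.leaf 0))))) (.node (.node (.node (.node (.leaf 12555) (.leaf 2522)) (.node (.leaf 16456) (.leaf 0))) (.node (.node (.leaf 592) (.leaf 0)) (.node (.leaf 12934) (.leaf 0)))) (.node (.node (.node (.leaf 4690) (.leaf 15206)) (.node (.leaf 12835) (.leaf 0))) (.node (.node (.leaf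 7265) (.leaf 0)) (.node (.leaf 6563) (.leaf 0)))))) (.node (.node (.node (.node (.node (.leaf 7068) (.leaf 10813)) (.node (.leaf 852) (.leaf 0))) (.node (.node (.leaf 633) (.leaf 0)) (.node (.leaf 12063) (.leaf 0)))) (.node (.node (.node (.leaf 4508) (.leaf 14452)) (.node (.leaf 15454) (.leaf 0))) (.node (.node (.leaf 9201) (.leaf 0)) (.node (.leaf 14630) (.leaf 0))))) (.node (.node (.node (.node (.leaf 5509) (.leaf 14606)) (.node (.leaf 12919) (.leaf 0))) (.node (.node (.leaf 14835) (.leaf 0)) (.node (.leaf 20318) (.leaf 0)))) (.node (.node (.node (.leaf 14518) (.leaf 1897)) (.node (.leaf 13930) (.leaf 0))) (.node (.node (.leaf 6327) (.leaf 0)) (.node (.leaf 1593) (.leaf 0)))))))) (.node (.node (.node (.node (.node (.node (.node (.leaf 3412) (.leaf 2453)) (.node (.leaf 20102) (.leaf 0))) (.node (.node (.leaf 8030) (.leaf 0)) (.node (.leaf 15386) (.leaf 0)))) (.node (.node (.node (.leaf 1574) (.leaf 10711)) (.node (.leaf 1271) (.leaf 0))) (.node (.node (.leaf 3298) (.leaf 0)) (.node (.leaf 10577) (.leaf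 0))))) (.node (.node (.node (.node (.leaf 10066) (.leaf 725)) (.node (.leaf 17801) (.leaf 0))) (.node (.node (.leaf 18260) (.leaf 0)) (.node (.leaf 11970) (.leaf 0)))) (.node (.node (.node (.leaf 11688) (.leaf 4076)) (.node (.leaf 19170) (.leaf 0))) (.node (.node (.leaf 7404) (.leaf 0)) (.node (.leaf 6846) (.leaf 0)))))) (.node (.node (.node (.node (.node (.leaf 1349) (.leaf 5487)) (.node (.leaf 18043) (.leaf 0))) (.node (.node (.leaf 7673) (.leaf 0)) (.node (.leaf 19793) (.leaf 0)))) (.node (.node (.node (.leaf 19014) (.leaf 8406)) (.node (.leaf 6573) (.leaf 0))) (.node (.node (.leaf 17502) (.leaf 0)) (.node (.leaf 17828) (.leaf 0))))) (.node (.node (.node (.node (.leaf 1094) (.leaf 9673)) (.node (.leaf 13908) (.leaf 0))) (.node (.node (.leaf 397) (.leaf 0)) (.node (.leaf 3404) (.leaf 0)))) (.node (.node (.node (.leaf 12298) (.leaf 9599)) (.node (.leaf 2402) (.leaf 0))) (.node (.node (.leaf 2801) (.leaf 0)) (.node (.leaf 16087) (.leaf 0))))))) (.node (.node (.node (.node (.node (.node (.leaf 12878) (.leaf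 18355)) (.node (.leaf 18116) (.leaf 0))) (.node (.node (.leaf 12903) (.leaf 0)) (.node (.leaf 439) (.leaf 0)))) (.node (.node (.node (.leaf 14545) (.leaf 16429)) (.node (.leaf 351) (.leaf 0))) (.node (.node (.leaf 10667) (.leaf 0)) (.node (.leaf 5441) (.leaf 0))))) (.node (.node (.node (.node (.leaf 9121) (.leaf 8447)) (.node (.leaf 5933) (.leaf 0))) (.node (.node (.leaf 4369) (.leaf 0)) (.node (.leaf 10869) (.leaf 0)))) (.node (.node (.node (.leaf 4498) (.leaf 3368)) (.node (.leaf 10348) (.leaf 0))) (.node (.node (.leaf 9698) (.leaf 0)) (.node (.leaf 627) (.leaf 0)))))) (.node (.node (.node (.node (.node (.leaf 5077) (.leaf 1431)) (.node (.leaf 2918) (.leaf 0))) (.node (.node (.leaf 15921) (.leaf 0)) (.node (.leaf 6788) (.leaf 0)))) (.node (.node (.node (.leaf 12225) (.leaf 16185)) (.node (.leaf 16250) (.leaf 0))) (.node (.node (.leaf 3398) (.leaf 0)) (.node (.leaf 10103) (.leaf 0))))) (.node (.node (.node (.node (.leaf 489) (.leaf 17952)) (.node (.leaf 11189) (.leaf 0))) (.node (.node (.leaf 88) (.leaf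 0)) (.node (.leaf 12359) (.leaf 0)))) (.node (.node (.node (.leaf 18497) (.leaf 3419)) (.node (.leaf 19975) (.leaf 0))) (.node (.node (.leaf 9587) (.leaf 0)) (.node (.leaf 17173) (.leaf 0))))))))

def omT51 : NT := .node (.node (.node (.node (.node (.node (.node (.node (.leaf 10906) (.leaf 6353)) (.node (.leaf 13322) (.leaf 0))) (.node (.node (.leaf 7595) (.leaf 0)) (.node (.leaf 18638) (.leaf 0)))) (.node (.node (.node (.leaf 8629) (.leaf 15237)) (.node (.leaf 10980) (.leaf 0))) (.node (.node (.leaf 14074) (.leaf 0)) (.node (.leaf 18841) (.leaf 0))))) (.node (.node (.node (.node (.leaf 11044) (.leaf 19267)) (.node (.leaf 15113) (.leaf 0))) (.node (.node (.leaf 18959) (.leaf 0)) (.node (.leaf 5912) (.leaf 0)))) (.node (.node (.node (.leaf 15521) (.leaf 19078)) (.node (.leaf 19437) (.leaf 0))) (.node (.node (.leaf 12772) (.leaf 0)) (.node (.leaf 3933) (.leaf 0)))))) (.node (.node (.node (.node (.node (.leaf 8921) (.leaf 3014)) (.node (.leaf 1170) (.leaf 0))) (.node (.node (.leaf 369) (.leaf 0)) (.node (.leaf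 9140) (.leaf 0)))) (.node (.node (.node (.leaf 5164) (.leaf 16070)) (.node (.leaf 7555) (.leaf 0))) (.node (.node (.leaf 19328) (.leaf 0)) (.node (.leaf 5459) (.leaf 0))))) (.node (.node (.node (.node (.leaf 17361) (.leaf 14626)) (.node (.leaf 16273) (.leaf 0))) (.node (.node (.leaf 4124) (.leaf 0)) (.node (.leaf 11701) (.leaf 0)))) (.node (.node (.node (.leaf 18903) (.leaf 20066)) (.node (.leaf 12164) (.leaf 0))) (.node (.node (.leaf 7324) (.leaf 0)) (.node (.leaf 6646) (.leaf 0))))))) (.node (.node (.node (.node (.node (.node (.leaf 2062) (.leaf 16263)) (.node (.leaf 10314) (.leaf 0))) (.node (.node (.leaf 18743) (.leaf 0)) (.node (.leaf 17241) (.leaf 0)))) (.node (.node (.node (.leaf 18025) (.leaf 6036)) (.node (.leaf 7727) (.leaf 0))) (.node (.node (.leaf 12644) (.leaf 0)) (.node (.leaf 7006) (.leaf 0))))) (.node (.node (.node (.node (.leaf 10264) (.leaf 7406)) (.node (.leaf 7821) (.leaf 0))) (.node (.node (.leaf 7890) (.leaf 0)) (.node (.leaf 2920) (.leaf 0)))) (.node (.node (.node (.leaf 7904) (.leaf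 2071)) (.node (.leaf 8109) (.leaf 0))) (.node (.node (.leaf 18370) (.leaf 0)) (.node (.leaf 3282) (.leaf 0)))))) (.node (.node (.node (.node (.node (.leaf 14619) (.leaf 14594)) (.node (.leaf 1631) (.leaf 0))) (.node (.node (.leaf 3411) (.leaf 0)) (.node (.leaf 16068) (.leaf 0)))) (.node (.node (.node (.leaf 17614) (.leaf 2477)) (.node (.leaf 1468) (.leaf 0))) (.node (.node (.leaf 8633) (.leaf 0)) (.node (.leaf 18625) (.leaf 0))))) (.node (.node (.node (.node (.leaf 5385) (.leaf 17526)) (.node (.leaf 1379) (.leaf 0))) (.node (.node (.leaf 13784) (.leaf 0)) (.node (.leaf 16146) (.leaf 0)))) (.node (.node (.node (.leaf 6060) (.leaf 4638)) (.node (.leaf 18806) (.leaf 0))) (.node (.node (.leaf 8816) (.leaf 0)) (.node (.leaf 6412) (.leaf 0)))))))) (.node (.node (.node (.node (.node (.node (.node (.leaf 18485) (.leaf 5868)) (.node (.leaf 3907) (.leaf 0))) (.node (.node (.leaf 148) (.leaf 0)) (.node (.leaf 19225) (.leaf 0)))) (.node (.node (.node (.leaf 6970) (.leaf 8789)) (.node (.leaf 13472) (.leaf 0))) (.node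 (.node (.leaf 5047) (.leaf 0)) (.node (.leaf 14797) (.leaf 0))))) (.node (.node (.node (.node (.leaf 64) (.leaf 20249)) (.node (.leaf 14733) (.leaf 0))) (.node (.node (.leaf 16767) (.leaf 0)) (.node (.leaf 16161) (.leaf 0)))) (.node (.node (.node (.leaf 13627) (.leaf 20195)) (.node (.leaf 11075) (.leaf 0))) (.node (.node (.leaf 8122) (.leaf 0)) (.node (.leaf 7982) (.leaf 0)))))) (.node (.node (.node (.node (.node (.leaf 14723) (.leaf 9756)) (.node (.leaf 11030) (.leaf 0))) (.node (.node (.leaf 3983) (.leaf 0)) (.node (.leaf 17933) (.leaf 0)))) (.node (.node (.node (.leaf 15660) (.leaf 8297)) (.node (.leaf 12449) (.leaf 0))) (.node (.node (.leaf 19667) (.leaf 0)) (.node (.leaf 16259) (.leaf 0))))) (.node (.node (.node (.node (.leaf 12170) (.leaf 15251)) (.node (.leaf 17656) (.leaf 0))) (.node (.node (.leaf 8443) (.leaf 0)) (.node (.leaf 17986) (.leaf 0)))) (.node (.node (.node (.leaf 4929) (.leaf 5081)) (.node (.leaf 771) (.leaf 0))) (.node (.node (.leaf 3856) (.leaf 0)) (.node (.leaf 3696) (.leaf 0)))))))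 (.node (.node (.node (.node (.node (.node (.leaf 18139) (.leaf 1083)) (.node (.leaf 13670) (.leaf 0))) (.node (.node (.leaf 15901) (.leaf 0)) (.node (.leaf 16399) (.leaf 0)))) (.node (.node (.node (.leaf 2255) (.leaf 18052)) (.node (.leaf 9894) (.leaf 0))) (.node (.node (.leaf 12695) (.leaf 0)) (.node (.leaf 18526) (.leaf 0))))) (.node (.node (.node (.node (.leaf 16283) (.leaf 4863)) (.node (.leaf 13738) (.leaf 0))) (.node (.node (.leaf 3371) (.leaf 0)) (.node (.leaf 9811) (.leaf 0)))) (.node (.node (.node (.leaf 4991) (.leaf 10030)) (.node (.leaf 16060) (.leaf 0))) (.node (.node (.leaf 7274) (.leaf 0)) (.node (.leaf 617) (.leaf 0)))))) (.node (.node (.node (.node (.node (.leaf 1560) (.leaf 18653)) (.node (.leaf 20382) (.leaf 0))) (.node (.node (.leaf 5763) (.leaf 0)) (.node (.leaf 2928) (.leaf 0)))) (.node (.node (.node (.leaf 3179) (.leaf 2032)) (.node (.leaf 6574) (.leaf 0))) (.node (.node (.leaf 4018) (.leaf 0)) (.node (.leaf 11938) (.leaf 0))))) (.node (.node (.node (.node (.leaf 16832) (.leaf 16134))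 (.node (.leaf 3668) (.leaf 0))) (.node (.node (.leaf 2341) (.leaf 0)) (.node (.leaf 18665) (.leaf 0)))) (.node (.node (.node (.leaf 12551) (.leaf 8746)) (.node (.leaf 10240) (.leaf 0))) (.node (.node (.leaf 15667) (.leaf 0)) (.node (.leaf 10992) (.leaf 0))))))))

def omT52 : NT := .node (.node (.node (.node (.node (.node (.node (.node (.leaf 11680) (.leaf 3326)) (.node (.leaf 2153) (.leaf 0))) (.node (.node (.leaf 12442) (.leaf 0)) (.node (.leaf 3865) (.leaf 0)))) (.node (.node (.node (.leaf 10887) (.leaf 1577)) (.node (.leaf 12195) (.leaf 0))) (.node (.node (.leaf 19215) (.leaf 0)) (.node (.leaf 7387) (.leaf 0))))) (.node (.node (.node (.node (.leaf 4036) (.leaf 18210)) (.node (.leaf 11551) (.leaf 0))) (.node (.node (.leaf 3870) (.leaf 0)) (.node (.leaf 5055) (.leaf 0)))) (.node (.node (.node (.leaf 16290) (.leaf 4980)) (.node (.leaf 14721) (.leaf 0))) (.node (.node (.leaf 12271) (.leaf 0)) (.node (.leaf 14181) (.leaf 0)))))) (.node (.node (.node (.node (.node (.leaf 16812) (.leaf 18266)) (.node (.leaf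 9088) (.leaf 0))) (.node (.node (.leaf 332) (.leaf 0)) (.node (.leaf 10317) (.leaf 0)))) (.node (.node (.node (.leaf 19741) (.leaf 18147)) (.node (.leaf 18619) (.leaf 0))) (.node (.node (.leaf 18870) (.leaf 0)) (.node (.leaf 19409) (.leaf 0))))) (.node (.node (.node (.node (.leaf 2951) (.leaf 19991)) (.node (.leaf 15497) (.leaf 0))) (.node (.node (.leaf 19759) (.leaf 0)) (.node (.leaf 5231) (.leaf 0)))) (.node (.node (.node (.leaf 13997) (.leaf 11354)) (.node (.leaf 19003) (.leaf 0))) (.node (.node (.leaf 18448) (.leaf 0)) (.node (.leaf 18056) (.leaf 0))))))) (.node (.node (.node (.node (.node (.node (.leaf 17563) (.leaf 3142)) (.node (.leaf 20119) (.leaf 0))) (.node (.node (.leaf 11131) (.leaf 0)) (.node (.leaf 12462) (.leaf 0)))) (.node (.node (.node (.leaf 18720) (.leaf 2711)) (.node (.leaf 4100) (.leaf 0))) (.node (.node (.leaf 7991) (.leaf 0)) (.node (.leaf 19798) (.leaf 0))))) (.node (.node (.node (.node (.leaf 10127) (.leaf 14833)) (.node (.leaf 16175) (.leaf 0))) (.node (.node (.leaf 18041) (.leaf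 0)) (.node (.leaf 12960) (.leaf 0)))) (.node (.node (.node (.leaf 9058) (.leaf 3029)) (.node (.leaf 12489) (.leaf 0))) (.node (.node (.leaf 11048) (.leaf 0)) (.node (.leaf 19321) (.leaf 0)))))) (.node (.node (.node (.node (.node (.leaf 7945) (.leaf 3747)) (.node (.leaf 17135) (.leaf 0))) (.node (.node (.leaf 3872) (.leaf 0)) (.node (.leaf 376) (.leaf 0)))) (.node (.node (.node (.leaf 14955) (.leaf 2968)) (.node (.leaf 189) (.leaf 0))) (.node (.node (.leaf 5923) (.leaf 0)) (.node (.leaf 17068) (.leaf 0))))) (.node (.node (.node (.node (.leaf 11977) (.leaf 14670)) (.node (.leaf 17318) (.leaf 0))) (.node (.node (.leaf 8652) (.leaf 0)) (.node (.leaf 12015) (.leaf 0)))) (.node (.node (.node (.leaf 16535) (.leaf 13655)) (.node (.leaf 16098) (.leaf 0))) (.node (.node (.leaf 7817) (.leaf 0)) (.node (.leaf 13614) (.leaf 0)))))))) (.node (.node (.node (.node (.node (.node (.node (.leaf 15262) (.leaf 19984)) (.node (.leaf 11595) (.leaf 0))) (.node (.node (.leaf 2674) (.leaf 0)) (.node (.leaf 1900) (.leaf 0)))) (.node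 (.node (.node (.leaf 13079) (.leaf 15296)) (.node (.leaf 5286) (.leaf 0))) (.node (.node (.leaf 3100) (.leaf 0)) (.node (.leaf 11658) (.leaf 0))))) (.node (.node (.node (.node (.leaf 5192) (.leaf 482)) (.node (.leaf 3836) (.leaf 0))) (.node (.node (.leaf 14086) (.leaf 0)) (.node (.leaf 9045) (.leaf 0)))) (.node (.node (.node (.leaf 18505) (.leaf 17604)) (.node (.leaf 6493) (.leaf 0))) (.node (.node (.leaf 17891) (.leaf 0)) (.node (.leaf 7070) (.leaf 0)))))) (.node (.node (.node (.node (.node (.leaf 14288) (.leaf 5526)) (.node (.leaf 1921) (.leaf 0))) (.node (.node (.leaf 14787) (.leaf 0)) (.node (.leaf 4859) (.leaf 0)))) (.node (.node (.node (.leaf 14667) (.leaf 4450)) (.node (.leaf 5670) (.leaf 0))) (.node (.node (.leaf 6200) (.leaf 0)) (.node (.leaf 19503) (.leaf 0))))) (.node (.node (.node (.node (.leaf 17527) (.leaf 19211)) (.node (.leaf 11417) (.leaf 0))) (.node (.node (.leaf 15501) (.leaf 0)) (.node (.leaf 2531) (.leaf 0)))) (.node (.node (.node (.leaf 5289) (.leaf 12248)) (.node (.leaf 16306) (.leaf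 0))) (.node (.node (.leaf 1602) (.leaf 0)) (.node (.leaf 16961) (.leaf 0))))))) (.node (.node (.node (.node (.node (.node (.leaf 11280) (.leaf 18328)) (.node (.leaf 2561) (.leaf 0))) (.node (.node (.leaf 7254) (.leaf 0)) (.node (.leaf 13619) (.leaf 0)))) (.node (.node (.node (.leaf 14365) (.leaf 17056)) (.node (.leaf 18614) (.leaf 0))) (.node (.node (.leaf 7480) (.leaf 0)) (.node (.leaf 15427) (.leaf 0))))) (.node (.node (.node (.node (.leaf 19735) (.leaf 12341)) (.node (.leaf 10374) (.leaf 0))) (.node (.node (.leaf 18772) (.leaf 0)) (.node (.leaf 3254) (.leaf 0)))) (.node (.node (.node (.leaf 8798) (.leaf 6865)) (.node (.leaf 8242) (.leaf 0))) (.node (.node (.leaf 18713) (.leaf 0)) (.node (.leaf 14684) (.leaf 0)))))) (.node (.node (.node (.node (.node (.leaf 1242) (.leaf 8536)) (.node (.leaf 19819) (.leaf 0))) (.node (.node (.leaf 13706) (.leaf 0)) (.node (.leaf 11386) (.leaf 0)))) (.node (.node (.node (.leaf 425) (.leaf 16569)) (.node (.leaf 9159) (.leaf 0))) (.node (.node (.leaf 10169) (.leaf 0)) (.node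 (.leaf 2143) (.leaf 0))))) (.node (.node (.node (.node (.leaf 8154) (.leaf 10256)) (.node (.leaf 18500) (.leaf 0))) (.node (.node (.leaf 5924) (.leaf 0)) (.node (.leaf 1943) (.leaf 0)))) (.node (.node (.node (.leaf 6835) (.leaf 147)) (.node (.leaf 11609) (.leaf 0))) (.node (.node (.leaf 18302) (.leaf 0)) (.node (.leaf 4787) (.leaf 0))))))))

def omT53 : NT := .node (.node (.node (.node (.node (.node (.node (.node (.leaf 19596) (.leaf 1353)) (.node (.leaf 5853) (.leaf 0))) (.node (.node (.leaf 7049) (.leaf 0)) (.node (.leaf 2110) (.leaf 0)))) (.node (.node (.node (.leaf 10832) (.leaf 15187)) (.node (.leaf 19799) (.leaf 0))) (.node (.node (.leaf 8163) (.leaf 0)) (.node (.leaf 10021) (.leaf 0))))) (.node (.node (.node (.node (.leaf 6896) (.leaf 1050)) (.node (.leaf 4551) (.leaf 0))) (.node (.node (.leaf 16890) (.leaf 0)) (.node (.leaf 600) (.leaf 0)))) (.node (.node (.node (.leaf 3826) (.leaf 4824)) (.node (.leaf 6580) (.leaf 0))) (.node (.node (.leaf 6047) (.leaf 0)) (.node (.leaf 17308) (.leaf 0)))))) (.node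 (.node (.node (.node (.node (.leaf 9963) (.leaf 15607)) (.node (.leaf 3251) (.leaf 0))) (.node (.node (.leaf 8067) (.leaf 0)) (.node (.leaf 19228) (.leaf 0)))) (.node (.node (.node (.leaf 18447) (.leaf 12238)) (.node (.leaf 196) (.leaf 0))) (.node (.node (.leaf 12363) (.leaf 0)) (.node (.leaf 396) (.leaf 0))))) (.node (.node (.node (.node (.leaf 2336) (.leaf 7321)) (.node (.leaf 418) (.leaf 0))) (.node (.node (.leaf 12829) (.leaf 0)) (.node (.leaf 14232) (.leaf 0)))) (.node (.node (.node (.leaf 678) (.leaf 19675)) (.node (.leaf 12009) (.leaf 0))) (.node (.node (.leaf 16228) (.leaf 0)) (.node (.leaf 7620) (.leaf 0))))))) (.node (.node (.node (.node (.node (.node (.leaf 9830) (.leaf 8314)) (.node (.leaf 7875) (.leaf 0))) (.node (.node (.leaf 18162) (.leaf 0)) (.node (.leaf 10441) (.leaf 0)))) (.node (.node (.node (.leaf 10977) (.leaf 13188)) (.node (.leaf 50) (.leaf 0))) (.node (.node (.leaf 2737) (.leaf 0)) (.node (.leaf 3288) (.leaf 0))))) (.node (.node (.node (.node (.leaf 3580) (.leaf 11315)) (.node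 (.leaf 13828) (.leaf 0))) (.node (.node (.leaf 337) (.leaf 0)) (.node (.leaf 8270) (.leaf 0)))) (.node (.node (.node (.leaf 10939) (.leaf 5280)) (.node (.leaf 5182) (.leaf 0))) (.node (.node (.leaf 7964) (.leaf 0)) (.node (.leaf 10644) (.leaf 0)))))) (.node (.node (.node (.node (.node (.leaf 15426) (.leaf 20186)) (.node (.leaf 17872) (.leaf 0))) (.node (.node (.leaf 11001) (.leaf 0)) (.node (.leaf 608) (.leaf 0)))) (.node (.node (.node (.leaf 1871) (.leaf 8139)) (.node (.leaf 18834) (.leaf 0))) (.node (.node (.leaf 11254) (.leaf 0)) (.node (.leaf 5789) (.leaf 0))))) (.node (.node (.node (.node (.leaf 14554) (.leaf 6590)) (.node (.leaf 20160) (.leaf 0))) (.node (.node (.leaf 1397) (.leaf 0)) (.node (.leaf 931) (.leaf 0)))) (.node (.node (.node (.leaf 8899) (.leaf 8968)) (.node (.leaf 3035) (.leaf 0))) (.node (.node (.leaf 14617) (.leaf 0)) (.node (.leaf 10081) (.leaf 0)))))))) (.node (.node (.node (.node (.node (.node (.node (.leaf 390) (.leaf 14846)) (.node (.leaf 14257) (.leaf 0))) (.node (.node (.leaf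 7684) (.leaf 0)) (.node (.leaf 3026) (.leaf 0)))) (.node (.node (.node (.leaf 14306) (.leaf 20500)) (.node (.leaf 1878) (.leaf 0))) (.node (.node (.leaf 11810) (.leaf 0)) (.node (.leaf 6187) (.leaf 0))))) (.node (.node (.node (.node (.leaf 15997) (.leaf 16549)) (.node (.leaf 15313) (.leaf 0))) (.node (.node (.leaf 9687) (.leaf 0)) (.node (.leaf 6840) (.leaf 0)))) (.node (.node (.node (.leaf 3332) (.leaf 426)) (.node (.leaf 9333) (.leaf 0))) (.node (.node (.leaf 16965) (.leaf 0)) (.node (.leaf 2169) (.leaf 0)))))) (.node (.node (.node (.node (.node (.leaf 12062) (.leaf 8129)) (.node (.leaf 13963) (.leaf 0))) (.node (.node (.leaf 19119) (.leaf 0)) (.node (.leaf 17290) (.leaf 0)))) (.node (.node (.node (.leaf 18994) (.leaf 11575)) (.node (.leaf 17994) (.leaf 0))) (.node (.node (.leaf 3754) (.leaf 0)) (.node (.leaf 11700) (.leaf 0))))) (.node (.node (.node (.node (.leaf 20230) (.leaf 20242)) (.node (.leaf 19403) (.leaf 0))) (.node (.node (.leaf 15357) (.leaf 0)) (.node (.leaf 4363) (.leaf 0)))) (.node (.node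 (.node (.leaf 2348) (.leaf 8056)) (.node (.leaf 10535) (.leaf 0))) (.node (.node (.leaf 15647) (.leaf 0)) (.node (.leaf 11978) (.leaf 0))))))) (.node (.node (.node (.node (.node (.node (.leaf 9884) (.leaf 5007)) (.node (.leaf 19590) (.leaf 0))) (.node (.node (.leaf 11986) (.leaf 0)) (.node (.leaf 16430) (.leaf 0)))) (.node (.node (.node (.leaf 16611) (.leaf 12181)) (.node (.leaf 14430) (.leaf 0))) (.node (.node (.leaf 19277) (.leaf 0)) (.node (.leaf 13349) (.leaf 0))))) (.node (.node (.node (.node (.leaf 8603) (.leaf 1171)) (.node (.leaf 3024) (.leaf 0))) (.node (.node (.leaf 18850) (.leaf 0)) (.node (.leaf 9016) (.leaf 0)))) (.node (.node (.node (.leaf 3886) (.leaf 5537)) (.node (.leaf 1530) (.leaf 0))) (.node (.node (.leaf 3427) (.leaf 0)) (.node (.leaf 3247) (.leaf 0)))))) (.node (.node (.node (.node (.node (.leaf 13578) (.leaf 18935)) (.node (.leaf 9489) (.leaf 0))) (.node (.node (.leaf 12637) (.leaf 0)) (.node (.leaf 5102) (.leaf 0)))) (.node (.node (.node (.leaf 14399) (.leaf 16300)) (.node (.leaf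 8390) (.leaf 0))) (.node (.node (.leaf 7410) (.leaf 0)) (.node (.leaf 5780) (.leaf 0))))) (.node (.node (.node (.node (.leaf 3015) (.leaf 7798)) (.node (.leaf 17359) (.leaf 0))) (.node (.node (.leaf 587) (.leaf 0)) (.node (.leaf 12279) (.leaf 0)))) (.node (.node (.node (.leaf 9342) (.leaf 4451)) (.node (.leaf 10569) (.leaf 0))) (.node (.node (.leaf 4771) (.leaf 0)) (.node (.leaf 17683) (.leaf 0))))))))

def omT54 : NT := .node (.node (.node (.node (.node (.node (.node (.node (.leaf 9604) (.leaf 3242)) (.node (.leaf 7819) (.leaf 0))) (.node (.node (.leaf 3058) (.leaf 0)) (.node (.leaf 17164) (.leaf 0)))) (.node (.node (.node (.leaf 11432) (.leaf 4502)) (.node (.leaf 19810) (.leaf 0))) (.node (.node (.leaf 637) (.leaf 0)) (.node (.leaf 4481) (.leaf 0))))) (.node (.node (.node (.node (.leaf 13001) (.leaf 5760)) (.node (.leaf 631) (.leaf 0))) (.node (.node (.leaf 8147) (.leaf 0)) (.node (.leaf 2288) (.leaf 0)))) (.node (.node (.node (.leaf 2795) (.leaf 1278)) (.node (.leaf 1760) (.leaf 0))) (.node (.node (.leaf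 8877) (.leaf 0)) (.node (.leaf 14459) (.leaf 0)))))) (.node (.node (.node (.node (.node (.leaf 2238) (.leaf 20098)) (.node (.leaf 17584) (.leaf 0))) (.node (.node (.leaf 8057) (.leaf 0)) (.node (.leaf 15818) (.leaf 0)))) (.node (.node (.node (.leaf 5489) (.leaf 9257)) (.node (.leaf 7486) (.leaf 0))) (.node (.node (.leaf 18438) (.leaf 0)) (.node (.leaf 13075) (.leaf 0))))) (.node (.node (.node (.node (.leaf 10943) (.leaf 651)) (.node (.leaf 16450) (.leaf 0))) (.node (.node (.leaf 2340) (.leaf 0)) (.node (.leaf 7045) (.leaf 0)))) (.node (.node (.node (.leaf 3496) (.leaf 8758)) (.node (.leaf 5576) (.leaf 0))) (.node (.node (.leaf 15946) (.leaf 0)) (.node (.leaf 4488) (.leaf 0))))))) (.node (.node (.node (.node (.node (.node (.leaf 16642) (.leaf 11719)) (.node (.leaf 9889) (.leaf 0))) (.node (.node (.leaf 3067) (.leaf 0)) (.node (.leaf 8375) (.leaf 0)))) (.node (.node (.node (.leaf 8893) (.leaf 17843)) (.node (.leaf 18979) (.leaf 0))) (.node (.node (.leaf 6978) (.leaf 0)) (.node (.leaf 20212) (.leaf 0)))))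 (.node (.node (.node (.node (.leaf 3255) (.leaf 9831)) (.node (.leaf 7390) (.leaf 0))) (.node (.node (.leaf 15917) (.leaf 0)) (.node (.leaf 4755) (.leaf 0)))) (.node (.node (.node (.leaf 2607) (.leaf 15205)) (.node (.leaf 5680) (.leaf 0))) (.node (.node (.leaf 2710) (.leaf 0)) (.node (.leaf 15614) (.leaf 0)))))) (.node (.node (.node (.node (.node (.leaf 1216) (.leaf 14553)) (.node (.leaf 16083) (.leaf 0))) (.node (.node (.leaf 384) (.leaf 0)) (.node (.leaf 18879) (.leaf 0)))) (.node (.node (.node (.leaf 6934) (.leaf 6077)) (.node (.leaf 5108) (.leaf 0))) (.node (.node (.leaf 11411) (.leaf 0)) (.node (.leaf 19617) (.leaf 0))))) (.node (.node (.node (.node (.leaf 1650) (.leaf 10422)) (.node (.leaf 14091) (.leaf 0))) (.node (.node (.leaf 20385) (.leaf 0)) (.node (.leaf 17937) (.leaf 0)))) (.node (.node (.node (.leaf 2221) (.leaf 13790)) (.node (.leaf 3313) (.leaf 0))) (.node (.node (.leaf 9323) (.leaf 0)) (.node (.leaf 11706) (.leaf 0)))))))) (.node (.node (.node (.node (.node (.node (.node (.leaf 17083)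 (.leaf 18670)) (.node (.leaf 8321) (.leaf 0))) (.node (.node (.leaf 12280) (.leaf 0)) (.node (.leaf 14711) (.leaf 0)))) (.node (.node (.node (.leaf 14224) (.leaf 6219)) (.node (.leaf 1505) (.leaf 0))) (.node (.node (.leaf 15257) (.leaf 0)) (.node (.leaf 16835) (.leaf 0))))) (.node (.node (.node (.node (.leaf 2142) (.leaf 18854)) (.node (.leaf 4981) (.leaf 0))) (.node (.node (.leaf 6279) (.leaf 0)) (.node (.leaf 7883) (.leaf 0)))) (.node (.node (.node (.leaf 9882) (.leaf 17165)) (.node (.leaf 8685) (.leaf 0))) (.node (.node (.leaf 15147) (.leaf 0)) (.node (.leaf 11185) (.leaf 0)))))) (.node (.node (.node (.node (.node (.leaf 20398) (.leaf 2955)) (.node (.leaf 1001) (.leaf 0))) (.node (.node (.leaf 17744) (.leaf 0)) (.node (.leaf 7688) (.leaf 0)))) (.node (.node (.node (.leaf 15127) (.leaf 10744)) (.node (.leaf 7973) (.leaf 0))) (.node (.node (.leaf 18157) (.leaf 0)) (.node (.leaf 15805) (.leaf 0))))) (.node (.node (.node (.node (.leaf 5845) (.leaf 18474)) (.node (.leaf 4813) (.leaf 0))) (.node (.node (.leaf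 7167) (.leaf 0)) (.node (.leaf 2208) (.leaf 0)))) (.node (.node (.node (.leaf 17412) (.leaf 9665)) (.node (.leaf 13460) (.leaf 0))) (.node (.node (.leaf 6925) (.leaf 0)) (.node (.leaf 7618) (.leaf 0))))))) (.node (.node (.node (.node (.node (.node (.leaf 3348) (.leaf 19271)) (.node (.leaf 4965) (.leaf 0))) (.node (.node (.leaf 20460) (.leaf 0)) (.node (.leaf 15566) (.leaf 0)))) (.node (.node (.node (.leaf 19832) (.leaf 19566)) (.node (.leaf 9296) (.leaf 0))) (.node (.node (.leaf 7117) (.leaf 0)) (.node (.leaf 11337) (.leaf 0))))) (.node (.node (.node (.node (.leaf 5345) (.leaf 3252)) (.node (.leaf 11550) (.leaf 0))) (.node (.node (.leaf 4459) (.leaf 0)) (.node (.leaf 16662) (.leaf 0)))) (.node (.node (.node (.leaf 18048) (.leaf 6813)) (.node (.leaf 361) (.leaf 0))) (.node (.node (.leaf 19679) (.leaf 0)) (.node (.leaf 4575) (.leaf 0)))))) (.node (.node (.node (.node (.node (.leaf 13675) (.leaf 14639)) (.node (.leaf 1289) (.leaf 0))) (.node (.node (.leaf 2665) (.leaf 0)) (.node (.leaf 10764) (.leaf 0))))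 (.node (.node (.node (.leaf 7131) (.leaf 14528)) (.node (.leaf 20137) (.leaf 0))) (.node (.node (.leaf 17988) (.leaf 0)) (.node (.leaf 16862) (.leaf 0))))) (.node (.node (.node (.node (.leaf 7318) (.leaf 13312)) (.node (.leaf 19496) (.leaf 0))) (.node (.node (.leaf 3601) (.leaf 0)) (.node (.leaf 7887) (.leaf 0)))) (.node (.node (.node (.leaf 10653) (.leaf 14178)) (.node (.leaf 7745) (.leaf 0))) (.node (.node (.leaf 17899) (.leaf 0)) (.node (.leaf 14699) (.leaf 0))))))))

def omT55 : NT := .node (.node (.node (.node (.node (.node (.node (.node (.leaf 10583) (.leaf 11142)) (.node (.leaf 4818) (.leaf 0))) (.node (.node (.leaf 10661) (.leaf 0)) (.node (.leaf 14093) (.leaf 0)))) (.node (.node (.node (.leaf 632) (.leaf 16320)) (.node (.leaf 14675) (.leaf 0))) (.node (.node (.leaf 19770) (.leaf 0)) (.node (.leaf 14800) (.leaf 0))))) (.node (.node (.node (.node (.leaf 7827) (.leaf 9047)) (.node (.leaf 306) (.leaf 0))) (.node (.node (.leaf 1731) (.leaf 0)) (.node (.leaf 8751) (.leaf 0)))) (.node (.node (.node (.leaf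 15711) (.leaf 14588)) (.node (.leaf 11527) (.leaf 0))) (.node (.node (.leaf 5931) (.leaf 0)) (.node (.leaf 12320) (.leaf 0)))))) (.node (.node (.node (.node (.node (.leaf 15855) (.leaf 5563)) (.node (.leaf 3216) (.leaf 0))) (.node (.node (.leaf 4619) (.leaf 0)) (.node (.leaf 16348) (.leaf 0)))) (.node (.node (.node (.leaf 13097) (.leaf 3430)) (.node (.leaf 6196) (.leaf 0))) (.node (.node (.leaf 12939) (.leaf 0)) (.node (.leaf 15234) (.leaf 0))))) (.node (.node (.node (.node (.leaf 14094) (.leaf 13760)) (.node (.leaf 15189) (.leaf 0))) (.node (.node (.leaf 16443) (.leaf 0)) (.node (.leaf 4688) (.leaf 0)))) (.node (.node (.node (.leaf 11801) (.leaf 1774)) (.node (.leaf 14273) (.leaf 0))) (.node (.node (.leaf 8985) (.leaf 0)) (.node (.leaf 1589) (.leaf 0))))))) (.node (.node (.node (.node (.node (.node (.leaf 8664) (.leaf 13208)) (.node (.leaf 8773) (.leaf 0))) (.node (.node (.leaf 1930) (.leaf 0)) (.node (.leaf 14935) (.leaf 0)))) (.node (.node (.node (.leaf 16604) (.leaf 18827)) (.node (.leaf 3151) (.leaf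 0))) (.node (.node (.leaf 12868) (.leaf 0)) (.node (.leaf 19664) (.leaf 0))))) (.node (.node (.node (.node (.leaf 16335) (.leaf 7332)) (.node (.leaf 12629) (.leaf 0))) (.node (.node (.leaf 18094) (.leaf 0)) (.node (.leaf 16202) (.leaf 0)))) (.node (.node (.node (.leaf 9271) (.leaf 15354)) (.node (.leaf 18373) (.leaf 0))) (.node (.node (.leaf 16440) (.leaf 0)) (.node (.leaf 19827) (.leaf 0)))))) (.node (.node (.node (.node (.node (.leaf 2924) (.leaf 13694)) (.node (.leaf 3445) (.leaf 0))) (.node (.node (.leaf 13966) (.leaf 0)) (.node (.leaf 15793) (.leaf 0)))) (.node (.node (.node (.leaf 13819) (.leaf 2331)) (.node (.leaf 1305) (.leaf 0))) (.node (.node (.leaf 13350) (.leaf 0)) (.node (.leaf 16527) (.leaf 0))))) (.node (.node (.node (.node (.leaf 10005) (.leaf 6668)) (.node (.leaf 935) (.leaf 0))) (.node (.node (.leaf 1908) (.leaf 0)) (.node (.leaf 18442) (.leaf 0)))) (.node (.node (.node (.leaf 19091) (.leaf 7544)) (.node (.leaf 10020) (.leaf 0))) (.node (.node (.leaf 3534) (.leaf 0)) (.node (.leaf 16063)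 (.leaf 0)))))))) (.node (.node (.node (.node (.node (.node (.node (.leaf 2673) (.leaf 18838)) (.node (.leaf 15327) (.leaf 0))) (.node (.node (.leaf 16040) (.leaf 0)) (.node (.leaf 16804) (.leaf 0)))) (.node (.node (.node (.leaf 9862) (.leaf 3551)) (.node (.leaf 8759) (.leaf 0))) (.node (.node (.leaf 2201) (.leaf 0)) (.node (.leaf 6202) (.leaf 0))))) (.node (.node (.node (.node (.leaf 17769) (.leaf 15421)) (.node (.leaf 18846) (.leaf 0))) (.node (.node (.leaf 15372) (.leaf 0)) (.node (.leaf 6711) (.leaf 0)))) (.node (.node (.node (.leaf 4852) (.leaf 2962)) (.node (.leaf 6579) (.leaf 0))) (.node (.node (.leaf 17500) (.leaf 0)) (.node (.leaf 7380) (.leaf 0)))))) (.node (.node (.node (.node (.node (.leaf 18230) (.leaf 20108)) (.node (.leaf 19962) (.leaf 0))) (.node (.node (.leaf 17735) (.leaf 0)) (.node (.leaf 13993) (.leaf 0)))) (.node (.node (.node (.leaf 9468) (.leaf 7546)) (.node (.leaf 19653) (.leaf 0))) (.node (.node (.leaf 5589) (.leaf 0)) (.node (.leaf 4757) (.leaf 0))))) (.node (.node (.node (.node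 (.leaf 13618) (.leaf 12593)) (.node (.leaf 20356) (.leaf 0))) (.node (.node (.leaf 7339) (.leaf 0)) (.node (.leaf 17692) (.leaf 0)))) (.node (.node (.node (.leaf 7747) (.leaf 5535)) (.node (.leaf 13146) (.leaf 0))) (.node (.node (.leaf 7738) (.leaf 0)) (.node (.leaf 1641) (.leaf 0))))))) (.node (.node (.node (.node (.node (.node (.leaf 18205) (.leaf 4438)) (.node (.leaf 20514) (.leaf 0))) (.node (.node (.leaf 15882) (.leaf 0)) (.node (.leaf 261) (.leaf 0)))) (.node (.node (.node (.leaf 5053) (.leaf 3960)) (.node (.leaf 3655) (.leaf 0))) (.node (.node (.leaf 20199) (.leaf 0)) (.node (.leaf 14064) (.leaf 0))))) (.node (.node (.node (.node (.leaf 14992) (.leaf 6681)) (.node (.leaf 14674) (.leaf 0))) (.node (.node (.leaf 7008) (.leaf 0)) (.node (.leaf 13334) (.leaf 0)))) (.node (.node (.node (.leaf 7362) (.leaf 3023)) (.node (.leaf 19604) (.leaf 0))) (.node (.node (.leaf 3231) (.leaf 0)) (.node (.leaf 19946) (.leaf 0)))))) (.node (.node (.node (.node (.node (.leaf 7845) (.leaf 7135)) (.node (.leaf 6262) (.leaf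 0))) (.node (.node (.leaf 14507) (.leaf 0)) (.node (.leaf 13761) (.leaf 0)))) (.node (.node (.node (.leaf 8075) (.leaf 2232)) (.node (.leaf 6220) (.leaf 0))) (.node (.node (.leaf 5678) (.leaf 0)) (.node (.leaf 7596) (.leaf 0))))) (.node (.node (.node (.node (.leaf 13536) (.leaf 18284)) (.node (.leaf 7697) (.leaf 0))) (.node (.node (.leaf 7363) (.leaf 0)) (.node (.leaf 5570) (.leaf 0)))) (.node (.node (.node (.leaf 3192) (.leaf 13056)) (.node (.leaf 12515) (.leaf 0))) (.node (.node (.leaf 2180) (.leaf 0)) (.node (.leaf 2570) (.leaf 0))))))))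

def omT56 : NT := .node (.node (.node (.node (.node (.node (.node (.node (.leaf 18802) (.leaf 18349)) (.node (.leaf 11641) (.leaf 0))) (.node (.node (.leaf 15924) (.leaf 0)) (.node (.leaf 6549) (.leaf 0)))) (.node (.node (.node (.leaf 26) (.leaf 8232)) (.node (.leaf 8061) (.leaf 0))) (.node (.node (.leaf 15451) (.leaf 0)) (.node (.leaf 8470) (.leaf 0))))) (.node (.node (.node (.node (.leaf 16120) (.leaf 6231)) (.node (.leaf 7217) (.leaf 0))) (.node (.node (.leaf 6687) (.leaf 0)) (.node (.leaf 9012) (.leaf 0)))) (.node (.node (.node (.leaf 18515) (.leaf 11538)) (.node (.leaf 8905) (.leaf 0))) (.node (.node (.leaf 17162) (.leaf 0)) (.node (.leaf 11173) (.leaf 0)))))) (.node (.node (.node (.node (.node (.leaf 13271) (.leaf 18055)) (.node (.leaf 6015) (.leaf 0))) (.node (.node (.leaf 13203) (.leaf 0)) (.node (.leaf 12898) (.leaf 0)))) (.node (.node (.node (.leaf 3817) (.leaf 4296)) (.node (.leaf 13650) (.leaf 0))) (.node (.node (.leaf 12936) (.leaf 0)) (.node (.leaf 7742) (.leaf 0))))) (.node (.node (.node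 (.node (.leaf 5127) (.leaf 4288)) (.node (.leaf 1374) (.leaf 0))) (.node (.node (.leaf 10155) (.leaf 0)) (.node (.leaf 20043) (.leaf 0)))) (.node (.node (.node (.leaf 14618) (.leaf 15261)) (.node (.leaf 9406) (.leaf 0))) (.node (.node (.leaf 1366) (.leaf 0)) (.node (.leaf 12308) (.leaf 0))))))) (.node (.node (.node (.node (.node (.node (.leaf 16712) (.leaf 12103)) (.node (.leaf 12808) (.leaf 0))) (.node (.node (.leaf 15563) (.leaf 0)) (.node (.leaf 17783) (.leaf 0)))) (.node (.node (.node (.leaf 9966) (.leaf 12973)) (.node (.leaf 17520) (.leaf 0))) (.node (.node (.leaf 18877) (.leaf 0)) (.node (.leaf 3068) (.leaf 0))))) (.node (.node (.node (.node (.leaf 8918) (.leaf 3284)) (.node (.leaf 5267) (.leaf 0))) (.node (.node (.leaf 5167) (.leaf 0)) (.node (.leaf 12090) (.leaf 0)))) (.node (.node (.node (.leaf 53) (.leaf 9837)) (.node (.leaf 18631) (.leaf 0))) (.node (.node (.leaf 19111) (.leaf 0)) (.node (.leaf 10886) (.leaf 0)))))) (.node (.node (.node (.node (.node (.leaf 18188) (.leaf 13901)) (.node (.leaf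 14547) (.leaf 0))) (.node (.node (.leaf 9348) (.leaf 0)) (.node (.leaf 5017) (.leaf 0)))) (.node (.node (.node (.leaf 19489) (.leaf 796)) (.node (.leaf 14716) (.leaf 0))) (.node (.node (.leaf 13584) (.leaf 0)) (.node (.leaf 14866) (.leaf 0))))) (.node (.node (.node (.node (.leaf 7685) (.leaf 14551)) (.node (.leaf 10494) (.leaf 0))) (.node (.node (.leaf 9566) (.leaf 0)) (.node (.leaf 2780) (.leaf 0)))) (.node (.node (.node (.leaf 11656) (.leaf 13887)) (.node (.leaf 1012) (.leaf 0))) (.node (.node (.leaf 6764) (.leaf 0)) (.node (.leaf 19402) (.leaf 0)))))))) (.node (.node (.node (.node (.node (.node (.node (.leaf 19141) (.leaf 8817)) (.node (.leaf 7169) (.leaf 0))) (.node (.node (.leaf 12595) (.leaf 0)) (.node (.leaf 825) (.leaf 0)))) (.node (.node (.node (.leaf 9912) (.leaf 9692)) (.node (.leaf 10810) (.leaf 0))) (.node (.node (.leaf 3328) (.leaf 0)) (.node (.leaf 2308) (.leaf 0))))) (.node (.node (.node (.node (.leaf 6674) (.leaf 14492)) (.node (.leaf 10990) (.leaf 0))) (.node (.node (.leaf 2818) (.leaf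 0)) (.node (.leaf 10475) (.leaf 0)))) (.node (.node (.node (.leaf 3097) (.leaf 19990)) (.node (.leaf 19201) (.leaf 0))) (.node (.node (.leaf 17615) (.leaf 0)) (.node (.leaf 5366) (.leaf 0)))))) (.node (.node (.node (.node (.node (.leaf 5377) (.leaf 12003)) (.node (.leaf 14126) (.leaf 0))) (.node (.node (.leaf 1700) (.leaf 0)) (.node (.leaf 11691) (.leaf 0)))) (.node (.node (.node (.leaf 19429) (.leaf 9766)) (.node (.leaf 1802) (.leaf 0))) (.node (.node (.leaf 5383) (.leaf 0)) (.node (.leaf 19367) (.leaf 0))))) (.node (.node (.node (.node (.leaf 12194) (.leaf 7183)) (.node (.leaf 16368) (.leaf 0))) (.node (.node (.leaf 828) (.leaf 0)) (.node (.leaf 8146) (.leaf 0)))) (.node (.node (.node (.leaf 18137) (.leaf 13631)) (.node (.leaf 15249) (.leaf 0))) (.node (.node (.leaf 15561) (.leaf 0)) (.node (.leaf 7981) (.leaf 0))))))) (.node (.node (.node (.node (.node (.node (.leaf 10146) (.leaf 6780)) (.node (.leaf 9986) (.leaf 0))) (.node (.node (.leaf 4952) (.leaf 0)) (.node (.leaf 11943) (.leaf 0)))) (.node (.node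 (.node (.leaf 17998) (.leaf 5015)) (.node (.leaf 462) (.leaf 0))) (.node (.node (.leaf 9206) (.leaf 0)) (.node (.leaf 5342) (.leaf 0))))) (.node (.node (.node (.node (.leaf 135) (.leaf 1022)) (.node (.leaf 15299) (.leaf 0))) (.node (.node (.leaf 11628) (.leaf 0)) (.node (.leaf 16164) (.leaf 0)))) (.node (.node (.node (.leaf 12325) (.leaf 14938)) (.node (.leaf 3857) (.leaf 0))) (.node (.node (.leaf 8718) (.leaf 0)) (.node (.leaf 3037) (.leaf 0)))))) (.node (.node (.node (.node (.node (.leaf 9710) (.leaf 7844)) (.node (.leaf 12314) (.leaf 0))) (.node (.node (.leaf 7669) (.leaf 0)) (.node (.leaf 716) (.leaf 0)))) (.node (.node (.node (.leaf 17812) (.leaf 20232)) (.node (.leaf 2388) (.leaf 0))) (.node (.node (.leaf 6045) (.leaf 0)) (.node (.leaf 13719) (.leaf 0))))) (.node (.node (.node (.node (.leaf 1336) (.leaf 16325)) (.node (.leaf 16207) (.leaf 0))) (.node (.node (.leaf 20025) (.leaf 0)) (.node (.leaf 18064) (.leaf 0)))) (.node (.node (.node (.leaf 4746) (.leaf 4712)) (.node (.leaf 6953) (.leaf 0))) (.node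 (.node (.leaf 7558) (.leaf 0)) (.node (.leaf 15429) (.leaf 0))))))))

def omT57 : NT := .node (.node (.node (.node (.node (.node (.node (.node (.leaf 14420) (.leaf 4870)) (.node (.leaf 12651) (.leaf 0))) (.node (.node (.leaf 18063) (.leaf 0)) (.node (.leaf 12892) (.leaf 0)))) (.node (.node (.node (.leaf 14601) (.leaf 8060)) (.node (.leaf 2871) (.leaf 0))) (.node (.node (.leaf 12630) (.leaf 0)) (.node (.leaf 19715) (.leaf 0))))) (.node (.node (.node (.node (.leaf 19421) (.leaf 13413)) (.node (.leaf 8684) (.leaf 0))) (.node (.node (.leaf 9431) (.leaf 0)) (.node (.leaf 11856) (.leaf 0)))) (.node (.node (.node (.leaf 2500) (.leaf 5525)) (.node (.leaf 16772) (.leaf 0))) (.node (.node (.leaf 10864) (.leaf 0)) (.node (.leaf 16449) (.leaf 0)))))) (.node (.node (.node (.node (.node (.leaf 20391) (.leaf 8167)) (.node (.leaf 15446) (.leaf 0))) (.node (.node (.leaf 363) (.leaf 0)) (.node (.leaf 8377) (.leaf 0)))) (.node (.node (.node (.leaf 9187) (.leaf 1164)) (.node (.leaf 9031) (.leaf 0))) (.node (.node (.leaf 44)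 (.leaf 0)) (.node (.leaf 11657) (.leaf 0))))) (.node (.node (.node (.node (.leaf 14584) (.leaf 2668)) (.node (.leaf 20203) (.leaf 0))) (.node (.node (.leaf 2899) (.leaf 0)) (.node (.leaf 18148) (.leaf 0)))) (.node (.node (.node (.leaf 18748) (.leaf 15453)) (.node (.leaf 11495) (.leaf 0))) (.node (.node (.leaf 3402) (.leaf 0)) (.node (.leaf 896) (.leaf 0))))))) (.node (.node (.node (.node (.node (.node (.leaf 2363) (.leaf 15862)) (.node (.leaf 8836) (.leaf 0))) (.node (.node (.leaf 8514) (.leaf 0)) (.node (.leaf 12783) (.leaf 0)))) (.node (.node (.node (.leaf 1027) (.leaf 8944)) (.node (.leaf 1007) (.leaf 0))) (.node (.node (.leaf 15689) (.leaf 0)) (.node (.leaf 7937) (.leaf 0))))) (.node (.node (.node (.node (.leaf 6581) (.leaf 3686)) (.node (.leaf 2367) (.leaf 0))) (.node (.node (.leaf 18947) (.leaf 0)) (.node (.leaf 18522) (.leaf 0)))) (.node (.node (.node (.leaf 9818) (.leaf 1413)) (.node (.leaf 5813) (.leaf 0))) (.node (.node (.leaf 4318) (.leaf 0)) (.node (.leaf 1949) (.leaf 0)))))) (.node (.node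 (.node (.node (.node (.leaf 14531) (.leaf 6771)) (.node (.leaf 4837) (.leaf 0))) (.node (.node (.leaf 9307) (.leaf 0)) (.node (.leaf 7461) (.leaf 0)))) (.node (.node (.node (.leaf 16268) (.leaf 15303)) (.node (.leaf 14954) (.leaf 0))) (.node (.node (.leaf 7032) (.leaf 0)) (.node (.leaf 12385) (.leaf 0))))) (.node (.node (.node (.node (.leaf 16395) (.leaf 8738)) (.node (.leaf 6619) (.leaf 0))) (.node (.node (.leaf 17294) (.leaf 0)) (.node (.leaf 2824) (.leaf 0)))) (.node (.node (.node (.leaf 17286) (.leaf 14823)) (.node (.leaf 3709) (.leaf 0))) (.node (.node (.leaf 16706) (.leaf 0)) (.node (.leaf 17814) (.leaf 0)))))))) (.node (.node (.node (.node (.node (.node (.node (.leaf 19706) (.leaf 12241)) (.node (.leaf 11898) (.leaf 0))) (.node (.node (.leaf 4786) (.leaf 0)) (.node (.leaf 15444) (.leaf 0)))) (.node (.node (.node (.leaf 13462) (.leaf 3975)) (.node (.leaf 1382) (.leaf 0))) (.node (.node (.leaf 20065) (.leaf 0)) (.node (.leaf 7194) (.leaf 0))))) (.node (.node (.node (.node (.leaf 18381) (.leaf 1841))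 (.node (.leaf 15246) (.leaf 0))) (.node (.node (.leaf 388) (.leaf 0)) (.node (.leaf 18135) (.leaf 0)))) (.node (.node (.node (.leaf 4179) (.leaf 6944)) (.node (.leaf 12251) (.leaf 0))) (.node (.node (.leaf 4990) (.leaf 0)) (.node (.leaf 9260) (.leaf 0)))))) (.node (.node (.node (.node (.node (.leaf 2881) (.leaf 11843)) (.node (.leaf 8506) (.leaf 0))) (.node (.node (.leaf 3011) (.leaf 0)) (.node (.leaf 5935) (.leaf 0)))) (.node (.node (.node (.leaf 11670) (.leaf 8453)) (.node (.leaf 18220) (.leaf 0))) (.node (.node (.leaf 1960) (.leaf 0)) (.node (.leaf 13123) (.leaf 0))))) (.node (.node (.node (.node (.leaf 11542) (.leaf 12044)) (.node (.leaf 12049) (.leaf 0))) (.node (.node (.leaf 6967) (.leaf 0)) (.node (.leaf 16256) (.leaf 0)))) (.node (.node (.node (.leaf 19995) (.leaf 6306)) (.node (.leaf 4669) (.leaf 0))) (.node (.node (.leaf 16382) (.leaf 0)) (.node (.leaf 19316) (.leaf 0))))))) (.node (.node (.node (.node (.node (.node (.leaf 5719) (.leaf 6749)) (.node (.leaf 1446) (.leaf 0))) (.node (.node (.leaf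 17094) (.leaf 0)) (.node (.leaf 2865) (.leaf 0)))) (.node (.node (.node (.leaf 7675) (.leaf 19042)) (.node (.leaf 1268) (.leaf 0))) (.node (.node (.leaf 1235) (.leaf 0)) (.node (.leaf 5949) (.leaf 0))))) (.node (.node (.node (.node (.leaf 14043) (.leaf 11291)) (.node (.leaf 1454) (.leaf 0))) (.node (.node (.leaf 17791) (.leaf 0)) (.node (.leaf 12659) (.leaf 0)))) (.node (.node (.node (.leaf 7944) (.leaf 12276)) (.node (.leaf 15367) (.leaf 0))) (.node (.node (.leaf 15865) (.leaf 0)) (.node (.leaf 3928) (.leaf 0)))))) (.node (.node (.node (.node (.node (.leaf 13878) (.leaf 5348)) (.node (.leaf 18090) (.leaf 0))) (.node (.node (.leaf 7164) (.leaf 0)) (.node (.leaf 1222) (.leaf 0)))) (.node (.node (.node (.leaf 21) (.leaf 4204)) (.node (.leaf 1749) (.leaf 0))) (.node (.node (.leaf 10870) (.leaf 0)) (.node (.leaf 19599) (.leaf 0))))) (.node (.node (.node (.node (.leaf 2370) (.leaf 9145)) (.node (.leaf 13558) (.leaf 0))) (.node (.node (.leaf 14750) (.leaf 0)) (.node (.leaf 11095) (.leaf 0)))) (.node (.node (.node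 (.leaf 12710) (.leaf 8534)) (.node (.leaf 13682) (.leaf 0))) (.node (.node (.leaf 7174) (.leaf 0)) (.node (.leaf 11502) (.leaf 0))))))))

def omT58 : NT := .node (.node (.node (.node (.node (.node (.node (.node (.leaf 12254) (.leaf 15933)) (.node (.leaf 7482) (.leaf 0))) (.node (.node (.leaf 8280) (.leaf 0)) (.node (.leaf 14949) (.leaf 0)))) (.node (.node (.node (.leaf 812) (.leaf 5378)) (.node (.leaf 20064) (.leaf 0))) (.node (.node (.leaf 17684) (.leaf 0)) (.node (.leaf 8883) (.leaf 0))))) (.node (.node (.node (.node (.leaf 15016) (.leaf 6156)) (.node (.leaf 15180) (.leaf 0))) (.node (.node (.leaf 10217) (.leaf 0)) (.node (.leaf 5534) (.leaf 0)))) (.node (.node (.node (.leaf 12956) (.leaf 10859)) (.node (.leaf 10591) (.leaf 0))) (.node (.node (.leaf 16671) (.leaf 0)) (.node (.leaf 6435) (.leaf 0)))))) (.node (.node (.node (.node (.node (.leaf 470) (.leaf 19616)) (.node (.leaf 4926) (.leaf 0))) (.node (.node (.leaf 13748) (.leaf 0)) (.node (.leaf 6209) (.leaf 0)))) (.node (.node (.node (.leaf 4972) (.leaf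 13598)) (.node (.leaf 20357) (.leaf 0))) (.node (.node (.leaf 9708) (.leaf 0)) (.node (.leaf 17838) (.leaf 0))))) (.node (.node (.node (.node (.leaf 9446) (.leaf 19284)) (.node (.leaf 6871) (.leaf 0))) (.node (.node (.leaf 11488) (.leaf 0)) (.node (.leaf 10993) (.leaf 0)))) (.node (.node (.node (.leaf 2434) (.leaf 5352)) (.node (.leaf 713) (.leaf 0))) (.node (.node (.leaf 6438) (.leaf 0)) (.node (.leaf 3132) (.leaf 0))))))) (.node (.node (.node (.node (.node (.node (.leaf 19374) (.leaf 3144)) (.node (.leaf 3275) (.leaf 0))) (.node (.node (.leaf 9235) (.leaf 0)) (.node (.leaf 14530) (.leaf 0)))) (.node (.node (.node (.leaf 7680) (.leaf 14694)) (.node (.leaf 16849) (.leaf 0))) (.node (.node (.leaf 14024) (.leaf 0)) (.node (.leaf 15463) (.leaf 0))))) (.node (.node (.node (.node (.leaf 715) (.leaf 13272)) (.node (.leaf 5598) (.leaf 0))) (.node (.node (.leaf 5121) (.leaf 0)) (.node (.leaf 8564) (.leaf 0)))) (.node (.node (.node (.leaf 17686) (.leaf 19511)) (.node (.leaf 4797) (.leaf 0))) (.node (.node (.leaf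 16906) (.leaf 0)) (.node (.leaf 9492) (.leaf 0)))))) (.node (.node (.node (.node (.node (.leaf 13992) (.leaf 3071)) (.node (.leaf 4900) (.leaf 0))) (.node (.node (.leaf 2043) (.leaf 0)) (.node (.leaf 9679) (.leaf 0)))) (.node (.node (.node (.leaf 6654) (.leaf 1350)) (.node (.leaf 19483) (.leaf 0))) (.node (.node (.leaf 15146) (.leaf 0)) (.node (.leaf 4316) (.leaf 0))))) (.node (.node (.node (.node (.leaf 4200) (.leaf 17726)) (.node (.leaf 19049) (.leaf 0))) (.node (.node (.leaf 9787) (.leaf 0)) (.node (.leaf 7210) (.leaf 0)))) (.node (.node (.node (.leaf 2514) (.leaf 2131)) (.node (.leaf 987) (.leaf 0))) (.node (.node (.leaf 4700) (.leaf 0)) (.node (.leaf 10713) (.leaf 0)))))))) (.node (.node (.node (.node (.node (.node (.node (.leaf 109) (.leaf 10566)) (.node (.leaf 10119) (.leaf 0))) (.node (.node (.leaf 19436) (.leaf 0)) (.node (.leaf 9043) (.leaf 0)))) (.node (.node (.node (.leaf 9422) (.leaf 18714)) (.node (.leaf 9630) (.leaf 0))) (.node (.node (.leaf 4424) (.leaf 0)) (.node (.leaf 1575) (.leaf 0)))))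 (.node (.node (.node (.node (.leaf 1318) (.leaf 9956)) (.node (.leaf 19777) (.leaf 0))) (.node (.node (.leaf 15617) (.leaf 0)) (.node (.leaf 7520) (.leaf 0)))) (.node (.node (.node (.leaf 7874) (.leaf 675)) (.node (.leaf 12893) (.leaf 0))) (.node (.node (.leaf 17296) (.leaf 0)) (.node (.leaf 15448) (.leaf 0)))))) (.node (.node (.node (.node (.node (.leaf 2100) (.leaf 11072)) (.node (.leaf 8661) (.leaf 0))) (.node (.node (.leaf 5911) (.leaf 0)) (.node (.leaf 20017) (.leaf 0)))) (.node (.node (.node (.leaf 10116) (.leaf 15392)) (.node (.leaf 9714) (.leaf 0))) (.node (.node (.leaf 5762) (.leaf 0)) (.node (.leaf 17747) (.leaf 0))))) (.node (.node (.node (.node (.leaf 12) (.leaf 12438)) (.node (.leaf 13027) (.leaf 0))) (.node (.node (.leaf 16994) (.leaf 0)) (.node (.leaf 4528) (.leaf 0)))) (.node (.node (.node (.leaf 20113) (.leaf 13185)) (.node (.leaf 19910) (.leaf 0))) (.node (.node (.leaf 15546) (.leaf 0)) (.node (.leaf 11484) (.leaf 0))))))) (.node (.node (.node (.node (.node (.node (.leaf 11218) (.leaf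 11058)) (.node (.leaf 1835) (.leaf 0))) (.node (.node (.leaf 10829) (.leaf 0)) (.node (.leaf 13776) (.leaf 0)))) (.node (.node (.node (.leaf 6621) (.leaf 9555)) (.node (.leaf 5268) (.leaf 0))) (.node (.node (.leaf 4754) (.leaf 0)) (.node (.leaf 11366) (.leaf 0))))) (.node (.node (.node (.node (.leaf 3664) (.leaf 19727)) (.node (.leaf 15110) (.leaf 0))) (.node (.node (.leaf 5578) (.leaf 0)) (.node (.leaf 469) (.leaf 0)))) (.node (.node (.node (.leaf 3778) (.leaf 1284)) (.node (.leaf 12978) (.leaf 0))) (.node (.node (.leaf 8771) (.leaf 0)) (.node (.leaf 10291) (.leaf 0)))))) (.node (.node (.node (.node (.node (.leaf 15092) (.leaf 4242)) (.node (.leaf 4376) (.leaf 0))) (.node (.node (.leaf 11865) (.leaf 0)) (.node (.leaf 6818) (.leaf 0)))) (.node (.node (.node (.leaf 11841) (.leaf 14821)) (.node (.leaf 6392) (.leaf 0))) (.node (.node (.leaf 2444) (.leaf 0)) (.node (.leaf 2953) (.leaf 0))))) (.node (.node (.node (.node (.leaf 4691) (.leaf 3448)) (.node (.leaf 664) (.leaf 0))) (.node (.node (.leaf 4010) (.leaf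 0)) (.node (.leaf 6471) (.leaf 0)))) (.node (.node (.node (.leaf 15936) (.leaf 12354)) (.node (.leaf 14798) (.leaf 0))) (.node (.node (.leaf 3446) (.leaf 0)) (.node (.leaf 17025) (.leaf 0))))))))

def omT59 : NT := .node (.node (.node (.node (.node (.node (.node (.node (.leaf 16825) (.leaf 11605)) (.node (.leaf 3053) (.leaf 0))) (.node (.node (.leaf 7041) (.leaf 0)) (.node (.leaf 5856) (.leaf 0)))) (.node (.node (.node (.leaf 1312) (.leaf 3579)) (.node (.leaf 12706) (.leaf 0))) (.node (.node (.leaf 6070) (.leaf 0)) (.node (.leaf 14854) (.leaf 0))))) (.node (.node (.node (.node (.leaf 20081) (.leaf 18722)) (.node (.leaf 6034) (.leaf 0))) (.node (.node (.leaf 20096) (.leaf 0)) (.node (.leaf 13547) (.leaf 0)))) (.node (.node (.node (.leaf 831) (.leaf 16138)) (.node (.leaf 2474) (.leaf 0))) (.node (.node (.leaf 3542) (.leaf 0)) (.node (.leaf 7619) (.leaf 0)))))) (.node (.node (.node (.node (.node (.leaf 13762) (.leaf 17995)) (.node (.leaf 19930) (.leaf 0))) (.node (.node (.leaf 3567) (.leaf 0)) (.node (.leaf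 6043) (.leaf 0)))) (.node (.node (.node (.leaf 2065) (.leaf 2709)) (.node (.leaf 620) (.leaf 0))) (.node (.node (.leaf 14187) (.leaf 0)) (.node (.leaf 15479) (.leaf 0))))) (.node (.node (.node (.node (.leaf 2987) (.leaf 18216)) (.node (.leaf 4953) (.leaf 0))) (.node (.node (.leaf 15486) (.leaf 0)) (.node (.leaf 9036) (.leaf 0)))) (.node (.node (.node (.leaf 17283) (.leaf 1544)) (.node (.leaf 16384) (.leaf 0))) (.node (.node (.leaf 9883) (.leaf 0)) (.node (.leaf 5830) (.leaf 0))))))) (.node (.node (.node (.node (.node (.node (.leaf 14011) (.leaf 13225)) (.node (.leaf 1218) (.leaf 0))) (.node (.node (.leaf 60) (.leaf 0)) (.node (.leaf 10889) (.leaf 0)))) (.node (.node (.node (.leaf 8033) (.leaf 12110)) (.node (.leaf 19918) (.leaf 0))) (.node (.node (.leaf 2291) (.leaf 0)) (.node (.leaf 7466) (.leaf 0))))) (.node (.node (.node (.node (.leaf 289) (.leaf 6986)) (.node (.leaf 18344) (.leaf 0))) (.node (.node (.leaf 19652) (.leaf 0)) (.node (.leaf 1263) (.leaf 0)))) (.node (.node (.node (.leaf 5245) (.leaf 19524))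 (.node (.leaf 19247) (.leaf 0))) (.node (.node (.leaf 9575) (.leaf 0)) (.node (.leaf 11358) (.leaf 0)))))) (.node (.node (.node (.node (.node (.leaf 12761) (.leaf 15799)) (.node (.leaf 18847) (.leaf 0))) (.node (.node (.leaf 11858) (.leaf 0)) (.node (.leaf 17535) (.leaf 0)))) (.node (.node (.node (.leaf 6703) (.leaf 4732)) (.node (.leaf 5205) (.leaf 0))) (.node (.node (.leaf 1561) (.leaf 0)) (.node (.leaf 11839) (.leaf 0))))) (.node (.node (.node (.node (.leaf 8792) (.leaf 16157)) (.node (.leaf 9563) (.leaf 0))) (.node (.node (.leaf 843) (.leaf 0)) (.node (.leaf 16370) (.leaf 0)))) (.node (.node (.node (.leaf 1541) (.leaf 11003)) (.node (.leaf 17114) (.leaf 0))) (.node (.node (.leaf 20104) (.leaf 0)) (.node (.leaf 475) (.leaf 0)))))))) (.node (.node (.node (.node (.node (.node (.node (.leaf 15339) (.leaf 8000)) (.node (.leaf 12501) (.leaf 0))) (.node (.node (.leaf 12469) (.leaf 0)) (.node (.leaf 3989) (.leaf 0)))) (.node (.node (.node (.leaf 16078) (.leaf 5562)) (.node (.leaf 14656) (.leaf 0))) (.node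 (.node (.leaf 17727) (.leaf 0)) (.node (.leaf 789) (.leaf 0))))) (.node (.node (.node (.node (.leaf 7040) (.leaf 16999)) (.node (.leaf 14236) (.leaf 0))) (.node (.node (.leaf 73) (.leaf 0)) (.node (.leaf 6652) (.leaf 0)))) (.node (.node (.node (.leaf 13147) (.leaf 19373)) (.node (.leaf 7065) (.leaf 0))) (.node (.node (.leaf 6133) (.leaf 0)) (.node (.leaf 5756) (.leaf 0)))))) (.node (.node (.node (.node (.node (.leaf 10339) (.leaf 16695)) (.node (.leaf 2628) (.leaf 0))) (.node (.node (.leaf 17320) (.leaf 0)) (.node (.leaf 6145) (.leaf 0)))) (.node (.node (.node (.leaf 15680) (.leaf 2175)) (.node (.leaf 7729) (.leaf 0))) (.node (.node (.leaf 1020) (.leaf 0)) (.node (.leaf 6587) (.leaf 0))))) (.node (.node (.node (.node (.leaf 2598) (.leaf 18004)) (.node (.leaf 2426) (.leaf 0))) (.node (.node (.leaf 10079) (.leaf 0)) (.node (.leaf 18995) (.leaf 0)))) (.node (.node (.node (.leaf 3121) (.leaf 4682)) (.node (.leaf 14184) (.leaf 0))) (.node (.node (.leaf 19782) (.leaf 0)) (.node (.leaf 9716) (.leaf 0))))))) (.node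 (.node (.node (.node (.node (.node (.leaf 4779) (.leaf 3301)) (.node (.leaf 4773) (.leaf 0))) (.node (.node (.leaf 17482) (.leaf 0)) (.node (.leaf 18007) (.leaf 0)))) (.node (.node (.node (.leaf 2401) (.leaf 15326)) (.node (.leaf 9910) (.leaf 0))) (.node (.node (.leaf 16094) (.leaf 0)) (.node (.leaf 5831) (.leaf 0))))) (.node (.node (.node (.node (.leaf 549) (.leaf 2697)) (.node (.leaf 12899) (.leaf 0))) (.node (.node (.leaf 10647) (.leaf 0)) (.node (.leaf 1221) (.leaf 0)))) (.node (.node (.node (.leaf 231) (.leaf 7247)) (.node (.leaf 16000) (.leaf 0))) (.node (.node (.leaf 18367) (.leaf 0)) (.node (.leaf 11942) (.leaf 0)))))) (.node (.node (.node (.node (.node (.leaf 1477) (.leaf 4515)) (.node (.leaf 11826) (.leaf 0))) (.node (.node (.leaf 7856) (.leaf 0)) (.node (.leaf 380) (.leaf 0)))) (.node (.node (.node (.leaf 18717) (.leaf 4631)) (.node (.leaf 16894) (.leaf 0))) (.node (.node (.leaf 15761) (.leaf 0)) (.node (.leaf 18703) (.leaf 0))))) (.node (.node (.node (.node (.leaf 12950) (.leaf 20243)) (.node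 (.leaf 17639) (.leaf 0))) (.node (.node (.leaf 17925) (.leaf 0)) (.node (.leaf 621) (.leaf 0)))) (.node (.node (.node (.leaf 2519) (.leaf 7679)) (.node (.leaf 5597) (.leaf 0))) (.node (.node (.leaf 19737) (.leaf 0)) (.node (.leaf 7322) (.leaf 0))))))))

def omT60 : NT := .node (.node (.node (.node (.node (.node (.node (.node (.leaf 16350) (.leaf 594)) (.node (.leaf 4634) (.leaf 0))) (.node (.node (.leaf 3625) (.leaf 0)) (.node (.leaf 5426) (.leaf 0)))) (.node (.node (.node (.leaf 9475) (.leaf 18812)) (.node (.leaf 16246) (.leaf 0))) (.node (.node (.leaf 15831) (.leaf 0)) (.node (.leaf 1676) (.leaf 0))))) (.node (.node (.node (.node (.leaf 17873) (.leaf 827)) (.node (.leaf 5014) (.leaf 0))) (.node (.node (.leaf 3191) (.leaf 0)) (.node (.leaf 3511) (.leaf 0)))) (.node (.node (.node (.leaf 17959) (.leaf 17451)) (.node (.leaf 2762) (.leaf 0))) (.node (.node (.leaf 17950) (.leaf 0)) (.node (.leaf 12616) (.leaf 0)))))) (.node (.node (.node (.node (.node (.leaf 6873) (.leaf 19648)) (.node (.leaf 12099) (.leaf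 0))) (.node (.node (.leaf 19775) (.leaf 0)) (.node (.leaf 15288) (.leaf 0)))) (.node (.node (.node (.leaf 13585) (.leaf 2853)) (.node (.leaf 17109) (.leaf 0))) (.node (.node (.leaf 16774) (.leaf 0)) (.node (.leaf 9228) (.leaf 0))))) (.node (.node (.node (.node (.leaf 9967) (.leaf 12086)) (.node (.leaf 16851) (.leaf 0))) (.node (.node (.leaf 6566) (.leaf 0)) (.node (.leaf 3264) (.leaf 0)))) (.node (.node (.node (.leaf 10530) (.leaf 13975)) (.node (.leaf 6003) (.leaf 0))) (.node (.node (.leaf 5590) (.leaf 0)) (.node (.leaf 17080) (.leaf 0))))))) (.node (.node (.node (.node (.node (.node (.leaf 18759) (.leaf 18445)) (.node (.leaf 2656) (.leaf 0))) (.node (.node (.leaf 15408) (.leaf 0)) (.node (.leaf 5812) (.leaf 0)))) (.node (.node (.node (.leaf 15046) (.leaf 16457)) (.node (.leaf 10388) (.leaf 0))) (.node (.node (.leaf 4282) (.leaf 0)) (.node (.leaf 8066) (.leaf 0))))) (.node (.node (.node (.node (.leaf 13030) (.leaf 12715)) (.node (.leaf 11818) (.leaf 0))) (.node (.node (.leaf 3797) (.leaf 0)) (.node (.leaf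 10982) (.leaf 0)))) (.node (.node (.node (.leaf 16473) (.leaf 14904)) (.node (.leaf 7976) (.leaf 0))) (.node (.node (.leaf 15611) (.leaf 0)) (.node (.leaf 7495) (.leaf 0)))))) (.node (.node (.node (.node (.node (.leaf 8179) (.leaf 1754)) (.node (.leaf 2827) (.leaf 0))) (.node (.node (.leaf 12255) (.leaf 0)) (.node (.leaf 163) (.leaf 0)))) (.node (.node (.node (.leaf 1928) (.leaf 1209)) (.node (.leaf 6642) (.leaf 0))) (.node (.node (.leaf 3564) (.leaf 0)) (.node (.leaf 14624) (.leaf 0))))) (.node (.node (.node (.node (.leaf 4676) (.leaf 10924)) (.node (.leaf 5514) (.leaf 0))) (.node (.node (.leaf 7926) (.leaf 0)) (.node (.leaf 4679) (.leaf 0)))) (.node (.node (.node (.leaf 19410) (.leaf 328)) (.node (.leaf 5067) (.leaf 0))) (.node (.node (.leaf 17372) (.leaf 0)) (.node (.leaf 7046) (.leaf 0)))))))) (.node (.node (.node (.node (.node (.node (.node (.leaf 15745) (.leaf 18692)) (.node (.leaf 7338) (.leaf 0))) (.node (.node (.leaf 238) (.leaf 0)) (.node (.leaf 5671) (.leaf 0)))) (.node (.node (.node (.leaf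 3066) (.leaf 19887)) (.node (.leaf 14155) (.leaf 0))) (.node (.node (.leaf 11525) (.leaf 0)) (.node (.leaf 1888) (.leaf 0))))) (.node (.node (.node (.node (.leaf 19377) (.leaf 12760)) (.node (.leaf 17003) (.leaf 0))) (.node (.node (.leaf 15428) (.leaf 0)) (.node (.leaf 16736) (.leaf 0)))) (.node (.node (.node (.leaf 11526) (.leaf 9825)) (.node (.leaf 4256) (.leaf 0))) (.node (.node (.leaf 16618) (.leaf 0)) (.node (.leaf 5388) (.leaf 0)))))) (.node (.node (.node (.node (.node (.leaf 653) (.leaf 19550)) (.node (.leaf 2392) (.leaf 0))) (.node (.node (.leaf 3314) (.leaf 0)) (.node (.leaf 1588) (.leaf 0)))) (.node (.node (.node (.leaf 3031) (.leaf 14282)) (.node (.leaf 20309) (.leaf 0))) (.node (.node (.leaf 1868) (.leaf 0)) (.node (.leaf 5731) (.leaf 0))))) (.node (.node (.node (.node (.leaf 13918) (.leaf 4464)) (.node (.leaf 17393) (.leaf 0))) (.node (.node (.leaf 9577) (.leaf 0)) (.node (.leaf 7537) (.leaf 0)))) (.node (.node (.node (.leaf 2614) (.leaf 18927)) (.node (.leaf 15885) (.leaf 0))) (.node (.node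 (.leaf 20337) (.leaf 0)) (.node (.leaf 11945) (.leaf 0))))))) (.node (.node (.node (.node (.node (.node (.leaf 19150) (.leaf 19379)) (.node (.leaf 19677) (.leaf 0))) (.node (.node (.leaf 10382) (.leaf 0)) (.node (.leaf 6253) (.leaf 0)))) (.node (.node (.node (.leaf 4403) (.leaf 1113)) (.node (.leaf 3447) (.leaf 0))) (.node (.node (.leaf 12812) (.leaf 0)) (.node (.leaf 19305) (.leaf 0))))) (.node (.node (.node (.node (.leaf 3545) (.leaf 8908)) (.node (.leaf 8464) (.leaf 0))) (.node (.node (.leaf 553) (.leaf 0)) (.node (.leaf 6372) (.leaf 0)))) (.node (.node (.node (.leaf 20429) (.leaf 3362)) (.node (.leaf 1947) (.leaf 0))) (.node (.node (.leaf 14470) (.leaf 0)) (.node (.leaf 2734) (.leaf 0)))))) (.node (.node (.node (.node (.node (.leaf 18357) (.leaf 20333)) (.node (.leaf 9958) (.leaf 0))) (.node (.node (.leaf 11026) (.leaf 0)) (.node (.leaf 18274) (.leaf 0)))) (.node (.node (.node (.leaf 503) (.leaf 7269)) (.node (.leaf 19238) (.leaf 0))) (.node (.node (.leaf 15133) (.leaf 0)) (.node (.leaf 16328) (.leaf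 0))))) (.node (.node (.node (.node (.leaf 16291) (.leaf 14448)) (.node (.leaf 5273) (.leaf 0))) (.node (.node (.leaf 1629) (.leaf 0)) (.node (.leaf 9797) (.leaf 0)))) (.node (.node (.node (.leaf 11326) (.leaf 11119)) (.node (.leaf 15633) (.leaf 0))) (.node (.node (.leaf 5743) (.leaf 0)) (.node (.leaf 20277) (.leaf 0))))))))

def omT61 : NT := .node (.node (.node (.node (.node (.node (.node (.node (.leaf 18907) (.leaf 7956)) (.node (.leaf 2603) (.leaf 0))) (.node (.node (.leaf 273) (.leaf 0)) (.node (.leaf 16066) (.leaf 0)))) (.node (.node (.node (.leaf 4023) (.leaf 926)) (.node (.leaf 11461) (.leaf 0))) (.node (.node (.leaf 10917) (.leaf 0)) (.node (.leaf 13673) (.leaf 0))))) (.node (.node (.node (.node (.leaf 7118) (.leaf 2472)) (.node (.leaf 4060) (.leaf 0))) (.node (.node (.leaf 14964) (.leaf 0)) (.node (.leaf 1125) (.leaf 0)))) (.node (.node (.node (.leaf 17383) (.leaf 11654)) (.node (.leaf 10113) (.leaf 0))) (.node (.node (.leaf 16866) (.leaf 0)) (.node (.leaf 15550) (.leaf 0)))))) (.node (.node (.node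 (.node (.node (.leaf 745) (.leaf 521)) (.node (.leaf 15131) (.leaf 0))) (.node (.node (.leaf 16424) (.leaf 0)) (.node (.leaf 2309) (.leaf 0)))) (.node (.node (.node (.leaf 10341) (.leaf 16768)) (.node (.leaf 6373) (.leaf 0))) (.node (.node (.leaf 1600) (.leaf 0)) (.node (.leaf 1360) (.leaf 0))))) (.node (.node (.node (.node (.leaf 5058) (.leaf 5282)) (.node (.leaf 19090) (.leaf 0))) (.node (.node (.leaf 6632) (.leaf 0)) (.node (.leaf 17546) (.leaf 0)))) (.node (.node (.node (.leaf 16464) (.leaf 13288)) (.node (.leaf 467) (.leaf 0))) (.node (.node (.leaf 18356) (.leaf 0)) (.node (.leaf 3424) (.leaf 0))))))) (.node (.node (.node (.node (.node (.node (.leaf 11302) (.leaf 6168)) (.node (.leaf 10539) (.leaf 0))) (.node (.node (.leaf 9072) (.leaf 0)) (.node (.leaf 3952) (.leaf 0)))) (.node (.node (.node (.leaf 1571) (.leaf 15672)) (.node (.leaf 4529) (.leaf 0))) (.node (.node (.leaf 19528) (.leaf 0)) (.node (.leaf 10389) (.leaf 0))))) (.node (.node (.node (.node (.leaf 16386) (.leaf 2150)) (.node (.leaf 9133)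 (.leaf 0))) (.node (.node (.leaf 12186) (.leaf 0)) (.node (.leaf 15070) (.leaf 0)))) (.node (.node (.node (.leaf 20225) (.leaf 14825)) (.node (.leaf 3153) (.leaf 0))) (.node (.node (.leaf 18402) (.leaf 0)) (.node (.leaf 13983) (.leaf 0)))))) (.node (.node (.node (.node (.node (.leaf 13780) (.leaf 14153)) (.node (.leaf 12120) (.leaf 0))) (.node (.node (.leaf 17132) (.leaf 0)) (.node (.leaf 10518) (.leaf 0)))) (.node (.node (.node (.leaf 19175) (.leaf 20037)) (.node (.leaf 1017) (.leaf 0))) (.node (.node (.leaf 14749) (.leaf 0)) (.node (.leaf 9858) (.leaf 0))))) (.node (.node (.node (.node (.leaf 13455) (.leaf 9913)) (.node (.leaf 2228) (.leaf 0))) (.node (.node (.leaf 4764) (.leaf 0)) (.node (.leaf 13415) (.leaf 0)))) (.node (.node (.node (.leaf 12530) (.leaf 1255)) (.node (.leaf 4332) (.leaf 0))) (.node (.node (.leaf 19145) (.leaf 0)) (.node (.leaf 9992) (.leaf 0)))))))) (.node (.node (.node (.node (.node (.node (.node (.leaf 7347) (.leaf 11123)) (.node (.leaf 11196) (.leaf 0))) (.node (.node (.leaf 9451)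 (.leaf 0)) (.node (.leaf 9176) (.leaf 0)))) (.node (.node (.node (.leaf 13698) (.leaf 6032)) (.node (.leaf 13372) (.leaf 0))) (.node (.node (.leaf 158) (.leaf 0)) (.node (.leaf 13410) (.leaf 0))))) (.node (.node (.node (.node (.leaf 5248) (.leaf 16904)) (.node (.leaf 16568) (.leaf 0))) (.node (.node (.leaf 1517) (.leaf 0)) (.node (.leaf 5226) (.leaf 0)))) (.node (.node (.node (.leaf 15810) (.leaf 4644)) (.node (.leaf 10180) (.leaf 0))) (.node (.node (.leaf 16896) (.leaf 0)) (.node (.leaf 5243) (.leaf 0)))))) (.node (.node (.node (.node (.node (.leaf 9490) (.leaf 9303)) (.node (.leaf 9476) (.leaf 0))) (.node (.node (.leaf 14243) (.leaf 0)) (.node (.leaf 14486) (.leaf 0)))) (.node (.node (.node (.leaf 11851) (.leaf 16573)) (.node (.leaf 2858) (.leaf 0))) (.node (.node (.leaf 17757) (.leaf 0)) (.node (.leaf 1660) (.leaf 0))))) (.node (.node (.node (.node (.leaf 4467) (.leaf 11071)) (.node (.leaf 13806) (.leaf 0))) (.node (.node (.leaf 317) (.leaf 0)) (.node (.leaf 20369) (.leaf 0)))) (.node (.node (.node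 (.leaf 4509) (.leaf 6631)) (.node (.leaf 77) (.leaf 0))) (.node (.node (.leaf 20501) (.leaf 0)) (.node (.leaf 8058) (.leaf 0))))))) (.node (.node (.node (.node (.node (.node (.leaf 10723) (.leaf 6585)) (.node (.leaf 15619) (.leaf 0))) (.node (.node (.leaf 4667) (.leaf 0)) (.node (.leaf 6770) (.leaf 0)))) (.node (.node (.node (.leaf 20332) (.leaf 10938)) (.node (.leaf 14648) (.leaf 0))) (.node (.node (.leaf 9923) (.leaf 0)) (.node (.leaf 6957) (.leaf 0))))) (.node (.node (.node (.node (.leaf 17231) (.leaf 13325)) (.node (.leaf 1119) (.leaf 0))) (.node (.node (.leaf 14860) (.leaf 0)) (.node (.leaf 12996) (.leaf 0)))) (.node (.node (.node (.leaf 10008) (.leaf 15806)) (.node (.leaf 6609) (.leaf 0))) (.node (.node (.leaf 10187) (.leaf 0)) (.node (.leaf 6754) (.leaf 0)))))) (.node (.node (.node (.node (.node (.leaf 16565) (.leaf 2622)) (.node (.leaf 6251) (.leaf 0))) (.node (.node (.leaf 6361) (.leaf 0)) (.node (.leaf 11468) (.leaf 0)))) (.node (.node (.node (.leaf 18363) (.leaf 15393)) (.node (.leaf 1689) (.leaf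 0))) (.node (.node (.leaf 2839) (.leaf 0)) (.node (.leaf 14542) (.leaf 0))))) (.node (.node (.node (.node (.leaf 11562) (.leaf 7187)) (.node (.leaf 9509) (.leaf 0))) (.node (.node (.leaf 3731) (.leaf 0)) (.node (.leaf 9092) (.leaf 0)))) (.node (.node (.node (.leaf 3760) (.leaf 14154)) (.node (.leaf 12144) (.leaf 0))) (.node (.node (.leaf 8135) (.leaf 0)) (.node (.leaf 3017) (.leaf 0))))))))

def omT62 : NT := .node (.node (.node (.node (.node (.node (.node (.node (.leaf 14565) (.leaf 1837)) (.node (.leaf 9378) (.leaf 0))) (.node (.node (.leaf 1582) (.leaf 0)) (.node (.leaf 16820) (.leaf 0)))) (.node (.node (.node (.leaf 16225) (.leaf 17665)) (.node (.leaf 16593) (.leaf 0))) (.node (.node (.leaf 15169) (.leaf 0)) (.node (.leaf 7812) (.leaf 0))))) (.node (.node (.node (.node (.leaf 13946) (.leaf 979)) (.node (.leaf 4795) (.leaf 0))) (.node (.node (.leaf 7483) (.leaf 0)) (.node (.leaf 12704) (.leaf 0)))) (.node (.node (.node (.leaf 11183) (.leaf 19506)) (.node (.leaf 6425) (.leaf 0))) (.node (.node (.leaf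 3644) (.leaf 0)) (.node (.leaf 9522) (.leaf 0)))))) (.node (.node (.node (.node (.node (.leaf 15957) (.leaf 4098)) (.node (.leaf 8476) (.leaf 0))) (.node (.node (.leaf 13995) (.leaf 0)) (.node (.leaf 15176) (.leaf 0)))) (.node (.node (.node (.leaf 5334) (.leaf 18758)) (.node (.leaf 1207) (.leaf 0))) (.node (.node (.leaf 7119) (.leaf 0)) (.node (.leaf 11077) (.leaf 0))))) (.node (.node (.node (.node (.leaf 14671) (.leaf 15760)) (.node (.leaf 20288) (.leaf 0))) (.node (.node (.leaf 2509) (.leaf 0)) (.node (.leaf 13690) (.leaf 0)))) (.node (.node (.node (.leaf 1936) (.leaf 7706)) (.node (.leaf 8071) (.leaf 0))) (.node (.node (.leaf 4219) (.leaf 0)) (.node (.leaf 15538) (.leaf 0))))))) (.node (.node (.node (.node (.node (.node (.leaf 15310) (.leaf 19010)) (.node (.leaf 4433) (.leaf 0))) (.node (.node (.leaf 5701) (.leaf 0)) (.node (.leaf 505) (.leaf 0)))) (.node (.node (.node (.leaf 14179) (.leaf 13512)) (.node (.leaf 932) (.leaf 0))) (.node (.node (.leaf 9065) (.leaf 0)) (.node (.leaf 11833) (.leaf 0)))))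 (.node (.node (.node (.node (.leaf 10668) (.leaf 3321)) (.node (.leaf 18828) (.leaf 0))) (.node (.node (.leaf 16195) (.leaf 0)) (.node (.leaf 18561) (.leaf 0)))) (.node (.node (.node (.leaf 2346) (.leaf 18913)) (.node (.leaf 19038) (.leaf 0))) (.node (.node (.leaf 8869) (.leaf 0)) (.node (.leaf 4535) (.leaf 0)))))) (.node (.node (.node (.node (.node (.leaf 4406) (.leaf 12951)) (.node (.leaf 17968) (.leaf 0))) (.node (.node (.leaf 18983) (.leaf 0)) (.node (.leaf 17091) (.leaf 0)))) (.node (.node (.node (.leaf 19676) (.leaf 15210)) (.node (.leaf 487) (.leaf 0))) (.node (.node (.leaf 20189) (.leaf 0)) (.node (.leaf 891) (.leaf 0))))) (.node (.node (.node (.node (.leaf 3112) (.leaf 1523)) (.node (.leaf 3210) (.leaf 0))) (.node (.node (.leaf 16037) (.leaf 0)) (.node (.leaf 14963) (.leaf 0)))) (.node (.node (.node (.leaf 6028) (.leaf 14077)) (.node (.leaf 18070) (.leaf 0))) (.node (.node (.leaf 10682) (.leaf 0)) (.node (.leaf 19052) (.leaf 0)))))))) (.node (.node (.node (.node (.node (.node (.node (.leaf 20125)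 (.leaf 8671)) (.node (.leaf 1848) (.leaf 0))) (.node (.node (.leaf 10714) (.leaf 0)) (.node (.leaf 11273) (.leaf 0)))) (.node (.node (.node (.leaf 5977) (.leaf 8914)) (.node (.leaf 5109) (.leaf 0))) (.node (.node (.leaf 3876) (.leaf 0)) (.node (.leaf 13898) (.leaf 0))))) (.node (.node (.node (.node (.leaf 9242) (.leaf 8858)) (.node (.leaf 12682) (.leaf 0))) (.node (.node (.leaf 9393) (.leaf 0)) (.node (.leaf 20445) (.leaf 0)))) (.node (.node (.node (.leaf 15758) (.leaf 14328)) (.node (.leaf 12896) (.leaf 0))) (.node (.node (.leaf 709) (.leaf 0)) (.node (.leaf 7110) (.leaf 0)))))) (.node (.node (.node (.node (.node (.leaf 8683) (.leaf 9200)) (.node (.leaf 5257) (.leaf 0))) (.node (.node (.leaf 15039) (.leaf 0)) (.node (.leaf 10506) (.leaf 0)))) (.node (.node (.node (.leaf 2368) (.leaf 666)) (.node (.leaf 2247) (.leaf 0))) (.node (.node (.leaf 7309) (.leaf 0)) (.node (.leaf 1369) (.leaf 0))))) (.node (.node (.node (.node (.leaf 13827) (.leaf 10488)) (.node (.leaf 7152) (.leaf 0))) (.node (.node (.leaf 15468)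 (.leaf 0)) (.node (.leaf 19965) (.leaf 0)))) (.node (.node (.node (.leaf 11040) (.leaf 8513)) (.node (.leaf 4389) (.leaf 0))) (.node (.node (.leaf 159) (.leaf 0)) (.node (.leaf 953) (.leaf 0))))))) (.node (.node (.node (.node (.node (.node (.leaf 5851) (.leaf 5008)) (.node (.leaf 8174) (.leaf 0))) (.node (.node (.leaf 10550) (.leaf 0)) (.node (.leaf 19004) (.leaf 0)))) (.node (.node (.node (.leaf 18308) (.leaf 14304)) (.node (.leaf 944) (.leaf 0))) (.node (.node (.leaf 6569) (.leaf 0)) (.node (.leaf 13302) (.leaf 0))))) (.node (.node (.node (.node (.leaf 11157) (.leaf 15867)) (.node (.leaf 20269) (.leaf 0))) (.node (.node (.leaf 7270) (.leaf 0)) (.node (.leaf 6002) (.leaf 0)))) (.node (.node (.node (.leaf 4686) (.leaf 7018)) (.node (.leaf 1538) (.leaf 0))) (.node (.node (.leaf 2435) (.leaf 0)) (.node (.leaf 15371) (.leaf 0)))))) (.node (.node (.node (.node (.node (.leaf 169) (.leaf 12444)) (.node (.leaf 8480) (.leaf 0))) (.node (.node (.leaf 2828) (.leaf 0)) (.node (.leaf 8755) (.leaf 0)))) (.node (.node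 (.node (.leaf 14089) (.leaf 14417)) (.node (.leaf 18028) (.leaf 0))) (.node (.node (.leaf 18437) (.leaf 0)) (.node (.leaf 11944) (.leaf 0))))) (.node (.node (.node (.node (.leaf 18100) (.leaf 3873)) (.node (.leaf 6837) (.leaf 0))) (.node (.node (.leaf 8485) (.leaf 0)) (.node (.leaf 17446) (.leaf 0)))) (.node (.node (.node (.leaf 1719) (.leaf 12511)) (.node (.leaf 5438) (.leaf 0))) (.node (.node (.leaf 17342) (.leaf 0)) (.node (.leaf 8028) (.leaf 0))))))))

def omT63 : NT := .node (.node (.node (.node (.node (.node (.node (.node (.leaf 7124) (.leaf 19537)) (.node (.leaf 1926) (.leaf 0))) (.node (.node (.leaf 7797) (.leaf 0)) (.node (.leaf 18799) (.leaf 0)))) (.node (.node (.node (.leaf 7172) (.leaf 9774)) (.node (.leaf 14450) (.leaf 0))) (.node (.node (.leaf 7918) (.leaf 0)) (.node (.leaf 10884) (.leaf 0))))) (.node (.node (.node (.node (.leaf 18149) (.leaf 13785)) (.node (.leaf 6017) (.leaf 0))) (.node (.node (.leaf 13305) (.leaf 0)) (.node (.leaf 17251) (.leaf 0)))) (.node (.node (.node (.leaf 15063)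 (.leaf 1713)) (.node (.leaf 311) (.leaf 0))) (.node (.node (.leaf 17612) (.leaf 0)) (.node (.leaf 16001) (.leaf 0)))))) (.node (.node (.node (.node (.node (.leaf 11008) (.leaf 468)) (.node (.leaf 7132) (.leaf 0))) (.node (.node (.leaf 6482) (.leaf 0)) (.node (.leaf 17402) (.leaf 0)))) (.node (.node (.node (.leaf 603) (.leaf 9583)) (.node (.leaf 4283) (.leaf 0))) (.node (.node (.leaf 9638) (.leaf 0)) (.node (.leaf 14867) (.leaf 0))))) (.node (.node (.node (.node (.leaf 16672) (.leaf 19893)) (.node (.leaf 6836) (.leaf 0))) (.node (.node (.leaf 17870) (.leaf 0)) (.node (.leaf 973) (.leaf 0)))) (.node (.node (.node (.leaf 971) (.leaf 10241)) (.node (.leaf 69) (.leaf 0))) (.node (.node (.leaf 7231) (.leaf 0)) (.node (.leaf 1291) (.leaf 0))))))) (.node (.node (.node (.node (.node (.node (.leaf 5803) (.leaf 1123)) (.node (.leaf 6166) (.leaf 0))) (.node (.node (.leaf 16054) (.leaf 0)) (.node (.leaf 18972) (.leaf 0)))) (.node (.node (.node (.leaf 10811) (.leaf 18083)) (.node (.leaf 5715) (.leaf 0))) (.node (.node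 (.leaf 14777) (.leaf 0)) (.node (.leaf 14672) (.leaf 0))))) (.node (.node (.node (.node (.leaf 693) (.leaf 9362)) (.node (.leaf 16455) (.leaf 0))) (.node (.node (.leaf 20150) (.leaf 0)) (.node (.leaf 17354) (.leaf 0)))) (.node (.node (.node (.leaf 20363) (.leaf 2416)) (.node (.leaf 9292) (.leaf 0))) (.node (.node (.leaf 4804) (.leaf 0)) (.node (.leaf 1562) (.leaf 0)))))) (.node (.node (.node (.node (.node (.leaf 11379) (.leaf 17700)) (.node (.leaf 760) (.leaf 0))) (.node (.node (.leaf 2186) (.leaf 0)) (.node (.leaf 11742) (.leaf 0)))) (.node (.node (.node (.leaf 17166) (.leaf 12361)) (.node (.leaf 12914) (.leaf 0))) (.node (.node (.leaf 7145) (.leaf 0)) (.node (.leaf 11211) (.leaf 0))))) (.node (.node (.node (.node (.leaf 13280) (.leaf 2809)) (.node (.leaf 11263) (.leaf 0))) (.node (.node (.leaf 16584) (.leaf 0)) (.node (.leaf 8069) (.leaf 0)))) (.node (.node (.node (.leaf 3592) (.leaf 19131)) (.node (.leaf 13594) (.leaf 0))) (.node (.node (.leaf 18263) (.leaf 0)) (.node (.leaf 4970) (.leaf 0)))))))) (.node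 (.node (.node (.node (.node (.node (.node (.leaf 3327) (.leaf 13571)) (.node (.leaf 5083) (.leaf 0))) (.node (.node (.leaf 16802) (.leaf 0)) (.node (.leaf 7074) (.leaf 0)))) (.node (.node (.node (.leaf 3743) (.leaf 12824)) (.node (.leaf 14945) (.leaf 0))) (.node (.node (.leaf 6378) (.leaf 0)) (.node (.leaf 19527) (.leaf 0))))) (.node (.node (.node (.node (.leaf 4038) (.leaf 19419)) (.node (.leaf 6022) (.leaf 0))) (.node (.node (.leaf 8618) (.leaf 0)) (.node (.leaf 11564) (.leaf 0)))) (.node (.node (.node (.leaf 7983) (.leaf 14375)) (.node (.leaf 5479) (.leaf 0))) (.node (.node (.leaf 11571) (.leaf 0)) (.node (.leaf 19481) (.leaf 0)))))) (.node (.node (.node (.node (.node (.leaf 6105) (.leaf 18080)) (.node (.leaf 11623) (.leaf 0))) (.node (.node (.leaf 7158) (.leaf 0)) (.node (.leaf 14028) (.leaf 0)))) (.node (.node (.node (.leaf 13886) (.leaf 17622)) (.node (.leaf 11713) (.leaf 0))) (.node (.node (.leaf 8512) (.leaf 0)) (.node (.leaf 6362) (.leaf 0))))) (.node (.node (.node (.node (.leaf 18078) (.leaf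 10573)) (.node (.leaf 17710) (.leaf 0))) (.node (.node (.leaf 3283) (.leaf 0)) (.node (.leaf 941) (.leaf 0)))) (.node (.node (.node (.leaf 9896) (.leaf 6972)) (.node (.leaf 9259) (.leaf 0))) (.node (.node (.leaf 12547) (.leaf 0)) (.node (.leaf 10157) (.leaf 0))))))) (.node (.node (.node (.node (.node (.node (.leaf 2254) (.leaf 11678)) (.node (.leaf 18415) (.leaf 0))) (.node (.node (.leaf 9080) (.leaf 0)) (.node (.leaf 11989) (.leaf 0)))) (.node (.node (.node (.leaf 1642) (.leaf 13370)) (.node (.leaf 1586) (.leaf 0))) (.node (.node (.leaf 5746) (.leaf 0)) (.node (.leaf 8457) (.leaf 0))))) (.node (.node (.node (.node (.leaf 1492) (.leaf 8222)) (.node (.leaf 6280) (.leaf 0))) (.node (.node (.leaf 11727) (.leaf 0)) (.node (.leaf 20360) (.leaf 0)))) (.node (.node (.node (.leaf 208) (.leaf 130)) (.node (.leaf 8333) (.leaf 0))) (.node (.node (.leaf 2580) (.leaf 0)) (.node (.leaf 20404) (.leaf 0)))))) (.node (.node (.node (.node (.node (.leaf 19522) (.leaf 11419)) (.node (.leaf 7253) (.leaf 0))) (.node (.node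 (.leaf 5861) (.leaf 0)) (.node (.leaf 5498) (.leaf 0)))) (.node (.node (.node (.leaf 245) (.leaf 14503)) (.node (.leaf 14480) (.leaf 0))) (.node (.node (.leaf 10080) (.leaf 0)) (.node (.leaf 14595) (.leaf 0))))) (.node (.node (.node (.node (.leaf 19029) (.leaf 2217)) (.node (.leaf 17845) (.leaf 0))) (.node (.node (.leaf 13363) (.leaf 0)) (.node (.leaf 9104) (.leaf 0)))) (.node (.node (.node (.leaf 19805) (.leaf 5894)) (.node (.leaf 12190) (.leaf 0))) (.node (.node (.leaf 15618) (.leaf 0)) (.node (.leaf 1701) (.leaf 0))))))))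

def omT64 : NT := .node (.node (.node (.node (.node (.node (.node (.node (.leaf 16714) (.leaf 8144)) (.node (.leaf 12376) (.leaf 0))) (.node (.node (.leaf 11006) (.leaf 0)) (.node (.leaf 6178) (.leaf 0)))) (.node (.node (.node (.leaf 16439) (.leaf 11659)) (.node (.leaf 7456) (.leaf 0))) (.node (.node (.leaf 18552) (.leaf 0)) (.node (.leaf 16834) (.leaf 0))))) (.node (.node (.node (.node (.leaf 7418) (.leaf 14494)) (.node (.leaf 8362) (.leaf 0))) (.node (.node (.leaf 13751) (.leaf 0)) (.node (.leaf 1747) (.leaf 0)))) (.node (.node (.node (.leaf 19171) (.leaf 13648)) (.node (.leaf 9305) (.leaf 0))) (.node (.node (.leaf 18068) (.leaf 0)) (.node (.leaf 19396) (.leaf 0)))))) (.node (.node (.node (.node (.node (.leaf 7990) (.leaf 9801)) (.node (.leaf 17625) (.leaf 0))) (.node (.node (.leaf 13403) (.leaf 0)) (.node (.leaf 18012) (.leaf 0)))) (.node (.node (.node (.leaf 1481) (.leaf 7730)) (.node (.leaf 18228) (.leaf 0))) (.node (.node (.leaf 560) (.leaf 0)) (.node (.leaf 8414) (.leaf 0))))) (.node (.node (.node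 (.node (.leaf 10613) (.leaf 8431)) (.node (.leaf 1856) (.leaf 0))) (.node (.node (.leaf 6224) (.leaf 0)) (.node (.leaf 9395) (.leaf 0)))) (.node (.node (.node (.leaf 16217) (.leaf 2259)) (.node (.leaf 7334) (.leaf 0))) (.node (.node (.leaf 10624) (.leaf 0)) (.node (.leaf 18315) (.leaf 0))))))) (.node (.node (.node (.node (.node (.node (.leaf 13423) (.leaf 17924)) (.node (.leaf 13387) (.leaf 0))) (.node (.node (.leaf 15551) (.leaf 0)) (.node (.leaf 14475) (.leaf 0)))) (.node (.node (.node (.leaf 13847) (.leaf 4123)) (.node (.leaf 10493) (.leaf 0))) (.node (.node (.leaf 19951) (.leaf 0)) (.node (.leaf 5565) (.leaf 0))))) (.node (.node (.node (.node (.leaf 5054) (.leaf 743)) (.node (.leaf 7282) (.leaf 0))) (.node (.node (.leaf 11664) (.leaf 0)) (.node (.leaf 9791) (.leaf 0)))) (.node (.node (.node (.leaf 20178) (.leaf 4949)) (.node (.leaf 13015) (.leaf 0))) (.node (.node (.leaf 3002) (.leaf 0)) (.node (.leaf 13062) (.leaf 0)))))) (.node (.node (.node (.node (.node (.leaf 2073) (.leaf 19289)) (.node (.leaf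 491) (.leaf 0))) (.node (.node (.leaf 4151) (.leaf 0)) (.node (.leaf 2843) (.leaf 0)))) (.node (.node (.node (.leaf 10596) (.leaf 16756)) (.node (.leaf 11847) (.leaf 0))) (.node (.node (.leaf 13145) (.leaf 0)) (.node (.leaf 8847) (.leaf 0))))) (.node (.node (.node (.node (.leaf 5427) (.leaf 10294)) (.node (.leaf 10278) (.leaf 0))) (.node (.node (.leaf 16643) (.leaf 0)) (.node (.leaf 16858) (.leaf 0)))) (.node (.node (.node (.leaf 19093) (.leaf 3576)) (.node (.leaf 6457) (.leaf 0))) (.node (.node (.leaf 7038) (.leaf 0)) (.node (.leaf 2980) (.leaf 0)))))))) (.node (.node (.node (.node (.node (.node (.node (.leaf 5136) (.leaf 2189)) (.node (.leaf 14218) (.leaf 0))) (.node (.node (.leaf 16779) (.leaf 0)) (.node (.leaf 2999) (.leaf 0)))) (.node (.node (.node (.leaf 19731) (.leaf 11276)) (.node (.leaf 2749) (.leaf 0))) (.node (.node (.leaf 13626) (.leaf 0)) (.node (.leaf 2892) (.leaf 0))))) (.node (.node (.node (.node (.leaf 19324) (.leaf 2501)) (.node (.leaf 18537) (.leaf 0))) (.node (.node (.leaf 11308) (.leaf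 0)) (.node (.leaf 885) (.leaf 0)))) (.node (.node (.node (.leaf 18395) (.leaf 20456)) (.node (.leaf 13566) (.leaf 0))) (.node (.node (.leaf 19233) (.leaf 0)) (.node (.leaf 13729) (.leaf 0)))))) (.node (.node (.node (.node (.node (.leaf 2381) (.leaf 8351)) (.node (.leaf 11181) (.leaf 0))) (.node (.node (.leaf 1479) (.leaf 0)) (.node (.leaf 1995) (.leaf 0)))) (.node (.node (.node (.leaf 6592) (.leaf 9455)) (.node (.leaf 5003) (.leaf 0))) (.node (.node (.leaf 15897) (.leaf 0)) (.node (.leaf 11116) (.leaf 0))))) (.node (.node (.node (.node (.leaf 4320) (.leaf 14988)) (.node (.leaf 14550) (.leaf 0))) (.node (.node (.leaf 12718) (.leaf 0)) (.node (.leaf 15767) (.leaf 0)))) (.node (.node (.node (.leaf 16596) (.leaf 14640)) (.node (.leaf 7238) (.leaf 0))) (.node (.node (.leaf 3777) (.leaf 0)) (.node (.leaf 6664) (.leaf 0))))))) (.node (.node (.node (.node (.node (.node (.leaf 2271) (.leaf 11389)) (.node (.leaf 11228) (.leaf 0))) (.node (.node (.leaf 3239) (.leaf 0)) (.node (.leaf 17610) (.leaf 0)))) (.node (.node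 (.node (.leaf 8339) (.leaf 12443)) (.node (.leaf 7837) (.leaf 0))) (.node (.node (.leaf 684) (.leaf 0)) (.node (.leaf 17123) (.leaf 0))))) (.node (.node (.node (.node (.leaf 19393) (.leaf 2137)) (.node (.leaf 8255) (.leaf 0))) (.node (.node (.leaf 1456) (.leaf 0)) (.node (.leaf 121) (.leaf 0)))) (.node (.node (.node (.leaf 16921) (.leaf 10406)) (.node (.leaf 7690) (.leaf 0))) (.node (.node (.leaf 14066) (.leaf 0)) (.node (.leaf 4171) (.leaf 0)))))) (.node (.node (.node (.node (.node (.leaf 12566) (.leaf 9062)) (.node (.leaf 18737) (.leaf 0))) (.node (.node (.leaf 5533) (.leaf 0)) (.node (.leaf 6829) (.leaf 0)))) (.node (.node (.node (.leaf 3973) (.leaf 10674)) (.node (.leaf 11481) (.leaf 0))) (.node (.node (.leaf 19127) (.leaf 0)) (.node (.leaf 11956) (.leaf 0))))) (.node (.node (.node (.node (.leaf 7928) (.leaf 4947)) (.node (.leaf 17830) (.leaf 0))) (.node (.node (.leaf 6902) (.leaf 0)) (.node (.leaf 18981) (.leaf 0)))) (.node (.node (.node (.leaf 2027) (.leaf 2687)) (.node (.leaf 5961) (.leaf 0))) (.node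 (.node (.leaf 2760) (.leaf 0)) (.node (.leaf 9553) (.leaf 0))))))))

def omT65 : NT := .node (.node (.node (.node (.node (.node (.node (.node (.leaf 15496) (.leaf 2425)) (.node (.leaf 7213) (.leaf 0))) (.node (.node (.leaf 10142) (.leaf 0)) (.node (.leaf 13338) (.leaf 0)))) (.node (.node (.node (.leaf 8325) (.leaf 4352)) (.node (.leaf 2829) (.leaf 0))) (.node (.node (.leaf 4325) (.leaf 0)) (.node (.leaf 17857) (.leaf 0))))) (.node (.node (.node (.node (.leaf 5713) (.leaf 6008)) (.node (.leaf 3786) (.leaf 0))) (.node (.node (.leaf 272) (.leaf 0)) (.node (.leaf 2754) (.leaf 0)))) (.node (.node (.node (.leaf 13414) (.leaf 17538)) (.node (.leaf 8021) (.leaf 0))) (.node (.node (.leaf 17966) (.leaf 0)) (.node (.leaf 8580) (.leaf 0)))))) (.node (.node (.node (.node (.node (.leaf 4224) (.leaf 1488)) (.node (.leaf 5399) (.leaf 0))) (.node (.node (.leaf 15360) (.leaf 0)) (.node (.leaf 14700) (.leaf 0)))) (.node (.node (.node (.leaf 20512) (.leaf 15188)) (.node (.leaf 10118) (.leaf 0))) (.node (.node (.leaf 9007)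 (.leaf 0)) (.node (.leaf 18106) (.leaf 0))))) (.node (.node (.node (.node (.leaf 12488) (.leaf 11870)) (.node (.leaf 2196) (.leaf 0))) (.node (.node (.leaf 8867) (.leaf 0)) (.node (.leaf 18436) (.leaf 0)))) (.node (.node (.node (.leaf 10509) (.leaf 2028)) (.node (.leaf 11521) (.leaf 0))) (.node (.node (.leaf 870) (.leaf 0)) (.node (.leaf 770) (.leaf 0))))))) (.node (.node (.node (.node (.node (.node (.leaf 12696) (.leaf 14677)) (.node (.leaf 18383) (.leaf 0))) (.node (.node (.leaf 17082) (.leaf 0)) (.node (.leaf 12336) (.leaf 0)))) (.node (.node (.node (.leaf 7180) (.leaf 19400)) (.node (.leaf 4588) (.leaf 0))) (.node (.node (.leaf 10654) (.leaf 0)) (.node (.leaf 5253) (.leaf 0))))) (.node (.node (.node (.node (.leaf 8295) (.leaf 2114)) (.node (.leaf 19820) (.leaf 0))) (.node (.node (.leaf 12278) (.leaf 0)) (.node (.leaf 2215) (.leaf 0)))) (.node (.node (.node (.leaf 13782) (.leaf 11425)) (.node (.leaf 3932) (.leaf 0))) (.node (.node (.leaf 16102) (.leaf 0)) (.node (.leaf 10525) (.leaf 0)))))) (.node (.node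 (.node (.node (.node (.leaf 16042) (.leaf 202)) (.node (.leaf 14913) (.leaf 0))) (.node (.node (.leaf 16003) (.leaf 0)) (.node (.leaf 15803) (.leaf 0)))) (.node (.node (.node (.leaf 20141) (.leaf 9457)) (.node (.leaf 18822) (.leaf 0))) (.node (.node (.leaf 10750) (.leaf 0)) (.node (.leaf 6509) (.leaf 0))))) (.node (.node (.node (.node (.leaf 6726) (.leaf 12074)) (.node (.leaf 20138) (.leaf 0))) (.node (.node (.leaf 12161) (.leaf 0)) (.node (.leaf 528) (.leaf 0)))) (.node (.node (.node (.leaf 19955) (.leaf 15785)) (.node (.leaf 18195) (.leaf 0))) (.node (.node (.leaf 7525) (.leaf 0)) (.node (.leaf 590) (.leaf 0)))))))) (.node (.node (.node (.node (.node (.node (.node (.leaf 7609) (.leaf 304)) (.node (.leaf 6374) (.leaf 0))) (.node (.node (.leaf 16735) (.leaf 0)) (.node (.leaf 19926) (.leaf 0)))) (.node (.node (.node (.leaf 14137) (.leaf 1046)) (.node (.leaf 9936) (.leaf 0))) (.node (.node (.leaf 768) (.leaf 0)) (.node (.leaf 4606) (.leaf 0))))) (.node (.node (.node (.node (.leaf 17340) (.leaf 11194)) (.node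 (.leaf 2544) (.leaf 0))) (.node (.node (.leaf 10282) (.leaf 0)) (.node (.leaf 12453) (.leaf 0)))) (.node (.node (.node (.leaf 8077) (.leaf 15051)) (.node (.leaf 8018) (.leaf 0))) (.node (.node (.leaf 15735) (.leaf 0)) (.node (.leaf 12865) (.leaf 0)))))) (.node (.node (.node (.node (.node (.leaf 19797) (.leaf 17370)) (.node (.leaf 16504) (.leaf 0))) (.node (.node (.leaf 11748) (.leaf 0)) (.node (.leaf 8863) (.leaf 0)))) (.node (.node (.node (.leaf 6474) (.leaf 14227)) (.node (.leaf 18102) (.leaf 0))) (.node (.node (.leaf 5512) (.leaf 0)) (.node (.leaf 8112) (.leaf 0))))) (.node (.node (.node (.node (.leaf 19981) (.leaf 10826)) (.node (.leaf 19244) (.leaf 0))) (.node (.node (.leaf 13721) (.leaf 0)) (.node (.leaf 17949) (.leaf 0)))) (.node (.node (.node (.leaf 18364) (.leaf 4995)) (.node (.leaf 16644) (.leaf 0))) (.node (.node (.leaf 8326) (.leaf 0)) (.node (.leaf 8930) (.leaf 0))))))) (.node (.node (.node (.node (.node (.node (.leaf 12034) (.leaf 15409)) (.node (.leaf 13596) (.leaf 0))) (.node (.node (.leaf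 5382) (.leaf 0)) (.node (.leaf 5117) (.leaf 0)))) (.node (.node (.node (.leaf 17739) (.leaf 20152)) (.node (.leaf 14354) (.leaf 0))) (.node (.node (.leaf 9450) (.leaf 0)) (.node (.leaf 8770) (.leaf 0))))) (.node (.node (.node (.node (.leaf 14160) (.leaf 18785)) (.node (.leaf 16531) (.leaf 0))) (.node (.node (.leaf 20057) (.leaf 0)) (.node (.leaf 7554) (.leaf 0)))) (.node (.node (.node (.leaf 3044) (.leaf 20443)) (.node (.leaf 19439) (.leaf 0))) (.node (.node (.leaf 5026) (.leaf 0)) (.node (.leaf 14168) (.leaf 0)))))) (.node (.node (.node (.node (.node (.leaf 17062) (.leaf 17357)) (.node (.leaf 17032) (.leaf 0))) (.node (.node (.leaf 978) (.leaf 0)) (.node (.leaf 7847) (.leaf 0)))) (.node (.node (.node (.leaf 2056) (.leaf 19745)) (.node (.leaf 19521) (.leaf 0))) (.node (.node (.leaf 20451) (.leaf 0)) (.node (.leaf 1332) (.leaf 0))))) (.node (.node (.node (.node (.leaf 2083) (.leaf 10263)) (.node (.leaf 4116) (.leaf 0))) (.node (.node (.leaf 4269) (.leaf 0)) (.node (.leaf 237) (.leaf 0)))) (.node (.node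 (.node (.leaf 1833) (.leaf 2569)) (.node (.leaf 4089) (.leaf 0))) (.node (.node (.leaf 5061) (.leaf 0)) (.node (.leaf 4079) (.leaf 0))))))))

def omT66 : NT := .node (.node (.node (.node (.node (.node (.node (.node (.leaf 47) (.leaf 19619)) (.node (.leaf 5592) (.leaf 0))) (.node (.node (.leaf 10785) (.leaf 0)) (.node (.leaf 17530) (.leaf 0)))) (.node (.node (.node (.leaf 9025) (.leaf 8632)) (.node (.leaf 10042) (.leaf 0))) (.node (.node (.leaf 1730) (.leaf 0)) (.node (.leaf 8158) (.leaf 0))))) (.node (.node (.node (.node (.leaf 13018) (.leaf 14038)) (.node (.leaf 5769) (.leaf 0))) (.node (.node (.leaf 7615) (.leaf 0)) (.node (.leaf 4391) (.leaf 0)))) (.node (.node (.node (.leaf 12969) (.leaf 2406)) (.node (.leaf 11367) (.leaf 0))) (.node (.node (.leaf 11130) (.leaf 0)) (.node (.leaf 16933) (.leaf 0)))))) (.node (.node (.node (.node (.node (.leaf 2093) (.leaf 13891)) (.node (.leaf 126) (.leaf 0))) (.node (.node (.leaf 3729) (.leaf 0)) (.node (.leaf 5154) (.leaf 0)))) (.node (.node (.node (.leaf 17711) (.leaf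 4886)) (.node (.leaf 15890) (.leaf 0))) (.node (.node (.leaf 4785) (.leaf 0)) (.node (.leaf 16085) (.leaf 0))))) (.node (.node (.node (.node (.leaf 6716) (.leaf 18784)) (.node (.leaf 11674) (.leaf 0))) (.node (.node (.leaf 2819) (.leaf 0)) (.node (.leaf 4432) (.leaf 0)))) (.node (.node (.node (.leaf 3405) (.leaf 2092)) (.node (.leaf 19275) (.leaf 0))) (.node (.node (.leaf 2216) (.leaf 0)) (.node (.leaf 17902) (.leaf 0))))))) (.node (.node (.node (.node (.node (.node (.leaf 17495) (.leaf 3882)) (.node (.leaf 18397) (.leaf 0))) (.node (.node (.leaf 18441) (.leaf 0)) (.node (.leaf 13445) (.leaf 0)))) (.node (.node (.node (.leaf 7563) (.leaf 18971)) (.node (.leaf 3115) (.leaf 0))) (.node (.node (.leaf 20106) (.leaf 0)) (.node (.leaf 1707) (.leaf 0))))) (.node (.node (.node (.node (.leaf 16899) (.leaf 4962)) (.node (.leaf 220) (.leaf 0))) (.node (.node (.leaf 16046) (.leaf 0)) (.node (.leaf 11134) (.leaf 0)))) (.node (.node (.node (.leaf 1758) (.leaf 2937)) (.node (.leaf 2317) (.leaf 0))) (.node (.node (.leaf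 19088) (.leaf 0)) (.node (.leaf 4483) (.leaf 0)))))) (.node (.node (.node (.node (.node (.leaf 12396) (.leaf 18539)) (.node (.leaf 3374) (.leaf 0))) (.node (.node (.leaf 4293) (.leaf 0)) (.node (.leaf 18965) (.leaf 0)))) (.node (.node (.node (.leaf 12133) (.leaf 5073)) (.node (.leaf 11101) (.leaf 0))) (.node (.node (.leaf 19371) (.leaf 0)) (.node (.leaf 13996) (.leaf 0))))) (.node (.node (.node (.node (.leaf 18467) (.leaf 6377)) (.node (.leaf 5663) (.leaf 0))) (.node (.node (.leaf 20477) (.leaf 0)) (.node (.leaf 3310) (.leaf 0)))) (.node (.node (.node (.leaf 2057) (.leaf 18636)) (.node (.leaf 2602) (.leaf 0))) (.node (.node (.leaf 15779) (.leaf 0)) (.node (.leaf 18283) (.leaf 0)))))))) (.node (.node (.node (.node (.node (.node (.node (.leaf 16158) (.leaf 12517)) (.node (.leaf 11636) (.leaf 0))) (.node (.node (.leaf 3752) (.leaf 0)) (.node (.leaf 3089) (.leaf 0)))) (.node (.node (.node (.leaf 12900) (.leaf 18482)) (.node (.leaf 10448) (.leaf 0))) (.node (.node (.leaf 3294) (.leaf 0)) (.node (.leaf 17836)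 (.leaf 0))))) (.node (.node (.node (.node (.leaf 6845) (.leaf 9107)) (.node (.leaf 14033) (.leaf 0))) (.node (.node (.leaf 3888) (.leaf 0)) (.node (.leaf 13093) (.leaf 0)))) (.node (.node (.node (.leaf 13254) (.leaf 3992)) (.node (.leaf 15244) (.leaf 0))) (.node (.node (.leaf 12625) (.leaf 0)) (.node (.leaf 2209) (.leaf 0)))))) (.node (.node (.node (.node (.node (.leaf 15036) (.leaf 9370)) (.node (.leaf 16645) (.leaf 0))) (.node (.node (.leaf 6158) (.leaf 0)) (.node (.leaf 14352) (.leaf 0)))) (.node (.node (.node (.leaf 2720) (.leaf 10269)) (.node (.leaf 3573) (.leaf 0))) (.node (.node (.leaf 14782) (.leaf 0)) (.node (.leaf 9298) (.leaf 0))))) (.node (.node (.node (.node (.leaf 16704) (.leaf 7188)) (.node (.leaf 13551) (.leaf 0))) (.node (.node (.leaf 20507) (.leaf 0)) (.node (.leaf 3946) (.leaf 0)))) (.node (.node (.node (.leaf 10523) (.leaf 3122)) (.node (.leaf 10419) (.leaf 0))) (.node (.node (.leaf 16771) (.leaf 0)) (.node (.leaf 232) (.leaf 0))))))) (.node (.node (.node (.node (.node (.node (.leaf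 16374) (.leaf 4170)) (.node (.leaf 5665) (.leaf 0))) (.node (.node (.leaf 6239) (.leaf 0)) (.node (.leaf 19194) (.leaf 0)))) (.node (.node (.node (.leaf 6242) (.leaf 16829)) (.node (.leaf 8978) (.leaf 0))) (.node (.node (.leaf 15378) (.leaf 0)) (.node (.leaf 9763) (.leaf 0))))) (.node (.node (.node (.node (.leaf 9711) (.leaf 10620)) (.node (.leaf 20466) (.leaf 0))) (.node (.node (.leaf 412) (.leaf 0)) (.node (.leaf 4162) (.leaf 0)))) (.node (.node (.node (.leaf 8983) (.leaf 15280)) (.node (.leaf 18463) (.leaf 0))) (.node (.node (.leaf 3218) (.leaf 0)) (.node (.leaf 7493) (.leaf 0)))))) (.node (.node (.node (.node (.node (.leaf 871) (.leaf 15398)) (.node (.leaf 17928) (.leaf 0))) (.node (.node (.leaf 8522) (.leaf 0)) (.node (.leaf 3585) (.leaf 0)))) (.node (.node (.node (.leaf 3862) (.leaf 9156)) (.node (.leaf 18797) (.leaf 0))) (.node (.node (.leaf 589) (.leaf 0)) (.node (.leaf 8782) (.leaf 0))))) (.node (.node (.node (.node (.leaf 7752) (.leaf 6039)) (.node (.leaf 18330) (.leaf 0))) (.node (.node (.leaf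 17128) (.leaf 0)) (.node (.leaf 1129) (.leaf 0)))) (.node (.node (.node (.leaf 18172) (.leaf 3923)) (.node (.leaf 13677) (.leaf 0))) (.node (.node (.leaf 6648) (.leaf 0)) (.node (.leaf 19693) (.leaf 0))))))))

def omT67 : NT := .node (.node (.node (.node (.node (.node (.node (.node (.leaf 19646) (.leaf 20216)) (.node (.leaf 16266) (.leaf 0))) (.node (.node (.leaf 18950) (.leaf 0)) (.node (.leaf 5941) (.leaf 0)))) (.node (.node (.node (.leaf 875) (.leaf 8142)) (.node (.leaf 704) (.leaf 0))) (.node (.node (.leaf 6753) (.leaf 0)) (.node (.leaf 16679) (.leaf 0))))) (.node (.node (.node (.node (.leaf 365) (.leaf 11537)) (.node (.leaf 1716) (.leaf 0))) (.node (.node (.leaf 1108) (.leaf 0)) (.node (.leaf 14930) (.leaf 0)))) (.node (.node (.node (.leaf 4394) (.leaf 13660)) (.node (.leaf 13684) (.leaf 0))) (.node (.node (.leaf 471) (.leaf 0)) (.node (.leaf 16330) (.leaf 0)))))) (.node (.node (.node (.node (.node (.leaf 12295) (.leaf 7509)) (.node (.leaf 16396) (.leaf 0))) (.node (.node (.leaf 3493) (.leaf 0)) (.node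 (.leaf 17121) (.leaf 0)))) (.node (.node (.node (.leaf 17041) (.leaf 3809)) (.node (.leaf 2118) (.leaf 0))) (.node (.node (.leaf 7902) (.leaf 0)) (.node (.leaf 12811) (.leaf 0))))) (.node (.node (.node (.node (.leaf 18245) (.leaf 1303)) (.node (.leaf 1550) (.leaf 0))) (.node (.node (.leaf 10508) (.leaf 0)) (.node (.leaf 17771) (.leaf 0)))) (.node (.node (.node (.leaf 10726) (.leaf 19133)) (.node (.leaf 16288) (.leaf 0))) (.node (.node (.leaf 6268) (.leaf 0)) (.node (.leaf 17466) (.leaf 0))))))) (.node (.node (.node (.node (.node (.node (.leaf 16039) (.leaf 4770)) (.node (.leaf 8197) (.leaf 0))) (.node (.node (.leaf 1661) (.leaf 0)) (.node (.leaf 19469) (.leaf 0)))) (.node (.node (.node (.leaf 683) (.leaf 8272)) (.node (.leaf 14261) (.leaf 0))) (.node (.node (.leaf 4848) (.leaf 0)) (.node (.leaf 5712) (.leaf 0))))) (.node (.node (.node (.node (.leaf 13474) (.leaf 6352)) (.node (.leaf 16660) (.leaf 0))) (.node (.node (.leaf 4800) (.leaf 0)) (.node (.leaf 6931) (.leaf 0)))) (.node (.node (.node (.leaf 8679)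 (.leaf 5834)) (.node (.leaf 5869) (.leaf 0))) (.node (.node (.leaf 15403) (.leaf 0)) (.node (.leaf 12590) (.leaf 0)))))) (.node (.node (.node (.node (.node (.leaf 18917) (.leaf 4827)) (.node (.leaf 6502) (.leaf 0))) (.node (.node (.leaf 15319) (.leaf 0)) (.node (.leaf 13868) (.leaf 0)))) (.node (.node (.node (.leaf 19025) (.leaf 5735)) (.node (.leaf 1858) (.leaf 0))) (.node (.node (.leaf 3270) (.leaf 0)) (.node (.leaf 17161) (.leaf 0))))) (.node (.node (.node (.node (.leaf 11849) (.leaf 11489)) (.node (.leaf 7876) (.leaf 0))) (.node (.node (.leaf 3219) (.leaf 0)) (.node (.leaf 12510) (.leaf 0)))) (.node (.node (.node (.leaf 420) (.leaf 13539)) (.node (.leaf 2405) (.leaf 0))) (.node (.node (.leaf 5687) (.leaf 0)) (.node (.leaf 7395) (.leaf 0)))))))) (.node (.node (.node (.node (.node (.node (.node (.leaf 9759) (.leaf 3046)) (.node (.leaf 14359) (.leaf 0))) (.node (.node (.leaf 20144) (.leaf 0)) (.node (.leaf 17336) (.leaf 0)))) (.node (.node (.node (.leaf 19136) (.leaf 9565)) (.node (.leaf 3263) (.leaf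 0))) (.node (.node (.leaf 3550) (.leaf 0)) (.node (.leaf 12815) (.leaf 0))))) (.node (.node (.node (.node (.leaf 17297) (.leaf 4113)) (.node (.leaf 3096) (.leaf 0))) (.node (.node (.leaf 4455) (.leaf 0)) (.node (.leaf 20004) (.leaf 0)))) (.node (.node (.node (.leaf 927) (.leaf 10742)) (.node (.leaf 11622) (.leaf 0))) (.node (.node (.leaf 19948) (.leaf 0)) (.node (.leaf 2826) (.leaf 0)))))) (.node (.node (.node (.node (.node (.leaf 3578) (.leaf 19757)) (.node (.leaf 12803) (.leaf 0))) (.node (.node (.leaf 10307) (.leaf 0)) (.node (.leaf 2517) (.leaf 0)))) (.node (.node (.node (.leaf 10972) (.leaf 3982)) (.node (.leaf 3718) (.leaf 0))) (.node (.node (.leaf 17417) (.leaf 0)) (.node (.leaf 1606) (.leaf 0))))) (.node (.node (.node (.node (.leaf 3994) (.leaf 8223)) (.node (.leaf 16035) (.leaf 0))) (.node (.node (.leaf 19203) (.leaf 0)) (.node (.leaf 19825) (.leaf 0)))) (.node (.node (.node (.leaf 13526) (.leaf 15764)) (.node (.leaf 18411) (.leaf 0))) (.node (.node (.leaf 11243) (.leaf 0)) (.node (.leaf 936)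 (.leaf 0))))))) (.node (.node (.node (.node (.node (.node (.leaf 1815) (.leaf 17725)) (.node (.leaf 1666) (.leaf 0))) (.node (.node (.leaf 6140) (.leaf 0)) (.node (.leaf 612) (.leaf 0)))) (.node (.node (.node (.leaf 4775) (.leaf 6982)) (.node (.leaf 1953) (.leaf 0))) (.node (.node (.leaf 14576) (.leaf 0)) (.node (.leaf 6491) (.leaf 0))))) (.node (.node (.node (.node (.leaf 14117) (.leaf 19237)) (.node (.leaf 2396) (.leaf 0))) (.node (.node (.leaf 19626) (.leaf 0)) (.node (.leaf 6499) (.leaf 0)))) (.node (.node (.node (.leaf 9108) (.leaf 15211)) (.node (.leaf 12846) (.leaf 0))) (.node (.node (.leaf 6821) (.leaf 0)) (.node (.leaf 12096) (.leaf 0)))))) (.node (.node (.node (.node (.node (.leaf 10749) (.leaf 8134)) (.node (.leaf 16759) (.leaf 0))) (.node (.node (.leaf 18499) (.leaf 0)) (.node (.leaf 19624) (.leaf 0)))) (.node (.node (.node (.leaf 7941) (.leaf 18380)) (.node (.leaf 7386) (.leaf 0))) (.node (.node (.leaf 6283) (.leaf 0)) (.node (.leaf 12302) (.leaf 0))))) (.node (.node (.node (.node (.leaf 3880)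 (.leaf 15981)) (.node (.leaf 15445) (.leaf 0))) (.node (.node (.leaf 13073) (.leaf 0)) (.node (.leaf 17475) (.leaf 0)))) (.node (.node (.node (.leaf 17386) (.leaf 1274)) (.node (.leaf 11601) (.leaf 0))) (.node (.node (.leaf 6987) (.leaf 0)) (.node (.leaf 16181) (.leaf 0))))))))

def omT68 : NT := .node (.node (.node (.node (.node (.node (.node (.node (.leaf 3722) (.leaf 17493)) (.node (.leaf 16145) (.leaf 0))) (.node (.node (.leaf 1584) (.leaf 0)) (.node (.leaf 3454) (.leaf 0)))) (.node (.node (.node (.leaf 7580) (.leaf 12748)) (.node (.leaf 2443) (.leaf 0))) (.node (.node (.leaf 19808) (.leaf 0)) (.node (.leaf 3828) (.leaf 0))))) (.node (.node (.node (.node (.leaf 11135) (.leaf 12176)) (.node (.leaf 3249) (.leaf 0))) (.node (.node (.leaf 11318) (.leaf 0)) (.node (.leaf 248) (.leaf 0)))) (.node (.node (.node (.leaf 8104) (.leaf 6332)) (.node (.leaf 11345) (.leaf 0))) (.node (.node (.leaf 14953) (.leaf 0)) (.node (.leaf 10227) (.leaf 0)))))) (.node (.node (.node (.node (.node (.leaf 13142) (.leaf 8559))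 (.node (.leaf 9123) (.leaf 0))) (.node (.node (.leaf 13186) (.leaf 0)) (.node (.leaf 14068) (.leaf 0)))) (.node (.node (.node (.leaf 7062) (.leaf 18856)) (.node (.leaf 6455) (.leaf 0))) (.node (.node (.leaf 14391) (.leaf 0)) (.node (.leaf 11638) (.leaf 0))))) (.node (.node (.node (.node (.leaf 18365) (.leaf 1745)) (.node (.leaf 15653) (.leaf 0))) (.node (.node (.leaf 7071) (.leaf 0)) (.node (.leaf 8575) (.leaf 0)))) (.node (.node (.node (.leaf 2985) (.leaf 17613)) (.node (.leaf 7842) (.leaf 0))) (.node (.node (.leaf 17776) (.leaf 0)) (.node (.leaf 9053) (.leaf 0))))))) (.node (.node (.node (.node (.node (.node (.leaf 15424) (.leaf 1418)) (.node (.leaf 4527) (.leaf 0))) (.node (.node (.leaf 6127) (.leaf 0)) (.node (.leaf 17632) (.leaf 0)))) (.node (.node (.node (.leaf 15064) (.leaf 8913)) (.node (.leaf 16214) (.leaf 0))) (.node (.node (.leaf 90) (.leaf 0)) (.node (.leaf 12416) (.leaf 0))))) (.node (.node (.node (.node (.leaf 15915) (.leaf 16624)) (.node (.leaf 8717) (.leaf 0))) (.node (.node (.leaf 11617)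 (.leaf 0)) (.node (.leaf 12492) (.leaf 0)))) (.node (.node (.node (.leaf 19773) (.leaf 10327)) (.node (.leaf 11799) (.leaf 0))) (.node (.node (.leaf 17263) (.leaf 0)) (.node (.leaf 14813) (.leaf 0)))))) (.node (.node (.node (.node (.node (.leaf 5695) (.leaf 16781)) (.node (.leaf 7757) (.leaf 0))) (.node (.node (.leaf 17575) (.leaf 0)) (.node (.leaf 4873) (.leaf 0)))) (.node (.node (.node (.leaf 7245) (.leaf 17319)) (.node (.leaf 18711) (.leaf 0))) (.node (.node (.leaf 14374) (.leaf 0)) (.node (.leaf 18336) (.leaf 0))))) (.node (.node (.node (.node (.leaf 12055) (.leaf 16632)) (.node (.leaf 1984) (.leaf 0))) (.node (.node (.leaf 4753) (.leaf 0)) (.node (.leaf 19993) (.leaf 0)))) (.node (.node (.node (.leaf 1709) (.leaf 15275)) (.node (.leaf 1262) (.leaf 0))) (.node (.node (.leaf 14774) (.leaf 0)) (.node (.leaf 7903) (.leaf 0)))))))) (.node (.node (.node (.node (.node (.node (.node (.leaf 11) (.leaf 18128)) (.node (.leaf 15904) (.leaf 0))) (.node (.node (.leaf 13800) (.leaf 0)) (.node (.leaf 6679) (.leaf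 0)))) (.node (.node (.node (.leaf 13839) (.leaf 4266)) (.node (.leaf 19872) (.leaf 0))) (.node (.node (.leaf 10110) (.leaf 0)) (.node (.leaf 4249) (.leaf 0))))) (.node (.node (.node (.node (.leaf 14186) (.leaf 11911)) (.node (.leaf 7096) (.leaf 0))) (.node (.node (.leaf 543) (.leaf 0)) (.node (.leaf 12487) (.leaf 0)))) (.node (.node (.node (.leaf 1850) (.leaf 538)) (.node (.leaf 9935) (.leaf 0))) (.node (.node (.leaf 5650) (.leaf 0)) (.node (.leaf 13213) (.leaf 0)))))) (.node (.node (.node (.node (.node (.leaf 6706) (.leaf 11445)) (.node (.leaf 9071) (.leaf 0))) (.node (.node (.leaf 17509) (.leaf 0)) (.node (.leaf 5343) (.leaf 0)))) (.node (.node (.node (.leaf 12091) (.leaf 7446)) (.node (.leaf 4084) (.leaf 0))) (.node (.node (.leaf 14376) (.leaf 0)) (.node (.leaf 12626) (.leaf 0))))) (.node (.node (.node (.node (.leaf 20411) (.leaf 8902)) (.node (.leaf 9758) (.leaf 0))) (.node (.node (.leaf 3829) (.leaf 0)) (.node (.leaf 17698) (.leaf 0)))) (.node (.node (.node (.leaf 13317) (.leaf 12373)) (.node (.leaf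 2752) (.leaf 0))) (.node (.node (.leaf 6606) (.leaf 0)) (.node (.leaf 8752) (.leaf 0))))))) (.node (.node (.node (.node (.node (.node (.leaf 11872) (.leaf 11360)) (.node (.leaf 9675) (.leaf 0))) (.node (.node (.leaf 10689) (.leaf 0)) (.node (.leaf 8016) (.leaf 0)))) (.node (.node (.node (.leaf 7199) (.leaf 5001)) (.node (.leaf 10655) (.leaf 0))) (.node (.node (.leaf 3262) (.leaf 0)) (.node (.leaf 17558) (.leaf 0))))) (.node (.node (.node (.node (.leaf 14792) (.leaf 20314)) (.node (.leaf 1062) (.leaf 0))) (.node (.node (.leaf 15952) (.leaf 0)) (.node (.leaf 10512) (.leaf 0)))) (.node (.node (.node (.leaf 7516) (.leaf 13250)) (.node (.leaf 11121) (.leaf 0))) (.node (.node (.leaf 3930) (.leaf 0)) (.node (.leaf 17696) (.leaf 0)))))) (.node (.node (.node (.node (.node (.leaf 12708) (.leaf 8719)) (.node (.leaf 12825) (.leaf 0))) (.node (.node (.leaf 8796) (.leaf 0)) (.node (.leaf 1056) (.leaf 0)))) (.node (.node (.node (.leaf 20222) (.leaf 17053)) (.node (.leaf 8745) (.leaf 0))) (.node (.node (.leaf 16220) (.leaf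 0)) (.node (.leaf 14044) (.leaf 0))))) (.node (.node (.node (.node (.leaf 15782) (.leaf 14405)) (.node (.leaf 4362) (.leaf 0))) (.node (.node (.leaf 18053) (.leaf 0)) (.node (.leaf 16235) (.leaf 0)))) (.node (.node (.node (.leaf 13243) (.leaf 15887)) (.node (.leaf 16257) (.leaf 0))) (.node (.node (.leaf 5542) (.leaf 0)) (.node (.leaf 5513) (.leaf 0))))))))

def omT69 : NT := .node (.node (.node (.node (.node (.node (.node (.node (.leaf 10330) (.leaf 4103)) (.node (.leaf 11625) (.leaf 0))) (.node (.node (.leaf 2965) (.leaf 0)) (.node (.leaf 20347) (.leaf 0)))) (.node (.node (.node (.leaf 15872) (.leaf 12230)) (.node (.leaf 3302) (.leaf 0))) (.node (.node (.leaf 15236) (.leaf 0)) (.node (.leaf 863) (.leaf 0))))) (.node (.node (.node (.node (.leaf 11901) (.leaf 4382)) (.node (.leaf 6021) (.leaf 0))) (.node (.node (.leaf 11260) (.leaf 0)) (.node (.leaf 12685) (.leaf 0)))) (.node (.node (.node (.leaf 5882) (.leaf 703)) (.node (.leaf 8979) (.leaf 0))) (.node (.node (.leaf 12820) (.leaf 0)) (.node (.leaf 10717)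 (.leaf 0)))))) (.node (.node (.node (.node (.node (.leaf 3299) (.leaf 1381)) (.node (.leaf 8306) (.leaf 0))) (.node (.node (.leaf 1287) (.leaf 0)) (.node (.leaf 16761) (.leaf 0)))) (.node (.node (.node (.leaf 15265) (.leaf 13936)) (.node (.leaf 7337) (.leaf 0))) (.node (.node (.leaf 10466) (.leaf 0)) (.node (.leaf 16647) (.leaf 0))))) (.node (.node (.node (.node (.leaf 17476) (.leaf 5711)) (.node (.leaf 11672) (.leaf 0))) (.node (.node (.leaf 16622) (.leaf 0)) (.node (.leaf 8477) (.leaf 0)))) (.node (.node (.node (.leaf 7954) (.leaf 6481)) (.node (.leaf 2000) (.leaf 0))) (.node (.node (.leaf 13335) (.leaf 0)) (.node (.leaf 7098) (.leaf 0))))))) (.node (.node (.node (.node (.node (.node (.leaf 4251) (.leaf 6904)) (.node (.leaf 17572) (.leaf 0))) (.node (.node (.leaf 4206) (.leaf 0)) (.node (.leaf 14483) (.leaf 0)))) (.node (.node (.node (.leaf 15725) (.leaf 9425)) (.node (.leaf 4239) (.leaf 0))) (.node (.node (.leaf 5601) (.leaf 0)) (.node (.leaf 5494) (.leaf 0))))) (.node (.node (.node (.node (.leaf 12782)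 (.leaf 5180)) (.node (.leaf 16354) (.leaf 0))) (.node (.node (.leaf 1904) (.leaf 0)) (.node (.leaf 444) (.leaf 0)))) (.node (.node (.node (.leaf 17637) (.leaf 16295)) (.node (.leaf 9051) (.leaf 0))) (.node (.node (.leaf 1576) (.leaf 0)) (.node (.leaf 12905) (.leaf 0)))))) (.node (.node (.node (.node (.node (.leaf 18874) (.leaf 9664)) (.node (.leaf 9981) (.leaf 0))) (.node (.node (.leaf 1189) (.leaf 0)) (.node (.leaf 11741) (.leaf 0)))) (.node (.node (.node (.leaf 17762) (.leaf 1909)) (.node (.leaf 19748) (.leaf 0))) (.node (.node (.leaf 2618) (.leaf 0)) (.node (.leaf 9434) (.leaf 0))))) (.node (.node (.node (.node (.leaf 13278) (.leaf 5065)) (.node (.leaf 7010) (.leaf 0))) (.node (.node (.leaf 12600) (.leaf 0)) (.node (.leaf 11632) (.leaf 0)))) (.node (.node (.node (.leaf 10053) (.leaf 20299)) (.node (.leaf 1971) (.leaf 0))) (.node (.node (.leaf 1193) (.leaf 0)) (.node (.leaf 2176) (.leaf 0)))))))) (.node (.node (.node (.node (.node (.node (.node (.leaf 3503) (.leaf 6675)) (.node (.leaf 10630) (.leaf 0)))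 (.node (.node (.leaf 2837) (.leaf 0)) (.node (.leaf 13564) (.leaf 0)))) (.node (.node (.node (.leaf 8838) (.leaf 8495)) (.node (.leaf 13974) (.leaf 0))) (.node (.node (.leaf 1843) (.leaf 0)) (.node (.leaf 10878) (.leaf 0))))) (.node (.node (.node (.node (.leaf 6462) (.leaf 17205)) (.node (.leaf 6684) (.leaf 0))) (.node (.node (.leaf 9199) (.leaf 0)) (.node (.leaf 1010) (.leaf 0)))) (.node (.node (.node (.leaf 19099) (.leaf 17724)) (.node (.leaf 9314) (.leaf 0))) (.node (.node (.leaf 8369) (.leaf 0)) (.node (.leaf 15503) (.leaf 0)))))) (.node (.node (.node (.node (.node (.leaf 12561) (.leaf 13937)) (.node (.leaf 4984) (.leaf 0))) (.node (.node (.leaf 8062) (.leaf 0)) (.node (.leaf 3632) (.leaf 0)))) (.node (.node (.node (.leaf 9318) (.leaf 1424)) (.node (.leaf 1705) (.leaf 0))) (.node (.node (.leaf 19622) (.leaf 0)) (.node (.leaf 6721) (.leaf 0))))) (.node (.node (.node (.node (.leaf 9004) (.leaf 5690)) (.node (.leaf 14995) (.leaf 0))) (.node (.node (.leaf 3062) (.leaf 0)) (.node (.leaf 11317) (.leaf 0))))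 (.node (.node (.node (.leaf 9302) (.leaf 6232)) (.node (.leaf 12740) (.leaf 0))) (.node (.node (.leaf 19500) (.leaf 0)) (.node (.leaf 2984) (.leaf 0))))))) (.node (.node (.node (.node (.node (.node (.leaf 108) (.leaf 18639)) (.node (.leaf 11407) (.leaf 0))) (.node (.node (.leaf 13583) (.leaf 0)) (.node (.leaf 15376) (.leaf 0)))) (.node (.node (.node (.leaf 2908) (.leaf 17993)) (.node (.leaf 8903) (.leaf 0))) (.node (.node (.leaf 13923) (.leaf 0)) (.node (.leaf 5395) (.leaf 0))))) (.node (.node (.node (.node (.leaf 10581) (.leaf 8784)) (.node (.leaf 15112) (.leaf 0))) (.node (.node (.leaf 114) (.leaf 0)) (.node (.leaf 20294) (.leaf 0)))) (.node (.node (.node (.leaf 13642) (.leaf 17147)) (.node (.leaf 8941) (.leaf 0))) (.node (.node (.leaf 12647) (.leaf 0)) (.node (.leaf 12466) (.leaf 0)))))) (.node (.node (.node (.node (.node (.leaf 6707) (.leaf 3484)) (.node (.leaf 5921) (.leaf 0))) (.node (.node (.leaf 11554) (.leaf 0)) (.node (.leaf 10670) (.leaf 0)))) (.node (.node (.node (.leaf 5391) (.leaf 451)) (.node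 (.leaf 6181) (.leaf 0))) (.node (.node (.leaf 12446) (.leaf 0)) (.node (.leaf 5824) (.leaf 0))))) (.node (.node (.node (.node (.leaf 13700) (.leaf 17216)) (.node (.leaf 17425) (.leaf 0))) (.node (.node (.leaf 19803) (.leaf 0)) (.node (.leaf 2281) (.leaf 0)))) (.node (.node (.node (.leaf 8871) (.leaf 3978)) (.node (.leaf 17004) (.leaf 0))) (.node (.node (.leaf 15290) (.leaf 0)) (.node (.leaf 5543) (.leaf 0))))))))

def omT70 : NT := .node (.node (.node (.node (.node (.node (.node (.node (.leaf 13244) (.leaf 4843)) (.node (.leaf 6912) (.leaf 0))) (.node (.node (.leaf 15817) (.leaf 0)) (.node (.leaf 18725) (.leaf 0)))) (.node (.node (.node (.leaf 2909) (.leaf 17571)) (.node (.leaf 3208) (.leaf 0))) (.node (.node (.leaf 7317) (.leaf 0)) (.node (.leaf 4285) (.leaf 0))))) (.node (.node (.node (.node (.leaf 13397) (.leaf 18345)) (.node (.leaf 14973) (.leaf 0))) (.node (.node (.leaf 7811) (.leaf 0)) (.node (.leaf 6653) (.leaf 0)))) (.node (.node (.node (.leaf 9911) (.leaf 14744)) (.node (.leaf 17034) (.leaf 0)))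 (.node (.node (.leaf 14587) (.leaf 0)) (.node (.leaf 3204) (.leaf 0)))))) (.node (.node (.node (.node (.node (.leaf 20157) (.leaf 2713)) (.node (.leaf 4272) (.leaf 0))) (.node (.node (.leaf 4003) (.leaf 0)) (.node (.leaf 2424) (.leaf 0)))) (.node (.node (.node (.leaf 2770) (.leaf 6396)) (.node (.leaf 12097) (.leaf 0))) (.node (.node (.leaf 4918) (.leaf 0)) (.node (.leaf 2787) (.leaf 0))))) (.node (.node (.node (.node (.leaf 17457) (.leaf 20467)) (.node (.leaf 394) (.leaf 0))) (.node (.node (.leaf 16366) (.leaf 0)) (.node (.leaf 12367) (.leaf 0)))) (.node (.node (.node (.leaf 14310) (.leaf 18134)) (.node (.leaf 19613) (.leaf 0))) (.node (.node (.leaf 17146) (.leaf 0)) (.node (.leaf 14498) (.leaf 0))))))) (.node (.node (.node (.node (.node (.node (.leaf 1520) (.leaf 15912)) (.node (.leaf 19968) (.leaf 0))) (.node (.node (.leaf 13730) (.leaf 0)) (.node (.leaf 2086) (.leaf 0)))) (.node (.node (.node (.leaf 4456) (.leaf 18431)) (.node (.leaf 7504) (.leaf 0))) (.node (.node (.leaf 5270) (.leaf 0)) (.node (.leaf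 10621) (.leaf 0))))) (.node (.node (.node (.node (.leaf 6810) (.leaf 13925)) (.node (.leaf 17100) (.leaf 0))) (.node (.node (.leaf 19811) (.leaf 0)) (.node (.leaf 14234) (.leaf 0)))) (.node (.node (.node (.leaf 17077) (.leaf 8791)) (.node (.leaf 12784) (.leaf 0))) (.node (.node (.leaf 8271) (.leaf 0)) (.node (.leaf 15253) (.leaf 0)))))) (.node (.node (.node (.node (.node (.leaf 10559) (.leaf 19339)) (.node (.leaf 11520) (.leaf 0))) (.node (.node (.leaf 2429) (.leaf 0)) (.node (.leaf 5251) (.leaf 0)))) (.node (.node (.node (.leaf 15678) (.leaf 11869)) (.node (.leaf 10866) (.leaf 0))) (.node (.node (.leaf 17955) (.leaf 0)) (.node (.leaf 11460) (.leaf 0))))) (.node (.node (.node (.node (.leaf 7759) (.leaf 14128)) (.node (.leaf 4567) (.leaf 0))) (.node (.node (.leaf 690) (.leaf 0)) (.node (.leaf 8787) (.leaf 0)))) (.node (.node (.node (.leaf 17277) (.leaf 6042)) (.node (.leaf 14884) (.leaf 0))) (.node (.node (.leaf 12000) (.leaf 0)) (.node (.leaf 11251) (.leaf 0)))))))) (.node (.node (.node (.node (.node (.node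 (.node (.leaf 13913) (.leaf 17799)) (.node (.leaf 5733) (.leaf 0))) (.node (.node (.leaf 2698) (.leaf 0)) (.node (.leaf 11806) (.leaf 0)))) (.node (.node (.node (.leaf 3135) (.leaf 15204)) (.node (.leaf 874) (.leaf 0))) (.node (.node (.leaf 18608) (.leaf 0)) (.node (.leaf 2814) (.leaf 0))))) (.node (.node (.node (.node (.leaf 7995) (.leaf 12047)) (.node (.leaf 17122) (.leaf 0))) (.node (.node (.leaf 17329) (.leaf 0)) (.node (.leaf 19273) (.leaf 0)))) (.node (.node (.node (.leaf 4806) (.leaf 15733)) (.node (.leaf 4885) (.leaf 0))) (.node (.node (.leaf 16958) (.leaf 0)) (.node (.leaf 17364) (.leaf 0)))))) (.node (.node (.node (.node (.node (.leaf 6347) (.leaf 8952)) (.node (.leaf 6059) (.leaf 0))) (.node (.node (.leaf 3236) (.leaf 0)) (.node (.leaf 17731) (.leaf 0)))) (.node (.node (.node (.leaf 6783) (.leaf 17794)) (.node (.leaf 4398) (.leaf 0))) (.node (.node (.leaf 14868) (.leaf 0)) (.node (.leaf 19637) (.leaf 0))))) (.node (.node (.node (.node (.leaf 930) (.leaf 3085)) (.node (.leaf 19786) (.leaf 0)))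 (.node (.node (.leaf 19331) (.leaf 0)) (.node (.leaf 12656) (.leaf 0)))) (.node (.node (.node (.leaf 11829) (.leaf 10490)) (.node (.leaf 710) (.leaf 0))) (.node (.node (.leaf 1337) (.leaf 0)) (.node (.leaf 1333) (.leaf 0))))))) (.node (.node (.node (.node (.node (.node (.leaf 9952) (.leaf 8183)) (.node (.leaf 8037) (.leaf 0))) (.node (.node (.leaf 11152) (.leaf 0)) (.node (.leaf 14799) (.leaf 0)))) (.node (.node (.node (.leaf 7301) (.leaf 6289)) (.node (.leaf 10158) (.leaf 0))) (.node (.node (.leaf 6424) (.leaf 0)) (.node (.leaf 5755) (.leaf 0))))) (.node (.node (.node (.node (.leaf 10018) (.leaf 4826)) (.node (.leaf 6593) (.leaf 0))) (.node (.node (.leaf 7202) (.leaf 0)) (.node (.leaf 18478) (.leaf 0)))) (.node (.node (.node (.leaf 7472) (.leaf 15142)) (.node (.leaf 7707) (.leaf 0))) (.node (.node (.leaf 682) (.leaf 0)) (.node (.leaf 16419) (.leaf 0)))))) (.node (.node (.node (.node (.node (.leaf 13264) (.leaf 12315)) (.node (.leaf 18862) (.leaf 0))) (.node (.node (.leaf 5546) (.leaf 0)) (.node (.leaf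 4222) (.leaf 0)))) (.node (.node (.node (.leaf 15513) (.leaf 13440)) (.node (.leaf 5155) (.leaf 0))) (.node (.node (.leaf 15875) (.leaf 0)) (.node (.leaf 2911) (.leaf 0))))) (.node (.node (.node (.node (.leaf 1678) (.leaf 17811)) (.node (.leaf 13337) (.leaf 0))) (.node (.node (.leaf 15530) (.leaf 0)) (.node (.leaf 15406) (.leaf 0)))) (.node (.node (.node (.leaf 8203) (.leaf 20151)) (.node (.leaf 18605) (.leaf 0))) (.node (.node (.leaf 13543) (.leaf 0)) (.node (.leaf 5148) (.leaf 0))))))))

def omT71 : NT := .node (.node (.node (.node (.node (.node (.node (.node (.leaf 8831) (.leaf 16544)) (.node (.leaf 20184) (.leaf 0))) (.node (.node (.leaf 9667) (.leaf 0)) (.node (.leaf 4595) (.leaf 0)))) (.node (.node (.node (.leaf 6628) (.leaf 634)) (.node (.leaf 9237) (.leaf 0))) (.node (.node (.leaf 7075) (.leaf 0)) (.node (.leaf 15673) (.leaf 0))))) (.node (.node (.node (.node (.leaf 14390) (.leaf 3552)) (.node (.leaf 8022) (.leaf 0))) (.node (.node (.leaf 5188) (.leaf 0)) (.node (.leaf 11775) (.leaf 0)))) (.node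 (.node (.node (.leaf 14852) (.leaf 16979)) (.node (.leaf 7705) (.leaf 0))) (.node (.node (.leaf 16951) (.leaf 0)) (.node (.leaf 16854) (.leaf 0)))))) (.node (.node (.node (.node (.node (.leaf 8206) (.leaf 19969)) (.node (.leaf 10909) (.leaf 0))) (.node (.node (.leaf 4978) (.leaf 0)) (.node (.leaf 11816) (.leaf 0)))) (.node (.node (.node (.leaf 6738) (.leaf 15738)) (.node (.leaf 5335) (.leaf 0))) (.node (.node (.leaf 1721) (.leaf 0)) (.node (.leaf 7775) (.leaf 0))))) (.node (.node (.node (.node (.leaf 19920) (.leaf 2718)) (.node (.leaf 8740) (.leaf 0))) (.node (.node (.leaf 16043) (.leaf 0)) (.node (.leaf 1822) (.leaf 0)))) (.node (.node (.node (.leaf 18062) (.leaf 8953)) (.node (.leaf 4381) (.leaf 0))) (.node (.node (.leaf 3705) (.leaf 0)) (.node (.leaf 20239) (.leaf 0))))))) (.node (.node (.node (.node (.node (.node (.leaf 9478) (.leaf 2741)) (.node (.leaf 1391) (.leaf 0))) (.node (.node (.leaf 15067) (.leaf 0)) (.node (.leaf 4016) (.leaf 0)))) (.node (.node (.node (.leaf 3680) (.leaf 4867)) (.node (.leaf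 991) (.leaf 0))) (.node (.node (.leaf 9239) (.leaf 0)) (.node (.leaf 18265) (.leaf 0))))) (.node (.node (.node (.node (.leaf 6125) (.leaf 19189)) (.node (.leaf 16279) (.leaf 0))) (.node (.node (.leaf 18453) (.leaf 0)) (.node (.leaf 19199) (.leaf 0)))) (.node (.node (.node (.leaf 20078) (.leaf 12847)) (.node (.leaf 18599) (.leaf 0))) (.node (.node (.leaf 10542) (.leaf 0)) (.node (.leaf 12471) (.leaf 0)))))) (.node (.node (.node (.node (.node (.leaf 3984) (.leaf 4717)) (.node (.leaf 20275) (.leaf 0))) (.node (.node (.leaf 13177) (.leaf 0)) (.node (.leaf 3170) (.leaf 0)))) (.node (.node (.node (.leaf 14429) (.leaf 20379)) (.node (.leaf 19708) (.leaf 0))) (.node (.node (.leaf 17659) (.leaf 0)) (.node (.leaf 5206) (.leaf 0))))) (.node (.node (.node (.node (.leaf 18708) (.leaf 12765)) (.node (.leaf 17465) (.leaf 0))) (.node (.node (.leaf 17834) (.leaf 0)) (.node (.leaf 1458) (.leaf 0)))) (.node (.node (.node (.leaf 8100) (.leaf 434)) (.node (.leaf 20013) (.leaf 0))) (.node (.node (.leaf 7880) (.leaf 0)) (.node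 (.leaf 14392) (.leaf 0)))))))) (.node (.node (.node (.node (.node (.node (.node (.leaf 12409) (.leaf 15471)) (.node (.leaf 19220) (.leaf 0))) (.node (.node (.leaf 14088) (.leaf 0)) (.node (.leaf 14851) (.leaf 0)))) (.node (.node (.node (.leaf 8484) (.leaf 14438)) (.node (.leaf 7721) (.leaf 0))) (.node (.node (.leaf 17602) (.leaf 0)) (.node (.leaf 8468) (.leaf 0))))) (.node (.node (.node (.node (.leaf 15387) (.leaf 10109)) (.node (.leaf 1637) (.leaf 0))) (.node (.node (.leaf 6671) (.leaf 0)) (.node (.leaf 13306) (.leaf 0)))) (.node (.node (.node (.leaf 1813) (.leaf 18647)) (.node (.leaf 19523) (.leaf 0))) (.node (.node (.leaf 4796) (.leaf 0)) (.node (.leaf 7101) (.leaf 0)))))) (.node (.node (.node (.node (.node (.leaf 16317) (.leaf 4695)) (.node (.leaf 11823) (.leaf 0))) (.node (.node (.leaf 4254) (.leaf 0)) (.node (.leaf 11247) (.leaf 0)))) (.node (.node (.node (.leaf 910) (.leaf 1911)) (.node (.leaf 14000) (.leaf 0))) (.node (.node (.leaf 20364) (.leaf 0)) (.node (.leaf 955) (.leaf 0))))) (.node (.node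 (.node (.node (.leaf 3010) (.leaf 7830)) (.node (.leaf 18523) (.leaf 0))) (.node (.node (.leaf 10720) (.leaf 0)) (.node (.leaf 6867) (.leaf 0)))) (.node (.node (.node (.leaf 16663) (.leaf 4092)) (.node (.leaf 19413) (.leaf 0))) (.node (.node (.leaf 5305) (.leaf 0)) (.node (.leaf 1690) (.leaf 0))))))) (.node (.node (.node (.node (.node (.node (.leaf 14885) (.leaf 15091)) (.node (.leaf 10197) (.leaf 0))) (.node (.node (.leaf 16919) (.leaf 0)) (.node (.leaf 5254) (.leaf 0)))) (.node (.node (.node (.leaf 9931) (.leaf 8358)) (.node (.leaf 4260) (.leaf 0))) (.node (.node (.leaf 16135) (.leaf 0)) (.node (.leaf 17549) (.leaf 0))))) (.node (.node (.node (.node (.leaf 18593) (.leaf 4523)) (.node (.leaf 3737) (.leaf 0))) (.node (.node (.leaf 794) (.leaf 0)) (.node (.leaf 11583) (.leaf 0)))) (.node (.node (.node (.leaf 18384) (.leaf 6368)) (.node (.leaf 13805) (.leaf 0))) (.node (.node (.leaf 4042) (.leaf 0)) (.node (.leaf 5340) (.leaf 0)))))) (.node (.node (.node (.node (.node (.leaf 12742) (.leaf 1861)) (.node (.leaf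 635) (.leaf 0))) (.node (.node (.leaf 12106) (.leaf 0)) (.node (.leaf 7562) (.leaf 0)))) (.node (.node (.node (.leaf 8405) (.leaf 7170)) (.node (.leaf 16676) (.leaf 0))) (.node (.node (.leaf 13230) (.leaf 0)) (.node (.leaf 7970) (.leaf 0))))) (.node (.node (.node (.node (.leaf 11541) (.leaf 19356)) (.node (.leaf 18314) (.leaf 0))) (.node (.node (.leaf 16926) (.leaf 0)) (.node (.leaf 9659) (.leaf 0)))) (.node (.node (.node (.leaf 10905) (.leaf 13590)) (.node (.leaf 6595) (.leaf 0))) (.node (.node (.leaf 13708) (.leaf 0)) (.node (.leaf 11081) (.leaf 0))))))))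

def omT72 : NT := .node (.node (.node (.node (.node (.node (.node (.node (.leaf 12944) (.leaf 5000)) (.node (.leaf 11061) (.leaf 0))) (.node (.node (.leaf 16075) (.leaf 0)) (.node (.leaf 4571) (.leaf 0)))) (.node (.node (.node (.leaf 5781) (.leaf 7593)) (.node (.leaf 6074) (.leaf 0))) (.node (.node (.leaf 9276) (.leaf 0)) (.node (.leaf 19160) (.leaf 0))))) (.node (.node (.node (.node (.leaf 17314) (.leaf 19488)) (.node (.leaf 7104) (.leaf 0))) (.node (.node (.leaf 1910) (.leaf 0)) (.node (.leaf 11155) (.leaf 0)))) (.node (.node (.node (.leaf 10159) (.leaf 170)) (.node (.leaf 7581) (.leaf 0))) (.node (.node (.leaf 3431) (.leaf 0)) (.node (.leaf 9754) (.leaf 0)))))) (.node (.node (.node (.node (.node (.leaf 15069) (.leaf 1114)) (.node (.leaf 5915) (.leaf 0))) (.node (.node (.leaf 10531) (.leaf 0)) (.node (.leaf 17238) (.leaf 0)))) (.node (.node (.node (.leaf 18093) (.leaf 13025)) (.node (.leaf 11952) (.leaf 0))) (.node (.node (.leaf 8781) (.leaf 0)) (.node (.leaf 14383) (.leaf 0))))) (.node (.node (.node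 (.node (.leaf 1780) (.leaf 19571)) (.node (.leaf 8910) (.leaf 0))) (.node (.node (.leaf 5696) (.leaf 0)) (.node (.leaf 1818) (.leaf 0)))) (.node (.node (.node (.leaf 19716) (.leaf 10457)) (.node (.leaf 11334) (.leaf 0))) (.node (.node (.leaf 16600) (.leaf 0)) (.node (.leaf 18683) (.leaf 0))))))) (.node (.node (.node (.node (.node (.node (.leaf 2621) (.leaf 6078)) (.node (.leaf 5002) (.leaf 0))) (.node (.node (.leaf 492) (.leaf 0)) (.node (.leaf 8885) (.leaf 0)))) (.node (.node (.node (.leaf 16750) (.leaf 12329)) (.node (.leaf 6123) (.leaf 0))) (.node (.node (.leaf 857) (.leaf 0)) (.node (.leaf 3630) (.leaf 0))))) (.node (.node (.node (.node (.leaf 4792) (.leaf 9828)) (.node (.leaf 4790) (.leaf 0))) (.node (.node (.leaf 15366) (.leaf 0)) (.node (.leaf 18439) (.leaf 0)))) (.node (.node (.node (.leaf 8638) (.leaf 15213)) (.node (.leaf 11828) (.leaf 0))) (.node (.node (.leaf 4176) (.leaf 0)) (.node (.leaf 15819) (.leaf 0)))))) (.node (.node (.node (.node (.node (.leaf 8014) (.leaf 5170)) (.node (.leaf 15291)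 (.leaf 0))) (.node (.node (.leaf 7401) (.leaf 0)) (.node (.leaf 18579) (.leaf 0)))) (.node (.node (.node (.leaf 9528) (.leaf 1099)) (.node (.leaf 2408) (.leaf 0))) (.node (.node (.leaf 17842) (.leaf 0)) (.node (.leaf 6139) (.leaf 0))))) (.node (.node (.node (.node (.leaf 8124) (.leaf 14942)) (.node (.leaf 11885) (.leaf 0))) (.node (.node (.leaf 17881) (.leaf 0)) (.node (.leaf 764) (.leaf 0)))) (.node (.node (.node (.leaf 3172) (.leaf 2469)) (.node (.leaf 19912) (.leaf 0))) (.node (.node (.leaf 10231) (.leaf 0)) (.node (.leaf 8966) (.leaf 0)))))))) (.node (.node (.node (.node (.node (.node (.node (.leaf 2691) (.leaf 18486)) (.node (.leaf 14379) (.leaf 0))) (.node (.node (.leaf 19767) (.leaf 0)) (.node (.leaf 450) (.leaf 0)))) (.node (.node (.node (.leaf 10186) (.leaf 12339)) (.node (.leaf 5511) (.leaf 0))) (.node (.node (.leaf 2274) (.leaf 0)) (.node (.leaf 10961) (.leaf 0))))) (.node (.node (.node (.node (.leaf 14652) (.leaf 13863)) (.node (.leaf 14199) (.leaf 0))) (.node (.node (.leaf 10208) (.leaf 0))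 (.node (.leaf 2681) (.leaf 0)))) (.node (.node (.node (.leaf 15125) (.leaf 16616)) (.node (.leaf 3141) (.leaf 0))) (.node (.node (.leaf 7930) (.leaf 0)) (.node (.leaf 13872) (.leaf 0)))))) (.node (.node (.node (.node (.node (.leaf 12700) (.leaf 2349)) (.node (.leaf 10578) (.leaf 0))) (.node (.node (.leaf 12503) (.leaf 0)) (.node (.leaf 13518) (.leaf 0)))) (.node (.node (.node (.leaf 8563) (.leaf 14871)) (.node (.leaf 10191) (.leaf 0))) (.node (.node (.leaf 13956) (.leaf 0)) (.node (.leaf 11883) (.leaf 0))))) (.node (.node (.node (.node (.leaf 14) (.leaf 8615)) (.node (.leaf 20131) (.leaf 0))) (.node (.node (.leaf 3598) (.leaf 0)) (.node (.leaf 6752) (.leaf 0)))) (.node (.node (.node (.leaf 9570) (.leaf 9844)) (.node (.leaf 12397) (.leaf 0))) (.node (.node (.leaf 19985) (.leaf 0)) (.node (.leaf 8992) (.leaf 0))))))) (.node (.node (.node (.node (.node (.node (.leaf 17154) (.leaf 1613)) (.node (.leaf 3185) (.leaf 0))) (.node (.node (.leaf 10068) (.leaf 0)) (.node (.leaf 3457) (.leaf 0)))) (.node (.node (.node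 (.leaf 179) (.leaf 13248)) (.node (.leaf 12228) (.leaf 0))) (.node (.node (.leaf 12039) (.leaf 0)) (.node (.leaf 8845) (.leaf 0))))) (.node (.node (.node (.node (.leaf 12188) (.leaf 5602)) (.node (.leaf 13791) (.leaf 0))) (.node (.node (.leaf 9060) (.leaf 0)) (.node (.leaf 10190) (.leaf 0)))) (.node (.node (.node (.leaf 14223) (.leaf 14768)) (.node (.leaf 13482) (.leaf 0))) (.node (.node (.leaf 16634) (.leaf 0)) (.node (.leaf 13165) (.leaf 0)))))) (.node (.node (.node (.node (.node (.leaf 5380) (.leaf 16091)) (.node (.leaf 12083) (.leaf 0))) (.node (.node (.leaf 17276) (.leaf 0)) (.node (.leaf 8460) (.leaf 0)))) (.node (.node (.node (.leaf 5051) (.leaf 20352)) (.node (.leaf 5550) (.leaf 0))) (.node (.node (.leaf 2936) (.leaf 0)) (.node (.leaf 3486) (.leaf 0))))) (.node (.node (.node (.node (.leaf 8357) (.leaf 830)) (.node (.leaf 9067) (.leaf 0))) (.node (.node (.leaf 20407) (.leaf 0)) (.node (.leaf 20012) (.leaf 0)))) (.node (.node (.node (.leaf 8290) (.leaf 20373)) (.node (.leaf 4075) (.leaf 0))) (.node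 (.node (.leaf 12497) (.leaf 0)) (.node (.leaf 17271) (.leaf 0))))))))

def omT73 : NT := .node (.node (.node (.node (.node (.node (.node (.node (.leaf 17225) (.leaf 16613)) (.node (.leaf 9321) (.leaf 0))) (.node (.node (.leaf 10480) (.leaf 0)) (.node (.leaf 842) (.leaf 0)))) (.node (.node (.node (.leaf 14204) (.leaf 6144)) (.node (.leaf 11463) (.leaf 0))) (.node (.node (.leaf 1970) (.leaf 0)) (.node (.leaf 9501) (.leaf 0))))) (.node (.node (.node (.node (.leaf 17821) (.leaf 6526)) (.node (.leaf 1898) (.leaf 0))) (.node (.node (.leaf 12668) (.leaf 0)) (.node (.leaf 9316) (.leaf 0)))) (.node (.node (.node (.leaf 5718) (.leaf 2550)) (.node (.leaf 497) (.leaf 0))) (.node (.node (.leaf 3520) (.leaf 0)) (.node (.leaf 17611) (.leaf 0)))))) (.node (.node (.node (.node (.node (.leaf 3812) (.leaf 9991)) (.node (.leaf 18272) (.leaf 0))) (.node (.node (.leaf 405) (.leaf 0)) (.node (.leaf 1210) (.leaf 0)))) (.node (.node (.node (.leaf 16844) (.leaf 8809)) (.node (.leaf 4163) (.leaf 0))) (.node (.node (.leaf 6091) (.leaf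 0)) (.node (.leaf 12463) (.leaf 0))))) (.node (.node (.node (.node (.leaf 8764) (.leaf 7042)) (.node (.leaf 9628) (.leaf 0))) (.node (.node (.leaf 18987) (.leaf 0)) (.node (.leaf 6476) (.leaf 0)))) (.node (.node (.node (.leaf 5532) (.leaf 915)) (.node (.leaf 14071) (.leaf 0))) (.node (.node (.leaf 14641) (.leaf 0)) (.node (.leaf 2589) (.leaf 0))))))) (.node (.node (.node (.node (.node (.node (.leaf 11020) (.leaf 13773)) (.node (.leaf 5953) (.leaf 0))) (.node (.node (.leaf 9095) (.leaf 0)) (.node (.leaf 7393) (.leaf 0)))) (.node (.node (.node (.leaf 17405) (.leaf 2623)) (.node (.leaf 17278) (.leaf 0))) (.node (.node (.leaf 5917) (.leaf 0)) (.node (.leaf 6350) (.leaf 0))))) (.node (.node (.node (.node (.leaf 2963) (.leaf 9731)) (.node (.leaf 10372) (.leaf 0))) (.node (.node (.leaf 3157) (.leaf 0)) (.node (.leaf 9326) (.leaf 0)))) (.node (.node (.node (.leaf 5071) (.leaf 4472)) (.node (.leaf 10122) (.leaf 0))) (.node (.node (.leaf 16939) (.leaf 0)) (.node (.leaf 18200) (.leaf 0)))))) (.node (.node (.node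 (.node (.node (.leaf 12570) (.leaf 12025)) (.node (.leaf 11401) (.leaf 0))) (.node (.node (.leaf 11303) (.leaf 0)) (.node (.leaf 19179) (.leaf 0)))) (.node (.node (.node (.leaf 17400) (.leaf 4872)) (.node (.leaf 17197) (.leaf 0))) (.node (.node (.leaf 1932) (.leaf 0)) (.node (.leaf 93) (.leaf 0))))) (.node (.node (.node (.node (.leaf 1680) (.leaf 97)) (.node (.leaf 2549) (.leaf 0))) (.node (.node (.leaf 8728) (.leaf 0)) (.node (.leaf 7080) (.leaf 0)))) (.node (.node (.node (.leaf 5553) (.leaf 16674)) (.node (.leaf 11599) (.leaf 0))) (.node (.node (.leaf 2418) (.leaf 0)) (.node (.leaf 1862) (.leaf 0)))))))) (.node (.node (.node (.node (.node (.node (.node (.leaf 8819) (.leaf 12423)) (.node (.leaf 12658) (.leaf 0))) (.node (.node (.leaf 7128) (.leaf 0)) (.node (.leaf 6190) (.leaf 0)))) (.node (.node (.node (.leaf 12946) (.leaf 8391)) (.node (.leaf 6877) (.leaf 0))) (.node (.node (.leaf 5960) (.leaf 0)) (.node (.leaf 1080) (.leaf 0))))) (.node (.node (.node (.node (.leaf 8471) (.leaf 13465)) (.node (.leaf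 11954) (.leaf 0))) (.node (.node (.leaf 10824) (.leaf 0)) (.node (.leaf 15964) (.leaf 0)))) (.node (.node (.node (.leaf 233) (.leaf 13256)) (.node (.leaf 14191) (.leaf 0))) (.node (.node (.leaf 13893) (.leaf 0)) (.node (.leaf 5283) (.leaf 0)))))) (.node (.node (.node (.node (.node (.leaf 16223) (.leaf 2989)) (.node (.leaf 17120) (.leaf 0))) (.node (.node (.leaf 19725) (.leaf 0)) (.node (.leaf 10040) (.leaf 0)))) (.node (.node (.node (.leaf 13163) (.leaf 11784)) (.node (.leaf 6407) (.leaf 0))) (.node (.node (.leaf 9541) (.leaf 0)) (.node (.leaf 7195) (.leaf 0))))) (.node (.node (.node (.node (.leaf 10913) (.leaf 15026)) (.node (.leaf 11235) (.leaf 0))) (.node (.node (.leaf 9194) (.leaf 0)) (.node (.leaf 15691) (.leaf 0)))) (.node (.node (.node (.leaf 14625) (.leaf 4152)) (.node (.leaf 1525) (.leaf 0))) (.node (.node (.leaf 449) (.leaf 0)) (.node (.leaf 20149) (.leaf 0))))))) (.node (.node (.node (.node (.node (.node (.leaf 5422) (.leaf 4187)) (.node (.leaf 4832) (.leaf 0))) (.node (.node (.leaf 16974) (.leaf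 0)) (.node (.leaf 6683) (.leaf 0)))) (.node (.node (.node (.leaf 18988) (.leaf 4622)) (.node (.leaf 11795) (.leaf 0))) (.node (.node (.leaf 5181) (.leaf 0)) (.node (.leaf 13171) (.leaf 0))))) (.node (.node (.node (.node (.leaf 3117) (.leaf 18444)) (.node (.leaf 11170) (.leaf 0))) (.node (.node (.leaf 2090) (.leaf 0)) (.node (.leaf 19630) (.leaf 0)))) (.node (.node (.node (.leaf 20261) (.leaf 10149)) (.node (.leaf 1460) (.leaf 0))) (.node (.node (.leaf 2206) (.leaf 0)) (.node (.leaf 13505) (.leaf 0)))))) (.node (.node (.node (.node (.node (.leaf 9408) (.leaf 9788)) (.node (.leaf 18412) (.leaf 0))) (.node (.node (.leaf 13166) (.leaf 0)) (.node (.leaf 12102) (.leaf 0)))) (.node (.node (.node (.leaf 9720) (.leaf 18727)) (.node (.leaf 20219) (.leaf 0))) (.node (.node (.leaf 10423) (.leaf 0)) (.node (.leaf 20073) (.leaf 0))))) (.node (.node (.node (.node (.leaf 6402) (.leaf 17664)) (.node (.leaf 7214) (.leaf 0))) (.node (.node (.leaf 8554) (.leaf 0)) (.node (.leaf 4596) (.leaf 0)))) (.node (.node (.node (.leaf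 3376) (.leaf 1545)) (.node (.leaf 4961) (.leaf 0))) (.node (.node (.leaf 18174) (.leaf 0)) (.node (.leaf 8932) (.leaf 0))))))))

def omT74 : NT := .node (.node (.node (.node (.node (.node (.node (.node (.leaf 18934) (.leaf 8159)) (.node (.leaf 16840) (.leaf 0))) (.node (.node (.leaf 1504) (.leaf 0)) (.node (.leaf 8690) (.leaf 0)))) (.node (.node (.node (.leaf 12604) (.leaf 3165)) (.node (.leaf 10063) (.leaf 0))) (.node (.node (.leaf 20279) (.leaf 0)) (.node (.leaf 18857) (.leaf 0))))) (.node (.node (.node (.node (.leaf 9418) (.leaf 6962)) (.node (.leaf 18592) (.leaf 0))) (.node (.node (.leaf 17912) (.leaf 0)) (.node (.leaf 4599) (.leaf 0)))) (.node (.node (.node (.leaf 14300) (.leaf 2494)) (.node (.leaf 8849) (.leaf 0))) (.node (.node (.leaf 13695) (.leaf 0)) (.node (.leaf 18410) (.leaf 0)))))) (.node (.node (.node (.node (.node (.leaf 17904) (.leaf 2763)) (.node (.leaf 10872) (.leaf 0))) (.node (.node (.leaf 2242) (.leaf 0)) (.node (.leaf 2967) (.leaf 0)))) (.node (.node (.node (.leaf 18281) (.leaf 11365))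 (.node (.leaf 14252) (.leaf 0))) (.node (.node (.leaf 8252) (.leaf 0)) (.node (.leaf 2399) (.leaf 0))))) (.node (.node (.node (.node (.leaf 10329) (.leaf 1711)) (.node (.leaf 6660) (.leaf 0))) (.node (.node (.leaf 12814) (.leaf 0)) (.node (.leaf 6616) (.leaf 0)))) (.node (.node (.node (.leaf 15074) (.leaf 1117)) (.node (.leaf 9197) (.leaf 0))) (.node (.node (.leaf 7277) (.leaf 0)) (.node (.leaf 11570) (.leaf 0))))))) (.node (.node (.node (.node (.node (.node (.leaf 12773) (.leaf 19205)) (.node (.leaf 7242) (.leaf 0))) (.node (.node (.leaf 15130) (.leaf 0)) (.node (.leaf 8148) (.leaf 0)))) (.node (.node (.node (.leaf 18277) (.leaf 16441)) (.node (.leaf 4586) (.leaf 0))) (.node (.node (.leaf 542) (.leaf 0)) (.node (.leaf 3166) (.leaf 0))))) (.node (.node (.node (.node (.leaf 4136) (.leaf 17796)) (.node (.leaf 15902) (.leaf 0))) (.node (.node (.leaf 5750) (.leaf 0)) (.node (.leaf 15645) (.leaf 0)))) (.node (.node (.node (.leaf 16552) (.leaf 10858)) (.node (.leaf 3704) (.leaf 0))) (.node (.node (.leaf 9970)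 (.leaf 0)) (.node (.leaf 2960) (.leaf 0)))))) (.node (.node (.node (.node (.node (.leaf 12881) (.leaf 6185)) (.node (.leaf 17479) (.leaf 0))) (.node (.node (.leaf 12266) (.leaf 0)) (.node (.leaf 1608) (.leaf 0)))) (.node (.node (.node (.leaf 5606) (.leaf 7437)) (.node (.leaf 3867) (.leaf 0))) (.node (.node (.leaf 7346) (.leaf 0)) (.node (.leaf 5913) (.leaf 0))))) (.node (.node (.node (.node (.leaf 19285) (.leaf 6787)) (.node (.leaf 19034) (.leaf 0))) (.node (.node (.leaf 6459) (.leaf 0)) (.node (.leaf 11414) (.leaf 0)))) (.node (.node (.node (.leaf 7220) (.leaf 4841)) (.node (.leaf 18218) (.leaf 0))) (.node (.node (.leaf 7221) (.leaf 0)) (.node (.leaf 17044) (.leaf 0)))))))) (.node (.node (.node (.node (.node (.node (.node (.leaf 1461) (.leaf 16721)) (.node (.leaf 16369) (.leaf 0))) (.node (.node (.leaf 54) (.leaf 0)) (.node (.leaf 13150) (.leaf 0)))) (.node (.node (.node (.leaf 20455) (.leaf 16702)) (.node (.leaf 10026) (.leaf 0))) (.node (.node (.leaf 8924) (.leaf 0)) (.node (.leaf 3189) (.leaf 0)))))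 (.node (.node (.node (.node (.leaf 1917) (.leaf 19615)) (.node (.leaf 9252) (.leaf 0))) (.node (.node (.leaf 16716) (.leaf 0)) (.node (.leaf 17323) (.leaf 0)))) (.node (.node (.node (.leaf 15168) (.leaf 11663)) (.node (.leaf 8550) (.leaf 0))) (.node (.node (.leaf 6319) (.leaf 0)) (.node (.leaf 4828) (.leaf 0)))))) (.node (.node (.node (.node (.node (.leaf 8785) (.leaf 1206)) (.node (.leaf 1132) (.leaf 0))) (.node (.node (.leaf 4895) (.leaf 0)) (.node (.leaf 5989) (.leaf 0)))) (.node (.node (.node (.leaf 5777) (.leaf 16480)) (.node (.leaf 2225) (.leaf 0))) (.node (.node (.leaf 20033) (.leaf 0)) (.node (.leaf 9747) (.leaf 0))))) (.node (.node (.node (.node (.leaf 11382) (.leaf 9153)) (.node (.leaf 5555) (.leaf 0))) (.node (.node (.leaf 8888) (.leaf 0)) (.node (.leaf 5216) (.leaf 0)))) (.node (.node (.node (.leaf 19526) (.leaf 680)) (.node (.leaf 18736) (.leaf 0))) (.node (.node (.leaf 19534) (.leaf 0)) (.node (.leaf 19147) (.leaf 0))))))) (.node (.node (.node (.node (.node (.node (.leaf 16830) (.leaf 12769))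 (.node (.leaf 4135) (.leaf 0))) (.node (.node (.leaf 18609) (.leaf 0)) (.node (.leaf 8209) (.leaf 0)))) (.node (.node (.node (.leaf 9430) (.leaf 12840)) (.node (.leaf 579) (.leaf 0))) (.node (.node (.leaf 6936) (.leaf 0)) (.node (.leaf 13876) (.leaf 0))))) (.node (.node (.node (.node (.leaf 15736) (.leaf 16627)) (.node (.leaf 13563) (.leaf 0))) (.node (.node (.leaf 17567) (.leaf 0)) (.node (.leaf 619) (.leaf 0)))) (.node (.node (.node (.leaf 19747) (.leaf 11236)) (.node (.leaf 19438) (.leaf 0))) (.node (.node (.leaf 17755) (.leaf 0)) (.node (.leaf 18689) (.leaf 0)))))) (.node (.node (.node (.node (.node (.leaf 4434) (.leaf 17646)) (.node (.leaf 10552) (.leaf 0))) (.node (.node (.leaf 13549) (.leaf 0)) (.node (.leaf 4236) (.leaf 0)))) (.node (.node (.node (.leaf 17373) (.leaf 10463)) (.node (.leaf 10912) (.leaf 0))) (.node (.node (.leaf 15055) (.leaf 0)) (.node (.leaf 12873) (.leaf 0))))) (.node (.node (.node (.node (.leaf 7947) (.leaf 11690)) (.node (.leaf 6248) (.leaf 0))) (.node (.node (.leaf 3649) (.leaf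 0)) (.node (.leaf 12428) (.leaf 0)))) (.node (.node (.node (.leaf 1072) (.leaf 4830)) (.node (.leaf 19957) (.leaf 0))) (.node (.node (.leaf 15145) (.leaf 0)) (.node (.leaf 10646) (.leaf 0))))))))

def omT75 : NT := .node (.node (.node (.node (.node (.node (.node (.node (.leaf 10050) (.leaf 16482)) (.node (.leaf 13701) (.leaf 0))) (.node (.node (.leaf 19270) (.leaf 0)) (.node (.leaf 4428) (.leaf 0)))) (.node (.node (.node (.leaf 4987) (.leaf 13384)) (.node (.leaf 18855) (.leaf 0))) (.node (.node (.leaf 8487) (.leaf 0)) (.node (.leaf 17063) (.leaf 0))))) (.node (.node (.node (.node (.leaf 12167) (.leaf 11508)) (.node (.leaf 7397) (.leaf 0))) (.node (.node (.leaf 8825) (.leaf 0)) (.node (.leaf 19046) (.leaf 0)))) (.node (.node (.node (.leaf 12553) (.leaf 4744)) (.node (.leaf 9897) (.leaf 0))) (.node (.node (.leaf 5118) (.leaf 0)) (.node (.leaf 10724) (.leaf 0)))))) (.node (.node (.node (.node (.node (.leaf 2750) (.leaf 16086)) (.node (.leaf 4917) (.leaf 0))) (.node (.node (.leaf 4673) (.leaf 0)) (.node (.leaf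 5684) (.leaf 0)))) (.node (.node (.node (.leaf 18905) (.leaf 13921)) (.node (.leaf 12876) (.leaf 0))) (.node (.node (.leaf 366) (.leaf 0)) (.node (.leaf 6447) (.leaf 0))))) (.node (.node (.node (.node (.leaf 14822) (.leaf 11930)) (.node (.leaf 18826) (.leaf 0))) (.node (.node (.leaf 7283) (.leaf 0)) (.node (.leaf 17736) (.leaf 0)))) (.node (.node (.node (.leaf 13300) (.leaf 9432)) (.node (.leaf 20185) (.leaf 0))) (.node (.node (.leaf 11351) (.leaf 0)) (.node (.leaf 6554) (.leaf 0))))))) (.node (.node (.node (.node (.node (.node (.leaf 14655) (.leaf 4745)) (.node (.leaf 10452) (.leaf 0))) (.node (.node (.leaf 5204) (.leaf 0)) (.node (.leaf 15708) (.leaf 0)))) (.node (.node (.node (.leaf 3352) (.leaf 16393)) (.node (.leaf 15159) (.leaf 0))) (.node (.node (.leaf 17153) (.leaf 0)) (.node (.leaf 6910) (.leaf 0))))) (.node (.node (.node (.node (.leaf 14119) (.leaf 11325)) (.node (.leaf 14001) (.leaf 0))) (.node (.node (.leaf 12537) (.leaf 0)) (.node (.leaf 18398) (.leaf 0)))) (.node (.node (.node (.leaf 18249)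 (.leaf 6553)) (.node (.leaf 832) (.leaf 0))) (.node (.node (.leaf 15814) (.leaf 0)) (.node (.leaf 2197) (.leaf 0)))))) (.node (.node (.node (.node (.node (.leaf 12938) (.leaf 18508)) (.node (.leaf 2339) (.leaf 0))) (.node (.node (.leaf 352) (.leaf 0)) (.node (.leaf 7385) (.leaf 0)))) (.node (.node (.node (.leaf 14998) (.leaf 15438)) (.node (.leaf 15252) (.leaf 0))) (.node (.node (.leaf 10304) (.leaf 0)) (.node (.leaf 20208) (.leaf 0))))) (.node (.node (.node (.node (.leaf 19174) (.leaf 1156)) (.node (.leaf 18603) (.leaf 0))) (.node (.node (.leaf 5749) (.leaf 0)) (.node (.leaf 19428) (.leaf 0)))) (.node (.node (.node (.leaf 13331) (.leaf 16064)) (.node (.leaf 11297) (.leaf 0))) (.node (.node (.leaf 18458) (.leaf 0)) (.node (.leaf 17768) (.leaf 0)))))))) (.node (.node (.node (.node (.node (.node (.node (.leaf 17956) (.leaf 12897)) (.node (.leaf 1208) (.leaf 0))) (.node (.node (.leaf 2448) (.leaf 0)) (.node (.leaf 1638) (.leaf 0)))) (.node (.node (.node (.leaf 14465) (.leaf 17375)) (.node (.leaf 13428) (.leaf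 0))) (.node (.node (.leaf 16474) (.leaf 0)) (.node (.leaf 18084) (.leaf 0))))) (.node (.node (.node (.node (.leaf 19996) (.leaf 8999)) (.node (.leaf 7515) (.leaf 0))) (.node (.node (.leaf 7530) (.leaf 0)) (.node (.leaf 2203) (.leaf 0)))) (.node (.node (.node (.leaf 15548) (.leaf 1511)) (.node (.leaf 2898) (.leaf 0))) (.node (.node (.leaf 15359) (.leaf 0)) (.node (.leaf 10017) (.leaf 0)))))) (.node (.node (.node (.node (.node (.leaf 1096) (.leaf 8566)) (.node (.leaf 13179) (.leaf 0))) (.node (.node (.leaf 6116) (.leaf 0)) (.node (.leaf 14738) (.leaf 0)))) (.node (.node (.node (.leaf 15973) (.leaf 17066)) (.node (.leaf 14103) (.leaf 0))) (.node (.node (.leaf 18323) (.leaf 0)) (.node (.leaf 3228) (.leaf 0))))) (.node (.node (.node (.node (.leaf 4492) (.leaf 9375)) (.node (.leaf 7929) (.leaf 0))) (.node (.node (.leaf 18944) (.leaf 0)) (.node (.leaf 1920) (.leaf 0)))) (.node (.node (.node (.leaf 8634) (.leaf 11348)) (.node (.leaf 12990) (.leaf 0))) (.node (.node (.leaf 11394) (.leaf 0)) (.node (.leaf 3961)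 (.leaf 0))))))) (.node (.node (.node (.node (.node (.node (.leaf 7939) (.leaf 19572)) (.node (.leaf 837) (.leaf 0))) (.node (.node (.leaf 5654) (.leaf 0)) (.node (.leaf 13068) (.leaf 0)))) (.node (.node (.node (.leaf 13104) (.leaf 5493)) (.node (.leaf 1741) (.leaf 0))) (.node (.node (.leaf 520) (.leaf 0)) (.node (.leaf 13849) (.leaf 0))))) (.node (.node (.node (.node (.leaf 15943) (.leaf 5465)) (.node (.leaf 533) (.leaf 0))) (.node (.node (.leaf 1362) (.leaf 0)) (.node (.leaf 1783) (.leaf 0)))) (.node (.node (.node (.leaf 8754) (.leaf 8501)) (.node (.leaf 222) (.leaf 0))) (.node (.node (.leaf 2692) (.leaf 0)) (.node (.leaf 8065) (.leaf 0)))))) (.node (.node (.node (.node (.node (.leaf 17499) (.leaf 17808)) (.node (.leaf 14969) (.leaf 0))) (.node (.node (.leaf 5723) (.leaf 0)) (.node (.leaf 39) (.leaf 0)))) (.node (.node (.node (.leaf 15422) (.leaf 9387)) (.node (.leaf 4309) (.leaf 0))) (.node (.node (.leaf 1998) (.leaf 0)) (.node (.leaf 7858) (.leaf 0))))) (.node (.node (.node (.node (.leaf 17958) (.leaf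 3935)) (.node (.leaf 15589) (.leaf 0))) (.node (.node (.leaf 1912) (.leaf 0)) (.node (.leaf 6440) (.leaf 0)))) (.node (.node (.node (.leaf 16901) (.leaf 20348)) (.node (.leaf 11598) (.leaf 0))) (.node (.node (.leaf 15920) (.leaf 0)) (.node (.leaf 10991) (.leaf 0))))))))

def omT76 : NT := .node (.node (.node (.node (.node (.node (.node (.node (.leaf 10059) (.leaf 3184)) (.node (.leaf 5191) (.leaf 0))) (.node (.node (.leaf 5825) (.leaf 0)) (.node (.leaf 16821) (.leaf 0)))) (.node (.node (.node (.leaf 20290) (.leaf 2767)) (.node (.leaf 3429) (.leaf 0))) (.node (.node (.leaf 10039) (.leaf 0)) (.node (.leaf 13022) (.leaf 0))))) (.node (.node (.node (.node (.leaf 5568) (.leaf 5722)) (.node (.leaf 18252) (.leaf 0))) (.node (.node (.leaf 4521) (.leaf 0)) (.node (.leaf 20298) (.leaf 0)))) (.node (.node (.node (.leaf 4234) (.leaf 16418)) (.node (.leaf 20331) (.leaf 0))) (.node (.node (.leaf 13871) (.leaf 0)) (.node (.leaf 6419) (.leaf 0)))))) (.node (.node (.node (.node (.node (.leaf 13570) (.leaf 14843)) (.node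 (.leaf 12752) (.leaf 0))) (.node (.node (.leaf 17643) (.leaf 0)) (.node (.leaf 8532) (.leaf 0)))) (.node (.node (.node (.leaf 20101) (.leaf 3063)) (.node (.leaf 15600) (.leaf 0))) (.node (.node (.leaf 9338) (.leaf 0)) (.node (.leaf 6388) (.leaf 0))))) (.node (.node (.node (.node (.leaf 10267) (.leaf 14861)) (.node (.leaf 19945) (.leaf 0))) (.node (.node (.leaf 17233) (.leaf 0)) (.node (.leaf 11864) (.leaf 0)))) (.node (.node (.node (.leaf 19313) (.leaf 19992)) (.node (.leaf 379) (.leaf 0))) (.node (.node (.leaf 16850) (.leaf 0)) (.node (.leaf 5318) (.leaf 0))))))) (.node (.node (.node (.node (.node (.node (.leaf 7741) (.leaf 5548)) (.node (.leaf 2848) (.leaf 0))) (.node (.node (.leaf 4711) (.leaf 0)) (.node (.leaf 17586) (.leaf 0)))) (.node (.node (.node (.leaf 11355) (.leaf 16533)) (.node (.leaf 20235) (.leaf 0))) (.node (.node (.leaf 6468) (.leaf 0)) (.node (.leaf 18394) (.leaf 0))))) (.node (.node (.node (.node (.leaf 3075) (.leaf 8192)) (.node (.leaf 9217) (.leaf 0))) (.node (.node (.leaf 5093) (.leaf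 0)) (.node (.leaf 8762) (.leaf 0)))) (.node (.node (.node (.leaf 7888) (.leaf 15807)) (.node (.leaf 9054) (.leaf 0))) (.node (.node (.leaf 19557) (.leaf 0)) (.node (.leaf 1247) (.leaf 0)))))) (.node (.node (.node (.node (.node (.leaf 2670) (.leaf 20124)) (.node (.leaf 19144) (.leaf 0))) (.node (.node (.leaf 4385) (.leaf 0)) (.node (.leaf 1214) (.leaf 0)))) (.node (.node (.node (.leaf 12586) (.leaf 12909)) (.node (.leaf 17496) (.leaf 0))) (.node (.node (.leaf 4671) (.leaf 0)) (.node (.leaf 16126) (.leaf 0))))) (.node (.node (.node (.node (.leaf 3951) (.leaf 8171)) (.node (.leaf 20229) (.leaf 0))) (.node (.node (.leaf 4231) (.leaf 0)) (.node (.leaf 2938) (.leaf 0)))) (.node (.node (.node (.leaf 9135) (.leaf 10285)) (.node (.leaf 10920) (.leaf 0))) (.node (.node (.leaf 9480) (.leaf 0)) (.node (.leaf 1682) (.leaf 0)))))))) (.node (.node (.node (.node (.node (.node (.node (.leaf 4017) (.leaf 15746)) (.node (.leaf 6505) (.leaf 0))) (.node (.node (.leaf 10871) (.leaf 0)) (.node (.leaf 15512) (.leaf 0)))) (.node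 (.node (.node (.leaf 9691) (.leaf 18126)) (.node (.leaf 7840) (.leaf 0))) (.node (.node (.leaf 13221) (.leaf 0)) (.node (.leaf 15911) (.leaf 0))))) (.node (.node (.node (.node (.leaf 18992) (.leaf 12559)) (.node (.leaf 5107) (.leaf 0))) (.node (.node (.leaf 1048) (.leaf 0)) (.node (.leaf 2773) (.leaf 0)))) (.node (.node (.node (.leaf 17175) (.leaf 12352)) (.node (.leaf 13513) (.leaf 0))) (.node (.node (.leaf 18524) (.leaf 0)) (.node (.leaf 18871) (.leaf 0)))))) (.node (.node (.node (.node (.node (.leaf 16566) (.leaf 8743)) (.node (.leaf 12057) (.leaf 0))) (.node (.node (.leaf 14373) (.leaf 0)) (.node (.leaf 9317) (.leaf 0)))) (.node (.node (.node (.leaf 7655) (.leaf 8578)) (.node (.leaf 9184) (.leaf 0))) (.node (.node (.leaf 16595) (.leaf 0)) (.node (.leaf 6748) (.leaf 0))))) (.node (.node (.node (.node (.leaf 15704) (.leaf 4387)) (.node (.leaf 20011) (.leaf 0))) (.node (.node (.leaf 6872) (.leaf 0)) (.node (.leaf 17142) (.leaf 0)))) (.node (.node (.node (.leaf 7319) (.leaf 7826)) (.node (.leaf 1030) (.leaf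 0))) (.node (.node (.leaf 3584) (.leaf 0)) (.node (.leaf 11497) (.leaf 0))))))) (.node (.node (.node (.node (.node (.node (.leaf 16112) (.leaf 1197)) (.node (.leaf 1651) (.leaf 0))) (.node (.node (.leaf 13737) (.leaf 0)) (.node (.leaf 13436) (.leaf 0)))) (.node (.node (.node (.leaf 12379) (.leaf 6522)) (.node (.leaf 6623) (.leaf 0))) (.node (.node (.leaf 19531) (.leaf 0)) (.node (.leaf 9208) (.leaf 0))))) (.node (.node (.node (.node (.leaf 10856) (.leaf 15622)) (.node (.leaf 18769) (.leaf 0))) (.node (.node (.leaf 5387) (.leaf 0)) (.node (.leaf 4132) (.leaf 0)))) (.node (.node (.node (.leaf 1863) (.leaf 13380)) (.node (.leaf 15132) (.leaf 0))) (.node (.node (.leaf 8820) (.leaf 0)) (.node (.leaf 3212) (.leaf 0)))))) (.node (.node (.node (.node (.node (.leaf 9833) (.leaf 3924)) (.node (.leaf 17585) (.leaf 0))) (.node (.node (.leaf 15969) (.leaf 0)) (.node (.leaf 20365) (.leaf 0)))) (.node (.node (.node (.leaf 1805) (.leaf 5265)) (.node (.leaf 6130) (.leaf 0))) (.node (.node (.leaf 9349) (.leaf 0)) (.node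 (.leaf 16997) (.leaf 0))))) (.node (.node (.node (.node (.leaf 14980) (.leaf 698)) (.node (.leaf 11472) (.leaf 0))) (.node (.node (.leaf 5697) (.leaf 0)) (.node (.leaf 139) (.leaf 0)))) (.node (.node (.node (.leaf 996) (.leaf 17666)) (.node (.leaf 18477) (.leaf 0))) (.node (.node (.leaf 9196) (.leaf 0)) (.node (.leaf 12895) (.leaf 0))))))))

def omT77 : NT := .node (.node (.node (.node (.node (.node (.node (.node (.leaf 8850) (.leaf 5685)) (.node (.leaf 11226) (.leaf 0))) (.node (.node (.leaf 14778) (.leaf 0)) (.node (.leaf 5433) (.leaf 0)))) (.node (.node (.node (.leaf 14853) (.leaf 10568)) (.node (.leaf 6497) (.leaf 0))) (.node (.node (.leaf 567) (.leaf 0)) (.node (.leaf 9678) (.leaf 0))))) (.node (.node (.node (.node (.leaf 4958) (.leaf 776)) (.node (.leaf 16765) (.leaf 0))) (.node (.node (.leaf 3847) (.leaf 0)) (.node (.leaf 14437) (.leaf 0)))) (.node (.node (.node (.leaf 15441) (.leaf 8003)) (.node (.leaf 15751) (.leaf 0))) (.node (.node (.leaf 20044) (.leaf 0)) (.node (.leaf 17784) (.leaf 0))))))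 (.node (.node (.node (.node (.node (.leaf 15829) (.leaf 10809)) (.node (.leaf 7737) (.leaf 0))) (.node (.node (.leaf 10377) (.leaf 0)) (.node (.leaf 1915) (.leaf 0)))) (.node (.node (.node (.leaf 17037) (.leaf 7467)) (.node (.leaf 4020) (.leaf 0))) (.node (.node (.leaf 5676) (.leaf 0)) (.node (.leaf 14194) (.leaf 0))))) (.node (.node (.node (.node (.leaf 1683) (.leaf 18317)) (.node (.leaf 9580) (.leaf 0))) (.node (.node (.leaf 12702) (.leaf 0)) (.node (.leaf 1045) (.leaf 0)))) (.node (.node (.node (.leaf 16715) (.leaf 10835)) (.node (.leaf 18660) (.leaf 0))) (.node (.node (.leaf 2019) (.leaf 0)) (.node (.leaf 16047) (.leaf 0))))))) (.node (.node (.node (.node (.node (.node (.leaf 9267) (.leaf 13425)) (.node (.leaf 13241) (.leaf 0))) (.node (.node (.leaf 4168) (.leaf 0)) (.node (.leaf 15587) (.leaf 0)))) (.node (.node (.node (.leaf 14704) (.leaf 7647)) (.node (.leaf 7297) (.leaf 0))) (.node (.node (.leaf 2273) (.leaf 0)) (.node (.leaf 9968) (.leaf 0))))) (.node (.node (.node (.node (.leaf 13113) (.leaf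 18543)) (.node (.leaf 8118) (.leaf 0))) (.node (.node (.leaf 17552) (.leaf 0)) (.node (.leaf 17702) (.leaf 0)))) (.node (.node (.node (.leaf 1130) (.leaf 3667)) (.node (.leaf 13500) (.leaf 0))) (.node (.node (.leaf 17730) (.leaf 0)) (.node (.leaf 882) (.leaf 0)))))) (.node (.node (.node (.node (.node (.leaf 9661) (.leaf 15321)) (.node (.leaf 8342) (.leaf 0))) (.node (.node (.leaf 5397) (.leaf 0)) (.node (.leaf 5708) (.leaf 0)))) (.node (.node (.node (.leaf 7720) (.leaf 7216)) (.node (.leaf 7850) (.leaf 0))) (.node (.node (.leaf 9232) (.leaf 0)) (.node (.leaf 15141) (.leaf 0))))) (.node (.node (.node (.node (.leaf 400) (.leaf 13010)) (.node (.leaf 9003) (.leaf 0))) (.node (.node (.leaf 8266) (.leaf 0)) (.node (.leaf 11161) (.leaf 0)))) (.node (.node (.node (.leaf 3736) (.leaf 14555)) (.node (.leaf 7590) (.leaf 0))) (.node (.node (.leaf 19092) (.leaf 0)) (.node (.leaf 20450) (.leaf 0)))))))) (.node (.node (.node (.node (.node (.node (.node (.leaf 17970) (.leaf 9409)) (.node (.leaf 19457) (.leaf 0))) (.node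 (.node (.leaf 19638) (.leaf 0)) (.node (.leaf 9596) (.leaf 0)))) (.node (.node (.node (.leaf 10424) (.leaf 18999)) (.node (.leaf 2403) (.leaf 0))) (.node (.node (.leaf 1722) (.leaf 0)) (.node (.leaf 82) (.leaf 0))))) (.node (.node (.node (.node (.leaf 10345) (.leaf 17856)) (.node (.leaf 10243) (.leaf 0))) (.node (.node (.leaf 11356) (.leaf 0)) (.node (.leaf 721) (.leaf 0)))) (.node (.node (.node (.leaf 1004) (.leaf 12212)) (.node (.leaf 2680) (.leaf 0))) (.node (.node (.leaf 4672) (.leaf 0)) (.node (.leaf 12100) (.leaf 0)))))) (.node (.node (.node (.node (.node (.leaf 7538) (.leaf 12215)) (.node (.leaf 5373) (.leaf 0))) (.node (.node (.leaf 15495) (.leaf 0)) (.node (.leaf 13559) (.leaf 0)))) (.node (.node (.node (.leaf 2667) (.leaf 3693)) (.node (.leaf 13328) (.leaf 0))) (.node (.node (.leaf 18751) (.leaf 0)) (.node (.leaf 11082) (.leaf 0))))) (.node (.node (.node (.node (.leaf 9400) (.leaf 1688)) (.node (.leaf 8403) (.leaf 0))) (.node (.node (.leaf 17242) (.leaf 0)) (.node (.leaf 3666) (.leaf 0)))) (.node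 (.node (.node (.leaf 2439) (.leaf 1902)) (.node (.leaf 10902) (.leaf 0))) (.node (.node (.leaf 11790) (.leaf 0)) (.node (.leaf 13058) (.leaf 0))))))) (.node (.node (.node (.node (.node (.node (.leaf 20417) (.leaf 14925)) (.node (.leaf 16413) (.leaf 0))) (.node (.node (.leaf 16789) (.leaf 0)) (.node (.leaf 2642) (.leaf 0)))) (.node (.node (.node (.leaf 1801) (.leaf 1625)) (.node (.leaf 8350) (.leaf 0))) (.node (.node (.leaf 20470) (.leaf 0)) (.node (.leaf 19683) (.leaf 0))))) (.node (.node (.node (.node (.leaf 16971) (.leaf 2240)) (.node (.leaf 16995) (.leaf 0))) (.node (.node (.leaf 11973) (.leaf 0)) (.node (.leaf 13718) (.leaf 0)))) (.node (.node (.node (.leaf 9873) (.leaf 15418)) (.node (.leaf 9287) (.leaf 0))) (.node (.node (.leaf 2792) (.leaf 0)) (.node (.leaf 7542) (.leaf 0)))))) (.node (.node (.node (.node (.node (.leaf 19334) (.leaf 9407)) (.node (.leaf 16487) (.leaf 0))) (.node (.node (.leaf 16251) (.leaf 0)) (.node (.leaf 2063) (.leaf 0)))) (.node (.node (.node (.leaf 4374) (.leaf 18059)) (.node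 (.leaf 17839) (.leaf 0))) (.node (.node (.leaf 1334) (.leaf 0)) (.node (.leaf 19075) (.leaf 0))))) (.node (.node (.node (.node (.leaf 14859) (.leaf 18203)) (.node (.leaf 4026) (.leaf 0))) (.node (.node (.leaf 5078) (.leaf 0)) (.node (.leaf 17850) (.leaf 0)))) (.node (.node (.node (.leaf 18616) (.leaf 1965)) (.node (.leaf 15047) (.leaf 0))) (.node (.node (.leaf 19391) (.leaf 0)) (.node (.leaf 8640) (.leaf 0))))))))

def omT78 : NT := .node (.node (.node (.node (.node (.node (.node (.node (.leaf 7780) (.leaf 10033)) (.node (.leaf 2978) (.leaf 0))) (.node (.node (.leaf 16240) (.leaf 0)) (.node (.leaf 5900) (.leaf 0)))) (.node (.node (.node (.leaf 15870) (.leaf 20061)) (.node (.leaf 11519) (.leaf 0))) (.node (.node (.leaf 9899) (.leaf 0)) (.node (.leaf 19785) (.leaf 0))))) (.node (.node (.node (.node (.leaf 12921) (.leaf 2334)) (.node (.leaf 13574) (.leaf 0))) (.node (.node (.leaf 1261) (.leaf 0)) (.node (.leaf 1607) (.leaf 0)))) (.node (.node (.node (.leaf 4297) (.leaf 7056)) (.node (.leaf 11209) (.leaf 0)))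 (.node (.node (.leaf 14132) (.leaf 0)) (.node (.leaf 6588) (.leaf 0)))))) (.node (.node (.node (.node (.node (.leaf 6290) (.leaf 6223)) (.node (.leaf 6456) (.leaf 0))) (.node (.node (.leaf 1475) (.leaf 0)) (.node (.leaf 4475) (.leaf 0)))) (.node (.node (.node (.leaf 11115) (.leaf 13316)) (.node (.leaf 4607) (.leaf 0))) (.node (.node (.leaf 1531) (.leaf 0)) (.node (.leaf 628) (.leaf 0))))) (.node (.node (.node (.node (.leaf 19778) (.leaf 16166)) (.node (.leaf 12642) (.leaf 0))) (.node (.node (.leaf 200) (.leaf 0)) (.node (.leaf 4276) (.leaf 0)))) (.node (.node (.node (.leaf 5261) (.leaf 3744)) (.node (.leaf 13883) (.leaf 0))) (.node (.node (.leaf 12565) (.leaf 0)) (.node (.leaf 17926) (.leaf 0))))))) (.node (.node (.node (.node (.node (.node (.leaf 9824) (.leaf 20226)) (.node (.leaf 10296) (.leaf 0))) (.node (.node (.leaf 6895) (.leaf 0)) (.node (.leaf 15717) (.leaf 0)))) (.node (.node (.node (.leaf 1090) (.leaf 4647)) (.node (.leaf 20454) (.leaf 0))) (.node (.node (.leaf 14523) (.leaf 0)) (.node (.leaf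 19243) (.leaf 0))))) (.node (.node (.node (.node (.leaf 19327) (.leaf 12809)) (.node (.leaf 17631) (.leaf 0))) (.node (.node (.leaf 4064) (.leaf 0)) (.node (.leaf 19184) (.leaf 0)))) (.node (.node (.node (.leaf 5623) (.leaf 17609)) (.node (.leaf 15340) (.leaf 0))) (.node (.node (.leaf 5165) (.leaf 0)) (.node (.leaf 20251) (.leaf 0)))))) (.node (.node (.node (.node (.node (.leaf 1052) (.leaf 9808)) (.node (.leaf 10111) (.leaf 0))) (.node (.node (.leaf 17013) (.leaf 0)) (.node (.leaf 13623) (.leaf 0)))) (.node (.node (.node (.leaf 452) (.leaf 16084)) (.node (.leaf 9463) (.leaf 0))) (.node (.node (.leaf 20289) (.leaf 0)) (.node (.leaf 802) (.leaf 0))))) (.node (.node (.node (.node (.leaf 11983) (.leaf 1506)) (.node (.leaf 10235) (.leaf 0))) (.node (.node (.leaf 1359) (.leaf 0)) (.node (.leaf 2035) (.leaf 0)))) (.node (.node (.node (.leaf 15993) (.leaf 16417)) (.node (.leaf 14605) (.leaf 0))) (.node (.node (.leaf 11880) (.leaf 0)) (.node (.leaf 11203) (.leaf 0)))))))) (.node (.node (.node (.node (.node (.node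 (.node (.leaf 16727) (.leaf 3673)) (.node (.leaf 267) (.leaf 0))) (.node (.node (.leaf 20457) (.leaf 0)) (.node (.leaf 14922) (.leaf 0)))) (.node (.node (.node (.leaf 11951) (.leaf 1609)) (.node (.leaf 19784) (.leaf 0))) (.node (.node (.leaf 8931) (.leaf 0)) (.node (.leaf 674) (.leaf 0))))) (.node (.node (.node (.node (.leaf 7717) (.leaf 18955)) (.node (.leaf 8842) (.leaf 0))) (.node (.node (.leaf 17978) (.leaf 0)) (.node (.leaf 2354) (.leaf 0)))) (.node (.node (.node (.leaf 10804) (.leaf 4174)) (.node (.leaf 13169) (.leaf 0))) (.node (.node (.leaf 6415) (.leaf 0)) (.node (.leaf 8901) (.leaf 0)))))) (.node (.node (.node (.node (.node (.leaf 5144) (.leaf 2486)) (.node (.leaf 14156) (.leaf 0))) (.node (.node (.leaf 2979) (.leaf 0)) (.node (.leaf 4146) (.leaf 0)))) (.node (.node (.node (.leaf 3265) (.leaf 16275)) (.node (.leaf 14205) (.leaf 0))) (.node (.node (.leaf 5674) (.leaf 0)) (.node (.leaf 9929) (.leaf 0))))) (.node (.node (.node (.node (.leaf 4420) (.leaf 12509)) (.node (.leaf 822) (.leaf 0))) (.node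 (.node (.leaf 5430) (.leaf 0)) (.node (.leaf 18873) (.leaf 0)))) (.node (.node (.node (.leaf 8456) (.leaf 6534)) (.node (.leaf 18253) (.leaf 0))) (.node (.node (.leaf 12578) (.leaf 0)) (.node (.leaf 3512) (.leaf 0))))))) (.node (.node (.node (.node (.node (.node (.leaf 10771) (.leaf 15224)) (.node (.leaf 16562) (.leaf 0))) (.node (.node (.leaf 14122) (.leaf 0)) (.node (.leaf 7052) (.leaf 0)))) (.node (.node (.node (.leaf 18470) (.leaf 20402)) (.node (.leaf 14579) (.leaf 0))) (.node (.node (.leaf 10396) (.leaf 0)) (.node (.leaf 10400) (.leaf 0))))) (.node (.node (.node (.node (.leaf 7959) (.leaf 12520)) (.node (.leaf 7433) (.leaf 0))) (.node (.node (.leaf 3391) (.leaf 0)) (.node (.leaf 3784) (.leaf 0)))) (.node (.node (.node (.leaf 11867) (.leaf 11013)) (.node (.leaf 14145) (.leaf 0))) (.node (.node (.leaf 20201) (.leaf 0)) (.node (.leaf 13912) (.leaf 0)))))) (.node (.node (.node (.node (.node (.leaf 13134) (.leaf 15769)) (.node (.leaf 9336) (.leaf 0))) (.node (.node (.leaf 11855) (.leaf 0)) (.node (.leaf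 17273) (.leaf 0)))) (.node (.node (.node (.leaf 15648) (.leaf 14146)) (.node (.leaf 4729) (.leaf 0))) (.node (.node (.leaf 13493) (.leaf 0)) (.node (.leaf 216) (.leaf 0))))) (.node (.node (.node (.node (.leaf 14874) (.leaf 4982)) (.node (.leaf 4858) (.leaf 0))) (.node (.node (.leaf 8663) (.leaf 0)) (.node (.leaf 16136) (.leaf 0)))) (.node (.node (.node (.leaf 6965) (.leaf 11106)) (.node (.leaf 8975) (.leaf 0))) (.node (.node (.leaf 20188) (.leaf 0)) (.node (.leaf 3688) (.leaf 0))))))))

def omT79 : NT := .node (.node (.node (.node (.node (.node (.node (.node (.leaf 16886) (.leaf 14659)) (.node (.leaf 18353) (.leaf 0))) (.node (.node (.leaf 9488) (.leaf 0)) (.node (.leaf 4226) (.leaf 0)))) (.node (.node (.node (.leaf 1702) (.leaf 7670)) (.node (.leaf 18209) (.leaf 0))) (.node (.node (.leaf 16980) (.leaf 0)) (.node (.leaf 9248) (.leaf 0))))) (.node (.node (.node (.node (.leaf 14440) (.leaf 14080)) (.node (.leaf 4707) (.leaf 0))) (.node (.node (.leaf 12679) (.leaf 0)) (.node (.leaf 8950) (.leaf 0)))) (.node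 (.node (.node (.leaf 6887) (.leaf 11886)) (.node (.leaf 753) (.leaf 0))) (.node (.node (.leaf 19538) (.leaf 0)) (.node (.leaf 12916) (.leaf 0)))))) (.node (.node (.node (.node (.node (.leaf 19999) (.leaf 11483)) (.node (.leaf 17001) (.leaf 0))) (.node (.node (.leaf 2329) (.leaf 0)) (.node (.leaf 9598) (.leaf 0)))) (.node (.node (.node (.leaf 6518) (.leaf 8023)) (.node (.leaf 16100) (.leaf 0))) (.node (.node (.leaf 13801) (.leaf 0)) (.node (.leaf 16237) (.leaf 0))))) (.node (.node (.node (.node (.leaf 3964) (.leaf 7443)) (.node (.leaf 14504) (.leaf 0))) (.node (.node (.leaf 325) (.leaf 0)) (.node (.leaf 19561) (.leaf 0)))) (.node (.node (.node (.leaf 2966) (.leaf 557)) (.node (.leaf 5761) (.leaf 0))) (.node (.node (.leaf 13054) (.leaf 0)) (.node (.leaf 6401) (.leaf 0))))))) (.node (.node (.node (.node (.node (.node (.leaf 13364) (.leaf 20122)) (.node (.leaf 3397) (.leaf 0))) (.node (.node (.leaf 1009) (.leaf 0)) (.node (.leaf 18659) (.leaf 0)))) (.node (.node (.node (.leaf 6850) (.leaf 14968)) (.node (.leaf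 18943) (.leaf 0))) (.node (.node (.leaf 4874) (.leaf 0)) (.node (.leaf 5591) (.leaf 0))))) (.node (.node (.node (.node (.leaf 16331) (.leaf 20166)) (.node (.leaf 4854) (.leaf 0))) (.node (.node (.leaf 9546) (.leaf 0)) (.node (.leaf 738) (.leaf 0)))) (.node (.node (.node (.leaf 9827) (.leaf 3257)) (.node (.leaf 11708) (.leaf 0))) (.node (.node (.leaf 5291) (.leaf 0)) (.node (.leaf 5300) (.leaf 0)))))) (.node (.node (.node (.node (.node (.leaf 12796) (.leaf 7465)) (.node (.leaf 16365) (.leaf 0))) (.node (.node (.leaf 8251) (.leaf 0)) (.node (.leaf 6819) (.leaf 0)))) (.node (.node (.node (.leaf 16377) (.leaf 8036)) (.node (.leaf 15105) (.leaf 0))) (.node (.node (.leaf 11917) (.leaf 0)) (.node (.leaf 14933) (.leaf 0))))) (.node (.node (.node (.node (.leaf 19343) (.leaf 6817)) (.node (.leaf 4415) (.leaf 0))) (.node (.node (.leaf 13258) (.leaf 0)) (.node (.leaf 5488) (.leaf 0)))) (.node (.node (.node (.leaf 17844) (.leaf 14337)) (.node (.leaf 4041) (.leaf 0))) (.node (.node (.leaf 17578) (.leaf 0)) (.node (.leaf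 20326) (.leaf 0)))))))) (.node (.node (.node (.node (.node (.node (.node (.leaf 17819) (.leaf 3420)) (.node (.leaf 8387) (.leaf 0))) (.node (.node (.leaf 16299) (.leaf 0)) (.node (.leaf 15706) (.leaf 0)))) (.node (.node (.node (.leaf 3467) (.leaf 16625)) (.node (.leaf 10882) (.leaf 0))) (.node (.node (.leaf 12974) (.leaf 0)) (.node (.leaf 20162) (.leaf 0))))) (.node (.node (.node (.node (.leaf 13105) (.leaf 265)) (.node (.leaf 14069) (.leaf 0))) (.node (.node (.leaf 9289) (.leaf 0)) (.node (.leaf 8540) (.leaf 0)))) (.node (.node (.node (.leaf 9689) (.leaf 14956)) (.node (.leaf 6657) (.leaf 0))) (.node (.node (.leaf 4643) (.leaf 0)) (.node (.leaf 17295) (.leaf 0)))))) (.node (.node (.node (.node (.node (.leaf 5416) (.leaf 945)) (.node (.leaf 13569) (.leaf 0))) (.node (.node (.leaf 94) (.leaf 0)) (.node (.leaf 8788) (.leaf 0)))) (.node (.node (.node (.leaf 10107) (.leaf 10560)) (.node (.leaf 2666) (.leaf 0))) (.node (.node (.leaf 14529) (.leaf 0)) (.node (.leaf 7055) (.leaf 0))))) (.node (.node (.node (.node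 (.leaf 19681) (.leaf 8265)) (.node (.leaf 4704) (.leaf 0))) (.node (.node (.leaf 12027) (.leaf 0)) (.node (.leaf 336) (.leaf 0)))) (.node (.node (.node (.leaf 7336) (.leaf 16816)) (.node (.leaf 14371) (.leaf 0))) (.node (.node (.leaf 15095) (.leaf 0)) (.node (.leaf 7552) (.leaf 0))))))) (.node (.node (.node (.node (.node (.node (.leaf 6586) (.leaf 18768)) (.node (.leaf 11621) (.leaf 0))) (.node (.node (.leaf 19312) (.leaf 0)) (.node (.leaf 3903) (.leaf 0)))) (.node (.node (.node (.leaf 1945) (.leaf 5142)) (.node (.leaf 17593) (.leaf 0))) (.node (.node (.leaf 19501) (.leaf 0)) (.node (.leaf 7953) (.leaf 0))))) (.node (.node (.node (.node (.leaf 4165) (.leaf 2914)) (.node (.leaf 10023) (.leaf 0))) (.node (.node (.leaf 10948) (.leaf 0)) (.node (.leaf 8451) (.leaf 0)))) (.node (.node (.node (.leaf 7449) (.leaf 2721)) (.node (.leaf 15405) (.leaf 0))) (.node (.node (.leaf 1773) (.leaf 0)) (.node (.leaf 3755) (.leaf 0)))))) (.node (.node (.node (.node (.node (.leaf 2806) (.leaf 9984)) (.node (.leaf 561) (.leaf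 0))) (.node (.node (.leaf 20120) (.leaf 0)) (.node (.leaf 3748) (.leaf 0)))) (.node (.node (.node (.leaf 5314) (.leaf 4015)) (.node (.leaf 7751) (.leaf 0))) (.node (.node (.leaf 5966) (.leaf 0)) (.node (.leaf 12168) (.leaf 0))))) (.node (.node (.node (.node (.leaf 14240) (.leaf 2168)) (.node (.leaf 16617) (.leaf 0))) (.node (.node (.leaf 13715) (.leaf 0)) (.node (.leaf 11222) (.leaf 0)))) (.node (.node (.node (.leaf 2295) (.leaf 10436)) (.node (.leaf 6551) (.leaf 0))) (.node (.node (.leaf 16090) (.leaf 0)) (.node (.leaf 4303) (.leaf 0))))))))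

def omT80 : NT := .node (.node (.node (.node (.node (.node (.node (.node (.leaf 2218) (.leaf 9618)) (.node (.leaf 14826) (.leaf 0))) (.node (.node (.leaf 17055) (.leaf 0)) (.node (.leaf 473) (.leaf 0)))) (.node (.node (.node (.leaf 15699) (.leaf 18617)) (.node (.leaf 16416) (.leaf 0))) (.node (.node (.leaf 12288) (.leaf 0)) (.node (.leaf 19229) (.leaf 0))))) (.node (.node (.node (.node (.leaf 20419) (.leaf 17087)) (.node (.leaf 1257) (.leaf 0))) (.node (.node (.leaf 2103) (.leaf 0)) (.node (.leaf 2932) (.leaf 0)))) (.node (.node (.node (.leaf 6862) (.leaf 10684)) (.node (.leaf 846) (.leaf 0))) (.node (.node (.leaf 6413) (.leaf 0)) (.node (.leaf 16143) (.leaf 0)))))) (.node (.node (.node (.node (.node (.leaf 16853) (.leaf 1296)) (.node (.leaf 17075) (.leaf 0))) (.node (.node (.leaf 2344) (.leaf 0)) (.node (.leaf 7560) (.leaf 0)))) (.node (.node (.node (.leaf 17649) (.leaf 13744)) (.node (.leaf 8896) (.leaf 0))) (.node (.node (.leaf 11556) (.leaf 0)) (.node (.leaf 11146) (.leaf 0))))) (.node (.node (.node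 (.node (.leaf 5990) (.leaf 9454)) (.node (.leaf 14882) (.leaf 0))) (.node (.node (.leaf 5739) (.leaf 0)) (.node (.leaf 13692) (.leaf 0)))) (.node (.node (.node (.leaf 19366) (.leaf 5369)) (.node (.leaf 2485) (.leaf 0))) (.node (.node (.leaf 17247) (.leaf 0)) (.node (.leaf 17281) (.leaf 0))))))) (.node (.node (.node (.node (.node (.node (.leaf 18700) (.leaf 7712)) (.node (.leaf 8621) (.leaf 0))) (.node (.node (.leaf 9390) (.leaf 0)) (.node (.leaf 14165) (.leaf 0)))) (.node (.node (.node (.leaf 193) (.leaf 4300)) (.node (.leaf 17897) (.leaf 0))) (.node (.node (.leaf 16255) (.leaf 0)) (.node (.leaf 6331) (.leaf 0))))) (.node (.node (.node (.node (.leaf 13294) (.leaf 13624)) (.node (.leaf 13789) (.leaf 0))) (.node (.node (.leaf 17775) (.leaf 0)) (.node (.leaf 2845) (.leaf 0)))) (.node (.node (.node (.leaf 6085) (.leaf 8900)) (.node (.leaf 2688) (.leaf 0))) (.node (.node (.leaf 3969) (.leaf 0)) (.node (.leaf 18982) (.leaf 0)))))) (.node (.node (.node (.node (.node (.leaf 15642) (.leaf 16412)) (.node (.leaf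 10492) (.leaf 0))) (.node (.node (.leaf 12457) (.leaf 0)) (.node (.leaf 279) (.leaf 0)))) (.node (.node (.node (.leaf 19390) (.leaf 4051)) (.node (.leaf 16512) (.leaf 0))) (.node (.node (.leaf 11065) (.leaf 0)) (.node (.leaf 7016) (.leaf 0))))) (.node (.node (.node (.node (.leaf 3136) (.leaf 14899)) (.node (.leaf 4264) (.leaf 0))) (.node (.node (.leaf 13070) (.leaf 0)) (.node (.leaf 12607) (.leaf 0)))) (.node (.node (.node (.leaf 14453) (.leaf 8756)) (.node (.leaf 15715) (.leaf 0))) (.node (.node (.leaf 11046) (.leaf 0)) (.node (.leaf 8298) (.leaf 0)))))))) (.node (.node (.node (.node (.node (.node (.node (.leaf 3060) (.leaf 13116)) (.node (.leaf 16748) (.leaf 0))) (.node (.node (.leaf 17898) (.leaf 0)) (.node (.leaf 3789) (.leaf 0)))) (.node (.node (.node (.leaf 2613) (.leaf 19095)) (.node (.leaf 3683) (.leaf 0))) (.node (.node (.leaf 91) (.leaf 0)) (.node (.leaf 19027) (.leaf 0))))) (.node (.node (.node (.node (.leaf 17009) (.leaf 262)) (.node (.leaf 17138) (.leaf 0))) (.node (.node (.leaf 19383) (.leaf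 0)) (.node (.leaf 18221) (.leaf 0)))) (.node (.node (.node (.leaf 10386) (.leaf 13548)) (.node (.leaf 5234) (.leaf 0))) (.node (.node (.leaf 5683) (.leaf 0)) (.node (.leaf 10295) (.leaf 0)))))) (.node (.node (.node (.node (.node (.leaf 5035) (.leaf 14911)) (.node (.leaf 15442) (.leaf 0))) (.node (.node (.leaf 8954) (.leaf 0)) (.node (.leaf 4935) (.leaf 0)))) (.node (.node (.node (.leaf 2552) (.leaf 7782)) (.node (.leaf 6487) (.leaf 0))) (.node (.node (.leaf 18461) (.leaf 0)) (.node (.leaf 17492) (.leaf 0))))) (.node (.node (.node (.node (.leaf 18658) (.leaf 9785)) (.node (.leaf 17514) (.leaf 0))) (.node (.node (.leaf 1846) (.leaf 0)) (.node (.leaf 665) (.leaf 0)))) (.node (.node (.node (.leaf 1205) (.leaf 8398)) (.node (.leaf 7383) (.leaf 0))) (.node (.node (.leaf 15054) (.leaf 0)) (.node (.leaf 5056) (.leaf 0))))))) (.node (.node (.node (.node (.node (.node (.leaf 19269) (.leaf 12507)) (.node (.leaf 199) (.leaf 0))) (.node (.node (.leaf 8430) (.leaf 0)) (.node (.leaf 4548) (.leaf 0)))) (.node (.node (.node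 (.leaf 3267) (.leaf 18813)) (.node (.leaf 19281) (.leaf 0))) (.node (.node (.leaf 9908) (.leaf 0)) (.node (.leaf 16678) (.leaf 0))))) (.node (.node (.node (.node (.leaf 13582) (.leaf 6597)) (.node (.leaf 5454) (.leaf 0))) (.node (.node (.leaf 2868) (.leaf 0)) (.node (.leaf 17011) (.leaf 0)))) (.node (.node (.node (.leaf 13671) (.leaf 16580)) (.node (.leaf 16910) (.leaf 0))) (.node (.node (.leaf 3504) (.leaf 0)) (.node (.leaf 14097) (.leaf 0)))))) (.node (.node (.node (.node (.node (.leaf 11990) (.leaf 7654)) (.node (.leaf 5717) (.leaf 0))) (.node (.node (.leaf 4988) (.leaf 0)) (.node (.leaf 18980) (.leaf 0)))) (.node (.node (.node (.leaf 18382) (.leaf 18824)) (.node (.leaf 2675) (.leaf 0))) (.node (.node (.leaf 5662) (.leaf 0)) (.node (.leaf 12350) (.leaf 0))))) (.node (.node (.node (.node (.leaf 15923) (.leaf 7711)) (.node (.leaf 668) (.leaf 0))) (.node (.node (.leaf 11503) (.leaf 0)) (.node (.leaf 15537) (.leaf 0)))) (.node (.node (.node (.leaf 5355) (.leaf 15719)) (.node (.leaf 19230) (.leaf 0))) (.node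 (.node (.leaf 19541) (.leaf 0)) (.node (.leaf 3920) (.leaf 0))))))))

def omT81 : NT := .node (.node (.node (.node (.node (.node (.node (.node (.leaf 7955) (.leaf 14923)) (.node (.leaf 9556) (.leaf 0))) (.node (.node (.leaf 18613) (.leaf 0)) (.node (.leaf 12109) (.leaf 0)))) (.node (.node (.node (.leaf 19611) (.leaf 12107)) (.node (.leaf 12935) (.leaf 0))) (.node (.node (.leaf 15490) (.leaf 0)) (.node (.leaf 7374) (.leaf 0))))) (.node (.node (.node (.node (.leaf 7996) (.leaf 7415)) (.node (.leaf 7564) (.leaf 0))) (.node (.node (.leaf 9959) (.leaf 0)) (.node (.leaf 7300) (.leaf 0)))) (.node (.node (.node (.leaf 5819) (.leaf 15382)) (.node (.leaf 6935) (.leaf 0))) (.node (.node (.leaf 19386) (.leaf 0)) (.node (.leaf 18977) (.leaf 0)))))) (.node (.node (.node (.node (.node (.leaf 4776) (.leaf 14493)) (.node (.leaf 986) (.leaf 0))) (.node (.node (.leaf 18223) (.leaf 0)) (.node (.leaf 6075) (.leaf 0)))) (.node (.node (.node (.leaf 7014) (.leaf 7143)) (.node (.leaf 20293) (.leaf 0))) (.node (.node (.leaf 20291)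 (.leaf 0)) (.node (.leaf 16026) (.leaf 0))))) (.node (.node (.node (.node (.leaf 14920) (.leaf 9994)) (.node (.leaf 17669) (.leaf 0))) (.node (.node (.leaf 19771) (.leaf 0)) (.node (.leaf 9768) (.leaf 0)))) (.node (.node (.node (.leaf 10060) (.leaf 1015)) (.node (.leaf 1116) (.leaf 0))) (.node (.node (.leaf 14098) (.leaf 0)) (.node (.leaf 756) (.leaf 0))))))) (.node (.node (.node (.node (.node (.node (.leaf 11283) (.leaf 19903)) (.node (.leaf 2397) (.leaf 0))) (.node (.node (.leaf 4497) (.leaf 0)) (.node (.leaf 14712) (.leaf 0)))) (.node (.node (.node (.leaf 16376) (.leaf 7804)) (.node (.leaf 1814) (.leaf 0))) (.node (.node (.leaf 14586) (.leaf 0)) (.node (.leaf 7464) (.leaf 0))))) (.node (.node (.node (.node (.leaf 19881) (.leaf 15096)) (.node (.leaf 13746) (.leaf 0))) (.node (.node (.leaf 20374) (.leaf 0)) (.node (.leaf 5288) (.leaf 0)))) (.node (.node (.node (.leaf 4037) (.leaf 740)) (.node (.leaf 19294) (.leaf 0))) (.node (.node (.leaf 17662) (.leaf 0)) (.node (.leaf 19642) (.leaf 0)))))) (.node (.node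 (.node (.node (.node (.leaf 17112) (.leaf 9729)) (.node (.leaf 3323) (.leaf 0))) (.node (.node (.leaf 14620) (.leaf 0)) (.node (.leaf 11505) (.leaf 0)))) (.node (.node (.node (.leaf 11597) (.leaf 8119)) (.node (.leaf 6322) (.leaf 0))) (.node (.node (.leaf 19019) (.leaf 0)) (.node (.leaf 5775) (.leaf 0))))) (.node (.node (.node (.node (.leaf 12451) (.leaf 3532)) (.node (.leaf 12473) (.leaf 0))) (.node (.node (.leaf 11079) (.leaf 0)) (.node (.leaf 17960) (.leaf 0)))) (.node (.node (.node (.leaf 6326) (.leaf 17708)) (.node (.leaf 12080) (.leaf 0))) (.node (.node (.leaf 13861) (.leaf 0)) (.node (.leaf 13600) (.leaf 0)))))))) (.node (.node (.node (.node (.node (.node (.node (.leaf 788) (.leaf 16489)) (.node (.leaf 8590) (.leaf 0))) (.node (.node (.leaf 7419) (.leaf 0)) (.node (.leaf 11197) (.leaf 0)))) (.node (.node (.node (.leaf 11902) (.leaf 19424)) (.node (.leaf 9612) (.leaf 0))) (.node (.node (.leaf 13953) (.leaf 0)) (.node (.leaf 11998) (.leaf 0))))) (.node (.node (.node (.node (.leaf 19358) (.leaf 20109))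 (.node (.leaf 9508) (.leaf 0))) (.node (.node (.leaf 10048) (.leaf 0)) (.node (.leaf 11682) (.leaf 0)))) (.node (.node (.node (.leaf 11052) (.leaf 17550)) (.node (.leaf 4662) (.leaf 0))) (.node (.node (.leaf 19651) (.leaf 0)) (.node (.leaf 3396) (.leaf 0)))))) (.node (.node (.node (.node (.node (.leaf 18418) (.leaf 8878)) (.node (.leaf 661) (.leaf 0))) (.node (.node (.leaf 18158) (.leaf 0)) (.node (.leaf 16515) (.leaf 0)))) (.node (.node (.node (.leaf 6577) (.leaf 11034)) (.node (.leaf 15400) (.leaf 0))) (.node (.node (.leaf 9611) (.leaf 0)) (.node (.leaf 7366) (.leaf 0))))) (.node (.node (.node (.node (.leaf 6344) (.leaf 17529)) (.node (.leaf 12068) (.leaf 0))) (.node (.node (.leaf 1314) (.leaf 0)) (.node (.leaf 18820) (.leaf 0)))) (.node (.node (.node (.leaf 673) (.leaf 3156)) (.node (.leaf 464) (.leaf 0))) (.node (.node (.leaf 74) (.leaf 0)) (.node (.leaf 601) (.leaf 0))))))) (.node (.node (.node (.node (.node (.node (.leaf 3006) (.leaf 9653)) (.node (.leaf 1160) (.leaf 0))) (.node (.node (.leaf 15118)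 (.leaf 0)) (.node (.leaf 11159) (.leaf 0)))) (.node (.node (.node (.leaf 15365) (.leaf 7633)) (.node (.leaf 13409) (.leaf 0))) (.node (.node (.leaf 5675) (.leaf 0)) (.node (.leaf 18153) (.leaf 0))))) (.node (.node (.node (.node (.leaf 6064) (.leaf 2755)) (.node (.leaf 20274) (.leaf 0))) (.node (.node (.leaf 2030) (.leaf 0)) (.node (.leaf 19472) (.leaf 0)))) (.node (.node (.node (.leaf 18634) (.leaf 15871)) (.node (.leaf 20245) (.leaf 0))) (.node (.node (.leaf 17681) (.leaf 0)) (.node (.leaf 4853) (.leaf 0)))))) (.node (.node (.node (.node (.node (.leaf 7) (.leaf 6141)) (.node (.leaf 15487) (.leaf 0))) (.node (.node (.leaf 1153) (.leaf 0)) (.node (.leaf 18320) (.leaf 0)))) (.node (.node (.node (.leaf 15333) (.leaf 3663)) (.node (.leaf 8340) (.leaf 0))) (.node (.node (.leaf 18208) (.leaf 0)) (.node (.leaf 3258) (.leaf 0))))) (.node (.node (.node (.node (.leaf 19674) (.leaf 16408)) (.node (.leaf 2638) (.leaf 0))) (.node (.node (.leaf 14083) (.leaf 0)) (.node (.leaf 14368) (.leaf 0)))) (.node (.node (.node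 (.leaf 18151) (.leaf 16981)) (.node (.leaf 10069) (.leaf 0))) (.node (.node (.leaf 295) (.leaf 0)) (.node (.leaf 1799) (.leaf 0))))))))

def omT82 : NT := .node (.node (.node (.node (.node (.node (.node (.node (.leaf 5462) (.leaf 13224)) (.node (.leaf 6720) (.leaf 0))) (.node (.node (.leaf 1884) (.leaf 0)) (.node (.leaf 8231) (.leaf 0)))) (.node (.node (.node (.leaf 13357) (.leaf 8213)) (.node (.leaf 9148) (.leaf 0))) (.node (.node (.leaf 5374) (.leaf 0)) (.node (.leaf 19982) (.leaf 0))))) (.node (.node (.node (.node (.leaf 17957) (.leaf 1549)) (.node (.leaf 2133) (.leaf 0))) (.node (.node (.leaf 6309) (.leaf 0)) (.node (.leaf 2292) (.leaf 0)))) (.node (.node (.node (.leaf 16154) (.leaf 18705)) (.node (.leaf 12887) (.leaf 0))) (.node (.node (.leaf 3337) (.leaf 0)) (.node (.leaf 10420) (.leaf 0)))))) (.node (.node (.node (.node (.node (.leaf 13929) (.leaf 12766)) (.node (.leaf 15350) (.leaf 0))) (.node (.node (.leaf 15384) (.leaf 0)) (.node (.leaf 10029) (.leaf 0)))) (.node (.node (.node (.leaf 9609) (.leaf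 12240)) (.node (.leaf 15903) (.leaf 0))) (.node (.node (.leaf 13012) (.leaf 0)) (.node (.leaf 2821) (.leaf 0))))) (.node (.node (.node (.node (.leaf 8253) (.leaf 17324)) (.node (.leaf 17511) (.leaf 0))) (.node (.node (.leaf 3635) (.leaf 0)) (.node (.leaf 11148) (.leaf 0)))) (.node (.node (.node (.leaf 11253) (.leaf 5381)) (.node (.leaf 14468) (.leaf 0))) (.node (.node (.leaf 10244) (.leaf 0)) (.node (.leaf 9703) (.leaf 0))))))) (.node (.node (.node (.node (.node (.node (.leaf 4582) (.leaf 16036)) (.node (.leaf 18197) (.leaf 0))) (.node (.node (.leaf 20107) (.leaf 0)) (.node (.leaf 17939) (.leaf 0)))) (.node (.node (.node (.leaf 15320) (.leaf 3297)) (.node (.leaf 16985) (.leaf 0))) (.node (.node (.leaf 11438) (.leaf 0)) (.node (.leaf 7860) (.leaf 0))))) (.node (.node (.node (.node (.leaf 13646) (.leaf 1698)) (.node (.leaf 17184) (.leaf 0))) (.node (.node (.leaf 17554) (.leaf 0)) (.node (.leaf 4620) (.leaf 0)))) (.node (.node (.node (.leaf 9423) (.leaf 10032)) (.node (.leaf 2064) (.leaf 0))) (.node (.node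 (.leaf 11868) (.leaf 0)) (.node (.leaf 6454) (.leaf 0)))))) (.node (.node (.node (.node (.node (.leaf 15702) (.leaf 15165)) (.node (.leaf 18140) (.leaf 0))) (.node (.node (.leaf 10547) (.leaf 0)) (.node (.leaf 12627) (.leaf 0)))) (.node (.node (.node (.leaf 19000) (.leaf 13826)) (.node (.leaf 539) (.leaf 0))) (.node (.node (.leaf 9793) (.leaf 0)) (.node (.leaf 2268) (.leaf 0))))) (.node (.node (.node (.node (.leaf 6852) (.leaf 1089)) (.node (.leaf 4441) (.leaf 0))) (.node (.node (.leaf 10926) (.leaf 0)) (.node (.leaf 11184) (.leaf 0)))) (.node (.node (.node (.leaf 8619) (.leaf 10974)) (.node (.leaf 6094) (.leaf 0))) (.node (.node (.leaf 8710) (.leaf 0)) (.node (.leaf 20143) (.leaf 0)))))))) (.node (.node (.node (.node (.node (.node (.node (.leaf 10677) (.leaf 17832)) (.node (.leaf 123) (.leaf 0))) (.node (.node (.leaf 12585) (.leaf 0)) (.node (.leaf 17688) (.leaf 0)))) (.node (.node (.node (.leaf 16271) (.leaf 13046)) (.node (.leaf 19487) (.leaf 0))) (.node (.node (.leaf 7635) (.leaf 0)) (.node (.leaf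 11064) (.leaf 0))))) (.node (.node (.node (.node (.leaf 3885) (.leaf 13155)) (.node (.leaf 1595) (.leaf 0))) (.node (.node (.leaf 5965) (.leaf 0)) (.node (.leaf 7162) (.leaf 0)))) (.node (.node (.node (.leaf 12995) (.leaf 4891)) (.node (.leaf 12236) (.leaf 0))) (.node (.node (.leaf 3220) (.leaf 0)) (.node (.leaf 7222) (.leaf 0)))))) (.node (.node (.node (.node (.node (.leaf 5766) (.leaf 5510)) (.node (.leaf 7963) (.leaf 0))) (.node (.node (.leaf 16296) (.leaf 0)) (.node (.leaf 11450) (.leaf 0)))) (.node (.node (.node (.leaf 285) (.leaf 3451)) (.node (.leaf 8705) (.leaf 0))) (.node (.node (.leaf 2450) (.leaf 0)) (.node (.leaf 19234) (.leaf 0))))) (.node (.node (.node (.node (.leaf 16561) (.leaf 2352)) (.node (.leaf 11333) (.leaf 0))) (.node (.node (.leaf 18259) (.leaf 0)) (.node (.leaf 1167) (.leaf 0)))) (.node (.node (.node (.leaf 19699) (.leaf 7699)) (.node (.leaf 11427) (.leaf 0))) (.node (.node (.leaf 16451) (.leaf 0)) (.node (.leaf 19753) (.leaf 0))))))) (.node (.node (.node (.node (.node (.node (.leaf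 18808) (.leaf 17392)) (.node (.leaf 20498) (.leaf 0))) (.node (.node (.leaf 9002) (.leaf 0)) (.node (.leaf 3099) (.leaf 0)))) (.node (.node (.node (.leaf 6584) (.leaf 19041)) (.node (.leaf 14046) (.leaf 0))) (.node (.node (.leaf 15225) (.leaf 0)) (.node (.leaf 14754) (.leaf 0))))) (.node (.node (.node (.node (.leaf 18390) (.leaf 6112)) (.node (.leaf 7961) (.leaf 0))) (.node (.node (.leaf 15094) (.leaf 0)) (.node (.leaf 13161) (.leaf 0)))) (.node (.node (.node (.leaf 11916) (.leaf 18643)) (.node (.leaf 5229) (.leaf 0))) (.node (.node (.leaf 10073) (.leaf 0)) (.node (.leaf 10553) (.leaf 0)))))) (.node (.node (.node (.node (.node (.leaf 14972) (.leaf 9453)) (.node (.leaf 13385) (.leaf 0))) (.node (.node (.leaf 2360) (.leaf 0)) (.node (.leaf 17000) (.leaf 0)))) (.node (.node (.node (.leaf 18809) (.leaf 6843)) (.node (.leaf 4902) (.leaf 0))) (.node (.node (.leaf 1280) (.leaf 0)) (.node (.leaf 8278) (.leaf 0))))) (.node (.node (.node (.node (.leaf 17746) (.leaf 2112)) (.node (.leaf 11036) (.leaf 0))) (.node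 (.node (.leaf 1469) (.leaf 0)) (.node (.leaf 19375) (.leaf 0)))) (.node (.node (.node (.leaf 9204) (.leaf 7240)) (.node (.leaf 8666) (.leaf 0))) (.node (.node (.leaf 15217) (.leaf 0)) (.node (.leaf 13544) (.leaf 0))))))))

def omT83 : NT := .node (.node (.node (.node (.node (.node (.node (.node (.leaf 20478) (.leaf 11256)) (.node (.leaf 3464) (.leaf 0))) (.node (.node (.leaf 1356) (.leaf 0)) (.node (.leaf 8712) (.leaf 0)))) (.node (.node (.node (.leaf 15741) (.leaf 2699)) (.node (.leaf 339) (.leaf 0))) (.node (.node (.leaf 5648) (.leaf 0)) (.node (.leaf 6341) (.leaf 0))))) (.node (.node (.node (.node (.leaf 2769) (.leaf 4844)) (.node (.leaf 2173) (.leaf 0))) (.node (.node (.leaf 2122) (.leaf 0)) (.node (.leaf 9573) (.leaf 0)))) (.node (.node (.node (.leaf 8957) (.leaf 3921)) (.node (.leaf 11191) (.leaf 0))) (.node (.node (.leaf 10808) (.leaf 0)) (.node (.leaf 13495) (.leaf 0)))))) (.node (.node (.node (.node (.node (.leaf 3750) (.leaf 10346)) (.node (.leaf 7658) (.leaf 0))) (.node (.node (.leaf 13444)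 (.leaf 0)) (.node (.leaf 410) (.leaf 0)))) (.node (.node (.node (.leaf 18099) (.leaf 8416)) (.node (.leaf 11566) (.leaf 0))) (.node (.node (.leaf 8448) (.leaf 0)) (.node (.leaf 15861) (.leaf 0))))) (.node (.node (.node (.node (.leaf 10193) (.leaf 19721)) (.node (.leaf 310) (.leaf 0))) (.node (.node (.leaf 249) (.leaf 0)) (.node (.leaf 5401) (.leaf 0)))) (.node (.node (.node (.leaf 16885) (.leaf 16241)) (.node (.leaf 9813) (.leaf 0))) (.node (.node (.leaf 17701) (.leaf 0)) (.node (.leaf 1624) (.leaf 0))))))) (.node (.node (.node (.node (.node (.node (.leaf 10969) (.leaf 6252)) (.node (.leaf 12859) (.leaf 0))) (.node (.node (.leaf 7375) (.leaf 0)) (.node (.leaf 6500) (.leaf 0)))) (.node (.node (.node (.leaf 19739) (.leaf 8750)) (.node (.leaf 5330) (.leaf 0))) (.node (.node (.leaf 10984) (.leaf 0)) (.node (.leaf 4687) (.leaf 0))))) (.node (.node (.node (.node (.leaf 17249) (.leaf 19762)) (.node (.leaf 2121) (.leaf 0))) (.node (.node (.leaf 19246) (.leaf 0)) (.node (.leaf 10451) (.leaf 0)))) (.node (.node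 (.node (.leaf 15381) (.leaf 6054)) (.node (.leaf 14407) (.leaf 0))) (.node (.node (.leaf 10486) (.leaf 0)) (.node (.leaf 5730) (.leaf 0)))))) (.node (.node (.node (.node (.node (.leaf 19123) (.leaf 5448)) (.node (.leaf 14183) (.leaf 0))) (.node (.node (.leaf 18155) (.leaf 0)) (.node (.leaf 11248) (.leaf 0)))) (.node (.node (.node (.leaf 2394) (.leaf 9922)) (.node (.leaf 18962) (.leaf 0))) (.node (.node (.leaf 7295) (.leaf 0)) (.node (.leaf 1499) (.leaf 0))))) (.node (.node (.node (.node (.leaf 13967) (.leaf 16152)) (.node (.leaf 14931) (.leaf 0))) (.node (.node (.leaf 13727) (.leaf 0)) (.node (.leaf 16162) (.leaf 0)))) (.node (.node (.node (.leaf 11368) (.leaf 1231)) (.node (.leaf 2733) (.leaf 0))) (.node (.node (.leaf 10705) (.leaf 0)) (.node (.leaf 16406) (.leaf 0)))))))) (.node (.node (.node (.node (.node (.node (.node (.leaf 15009) (.leaf 2492)) (.node (.leaf 20105) (.leaf 0))) (.node (.node (.leaf 15407) (.leaf 0)) (.node (.leaf 1295) (.leaf 0)))) (.node (.node (.node (.leaf 11669) (.leaf 10203))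 (.node (.leaf 12200) (.leaf 0))) (.node (.node (.leaf 11559) (.leaf 0)) (.node (.leaf 16180) (.leaf 0))))) (.node (.node (.node (.node (.leaf 4112) (.leaf 11230)) (.node (.leaf 1825) (.leaf 0))) (.node (.node (.leaf 4532) (.leaf 0)) (.node (.leaf 1183) (.leaf 0)))) (.node (.node (.node (.leaf 16803) (.leaf 9270)) (.node (.leaf 15634) (.leaf 0))) (.node (.node (.leaf 329) (.leaf 0)) (.node (.leaf 16469) (.leaf 0)))))) (.node (.node (.node (.node (.node (.leaf 9847) (.leaf 4603)) (.node (.leaf 14577) (.leaf 0))) (.node (.node (.leaf 6154) (.leaf 0)) (.node (.leaf 1438) (.leaf 0)))) (.node (.node (.node (.leaf 6520) (.leaf 16710)) (.node (.leaf 4407) (.leaf 0))) (.node (.node (.leaf 4161) (.leaf 0)) (.node (.leaf 16810) (.leaf 0))))) (.node (.node (.node (.node (.leaf 9650) (.leaf 8086)) (.node (.leaf 6774) (.leaf 0))) (.node (.node (.leaf 11482) (.leaf 0)) (.node (.leaf 19165) (.leaf 0)))) (.node (.node (.node (.leaf 9533) (.leaf 14678)) (.node (.leaf 13759) (.leaf 0))) (.node (.node (.leaf 17677) (.leaf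 0)) (.node (.leaf 15730) (.leaf 0))))))) (.node (.node (.node (.node (.node (.node (.leaf 4447) (.leaf 15654)) (.node (.leaf 11448) (.leaf 0))) (.node (.node (.leaf 16871) (.leaf 0)) (.node (.leaf 4799) (.leaf 0)))) (.node (.node (.node (.leaf 17581) (.leaf 13078)) (.node (.leaf 12229) (.leaf 0))) (.node (.node (.leaf 13724) (.leaf 0)) (.node (.leaf 5637) (.leaf 0))))) (.node (.node (.node (.node (.leaf 16786) (.leaf 13006)) (.node (.leaf 13510) (.leaf 0))) (.node (.node (.leaf 2261) (.leaf 0)) (.node (.leaf 12714) (.leaf 0)))) (.node (.node (.node (.leaf 4842) (.leaf 17951)) (.node (.leaf 878) (.leaf 0))) (.node (.node (.leaf 11936) (.leaf 0)) (.node (.leaf 5893) (.leaf 0)))))) (.node (.node (.node (.node (.node (.leaf 2758) (.leaf 12596)) (.node (.leaf 15941) (.leaf 0))) (.node (.node (.leaf 8531) (.leaf 0)) (.node (.leaf 6437) (.leaf 0)))) (.node (.node (.node (.leaf 2949) (.leaf 8422)) (.node (.leaf 6973) (.leaf 0))) (.node (.node (.leaf 17983) (.leaf 0)) (.node (.leaf 234) (.leaf 0))))) (.node (.node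 (.node (.node (.leaf 5295) (.leaf 5721)) (.node (.leaf 4159) (.leaf 0))) (.node (.node (.leaf 19465) (.leaf 0)) (.node (.leaf 17713) (.leaf 0)))) (.node (.node (.node (.leaf 3434) (.leaf 2412)) (.node (.leaf 5338) (.leaf 0))) (.node (.node (.leaf 16025) (.leaf 0)) (.node (.leaf 5689) (.leaf 0))))))))

def omT84 : NT := .node (.node (.node (.node (.node (.node (.node (.node (.leaf 18) (.leaf 3400)) (.node (.leaf 5521) (.leaf 0))) (.node (.node (.leaf 17362) (.leaf 0)) (.node (.leaf 18674) (.leaf 0)))) (.node (.node (.node (.leaf 11098) (.leaf 9238)) (.node (.leaf 18020) (.leaf 0))) (.node (.node (.leaf 5250) (.leaf 0)) (.node (.leaf 6876) (.leaf 0))))) (.node (.node (.node (.node (.leaf 865) (.leaf 7017)) (.node (.leaf 11477) (.leaf 0))) (.node (.node (.leaf 6635) (.leaf 0)) (.node (.leaf 9810) (.leaf 0)))) (.node (.node (.node (.leaf 12757) (.leaf 10283)) (.node (.leaf 19535) (.leaf 0))) (.node (.node (.leaf 10226) (.leaf 0)) (.node (.leaf 12514) (.leaf 0)))))) (.node (.node (.node (.node (.node (.leaf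 4973) (.leaf 12720)) (.node (.leaf 3312) (.leaf 0))) (.node (.node (.leaf 12837) (.leaf 0)) (.node (.leaf 16631) (.leaf 0)))) (.node (.node (.node (.leaf 5453) (.leaf 1497)) (.node (.leaf 11737) (.leaf 0))) (.node (.node (.leaf 10075) (.leaf 0)) (.node (.leaf 8843) (.leaf 0))))) (.node (.node (.node (.node (.leaf 17459) (.leaf 16731)) (.node (.leaf 239) (.leaf 0))) (.node (.node (.leaf 17849) (.leaf 0)) (.node (.leaf 5871) (.leaf 0)))) (.node (.node (.node (.leaf 14058) (.leaf 13592)) (.node (.leaf 16911) (.leaf 0))) (.node (.node (.leaf 13066) (.leaf 0)) (.node (.leaf 9483) (.leaf 0))))))) (.node (.node (.node (.node (.node (.node (.leaf 19388) (.leaf 2917)) (.node (.leaf 5171) (.leaf 0))) (.node (.node (.leaf 13616) (.leaf 0)) (.node (.leaf 7241) (.leaf 0)))) (.node (.node (.node (.leaf 18073) (.leaf 5092)) (.node (.leaf 6858) (.leaf 0))) (.node (.node (.leaf 18602) (.leaf 0)) (.node (.leaf 18248) (.leaf 0))))) (.node (.node (.node (.node (.leaf 1620) (.leaf 7377)) (.node (.leaf 19214) (.leaf 0))) (.node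 (.node (.leaf 6360) (.leaf 0)) (.node (.leaf 2294) (.leaf 0)))) (.node (.node (.node (.leaf 11153) (.leaf 16893)) (.node (.leaf 10275) (.leaf 0))) (.node (.node (.leaf 5341) (.leaf 0)) (.node (.leaf 12669) (.leaf 0)))))) (.node (.node (.node (.node (.node (.leaf 15771) (.leaf 15624)) (.node (.leaf 663) (.leaf 0))) (.node (.node (.leaf 1771) (.leaf 0)) (.node (.leaf 10373) (.leaf 0)))) (.node (.node (.node (.leaf 13834) (.leaf 14515)) (.node (.leaf 14974) (.leaf 0))) (.node (.node (.leaf 10676) (.leaf 0)) (.node (.leaf 1489) (.leaf 0))))) (.node (.node (.node (.node (.leaf 3595) (.leaf 6169)) (.node (.leaf 118) (.leaf 0))) (.node (.node (.leaf 11655) (.leaf 0)) (.node (.leaf 456) (.leaf 0)))) (.node (.node (.node (.leaf 10874) (.leaf 17317)) (.node (.leaf 18741) (.leaf 0))) (.node (.node (.leaf 19167) (.leaf 0)) (.node (.leaf 8408) (.leaf 0)))))))) (.node (.node (.node (.node (.node (.node (.node (.leaf 13205) (.leaf 4762)) (.node (.leaf 4164) (.leaf 0))) (.node (.node (.leaf 15543) (.leaf 0)) (.node (.leaf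 18389) (.leaf 0)))) (.node (.node (.node (.leaf 2200) (.leaf 19353)) (.node (.leaf 18909) (.leaf 0))) (.node (.node (.leaf 19299) (.leaf 0)) (.node (.leaf 20408) (.leaf 0))))) (.node (.node (.node (.node (.leaf 18347) (.leaf 11844)) (.node (.leaf 14713) (.leaf 0))) (.node (.node (.leaf 11615) (.leaf 0)) (.node (.leaf 13263) (.leaf 0)))) (.node (.node (.node (.leaf 15520) (.leaf 525)) (.node (.leaf 3045) (.leaf 0))) (.node (.node (.leaf 12452) (.leaf 0)) (.node (.leaf 18176) (.leaf 0)))))) (.node (.node (.node (.node (.node (.leaf 11278) (.leaf 19494)) (.node (.leaf 8303) (.leaf 0))) (.node (.node (.leaf 8609) (.leaf 0)) (.node (.leaf 11665) (.leaf 0)))) (.node (.node (.node (.leaf 11103) (.leaf 5634)) (.node (.leaf 5139) (.leaf 0))) (.node (.node (.leaf 9294) (.leaf 0)) (.node (.leaf 16104) (.leaf 0))))) (.node (.node (.node (.node (.leaf 16129) (.leaf 901)) (.node (.leaf 11492) (.leaf 0))) (.node (.node (.leaf 1393) (.leaf 0)) (.node (.leaf 9789) (.leaf 0)))) (.node (.node (.node (.leaf 8884) (.leaf 9839))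 (.node (.leaf 18303) (.leaf 0))) (.node (.node (.leaf 19164) (.leaf 0)) (.node (.leaf 12127) (.leaf 0))))))) (.node (.node (.node (.node (.node (.node (.leaf 19714) (.leaf 8008)) (.node (.leaf 15101) (.leaf 0))) (.node (.node (.leaf 6218) (.leaf 0)) (.node (.leaf 13799) (.leaf 0)))) (.node (.node (.node (.leaf 10248) (.leaf 1269)) (.node (.leaf 1847) (.leaf 0))) (.node (.node (.leaf 19766) (.leaf 0)) (.node (.leaf 7814) (.leaf 0))))) (.node (.node (.node (.node (.leaf 18672) (.leaf 8473)) (.node (.leaf 17235) (.leaf 0))) (.node (.node (.leaf 16200) (.leaf 0)) (.node (.leaf 9794) (.leaf 0)))) (.node (.node (.node (.leaf 3108) (.leaf 430)) (.node (.leaf 13418) (.leaf 0))) (.node (.node (.leaf 13360) (.leaf 0)) (.node (.leaf 9569) (.leaf 0)))))) (.node (.node (.node (.node (.node (.leaf 5179) (.leaf 10123)) (.node (.leaf 12126) (.leaf 0))) (.node (.node (.leaf 16012) (.leaf 0)) (.node (.leaf 7244) (.leaf 0)))) (.node (.node (.node (.leaf 1765) (.leaf 9491)) (.node (.leaf 11475) (.leaf 0))) (.node (.node (.leaf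 2326) (.leaf 0)) (.node (.leaf 16198) (.leaf 0))))) (.node (.node (.node (.node (.leaf 12852) (.leaf 11836)) (.node (.leaf 12648) (.leaf 0))) (.node (.node (.leaf 17877) (.leaf 0)) (.node (.leaf 10687) (.leaf 0)))) (.node (.node (.node (.leaf 14872) (.leaf 344)) (.node (.leaf 7288) (.leaf 0))) (.node (.node (.leaf 9354) (.leaf 0)) (.node (.leaf 9516) (.leaf 0))))))))

def omT85 : NT := .node (.node (.node (.node (.node (.node (.node (.node (.leaf 12052) (.leaf 7506)) (.node (.leaf 20135) (.leaf 0))) (.node (.node (.leaf 1581) (.leaf 0)) (.node (.leaf 3488) (.leaf 0)))) (.node (.node (.node (.leaf 4869) (.leaf 12818)) (.node (.leaf 5963) (.leaf 0))) (.node (.node (.leaf 8162) (.leaf 0)) (.node (.leaf 12390) (.leaf 0))))) (.node (.node (.node (.node (.leaf 5327) (.leaf 11881)) (.node (.leaf 19163) (.leaf 0))) (.node (.node (.leaf 20155) (.leaf 0)) (.node (.leaf 17461) (.leaf 0)))) (.node (.node (.node (.leaf 20130) (.leaf 5202)) (.node (.leaf 11320) (.leaf 0))) (.node (.node (.leaf 19923) (.leaf 0)) (.node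 (.leaf 13089) (.leaf 0)))))) (.node (.node (.node (.node (.node (.leaf 9654) (.leaf 16110)) (.node (.leaf 10960) (.leaf 0))) (.node (.node (.leaf 9750) (.leaf 0)) (.node (.leaf 1440) (.leaf 0)))) (.node (.node (.node (.leaf 18666) (.leaf 18107)) (.node (.leaf 720) (.leaf 0))) (.node (.node (.leaf 5189) (.leaf 0)) (.node (.leaf 13135) (.leaf 0))))) (.node (.node (.node (.node (.leaf 2350) (.leaf 5926)) (.node (.leaf 3871) (.leaf 0))) (.node (.node (.leaf 5476) (.leaf 0)) (.node (.leaf 11107) (.leaf 0)))) (.node (.node (.node (.leaf 17878) (.leaf 1403)) (.node (.leaf 8523) (.leaf 0))) (.node (.node (.leaf 14546) (.leaf 0)) (.node (.leaf 16603) (.leaf 0))))))) (.node (.node (.node (.node (.node (.node (.leaf 17806) (.leaf 14976)) (.node (.leaf 3240) (.leaf 0))) (.node (.node (.leaf 13396) (.leaf 0)) (.node (.leaf 11485) (.leaf 0)))) (.node (.node (.node (.leaf 3818) (.leaf 5457)) (.node (.leaf 3347) (.leaf 0))) (.node (.node (.leaf 10467) (.leaf 0)) (.node (.leaf 7958) (.leaf 0))))) (.node (.node (.node (.node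 (.leaf 16276) (.leaf 435)) (.node (.leaf 855) (.leaf 0))) (.node (.node (.leaf 17303) (.leaf 0)) (.node (.leaf 14302) (.leaf 0)))) (.node (.node (.node (.leaf 15687) (.leaf 11723)) (.node (.leaf 8264) (.leaf 0))) (.node (.node (.leaf 8245) (.leaf 0)) (.node (.leaf 1991) (.leaf 0)))))) (.node (.node (.node (.node (.node (.leaf 20516) (.leaf 10918)) (.node (.leaf 10736) (.leaf 0))) (.node (.node (.leaf 16269) (.leaf 0)) (.node (.leaf 6638) (.leaf 0)))) (.node (.node (.node (.leaf 17990) (.leaf 16367)) (.node (.leaf 18348) (.leaf 0))) (.node (.node (.leaf 7512) (.leaf 0)) (.node (.leaf 488) (.leaf 0))))) (.node (.node (.node (.node (.leaf 12272) (.leaf 10000)) (.node (.leaf 10652) (.leaf 0))) (.node (.node (.leaf 7452) (.leaf 0)) (.node (.leaf 12780) (.leaf 0)))) (.node (.node (.node (.leaf 16826) (.leaf 5339)) (.node (.leaf 8925) (.leaf 0))) (.node (.node (.leaf 2791) (.leaf 0)) (.node (.leaf 19901) (.leaf 0)))))))) (.node (.node (.node (.node (.node (.node (.node (.leaf 4833) (.leaf 19326)) (.node (.leaf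 16558) (.leaf 0))) (.node (.node (.leaf 19053) (.leaf 0)) (.node (.leaf 18540) (.leaf 0)))) (.node (.node (.node (.leaf 13663) (.leaf 8185)) (.node (.leaf 13391) (.leaf 0))) (.node (.node (.leaf 14067) (.leaf 0)) (.node (.leaf 17704) (.leaf 0))))) (.node (.node (.node (.node (.leaf 18033) (.leaf 15058)) (.node (.leaf 4909) (.leaf 0))) (.node (.node (.leaf 6994) (.leaf 0)) (.node (.leaf 11644) (.leaf 0)))) (.node (.node (.node (.leaf 18489) (.leaf 14776)) (.node (.leaf 3694) (.leaf 0))) (.node (.node (.leaf 12163) (.leaf 0)) (.node (.leaf 5131) (.leaf 0)))))) (.node (.node (.node (.node (.node (.leaf 17985) (.leaf 19113)) (.node (.leaf 16322) (.leaf 0))) (.node (.node (.leaf 12751) (.leaf 0)) (.node (.leaf 7573) (.leaf 0)))) (.node (.node (.node (.leaf 5628) (.leaf 8015)) (.node (.leaf 12292) (.leaf 0))) (.node (.node (.leaf 7849) (.leaf 0)) (.node (.leaf 1472) (.leaf 0))))) (.node (.node (.node (.node (.leaf 10094) (.leaf 15338)) (.node (.leaf 708) (.leaf 0))) (.node (.node (.leaf 9297) (.leaf 0)) (.node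 (.leaf 2117) (.leaf 0)))) (.node (.node (.node (.leaf 9220) (.leaf 19563)) (.node (.leaf 6539) (.leaf 0))) (.node (.node (.leaf 6543) (.leaf 0)) (.node (.leaf 1986) (.leaf 0))))))) (.node (.node (.node (.node (.node (.node (.leaf 7015) (.leaf 9044)) (.node (.leaf 8283) (.leaf 0))) (.node (.node (.leaf 1727) (.leaf 0)) (.node (.leaf 346) (.leaf 0)))) (.node (.node (.node (.leaf 19816) (.leaf 11832)) (.node (.leaf 9324) (.leaf 0))) (.node (.node (.leaf 13032) (.leaf 0)) (.node (.leaf 17728) (.leaf 0))))) (.node (.node (.node (.node (.leaf 15073) (.leaf 10640)) (.node (.leaf 7471) (.leaf 0))) (.node (.node (.leaf 17816) (.leaf 0)) (.node (.leaf 13486) (.leaf 0)))) (.node (.node (.node (.leaf 10747) (.leaf 1658)) (.node (.leaf 3186) (.leaf 0))) (.node (.node (.leaf 5508) (.leaf 0)) (.node (.leaf 5742) (.leaf 0)))))) (.node (.node (.node (.node (.node (.leaf 18014) (.leaf 7556)) (.node (.leaf 6109) (.leaf 0))) (.node (.node (.leaf 20446) (.leaf 0)) (.node (.leaf 1076) (.leaf 0)))) (.node (.node (.node (.leaf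 16216) (.leaf 12597)) (.node (.leaf 10206) (.leaf 0))) (.node (.node (.leaf 1057) (.leaf 0)) (.node (.leaf 5759) (.leaf 0))))) (.node (.node (.node (.node (.leaf 8502) (.leaf 4032)) (.node (.leaf 6728) (.leaf 0))) (.node (.node (.leaf 15154) (.leaf 0)) (.node (.leaf 10210) (.leaf 0)))) (.node (.node (.node (.leaf 14557) (.leaf 11478)) (.node (.leaf 7095) (.leaf 0))) (.node (.node (.leaf 19280) (.leaf 0)) (.node (.leaf 496) (.leaf 0))))))))

def omT86 : NT := .node (.node (.node (.node (.node (.node (.node (.node (.leaf 17300) (.leaf 20014)) (.node (.leaf 12079) (.leaf 0))) (.node (.node (.leaf 14662) (.leaf 0)) (.node (.leaf 2507) (.leaf 0)))) (.node (.node (.node (.leaf 230) (.leaf 7841)) (.node (.leaf 13786) (.leaf 0))) (.node (.node (.leaf 13770) (.leaf 0)) (.node (.leaf 15569) (.leaf 0))))) (.node (.node (.node (.node (.leaf 3821) (.leaf 10517)) (.node (.leaf 7748) (.leaf 0))) (.node (.node (.leaf 9921) (.leaf 0)) (.node (.leaf 7822) (.leaf 0)))) (.node (.node (.node (.leaf 821) (.leaf 9236)) (.node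 (.leaf 10759) (.leaf 0))) (.node (.node (.leaf 18282) (.leaf 0)) (.node (.leaf 9520) (.leaf 0)))))) (.node (.node (.node (.node (.node (.leaf 5363) (.leaf 881)) (.node (.leaf 1832) (.leaf 0))) (.node (.node (.leaf 1173) (.leaf 0)) (.node (.leaf 16144) (.leaf 0)))) (.node (.node (.node (.leaf 13114) (.leaf 19288)) (.node (.leaf 3785) (.leaf 0))) (.node (.node (.leaf 17367) (.leaf 0)) (.node (.leaf 15107) (.leaf 0))))) (.node (.node (.node (.node (.leaf 16108) (.leaf 18673)) (.node (.leaf 2433) (.leaf 0))) (.node (.node (.leaf 19520) (.leaf 0)) (.node (.leaf 7545) (.leaf 0)))) (.node (.node (.node (.leaf 12541) (.leaf 14502)) (.node (.leaf 13787) (.leaf 0))) (.node (.node (.leaf 20134) (.leaf 0)) (.node (.leaf 2135) (.leaf 0))))))) (.node (.node (.node (.node (.node (.node (.leaf 1859) (.leaf 16239)) (.node (.leaf 8074) (.leaf 0))) (.node (.node (.leaf 18017) (.leaf 0)) (.node (.leaf 5969) (.leaf 0)))) (.node (.node (.node (.leaf 3082) (.leaf 7371)) (.node (.leaf 1951) (.leaf 0))) (.node (.node (.leaf 662)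 (.leaf 0)) (.node (.leaf 16076) (.leaf 0))))) (.node (.node (.node (.node (.leaf 12569) (.leaf 10224)) (.node (.leaf 12406) (.leaf 0))) (.node (.node (.leaf 11677) (.leaf 0)) (.node (.leaf 1217) (.leaf 0)))) (.node (.node (.node (.leaf 14781) (.leaf 10161)) (.node (.leaf 8911) (.leaf 0))) (.node (.node (.leaf 15671) (.leaf 0)) (.node (.leaf 16769) (.leaf 0)))))) (.node (.node (.node (.node (.node (.leaf 17703) (.leaf 15591)) (.node (.leaf 9888) (.leaf 0))) (.node (.node (.leaf 15028) (.leaf 0)) (.node (.leaf 9254) (.leaf 0)))) (.node (.node (.node (.leaf 4281) (.leaf 3838)) (.node (.leaf 3032) (.leaf 0))) (.node (.node (.leaf 9550) (.leaf 0)) (.node (.leaf 43) (.leaf 0))))) (.node (.node (.node (.node (.leaf 947) (.leaf 887)) (.node (.leaf 7931) (.leaf 0))) (.node (.node (.leaf 6870) (.leaf 0)) (.node (.leaf 8584) (.leaf 0)))) (.node (.node (.node (.leaf 11947) (.leaf 7912)) (.node (.leaf 3150) (.leaf 0))) (.node (.node (.leaf 2373) (.leaf 0)) (.node (.leaf 5116) (.leaf 0)))))))) (.node (.node (.node (.node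 (.node (.node (.node (.leaf 8830) (.leaf 12154)) (.node (.leaf 3998) (.leaf 0))) (.node (.node (.leaf 18372) (.leaf 0)) (.node (.leaf 10093) (.leaf 0)))) (.node (.node (.node (.leaf 4056) (.leaf 17130)) (.node (.leaf 16402) (.leaf 0))) (.node (.node (.leaf 10247) (.leaf 0)) (.node (.leaf 11515) (.leaf 0))))) (.node (.node (.node (.node (.leaf 14317) (.leaf 18193)) (.node (.leaf 4199) (.leaf 0))) (.node (.node (.leaf 4976) (.leaf 0)) (.node (.leaf 8691) (.leaf 0)))) (.node (.node (.node (.leaf 687) (.leaf 10904)) (.node (.leaf 1498) (.leaf 0))) (.node (.node (.leaf 2022) (.leaf 0)) (.node (.leaf 15034) (.leaf 0)))))) (.node (.node (.node (.node (.node (.leaf 11660) (.leaf 1172)) (.node (.leaf 1338) (.leaf 0))) (.node (.node (.leaf 1794) (.leaf 0)) (.node (.leaf 18861) (.leaf 0)))) (.node (.node (.node (.leaf 3469) (.leaf 11504)) (.node (.leaf 9712) (.leaf 0))) (.node (.node (.leaf 1073) (.leaf 0)) (.node (.leaf 3604) (.leaf 0))))) (.node (.node (.node (.node (.leaf 14808) (.leaf 1260)) (.node (.leaf 16224)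 (.leaf 0))) (.node (.node (.leaf 4889) (.leaf 0)) (.node (.leaf 13212) (.leaf 0)))) (.node (.node (.node (.leaf 3824) (.leaf 10519)) (.node (.leaf 19852) (.leaf 0))) (.node (.node (.leaf 3533) (.leaf 0)) (.node (.leaf 16397) (.leaf 0))))))) (.node (.node (.node (.node (.node (.node (.leaf 9464) (.leaf 12727)) (.node (.leaf 10788) (.leaf 0))) (.node (.node (.leaf 14225) (.leaf 0)) (.node (.leaf 19008) (.leaf 0)))) (.node (.node (.node (.leaf 17176) (.leaf 16964)) (.node (.leaf 7330) (.leaf 0))) (.node (.node (.leaf 11182) (.leaf 0)) (.node (.leaf 3325) (.leaf 0))))) (.node (.node (.node (.node (.leaf 10541) (.leaf 20410)) (.node (.leaf 8630) (.leaf 0))) (.node (.node (.leaf 15944) (.leaf 0)) (.node (.leaf 11857) (.leaf 0)))) (.node (.node (.node (.leaf 19398) (.leaf 10575)) (.node (.leaf 8059) (.leaf 0))) (.node (.node (.leaf 16692) (.leaf 0)) (.node (.leaf 6926) (.leaf 0)))))) (.node (.node (.node (.node (.node (.leaf 2631) (.leaf 9229)) (.node (.leaf 7378) (.leaf 0))) (.node (.node (.leaf 9940) (.leaf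 0)) (.node (.leaf 4823) (.leaf 0)))) (.node (.node (.node (.leaf 19476) (.leaf 14258)) (.node (.leaf 3692) (.leaf 0))) (.node (.node (.leaf 12478) (.leaf 0)) (.node (.leaf 18045) (.leaf 0))))) (.node (.node (.node (.node (.leaf 19128) (.leaf 2162)) (.node (.leaf 18243) (.leaf 0))) (.node (.node (.leaf 383) (.leaf 0)) (.node (.leaf 3860) (.leaf 0)))) (.node (.node (.node (.leaf 3403) (.leaf 17227)) (.node (.leaf 20383) (.leaf 0))) (.node (.node (.leaf 8258) (.leaf 0)) (.node (.leaf 1828) (.leaf 0))))))))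

def omT87 : NT := .node (.node (.node (.node (.node (.node (.node (.node (.leaf 6453) (.leaf 18922)) (.node (.leaf 6857) (.leaf 0))) (.node (.node (.leaf 5920) (.leaf 0)) (.node (.leaf 5975) (.leaf 0)))) (.node (.node (.node (.leaf 12059) (.leaf 18747)) (.node (.leaf 10477) (.leaf 0))) (.node (.node (.leaf 7208) (.leaf 0)) (.node (.leaf 5409) (.leaf 0))))) (.node (.node (.node (.node (.leaf 12171) (.leaf 15896)) (.node (.leaf 2167) (.leaf 0))) (.node (.node (.leaf 7243) (.leaf 0)) (.node (.leaf 8446) (.leaf 0)))) (.node (.node (.node (.leaf 15790) (.leaf 10881)) (.node (.leaf 8977) (.leaf 0))) (.node (.node (.leaf 12421) (.leaf 0)) (.node (.leaf 13810) (.leaf 0)))))) (.node (.node (.node (.node (.node (.leaf 12736) (.leaf 7582)) (.node (.leaf 8396) (.leaf 0))) (.node (.node (.leaf 13175) (.leaf 0)) (.node (.leaf 2797) (.leaf 0)))) (.node (.node (.node (.leaf 1230) (.leaf 4794)) (.node (.leaf 6906) (.leaf 0))) (.node (.node (.leaf 4393) (.leaf 0)) (.node (.leaf 9872) (.leaf 0))))) (.node (.node (.node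 (.node (.leaf 4122) (.leaf 2873)) (.node (.leaf 11821) (.leaf 0))) (.node (.node (.leaf 2236) (.leaf 0)) (.node (.leaf 7226) (.leaf 0)))) (.node (.node (.node (.leaf 1704) (.leaf 5753)) (.node (.leaf 14692) (.leaf 0))) (.node (.node (.leaf 13298) (.leaf 0)) (.node (.leaf 16578) (.leaf 0))))))) (.node (.node (.node (.node (.node (.node (.leaf 8214) (.leaf 1524)) (.node (.leaf 14702) (.leaf 0))) (.node (.node (.leaf 146) (.leaf 0)) (.node (.leaf 2152) (.leaf 0)))) (.node (.node (.node (.leaf 572) (.leaf 15541)) (.node (.leaf 18177) (.leaf 0))) (.node (.node (.leaf 13082) (.leaf 0)) (.node (.leaf 11918) (.leaf 0))))) (.node (.node (.node (.node (.leaf 12904) (.leaf 5837)) (.node (.leaf 14263) (.leaf 0))) (.node (.node (.leaf 4160) (.leaf 0)) (.node (.leaf 2655) (.leaf 0)))) (.node (.node (.node (.leaf 11403) (.leaf 419)) (.node (.leaf 4675) (.leaf 0))) (.node (.node (.leaf 16943) (.leaf 0)) (.node (.leaf 5064) (.leaf 0)))))) (.node (.node (.node (.node (.node (.leaf 2119) (.leaf 18098)) (.node (.leaf 7857)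 (.leaf 0))) (.node (.node (.leaf 2003) (.leaf 0)) (.node (.leaf 12591) (.leaf 0)))) (.node (.node (.node (.leaf 6316) (.leaf 15183)) (.node (.leaf 16753) (.leaf 0))) (.node (.node (.leaf 2700) (.leaf 0)) (.node (.leaf 9513) (.leaf 0))))) (.node (.node (.node (.node (.leaf 4896) (.leaf 8598)) (.node (.leaf 17167) (.leaf 0))) (.node (.node (.leaf 10855) (.leaf 0)) (.node (.leaf 16699) (.leaf 0)))) (.node (.node (.node (.leaf 7599) (.leaf 1037)) (.node (.leaf 17936) (.leaf 0))) (.node (.node (.leaf 12649) (.leaf 0)) (.node (.leaf 18189) (.leaf 0)))))))) (.node (.node (.node (.node (.node (.node (.node (.leaf 14439) (.leaf 20381)) (.node (.leaf 8388) (.leaf 0))) (.node (.node (.leaf 453) (.leaf 0)) (.node (.leaf 8936) (.leaf 0)))) (.node (.node (.node (.leaf 19877) (.leaf 19365)) (.node (.leaf 10533) (.leaf 0))) (.node (.node (.leaf 12051) (.leaf 0)) (.node (.leaf 7261) (.leaf 0))))) (.node (.node (.node (.node (.leaf 20224) (.leaf 5068)) (.node (.leaf 3147) (.leaf 0))) (.node (.node (.leaf 15311) (.leaf 0))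 (.node (.leaf 1410) (.leaf 0)))) (.node (.node (.node (.leaf 15752) (.leaf 13456)) (.node (.leaf 6321) (.leaf 0))) (.node (.node (.leaf 16492) (.leaf 0)) (.node (.leaf 15504) (.leaf 0)))))) (.node (.node (.node (.node (.node (.leaf 17793) (.leaf 14599)) (.node (.leaf 17234) (.leaf 0))) (.node (.node (.leaf 10473) (.leaf 0)) (.node (.leaf 13572) (.leaf 0)))) (.node (.node (.node (.leaf 13031) (.leaf 15397)) (.node (.leaf 7625) (.leaf 0))) (.node (.node (.leaf 9965) (.leaf 0)) (.node (.leaf 13110) (.leaf 0))))) (.node (.node (.node (.node (.leaf 15056) (.leaf 6828)) (.node (.leaf 495) (.leaf 0))) (.node (.node (.leaf 11328) (.leaf 0)) (.node (.leaf 10847) (.leaf 0)))) (.node (.node (.node (.leaf 17672) (.leaf 10012)) (.node (.leaf 16024) (.leaf 0))) (.node (.node (.leaf 17226) (.leaf 0)) (.node (.leaf 9561) (.leaf 0))))))) (.node (.node (.node (.node (.node (.node (.leaf 15434) (.leaf 4601)) (.node (.leaf 18127) (.leaf 0))) (.node (.node (.leaf 81) (.leaf 0)) (.node (.leaf 12490) (.leaf 0)))) (.node (.node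 (.node (.leaf 2191) (.leaf 9134)) (.node (.leaf 13637) (.leaf 0))) (.node (.node (.leaf 16875) (.leaf 0)) (.node (.leaf 1352) (.leaf 0))))) (.node (.node (.node (.node (.leaf 6560) (.leaf 11852)) (.node (.leaf 5133) (.leaf 0))) (.node (.node (.leaf 287) (.leaf 0)) (.node (.leaf 18591) (.leaf 0)))) (.node (.node (.node (.leaf 13427) (.leaf 5362)) (.node (.leaf 10381) (.leaf 0))) (.node (.node (.leaf 10526) (.leaf 0)) (.node (.leaf 14728) (.leaf 0)))))) (.node (.node (.node (.node (.node (.leaf 5005) (.leaf 13261)) (.node (.leaf 2390) (.leaf 0))) (.node (.node (.leaf 14248) (.leaf 0)) (.node (.leaf 19525) (.leaf 0)))) (.node (.node (.node (.leaf 11987) (.leaf 10102)) (.node (.leaf 5147) (.leaf 0))) (.node (.node (.leaf 19582) (.leaf 0)) (.node (.leaf 19505) (.leaf 0))))) (.node (.node (.node (.node (.leaf 9049) (.leaf 12002)) (.node (.leaf 19892) (.leaf 0))) (.node (.node (.leaf 6735) (.leaf 0)) (.node (.leaf 12800) (.leaf 0)))) (.node (.node (.node (.leaf 13233) (.leaf 12841)) (.node (.leaf 11168) (.leaf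 0))) (.node (.node (.leaf 2547) (.leaf 0)) (.node (.leaf 9) (.leaf 0))))))))

def omT88 : NT := .node (.node (.node (.node (.node (.node (.node (.node (.leaf 2280) (.leaf 12358)) (.node (.leaf 11114) (.leaf 0))) (.node (.node (.leaf 18566) (.leaf 0)) (.node (.leaf 10328) (.leaf 0)))) (.node (.node (.node (.leaf 6383) (.leaf 9308)) (.node (.leaf 17332) (.leaf 0))) (.node (.node (.leaf 13446) (.leaf 0)) (.node (.leaf 17792) (.leaf 0))))) (.node (.node (.node (.node (.leaf 11946) (.leaf 15318)) (.node (.leaf 16717) (.leaf 0))) (.node (.node (.leaf 14265) (.leaf 0)) (.node (.leaf 9849) (.leaf 0)))) (.node (.node (.node (.leaf 2447) (.leaf 1224)) (.node (.leaf 1839) (.leaf 0))) (.node (.node (.leaf 13352) (.leaf 0)) (.node (.leaf 14150) (.leaf 0)))))) (.node (.node (.node (.node (.node (.leaf 2626) (.leaf 14548)) (.node (.leaf 4678) (.leaf 0))) (.node (.node (.leaf 15) (.leaf 0)) (.node (.leaf 7769) (.leaf 0)))) (.node (.node (.node (.leaf 7463) (.leaf 16004)) (.node (.leaf 8844) (.leaf 0))) (.node (.node (.leaf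 180) (.leaf 0)) (.node (.leaf 2554) (.leaf 0))))) (.node (.node (.node (.node (.leaf 19580) (.leaf 4140)) (.node (.leaf 10133) (.leaf 0))) (.node (.node (.leaf 6134) (.leaf 0)) (.node (.leaf 16814) (.leaf 0)))) (.node (.node (.node (.leaf 4217) (.leaf 12424)) (.node (.leaf 15712) (.leaf 0))) (.node (.node (.leaf 7897) (.leaf 0)) (.node (.leaf 8478) (.leaf 0))))))) (.node (.node (.node (.node (.node (.node (.leaf 17984) (.leaf 18234)) (.node (.leaf 19718) (.leaf 0))) (.node (.node (.leaf 2991) (.leaf 0)) (.node (.leaf 956) (.leaf 0)))) (.node (.node (.node (.leaf 16260) (.leaf 1441)) (.node (.leaf 5236) (.leaf 0))) (.node (.node (.leaf 12854) (.leaf 0)) (.node (.leaf 3410) (.leaf 0))))) (.node (.node (.node (.node (.leaf 6081) (.leaf 12282)) (.node (.leaf 18129) (.leaf 0))) (.node (.node (.leaf 13290) (.leaf 0)) (.node (.leaf 2747) (.leaf 0)))) (.node (.node (.node (.leaf 11090) (.leaf 2866)) (.node (.leaf 6506) (.leaf 0))) (.node (.node (.leaf 13823) (.leaf 0)) (.node (.leaf 17236) (.leaf 0)))))) (.node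 (.node (.node (.node (.node (.leaf 18899) (.leaf 5788)) (.node (.leaf 6274) (.leaf 0))) (.node (.node (.leaf 1185) (.leaf 0)) (.node (.leaf 12730) (.leaf 0)))) (.node (.node (.node (.leaf 15949) (.leaf 14536)) (.node (.leaf 11035) (.leaf 0))) (.node (.node (.leaf 17455) (.leaf 0)) (.node (.leaf 13528) (.leaf 0))))) (.node (.node (.node (.node (.leaf 1757) (.leaf 16387)) (.node (.leaf 13713) (.leaf 0))) (.node (.node (.leaf 14818) (.leaf 0)) (.node (.leaf 19663) (.leaf 0)))) (.node (.node (.node (.leaf 5379) (.leaf 12175)) (.node (.leaf 18326) (.leaf 0))) (.node (.node (.leaf 19641) (.leaf 0)) (.node (.leaf 18678) (.leaf 0)))))))) (.node (.node (.node (.node (.node (.node (.node (.leaf 19420) (.leaf 5242)) (.node (.leaf 12602) (.leaf 0))) (.node (.node (.leaf 3956) (.leaf 0)) (.node (.leaf 14057) (.leaf 0)))) (.node (.node (.node (.leaf 1354) (.leaf 4392)) (.node (.leaf 8284) (.leaf 0))) (.node (.node (.leaf 5138) (.leaf 0)) (.node (.leaf 7586) (.leaf 0))))) (.node (.node (.node (.node (.leaf 16121) (.leaf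 9240)) (.node (.leaf 10006) (.leaf 0))) (.node (.node (.leaf 20361) (.leaf 0)) (.node (.leaf 18000) (.leaf 0)))) (.node (.node (.node (.leaf 12886) (.leaf 20163)) (.node (.leaf 3631) (.leaf 0))) (.node (.node (.leaf 13728) (.leaf 0)) (.node (.leaf 7192) (.leaf 0)))))) (.node (.node (.node (.node (.node (.leaf 7892) (.leaf 16711)) (.node (.leaf 12628) (.leaf 0))) (.node (.node (.leaf 12970) (.leaf 0)) (.node (.leaf 19176) (.leaf 0)))) (.node (.node (.node (.leaf 960) (.leaf 16818)) (.node (.leaf 2471) (.leaf 0))) (.node (.node (.leaf 2704) (.leaf 0)) (.node (.leaf 8873) (.leaf 0))))) (.node (.node (.node (.node (.leaf 2179) (.leaf 17463)) (.node (.leaf 11353) (.leaf 0))) (.node (.node (.leaf 4894) (.leaf 0)) (.node (.leaf 3076) (.leaf 0)))) (.node (.node (.node (.leaf 14863) (.leaf 8378)) (.node (.leaf 9658) (.leaf 0))) (.node (.node (.leaf 9494) (.leaf 0)) (.node (.leaf 10865) (.leaf 0))))))) (.node (.node (.node (.node (.node (.node (.leaf 17140) (.leaf 8608)) (.node (.leaf 4024) (.leaf 0))) (.node (.node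 (.leaf 13045) (.leaf 0)) (.node (.leaf 4181) (.leaf 0)))) (.node (.node (.node (.leaf 1663) (.leaf 12285)) (.node (.leaf 3466) (.leaf 0))) (.node (.node (.leaf 15953) (.leaf 0)) (.node (.leaf 8734) (.leaf 0))))) (.node (.node (.node (.node (.leaf 14499) (.leaf 13756)) (.node (.leaf 13108) (.leaf 0))) (.node (.node (.leaf 10877) (.leaf 0)) (.node (.leaf 3086) (.leaf 0)))) (.node (.node (.node (.leaf 7621) (.leaf 14914)) (.node (.leaf 3268) (.leaf 0))) (.node (.node (.leaf 19512) (.leaf 0)) (.node (.leaf 2389) (.leaf 0)))))) (.node (.node (.node (.node (.node (.leaf 6311) (.leaf 2319)) (.node (.leaf 10145) (.leaf 0))) (.node (.node (.leaf 6541) (.leaf 0)) (.node (.leaf 1779) (.leaf 0)))) (.node (.node (.node (.leaf 14596) (.leaf 16799)) (.node (.leaf 9666) (.leaf 0))) (.node (.node (.leaf 4579) (.leaf 0)) (.node (.leaf 14361) (.leaf 0))))) (.node (.node (.node (.node (.leaf 7354) (.leaf 13802)) (.node (.leaf 8658) (.leaf 0))) (.node (.node (.leaf 16056) (.leaf 0)) (.node (.leaf 16323) (.leaf 0)))) (.node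 (.node (.node (.leaf 11913) (.leaf 6688)) (.node (.leaf 7478) (.leaf 0))) (.node (.node (.leaf 1146) (.leaf 0)) (.node (.leaf 4967) (.leaf 0))))))))

def omT89 : NT := .node (.node (.node (.node (.node (.node (.node (.node (.leaf 12165) (.leaf 17982)) (.node (.leaf 16463) (.leaf 0))) (.node (.node (.leaf 4801) (.leaf 0)) (.node (.leaf 6084) (.leaf 0)))) (.node (.node (.node (.leaf 12224) (.leaf 6575)) (.node (.leaf 3531) (.leaf 0))) (.node (.node (.leaf 12838) (.leaf 0)) (.node (.leaf 17304) (.leaf 0))))) (.node (.node (.node (.node (.leaf 6162) (.leaf 10564)) (.node (.leaf 12986) (.leaf 0))) (.node (.node (.leaf 1778) (.leaf 0)) (.node (.leaf 312) (.leaf 0)))) (.node (.node (.node (.leaf 4734) (.leaf 2975)) (.node (.leaf 18332) (.leaf 0))) (.node (.node (.leaf 12412) (.leaf 0)) (.node (.leaf 8072) (.leaf 0)))))) (.node (.node (.node (.node (.node (.leaf 19292) (.leaf 4749)) (.node (.leaf 14753) (.leaf 0))) (.node (.node (.leaf 18655) (.leaf 0)) (.node (.leaf 2478) (.leaf 0)))) (.node (.node (.node (.leaf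 2479) (.leaf 280)) (.node (.leaf 16524) (.leaf 0))) (.node (.node (.leaf 209) (.leaf 0)) (.node (.leaf 13831) (.leaf 0))))) (.node (.node (.node (.node (.leaf 8136) (.leaf 10099)) (.node (.leaf 5252) (.leaf 0))) (.node (.node (.leaf 14070) (.leaf 0)) (.node (.leaf 2641) (.leaf 0)))) (.node (.node (.node (.leaf 10003) (.leaf 8035)) (.node (.leaf 2237) (.leaf 0))) (.node (.node (.leaf 4633) (.leaf 0)) (.node (.leaf 2872) (.leaf 0))))))) (.node (.node (.node (.node (.node (.node (.leaf 17781) (.leaf 6477)) (.node (.leaf 17516) (.leaf 0))) (.node (.node (.leaf 18819) (.leaf 0)) (.node (.leaf 10410) (.leaf 0)))) (.node (.node (.node (.leaf 17803) (.leaf 283)) (.node (.leaf 18246) (.leaf 0))) (.node (.node (.leaf 3059) (.leaf 0)) (.node (.leaf 5907) (.leaf 0))))) (.node (.node (.node (.node (.leaf 5874) (.leaf 11486)) (.node (.leaf 19464) (.leaf 0))) (.node (.node (.leaf 15833) (.leaf 0)) (.node (.leaf 13972) (.leaf 0)))) (.node (.node (.node (.leaf 10821) (.leaf 14272)) (.node (.leaf 2116) (.leaf 0))) (.node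 (.node (.leaf 12214) (.leaf 0)) (.node (.leaf 15191) (.leaf 0)))))) (.node (.node (.node (.node (.node (.leaf 2233) (.leaf 9110)) (.node (.leaf 1543) (.leaf 0))) (.node (.node (.leaf 14537) (.leaf 0)) (.node (.leaf 3912) (.leaf 0)))) (.node (.node (.node (.leaf 12749) (.leaf 284)) (.node (.leaf 14511) (.leaf 0))) (.node (.node (.leaf 3600) (.leaf 0)) (.node (.leaf 7106) (.leaf 0))))) (.node (.node (.node (.node (.leaf 8051) (.leaf 954)) (.node (.leaf 6756) (.leaf 0))) (.node (.node (.leaf 12839) (.leaf 0)) (.node (.leaf 16197) (.leaf 0)))) (.node (.node (.node (.leaf 3618) (.leaf 18996)) (.node (.leaf 9224) (.leaf 0))) (.node (.node (.leaf 3725) (.leaf 0)) (.node (.leaf 11405) (.leaf 0)))))))) (.node (.node (.node (.node (.node (.node (.node (.leaf 10370) (.leaf 1659)) (.node (.leaf 8544) (.leaf 0))) (.node (.node (.leaf 12256) (.leaf 0)) (.node (.leaf 10115) (.leaf 0)))) (.node (.node (.node (.leaf 6369) (.leaf 7914)) (.node (.leaf 15747) (.leaf 0))) (.node (.node (.leaf 20076) (.leaf 0)) (.node (.leaf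 15556) (.leaf 0))))) (.node (.node (.node (.node (.leaf 19422) (.leaf 17024)) (.node (.leaf 20094) (.leaf 0))) (.node (.node (.leaf 8433) (.leaf 0)) (.node (.leaf 13) (.leaf 0)))) (.node (.node (.node (.leaf 7628) (.leaf 5163)) (.node (.leaf 6458) (.leaf 0))) (.node (.node (.leaf 13369) (.leaf 0)) (.node (.leaf 6119) (.leaf 0)))))) (.node (.node (.node (.node (.node (.leaf 10471) (.leaf 1983)) (.node (.leaf 16334) (.leaf 0))) (.node (.node (.leaf 1919) (.leaf 0)) (.node (.leaf 1601) (.leaf 0)))) (.node (.node (.node (.leaf 15021) (.leaf 2992)) (.node (.leaf 2256) (.leaf 0))) (.node (.node (.leaf 647) (.leaf 0)) (.node (.leaf 7357) (.leaf 0))))) (.node (.node (.node (.node (.leaf 5120) (.leaf 11984)) (.node (.leaf 11762) (.leaf 0))) (.node (.node (.leaf 15273) (.leaf 0)) (.node (.leaf 19639) (.leaf 0)))) (.node (.node (.node (.leaf 1276) (.leaf 18564)) (.node (.leaf 2250) (.leaf 0))) (.node (.node (.leaf 5402) (.leaf 0)) (.node (.leaf 4684) (.leaf 0))))))) (.node (.node (.node (.node (.node (.node (.leaf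 15109) (.leaf 2125)) (.node (.leaf 8225) (.leaf 0))) (.node (.node (.leaf 16560) (.leaf 0)) (.node (.leaf 4519) (.leaf 0)))) (.node (.node (.node (.leaf 6762) (.leaf 17892)) (.node (.leaf 7112) (.leaf 0))) (.node (.node (.leaf 9786) (.leaf 0)) (.node (.leaf 12756) (.leaf 0))))) (.node (.node (.node (.node (.leaf 14495) (.leaf 13324)) (.node (.leaf 1400) (.leaf 0))) (.node (.node (.leaf 1591) (.leaf 0)) (.node (.leaf 6718) (.leaf 0)))) (.node (.node (.node (.leaf 440) (.leaf 3690)) (.node (.leaf 19064) (.leaf 0))) (.node (.node (.leaf 19245) (.leaf 0)) (.node (.leaf 6529) (.leaf 0)))))) (.node (.node (.node (.node (.node (.leaf 5025) (.leaf 18786)) (.node (.leaf 10727) (.leaf 0))) (.node (.node (.leaf 15837) (.leaf 0)) (.node (.leaf 19682) (.leaf 0)))) (.node (.node (.node (.leaf 6698) (.leaf 18699)) (.node (.leaf 17150) (.leaf 0))) (.node (.node (.leaf 11725) (.leaf 0)) (.node (.leaf 17289) (.leaf 0))))) (.node (.node (.node (.node (.leaf 8177) (.leaf 2059)) (.node (.leaf 11778) (.leaf 0))) (.node (.node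 (.leaf 5360) (.leaf 0)) (.node (.leaf 3981) (.leaf 0)))) (.node (.node (.node (.leaf 10049) (.leaf 17223)) (.node (.leaf 18563) (.leaf 0))) (.node (.node (.leaf 6031) (.leaf 0)) (.node (.leaf 17534) (.leaf 0))))))))

def omT90 : NT := .node (.node (.node (.node (.node (.node (.node (.node (.leaf 16172) (.leaf 15498)) (.node (.leaf 9920) (.leaf 0))) (.node (.node (.leaf 18948) (.leaf 0)) (.node (.leaf 3925) (.leaf 0)))) (.node (.node (.node (.leaf 13689) (.leaf 17896)) (.node (.leaf 20231) (.leaf 0))) (.node (.node (.leaf 9983) (.leaf 0)) (.node (.leaf 9101) (.leaf 0))))) (.node (.node (.node (.node (.leaf 12169) (.leaf 7088)) (.node (.leaf 1474) (.leaf 0))) (.node (.node (.leaf 19608) (.leaf 0)) (.node (.leaf 7808) (.leaf 0)))) (.node (.node (.node (.leaf 4927) (.leaf 16053)) (.node (.leaf 11309) (.leaf 0))) (.node (.node (.leaf 18181) (.leaf 0)) (.node (.leaf 1136) (.leaf 0)))))) (.node (.node (.node (.node (.node (.leaf 1788) (.leaf 6005)) (.node (.leaf 19649) (.leaf 0))) (.node (.node (.leaf 16426)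 (.leaf 0)) (.node (.leaf 11866) (.leaf 0)))) (.node (.node (.node (.leaf 749) (.leaf 11529)) (.node (.leaf 6629) (.leaf 0))) (.node (.node (.leaf 8397) (.leaf 0)) (.node (.leaf 14505) (.leaf 0))))) (.node (.node (.node (.node (.leaf 13437) (.leaf 11049)) (.node (.leaf 2894) (.leaf 0))) (.node (.node (.leaf 17848) (.leaf 0)) (.node (.leaf 18807) (.leaf 0)))) (.node (.node (.node (.leaf 12993) (.leaf 18648)) (.node (.leaf 1714) (.leaf 0))) (.node (.node (.leaf 20083) (.leaf 0)) (.node (.leaf 2037) (.leaf 0))))))) (.node (.node (.node (.node (.node (.node (.leaf 16737) (.leaf 12459)) (.node (.leaf 13973) (.leaf 0))) (.node (.node (.leaf 16741) (.leaf 0)) (.node (.leaf 15098) (.leaf 0)))) (.node (.node (.node (.leaf 14052) (.leaf 19927)) (.node (.leaf 6879) (.leaf 0))) (.node (.node (.leaf 2779) (.leaf 0)) (.node (.leaf 8445) (.leaf 0))))) (.node (.node (.node (.node (.leaf 10045) (.leaf 18231)) (.node (.leaf 20434) (.leaf 0))) (.node (.node (.leaf 6704) (.leaf 0)) (.node (.leaf 18771) (.leaf 0)))) (.node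 (.node (.node (.leaf 5419) (.leaf 18275)) (.node (.leaf 15462) (.leaf 0))) (.node (.node (.leaf 9621) (.leaf 0)) (.node (.leaf 11085) (.leaf 0)))))) (.node (.node (.node (.node (.node (.leaf 20080) (.leaf 14003)) (.node (.leaf 12523) (.leaf 0))) (.node (.node (.leaf 7496) (.leaf 0)) (.node (.leaf 20428) (.leaf 0)))) (.node (.node (.node (.leaf 5528) (.leaf 2223)) (.node (.leaf 19159) (.leaf 0))) (.node (.node (.leaf 14308) (.leaf 0)) (.node (.leaf 16513) (.leaf 0))))) (.node (.node (.node (.node (.leaf 11552) (.leaf 17763)) (.node (.leaf 18529) (.leaf 0))) (.node (.node (.leaf 18724) (.leaf 0)) (.node (.leaf 16783) (.leaf 0)))) (.node (.node (.node (.leaf 8395) (.leaf 4315)) (.node (.leaf 14806) (.leaf 0))) (.node (.node (.leaf 13126) (.leaf 0)) (.node (.leaf 3831) (.leaf 0)))))))) (.node (.node (.node (.node (.node (.node (.node (.leaf 19222) (.leaf 6366)) (.node (.leaf 14370) (.leaf 0))) (.node (.node (.leaf 3509) (.leaf 0)) (.node (.leaf 15287) (.leaf 0)))) (.node (.node (.node (.leaf 378) (.leaf 19939))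 (.node (.leaf 15511) (.leaf 0))) (.node (.node (.leaf 19323) (.leaf 0)) (.node (.leaf 15962) (.leaf 0))))) (.node (.node (.node (.node (.leaf 15017) (.leaf 12554)) (.node (.leaf 19460) (.leaf 0))) (.node (.node (.leaf 7645) (.leaf 0)) (.node (.leaf 8631) (.leaf 0)))) (.node (.node (.node (.leaf 19405) (.leaf 20344)) (.node (.leaf 13635) (.leaf 0))) (.node (.node (.leaf 8826) (.leaf 0)) (.node (.leaf 6724) (.leaf 0)))))) (.node (.node (.node (.node (.node (.leaf 13879) (.leaf 13749)) (.node (.leaf 4258) (.leaf 0))) (.node (.node (.leaf 13330) (.leaf 0)) (.node (.leaf 17690) (.leaf 0)))) (.node (.node (.node (.leaf 19858) (.leaf 13098)) (.node (.leaf 16696) (.leaf 0))) (.node (.node (.leaf 18818) (.leaf 0)) (.node (.leaf 19338) (.leaf 0))))) (.node (.node (.node (.node (.leaf 6900) (.leaf 18733)) (.node (.leaf 16270) (.leaf 0))) (.node (.node (.leaf 14569) (.leaf 0)) (.node (.leaf 6999) (.leaf 0)))) (.node (.node (.node (.leaf 16708) (.leaf 20259)) (.node (.leaf 15886) (.leaf 0))) (.node (.node (.leaf 4507)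 (.leaf 0)) (.node (.leaf 6307) (.leaf 0))))))) (.node (.node (.node (.node (.node (.node (.leaf 17920) (.leaf 20018)) (.node (.leaf 13552) (.leaf 0))) (.node (.node (.leaf 5655) (.leaf 0)) (.node (.leaf 2863) (.leaf 0)))) (.node (.node (.node (.leaf 11231) (.leaf 4487)) (.node (.leaf 15077) (.leaf 0))) (.node (.node (.leaf 17433) (.leaf 0)) (.node (.leaf 4233) (.leaf 0))))) (.node (.node (.node (.node (.leaf 11614) (.leaf 6768)) (.node (.leaf 8797) (.leaf 0))) (.node (.node (.leaf 787) (.leaf 0)) (.node (.leaf 2597) (.leaf 0)))) (.node (.node (.node (.leaf 14471) (.leaf 19224)) (.node (.leaf 877) (.leaf 0))) (.node (.node (.leaf 8040) (.leaf 0)) (.node (.leaf 10496) (.leaf 0)))))) (.node (.node (.node (.node (.node (.leaf 15014) (.leaf 9255)) (.node (.leaf 8937) (.leaf 0))) (.node (.node (.leaf 3538) (.leaf 0)) (.node (.leaf 2120) (.leaf 0)))) (.node (.node (.node (.leaf 10132) (.leaf 4584)) (.node (.leaf 3036) (.leaf 0))) (.node (.node (.leaf 19544) (.leaf 0)) (.node (.leaf 1535) (.leaf 0))))) (.node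 (.node (.node (.node (.leaf 16839) (.leaf 5057)) (.node (.leaf 1616) (.leaf 0))) (.node (.node (.leaf 5836) (.leaf 0)) (.node (.leaf 11648) (.leaf 0)))) (.node (.node (.node (.leaf 5725) (.leaf 10138)) (.node (.leaf 12386) (.leaf 0))) (.node (.node (.leaf 14686) (.leaf 0)) (.node (.leaf 5143) (.leaf 0))))))))

def omT91 : NT := .node (.node (.node (.node (.node (.node (.node (.node (.leaf 16362) (.leaf 10234)) (.node (.leaf 1557) (.leaf 0))) (.node (.node (.leaf 3654) (.leaf 0)) (.node (.leaf 20170) (.leaf 0)))) (.node (.node (.node (.leaf 13855) (.leaf 32)) (.node (.leaf 20209) (.leaf 0))) (.node (.node (.leaf 9435) (.leaf 0)) (.node (.leaf 6183) (.leaf 0))))) (.node (.node (.node (.node (.leaf 9380) (.leaf 16398)) (.node (.leaf 9192) (.leaf 0))) (.node (.node (.leaf 293) (.leaf 0)) (.node (.leaf 4130) (.leaf 0)))) (.node (.node (.node (.leaf 14203) (.leaf 7571)) (.node (.leaf 2357) (.leaf 0))) (.node (.node (.leaf 19407) (.leaf 0)) (.node (.leaf 3418) (.leaf 0)))))) (.node (.node (.node (.node (.node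 (.leaf 5686) (.leaf 17224)) (.node (.leaf 13131) (.leaf 0))) (.node (.node (.leaf 7885) (.leaf 0)) (.node (.leaf 2277) (.leaf 0)))) (.node (.node (.node (.leaf 8577) (.leaf 19796)) (.node (.leaf 12701) (.leaf 0))) (.node (.node (.leaf 12724) (.leaf 0)) (.node (.leaf 8432) (.leaf 0))))) (.node (.node (.node (.node (.leaf 3483) (.leaf 13274)) (.node (.leaf 9777) (.leaf 0))) (.node (.node (.leaf 11776) (.leaf 0)) (.node (.leaf 14209) (.leaf 0)))) (.node (.node (.node (.leaf 173) (.leaf 19121)) (.node (.leaf 6292) (.leaf 0))) (.node (.node (.leaf 3976) (.leaf 0)) (.node (.leaf 7799) (.leaf 0))))))) (.node (.node (.node (.node (.node (.node (.leaf 4650) (.leaf 19508)) (.node (.leaf 20118) (.leaf 0))) (.node (.node (.leaf 8641) (.leaf 0)) (.node (.leaf 4855) (.leaf 0)))) (.node (.node (.node (.leaf 17028) (.leaf 12512)) (.node (.leaf 19473) (.leaf 0))) (.node (.node (.leaf 2823) (.leaf 0)) (.node (.leaf 11683) (.leaf 0))))) (.node (.node (.node (.node (.leaf 17464) (.leaf 4028)) (.node (.leaf 5968) (.leaf 0)))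 (.node (.node (.leaf 13959) (.leaf 0)) (.node (.leaf 20031) (.leaf 0)))) (.node (.node (.node (.leaf 18154) (.leaf 20384)) (.node (.leaf 16968) (.leaf 0))) (.node (.node (.leaf 15399) (.leaf 0)) (.node (.leaf 2629) (.leaf 0)))))) (.node (.node (.node (.node (.node (.leaf 10245) (.leaf 9461)) (.node (.leaf 12860) (.leaf 0))) (.node (.node (.leaf 9795) (.leaf 0)) (.node (.leaf 4904) (.leaf 0)))) (.node (.node (.node (.leaf 15274) (.leaf 16151)) (.node (.leaf 2031) (.leaf 0))) (.node (.node (.leaf 15152) (.leaf 0)) (.node (.leaf 16119) (.leaf 0))))) (.node (.node (.node (.node (.leaf 19069) (.leaf 8635)) (.node (.leaf 1590) (.leaf 0))) (.node (.node (.leaf 12653) (.leaf 0)) (.node (.leaf 4735) (.leaf 0)))) (.node (.node (.node (.leaf 14725) (.leaf 11512)) (.node (.leaf 9152) (.leaf 0))) (.node (.node (.leaf 4629) (.leaf 0)) (.node (.leaf 241) (.leaf 0)))))))) (.node (.node (.node (.node (.node (.node (.node (.leaf 13381) (.leaf 15956)) (.node (.leaf 2582) (.leaf 0))) (.node (.node (.leaf 19514) (.leaf 0))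 (.node (.leaf 10594) (.leaf 0)))) (.node (.node (.node (.leaf 15507) (.leaf 7227)) (.node (.leaf 6155) (.leaf 0))) (.node (.node (.leaf 12156) (.leaf 0)) (.node (.leaf 1288) (.leaf 0))))) (.node (.node (.node (.node (.leaf 9274) (.leaf 18351)) (.node (.leaf 3970) (.leaf 0))) (.node (.node (.leaf 672) (.leaf 0)) (.node (.leaf 4421) (.leaf 0)))) (.node (.node (.node (.leaf 6494) (.leaf 17155)) (.node (.leaf 3234) (.leaf 0))) (.node (.node (.leaf 4247) (.leaf 0)) (.node (.leaf 15377) (.leaf 0)))))) (.node (.node (.node (.node (.node (.leaf 13257) (.leaf 11063)) (.node (.leaf 10259) (.leaf 0))) (.node (.node (.leaf 12318) (.leaf 0)) (.node (.leaf 6617) (.leaf 0)))) (.node (.node (.node (.leaf 9149) (.leaf 8227)) (.node (.leaf 4864) (.leaf 0))) (.node (.node (.leaf 20388) (.leaf 0)) (.node (.leaf 15149) (.leaf 0))))) (.node (.node (.node (.node (.leaf 17759) (.leaf 6766)) (.node (.leaf 12549) (.leaf 0))) (.node (.node (.leaf 7168) (.leaf 0)) (.node (.leaf 9543) (.leaf 0)))) (.node (.node (.node (.leaf 4102)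 (.leaf 18144)) (.node (.leaf 5328) (.leaf 0))) (.node (.node (.leaf 19140) (.leaf 0)) (.node (.leaf 4659) (.leaf 0))))))) (.node (.node (.node (.node (.node (.node (.leaf 6160) (.leaf 12269)) (.node (.leaf 4616) (.leaf 0))) (.node (.node (.leaf 1163) (.leaf 0)) (.node (.leaf 1827) (.leaf 0)))) (.node (.node (.node (.leaf 14786) (.leaf 18581)) (.node (.leaf 8866) (.leaf 0))) (.node (.node (.leaf 18191) (.leaf 0)) (.node (.leaf 2639) (.leaf 0))))) (.node (.node (.node (.node (.leaf 11955) (.leaf 5729)) (.node (.leaf 1026) (.leaf 0))) (.node (.node (.leaf 16493) (.leaf 0)) (.node (.leaf 6677) (.leaf 0)))) (.node (.node (.node (.leaf 7587) (.leaf 13094)) (.node (.leaf 8332) (.leaf 0))) (.node (.node (.leaf 11507) (.leaf 0)) (.node (.leaf 14977) (.leaf 0)))))) (.node (.node (.node (.node (.node (.leaf 7133) (.leaf 18021)) (.node (.leaf 9213) (.leaf 0))) (.node (.node (.leaf 11208) (.leaf 0)) (.node (.leaf 2923) (.leaf 0)))) (.node (.node (.node (.leaf 11548) (.leaf 1277)) (.node (.leaf 17014) (.leaf 0))) (.node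 (.node (.leaf 12830) (.leaf 0)) (.node (.leaf 12797) (.leaf 0))))) (.node (.node (.node (.node (.leaf 9558) (.leaf 14834)) (.node (.leaf 18322) (.leaf 0))) (.node (.node (.leaf 1188) (.leaf 0)) (.node (.leaf 14079) (.leaf 0)))) (.node (.node (.node (.leaf 17942) (.leaf 5799)) (.node (.leaf 11361) (.leaf 0))) (.node (.node (.leaf 13138) (.leaf 0)) (.node (.leaf 16656) (.leaf 0))))))))

def omT92 : NT := .node (.node (.node (.node (.node (.node (.node (.node (.leaf 20461) (.leaf 8193)) (.node (.leaf 12943) (.leaf 0))) (.node (.node (.leaf 2913) (.leaf 0)) (.node (.leaf 20029) (.leaf 0)))) (.node (.node (.node (.leaf 4600) (.leaf 2539)) (.node (.leaf 13935) (.leaf 0))) (.node (.node (.leaf 10995) (.leaf 0)) (.node (.leaf 847) (.leaf 0))))) (.node (.node (.node (.node (.leaf 9662) (.leaf 18682)) (.node (.leaf 18626) (.leaf 0))) (.node (.node (.leaf 18641) (.leaf 0)) (.node (.leaf 20436) (.leaf 0)))) (.node (.node (.node (.leaf 3309) (.leaf 18239)) (.node (.leaf 15811) (.leaf 0))) (.node (.node (.leaf 16775)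 (.leaf 0)) (.node (.leaf 9099) (.leaf 0)))))) (.node (.node (.node (.node (.node (.leaf 17668) (.leaf 17316)) (.node (.leaf 4621) (.leaf 0))) (.node (.node (.leaf 10104) (.leaf 0)) (.node (.leaf 19549) (.leaf 0)))) (.node (.node (.node (.leaf 5897) (.leaf 2753)) (.node (.leaf 990) (.leaf 0))) (.node (.node (.leaf 15613) (.leaf 0)) (.node (.leaf 7037) (.leaf 0))))) (.node (.node (.node (.node (.leaf 19752) (.leaf 10325)) (.node (.leaf 5090) (.leaf 0))) (.node (.node (.leaf 13945) (.leaf 0)) (.node (.leaf 20330) (.leaf 0)))) (.node (.node (.node (.leaf 9717) (.leaf 15900)) (.node (.leaf 15553) (.leaf 0))) (.node (.node (.leaf 3648) (.leaf 0)) (.node (.leaf 13431) (.leaf 0))))))) (.node (.node (.node (.node (.node (.node (.leaf 17617) (.leaf 13479)) (.node (.leaf 14856) (.leaf 0))) (.node (.node (.leaf 3689) (.leaf 0)) (.node (.leaf 326) (.leaf 0)))) (.node (.node (.node (.leaf 8706) (.leaf 10962)) (.node (.leaf 18882) (.leaf 0))) (.node (.node (.leaf 6618) (.leaf 0)) (.node (.leaf 5792) (.leaf 0))))) (.node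 (.node (.node (.node (.leaf 11627) (.leaf 12021)) (.node (.leaf 6512) (.leaf 0))) (.node (.node (.leaf 20327) (.leaf 0)) (.node (.leaf 5896) (.leaf 0)))) (.node (.node (.node (.leaf 8344) (.leaf 13630)) (.node (.leaf 6421) (.leaf 0))) (.node (.node (.leaf 9139) (.leaf 0)) (.node (.leaf 3177) (.leaf 0)))))) (.node (.node (.node (.node (.node (.leaf 2525) (.leaf 19370)) (.node (.leaf 11375) (.leaf 0))) (.node (.node (.leaf 20354) (.leaf 0)) (.node (.leaf 1317) (.leaf 0)))) (.node (.node (.node (.leaf 11772) (.leaf 15784)) (.node (.leaf 18961) (.leaf 0))) (.node (.node (.leaf 14268) (.leaf 0)) (.node (.leaf 16459) (.leaf 0))))) (.node (.node (.node (.node (.leaf 19125) (.leaf 13044)) (.node (.leaf 1997) (.leaf 0))) (.node (.node (.leaf 2353) (.leaf 0)) (.node (.leaf 9624) (.leaf 0)))) (.node (.node (.node (.leaf 17206) (.leaf 6255)) (.node (.leaf 18787) (.leaf 0))) (.node (.node (.leaf 13201) (.leaf 0)) (.node (.leaf 9809) (.leaf 0)))))))) (.node (.node (.node (.node (.node (.node (.node (.leaf 501) (.leaf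 13511)) (.node (.leaf 13662) (.leaf 0))) (.node (.node (.leaf 10362) (.leaf 0)) (.node (.leaf 6479) (.leaf 0)))) (.node (.node (.node (.leaf 13814) (.leaf 4425)) (.node (.leaf 10354) (.leaf 0))) (.node (.node (.leaf 4263) (.leaf 0)) (.node (.leaf 14653) (.leaf 0))))) (.node (.node (.node (.node (.leaf 4127) (.leaf 20324)) (.node (.leaf 18604) (.leaf 0))) (.node (.node (.leaf 7518) (.leaf 0)) (.node (.leaf 8383) (.leaf 0)))) (.node (.node (.node (.leaf 658) (.leaf 17802)) (.node (.leaf 204) (.leaf 0))) (.node (.node (.leaf 10880) (.leaf 0)) (.node (.leaf 10783) (.leaf 0)))))) (.node (.node (.node (.node (.node (.leaf 17174) (.leaf 5095)) (.node (.leaf 10252) (.leaf 0))) (.node (.node (.leaf 3843) (.leaf 0)) (.node (.leaf 3181) (.leaf 0)))) (.node (.node (.node (.leaf 17363) (.leaf 9601)) (.node (.leaf 1455) (.leaf 0))) (.node (.node (.leaf 3559) (.leaf 0)) (.node (.leaf 6613) (.leaf 0))))) (.node (.node (.node (.node (.leaf 7656) (.leaf 15328)) (.node (.leaf 8121) (.leaf 0))) (.node (.node (.leaf 8088)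 (.leaf 0)) (.node (.leaf 19394) (.leaf 0)))) (.node (.node (.node (.leaf 7740) (.leaf 7815)) (.node (.leaf 17477) (.leaf 0))) (.node (.node (.leaf 18304) (.leaf 0)) (.node (.leaf 5996) (.leaf 0))))))) (.node (.node (.node (.node (.node (.node (.leaf 9620) (.leaf 4410)) (.node (.leaf 19558) (.leaf 0))) (.node (.node (.leaf 14231) (.leaf 0)) (.node (.leaf 12332) (.leaf 0)))) (.node (.node (.node (.leaf 3087) (.leaf 17136)) (.node (.leaf 18460) (.leaf 0))) (.node (.node (.leaf 14334) (.leaf 0)) (.node (.leaf 4577) (.leaf 0))))) (.node (.node (.node (.node (.leaf 3292) (.leaf 3741)) (.node (.leaf 4470) (.leaf 0))) (.node (.node (.leaf 7708) (.leaf 0)) (.node (.leaf 19744) (.leaf 0)))) (.node (.node (.node (.leaf 5527) (.leaf 11207)) (.node (.leaf 12732) (.leaf 0))) (.node (.node (.leaf 14403) (.leaf 0)) (.node (.leaf 15523) (.leaf 0)))))) (.node (.node (.node (.node (.node (.leaf 6799) (.leaf 4094)) (.node (.leaf 19355) (.leaf 0))) (.node (.node (.leaf 15460) (.leaf 0)) (.node (.leaf 3176) (.leaf 0)))) (.node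 (.node (.node (.leaf 8912) (.leaf 11899)) (.node (.leaf 2187) (.leaf 0))) (.node (.node (.leaf 15843) (.leaf 0)) (.node (.leaf 8188) (.leaf 0))))) (.node (.node (.node (.node (.leaf 19143) (.leaf 17038)) (.node (.leaf 16800) (.leaf 0))) (.node (.node (.leaf 9819) (.leaf 0)) (.node (.leaf 3733) (.leaf 0)))) (.node (.node (.node (.leaf 7488) (.leaf 5264)) (.node (.leaf 6690) (.leaf 0))) (.node (.node (.leaf 14544) (.leaf 0)) (.node (.leaf 2927) (.leaf 0))))))))

def omT93 : NT := .node (.node (.node (.node (.node (.node (.node (.node (.leaf 4791) (.leaf 17021)) (.node (.leaf 8790) (.leaf 0))) (.node (.node (.leaf 8967) (.leaf 0)) (.node (.leaf 18072) (.leaf 0)))) (.node (.node (.node (.leaf 16388) (.leaf 11728)) (.node (.leaf 4941) (.leaf 0))) (.node (.node (.leaf 8581) (.leaf 0)) (.node (.leaf 13371) (.leaf 0))))) (.node (.node (.node (.node (.leaf 1198) (.leaf 3674)) (.node (.leaf 15701) (.leaf 0))) (.node (.node (.leaf 8846) (.leaf 0)) (.node (.leaf 12564) (.leaf 0)))) (.node (.node (.node (.leaf 6488)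 (.leaf 12333)) (.node (.leaf 6408) (.leaf 0))) (.node (.node (.leaf 9147) (.leaf 0)) (.node (.leaf 10841) (.leaf 0)))))) (.node (.node (.node (.node (.node (.leaf 19301) (.leaf 16082)) (.node (.leaf 1244) (.leaf 0))) (.node (.node (.leaf 11735) (.leaf 0)) (.node (.leaf 6496) (.leaf 0)))) (.node (.node (.node (.leaf 1158) (.leaf 14755)) (.node (.leaf 11546) (.leaf 0))) (.node (.node (.leaf 12267) (.leaf 0)) (.node (.leaf 4359) (.leaf 0))))) (.node (.node (.node (.node (.leaf 11406) (.leaf 18956)) (.node (.leaf 6308) (.leaf 0))) (.node (.node (.leaf 17919) (.leaf 0)) (.node (.leaf 6205) (.leaf 0)))) (.node (.node (.node (.leaf 13422) (.leaf 6995)) (.node (.leaf 1867) (.leaf 0))) (.node (.node (.leaf 17922) (.leaf 0)) (.node (.leaf 14916) (.leaf 0))))))) (.node (.node (.node (.node (.node (.node (.leaf 14012) (.leaf 16394)) (.node (.leaf 11018) (.leaf 0))) (.node (.node (.leaf 6779) (.leaf 0)) (.node (.leaf 15171) (.leaf 0)))) (.node (.node (.node (.leaf 16159) (.leaf 9181)) (.node (.leaf 4317) (.leaf 0)))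 (.node (.node (.leaf 7320) (.leaf 0)) (.node (.leaf 4802) (.leaf 0))))) (.node (.node (.node (.node (.leaf 19020) (.leaf 7455)) (.node (.leaf 16843) (.leaf 0))) (.node (.node (.leaf 20325) (.leaf 0)) (.node (.leaf 1157) (.leaf 0)))) (.node (.node (.node (.leaf 19156) (.leaf 4267)) (.node (.leaf 5796) (.leaf 0))) (.node (.node (.leaf 9506) (.leaf 0)) (.node (.leaf 8951) (.leaf 0)))))) (.node (.node (.node (.node (.node (.leaf 17218) (.leaf 8811)) (.node (.leaf 5266) (.leaf 0))) (.node (.node (.leaf 11584) (.leaf 0)) (.node (.leaf 2524) (.leaf 0)))) (.node (.node (.node (.leaf 14681) (.leaf 17431)) (.node (.leaf 5902) (.leaf 0))) (.node (.node (.leaf 13658) (.leaf 0)) (.node (.leaf 508) (.leaf 0))))) (.node (.node (.node (.node (.leaf 18740) (.leaf 4943)) (.node (.leaf 2651) (.leaf 0))) (.node (.node (.leaf 2506) (.leaf 0)) (.node (.leaf 5572) (.leaf 0)))) (.node (.node (.node (.leaf 1623) (.leaf 19325)) (.node (.leaf 14344) (.leaf 0))) (.node (.node (.leaf 16111) (.leaf 0)) (.node (.leaf 10556) (.leaf 0))))))))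 (.node (.node (.node (.node (.node (.node (.node (.leaf 11493) (.leaf 2)) (.node (.leaf 1184) (.leaf 0))) (.node (.node (.leaf 6348) (.leaf 0)) (.node (.leaf 12069) (.leaf 0)))) (.node (.node (.node (.leaf 9279) (.leaf 4893)) (.node (.leaf 3269) (.leaf 0))) (.node (.node (.leaf 9891) (.leaf 0)) (.node (.leaf 2482) (.leaf 0))))) (.node (.node (.node (.node (.leaf 1036) (.leaf 10464)) (.node (.leaf 15536) (.leaf 0))) (.node (.node (.leaf 12257) (.leaf 0)) (.node (.leaf 10651) (.leaf 0)))) (.node (.node (.node (.leaf 9798) (.leaf 13037)) (.node (.leaf 17444) (.leaf 0))) (.node (.node (.leaf 5458) (.leaf 0)) (.node (.leaf 6436) (.leaf 0)))))) (.node (.node (.node (.node (.node (.leaf 12867) (.leaf 12289)) (.node (.leaf 18016) (.leaf 0))) (.node (.node (.leaf 14444) (.leaf 0)) (.node (.leaf 6622) (.leaf 0)))) (.node (.node (.node (.leaf 8191) (.leaf 5277)) (.node (.leaf 12519) (.leaf 0))) (.node (.node (.leaf 17382) (.leaf 0)) (.node (.leaf 7668) (.leaf 0))))) (.node (.node (.node (.node (.leaf 2082) (.leaf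 15242)) (.node (.leaf 14767) (.leaf 0))) (.node (.node (.leaf 9705) (.leaf 0)) (.node (.leaf 1304) (.leaf 0)))) (.node (.node (.node (.leaf 12902) (.leaf 11457)) (.node (.leaf 11141) (.leaf 0))) (.node (.node (.leaf 1239) (.leaf 0)) (.node (.leaf 2410) (.leaf 0))))))) (.node (.node (.node (.node (.node (.node (.leaf 16218) (.leaf 12908)) (.node (.leaf 1796) (.leaf 0))) (.node (.node (.leaf 11340) (.leaf 0)) (.node (.leaf 6977) (.leaf 0)))) (.node (.node (.node (.leaf 7881) (.leaf 13112)) (.node (.leaf 7770) (.leaf 0))) (.node (.node (.leaf 11785) (.leaf 0)) (.node (.leaf 1836) (.leaf 0))))) (.node (.node (.node (.node (.leaf 19618) (.leaf 10037)) (.node (.leaf 6911) (.leaf 0))) (.node (.node (.leaf 334) (.leaf 0)) (.node (.leaf 4216) (.leaf 0)))) (.node (.node (.node (.leaf 12618) (.leaf 3090)) (.node (.leaf 8458) (.leaf 0))) (.node (.node (.leaf 8692) (.leaf 0)) (.node (.leaf 9448) (.leaf 0)))))) (.node (.node (.node (.node (.node (.leaf 19781) (.leaf 13268)) (.node (.leaf 3315) (.leaf 0))) (.node (.node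 (.leaf 18413) (.leaf 0)) (.node (.leaf 14689) (.leaf 0)))) (.node (.node (.node (.leaf 2804) (.leaf 11814)) (.node (.leaf 11002) (.leaf 0))) (.node (.node (.leaf 13173) (.leaf 0)) (.node (.leaf 777) (.leaf 0))))) (.node (.node (.node (.node (.leaf 1975) (.leaf 13604)) (.node (.leaf 13986) (.leaf 0))) (.node (.node (.leaf 3367) (.leaf 0)) (.node (.leaf 7927) (.leaf 0)))) (.node (.node (.node (.leaf 15352) (.leaf 5618)) (.node (.leaf 9823) (.leaf 0))) (.node (.node (.leaf 6620) (.leaf 0)) (.node (.leaf 7137) (.leaf 0))))))))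

def omT94 : NT := .node (.node (.node (.node (.node (.node (.node (.node (.leaf 7043) (.leaf 13665)) (.node (.leaf 12671) (.leaf 0))) (.node (.node (.leaf 3203) (.leaf 0)) (.node (.leaf 13562) (.leaf 0)))) (.node (.node (.node (.leaf 6792) (.leaf 13124)) (.node (.leaf 12283) (.leaf 0))) (.node (.node (.leaf 10216) (.leaf 0)) (.node (.leaf 888) (.leaf 0))))) (.node (.node (.node (.node (.leaf 8660) (.leaf 9128)) (.node (.leaf 1654) (.leaf 0))) (.node (.node (.leaf 13768) (.leaf 0)) (.node (.leaf 19824) (.leaf 0)))) (.node (.node (.node (.leaf 6129) (.leaf 19239)) (.node (.leaf 4658) (.leaf 0))) (.node (.node (.leaf 10635) (.leaf 0)) (.node (.leaf 9020) (.leaf 0)))))) (.node (.node (.node (.node (.node (.leaf 5411) (.leaf 16914)) (.node (.leaf 2798) (.leaf 0))) (.node (.node (.leaf 4724) (.leaf 0)) (.node (.leaf 16314) (.leaf 0)))) (.node (.node (.node (.leaf 18875) (.leaf 14377)) (.node (.leaf 18369) (.leaf 0))) (.node (.node (.leaf 2799) (.leaf 0)) (.node (.leaf 11416) (.leaf 0))))) (.node (.node (.node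 (.node (.leaf 15349) (.leaf 9479)) (.node (.leaf 11923) (.leaf 0))) (.node (.node (.leaf 6670) (.leaf 0)) (.node (.leaf 9842) (.leaf 0)))) (.node (.node (.node (.leaf 12584) (.leaf 16918)) (.node (.leaf 5063) (.leaf 0))) (.node (.node (.leaf 18796) (.leaf 0)) (.node (.leaf 20244) (.leaf 0))))))) (.node (.node (.node (.node (.node (.node (.leaf 9765) (.leaf 10953)) (.node (.leaf 2414) (.leaf 0))) (.node (.node (.leaf 10150) (.leaf 0)) (.node (.leaf 10937) (.leaf 0)))) (.node (.node (.node (.leaf 12420) (.leaf 11242)) (.node (.leaf 6772) (.leaf 0))) (.node (.node (.leaf 4505) (.leaf 0)) (.node (.leaf 16655) (.leaf 0))))) (.node (.node (.node (.node (.leaf 12717) (.leaf 9032)) (.node (.leaf 19115) (.leaf 0))) (.node (.node (.leaf 10718) (.leaf 0)) (.node (.leaf 5333) (.leaf 0)))) (.node (.node (.node (.leaf 11437) (.leaf 8496)) (.node (.leaf 11769) (.leaf 0))) (.node (.node (.leaf 17676) (.leaf 0)) (.node (.leaf 9034) (.leaf 0)))))) (.node (.node (.node (.node (.node (.leaf 1669) (.leaf 2605)) (.node (.leaf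 9900) (.leaf 0))) (.node (.node (.leaf 19515) (.leaf 0)) (.node (.leaf 5247) (.leaf 0)))) (.node (.node (.node (.leaf 13195) (.leaf 15043)) (.node (.leaf 19601) (.leaf 0))) (.node (.node (.leaf 7916) (.leaf 0)) (.node (.leaf 18963) (.leaf 0))))) (.node (.node (.node (.node (.leaf 6025) (.leaf 2846)) (.node (.leaf 8602) (.leaf 0))) (.node (.node (.leaf 454) (.leaf 0)) (.node (.leaf 15500) (.leaf 0)))) (.node (.node (.node (.leaf 5450) (.leaf 18845)) (.node (.leaf 6464) (.leaf 0))) (.node (.node (.leaf 16508) (.leaf 0)) (.node (.leaf 755) (.leaf 0)))))))) (.node (.node (.node (.node (.node (.node (.node (.leaf 10985) (.leaf 4000)) (.node (.leaf 15362) (.leaf 0))) (.node (.node (.leaf 8157) (.leaf 0)) (.node (.leaf 18781) (.leaf 0)))) (.node (.node (.node (.leaf 6892) (.leaf 16528)) (.node (.leaf 3230) (.leaf 0))) (.node (.node (.leaf 711) (.leaf 0)) (.node (.leaf 9444) (.leaf 0))))) (.node (.node (.node (.node (.leaf 1095) (.leaf 11180)) (.node (.leaf 5263) (.leaf 0))) (.node (.node (.leaf 2729) (.leaf 0))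 (.node (.leaf 18532) (.leaf 0)))) (.node (.node (.node (.leaf 13755) (.leaf 18435)) (.node (.leaf 1265) (.leaf 0))) (.node (.node (.leaf 16757) (.leaf 0)) (.node (.leaf 13240) (.leaf 0)))))) (.node (.node (.node (.node (.node (.leaf 11684) (.leaf 11298)) (.node (.leaf 12539) (.leaf 0))) (.node (.node (.leaf 10255) (.leaf 0)) (.node (.leaf 19168) (.leaf 0)))) (.node (.node (.node (.leaf 12460) (.leaf 19315)) (.node (.leaf 16880) (.leaf 0))) (.node (.node (.leaf 10828) (.leaf 0)) (.node (.leaf 9315) (.leaf 0))))) (.node (.node (.node (.node (.leaf 16758) (.leaf 16356)) (.node (.leaf 18327) (.leaf 0))) (.node (.node (.leaf 8113) (.leaf 0)) (.node (.leaf 9932) (.leaf 0)))) (.node (.node (.node (.leaf 8125) (.leaf 9412)) (.node (.leaf 13429) (.leaf 0))) (.node (.node (.leaf 10170) (.leaf 0)) (.node (.leaf 4594) (.leaf 0))))))) (.node (.node (.node (.node (.node (.node (.leaf 14809) (.leaf 3940)) (.node (.leaf 17203) (.leaf 0))) (.node (.node (.leaf 17353) (.leaf 0)) (.node (.leaf 8230) (.leaf 0)))) (.node (.node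 (.node (.leaf 2998) (.leaf 15781)) (.node (.leaf 5520) (.leaf 0))) (.node (.node (.leaf 3681) (.leaf 0)) (.node (.leaf 18403) (.leaf 0))))) (.node (.node (.node (.node (.leaf 9500) (.leaf 17366)) (.node (.leaf 13119) (.leaf 0))) (.node (.node (.leaf 6607) (.leaf 0)) (.node (.leaf 3676) (.leaf 0)))) (.node (.node (.node (.leaf 15739) (.leaf 10238)) (.node (.leaf 3495) (.leaf 0))) (.node (.node (.leaf 9068) (.leaf 0)) (.node (.leaf 7412) (.leaf 0)))))) (.node (.node (.node (.node (.node (.leaf 19066) (.leaf 18595)) (.node (.leaf 10875) (.leaf 0))) (.node (.node (.leaf 4336) (.leaf 0)) (.node (.leaf 16907) (.leaf 0)))) (.node (.node (.node (.leaf 9937) (.leaf 19221)) (.node (.leaf 13523) (.leaf 0))) (.node (.node (.leaf 16959) (.leaf 0)) (.node (.leaf 19384) (.leaf 0))))) (.node (.node (.node (.node (.leaf 16125) (.leaf 8307)) (.node (.leaf 15391) (.leaf 0))) (.node (.node (.leaf 18313) (.leaf 0)) (.node (.leaf 18576) (.leaf 0)))) (.node (.node (.node (.leaf 6174) (.leaf 4291)) (.node (.leaf 16380) (.leaf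 0))) (.node (.node (.leaf 5714) (.leaf 0)) (.node (.leaf 819) (.leaf 0))))))))

def omT95 : NT := .node (.node (.node (.node (.node (.node (.node (.node (.leaf 1420) (.leaf 392)) (.node (.leaf 9097) (.leaf 0))) (.node (.node (.leaf 14941) (.leaf 0)) (.node (.leaf 1275) (.leaf 0)))) (.node (.node (.node (.leaf 13080) (.leaf 8115)) (.node (.leaf 14561) (.leaf 0))) (.node (.node (.leaf 8961) (.leaf 0)) (.node (.leaf 9234) (.leaf 0))))) (.node (.node (.node (.node (.leaf 10310) (.leaf 9725)) (.node (.leaf 17671) (.leaf 0))) (.node (.node (.leaf 11933) (.leaf 0)) (.node (.leaf 13115) (.leaf 0)))) (.node (.node (.node (.leaf 19560) (.leaf 16329)) (.node (.leaf 6570) (.leaf 0))) (.node (.node (.leaf 17049) (.leaf 0)) (.node (.leaf 5322) (.leaf 0)))))) (.node (.node (.node (.node (.node (.leaf 19070) (.leaf 18906)) (.node (.leaf 10394) (.leaf 0))) (.node (.node (.leaf 9055) (.leaf 0)) (.node (.leaf 10125) (.leaf 0)))) (.node (.node (.node (.leaf 10196) (.leaf 17445)) (.node (.leaf 7786) (.leaf 0))) (.node (.node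 (.leaf 16873) (.leaf 0)) (.node (.leaf 6811) (.leaf 0))))) (.node (.node (.node (.node (.leaf 999) (.leaf 2314)) (.node (.leaf 16114) (.leaf 0))) (.node (.node (.leaf 7691) (.leaf 0)) (.node (.leaf 17969) (.leaf 0)))) (.node (.node (.node (.leaf 19397) (.leaf 677)) (.node (.leaf 2682) (.leaf 0))) (.node (.node (.leaf 4921) (.leaf 0)) (.node (.leaf 13653) (.leaf 0))))))) (.node (.node (.node (.node (.node (.node (.leaf 7263) (.leaf 20167)) (.node (.leaf 4053) (.leaf 0))) (.node (.node (.leaf 2289) (.leaf 0)) (.node (.leaf 15596) (.leaf 0)))) (.node (.node (.node (.leaf 14161) (.leaf 18895)) (.node (.leaf 20271) (.leaf 0))) (.node (.node (.leaf 18993) (.leaf 0)) (.node (.leaf 10481) (.leaf 0))))) (.node (.node (.node (.node (.leaf 17255) (.leaf 15664)) (.node (.leaf 8334) (.leaf 0))) (.node (.node (.leaf 11592) (.leaf 0)) (.node (.leaf 1493) (.leaf 0)))) (.node (.node (.node (.leaf 2736) (.leaf 7144)) (.node (.leaf 12366) (.leaf 0))) (.node (.node (.leaf 18940) (.leaf 0)) (.node (.leaf 18428) (.leaf 0))))))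 (.node (.node (.node (.node (.node (.leaf 15612) (.leaf 6874)) (.node (.leaf 18354) (.leaf 0))) (.node (.node (.leaf 10287) (.leaf 0)) (.node (.leaf 19011) (.leaf 0)))) (.node (.node (.node (.leaf 19806) (.leaf 11137)) (.node (.leaf 288) (.leaf 0))) (.node (.node (.leaf 20307) (.leaf 0)) (.node (.leaf 14294) (.leaf 0))))) (.node (.node (.node (.node (.leaf 9694) (.leaf 20136)) (.node (.leaf 12699) (.leaf 0))) (.node (.node (.leaf 9207) (.leaf 0)) (.node (.leaf 10027) (.leaf 0)))) (.node (.node (.node (.leaf 17170) (.leaf 8519)) (.node (.leaf 19940) (.leaf 0))) (.node (.node (.leaf 19252) (.leaf 0)) (.node (.leaf 8045) (.leaf 0)))))))) (.node (.node (.node (.node (.node (.node (.node (.leaf 13567) (.leaf 7758)) (.node (.leaf 20172) (.leaf 0))) (.node (.node (.leaf 11830) (.leaf 0)) (.node (.leaf 4097) (.leaf 0)))) (.node (.node (.node (.leaf 6291) (.leaf 3387)) (.node (.leaf 15765) (.leaf 0))) (.node (.node (.leaf 12116) (.leaf 0)) (.node (.leaf 3588) (.leaf 0))))) (.node (.node (.node (.node (.leaf 12331)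 (.leaf 13498)) (.node (.leaf 16743) (.leaf 0))) (.node (.node (.leaf 3272) (.leaf 0)) (.node (.leaf 12300) (.leaf 0)))) (.node (.node (.node (.leaf 16865) (.leaf 20343)) (.node (.leaf 5918) (.leaf 0))) (.node (.node (.leaf 10778) (.leaf 0)) (.node (.leaf 271) (.leaf 0)))))) (.node (.node (.node (.node (.node (.leaf 17060) (.leaf 6550)) (.node (.leaf 7468) (.leaf 0))) (.node (.node (.leaf 11862) (.leaf 0)) (.node (.leaf 14206) (.leaf 0)))) (.node (.node (.node (.leaf 14690) (.leaf 13731)) (.node (.leaf 10444) (.leaf 0))) (.node (.node (.leaf 17597) (.leaf 0)) (.node (.leaf 16245) (.leaf 0))))) (.node (.node (.node (.node (.leaf 6556) (.leaf 8993)) (.node (.leaf 18341) (.leaf 0))) (.node (.node (.leaf 14578) (.leaf 0)) (.node (.leaf 16297) (.leaf 0)))) (.node (.node (.node (.leaf 17248) (.leaf 2075)) (.node (.leaf 10483) (.leaf 0))) (.node (.node (.leaf 17991) (.leaf 0)) (.node (.leaf 2565) (.leaf 0))))))) (.node (.node (.node (.node (.node (.node (.leaf 7989) (.leaf 2253)) (.node (.leaf 18024) (.leaf 0)))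 (.node (.node (.leaf 12688) (.leaf 0)) (.node (.leaf 14927) (.leaf 0)))) (.node (.node (.node (.leaf 12381) (.leaf 19602)) (.node (.leaf 20079) (.leaf 0))) (.node (.node (.leaf 16639) (.leaf 0)) (.node (.leaf 11903) (.leaf 0))))) (.node (.node (.node (.node (.leaf 5860) (.leaf 5324)) (.node (.leaf 1668) (.leaf 0))) (.node (.node (.leaf 18108) (.leaf 0)) (.node (.leaf 16542) (.leaf 0)))) (.node (.node (.node (.leaf 8735) (.leaf 12540)) (.node (.leaf 7796) (.leaf 0))) (.node (.node (.leaf 3581) (.leaf 0)) (.node (.leaf 8235) (.leaf 0)))))) (.node (.node (.node (.node (.node (.leaf 3386) (.leaf 17633)) (.node (.leaf 2895) (.leaf 0))) (.node (.node (.leaf 19260) (.leaf 0)) (.node (.leaf 442) (.leaf 0)))) (.node (.node (.node (.leaf 1428) (.leaf 417)) (.node (.leaf 15842) (.leaf 0))) (.node (.node (.leaf 19266) (.leaf 0)) (.node (.leaf 7617) (.leaf 0))))) (.node (.node (.node (.node (.leaf 12235) (.leaf 775)) (.node (.leaf 1677) (.leaf 0))) (.node (.node (.leaf 218) (.leaf 0)) (.node (.leaf 13401) (.leaf 0))))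 (.node (.node (.node (.leaf 3034) (.leaf 13346)) (.node (.leaf 10790) (.leaf 0))) (.node (.node (.leaf 9887) (.leaf 0)) (.node (.leaf 15293) (.leaf 0))))))))

def omT96 : NT := .node (.node (.node (.node (.node (.node (.node (.node (.leaf 10848) (.leaf 7659)) (.node (.leaf 15514) (.leaf 0))) (.node (.node (.leaf 12680) (.leaf 0)) (.node (.leaf 12967) (.leaf 0)))) (.node (.node (.node (.leaf 17525) (.leaf 1503)) (.node (.leaf 10919) (.leaf 0))) (.node (.node (.leaf 2087) (.leaf 0)) (.node (.leaf 340) (.leaf 0))))) (.node (.node (.node (.node (.leaf 7524) (.leaf 2113)) (.node (.leaf 9636) (.leaf 0))) (.node (.node (.leaf 3008) (.leaf 0)) (.node (.leaf 13402) (.leaf 0)))) (.node (.node (.node (.leaf 9384) (.leaf 14115)) (.node (.leaf 14072) (.leaf 0))) (.node (.node (.leaf 13200) (.leaf 0)) (.node (.leaf 10392) (.leaf 0)))))) (.node (.node (.node (.node (.node (.leaf 229) (.leaf 12114)) (.node (.leaf 14764) (.leaf 0))) (.node (.node (.leaf 13779) (.leaf 0)) (.node (.leaf 9993) (.leaf 0)))) (.node (.node (.node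 (.leaf 12698) (.leaf 15155)) (.node (.leaf 5050) (.leaf 0))) (.node (.node (.leaf 3116) (.leaf 0)) (.node (.leaf 2740) (.leaf 0))))) (.node (.node (.node (.node (.leaf 20492) (.leaf 1432)) (.node (.leaf 8744) (.leaf 0))) (.node (.node (.leaf 671) (.leaf 0)) (.node (.leaf 7090) (.leaf 0)))) (.node (.node (.node (.leaf 2213) (.leaf 19479)) (.node (.leaf 10426) (.leaf 0))) (.node (.node (.leaf 5076) (.leaf 0)) (.node (.leaf 14260) (.leaf 0))))))) (.node (.node (.node (.node (.node (.node (.leaf 5585) (.leaf 1293)) (.node (.leaf 15199) (.leaf 0))) (.node (.node (.leaf 17026) (.leaf 0)) (.node (.leaf 7358) (.leaf 0)))) (.node (.node (.node (.leaf 9073) (.leaf 13063)) (.node (.leaf 11579) (.leaf 0))) (.node (.node (.leaf 13954) (.leaf 0)) (.node (.leaf 5507) (.leaf 0))))) (.node (.node (.node (.node (.leaf 2052) (.leaf 10070)) (.node (.leaf 17284) (.leaf 0))) (.node (.node (.leaf 12774) (.leaf 0)) (.node (.leaf 20280) (.leaf 0)))) (.node (.node (.node (.leaf 18926) (.leaf 17787)) (.node (.leaf 11342) (.leaf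 0))) (.node (.node (.leaf 8704) (.leaf 0)) (.node (.leaf 12848) (.leaf 0)))))) (.node (.node (.node (.node (.node (.leaf 8304) (.leaf 13333)) (.node (.leaf 9083) (.leaf 0))) (.node (.node (.leaf 13612) (.leaf 0)) (.node (.leaf 17397) (.leaf 0)))) (.node (.node (.node (.leaf 1845) (.leaf 13741)) (.node (.leaf 10031) (.leaf 0))) (.node (.node (.leaf 15228) (.leaf 0)) (.node (.leaf 17073) (.leaf 0))))) (.node (.node (.node (.node (.leaf 6624) (.leaf 20202)) (.node (.leaf 8259) (.leaf 0))) (.node (.node (.leaf 7306) (.leaf 0)) (.node (.leaf 2888) (.leaf 0)))) (.node (.node (.node (.leaf 744) (.leaf 7731)) (.node (.leaf 16500) (.leaf 0))) (.node (.node (.leaf 1321) (.leaf 0)) (.node (.leaf 12641) (.leaf 0)))))))) (.node (.node (.node (.node (.node (.node (.node (.leaf 14573) (.leaf 11569)) (.node (.leaf 12583) (.leaf 0))) (.node (.node (.leaf 1416) (.leaf 0)) (.node (.leaf 6272) (.leaf 0)))) (.node (.node (.node (.leaf 20264) (.leaf 18273)) (.node (.leaf 7121) (.leaf 0))) (.node (.node (.leaf 17547) (.leaf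 0)) (.node (.leaf 2811) (.leaf 0))))) (.node (.node (.node (.node (.leaf 12563) (.leaf 19352)) (.node (.leaf 4074) (.leaf 0))) (.node (.node (.leaf 9470) (.leaf 0)) (.node (.leaf 6838) (.leaf 0)))) (.node (.node (.node (.leaf 15018) (.leaf 19368)) (.node (.leaf 14229) (.leaf 0))) (.node (.node (.leaf 16183) (.leaf 0)) (.node (.leaf 16667) (.leaf 0)))))) (.node (.node (.node (.node (.node (.leaf 5456) (.leaf 20262)) (.node (.leaf 17333) (.leaf 0))) (.node (.node (.leaf 15773) (.leaf 0)) (.node (.leaf 18119) (.leaf 0)))) (.node (.node (.node (.leaf 18451) (.leaf 493)) (.node (.leaf 3819) (.leaf 0))) (.node (.node (.leaf 15466) (.leaf 0)) (.node (.leaf 11314) (.leaf 0))))) (.node (.node (.node (.node (.leaf 11029) (.leaf 4648)) (.node (.leaf 9502) (.leaf 0))) (.node (.node (.leaf 11016) (.leaf 0)) (.node (.leaf 20095) (.leaf 0)))) (.node (.node (.node (.leaf 12675) (.leaf 6976)) (.node (.leaf 13214) (.leaf 0))) (.node (.node (.leaf 14219) (.leaf 0)) (.node (.leaf 16071) (.leaf 0))))))) (.node (.node (.node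 (.node (.node (.node (.leaf 967) (.leaf 5075)) (.node (.leaf 7405) (.leaf 0))) (.node (.node (.leaf 4683) (.leaf 0)) (.node (.leaf 2404) (.leaf 0)))) (.node (.node (.node (.leaf 10971) (.leaf 15232)) (.node (.leaf 20256) (.leaf 0))) (.node (.node (.leaf 411) (.leaf 0)) (.node (.leaf 2739) (.leaf 0))))) (.node (.node (.node (.node (.leaf 3713) (.leaf 10784)) (.node (.leaf 15777) (.leaf 0))) (.node (.node (.leaf 15849) (.leaf 0)) (.node (.leaf 12957) (.leaf 0)))) (.node (.node (.node (.leaf 14253) (.leaf 2559)) (.node (.leaf 3054) (.leaf 0))) (.node (.node (.leaf 12705) (.leaf 0)) (.node (.leaf 4822) (.leaf 0)))))) (.node (.node (.node (.node (.node (.leaf 14715) (.leaf 16404)) (.node (.leaf 3558) (.leaf 0))) (.node (.node (.leaf 1453) (.leaf 0)) (.node (.leaf 14878) (.leaf 0)))) (.node (.node (.node (.leaf 14564) (.leaf 13794)) (.node (.leaf 4989) (.leaf 0))) (.node (.node (.leaf 15585) (.leaf 0)) (.node (.leaf 12075) (.leaf 0))))) (.node (.node (.node (.node (.leaf 17095) (.leaf 2333)) (.node (.leaf 7867)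 (.leaf 0))) (.node (.node (.leaf 6399) (.leaf 0)) (.node (.leaf 9755) (.leaf 0)))) (.node (.node (.node (.leaf 1229) (.leaf 258)) (.node (.leaf 12038) (.leaf 0))) (.node (.node (.leaf 14889) (.leaf 0)) (.node (.leaf 702) (.leaf 0))))))))

def omT97 : NT := .node (.node (.node (.node (.node (.node (.node (.node (.leaf 13645) (.leaf 3642)) (.node (.leaf 2761) (.leaf 0))) (.node (.node (.leaf 13686) (.leaf 0)) (.node (.leaf 4702) (.leaf 0)))) (.node (.node (.node (.leaf 15093) (.leaf 9098)) (.node (.leaf 268) (.leaf 0))) (.node (.node (.leaf 5199) (.leaf 0)) (.node (.leaf 15955) (.leaf 0))))) (.node (.node (.node (.node (.leaf 9013) (.leaf 13477)) (.node (.leaf 13517) (.leaf 0))) (.node (.node (.leaf 12991) (.leaf 0)) (.node (.leaf 18746) (.leaf 0)))) (.node (.node (.node (.leaf 670) (.leaf 12556)) (.node (.leaf 14902) (.leaf 0))) (.node (.node (.leaf 19198) (.leaf 0)) (.node (.leaf 15506) (.leaf 0)))))) (.node (.node (.node (.node (.node (.leaf 8025) (.leaf 10200)) (.node (.leaf 1079) (.leaf 0))) (.node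 (.node (.leaf 5089) (.leaf 0)) (.node (.leaf 884) (.leaf 0)))) (.node (.node (.node (.leaf 7154) (.leaf 19412)) (.node (.leaf 15510) (.leaf 0))) (.node (.node (.leaf 11825) (.leaf 0)) (.node (.leaf 8249) (.leaf 0))))) (.node (.node (.node (.node (.leaf 5357) (.leaf 2239)) (.node (.leaf 14027) (.leaf 0))) (.node (.node (.leaf 10643) (.leaf 0)) (.node (.leaf 18368) (.leaf 0)))) (.node (.node (.node (.leaf 4954) (.leaf 20192)) (.node (.leaf 15572) (.leaf 0))) (.node (.node (.leaf 8949) (.leaf 0)) (.node (.leaf 7598) (.leaf 0))))))) (.node (.node (.node (.node (.node (.node (.leaf 3702) (.leaf 13052)) (.node (.leaf 13587) (.leaf 0))) (.node (.node (.leaf 5321) (.leaf 0)) (.node (.leaf 12277) (.leaf 0)))) (.node (.node (.node (.leaf 17962) (.leaf 17907)) (.node (.leaf 17239) (.leaf 0))) (.node (.node (.leaf 13299) (.leaf 0)) (.node (.leaf 15160) (.leaf 0))))) (.node (.node (.node (.node (.leaf 573) (.leaf 8145)) (.node (.leaf 14717) (.leaf 0))) (.node (.node (.leaf 564) (.leaf 0)) (.node (.leaf 7686) (.leaf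 0)))) (.node (.node (.node (.leaf 8169) (.leaf 17191)) (.node (.leaf 17102) (.leaf 0))) (.node (.node (.leaf 6180) (.leaf 0)) (.node (.leaf 18429) (.leaf 0)))))) (.node (.node (.node (.node (.node (.leaf 4500) (.leaf 3155)) (.node (.leaf 16488) (.leaf 0))) (.node (.node (.leaf 1282) (.leaf 0)) (.node (.leaf 2355) (.leaf 0)))) (.node (.node (.node (.leaf 17313) (.leaf 20213)) (.node (.leaf 13301) (.leaf 0))) (.node (.node (.leaf 18213) (.leaf 0)) (.node (.leaf 17365) (.leaf 0))))) (.node (.node (.node (.node (.leaf 6758) (.leaf 101)) (.node (.leaf 8768) (.leaf 0))) (.node (.node (.leaf 15812) (.leaf 0)) (.node (.leaf 13862) (.leaf 0)))) (.node (.node (.node (.leaf 9114) (.leaf 11779)) (.node (.leaf 7960) (.leaf 0))) (.node (.node (.leaf 20345) (.leaf 0)) (.node (.leaf 15606) (.leaf 0)))))))) (.node (.node (.node (.node (.node (.node (.node (.leaf 15436) (.leaf 6339)) (.node (.leaf 8775) (.leaf 0))) (.node (.node (.leaf 15035) (.leaf 0)) (.node (.leaf 12831) (.leaf 0)))) (.node (.node (.node (.leaf 7716)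 (.leaf 8153)) (.node (.leaf 9226) (.leaf 0))) (.node (.node (.leaf 6651) (.leaf 0)) (.node (.leaf 11042) (.leaf 0))))) (.node (.node (.node (.node (.leaf 84) (.leaf 18334)) (.node (.leaf 5934) (.leaf 0))) (.node (.node (.leaf 3333) (.leaf 0)) (.node (.leaf 12281) (.leaf 0)))) (.node (.node (.node (.leaf 11213) (.leaf 611)) (.node (.leaf 6243) (.leaf 0))) (.node (.node (.leaf 16570) (.leaf 0)) (.node (.leaf 12045) (.leaf 0)))))) (.node (.node (.node (.node (.node (.leaf 18299) (.leaf 17069)) (.node (.leaf 5630) (.leaf 0))) (.node (.node (.leaf 15071) (.leaf 0)) (.node (.leaf 9085) (.leaf 0)))) (.node (.node (.node (.leaf 6142) (.leaf 3378)) (.node (.leaf 16357) (.leaf 0))) (.node (.node (.leaf 18661) (.leaf 0)) (.node (.leaf 7787) (.leaf 0))))) (.node (.node (.node (.node (.leaf 3083) (.leaf 15621)) (.node (.leaf 19459) (.leaf 0))) (.node (.node (.leaf 8371) (.leaf 0)) (.node (.leaf 13873) (.leaf 0)))) (.node (.node (.node (.leaf 7413) (.leaf 17605)) (.node (.leaf 1976) (.leaf 0))) (.node (.node (.leaf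 5169) (.leaf 0)) (.node (.leaf 14149) (.leaf 0))))))) (.node (.node (.node (.node (.node (.node (.leaf 16345) (.leaf 8689)) (.node (.leaf 13987) (.leaf 0))) (.node (.node (.leaf 11206) (.leaf 0)) (.node (.leaf 15089) (.leaf 0)))) (.node (.node (.node (.leaf 722) (.leaf 20358)) (.node (.leaf 9792) (.leaf 0))) (.node (.node (.leaf 15992) (.leaf 0)) (.node (.leaf 913) (.leaf 0))))) (.node (.node (.node (.node (.leaf 2278) (.leaf 2475)) (.node (.leaf 19062) (.leaf 0))) (.node (.node (.leaf 13550) (.leaf 0)) (.node (.leaf 5446) (.leaf 0)))) (.node (.node (.node (.leaf 4005) (.leaf 19152)) (.node (.leaf 4574) (.leaf 0))) (.node (.node (.leaf 9038) (.leaf 0)) (.node (.leaf 15020) (.leaf 0)))))) (.node (.node (.node (.node (.node (.leaf 13348) (.leaf 11813)) (.node (.leaf 4627) (.leaf 0))) (.node (.node (.leaf 15816) (.leaf 0)) (.node (.leaf 2860) (.leaf 0)))) (.node (.node (.node (.leaf 2706) (.leaf 14445)) (.node (.leaf 10013) (.leaf 0))) (.node (.node (.leaf 5444) (.leaf 0)) (.node (.leaf 17541) (.leaf 0)))))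 (.node (.node (.node (.node (.leaf 2805) (.leaf 176)) (.node (.leaf 18863) (.leaf 0))) (.node (.node (.leaf 18589) (.leaf 0)) (.node (.leaf 12147) (.leaf 0)))) (.node (.node (.node (.leaf 15772) (.leaf 1220)) (.node (.leaf 14665) (.leaf 0))) (.node (.node (.leaf 4192) (.leaf 0)) (.node (.leaf 6847) (.leaf 0))))))))

def omT98 : NT := .node (.node (.node (.node (.node (.node (.node (.node (.leaf 20276) (.leaf 11912)) (.node (.leaf 10171) (.leaf 0))) (.node (.node (.leaf 2615) (.leaf 0)) (.node (.leaf 948) (.leaf 0)))) (.node (.node (.node (.leaf 17773) (.leaf 7968)) (.node (.leaf 13948) (.leaf 0))) (.node (.node (.leaf 17415) (.leaf 0)) (.node (.leaf 12920) (.leaf 0))))) (.node (.node (.node (.node (.leaf 15950) (.leaf 13238)) (.node (.leaf 7139) (.leaf 0))) (.node (.node (.leaf 11607) (.leaf 0)) (.node (.leaf 1340) (.leaf 0)))) (.node (.node (.node (.leaf 6782) (.leaf 4573)) (.node (.leaf 18936) (.leaf 0))) (.node (.node (.leaf 19712) (.leaf 0)) (.node (.leaf 18546) (.leaf 0)))))) (.node (.node (.node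 (.node (.node (.leaf 10959) (.leaf 7189)) (.node (.leaf 8973) (.leaf 0))) (.node (.node (.leaf 18179) (.leaf 0)) (.node (.leaf 8528) (.leaf 0)))) (.node (.node (.node (.leaf 6545) (.leaf 4043)) (.node (.leaf 7477) (.leaf 0))) (.node (.node (.leaf 7251) (.leaf 0)) (.node (.leaf 9672) (.leaf 0))))) (.node (.node (.node (.node (.leaf 13047) (.leaf 7997)) (.node (.leaf 4654) (.leaf 0))) (.node (.node (.leaf 18688) (.leaf 0)) (.node (.leaf 4728) (.leaf 0)))) (.node (.node (.node (.leaf 9358) (.leaf 263)) (.node (.leaf 138) (.leaf 0))) (.node (.node (.leaf 19101) (.leaf 0)) (.node (.leaf 5281) (.leaf 0))))))) (.node (.node (.node (.node (.node (.node (.leaf 4914) (.leaf 6528)) (.node (.leaf 19564) (.leaf 0))) (.node (.node (.leaf 13674) (.leaf 0)) (.node (.leaf 19191) (.leaf 0)))) (.node (.node (.node (.leaf 14358) (.leaf 7148)) (.node (.leaf 15838) (.leaf 0))) (.node (.node (.leaf 10932) (.leaf 0)) (.node (.leaf 25) (.leaf 0))))) (.node (.node (.node (.node (.leaf 20490) (.leaf 15631)) (.node (.leaf 4766) (.leaf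 0))) (.node (.node (.leaf 5018) (.leaf 0)) (.node (.leaf 7191) (.leaf 0)))) (.node (.node (.node (.leaf 10024) (.leaf 10955)) (.node (.leaf 17717) (.leaf 0))) (.node (.node (.leaf 5418) (.leaf 0)) (.node (.leaf 6996) (.leaf 0)))))) (.node (.node (.node (.node (.node (.leaf 1809) (.leaf 10359)) (.node (.leaf 2707) (.leaf 0))) (.node (.node (.leaf 13296) (.leaf 0)) (.node (.leaf 9174) (.leaf 0)))) (.node (.node (.node (.leaf 20497) (.leaf 3753)) (.node (.leaf 10619) (.leaf 0))) (.node (.node (.leaf 14331) (.leaf 0)) (.node (.leaf 3500) (.leaf 0))))) (.node (.node (.node (.node (.leaf 6473) (.leaf 18642)) (.node (.leaf 685) (.leaf 0))) (.node (.node (.leaf 10595) (.leaf 0)) (.node (.leaf 4751) (.leaf 0)))) (.node (.node (.node (.leaf 7407) (.leaf 10756)) (.node (.leaf 3178) (.leaf 0))) (.node (.node (.leaf 10942) (.leaf 0)) (.node (.leaf 1501) (.leaf 0)))))))) (.node (.node (.node (.node (.node (.node (.node (.leaf 9037) (.leaf 188)) (.node (.leaf 19837) (.leaf 0))) (.node (.node (.leaf 2981) (.leaf 0)) (.node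 (.leaf 8565) (.leaf 0)))) (.node (.node (.node (.leaf 20465) (.leaf 16724)) (.node (.leaf 16284) (.leaf 0))) (.node (.node (.leaf 6495) (.leaf 0)) (.node (.leaf 3684) (.leaf 0))))) (.node (.node (.node (.node (.leaf 13189) (.leaf 10933)) (.node (.leaf 16836) (.leaf 0))) (.node (.node (.leaf 8698) (.leaf 0)) (.node (.leaf 12076) (.leaf 0)))) (.node (.node (.node (.leaf 1326) (.leaf 9416)) (.node (.leaf 6730) (.leaf 0))) (.node (.node (.leaf 17378) (.leaf 0)) (.node (.leaf 12319) (.leaf 0)))))) (.node (.node (.node (.node (.node (.leaf 1770) (.leaf 9141)) (.node (.leaf 18288) (.leaf 0))) (.node (.node (.leaf 8650) (.leaf 0)) (.node (.leaf 5880) (.leaf 0)))) (.node (.node (.node (.leaf 8539) (.leaf 8573)) (.node (.leaf 9246) (.leaf 0))) (.node (.node (.leaf 13095) (.leaf 0)) (.node (.leaf 17259) (.leaf 0))))) (.node (.node (.node (.node (.leaf 18501) (.leaf 9559)) (.node (.leaf 1645) (.leaf 0))) (.node (.node (.leaf 15884) (.leaf 0)) (.node (.leaf 9191) (.leaf 0)))) (.node (.node (.node (.leaf 10500) (.leaf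 548)) (.node (.leaf 16117) (.leaf 0))) (.node (.node (.leaf 12646) (.leaf 0)) (.node (.leaf 696) (.leaf 0))))))) (.node (.node (.node (.node (.node (.node (.leaf 13367) (.leaf 8202)) (.node (.leaf 17654) (.leaf 0))) (.node (.node (.leaf 4463) (.leaf 0)) (.node (.leaf 5434) (.leaf 0)))) (.node (.node (.node (.leaf 11591) (.leaf 2735)) (.node (.leaf 639) (.leaf 0))) (.node (.node (.leaf 8537) (.leaf 0)) (.node (.leaf 16103) (.leaf 0))))) (.node (.node (.node (.node (.leaf 9816) (.leaf 15646)) (.node (.leaf 2320) (.leaf 0))) (.node (.node (.leaf 11926) (.leaf 0)) (.node (.leaf 16949) (.leaf 0)))) (.node (.node (.node (.leaf 7285) (.leaf 14628)) (.node (.leaf 12664) (.leaf 0))) (.node (.node (.leaf 6751) (.leaf 0)) (.node (.leaf 15848) (.leaf 0)))))) (.node (.node (.node (.node (.node (.leaf 16870) (.leaf 558)) (.node (.leaf 14059) (.leaf 0))) (.node (.node (.leaf 13542) (.leaf 0)) (.node (.leaf 13405) (.leaf 0)))) (.node (.node (.node (.leaf 20027) (.leaf 2393)) (.node (.leaf 10588) (.leaf 0))) (.node (.node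 (.leaf 522) (.leaf 0)) (.node (.leaf 2136) (.leaf 0))))) (.node (.node (.node (.node (.leaf 4198) (.leaf 3968)) (.node (.leaf 17261) (.leaf 0))) (.node (.node (.leaf 16147) (.leaf 0)) (.node (.leaf 2489) (.leaf 0)))) (.node (.node (.node (.leaf 17533) (.leaf 13560)) (.node (.leaf 9868) (.leaf 0))) (.node (.node (.leaf 11212) (.leaf 0)) (.node (.leaf 11932) (.leaf 0))))))))

def omT99 : NT := .node (.node (.node (.node (.node (.node (.node (.node (.leaf 15411) (.leaf 3182)) (.node (.leaf 2257) (.leaf 0))) (.node (.node (.leaf 10308) (.leaf 0)) (.node (.leaf 17691) (.leaf 0)))) (.node (.node (.node (.leaf 17228) (.leaf 5547)) (.node (.leaf 14513) (.leaf 0))) (.node (.node (.leaf 15791) (.leaf 0)) (.node (.leaf 1585) (.leaf 0))))) (.node (.node (.node (.node (.leaf 16050) (.leaf 14387)) (.node (.leaf 8988) (.leaf 0))) (.node (.node (.leaf 15200) (.leaf 0)) (.node (.leaf 7898) (.leaf 0)))) (.node (.node (.node (.leaf 1299) (.leaf 8714)) (.node (.leaf 11887) (.leaf 0))) (.node (.node (.leaf 4564) (.leaf 0))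 (.node (.leaf 18206) (.leaf 0)))))) (.node (.node (.node (.node (.node (.leaf 10087) (.leaf 16095)) (.node (.leaf 8591) (.leaf 0))) (.node (.node (.leaf 8958) (.leaf 0)) (.node (.leaf 908) (.leaf 0)))) (.node (.node (.node (.leaf 4782) (.leaf 15075)) (.node (.leaf 20453) (.leaf 0))) (.node (.node (.leaf 8419) (.leaf 0)) (.node (.leaf 15203) (.leaf 0))))) (.node (.node (.node (.node (.leaf 11268) (.leaf 4510)) (.node (.leaf 9736) (.leaf 0))) (.node (.node (.leaf 3758) (.leaf 0)) (.node (.leaf 6790) (.leaf 0)))) (.node (.node (.node (.leaf 17505) (.leaf 14748)) (.node (.leaf 19039) (.leaf 0))) (.node (.node (.leaf 6964) (.leaf 0)) (.node (.leaf 6686) (.leaf 0))))))) (.node (.node (.node (.node (.node (.node (.leaf 16621) (.leaf 13610)) (.node (.leaf 13341) (.leaf 0))) (.node (.node (.leaf 19054) (.leaf 0)) (.node (.leaf 5807) (.leaf 0)))) (.node (.node (.node (.leaf 18633) (.leaf 12603)) (.node (.leaf 10403) (.leaf 0))) (.node (.node (.leaf 13016) (.leaf 0)) (.node (.leaf 1516) (.leaf 0))))) (.node (.node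 (.node (.node (.leaf 6816) (.leaf 7097)) (.node (.leaf 12849) (.leaf 0))) (.node (.node (.leaf 7979) (.leaf 0)) (.node (.leaf 17421) (.leaf 0)))) (.node (.node (.node (.leaf 1341) (.leaf 14906)) (.node (.leaf 11875) (.leaf 0))) (.node (.node (.leaf 5222) (.leaf 0)) (.node (.leaf 13295) (.leaf 0)))))) (.node (.node (.node (.node (.node (.leaf 19241) (.leaf 16230)) (.node (.leaf 11846) (.leaf 0))) (.node (.node (.leaf 9869) (.leaf 0)) (.node (.leaf 2041) (.leaf 0)))) (.node (.node (.node (.leaf 6356) (.leaf 7209)) (.node (.leaf 14986) (.leaf 0))) (.node (.node (.leaf 8152) (.leaf 0)) (.node (.leaf 9560) (.leaf 0))))) (.node (.node (.node (.node (.leaf 17761) (.leaf 6108)) (.node (.leaf 14803) (.leaf 0))) (.node (.node (.leaf 18319) (.leaf 0)) (.node (.leaf 14013) (.leaf 0)))) (.node (.node (.node (.leaf 19694) (.leaf 18510)) (.node (.leaf 13507) (.leaf 0))) (.node (.node (.leaf 15907) (.leaf 0)) (.node (.leaf 12731) (.leaf 0)))))))) (.node (.node (.node (.node (.node (.node (.node (.leaf 7146) (.leaf 5177))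 (.node (.leaf 5207) (.leaf 0))) (.node (.node (.leaf 2377) (.leaf 0)) (.node (.leaf 2541) (.leaf 0)))) (.node (.node (.node (.leaf 20140) (.leaf 15616)) (.node (.leaf 9980) (.leaf 0))) (.node (.node (.leaf 13157) (.leaf 0)) (.node (.leaf 12118) (.leaf 0))))) (.node (.node (.node (.node (.leaf 19647) (.leaf 11589)) (.node (.leaf 19282) (.leaf 0))) (.node (.node (.leaf 12548) (.leaf 0)) (.node (.leaf 2327) (.leaf 0)))) (.node (.node (.node (.leaf 17321) (.leaf 3432)) (.node (.leaf 14730) (.leaf 0))) (.node (.node (.leaf 3609) (.leaf 0)) (.node (.leaf 1781) (.leaf 0)))))) (.node (.node (.node (.node (.node (.leaf 3388) (.leaf 2140)) (.node (.leaf 8172) (.leaf 0))) (.node (.node (.leaf 8516) (.leaf 0)) (.node (.leaf 17786) (.leaf 0)))) (.node (.node (.node (.leaf 9056) (.leaf 16978)) (.node (.leaf 5233) (.leaf 0))) (.node (.node (.leaf 6959) (.leaf 0)) (.node (.leaf 3708) (.leaf 0))))) (.node (.node (.node (.node (.leaf 4713) (.leaf 19831)) (.node (.leaf 13393) (.leaf 0))) (.node (.node (.leaf 4062) (.leaf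 0)) (.node (.leaf 2883) (.leaf 0)))) (.node (.node (.node (.leaf 15608) (.leaf 6854)) (.node (.leaf 6409) (.leaf 0))) (.node (.node (.leaf 6882) (.leaf 0)) (.node (.leaf 16967) (.leaf 0))))))) (.node (.node (.node (.node (.node (.node (.leaf 19703) (.leaf 12430)) (.node (.leaf 5694) (.leaf 0))) (.node (.node (.leaf 13275) (.leaf 0)) (.node (.leaf 2530) (.leaf 0)))) (.node (.node (.node (.leaf 7370) (.leaf 9634)) (.node (.leaf 2596) (.leaf 0))) (.node (.node (.leaf 15854) (.leaf 0)) (.node (.leaf 3740) (.leaf 0))))) (.node (.node (.node (.node (.leaf 19033) (.leaf 9243)) (.node (.leaf 14650) (.leaf 0))) (.node (.node (.leaf 5241) (.leaf 0)) (.node (.leaf 1143) (.leaf 0)))) (.node (.node (.node (.leaf 8647) (.leaf 6608)) (.node (.leaf 13710) (.leaf 0))) (.node (.node (.leaf 14638) (.leaf 0)) (.node (.leaf 11798) (.leaf 0)))))) (.node (.node (.node (.node (.node (.leaf 10091) (.leaf 8421)) (.node (.leaf 19192) (.leaf 0))) (.node (.node (.leaf 957) (.leaf 0)) (.node (.leaf 4922) (.leaf 0)))) (.node (.node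 (.node (.leaf 10147) (.leaf 18888)) (.node (.leaf 14540) (.leaf 0))) (.node (.node (.leaf 11729) (.leaf 0)) (.node (.leaf 2564) (.leaf 0))))) (.node (.node (.node (.node (.leaf 1592) (.leaf 11827)) (.node (.leaf 20355) (.leaf 0))) (.node (.node (.leaf 8767) (.leaf 0)) (.node (.leaf 6689) (.leaf 0)))) (.node (.node (.node (.leaf 14256) (.leaf 2050)) (.node (.leaf 14775) (.leaf 0))) (.node (.node (.leaf 2545) (.leaf 0)) (.node (.leaf 18559) (.leaf 0))))))))

def omT100 : NT := .node (.node (.node (.node (.node (.node (.node (.node (.leaf 7077) (.leaf 879)) (.node (.leaf 17847) (.leaf 0))) (.node (.node (.leaf 3040) (.leaf 0)) (.node (.leaf 4448) (.leaf 0)))) (.node (.node (.node (.leaf 20518) (.leaf 2337)) (.node (.leaf 19347) (.leaf 0))) (.node (.node (.leaf 11697) (.leaf 0)) (.node (.leaf 17144) (.leaf 0))))) (.node (.node (.node (.node (.leaf 2526) (.leaf 2774)) (.node (.leaf 14123) (.leaf 0))) (.node (.node (.leaf 19570) (.leaf 0)) (.node (.leaf 19196) (.leaf 0)))) (.node (.node (.node (.leaf 15247)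 (.leaf 18255)) (.node (.leaf 17964) (.leaf 0))) (.node (.node (.leaf 8240) (.leaf 0)) (.node (.leaf 1175) (.leaf 0)))))) (.node (.node (.node (.node (.node (.leaf 14411) (.leaf 6449)) (.node (.leaf 7967) (.leaf 0))) (.node (.node (.leaf 6244) (.leaf 0)) (.node (.leaf 19309) (.leaf 0)))) (.node (.node (.node (.leaf 18125) (.leaf 19447)) (.node (.leaf 11179) (.leaf 0))) (.node (.node (.leaf 5435) (.leaf 0)) (.node (.leaf 4431) (.leaf 0))))) (.node (.node (.node (.node (.leaf 4718) (.leaf 15603)) (.node (.leaf 20233) (.leaf 0))) (.node (.node (.leaf 14341) (.leaf 0)) (.node (.leaf 10299) (.leaf 0)))) (.node (.node (.node (.leaf 8294) (.leaf 11220)) (.node (.leaf 4703) (.leaf 0))) (.node (.node (.leaf 4524) (.leaf 0)) (.node (.leaf 7102) (.leaf 0))))))) (.node (.node (.node (.node (.node (.node (.leaf 10178) (.leaf 13716)) (.node (.leaf 10302) (.leaf 0))) (.node (.node (.leaf 18285) (.leaf 0)) (.node (.leaf 3723) (.leaf 0)))) (.node (.node (.node (.leaf 3833) (.leaf 14929)) (.node (.leaf 20403) (.leaf 0)))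 (.node (.node (.leaf 7570) (.leaf 0)) (.node (.leaf 11803) (.leaf 0))))) (.node (.node (.node (.node (.leaf 4218) (.leaf 6685)) (.node (.leaf 9343) (.leaf 0))) (.node (.node (.leaf 348) (.leaf 0)) (.node (.leaf 6461) (.leaf 0)))) (.node (.node (.node (.leaf 11335) (.leaf 13867)) (.node (.leaf 10214) (.leaf 0))) (.node (.node (.leaf 1270) (.leaf 0)) (.node (.leaf 17675) (.leaf 0)))))) (.node (.node (.node (.node (.node (.leaf 7082) (.leaf 12378)) (.node (.leaf 10611) (.leaf 0))) (.node (.node (.leaf 17501) (.leaf 0)) (.node (.leaf 17536) (.leaf 0)))) (.node (.node (.node (.leaf 4335) (.leaf 6426)) (.node (.leaf 3762) (.leaf 0))) (.node (.node (.leaf 15804) (.leaf 0)) (.node (.leaf 10064) (.leaf 0))))) (.node (.node (.node (.node (.leaf 4400) (.leaf 6006)) (.node (.leaf 19707) (.leaf 0))) (.node (.node (.leaf 11053) (.leaf 0)) (.node (.leaf 4004) (.leaf 0)))) (.node (.node (.node (.leaf 17551) (.leaf 20035)) (.node (.leaf 10277) (.leaf 0))) (.node (.node (.leaf 16652) (.leaf 0)) (.node (.leaf 20378) (.leaf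 0)))))))) (.node (.node (.node (.node (.node (.node (.node (.leaf 571) (.leaf 313)) (.node (.leaf 17046) (.leaf 0))) (.node (.node (.leaf 11223) (.leaf 0)) (.node (.leaf 2800) (.leaf 0)))) (.node (.node (.node (.leaf 3772) (.leaf 3211)) (.node (.leaf 9161) (.leaf 0))) (.node (.node (.leaf 2330) (.leaf 0)) (.node (.leaf 8569) (.leaf 0))))) (.node (.node (.node (.node (.leaf 11922) (.leaf 10513)) (.node (.leaf 19743) (.leaf 0))) (.node (.node (.leaf 3372) (.leaf 0)) (.node (.leaf 3344) (.leaf 0)))) (.node (.node (.node (.leaf 3110) (.leaf 16794)) (.node (.leaf 10057) (.leaf 0))) (.node (.node (.leaf 13172) (.leaf 0)) (.node (.leaf 3546) (.leaf 0)))))) (.node (.node (.node (.node (.node (.leaf 4748) (.leaf 3521)) (.node (.leaf 11959) (.leaf 0))) (.node (.node (.leaf 1807) (.leaf 0)) (.node (.leaf 15757) (.leaf 0)))) (.node (.node (.node (.leaf 8288) (.leaf 16074)) (.node (.leaf 6514) (.leaf 0))) (.node (.node (.leaf 20412) (.leaf 0)) (.node (.leaf 2534) (.leaf 0))))) (.node (.node (.node (.node (.leaf 15780)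 (.leaf 12681)) (.node (.leaf 3583) (.leaf 0))) (.node (.node (.leaf 3966) (.leaf 0)) (.node (.leaf 6067) (.leaf 0)))) (.node (.node (.node (.leaf 8337) (.leaf 12464)) (.node (.leaf 14157) (.leaf 0))) (.node (.node (.leaf 504) (.leaf 0)) (.node (.leaf 7193) (.leaf 0))))))) (.node (.node (.node (.node (.node (.node (.leaf 718) (.leaf 6486)) (.node (.leaf 5643) (.leaf 0))) (.node (.node (.leaf 12470) (.leaf 0)) (.node (.leaf 13506) (.leaf 0)))) (.node (.node (.node (.leaf 76) (.leaf 16022)) (.node (.leaf 13459) (.leaf 0))) (.node (.node (.leaf 7438) (.leaf 0)) (.node (.leaf 9359) (.leaf 0))))) (.node (.node (.node (.node (.leaf 11689) (.leaf 10124)) (.node (.leaf 559) (.leaf 0))) (.node (.node (.leaf 4246) (.leaf 0)) (.node (.leaf 977) (.leaf 0)))) (.node (.node (.node (.leaf 1596) (.leaf 1330)) (.node (.leaf 14357) (.leaf 0))) (.node (.node (.leaf 1364) (.leaf 0)) (.node (.leaf 12418) (.leaf 0)))))) (.node (.node (.node (.node (.node (.leaf 8939) (.leaf 13777)) (.node (.leaf 15161) (.leaf 0))) (.node (.node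 (.leaf 8592) (.leaf 0)) (.node (.leaf 4280) (.leaf 0)))) (.node (.node (.node (.leaf 2885) (.leaf 13833)) (.node (.leaf 17778) (.leaf 0))) (.node (.node (.leaf 18067) (.leaf 0)) (.node (.leaf 10900) (.leaf 0))))) (.node (.node (.node (.node (.leaf 3225) (.leaf 19296)) (.node (.leaf 18729) (.leaf 0))) (.node (.node (.leaf 2776) (.leaf 0)) (.node (.leaf 4556) (.leaf 0)))) (.node (.node (.node (.leaf 18393) (.leaf 17302)) (.node (.leaf 13051) (.leaf 0))) (.node (.node (.leaf 7500) (.leaf 0)) (.node (.leaf 19863) (.leaf 0))))))))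

def omT101 : NT := .node (.node (.node (.node (.node (.node (.node (.node (.leaf 8181) (.leaf 15477)) (.node (.leaf 8812) (.leaf 0))) (.node (.node (.leaf 205) (.leaf 0)) (.node (.leaf 6470) (.leaf 0)))) (.node (.node (.node (.leaf 7624) (.leaf 3899)) (.node (.leaf 2694) (.leaf 0))) (.node (.node (.leaf 17272) (.leaf 0)) (.node (.leaf 14241) (.leaf 0))))) (.node (.node (.node (.node (.leaf 11151) (.leaf 4228)) (.node (.leaf 3787) (.leaf 0))) (.node (.node (.leaf 1542) (.leaf 0)) (.node (.leaf 2788) (.leaf 0)))) (.node (.node (.node (.leaf 2417) (.leaf 1977)) (.node (.leaf 16352) (.leaf 0))) (.node (.node (.leaf 3893) (.leaf 0)) (.node (.leaf 6841) (.leaf 0)))))) (.node (.node (.node (.node (.node (.leaf 5605) (.leaf 13605)) (.node (.leaf 1142) (.leaf 0))) (.node (.node (.leaf 10047) (.leaf 0)) (.node (.leaf 6367) (.leaf 0)))) (.node (.node (.node (.leaf 15931) (.leaf 4355)) (.node (.leaf 7315) (.leaf 0))) (.node (.node (.leaf 16174) (.leaf 0)) (.node (.leaf 6897) (.leaf 0))))) (.node (.node (.node (.node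 (.leaf 3280) (.leaf 9310)) (.node (.leaf 11391) (.leaf 0))) (.node (.node (.leaf 6106) (.leaf 0)) (.node (.leaf 12813) (.leaf 0)))) (.node (.node (.node (.leaf 7229) (.leaf 14092)) (.node (.leaf 4760) (.leaf 0))) (.node (.node (.leaf 10004) (.leaf 0)) (.node (.leaf 810) (.leaf 0))))))) (.node (.node (.node (.node (.node (.node (.leaf 4516) (.leaf 19336)) (.node (.leaf 11971) (.leaf 0))) (.node (.node (.leaf 14418) (.leaf 0)) (.node (.leaf 7314) (.leaf 0)))) (.node (.node (.node (.leaf 19028) (.leaf 16543)) (.node (.leaf 1371) (.leaf 0))) (.node (.node (.leaf 290) (.leaf 0)) (.node (.leaf 16945) (.leaf 0))))) (.node (.node (.node (.node (.leaf 12662) (.leaf 15276)) (.node (.leaf 4087) (.leaf 0))) (.node (.node (.leaf 8955) (.leaf 0)) (.node (.leaf 8092) (.leaf 0)))) (.node (.node (.node (.leaf 15743) (.leaf 14254)) (.node (.leaf 3859) (.leaf 0))) (.node (.node (.leaf 11787) (.leaf 0)) (.node (.leaf 20054) (.leaf 0)))))) (.node (.node (.node (.node (.node (.leaf 3687) (.leaf 5782)) (.node (.leaf 7644) (.leaf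 0))) (.node (.node (.leaf 10361) (.leaf 0)) (.node (.leaf 10393) (.leaf 0)))) (.node (.node (.node (.leaf 3985) (.leaf 10106)) (.node (.leaf 18337) (.leaf 0))) (.node (.node (.leaf 500) (.leaf 0)) (.node (.leaf 17804) (.leaf 0))))) (.node (.node (.node (.node (.leaf 3774) (.leaf 4581)) (.node (.leaf 17743) (.leaf 0))) (.node (.node (.leaf 224) (.leaf 0)) (.node (.leaf 20397) (.leaf 0)))) (.node (.node (.node (.leaf 8054) (.leaf 10437)) (.node (.leaf 3949) (.leaf 0))) (.node (.node (.leaf 11239) (.leaf 0)) (.node (.leaf 11588) (.leaf 0)))))))) (.node (.node (.node (.node (.node (.node (.node (.leaf 19967) (.leaf 12399)) (.node (.leaf 14501) (.leaf 0))) (.node (.node (.leaf 9084) (.leaf 0)) (.node (.leaf 65) (.leaf 0)))) (.node (.node (.node (.leaf 14582) (.leaf 9061)) (.node (.leaf 13120) (.leaf 0))) (.node (.node (.leaf 18227) (.leaf 0)) (.node (.leaf 7178) (.leaf 0))))) (.node (.node (.node (.node (.leaf 12351) (.leaf 858)) (.node (.leaf 11612) (.leaf 0))) (.node (.node (.leaf 16253) (.leaf 0)) (.node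 (.leaf 16519) (.leaf 0)))) (.node (.node (.node (.leaf 18472) (.leaf 11249)) (.node (.leaf 4065) (.leaf 0))) (.node (.node (.leaf 14827) (.leaf 0)) (.node (.leaf 18305) (.leaf 0)))))) (.node (.node (.node (.node (.node (.leaf 9985) (.leaf 4876)) (.node (.leaf 14796) (.leaf 0))) (.node (.node (.leaf 16080) (.leaf 0)) (.node (.leaf 12994) (.leaf 0)))) (.node (.node (.node (.leaf 12949) (.leaf 20353)) (.node (.leaf 2831) (.leaf 0))) (.node (.node (.leaf 11673) (.leaf 0)) (.node (.leaf 10664) (.leaf 0))))) (.node (.node (.node (.node (.leaf 16685) (.leaf 11069)) (.node (.leaf 11561) (.leaf 0))) (.node (.node (.leaf 4934) (.leaf 0)) (.node (.leaf 1398) (.leaf 0)))) (.node (.node (.node (.leaf 3290) (.leaf 16751)) (.node (.leaf 7732) (.leaf 0))) (.node (.node (.leaf 4969) (.leaf 0)) (.node (.leaf 10371) (.leaf 0))))))) (.node (.node (.node (.node (.node (.node (.leaf 5325) (.leaf 7957)) (.node (.leaf 13313) (.leaf 0))) (.node (.node (.leaf 1756) (.leaf 0)) (.node (.leaf 975) (.leaf 0)))) (.node (.node (.node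 (.leaf 9291) (.leaf 2441)) (.node (.leaf 18629) (.leaf 0))) (.node (.node (.leaf 18596) (.leaf 0)) (.node (.leaf 6804) (.leaf 0))))) (.node (.node (.node (.node (.leaf 2659) (.leaf 8589)) (.node (.leaf 2324) (.leaf 0))) (.node (.node (.leaf 17097) (.leaf 0)) (.node (.leaf 10952) (.leaf 0)))) (.node (.node (.node (.leaf 12372) (.leaf 14514)) (.node (.leaf 13466) (.leaf 0))) (.node (.node (.leaf 4663) (.leaf 0)) (.node (.leaf 17341) (.leaf 0)))))) (.node (.node (.node (.node (.node (.leaf 9851) (.leaf 6924)) (.node (.leaf 12968) (.leaf 0))) (.node (.node (.leaf 16917) (.leaf 0)) (.node (.leaf 4426) (.leaf 0)))) (.node (.node (.node (.leaf 9531) (.leaf 12883)) (.node (.leaf 18503) (.leaf 0))) (.node (.node (.leaf 20168) (.leaf 0)) (.node (.leaf 14845) (.leaf 0))))) (.node (.node (.node (.node (.leaf 14442) (.leaf 7423)) (.node (.leaf 2391) (.leaf 0))) (.node (.node (.leaf 14707) (.leaf 0)) (.node (.leaf 13950) (.leaf 0)))) (.node (.node (.node (.leaf 2842) (.leaf 12871)) (.node (.leaf 13977) (.leaf 0))) (.node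 (.node (.leaf 6387) (.leaf 0)) (.node (.leaf 4368) (.leaf 0))))))))

def omT102 : NT := .node (.node (.node (.node (.node (.node (.node (.node (.leaf 8889) (.leaf 10443)) (.node (.leaf 16033) (.leaf 0))) (.node (.node (.leaf 14402) (.leaf 0)) (.node (.leaf 1025) (.leaf 0)))) (.node (.node (.node (.leaf 19510) (.leaf 14508)) (.node (.leaf 20210) (.leaf 0))) (.node (.node (.leaf 5320) (.leaf 0)) (.node (.leaf 413) (.leaf 0))))) (.node (.node (.node (.node (.leaf 19921) (.leaf 3162)) (.node (.leaf 16920) (.leaf 0))) (.node (.node (.leaf 9971) (.leaf 0)) (.node (.leaf 2229) (.leaf 0)))) (.node (.node (.node (.leaf 4652) (.leaf 8583)) (.node (.leaf 12609) (.leaf 0))) (.node (.node (.leaf 8960) (.leaf 0)) (.node (.leaf 8774) (.leaf 0)))))) (.node (.node (.node (.node (.node (.leaf 11105) (.leaf 15121)) (.node (.leaf 11603) (.leaf 0))) (.node (.node (.leaf 20099) (.leaf 0)) (.node (.leaf 555) (.leaf 0)))) (.node (.node (.node (.leaf 2219) (.leaf 11721)) (.node (.leaf 8720) (.leaf 0))) (.node (.node (.leaf 1122)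 (.leaf 0)) (.node (.leaf 16950) (.leaf 0))))) (.node (.node (.node (.node (.leaf 16360) (.leaf 7252)) (.node (.leaf 5156) (.leaf 0))) (.node (.node (.leaf 7693) (.leaf 0)) (.node (.leaf 8511) (.leaf 0)))) (.node (.node (.node (.leaf 13709) (.leaf 14299)) (.node (.leaf 12619) (.leaf 0))) (.node (.node (.leaf 19847) (.leaf 0)) (.node (.leaf 11871) (.leaf 0))))))) (.node (.node (.node (.node (.node (.node (.leaf 17217) (.leaf 7203)) (.node (.leaf 12940) (.leaf 0))) (.node (.node (.leaf 8572) (.leaf 0)) (.node (.leaf 1552) (.leaf 0)))) (.node (.node (.node (.leaf 995) (.leaf 9371)) (.node (.leaf 15892) (.leaf 0))) (.node (.node (.leaf 2993) (.leaf 0)) (.node (.leaf 6170) (.leaf 0))))) (.node (.node (.node (.node (.leaf 5492) (.leaf 330)) (.node (.leaf 719) (.leaf 0))) (.node (.node (.leaf 12508) (.leaf 0)) (.node (.leaf 7653) (.leaf 0)))) (.node (.node (.node (.leaf 18238) (.leaf 7130)) (.node (.leaf 9351) (.leaf 0))) (.node (.node (.leaf 16882) (.leaf 0)) (.node (.leaf 19795) (.leaf 0)))))) (.node (.node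 (.node (.node (.node (.leaf 6275) (.leaf 17522)) (.node (.leaf 17561) (.leaf 0))) (.node (.node (.leaf 14685) (.leaf 0)) (.node (.leaf 8571) (.leaf 0)))) (.node (.node (.node (.leaf 2634) (.leaf 5278)) (.node (.leaf 17573) (.leaf 0))) (.node (.node (.leaf 19977) (.leaf 0)) (.node (.leaf 515) (.leaf 0))))) (.node (.node (.node (.node (.leaf 100) (.leaf 9784)) (.node (.leaf 15450) (.leaf 0))) (.node (.node (.leaf 11434) (.leaf 0)) (.node (.leaf 13416) (.leaf 0)))) (.node (.node (.node (.leaf 16876) (.leaf 7414)) (.node (.leaf 2001) (.leaf 0))) (.node (.node (.leaf 10799) (.leaf 0)) (.node (.leaf 7403) (.leaf 0)))))))) (.node (.node (.node (.node (.node (.node (.node (.leaf 6797) (.leaf 8794)) (.node (.leaf 16615) (.leaf 0))) (.node (.node (.leaf 16008) (.leaf 0)) (.node (.leaf 5677) (.leaf 0)))) (.node (.node (.node (.leaf 4) (.leaf 19790)) (.node (.leaf 11761) (.leaf 0))) (.node (.node (.leaf 20506) (.leaf 0)) (.node (.leaf 4270) (.leaf 0))))) (.node (.node (.node (.node (.leaf 10695) (.leaf 2577)) (.node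 (.leaf 16770) (.leaf 0))) (.node (.node (.leaf 3773) (.leaf 0)) (.node (.leaf 6583) (.leaf 0)))) (.node (.node (.node (.leaf 6831) (.leaf 18241)) (.node (.leaf 3452) (.leaf 0))) (.node (.node (.leaf 11879) (.leaf 0)) (.node (.leaf 19989) (.leaf 0)))))) (.node (.node (.node (.node (.node (.leaf 1924) (.leaf 1980)) (.node (.leaf 1578) (.leaf 0))) (.node (.node (.leaf 7030) (.leaf 0)) (.node (.leaf 1769) (.leaf 0)))) (.node (.node (.node (.leaf 10741) (.leaf 6382)) (.node (.leaf 6048) (.leaf 0))) (.node (.node (.leaf 14100) (.leaf 0)) (.node (.leaf 3148) (.leaf 0))))) (.node (.node (.node (.node (.leaf 7350) (.leaf 4252)) (.node (.leaf 513) (.leaf 0))) (.node (.node (.leaf 1434) (.leaf 0)) (.node (.leaf 14869) (.leaf 0)))) (.node (.node (.node (.leaf 14007) (.leaf 13836)) (.node (.leaf 1377) (.leaf 0))) (.node (.node (.leaf 14189) (.leaf 0)) (.node (.leaf 4190) (.leaf 0))))))) (.node (.node (.node (.node (.node (.node (.leaf 12222) (.leaf 13783)) (.node (.leaf 18352) (.leaf 0))) (.node (.node (.leaf 16982)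 (.leaf 0)) (.node (.leaf 11572) (.leaf 0)))) (.node (.node (.node (.leaf 6984) (.leaf 14635)) (.node (.leaf 10062) (.leaf 0))) (.node (.node (.leaf 7492) (.leaf 0)) (.node (.leaf 5392) (.leaf 0))))) (.node (.node (.node (.node (.leaf 9845) (.leaf 2781)) (.node (.leaf 12026) (.leaf 0))) (.node (.node (.leaf 63) (.leaf 0)) (.node (.leaf 13965) (.leaf 0)))) (.node (.node (.node (.leaf 20085) (.leaf 9542)) (.node (.leaf 8459) (.leaf 0))) (.node (.node (.leaf 6806) (.leaf 0)) (.node (.leaf 10612) (.leaf 0)))))) (.node (.node (.node (.node (.node (.leaf 16344) (.leaf 9076)) (.node (.leaf 424) (.leaf 0))) (.node (.node (.leaf 609) (.leaf 0)) (.node (.leaf 16014) (.leaf 0)))) (.node (.node (.node (.leaf 6188) (.leaf 2784)) (.node (.leaf 13752) (.leaf 0))) (.node (.node (.leaf 254) (.leaf 0)) (.node (.leaf 15977) (.leaf 0))))) (.node (.node (.node (.node (.leaf 15991) (.leaf 2574)) (.node (.leaf 3765) (.leaf 0))) (.node (.node (.leaf 6733) (.leaf 0)) (.node (.leaf 4856) (.leaf 0)))) (.node (.node (.node (.leaf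 7114) (.leaf 8678)) (.node (.leaf 15258) (.leaf 0))) (.node (.node (.leaf 4107) (.leaf 0)) (.node (.leaf 16494) (.leaf 0))))))))

def omT103 : NT := .node (.node (.node (.node (.node (.node (.node (.node (.leaf 12620) (.leaf 1316)) (.node (.leaf 15076) (.leaf 0))) (.node (.node (.leaf 14323) (.leaf 0)) (.node (.leaf 1396) (.leaf 0)))) (.node (.node (.node (.leaf 19532) (.leaf 7640)) (.node (.leaf 15396) (.leaf 0))) (.node (.node (.leaf 4778) (.leaf 0)) (.node (.leaf 4209) (.leaf 0))))) (.node (.node (.node (.node (.leaf 165) (.leaf 12494)) (.node (.leaf 1566) (.leaf 0))) (.node (.node (.leaf 15315) (.leaf 0)) (.node (.leaf 12404) (.leaf 0)))) (.node (.node (.node (.leaf 10546) (.leaf 18362)) (.node (.leaf 15104) (.leaf 0))) (.node (.node (.leaf 17587) (.leaf 0)) (.node (.leaf 2040) (.leaf 0)))))) (.node (.node (.node (.node (.node (.leaf 3238) (.leaf 15301)) (.node (.leaf 15410) (.leaf 0))) (.node (.node (.leaf 7293) (.leaf 0)) (.node (.leaf 5176) (.leaf 0)))) (.node (.node (.node (.leaf 8530) (.leaf 2660))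 (.node (.leaf 1764) (.leaf 0))) (.node (.node (.leaf 12160) (.leaf 0)) (.node (.leaf 11275) (.leaf 0))))) (.node (.node (.node (.node (.leaf 15677) (.leaf 4371)) (.node (.leaf 17141) (.leaf 0))) (.node (.node (.leaf 19964) (.leaf 0)) (.node (.leaf 2159) (.leaf 0)))) (.node (.node (.node (.leaf 728) (.leaf 7165)) (.node (.leaf 17047) (.leaf 0))) (.node (.node (.leaf 20496) (.leaf 0)) (.node (.leaf 19348) (.leaf 0))))))) (.node (.node (.node (.node (.node (.node (.leaf 6386) (.leaf 1857)) (.node (.leaf 19108) (.leaf 0))) (.node (.node (.leaf 16689) (.leaf 0)) (.node (.leaf 11732) (.leaf 0)))) (.node (.node (.node (.leaf 5209) (.leaf 11187)) (.node (.leaf 18204) (.leaf 0))) (.node (.node (.leaf 2672) (.leaf 0)) (.node (.leaf 6823) (.leaf 0))))) (.node (.node (.node (.node (.leaf 19688) (.leaf 8287)) (.node (.leaf 14449) (.leaf 0))) (.node (.node (.leaf 15245) (.leaf 0)) (.node (.leaf 15198) (.leaf 0)))) (.node (.node (.node (.leaf 7058) (.leaf 10988)) (.node (.leaf 13696) (.leaf 0))) (.node (.node (.leaf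 6708) (.leaf 0)) (.node (.leaf 20127) (.leaf 0)))))) (.node (.node (.node (.node (.node (.leaf 13055) (.leaf 3364)) (.node (.leaf 15942) (.leaf 0))) (.node (.node (.leaf 4576) (.leaf 0)) (.node (.leaf 5603) (.leaf 0)))) (.node (.node (.node (.leaf 10201) (.leaf 18276)) (.node (.leaf 12778) (.leaf 0))) (.node (.node (.leaf 14314) (.leaf 0)) (.node (.leaf 11759) (.leaf 0))))) (.node (.node (.node (.node (.leaf 15202) (.leaf 20049)) (.node (.leaf 20197) (.leaf 0))) (.node (.node (.leaf 15306) (.leaf 0)) (.node (.leaf 17719) (.leaf 0)))) (.node (.node (.node (.leaf 16019) (.leaf 3700)) (.node (.leaf 4375) (.leaf 0))) (.node (.node (.leaf 7667) (.leaf 0)) (.node (.leaf 12945) (.leaf 0)))))))) (.node (.node (.node (.node (.node (.node (.node (.leaf 5046) (.leaf 18779)) (.node (.leaf 3289) (.leaf 0))) (.node (.node (.leaf 8173) (.leaf 0)) (.node (.leaf 8281) (.leaf 0)))) (.node (.node (.node (.leaf 10306) (.leaf 16261)) (.node (.leaf 1097) (.leaf 0))) (.node (.node (.leaf 3606) (.leaf 0)) (.node (.leaf 2771)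 (.leaf 0))))) (.node (.node (.node (.node (.leaf 15898) (.leaf 6073)) (.node (.leaf 8301) (.leaf 0))) (.node (.node (.leaf 10574) (.leaf 0)) (.node (.leaf 10408) (.leaf 0)))) (.node (.node (.node (.leaf 11092) (.leaf 10888)) (.node (.leaf 10769) (.leaf 0))) (.node (.node (.leaf 20359) (.leaf 0)) (.node (.leaf 4781) (.leaf 0)))))) (.node (.node (.node (.node (.node (.leaf 742) (.leaf 10350)) (.node (.leaf 15982) (.leaf 0))) (.node (.node (.leaf 10098) (.leaf 0)) (.node (.leaf 18586) (.leaf 0)))) (.node (.node (.node (.leaf 16869) (.leaf 7290)) (.node (.leaf 6297) (.leaf 0))) (.node (.node (.leaf 1529) (.leaf 0)) (.node (.leaf 6930) (.leaf 0))))) (.node (.node (.node (.node (.leaf 9677) (.leaf 7701)) (.node (.leaf 2994) (.leaf 0))) (.node (.node (.leaf 7559) (.leaf 0)) (.node (.leaf 6390) (.leaf 0)))) (.node (.node (.node (.leaf 12137) (.leaf 1054)) (.node (.leaf 8466) (.leaf 0))) (.node (.node (.leaf 12911) (.leaf 0)) (.node (.leaf 9988) (.leaf 0))))))) (.node (.node (.node (.node (.node (.node (.leaf 13765)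 (.leaf 12963)) (.node (.leaf 15192) (.leaf 0))) (.node (.node (.leaf 18388) (.leaf 0)) (.node (.leaf 2018) (.leaf 0)))) (.node (.node (.node (.leaf 9089) (.leaf 17770)) (.node (.leaf 3128) (.leaf 0))) (.node (.node (.leaf 14987) (.leaf 0)) (.node (.leaf 3799) (.leaf 0))))) (.node (.node (.node (.node (.leaf 11430) (.leaf 7870)) (.node (.leaf 46) (.leaf 0))) (.node (.node (.leaf 5162) (.leaf 0)) (.node (.leaf 16115) (.leaf 0)))) (.node (.node (.node (.leaf 3995) (.leaf 18525)) (.node (.leaf 11292) (.leaf 0))) (.node (.node (.leaf 6960) (.leaf 0)) (.node (.leaf 985) (.leaf 0)))))) (.node (.node (.node (.node (.node (.leaf 372) (.leaf 7864)) (.node (.leaf 17542) (.leaf 0))) (.node (.node (.leaf 2546) (.leaf 0)) (.node (.leaf 14982) (.leaf 0)))) (.node (.node (.node (.leaf 12151) (.leaf 19701)) (.node (.leaf 5150) (.leaf 0))) (.node (.node (.leaf 2875) (.leaf 0)) (.node (.leaf 13667) (.leaf 0))))) (.node (.node (.node (.node (.leaf 14462) (.leaf 441)) (.node (.leaf 141) (.leaf 0))) (.node (.node (.leaf 19344)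 (.leaf 0)) (.node (.leaf 10761) (.leaf 0)))) (.node (.node (.node (.leaf 17981) (.leaf 2528)) (.node (.leaf 6023) (.leaf 0))) (.node (.node (.leaf 13002) (.leaf 0)) (.node (.leaf 8080) (.leaf 0))))))))

def omT104 : NT := .node (.node (.node (.node (.node (.node (.node (.node (.leaf 15103) (.leaf 2523)) (.node (.leaf 4933) (.leaf 0))) (.node (.node (.leaf 1996) (.leaf 0)) (.node (.leaf 16989) (.leaf 0)))) (.node (.node (.node (.leaf 12384) (.leaf 7933)) (.node (.leaf 10998) (.leaf 0))) (.node (.node (.leaf 12389) (.leaf 0)) (.node (.leaf 7753) (.leaf 0))))) (.node (.node (.node (.node (.leaf 10623) (.leaf 19227)) (.node (.leaf 1795) (.leaf 0))) (.node (.node (.leaf 15088) (.leaf 0)) (.node (.leaf 5249) (.leaf 0)))) (.node (.node (.node (.leaf 13607) (.leaf 11895)) (.node (.leaf 3159) (.leaf 0))) (.node (.node (.leaf 6776) (.leaf 0)) (.node (.leaf 12912) (.leaf 0)))))) (.node (.node (.node (.node (.node (.leaf 14226) (.leaf 7233)) (.node (.leaf 20341) (.leaf 0))) (.node (.node (.leaf 4106) (.leaf 0)) (.node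 (.leaf 12526) (.leaf 0)))) (.node (.node (.node (.leaf 14259) (.leaf 1002)) (.node (.leaf 17673) (.leaf 0))) (.node (.node (.leaf 13154) (.leaf 0)) (.node (.leaf 3130) (.leaf 0))))) (.node (.node (.node (.node (.leaf 11681) (.leaf 2712)) (.node (.leaf 16550) (.leaf 0))) (.node (.node (.leaf 3906) (.leaf 0)) (.node (.leaf 13182) (.leaf 0)))) (.node (.node (.node (.leaf 12273) (.leaf 7965)) (.node (.leaf 1742) (.leaf 0))) (.node (.node (.leaf 11350) (.leaf 0)) (.node (.leaf 18706) (.leaf 0))))))) (.node (.node (.node (.node (.node (.node (.leaf 2440) (.leaf 6053)) (.node (.leaf 17406) (.leaf 0))) (.node (.node (.leaf 6864) (.leaf 0)) (.node (.leaf 20463) (.leaf 0)))) (.node (.node (.node (.leaf 1385) (.leaf 3698)) (.node (.leaf 18086) (.leaf 0))) (.node (.node (.leaf 11093) (.leaf 0)) (.node (.leaf 659) (.leaf 0))))) (.node (.node (.node (.node (.leaf 8043) (.leaf 4414)) (.node (.leaf 15465) (.leaf 0))) (.node (.node (.leaf 3088) (.leaf 0)) (.node (.leaf 1800) (.leaf 0)))) (.node (.node (.node (.leaf 11805)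 (.leaf 9426)) (.node (.leaf 6680) (.leaf 0))) (.node (.node (.leaf 552) (.leaf 0)) (.node (.leaf 8890) (.leaf 0)))))) (.node (.node (.node (.node (.node (.leaf 16049) (.leaf 10387)) (.node (.leaf 16930) (.leaf 0))) (.node (.node (.leaf 11031) (.leaf 0)) (.node (.leaf 6673) (.leaf 0)))) (.node (.node (.node (.leaf 3562) (.leaf 730)) (.node (.leaf 9749) (.leaf 0))) (.node (.node (.leaf 15489) (.leaf 0)) (.node (.leaf 11596) (.leaf 0))))) (.node (.node (.node (.node (.leaf 18836) (.leaf 4201)) (.node (.leaf 7264) (.leaf 0))) (.node (.node (.leaf 2089) (.leaf 0)) (.node (.leaf 8310) (.leaf 0)))) (.node (.node (.node (.leaf 11528) (.leaf 4440)) (.node (.leaf 17706) (.leaf 0))) (.node (.node (.leaf 1649) (.leaf 0)) (.node (.leaf 6914) (.leaf 0)))))))) (.node (.node (.node (.node (.node (.node (.node (.leaf 11128) (.leaf 10232)) (.node (.leaf 16546) (.leaf 0))) (.node (.node (.leaf 11393) (.leaf 0)) (.node (.leaf 4213) (.leaf 0)))) (.node (.node (.node (.leaf 12880) (.leaf 14469)) (.node (.leaf 7550) (.leaf 0)))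 (.node (.node (.leaf 1351) (.leaf 0)) (.node (.leaf 12316) (.leaf 0))))) (.node (.node (.node (.node (.leaf 17481) (.leaf 15184)) (.node (.leaf 16281) (.leaf 0))) (.node (.node (.leaf 19084) (.leaf 0)) (.node (.leaf 1483) (.leaf 0)))) (.node (.node (.node (.leaf 16898) (.leaf 9277)) (.node (.leaf 14896) (.leaf 0))) (.node (.node (.leaf 10337) (.leaf 0)) (.node (.leaf 20438) (.leaf 0)))))) (.node (.node (.node (.node (.node (.leaf 17559) (.leaf 12035)) (.node (.leaf 5573) (.leaf 0))) (.node (.node (.leaf 19856) (.leaf 0)) (.node (.leaf 1388) (.leaf 0)))) (.node (.node (.node (.leaf 16822) (.leaf 2009)) (.node (.leaf 1361) (.leaf 0))) (.node (.node (.leaf 16196) (.leaf 0)) (.node (.leaf 7547) (.leaf 0))))) (.node (.node (.node (.node (.leaf 207) (.leaf 2102)) (.node (.leaf 9017) (.leaf 0))) (.node (.node (.leaf 12033) (.leaf 0)) (.node (.leaf 9724) (.leaf 0)))) (.node (.node (.node (.leaf 12989) (.leaf 5208)) (.node (.leaf 457) (.leaf 0))) (.node (.node (.leaf 7895) (.leaf 0)) (.node (.leaf 15374) (.leaf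 0))))))) (.node (.node (.node (.node (.node (.node (.leaf 14928) (.leaf 7816)) (.node (.leaf 10100) (.leaf 0))) (.node (.node (.leaf 4731) (.leaf 0)) (.node (.leaf 6555) (.leaf 0)))) (.node (.node (.node (.leaf 2600) (.leaf 10893)) (.node (.leaf 6789) (.leaf 0))) (.node (.node (.leaf 11397) (.leaf 0)) (.node (.leaf 3917) (.leaf 0))))) (.node (.node (.node (.node (.leaf 2854) (.leaf 3334)) (.node (.leaf 9834) (.leaf 0))) (.node (.node (.leaf 12231) (.leaf 0)) (.node (.leaf 4150) (.leaf 0)))) (.node (.node (.node (.leaf 20111) (.leaf 17274)) (.node (.leaf 14345) (.leaf 0))) (.node (.node (.leaf 7149) (.leaf 0)) (.node (.leaf 2786) (.leaf 0)))))) (.node (.node (.node (.node (.node (.leaf 11671) (.leaf 17815)) (.node (.leaf 8091) (.leaf 0))) (.node (.node (.leaf 19861) (.leaf 0)) (.node (.leaf 11631) (.leaf 0)))) (.node (.node (.node (.leaf 3209) (.leaf 8389)) (.node (.leaf 14552) (.leaf 0))) (.node (.node (.leaf 8701) (.leaf 0)) (.node (.leaf 3751) (.leaf 0))))) (.node (.node (.node (.node (.leaf 6898) (.leaf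 13938)) (.node (.leaf 1630) (.leaf 0))) (.node (.node (.leaf 15824) (.leaf 0)) (.node (.leaf 12543) (.leaf 0)))) (.node (.node (.node (.leaf 14632) (.leaf 13530)) (.node (.leaf 18986) (.leaf 0))) (.node (.node (.leaf 7828) (.leaf 0)) (.node (.leaf 7125) (.leaf 0))))))))

def omT105 : NT := .node (.node (.node (.node (.node (.node (.node (.node (.leaf 10927) (.leaf 5425)) (.node (.leaf 1551) (.leaf 0))) (.node (.node (.leaf 15552) (.leaf 0)) (.node (.leaf 17171) (.leaf 0)))) (.node (.node (.node (.leaf 18843) (.leaf 9118)) (.node (.leaf 20032) (.leaf 0))) (.node (.node (.leaf 7218) (.leaf 0)) (.node (.leaf 616) (.leaf 0))))) (.node (.node (.node (.node (.leaf 15605) (.leaf 16289)) (.node (.leaf 10958) (.leaf 0))) (.node (.node (.leaf 17430) (.leaf 0)) (.node (.leaf 9295) (.leaf 0)))) (.node (.node (.node (.leaf 1177) (.leaf 2513)) (.node (.leaf 8187) (.leaf 0))) (.node (.node (.leaf 13705) (.leaf 0)) (.node (.leaf 4489) (.leaf 0)))))) (.node (.node (.node (.node (.node (.leaf 1436) (.leaf 1880)) (.node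 (.leaf 8940) (.leaf 0))) (.node (.node (.leaf 19210) (.leaf 0)) (.node (.leaf 18890) (.leaf 0)))) (.node (.node (.node (.leaf 8078) (.leaf 15431)) (.node (.leaf 2160) (.leaf 0))) (.node (.node (.leaf 16446) (.leaf 0)) (.node (.leaf 8586) (.leaf 0))))) (.node (.node (.node (.node (.leaf 7534) (.leaf 5982)) (.node (.leaf 3078) (.leaf 0))) (.node (.node (.leaf 19361) (.leaf 0)) (.node (.leaf 7198) (.leaf 0)))) (.node (.node (.node (.leaf 10838) (.leaf 17478)) (.node (.leaf 1653) (.leaf 0))) (.node (.node (.leaf 8204) (.leaf 0)) (.node (.leaf 10671) (.leaf 0))))))) (.node (.node (.node (.node (.node (.node (.leaf 19256) (.leaf 6713)) (.node (.leaf 10738) (.leaf 0))) (.node (.node (.leaf 5919) (.leaf 0)) (.node (.leaf 10355) (.leaf 0)))) (.node (.node (.node (.leaf 1335) (.leaf 11216)) (.node (.leaf 1234) (.leaf 0))) (.node (.node (.leaf 18976) (.leaf 0)) (.node (.leaf 10162) (.leaf 0))))) (.node (.node (.node (.node (.leaf 18777) (.leaf 17391)) (.node (.leaf 8275) (.leaf 0))) (.node (.node (.leaf 7882) (.leaf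 0)) (.node (.leaf 14456) (.leaf 0)))) (.node (.node (.node (.leaf 20485) (.leaf 7649)) (.node (.leaf 12573) (.leaf 0))) (.node (.node (.leaf 14734) (.leaf 0)) (.node (.leaf 9643) (.leaf 0)))))) (.node (.node (.node (.node (.node (.leaf 904) (.leaf 18551)) (.node (.leaf 12338) (.leaf 0))) (.node (.node (.leaf 11937) (.leaf 0)) (.node (.leaf 10600) (.leaf 0)))) (.node (.node (.node (.leaf 9820) (.leaf 10949)) (.node (.leaf 8440) (.leaf 0))) (.node (.node (.leaf 18756) (.leaf 0)) (.node (.leaf 9549) (.leaf 0))))) (.node (.node (.node (.node (.leaf 4814) (.leaf 16177)) (.node (.leaf 11704) (.leaf 0))) (.node (.node (.leaf 8887) (.leaf 0)) (.node (.leaf 18555) (.leaf 0)))) (.node (.node (.node (.leaf 17974) (.leaf 13394)) (.node (.leaf 4330) (.leaf 0))) (.node (.node (.leaf 2013) (.leaf 0)) (.node (.leaf 15856) (.leaf 0)))))))) (.node (.node (.node (.node (.node (.node (.node (.leaf 5451) (.leaf 14113)) (.node (.leaf 537) (.leaf 0))) (.node (.node (.leaf 13139) (.leaf 0)) (.node (.leaf 8420) (.leaf 0)))) (.node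 (.node (.node (.leaf 894) (.leaf 13643)) (.node (.leaf 11889) (.leaf 0))) (.node (.node (.leaf 19695) (.leaf 0)) (.node (.leaf 3473) (.leaf 0))))) (.node (.node (.node (.node (.leaf 20070) (.leaf 11824)) (.node (.leaf 9356) (.leaf 0))) (.node (.node (.leaf 19061) (.leaf 0)) (.node (.leaf 18058) (.leaf 0)))) (.node (.node (.node (.leaf 7462) (.leaf 7257)) (.node (.leaf 2610) (.leaf 0))) (.node (.node (.leaf 16823) (.leaf 0)) (.node (.leaf 18124) (.leaf 0)))))) (.node (.node (.node (.node (.node (.leaf 1854) (.leaf 171)) (.node (.leaf 17900) (.leaf 0))) (.node (.node (.leaf 17954) (.leaf 0)) (.node (.leaf 15167) (.leaf 0)))) (.node (.node (.node (.leaf 9723) (.leaf 1763)) (.node (.leaf 14388) (.leaf 0))) (.node (.node (.leaf 5946) (.leaf 0)) (.node (.leaf 3382) (.leaf 0))))) (.node (.node (.node (.node (.leaf 19035) (.leaf 2371)) (.node (.leaf 15239) (.leaf 0))) (.node (.node (.leaf 2006) (.leaf 0)) (.node (.leaf 7589) (.leaf 0)))) (.node (.node (.node (.leaf 15138) (.leaf 1433)) (.node (.leaf 6335) (.leaf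 0))) (.node (.node (.leaf 7642) (.leaf 0)) (.node (.leaf 18534) (.leaf 0))))))) (.node (.node (.node (.node (.node (.node (.leaf 13332) (.leaf 12562)) (.node (.leaf 1427) (.leaf 0))) (.node (.node (.leaf 19381) (.leaf 0)) (.node (.leaf 3440) (.leaf 0)))) (.node (.node (.node (.leaf 2645) (.leaf 9640)) (.node (.leaf 3766) (.leaf 0))) (.node (.node (.leaf 17782) (.leaf 0)) (.node (.leaf 9572) (.leaf 0))))) (.node (.node (.node (.node (.leaf 15540) (.leaf 10768)) (.node (.leaf 626) (.leaf 0))) (.node (.node (.leaf 8364) (.leaf 0)) (.node (.leaf 7583) (.leaf 0)))) (.node (.node (.node (.leaf 12959) (.leaf 7002)) (.node (.leaf 4740) (.leaf 0))) (.node (.node (.leaf 12193) (.leaf 0)) (.node (.leaf 8392) (.leaf 0)))))) (.node (.node (.node (.node (.node (.leaf 18803) (.leaf 16860)) (.node (.leaf 6433) (.leaf 0))) (.node (.node (.leaf 16337) (.leaf 0)) (.node (.leaf 3336) (.leaf 0)))) (.node (.node (.node (.leaf 19106) (.leaf 19369)) (.node (.leaf 1041) (.leaf 0))) (.node (.node (.leaf 13475) (.leaf 0)) (.node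 (.leaf 1040) (.leaf 0))))) (.node (.node (.node (.node (.leaf 654) (.leaf 4831)) (.node (.leaf 3759) (.leaf 0))) (.node (.node (.leaf 11175) (.leaf 0)) (.node (.leaf 14705) (.leaf 0)))) (.node (.node (.node (.leaf 6264) (.leaf 7528)) (.node (.leaf 17306) (.leaf 0))) (.node (.node (.leaf 15584) (.leaf 0)) (.node (.leaf 4182) (.leaf 0))))))))

def omT106 : NT := .node (.node (.node (.node (.node (.node (.node (.node (.leaf 12219) (.leaf 15918)) (.node (.leaf 566) (.leaf 0))) (.node (.node (.leaf 6371) (.leaf 0)) (.node (.leaf 5394) (.leaf 0)))) (.node (.node (.node (.leaf 14271) (.leaf 15820)) (.node (.leaf 7190) (.leaf 0))) (.node (.node (.leaf 19474) (.leaf 0)) (.node (.leaf 3840) (.leaf 0))))) (.node (.node (.node (.node (.leaf 5734) (.leaf 9106)) (.node (.leaf 5225) (.leaf 0))) (.node (.node (.leaf 1098) (.leaf 0)) (.node (.leaf 9772) (.leaf 0)))) (.node (.node (.node (.leaf 8923) (.leaf 2220)) (.node (.leaf 6672) (.leaf 0))) (.node (.node (.leaf 6717) (.leaf 0)) (.node (.leaf 4543) (.leaf 0)))))) (.node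 (.node (.node (.node (.node (.leaf 14562) (.leaf 19932)) (.node (.leaf 4466) (.leaf 0))) (.node (.node (.leaf 784) (.leaf 0)) (.node (.leaf 12472) (.leaf 0)))) (.node (.node (.node (.leaf 17252) (.leaf 992)) (.node (.leaf 10807) (.leaf 0))) (.node (.node (.leaf 16305) (.leaf 0)) (.node (.leaf 7696) (.leaf 0))))) (.node (.node (.node (.node (.leaf 13424) (.leaf 14297)) (.node (.leaf 8365) (.leaf 0))) (.node (.node (.leaf 15484) (.leaf 0)) (.node (.leaf 1876) (.leaf 0)))) (.node (.node (.node (.leaf 17427) (.leaf 16435)) (.node (.leaf 9143) (.leaf 0))) (.node (.node (.leaf 11255) (.leaf 0)) (.node (.leaf 7036) (.leaf 0))))))) (.node (.node (.node (.node (.node (.node (.leaf 14372) (.leaf 13490)) (.node (.leaf 13049) (.leaf 0))) (.node (.node (.leaf 8323) (.leaf 0)) (.node (.leaf 8655) (.leaf 0)))) (.node (.node (.node (.leaf 12907) (.leaf 10580)) (.node (.leaf 6056) (.leaf 0))) (.node (.node (.leaf 20148) (.leaf 0)) (.node (.leaf 15986) (.leaf 0))))) (.node (.node (.node (.node (.leaf 15905) (.leaf 6062))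 (.node (.leaf 14381) (.leaf 0))) (.node (.node (.leaf 17168) (.leaf 0)) (.node (.leaf 11172) (.leaf 0)))) (.node (.node (.node (.leaf 19416) (.leaf 19821)) (.node (.leaf 2490) (.leaf 0))) (.node (.node (.leaf 16465) (.leaf 0)) (.node (.leaf 11717) (.leaf 0)))))) (.node (.node (.node (.node (.node (.leaf 11038) (.leaf 14525)) (.node (.leaf 16698) (.leaf 0))) (.node (.node (.leaf 12872) (.leaf 0)) (.node (.leaf 15919) (.leaf 0)))) (.node (.node (.node (.leaf 6444) (.leaf 15166)) (.node (.leaf 20175) (.leaf 0))) (.node (.node (.leaf 15358) (.leaf 0)) (.node (.leaf 19043) (.leaf 0))))) (.node (.node (.node (.node (.leaf 1323) (.leaf 5200)) (.node (.leaf 7906) (.leaf 0))) (.node (.node (.leaf 13255) (.leaf 0)) (.node (.leaf 4039) (.leaf 0)))) (.node (.node (.node (.leaf 19005) (.leaf 9293)) (.node (.leaf 1200) (.leaf 0))) (.node (.node (.leaf 15994) (.leaf 0)) (.node (.leaf 19105) (.leaf 0)))))))) (.node (.node (.node (.node (.node (.node (.node (.leaf 9646) (.leaf 8529)) (.node (.leaf 10978) (.leaf 0))) (.node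 (.node (.leaf 1181) (.leaf 0)) (.node (.leaf 13033) (.leaf 0)))) (.node (.node (.node (.leaf 8482) (.leaf 813)) (.node (.leaf 11763) (.leaf 0))) (.node (.node (.leaf 11651) (.leaf 0)) (.node (.leaf 3276) (.leaf 0))))) (.node (.node (.node (.node (.leaf 7416) (.leaf 19177)) (.node (.leaf 4501) (.leaf 0))) (.node (.node (.leaf 1985) (.leaf 0)) (.node (.leaf 3652) (.leaf 0)))) (.node (.node (.node (.leaf 13821) (.leaf 9019)) (.node (.leaf 17458) (.leaf 0))) (.node (.node (.leaf 1490) (.leaf 0)) (.node (.leaf 13297) (.leaf 0)))))) (.node (.node (.node (.node (.node (.leaf 18161) (.leaf 17183)) (.node (.leaf 13859) (.leaf 0))) (.node (.node (.leaf 6391) (.leaf 0)) (.node (.leaf 1105) (.leaf 0)))) (.node (.node (.node (.leaf 4069) (.leaf 18582)) (.node (.leaf 12697) (.leaf 0))) (.node (.node (.leaf 3516) (.leaf 0)) (.node (.leaf 14063) (.leaf 0))))) (.node (.node (.node (.node (.leaf 646) (.leaf 20194)) (.node (.leaf 17488) (.leaf 0))) (.node (.node (.leaf 13822) (.leaf 0)) (.node (.leaf 3373) (.leaf 0)))) (.node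 (.node (.node (.leaf 17515) (.leaf 12371)) (.node (.leaf 1672) (.leaf 0))) (.node (.node (.leaf 11143) (.leaf 0)) (.node (.leaf 4877) (.leaf 0))))))) (.node (.node (.node (.node (.node (.node (.leaf 14921) (.leaf 5201)) (.node (.leaf 14247) (.leaf 0))) (.node (.node (.leaf 1568) (.leaf 0)) (.node (.leaf 6120) (.leaf 0)))) (.node (.node (.node (.leaf 8895) (.leaf 465)) (.node (.leaf 12504) (.leaf 0))) (.node (.node (.leaf 1412) (.leaf 0)) (.node (.leaf 9507) (.leaf 0))))) (.node (.node (.node (.node (.leaf 2058) (.leaf 8552)) (.node (.leaf 7156) (.leaf 0))) (.node (.node (.leaf 2518) (.leaf 0)) (.node (.leaf 10360) (.leaf 0)))) (.node (.node (.node (.leaf 5168) (.leaf 19860)) (.node (.leaf 11666) (.leaf 0))) (.node (.node (.leaf 16518) (.leaf 0)) (.node (.leaf 13961) (.leaf 0)))))) (.node (.node (.node (.node (.node (.leaf 9442) (.leaf 6636)) (.node (.leaf 10318) (.leaf 0))) (.node (.node (.leaf 10780) (.leaf 0)) (.node (.leaf 16856) (.leaf 0)))) (.node (.node (.node (.leaf 13858) (.leaf 16553)) (.node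 (.leaf 6086) (.leaf 0))) (.node (.node (.leaf 13565) (.leaf 0)) (.node (.leaf 8549) (.leaf 0))))) (.node (.node (.node (.node (.leaf 8137) (.leaf 11381)) (.node (.leaf 17977) (.leaf 0))) (.node (.node (.leaf 10340) (.leaf 0)) (.node (.leaf 9436) (.leaf 0)))) (.node (.node (.node (.leaf 19875) (.leaf 10495)) (.node (.leaf 18937) (.leaf 0))) (.node (.node (.leaf 2104) (.leaf 0)) (.node (.leaf 5613) (.leaf 0))))))))

def omT107 : NT := .node (.node (.node (.node (.node (.node (.node (.node (.leaf 14816) (.leaf 8127)) (.node (.leaf 9205) (.leaf 0))) (.node (.node (.leaf 14660) (.leaf 0)) (.node (.leaf 10220) (.leaf 0)))) (.node (.node (.node (.leaf 19813) (.leaf 12299)) (.node (.leaf 6490) (.leaf 0))) (.node (.node (.leaf 10334) (.leaf 0)) (.node (.leaf 13426) (.leaf 0))))) (.node (.node (.node (.node (.leaf 1126) (.leaf 13159)) (.node (.leaf 17695) (.leaf 0))) (.node (.node (.leaf 16888) (.leaf 0)) (.node (.leaf 16006) (.leaf 0)))) (.node (.node (.node (.leaf 58) (.leaf 172)) (.node (.leaf 13545) (.leaf 0)))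 (.node (.node (.leaf 1342) (.leaf 0)) (.node (.leaf 19055) (.leaf 0)))))) (.node (.node (.node (.node (.node (.leaf 3898) (.leaf 10609)) (.node (.leaf 9157) (.leaf 0))) (.node (.node (.leaf 13342) (.leaf 0)) (.node (.leaf 2198) (.leaf 0)))) (.node (.node (.node (.leaf 4177) (.leaf 18514)) (.node (.leaf 13907) (.leaf 0))) (.node (.node (.leaf 17368) (.leaf 0)) (.node (.leaf 13140) (.leaf 0))))) (.node (.node (.node (.node (.leaf 7093) (.leaf 1537)) (.node (.leaf 3423) (.leaf 0))) (.node (.node (.leaf 8316) (.leaf 0)) (.node (.leaf 6572) (.leaf 0)))) (.node (.node (.node (.leaf 7522) (.leaf 18547)) (.node (.leaf 19161) (.leaf 0))) (.node (.node (.leaf 19188) (.leaf 0)) (.node (.leaf 16460) (.leaf 0))))))) (.node (.node (.node (.node (.node (.node (.leaf 1527) (.leaf 6132)) (.node (.leaf 2251) (.leaf 0))) (.node (.node (.leaf 1646) (.leaf 0)) (.node (.leaf 4883) (.leaf 0)))) (.node (.node (.node (.leaf 547) (.leaf 13289)) (.node (.leaf 18066) (.leaf 0))) (.node (.node (.leaf 13007) (.leaf 0)) (.node (.leaf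 5600) (.leaf 0))))) (.node (.node (.node (.node (.leaf 2369) (.leaf 9961)) (.node (.leaf 2151) (.leaf 0))) (.node (.node (.leaf 17419) (.leaf 0)) (.node (.leaf 13869) (.leaf 0)))) (.node (.node (.node (.leaf 4504) (.leaf 11738)) (.node (.leaf 3834) (.leaf 0))) (.node (.node (.leaf 10414) (.leaf 0)) (.node (.leaf 16523) (.leaf 0)))))) (.node (.node (.node (.node (.node (.leaf 15776) (.leaf 13253)) (.node (.leaf 20486) (.leaf 0))) (.node (.node (.leaf 10411) (.leaf 0)) (.node (.leaf 18268) (.leaf 0)))) (.node (.node (.node (.leaf 16400) (.leaf 12263)) (.node (.leaf 2231) (.leaf 0))) (.node (.node (.leaf 6049) (.leaf 0)) (.node (.leaf 11464) (.leaf 0))))) (.node (.node (.node (.node (.leaf 17657) (.leaf 17748)) (.node (.leaf 5909) (.leaf 0))) (.node (.node (.leaf 20114) (.leaf 0)) (.node (.leaf 16184) (.leaf 0)))) (.node (.node (.node (.leaf 11710) (.leaf 13303)) (.node (.leaf 12143) (.leaf 0))) (.node (.node (.leaf 11390) (.leaf 0)) (.node (.leaf 6601) (.leaf 0)))))))) (.node (.node (.node (.node (.node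 (.node (.node (.leaf 6851) (.leaf 3064)) (.node (.leaf 12301) (.leaf 0))) (.node (.node (.leaf 17052) (.leaf 0)) (.node (.leaf 12480) (.leaf 0)))) (.node (.node (.node (.leaf 19332) (.leaf 5505)) (.node (.leaf 11679) (.leaf 0))) (.node (.node (.leaf 13666) (.leaf 0)) (.node (.leaf 13668) (.leaf 0))))) (.node (.node (.node (.node (.leaf 17590) (.leaf 9510)) (.node (.leaf 2726) (.leaf 0))) (.node (.node (.leaf 2249) (.leaf 0)) (.node (.leaf 13553) (.leaf 0)))) (.node (.node (.node (.leaf 12965) (.leaf 8150)) (.node (.leaf 5558) (.leaf 0))) (.node (.node (.leaf 7851) (.leaf 0)) (.node (.leaf 5027) (.leaf 0)))))) (.node (.node (.node (.node (.node (.leaf 614) (.leaf 9374)) (.node (.leaf 13283) (.leaf 0))) (.node (.node (.leaf 2851) (.leaf 0)) (.node (.leaf 14946) (.leaf 0)))) (.node (.node (.node (.leaf 17061) (.leaf 14676)) (.node (.leaf 1380) (.leaf 0))) (.node (.node (.leaf 10427) (.leaf 0)) (.node (.leaf 14348) (.leaf 0))))) (.node (.node (.node (.node (.leaf 9812) (.leaf 4666)) (.node (.leaf 15190) (.leaf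 0))) (.node (.node (.leaf 9527) (.leaf 0)) (.node (.leaf 7921) (.leaf 0)))) (.node (.node (.node (.leaf 19889) (.leaf 782)) (.node (.leaf 4765) (.leaf 0))) (.node (.node (.leaf 19705) (.leaf 0)) (.node (.leaf 17650) (.leaf 0))))))) (.node (.node (.node (.node (.node (.node (.leaf 14810) (.leaf 16478)) (.node (.leaf 17229) (.leaf 0))) (.node (.node (.leaf 17941) (.leaf 0)) (.node (.leaf 9272) (.leaf 0)))) (.node (.node (.node (.leaf 10409) (.leaf 3065)) (.node (.leaf 15045) (.leaf 0))) (.node (.node (.leaf 2648) (.leaf 0)) (.node (.leaf 19672) (.leaf 0))))) (.node (.node (.node (.node (.leaf 1228) (.leaf 16101)) (.node (.leaf 12007) (.leaf 0))) (.node (.node (.leaf 3788) (.leaf 0)) (.node (.leaf 8393) (.leaf 0)))) (.node (.node (.node (.leaf 17720) (.leaf 9926)) (.node (.leaf 14197) (.leaf 0))) (.node (.node (.leaf 15304) (.leaf 0)) (.node (.leaf 4439) (.leaf 0)))))) (.node (.node (.node (.node (.node (.leaf 1737) (.leaf 4562)) (.node (.leaf 20405) (.leaf 0))) (.node (.node (.leaf 8328) (.leaf 0)) (.node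 (.leaf 19936) (.leaf 0)))) (.node (.node (.node (.leaf 1227) (.leaf 6266)) (.node (.leaf 19293) (.leaf 0))) (.node (.node (.leaf 10401) (.leaf 0)) (.node (.leaf 20482) (.leaf 0))))) (.node (.node (.node (.node (.leaf 14613) (.leaf 15858)) (.node (.leaf 7527) (.leaf 0))) (.node (.node (.leaf 16072) (.leaf 0)) (.node (.leaf 8486) (.leaf 0)))) (.node (.node (.node (.leaf 11842) (.leaf 19662)) (.node (.leaf 4692) (.leaf 0))) (.node (.node (.leaf 17388) (.leaf 0)) (.node (.leaf 6027) (.leaf 0))))))))

def omT108 : NT := .node (.node (.node (.node (.node (.node (.node (.node (.leaf 14983) (.leaf 14286)) (.node (.leaf 4956) (.leaf 0))) (.node (.node (.leaf 8856) (.leaf 0)) (.node (.leaf 10567) (.leaf 0)))) (.node (.node (.node (.leaf 5673) (.leaf 20338)) (.node (.leaf 15348) (.leaf 0))) (.node (.node (.leaf 7861) (.leaf 0)) (.node (.leaf 607) (.leaf 0))))) (.node (.node (.node (.node (.leaf 3167) (.leaf 10725)) (.node (.leaf 2170) (.leaf 0))) (.node (.node (.leaf 14106) (.leaf 0)) (.node (.leaf 3721) (.leaf 0))))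 (.node (.node (.node (.leaf 8089) (.leaf 18811)) (.node (.leaf 8733) (.leaf 0))) (.node (.node (.leaf 10698) (.leaf 0)) (.node (.leaf 3329) (.leaf 0)))))) (.node (.node (.node (.node (.node (.leaf 6434) (.leaf 899)) (.node (.leaf 13857) (.leaf 0))) (.node (.node (.leaf 3019) (.leaf 0)) (.node (.leaf 596) (.leaf 0)))) (.node (.node (.node (.leaf 15452) (.leaf 16723)) (.node (.leaf 17151) (.leaf 0))) (.node (.node (.leaf 14303) (.leaf 0)) (.node (.leaf 6230) (.leaf 0))))) (.node (.node (.node (.node (.leaf 16556) (.leaf 13245)) (.node (.leaf 8236) (.leaf 0))) (.node (.node (.leaf 4183) (.leaf 0)) (.node (.leaf 11876) (.leaf 0)))) (.node (.node (.node (.leaf 8560) (.leaf 6824)) (.node (.leaf 11863) (.leaf 0))) (.node (.node (.leaf 14036) (.leaf 0)) (.node (.leaf 750) (.leaf 0))))))) (.node (.node (.node (.node (.node (.node (.leaf 3101) (.leaf 17190)) (.node (.leaf 3074) (.leaf 0))) (.node (.node (.leaf 19780) (.leaf 0)) (.node (.leaf 16955) (.leaf 0)))) (.node (.node (.node (.leaf 15494) (.leaf 6948)) (.node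 (.leaf 18657) (.leaf 0))) (.node (.node (.leaf 11931) (.leaf 0)) (.node (.leaf 6880) (.leaf 0))))) (.node (.node (.node (.node (.leaf 3188) (.leaf 10215)) (.node (.leaf 3342) (.leaf 0))) (.node (.node (.leaf 13347) (.leaf 0)) (.node (.leaf 11743) (.leaf 0)))) (.node (.node (.node (.leaf 11715) (.leaf 19250)) (.node (.leaf 13088) (.leaf 0))) (.node (.node (.leaf 105) (.leaf 0)) (.node (.leaf 8851) (.leaf 0)))))) (.node (.node (.node (.node (.node (.leaf 11999) (.leaf 14325)) (.node (.leaf 7810) (.leaf 0))) (.node (.node (.leaf 6649) (.leaf 0)) (.node (.leaf 6740) (.leaf 0)))) (.node (.node (.node (.leaf 18405) (.leaf 3883)) (.node (.leaf 13196) (.leaf 0))) (.node (.node (.leaf 14849) (.leaf 0)) (.node (.leaf 765) (.leaf 0))))) (.node (.node (.node (.node (.leaf 4377) (.leaf 10911)) (.node (.leaf 5471) (.leaf 0))) (.node (.node (.leaf 19574) (.leaf 0)) (.node (.leaf 438) (.leaf 0)))) (.node (.node (.node (.leaf 2942) (.leaf 3335)) (.node (.leaf 19591) (.leaf 0))) (.node (.node (.leaf 11966) (.leaf 0)) (.node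 (.leaf 10092) (.leaf 0)))))))) (.node (.node (.node (.node (.node (.node (.node (.leaf 10456) (.leaf 5410)) (.node (.leaf 1879) (.leaf 0))) (.node (.node (.leaf 12786) (.leaf 0)) (.node (.leaf 9001) (.leaf 0)))) (.node (.node (.node (.leaf 3393) (.leaf 2138)) (.node (.leaf 10349) (.leaf 0))) (.node (.node (.leaf 3891) (.leaf 0)) (.node (.leaf 13359) (.leaf 0))))) (.node (.node (.node (.node (.leaf 13947) (.leaf 12980)) (.node (.leaf 13497) (.leaf 0))) (.node (.node (.leaf 12184) (.leaf 0)) (.node (.leaf 18286) (.leaf 0)))) (.node (.node (.node (.leaf 1515) (.leaf 14658)) (.node (.leaf 6705) (.leaf 0))) (.node (.node (.leaf 18076) (.leaf 0)) (.node (.leaf 9467) (.leaf 0)))))) (.node (.node (.node (.node (.node (.leaf 1896) (.leaf 17299)) (.node (.leaf 15742) (.leaf 0))) (.node (.node (.leaf 2199) (.leaf 0)) (.node (.leaf 2572) (.leaf 0)))) (.node (.node (.node (.leaf 14804) (.leaf 3051)) (.node (.leaf 18765) (.leaf 0))) (.node (.node (.leaf 9579) (.leaf 0)) (.node (.leaf 12189) (.leaf 0))))) (.node (.node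 (.node (.node (.leaf 9934) (.leaf 16511)) (.node (.leaf 15823) (.leaf 0))) (.node (.node (.leaf 18183) (.leaf 0)) (.node (.leaf 18893) (.leaf 0)))) (.node (.node (.node (.leaf 18829) (.leaf 9193)) (.node (.leaf 18422) (.leaf 0))) (.node (.node (.leaf 1981) (.leaf 0)) (.node (.leaf 10562) (.leaf 0))))))) (.node (.node (.node (.node (.node (.node (.leaf 20406) (.leaf 4202)) (.node (.leaf 15474) (.leaf 0))) (.node (.node (.leaf 9014) (.leaf 0)) (.node (.leaf 8588) (.leaf 0)))) (.node (.node (.node (.leaf 12207) (.leaf 5091)) (.node (.leaf 12810) (.leaf 0))) (.node (.node (.leaf 20156) (.leaf 0)) (.node (.leaf 11117) (.leaf 0))))) (.node (.node (.node (.node (.leaf 20179) (.leaf 7578)) (.node (.leaf 16598) (.leaf 0))) (.node (.node (.leaf 7235) (.leaf 0)) (.node (.leaf 6226) (.leaf 0)))) (.node (.node (.node (.leaf 18668) (.leaf 15909)) (.node (.leaf 13086) (.leaf 0))) (.node (.node (.leaf 17310) (.leaf 0)) (.node (.leaf 15174) (.leaf 0)))))) (.node (.node (.node (.node (.node (.leaf 6136) (.leaf 14293)) (.node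 (.leaf 13615) (.leaf 0))) (.node (.node (.leaf 937) (.leaf 0)) (.node (.leaf 7877) (.leaf 0)))) (.node (.node (.node (.leaf 92) (.leaf 18924)) (.node (.leaf 6842) (.leaf 0))) (.node (.node (.leaf 13617) (.leaf 0)) (.node (.leaf 5406) (.leaf 0))))) (.node (.node (.node (.node (.leaf 17010) (.leaf 4227)) (.node (.leaf 5504) (.leaf 0))) (.node (.node (.leaf 4378) (.leaf 0)) (.node (.leaf 15122) (.leaf 0)))) (.node (.node (.node (.leaf 18778) (.leaf 10470)) (.node (.leaf 6379) (.leaf 0))) (.node (.node (.leaf 4011) (.leaf 0)) (.node (.leaf 5255) (.leaf 0))))))))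

def omT109 : NT := .node (.node (.node (.node (.node (.node (.node (.node (.leaf 13050) (.leaf 7878)) (.node (.leaf 13763) (.leaf 0))) (.node (.node (.leaf 11127) (.leaf 0)) (.node (.leaf 6966) (.leaf 0)))) (.node (.node (.node (.leaf 976) (.leaf 17894)) (.node (.leaf 331) (.leaf 0))) (.node (.node (.leaf 15270) (.leaf 0)) (.node (.leaf 6221) (.leaf 0))))) (.node (.node (.node (.node (.leaf 4111) (.leaf 2893)) (.node (.leaf 15256) (.leaf 0))) (.node (.node (.leaf 15281) (.leaf 0)) (.node (.leaf 11443) (.leaf 0)))) (.node (.node (.node (.leaf 9890) (.leaf 13247)) (.node (.leaf 1128) (.leaf 0))) (.node (.node (.leaf 17230) (.leaf 0)) (.node (.leaf 18901) (.leaf 0)))))) (.node (.node (.node (.node (.node (.leaf 12535) (.leaf 8653)) (.node (.leaf 8438) (.leaf 0))) (.node (.node (.leaf 2487) (.leaf 0)) (.node (.leaf 19822) (.leaf 0)))) (.node (.node (.node (.leaf 10271) (.leaf 15877)) (.node (.leaf 8346) (.leaf 0))) (.node (.node (.leaf 19200) (.leaf 0)) (.node (.leaf 6990) (.leaf 0))))) (.node (.node (.node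 (.node (.leaf 8200) (.leaf 11047)) (.node (.leaf 19509) (.leaf 0))) (.node (.node (.leaf 11014) (.leaf 0)) (.node (.leaf 9697) (.leaf 0)))) (.node (.node (.node (.leaf 10896) (.leaf 20248)) (.node (.leaf 1162) (.leaf 0))) (.node (.node (.leaf 3728) (.leaf 0)) (.node (.leaf 717) (.leaf 0))))))) (.node (.node (.node (.node (.node (.node (.leaf 20313) (.leaf 4430)) (.node (.leaf 3351) (.leaf 0))) (.node (.node (.leaf 4388) (.leaf 0)) (.node (.leaf 11994) (.leaf 0)))) (.node (.node (.node (.leaf 12737) (.leaf 3501)) (.node (.leaf 12270) (.leaf 0))) (.node (.node (.leaf 8520) (.leaf 0)) (.node (.leaf 642) (.leaf 0))))) (.node (.node (.node (.node (.leaf 1715) (.leaf 18932)) (.node (.leaf 14693) (.leaf 0))) (.node (.node (.leaf 10592) (.leaf 0)) (.node (.leaf 8579) (.leaf 0)))) (.node (.node (.node (.leaf 2111) (.leaf 2446)) (.node (.leaf 1194) (.leaf 0))) (.node (.node (.leaf 4214) (.leaf 0)) (.node (.leaf 4384) (.leaf 0)))))) (.node (.node (.node (.node (.node (.leaf 12635) (.leaf 2380)) (.node (.leaf 10446)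 (.leaf 0))) (.node (.node (.leaf 13640) (.leaf 0)) (.node (.leaf 9064) (.leaf 0)))) (.node (.node (.node (.leaf 16467) (.leaf 16654)) (.node (.leaf 16176) (.leaf 0))) (.node (.node (.leaf 12260) (.leaf 0)) (.node (.leaf 13573) (.leaf 0))))) (.node (.node (.node (.node (.leaf 4195) (.leaf 8352)) (.node (.leaf 316) (.leaf 0))) (.node (.node (.leaf 1395) (.leaf 0)) (.node (.leaf 17360) (.leaf 0)))) (.node (.node (.node (.leaf 10743) (.leaf 16855)) (.node (.leaf 7249) (.leaf 0))) (.node (.node (.leaf 16212) (.leaf 0)) (.node (.leaf 19593) (.leaf 0)))))))) (.node (.node (.node (.node (.node (.node (.node (.leaf 11578) (.leaf 6742)) (.node (.leaf 3803) (.leaf 0))) (.node (.node (.leaf 14940) (.leaf 0)) (.node (.leaf 11083) (.leaf 0)))) (.node (.node (.node (.leaf 10794) (.leaf 19823)) (.node (.leaf 3380) (.leaf 0))) (.node (.node (.leaf 7643) (.leaf 0)) (.node (.leaf 13339) (.leaf 0))))) (.node (.node (.node (.node (.leaf 4061) (.leaf 12324)) (.node (.leaf 16170) (.leaf 0))) (.node (.node (.leaf 8611) (.leaf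 0)) (.node (.leaf 13797) (.leaf 0)))) (.node (.node (.node (.leaf 19219) (.leaf 3904)) (.node (.leaf 18930) (.leaf 0))) (.node (.node (.leaf 14045) (.leaf 0)) (.node (.leaf 4526) (.leaf 0)))))) (.node (.node (.node (.node (.node (.leaf 1891) (.leaf 2364)) (.node (.leaf 18113) (.leaf 0))) (.node (.node (.leaf 8217) (.leaf 0)) (.node (.leaf 17092) (.leaf 0)))) (.node (.node (.node (.leaf 18199) (.leaf 13781)) (.node (.leaf 19002) (.leaf 0))) (.node (.node (.leaf 3844) (.leaf 0)) (.node (.leaf 2606) (.leaf 0))))) (.node (.node (.node (.node (.leaf 7001) (.leaf 14443)) (.node (.leaf 6151) (.leaf 0))) (.node (.node (.leaf 13420) (.leaf 0)) (.node (.leaf 6394) (.leaf 0)))) (.node (.node (.node (.leaf 15334) (.leaf 13293)) (.node (.leaf 15356) (.leaf 0))) (.node (.node (.leaf 16953) (.leaf 0)) (.node (.leaf 15230) (.leaf 0))))))) (.node (.node (.node (.node (.node (.node (.leaf 10160) (.leaf 19307)) (.node (.leaf 11747) (.leaf 0))) (.node (.node (.leaf 817) (.leaf 0)) (.node (.leaf 4081) (.leaf 0)))) (.node (.node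 (.node (.leaf 18775) (.leaf 14812)) (.node (.leaf 8801) (.leaf 0))) (.node (.node (.leaf 6389) (.leaf 0)) (.node (.leaf 18969) (.leaf 0))))) (.node (.node (.node (.node (.leaf 18680) (.leaf 11363)) (.node (.leaf 12347) (.leaf 0))) (.node (.node (.leaf 12764) (.leaf 0)) (.node (.leaf 7834) (.leaf 0)))) (.node (.node (.node (.leaf 2227) (.leaf 7328)) (.node (.leaf 12763) (.leaf 0))) (.node (.node (.leaf 19987) (.leaf 0)) (.node (.leaf 19791) (.leaf 0)))))) (.node (.node (.node (.node (.node (.leaf 1075) (.leaf 18878)) (.node (.leaf 8651) (.leaf 0))) (.node (.node (.leaf 18904) (.leaf 0)) (.node (.leaf 357) (.leaf 0)))) (.node (.node (.node (.leaf 17453) (.leaf 3077)) (.node (.leaf 6080) (.leaf 0))) (.node (.node (.leaf 13734) (.leaf 0)) (.node (.leaf 11860) (.leaf 0))))) (.node (.node (.node (.node (.leaf 9233) (.leaf 4014)) (.node (.leaf 14517) (.leaf 0))) (.node (.node (.leaf 19109) (.leaf 0)) (.node (.leaf 12436) (.leaf 0)))) (.node (.node (.node (.leaf 6432) (.leaf 16375)) (.node (.leaf 10153) (.leaf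 0))) (.node (.node (.leaf 507) (.leaf 0)) (.node (.leaf 9309) (.leaf 0))))))))

def omT110 : NT := .node (.node (.node (.node (.node (.node (.node (.node (.leaf 13471) (.leaf 18040)) (.node (.leaf 16247) (.leaf 0))) (.node (.node (.leaf 20180) (.leaf 0)) (.node (.leaf 8680) (.leaf 0)))) (.node (.node (.node (.leaf 1320) (.leaf 12125)) (.node (.leaf 17809) (.leaf 0))) (.node (.node (.leaf 8218) (.leaf 0)) (.node (.leaf 5872) (.leaf 0))))) (.node (.node (.node (.node (.leaf 1916) (.leaf 16902)) (.node (.leaf 12976) (.leaf 0))) (.node (.node (.leaf 6599) (.leaf 0)) (.node (.leaf 18754) (.leaf 0)))) (.node (.node (.node (.leaf 6089) (.leaf 13039)) (.node (.leaf 12387) (.leaf 0))) (.node (.node (.leaf 4907) (.leaf 0)) (.node (.leaf 7248) (.leaf 0)))))) (.node (.node (.node (.node (.node (.leaf 18881) (.leaf 11694)) (.node (.leaf 5215) (.leaf 0))) (.node (.node (.leaf 8667) (.leaf 0)) (.node (.leaf 5987) (.leaf 0)))) (.node (.node (.node (.leaf 12013) (.leaf 432)) (.node (.leaf 17177) (.leaf 0))) (.node (.node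 (.leaf 4268) (.leaf 0)) (.node (.leaf 919) (.leaf 0))))) (.node (.node (.node (.node (.leaf 10675) (.leaf 10540)) (.node (.leaf 9557) (.leaf 0))) (.node (.node (.leaf 3529) (.leaf 0)) (.node (.leaf 1486) (.leaf 0)))) (.node (.node (.node (.leaf 9619) (.leaf 9381)) (.node (.leaf 8373) (.leaf 0))) (.node (.node (.leaf 12321) (.leaf 0)) (.node (.leaf 8997) (.leaf 0))))))) (.node (.node (.node (.node (.node (.node (.leaf 14102) (.leaf 19938)) (.node (.leaf 7303) (.leaf 0))) (.node (.node (.leaf 8946) (.leaf 0)) (.node (.leaf 1989) (.leaf 0)))) (.node (.node (.node (.leaf 11431) (.leaf 5888)) (.node (.leaf 7086) (.leaf 0))) (.node (.node (.leaf 16739) (.leaf 0)) (.node (.leaf 19628) (.leaf 0))))) (.node (.node (.node (.node (.leaf 19257) (.leaf 4274)) (.node (.leaf 17623) (.leaf 0))) (.node (.node (.leaf 12683) (.leaf 0)) (.node (.leaf 14139) (.leaf 0)))) (.node (.node (.node (.leaf 18232) (.leaf 9281)) (.node (.leaf 9283) (.leaf 0))) (.node (.node (.leaf 7725) (.leaf 0)) (.node (.leaf 9761) (.leaf 0))))))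 (.node (.node (.node (.node (.node (.leaf 6971) (.leaf 3366)) (.node (.leaf 18923) (.leaf 0))) (.node (.node (.leaf 8138) (.leaf 0)) (.node (.leaf 3537) (.leaf 0)))) (.node (.node (.node (.leaf 16538) (.leaf 625)) (.node (.leaf 14865) (.leaf 0))) (.node (.node (.leaf 14897) (.leaf 0)) (.node (.leaf 17035) (.leaf 0))))) (.node (.node (.node (.node (.leaf 8254) (.leaf 3091)) (.node (.leaf 3491) (.leaf 0))) (.node (.node (.leaf 9439) (.leaf 0)) (.node (.leaf 18731) (.leaf 0)))) (.node (.node (.node (.leaf 11262) (.leaf 16719)) (.node (.leaf 18970) (.leaf 0))) (.node (.node (.leaf 17211) (.leaf 0)) (.node (.leaf 3719) (.leaf 0)))))))) (.node (.node (.node (.node (.node (.node (.node (.leaf 17099) (.leaf 5367)) (.node (.leaf 16623) (.leaf 0))) (.node (.node (.leaf 18876) (.leaf 0)) (.node (.leaf 18071) (.leaf 0)))) (.node (.node (.node (.leaf 6731) (.leaf 10954)) (.node (.leaf 5800) (.leaf 0))) (.node (.node (.leaf 4328) (.leaf 0)) (.node (.leaf 2609) (.leaf 0))))) (.node (.node (.node (.node (.leaf 13220)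 (.leaf 15078)) (.node (.leaf 8292) (.leaf 0))) (.node (.node (.leaf 4518) (.leaf 0)) (.node (.leaf 1329) (.leaf 0)))) (.node (.node (.node (.leaf 15007) (.leaf 19484)) (.node (.leaf 5728) (.leaf 0))) (.node (.node (.leaf 17789) (.leaf 0)) (.node (.leaf 7709) (.leaf 0)))))) (.node (.node (.node (.node (.node (.leaf 13970) (.leaf 20329)) (.node (.leaf 18408) (.leaf 0))) (.node (.node (.leaf 4052) (.leaf 0)) (.node (.leaf 7364) (.leaf 0)))) (.node (.node (.node (.leaf 12711) (.leaf 11653)) (.node (.leaf 12552) (.leaf 0))) (.node (.node (.leaf 15650) (.leaf 0)) (.node (.leaf 20159) (.leaf 0))))) (.node (.node (.node (.node (.leaf 17785) (.leaf 10752)) (.node (.leaf 8545) (.leaf 0))) (.node (.node (.leaf 4212) (.leaf 0)) (.node (.leaf 14779) (.leaf 0)))) (.node (.node (.node (.leaf 10737) (.leaf 8828)) (.node (.leaf 3140) (.leaf 0))) (.node (.node (.leaf 9605) (.leaf 0)) (.node (.leaf 4696) (.leaf 0))))))) (.node (.node (.node (.node (.node (.node (.leaf 12247) (.leaf 6963)) (.node (.leaf 13514) (.leaf 0)))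 (.node (.node (.leaf 10721) (.leaf 0)) (.node (.leaf 8111) (.leaf 0)))) (.node (.node (.node (.leaf 1464) (.leaf 5857)) (.node (.leaf 55) (.leaf 0))) (.node (.node (.leaf 8367) (.leaf 0)) (.node (.leaf 16828) (.leaf 0))))) (.node (.node (.node (.node (.leaf 16905) (.leaf 2996)) (.node (.leaf 5440) (.leaf 0))) (.node (.node (.leaf 2012) (.leaf 0)) (.node (.leaf 4184) (.leaf 0)))) (.node (.node (.node (.leaf 11421) (.leaf 18309)) (.node (.leaf 11979) (.leaf 0))) (.node (.node (.leaf 1693) (.leaf 0)) (.node (.leaf 14751) (.leaf 0)))))) (.node (.node (.node (.node (.node (.leaf 6035) (.leaf 909)) (.node (.leaf 4141) (.leaf 0))) (.node (.node (.leaf 5615) (.leaf 0)) (.node (.leaf 18704) (.leaf 0)))) (.node (.node (.node (.leaf 5052) (.leaf 9504)) (.node (.leaf 236) (.leaf 0))) (.node (.node (.leaf 9676) (.leaf 0)) (.node (.leaf 5905) (.leaf 0))))) (.node (.node (.node (.node (.leaf 17540) (.leaf 20092)) (.node (.leaf 9345) (.leaf 0))) (.node (.node (.leaf 14567) (.leaf 0)) (.node (.leaf 7908) (.leaf 0)))) (.node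 (.node (.node (.leaf 5716) (.leaf 1598)) (.node (.leaf 12179) (.leaf 0))) (.node (.node (.leaf 11707) (.leaf 0)) (.node (.leaf 16503) (.leaf 0))))))))

def omT111 : NT := .node (.node (.node (.node (.node (.node (.node (.node (.leaf 12020) (.leaf 14683)) (.node (.leaf 7063) (.leaf 0))) (.node (.node (.leaf 5356) (.leaf 0)) (.node (.leaf 5022) (.leaf 0)))) (.node (.node (.node (.leaf 10504) (.leaf 7630)) (.node (.leaf 16827) (.leaf 0))) (.node (.node (.leaf 6261) (.leaf 0)) (.node (.leaf 11692) (.leaf 0))))) (.node (.node (.node (.node (.leaf 10694) (.leaf 13885)) (.node (.leaf 9183) (.leaf 0))) (.node (.node (.leaf 17221) (.leaf 0)) (.node (.leaf 349) (.leaf 0)))) (.node (.node (.node (.leaf 11232) (.leaf 622)) (.node (.leaf 16575) (.leaf 0))) (.node (.node (.leaf 18310) (.leaf 0)) (.node (.leaf 20488) (.leaf 0)))))) (.node (.node (.node (.node (.node (.leaf 10576) (.leaf 14367)) (.node (.leaf 291) (.leaf 0))) (.node (.node (.leaf 1635) (.leaf 0)) (.node (.leaf 1301) (.leaf 0)))) (.node (.node (.node (.leaf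 7932) (.leaf 13611)) (.node (.leaf 6163) (.leaf 0))) (.node (.node (.leaf 13685) (.leaf 0)) (.node (.leaf 3295) (.leaf 0))))) (.node (.node (.node (.node (.leaf 14284) (.leaf 1339)) (.node (.leaf 2318) (.leaf 0))) (.node (.node (.leaf 14188) (.leaf 0)) (.node (.leaf 3832) (.leaf 0)))) (.node (.node (.node (.leaf 10650) (.leaf 19304)) (.node (.leaf 8335) (.leaf 0))) (.node (.node (.leaf 10428) (.leaf 0)) (.node (.leaf 2587) (.leaf 0))))))) (.node (.node (.node (.node (.node (.node (.leaf 15379) (.leaf 5632)) (.node (.leaf 11163) (.leaf 0))) (.node (.node (.leaf 19186) (.leaf 0)) (.node (.leaf 5672) (.leaf 0)))) (.node (.node (.node (.leaf 10095) (.leaf 15724)) (.node (.leaf 13083) (.leaf 0))) (.node (.node (.leaf 9227) (.leaf 0)) (.node (.leaf 11290) (.leaf 0))))) (.node (.node (.node (.node (.leaf 14134) (.leaf 4496)) (.node (.leaf 1253) (.leaf 0))) (.node (.node (.leaf 2177) (.leaf 0)) (.node (.leaf 3350) (.leaf 0)))) (.node (.node (.node (.leaf 19888) (.leaf 644)) (.node (.leaf 13291) (.leaf 0))) (.node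 (.node (.leaf 9998) (.leaf 0)) (.node (.leaf 6933) (.leaf 0)))))) (.node (.node (.node (.node (.node (.leaf 6269) (.leaf 17790)) (.node (.leaf 12728) (.leaf 0))) (.node (.node (.leaf 5237) (.leaf 0)) (.node (.leaf 5272) (.leaf 0)))) (.node (.node (.node (.leaf 13042) (.leaf 14040)) (.node (.leaf 45) (.leaf 0))) (.node (.node (.leaf 10534) (.leaf 0)) (.node (.leaf 3919) (.leaf 0))))) (.node (.node (.node (.node (.leaf 13840) (.leaf 13985)) (.node (.leaf 12615) (.leaf 0))) (.node (.node (.leaf 5386) (.leaf 0)) (.node (.leaf 10152) (.leaf 0)))) (.node (.node (.node (.leaf 18190) (.leaf 994)) (.node (.leaf 1617) (.leaf 0))) (.node (.node (.leaf 219) (.leaf 0)) (.node (.leaf 5529) (.leaf 0)))))))) (.node (.node (.node (.node (.node (.node (.node (.leaf 16970) (.leaf 12395)) (.node (.leaf 11768) (.leaf 0))) (.node (.node (.leaf 19063) (.leaf 0)) (.node (.leaf 6092) (.leaf 0)))) (.node (.node (.node (.leaf 18425) (.leaf 8366)) (.node (.leaf 5173) (.leaf 0))) (.node (.node (.leaf 7733) (.leaf 0)) (.node (.leaf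 3822) (.leaf 0))))) (.node (.node (.node (.node (.leaf 4763) (.leaf 4653)) (.node (.leaf 4147) (.leaf 0))) (.node (.node (.leaf 136) (.leaf 0)) (.node (.leaf 14512) (.leaf 0)))) (.node (.node (.node (.leaf 17169) (.leaf 4741)) (.node (.leaf 14944) (.leaf 0))) (.node (.node (.leaf 8404) (.leaf 0)) (.node (.leaf 6281) (.leaf 0)))))) (.node (.node (.node (.node (.node (.leaf 5952) (.leaf 5428)) (.node (.leaf 9070) (.leaf 0))) (.node (.node (.leaf 16002) (.leaf 0)) (.node (.leaf 2838) (.leaf 0)))) (.node (.node (.node (.leaf 18115) (.leaf 2290)) (.node (.leaf 2905) (.leaf 0))) (.node (.node (.leaf 11412) (.leaf 0)) (.node (.leaf 18571) (.leaf 0))))) (.node (.node (.node (.node (.leaf 14135) (.leaf 2536)) (.node (.leaf 14110) (.leaf 0))) (.node (.node (.leaf 3594) (.leaf 0)) (.node (.leaf 13654) (.leaf 0)))) (.node (.node (.node (.leaf 1914) (.leaf 9893)) (.node (.leaf 17064) (.leaf 0))) (.node (.node (.leaf 8920) (.leaf 0)) (.node (.leaf 14819) (.leaf 0))))))) (.node (.node (.node (.node (.node (.node (.leaf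 8500) (.leaf 9943)) (.node (.leaf 16764) (.leaf 0))) (.node (.node (.leaf 11357) (.leaf 0)) (.node (.leaf 19882) (.leaf 0)))) (.node (.node (.node (.leaf 16231) (.leaf 20176)) (.node (.leaf 3909) (.leaf 0))) (.node (.node (.leaf 15307) (.leaf 0)) (.node (.leaf 16298) (.leaf 0))))) (.node (.node (.node (.node (.leaf 16244) (.leaf 3990)) (.node (.leaf 15430) (.leaf 0))) (.node (.node (.leaf 7532) (.leaf 0)) (.node (.leaf 17934) (.leaf 0)))) (.node (.node (.node (.leaf 5151) (.leaf 19829)) (.node (.leaf 3656) (.leaf 0))) (.node (.node (.leaf 3317) (.leaf 0)) (.node (.leaf 1038) (.leaf 0)))))) (.node (.node (.node (.node (.node (.leaf 5523) (.leaf 20126)) (.node (.leaf 18146) (.leaf 0))) (.node (.node (.leaf 18376) (.leaf 0)) (.node (.leaf 4862) (.leaf 0)))) (.node (.node (.node (.leaf 1723) (.leaf 17876)) (.node (.leaf 19404) (.leaf 0))) (.node (.node (.leaf 16201) (.leaf 0)) (.node (.leaf 18872) (.leaf 0))))) (.node (.node (.node (.node (.leaf 7373) (.leaf 5040)) (.node (.leaf 12403) (.leaf 0))) (.node (.node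 (.leaf 19838) (.leaf 0)) (.node (.leaf 2727) (.leaf 0)))) (.node (.node (.node (.leaf 914) (.leaf 16191)) (.node (.leaf 7313) (.leaf 0))) (.node (.node (.leaf 16641) (.leaf 0)) (.node (.leaf 10845) (.leaf 0))))))))

def omT112 : NT := .node (.node (.node (.node (.node (.node (.node (.node (.leaf 17971) (.leaf 8257)) (.node (.leaf 10854) (.leaf 0))) (.node (.node (.leaf 19110) (.leaf 0)) (.node (.leaf 6701) (.leaf 0)))) (.node (.node (.node (.leaf 14108) (.leaf 12084)) (.node (.leaf 3739) (.leaf 0))) (.node (.node (.leaf 15499) (.leaf 0)) (.node (.leaf 8462) (.leaf 0))))) (.node (.node (.node (.node (.leaf 2234) (.leaf 12605)) (.node (.leaf 13892) (.leaf 0))) (.node (.node (.leaf 19686) (.leaf 0)) (.node (.leaf 19207) (.leaf 0)))) (.node (.node (.node (.leaf 6233) (.leaf 19947)) (.node (.leaf 18804) (.leaf 0))) (.node (.node (.leaf 15895) (.leaf 0)) (.node (.leaf 178) (.leaf 0)))))) (.node (.node (.node (.node (.node (.leaf 10237) (.leaf 18654)) (.node (.leaf 5951) (.leaf 0))) (.node (.node (.leaf 11225)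 (.leaf 0)) (.node (.leaf 7767) (.leaf 0)))) (.node (.node (.node (.leaf 4697) (.leaf 6298)) (.node (.leaf 18764) (.leaf 0))) (.node (.node (.leaf 11027) (.leaf 0)) (.node (.leaf 1442) (.leaf 0))))) (.node (.node (.node (.node (.leaf 11322) (.leaf 5682)) (.node (.leaf 5544) (.leaf 0))) (.node (.node (.leaf 12915) (.leaf 0)) (.node (.leaf 2374) (.leaf 0)))) (.node (.node (.node (.leaf 791) (.leaf 1925)) (.node (.leaf 3000) (.leaf 0))) (.node (.node (.leaf 16267) (.leaf 0)) (.node (.leaf 7073) (.leaf 0))))))) (.node (.node (.node (.node (.node (.node (.leaf 18493) (.leaf 13174)) (.node (.leaf 18911) (.leaf 0))) (.node (.node (.leaf 12770) (.leaf 0)) (.node (.leaf 16874) (.leaf 0)))) (.node (.node (.node (.leaf 19504) (.leaf 17267)) (.node (.leaf 11960) (.leaf 0))) (.node (.node (.leaf 6746) (.leaf 0)) (.node (.leaf 1232) (.leaf 0))))) (.node (.node (.node (.node (.leaf 19934) (.leaf 7768)) (.node (.leaf 19249) (.leaf 0))) (.node (.node (.leaf 7420) (.leaf 0)) (.node (.leaf 5166) (.leaf 0)))) (.node (.node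 (.node (.leaf 478) (.leaf 2676)) (.node (.leaf 8331) (.leaf 0))) (.node (.node (.leaf 11536) (.leaf 0)) (.node (.leaf 5844) (.leaf 0)))))) (.node (.node (.node (.node (.node (.leaf 10777) (.leaf 7925)) (.node (.leaf 19970) (.leaf 0))) (.node (.node (.leaf 11649) (.leaf 0)) (.node (.leaf 3823) (.leaf 0)))) (.node (.node (.node (.leaf 19435) (.leaf 532)) (.node (.leaf 3513) (.leaf 0))) (.node (.node (.leaf 10544) (.leaf 0)) (.node (.leaf 8229) (.leaf 0))))) (.node (.node (.node (.node (.leaf 7035) (.leaf 18343)) (.node (.leaf 5309) (.leaf 0))) (.node (.node (.leaf 1851) (.leaf 0)) (.node (.leaf 9590) (.leaf 0)))) (.node (.node (.node (.leaf 18910) (.leaf 19729)) (.node (.leaf 565) (.leaf 0))) (.node (.node (.leaf 20062) (.leaf 0)) (.node (.leaf 5371) (.leaf 0)))))))) (.node (.node (.node (.node (.node (.node (.node (.leaf 14487) (.leaf 19567)) (.node (.leaf 4457) (.leaf 0))) (.node (.node (.leaf 16405) (.leaf 0)) (.node (.leaf 15420) (.leaf 0)))) (.node (.node (.node (.leaf 19730) (.leaf 9122)) (.node (.leaf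 10137) (.leaf 0))) (.node (.node (.leaf 7225) (.leaf 0)) (.node (.leaf 11904) (.leaf 0))))) (.node (.node (.node (.node (.leaf 10356) (.leaf 5449)) (.node (.leaf 9953) (.leaf 0))) (.node (.node (.leaf 12058) (.leaf 0)) (.node (.leaf 6300) (.leaf 0)))) (.node (.node (.node (.leaf 3489) (.leaf 6743)) (.node (.leaf 10229) (.leaf 0))) (.node (.node (.leaf 19430) (.leaf 0)) (.node (.leaf 3214) (.leaf 0)))))) (.node (.node (.node (.node (.node (.leaf 10579) (.leaf 221)) (.node (.leaf 10740) (.leaf 0))) (.node (.node (.leaf 8012) (.leaf 0)) (.node (.leaf 19812) (.leaf 0)))) (.node (.node (.node (.leaf 6989) (.leaf 17339)) (.node (.leaf 8562) (.leaf 0))) (.node (.node (.leaf 19529) (.leaf 0)) (.node (.leaf 12040) (.leaf 0))))) (.node (.node (.node (.node (.leaf 7211) (.leaf 9602)) (.node (.leaf 1875) (.leaf 0))) (.node (.node (.leaf 10710) (.leaf 0)) (.node (.leaf 9737) (.leaf 0)))) (.node (.node (.node (.leaf 1407) (.leaf 20390)) (.node (.leaf 16461) (.leaf 0))) (.node (.node (.leaf 4590) (.leaf 0)) (.node (.leaf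 6265) (.leaf 0))))))) (.node (.node (.node (.node (.node (.node (.leaf 15670) (.leaf 17680)) (.node (.leaf 17638) (.leaf 0))) (.node (.node (.leaf 14412) (.leaf 0)) (.node (.leaf 19702) (.leaf 0)))) (.node (.node (.node (.leaf 12930) (.leaf 1032)) (.node (.leaf 11840) (.leaf 0))) (.node (.node (.leaf 10154) (.leaf 0)) (.node (.leaf 531) (.leaf 0))))) (.node (.node (.node (.node (.leaf 19530) (.leaf 12484)) (.node (.leaf 4474) (.leaf 0))) (.node (.node (.leaf 10975) (.leaf 0)) (.node (.leaf 7349) (.leaf 0)))) (.node (.node (.node (.leaf 15744) (.leaf 6014)) (.node (.leaf 18051) (.leaf 0))) (.node (.node (.leaf 16089) (.leaf 0)) (.node (.leaf 12244) (.leaf 0)))))) (.node (.node (.node (.node (.node (.leaf 19018) (.leaf 12145)) (.node (.leaf 18001) (.leaf 0))) (.node (.node (.leaf 11136) (.leaf 0)) (.node (.leaf 6712) (.leaf 0)))) (.node (.node (.node (.leaf 17930) (.leaf 8862)) (.node (.leaf 7184) (.leaf 0))) (.node (.node (.leaf 9168) (.leaf 0)) (.node (.leaf 12743) (.leaf 0))))) (.node (.node (.node (.node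 (.leaf 15134) (.leaf 14709)) (.node (.leaf 7868) (.leaf 0))) (.node (.node (.leaf 3996) (.leaf 0)) (.node (.leaf 14718) (.leaf 0)))) (.node (.node (.node (.leaf 1647) (.leaf 920)) (.node (.leaf 17693) (.leaf 0))) (.node (.node (.leaf 17543) (.leaf 0)) (.node (.leaf 10766) (.leaf 0))))))))

def omT113 : NT := .node (.node (.node (.node (.node (.node (.node (.node (.leaf 11739) (.leaf 14519)) (.node (.leaf 13894) (.leaf 0))) (.node (.node (.leaf 19026) (.leaf 0)) (.node (.leaf 1819) (.leaf 0)))) (.node (.node (.node (.leaf 15826) (.leaf 1547)) (.node (.leaf 2608) (.leaf 0))) (.node (.node (.leaf 16274) (.leaf 0)) (.node (.leaf 11284) (.leaf 0))))) (.node (.node (.node (.node (.leaf 3206) (.leaf 8116)) (.node (.leaf 15240) (.leaf 0))) (.node (.node (.leaf 12767) (.leaf 0)) (.node (.leaf 15241) (.leaf 0)))) (.node (.node (.node (.leaf 1106) (.leaf 7111)) (.node (.leaf 16448) (.leaf 0))) (.node (.node (.leaf 6420) (.leaf 0)) (.node (.leaf 13096) (.leaf 0)))))) (.node (.node (.node (.node (.node (.leaf 19453)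 (.leaf 3232)) (.node (.leaf 14575) (.leaf 0))) (.node (.node (.leaf 6044) (.leaf 0)) (.node (.leaf 8269) (.leaf 0)))) (.node (.node (.node (.leaf 8599) (.leaf 5554)) (.node (.leaf 3717) (.leaf 0))) (.node (.node (.leaf 2286) (.leaf 0)) (.node (.leaf 431) (.leaf 0))))) (.node (.node (.node (.node (.leaf 18087) (.leaf 11949)) (.node (.leaf 18953) (.leaf 0))) (.node (.node (.leaf 13919) (.leaf 0)) (.node (.leaf 14680) (.leaf 0)))) (.node (.node (.node (.leaf 14793) (.leaf 19086)) (.node (.leaf 5009) (.leaf 0))) (.node (.node (.leaf 15488) (.leaf 0)) (.node (.leaf 10112) (.leaf 0))))))) (.node (.node (.node (.node (.node (.node (.leaf 12791) (.leaf 11560)) (.node (.leaf 4350) (.leaf 0))) (.node (.node (.leaf 823) (.leaf 0)) (.node (.leaf 16574) (.leaf 0)))) (.node (.node (.node (.leaf 10895) (.leaf 17742)) (.node (.leaf 12613) (.leaf 0))) (.node (.node (.leaf 3853) (.leaf 0)) (.node (.leaf 13603) (.leaf 0))))) (.node (.node (.node (.node (.leaf 11594) (.leaf 16653)) (.node (.leaf 1273) (.leaf 0))) (.node (.node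 (.leaf 12088) (.leaf 0)) (.node (.leaf 15331) (.leaf 0)))) (.node (.node (.node (.leaf 1405) (.leaf 12199)) (.node (.leaf 5461) (.leaf 0))) (.node (.node (.leaf 16167) (.leaf 0)) (.node (.leaf 3735) (.leaf 0)))))) (.node (.node (.node (.node (.node (.leaf 8612) (.leaf 19442)) (.node (.leaf 5039) (.leaf 0))) (.node (.node (.leaf 18866) (.leaf 0)) (.node (.leaf 11905) (.leaf 0)))) (.node (.node (.node (.leaf 18316) (.leaf 4461)) (.node (.leaf 6099) (.leaf 0))) (.node (.node (.leaf 18590) (.leaf 0)) (.node (.leaf 17145) (.leaf 0))))) (.node (.node (.node (.node (.leaf 19814) (.leaf 7246)) (.node (.leaf 11301) (.leaf 0))) (.node (.node (.leaf 5298) (.leaf 0)) (.node (.leaf 7565) (.leaf 0)))) (.node (.node (.node (.leaf 19130) (.leaf 9304)) (.node (.leaf 3597) (.leaf 0))) (.node (.node (.leaf 8170) (.leaf 0)) (.node (.leaf 1978) (.leaf 0)))))))) (.node (.node (.node (.node (.node (.node (.node (.leaf 20340) (.leaf 1784)) (.node (.leaf 14724) (.leaf 0))) (.node (.node (.leaf 476) (.leaf 0)) (.node (.leaf 7028)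 (.leaf 0)))) (.node (.node (.node (.leaf 4680) (.leaf 4173)) (.node (.leaf 5842) (.leaf 0))) (.node (.node (.leaf 17096) (.leaf 0)) (.node (.leaf 4756) (.leaf 0))))) (.node (.node (.node (.node (.leaf 10558) (.leaf 12037)) (.node (.leaf 16194) (.leaf 0))) (.node (.node (.leaf 19600) (.leaf 0)) (.node (.leaf 12344) (.leaf 0)))) (.node (.node (.node (.leaf 6472) (.leaf 15314)) (.node (.leaf 14500) (.leaf 0))) (.node (.node (.leaf 3734) (.leaf 0)) (.node (.leaf 15581) (.leaf 0)))))) (.node (.node (.node (.node (.node (.leaf 9456) (.leaf 18294)) (.node (.leaf 20475) (.leaf 0))) (.node (.node (.leaf 4310) (.leaf 0)) (.node (.leaf 10209) (.leaf 0)))) (.node (.node (.node (.leaf 16092) (.leaf 2601)) (.node (.leaf 3021) (.leaf 0))) (.node (.node (.leaf 11647) (.leaf 0)) (.node (.leaf 13351) (.leaf 0))))) (.node (.node (.node (.node (.leaf 7278) (.leaf 6403)) (.node (.leaf 2678) (.leaf 0))) (.node (.node (.leaf 5134) (.leaf 0)) (.node (.leaf 14981) (.leaf 0)))) (.node (.node (.node (.leaf 793) (.leaf 19867)) (.node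 (.leaf 17544) (.leaf 0))) (.node (.node (.leaf 14634) (.leaf 0)) (.node (.leaf 17945) (.leaf 0))))))) (.node (.node (.node (.node (.node (.node (.leaf 19350) (.leaf 16664)) (.node (.leaf 13320) (.leaf 0))) (.node (.node (.leaf 15938) (.leaf 0)) (.node (.leaf 946) (.leaf 0)))) (.node (.node (.node (.leaf 14950) (.leaf 11822)) (.node (.leaf 12028) (.leaf 0))) (.node (.node (.leaf 13076) (.leaf 0)) (.node (.leaf 11176) (.leaf 0))))) (.node (.node (.node (.node (.leaf 17258) (.leaf 10181)) (.node (.leaf 3757) (.leaf 0))) (.node (.node (.leaf 16991) (.leaf 0)) (.node (.leaf 4540) (.leaf 0)))) (.node (.node (.node (.leaf 16510) (.leaf 785)) (.node (.leaf 14144) (.leaf 0))) (.node (.node (.leaf 4542) (.leaf 0)) (.node (.leaf 7728) (.leaf 0)))))) (.node (.node (.node (.node (.node (.leaf 16277) (.leaf 10280)) (.node (.leaf 16554) (.leaf 0))) (.node (.node (.leaf 7638) (.leaf 0)) (.node (.leaf 9180) (.leaf 0)))) (.node (.node (.node (.leaf 897) (.leaf 9377)) (.node (.leaf 6929) (.leaf 0))) (.node (.node (.leaf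 7050) (.leaf 0)) (.node (.leaf 15998) (.leaf 0))))) (.node (.node (.node (.node (.leaf 15720) (.leaf 4262)) (.node (.leaf 11476) (.leaf 0))) (.node (.node (.leaf 13533) (.leaf 0)) (.node (.leaf 4537) (.leaf 0)))) (.node (.node (.node (.leaf 3461) (.leaf 18531)) (.node (.leaf 925) (.leaf 0))) (.node (.node (.leaf 15939) (.leaf 0)) (.node (.leaf 14112) (.leaf 0))))))))

def omT114 : NT := .node (.node (.node (.node (.node (.node (.node (.node (.leaf 5447) (.leaf 4338)) (.node (.leaf 11296) (.leaf 0))) (.node (.node (.leaf 5954) (.leaf 0)) (.node (.leaf 5808) (.leaf 0)))) (.node (.node (.node (.leaf 19978) (.leaf 18462)) (.node (.leaf 11336) (.leaf 0))) (.node (.node (.leaf 16286) (.leaf 0)) (.node (.leaf 14185) (.leaf 0))))) (.node (.node (.node (.node (.leaf 18292) (.leaf 7869)) (.node (.leaf 2454) (.leaf 0))) (.node (.node (.leaf 3796) (.leaf 0)) (.node (.leaf 15080) (.leaf 0)))) (.node (.node (.node (.leaf 2934) (.leaf 5540)) (.node (.leaf 2378) (.leaf 0))) (.node (.node (.leaf 7348) (.leaf 0)) (.node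 (.leaf 14785) (.leaf 0)))))) (.node (.node (.node (.node (.node (.leaf 2042) (.leaf 10347)) (.node (.leaf 20281) (.leaf 0))) (.node (.node (.leaf 3811) (.leaf 0)) (.node (.leaf 16976) (.leaf 0)))) (.node (.node (.node (.leaf 16694) (.leaf 4155)) (.node (.leaf 13421) (.leaf 0))) (.node (.node (.leaf 1451) (.leaf 0)) (.node (.leaf 5997) (.leaf 0))))) (.node (.node (.node (.node (.leaf 928) (.leaf 17106)) (.node (.leaf 11815) (.leaf 0))) (.node (.node (.leaf 2728) (.leaf 0)) (.node (.leaf 7435) (.leaf 0)))) (.node (.node (.node (.leaf 14924) (.leaf 17327)) (.node (.leaf 6135) (.leaf 0))) (.node (.node (.leaf 8130) (.leaf 0)) (.node (.leaf 14222) (.leaf 0))))))) (.node (.node (.node (.node (.node (.node (.leaf 20128) (.leaf 20336)) (.node (.leaf 17422) (.leaf 0))) (.node (.node (.leaf 5034) (.leaf 0)) (.node (.leaf 20069) (.leaf 0)))) (.node (.node (.node (.leaf 19232) (.leaf 14691)) (.node (.leaf 7441) (.leaf 0))) (.node (.node (.leaf 15255) (.leaf 0)) (.node (.leaf 3805) (.leaf 0))))) (.node (.node (.node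 (.node (.leaf 6903) (.leaf 2066)) (.node (.leaf 4361) (.leaf 0))) (.node (.node (.leaf 4460) (.leaf 0)) (.node (.leaf 15641) (.leaf 0)))) (.node (.node (.node (.leaf 4520) (.leaf 10292)) (.node (.leaf 5011) (.leaf 0))) (.node (.node (.leaf 17732) (.leaf 0)) (.node (.leaf 4997) (.leaf 0)))))) (.node (.node (.node (.node (.node (.leaf 15062) (.leaf 18212)) (.node (.leaf 19387) (.leaf 0))) (.node (.node (.leaf 3401) (.leaf 0)) (.node (.leaf 4158) (.leaf 0)))) (.node (.node (.node (.leaf 8423) (.leaf 14886)) (.node (.leaf 3281) (.leaf 0))) (.node (.node (.leaf 10455) (.leaf 0)) (.node (.leaf 16252) (.leaf 0))))) (.node (.node (.node (.node (.leaf 9838) (.leaf 5350)) (.node (.leaf 17275) (.leaf 0))) (.node (.node (.leaf 11097) (.leaf 0)) (.node (.leaf 13106) (.leaf 0)))) (.node (.node (.node (.leaf 13899) (.leaf 12216)) (.node (.leaf 9591) (.leaf 0))) (.node (.node (.leaf 18215) (.leaf 0)) (.node (.leaf 8338) (.leaf 0)))))))) (.node (.node (.node (.node (.node (.node (.node (.leaf 17312) (.leaf 3605)) (.node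 (.leaf 8948) (.leaf 0))) (.node (.node (.leaf 10800) (.leaf 0)) (.node (.leaf 6296) (.leaf 0)))) (.node (.node (.node (.leaf 19924) (.leaf 6614)) (.node (.leaf 15216) (.leaf 0))) (.node (.node (.leaf 12001) (.leaf 0)) (.node (.leaf 8289) (.leaf 0))))) (.node (.node (.node (.node (.leaf 15789) (.leaf 8624)) (.node (.leaf 19253) (.leaf 0))) (.node (.node (.leaf 3443) (.leaf 0)) (.node (.leaf 13990) (.leaf 0)))) (.node (.node (.node (.leaf 11988) (.leaf 10316)) (.node (.leaf 10860) (.leaf 0))) (.node (.node (.leaf 1118) (.leaf 0)) (.node (.leaf 18196) (.leaf 0)))))) (.node (.node (.node (.node (.node (.leaf 20252) (.leaf 17072)) (.node (.leaf 3007) (.leaf 0))) (.node (.node (.leaf 10649) (.leaf 0)) (.node (.leaf 19833) (.leaf 0)))) (.node (.node (.node (.leaf 886) (.leaf 5262)) (.node (.leaf 16729) (.leaf 0))) (.node (.node (.leaf 9519) (.leaf 0)) (.node (.leaf 11440) (.leaf 0))))) (.node (.node (.node (.node (.leaf 6000) (.leaf 5700)) (.node (.leaf 8971) (.leaf 0))) (.node (.node (.leaf 10629) (.leaf 0))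 (.node (.leaf 11023) (.leaf 0)))) (.node (.node (.node (.leaf 1383) (.leaf 844)) (.node (.leaf 18685) (.leaf 0))) (.node (.node (.leaf 3894) (.leaf 0)) (.node (.leaf 3390) (.leaf 0))))))) (.node (.node (.node (.node (.node (.node (.leaf 5186) (.leaf 14356)) (.node (.leaf 1355) (.leaf 0))) (.node (.node (.leaf 2076) (.leaf 0)) (.node (.leaf 4649) (.leaf 0)))) (.node (.node (.node (.leaf 4468) (.leaf 20072)) (.node (.leaf 2195) (.leaf 0))) (.node (.node (.leaf 9895) (.leaf 0)) (.node (.leaf 7683) (.leaf 0))))) (.node (.node (.node (.node (.leaf 11587) (.leaf 800)) (.node (.leaf 16316) (.leaf 0))) (.node (.node (.leaf 4057) (.leaf 0)) (.node (.leaf 19414) (.leaf 0)))) (.node (.node (.node (.leaf 18009) (.leaf 16302)) (.node (.leaf 9592) (.leaf 0))) (.node (.node (.leaf 7776) (.leaf 0)) (.node (.leaf 19842) (.leaf 0)))))) (.node (.node (.node (.node (.node (.leaf 13651) (.leaf 16315)) (.node (.leaf 2400) (.leaf 0))) (.node (.node (.leaf 19114) (.leaf 0)) (.node (.leaf 9682) (.leaf 0)))) (.node (.node (.node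 (.leaf 2172) (.leaf 655)) (.node (.leaf 16203) (.leaf 0))) (.node (.node (.leaf 3118) (.leaf 0)) (.node (.leaf 16954) (.leaf 0))))) (.node (.node (.node (.node (.leaf 19242) (.leaf 14285)) (.node (.leaf 10538) (.leaf 0))) (.node (.node (.leaf 17601) (.leaf 0)) (.node (.leaf 7884) (.leaf 0)))) (.node (.node (.node (.leaf 104) (.leaf 12952)) (.node (.leaf 5080) (.leaf 0))) (.node (.node (.leaf 14645) (.leaf 0)) (.node (.leaf 6881) (.leaf 0))))))))

def omT115 : NT := .node (.node (.node (.node (.node (.node (.node (.node (.leaf 15860) (.leaf 17022)) (.node (.leaf 15186) (.leaf 0))) (.node (.node (.leaf 17436) (.leaf 0)) (.node (.leaf 13199) (.leaf 0)))) (.node (.node (.node (.leaf 4578) (.leaf 3887)) (.node (.leaf 5727) (.leaf 0))) (.node (.node (.leaf 10589) (.leaf 0)) (.node (.leaf 1236) (.leaf 0))))) (.node (.node (.node (.node (.leaf 11214) (.leaf 10565)) (.node (.leaf 16206) (.leaf 0))) (.node (.node (.leaf 10898) (.leaf 0)) (.node (.leaf 498) (.leaf 0)))) (.node (.node (.node (.leaf 4811) (.leaf 18468))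 (.node (.leaf 11126) (.leaf 0))) (.node (.node (.leaf 6736) (.leaf 0)) (.node (.leaf 9780) (.leaf 0)))))) (.node (.node (.node (.node (.node (.leaf 4383) (.leaf 530)) (.node (.leaf 7396) (.leaf 0))) (.node (.node (.leaf 12262) (.leaf 0)) (.node (.leaf 7863) (.leaf 0)))) (.node (.node (.node (.leaf 11452) (.leaf 3749)) (.node (.leaf 11471) (.leaf 0))) (.node (.node (.leaf 18939) (.leaf 0)) (.node (.leaf 18261) (.leaf 0))))) (.node (.node (.node (.node (.leaf 12762) (.leaf 18377)) (.node (.leaf 15509) (.leaf 0))) (.node (.node (.leaf 16433) (.leaf 0)) (.node (.leaf 10702) (.leaf 0)))) (.node (.node (.node (.leaf 14900) (.leaf 5190)) (.node (.leaf 574) (.leaf 0))) (.node (.node (.leaf 12670) (.leaf 0)) (.node (.leaf 9859) (.leaf 0))))))) (.node (.node (.node (.node (.node (.node (.leaf 9266) (.leaf 8906)) (.node (.leaf 10691) (.leaf 0))) (.node (.node (.leaf 2145) (.leaf 0)) (.node (.leaf 5287) (.leaf 0)))) (.node (.node (.node (.leaf 7900) (.leaf 16936)) (.node (.leaf 14244) (.leaf 0))) (.node (.node (.leaf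 4963) (.leaf 0)) (.node (.leaf 10165) (.leaf 0))))) (.node (.node (.node (.node (.leaf 1358) (.leaf 250)) (.node (.leaf 10879) (.leaf 0))) (.node (.node (.leaf 5408) (.leaf 0)) (.node (.leaf 1390) (.leaf 0)))) (.node (.node (.node (.leaf 19181) (.leaf 5747)) (.node (.leaf 16579) (.leaf 0))) (.node (.node (.leaf 2409) (.leaf 0)) (.node (.leaf 766) (.leaf 0)))))) (.node (.node (.node (.node (.node (.leaf 4367) (.leaf 8747)) (.node (.leaf 16924) (.leaf 0))) (.node (.node (.leaf 1952) (.leaf 0)) (.node (.leaf 5669) (.leaf 0)))) (.node (.node (.node (.leaf 1686) (.leaf 3971)) (.node (.leaf 2532) (.leaf 0))) (.node (.node (.leaf 10830) (.leaf 0)) (.node (.leaf 19533) (.leaf 0))))) (.node (.node (.node (.node (.leaf 1753) (.leaf 6189)) (.node (.leaf 3338) (.leaf 0))) (.node (.node (.leaf 2342) (.leaf 0)) (.node (.leaf 7107) (.leaf 0)))) (.node (.node (.node (.leaf 6100) (.leaf 16868)) (.node (.leaf 1478) (.leaf 0))) (.node (.node (.leaf 19001) (.leaf 0)) (.node (.leaf 16984) (.leaf 0)))))))) (.node (.node (.node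 (.node (.node (.node (.node (.leaf 4699) (.leaf 195)) (.node (.leaf 20510) (.leaf 0))) (.node (.node (.leaf 8195) (.leaf 0)) (.node (.leaf 2332) (.leaf 0)))) (.node (.node (.node (.leaf 2816) (.leaf 6909)) (.node (.leaf 3098) (.leaf 0))) (.node (.node (.leaf 3947) (.leaf 0)) (.node (.leaf 15740) (.leaf 0))))) (.node (.node (.node (.node (.leaf 5499) (.leaf 17718)) (.node (.leaf 1074) (.leaf 0))) (.node (.node (.leaf 4197) (.leaf 0)) (.node (.leaf 15968) (.leaf 0)))) (.node (.node (.node (.leaf 7228) (.leaf 19763)) (.node (.leaf 18558) (.leaf 0))) (.node (.node (.leaf 11009) (.leaf 0)) (.node (.leaf 11162) (.leaf 0)))))) (.node (.node (.node (.node (.node (.leaf 3207) (.leaf 6998)) (.node (.leaf 2813) (.leaf 0))) (.node (.node (.leaf 11269) (.leaf 0)) (.node (.leaf 16811) (.leaf 0)))) (.node (.node (.node (.leaf 9091) (.leaf 355)) (.node (.leaf 3768) (.leaf 0))) (.node (.node (.leaf 16559) (.leaf 0)) (.node (.leaf 3571) (.leaf 0))))) (.node (.node (.node (.node (.leaf 7011) (.leaf 5820)) (.node (.leaf 6530)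 (.leaf 0))) (.node (.node (.leaf 1148) (.leaf 0)) (.node (.leaf 2922) (.leaf 0)))) (.node (.node (.node (.leaf 19517) (.leaf 12676)) (.node (.leaf 3510) (.leaf 0))) (.node (.node (.leaf 19) (.leaf 0)) (.node (.leaf 808) (.leaf 0))))))) (.node (.node (.node (.node (.node (.node (.leaf 11724) (.leaf 6026)) (.node (.leaf 10572) (.leaf 0))) (.node (.node (.leaf 11084) (.leaf 0)) (.node (.leaf 4215) (.leaf 0)))) (.node (.node (.node (.leaf 17635) (.leaf 9247)) (.node (.leaf 1285) (.leaf 0))) (.node (.node (.leaf 13329) (.leaf 0)) (.node (.leaf 19478) (.leaf 0))))) (.node (.node (.node (.node (.leaf 7365) (.leaf 338)) (.node (.leaf 19030) (.leaf 0))) (.node (.node (.leaf 18247) (.leaf 0)) (.node (.leaf 194) (.leaf 0)))) (.node (.node (.node (.leaf 13008) (.leaf 17355)) (.node (.leaf 16732) (.leaf 0))) (.node (.node (.leaf 19076) (.leaf 0)) (.node (.leaf 2896) (.leaf 0)))))) (.node (.node (.node (.node (.node (.leaf 18567) (.leaf 10836)) (.node (.leaf 17918) (.leaf 0))) (.node (.node (.leaf 15626) (.leaf 0))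 (.node (.leaf 19794) (.leaf 0)))) (.node (.node (.node (.leaf 20292) (.leaf 2590)) (.node (.leaf 546) (.leaf 0))) (.node (.node (.leaf 8207) (.leaf 0)) (.node (.leaf 5629) (.leaf 0))))) (.node (.node (.node (.node (.leaf 4284) (.leaf 3850)) (.node (.leaf 12677) (.leaf 0))) (.node (.node (.leaf 15278) (.leaf 0)) (.node (.leaf 15792) (.leaf 0)))) (.node (.node (.node (.leaf 4645) (.leaf 19787)) (.node (.leaf 14327) (.leaf 0))) (.node (.node (.leaf 12575) (.leaf 0)) (.node (.leaf 1671) (.leaf 0))))))))

def omT116 : NT := .node (.node (.node (.node (.node (.node (.node (.node (.leaf 15519) (.leaf 17562)) (.node (.leaf 7084) (.leaf 0))) (.node (.node (.leaf 13343) (.leaf 0)) (.node (.leaf 12085) (.leaf 0)))) (.node (.node (.node (.leaf 11750) (.leaf 8802)) (.node (.leaf 11344) (.leaf 0))) (.node (.node (.leaf 10254) (.leaf 0)) (.node (.leaf 18883) (.leaf 0))))) (.node (.node (.node (.node (.leaf 12155) (.leaf 5567)) (.node (.leaf 880) (.leaf 0))) (.node (.node (.leaf 4321) (.leaf 0)) (.node (.leaf 1675) (.leaf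 0)))) (.node (.node (.node (.leaf 9186) (.leaf 17603)) (.node (.leaf 19656) (.leaf 0))) (.node (.node (.leaf 11459) (.leaf 0)) (.node (.leaf 9401) (.leaf 0)))))) (.node (.node (.node (.node (.node (.leaf 14287) (.leaf 6941)) (.node (.leaf 7007) (.leaf 0))) (.node (.node (.leaf 11339) (.leaf 0)) (.node (.leaf 7994) (.leaf 0)))) (.node (.node (.node (.leaf 5916) (.leaf 1021)) (.node (.leaf 16015) (.leaf 0))) (.node (.node (.leaf 11608) (.leaf 0)) (.node (.leaf 17017) (.leaf 0))))) (.node (.node (.node (.node (.leaf 11062) (.leaf 8356)) (.node (.leaf 15651) (.leaf 0))) (.node (.node (.leaf 11307) (.leaf 0)) (.node (.leaf 17943) (.leaf 0)))) (.node (.node (.node (.leaf 3561) (.leaf 1599)) (.node (.leaf 16798) (.leaf 0))) (.node (.node (.leaf 14316) (.leaf 0)) (.node (.leaf 4119) (.leaf 0))))))) (.node (.node (.node (.node (.node (.node (.leaf 8807) (.leaf 3942)) (.node (.leaf 19116) (.leaf 0))) (.node (.node (.leaf 9740) (.leaf 0)) (.node (.leaf 8582) (.leaf 0)))) (.node (.node (.node (.leaf 14783) (.leaf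 2685)) (.node (.leaf 16934) (.leaf 0))) (.node (.node (.leaf 8813) (.leaf 0)) (.node (.leaf 7613) (.leaf 0))))) (.node (.node (.node (.node (.leaf 2497) (.leaf 10639)) (.node (.leaf 8317) (.leaf 0))) (.node (.node (.leaf 15602) (.leaf 0)) (.node (.leaf 11215) (.leaf 0)))) (.node (.node (.node (.leaf 4964) (.leaf 13742)) (.node (.leaf 10368) (.leaf 0))) (.node (.node (.leaf 3259) (.leaf 0)) (.node (.leaf 5574) (.leaf 0)))))) (.node (.node (.node (.node (.node (.leaf 16099) (.leaf 3764)) (.node (.leaf 14829) (.leaf 0))) (.node (.node (.leaf 11138) (.leaf 0)) (.node (.leaf 9641) (.leaf 0)))) (.node (.node (.node (.leaf 7922) (.leaf 8707)) (.node (.leaf 12794) (.leaf 0))) (.node (.node (.leaf 5823) (.leaf 0)) (.node (.leaf 1761) (.leaf 0))))) (.node (.node (.node (.node (.leaf 2705) (.leaf 15483)) (.node (.leaf 6546) (.leaf 0))) (.node (.node (.leaf 4484) (.leaf 0)) (.node (.leaf 940) (.leaf 0)))) (.node (.node (.node (.leaf 17895) (.leaf 6525)) (.node (.leaf 4807) (.leaf 0))) (.node (.node (.leaf 2383) (.leaf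 0)) (.node (.leaf 18990) (.leaf 0)))))))) (.node (.node (.node (.node (.node (.node (.node (.leaf 18254) (.leaf 13226)) (.node (.leaf 18578) (.leaf 0))) (.node (.node (.leaf 8597) (.leaf 0)) (.node (.leaf 2245) (.leaf 0)))) (.node (.node (.node (.leaf 9396) (.leaf 19468)) (.node (.leaf 11804) (.leaf 0))) (.node (.node (.leaf 15170) (.leaf 0)) (.node (.leaf 5930) (.leaf 0))))) (.node (.node (.node (.node (.leaf 8934) (.leaf 14401)) (.node (.leaf 5398) (.leaf 0))) (.node (.node (.leaf 8311) (.leaf 0)) (.node (.leaf 5582) (.leaf 0)))) (.node (.node (.node (.leaf 2366) (.leaf 5256)) (.node (.leaf 8859) (.leaf 0))) (.node (.node (.leaf 16371) (.leaf 0)) (.node (.leaf 1344) (.leaf 0)))))) (.node (.node (.node (.node (.node (.leaf 12349) (.leaf 14761)) (.node (.leaf 14636) (.leaf 0))) (.node (.node (.leaf 4327) (.leaf 0)) (.node (.leaf 18359) (.leaf 0)))) (.node (.node (.node (.leaf 6192) (.leaf 5060)) (.node (.leaf 3881) (.leaf 0))) (.node (.node (.leaf 9753) (.leaf 0)) (.node (.leaf 3146) (.leaf 0))))) (.node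 (.node (.node (.node (.leaf 4568) (.leaf 13703)) (.node (.leaf 8450) (.leaf 0))) (.node (.node (.leaf 13102) (.leaf 0)) (.node (.leaf 8860) (.leaf 0)))) (.node (.node (.node (.leaf 12870) (.leaf 1470)) (.node (.leaf 17599) (.leaf 0))) (.node (.node (.leaf 10505) (.leaf 0)) (.node (.leaf 18150) (.leaf 0))))))) (.node (.node (.node (.node (.node (.node (.leaf 15889) (.leaf 2048)) (.node (.leaf 13023) (.leaf 0))) (.node (.node (.leaf 19836) (.leaf 0)) (.node (.leaf 14695) (.leaf 0)))) (.node (.node (.node (.leaf 5976) (.leaf 5995)) (.node (.leaf 18718) (.leaf 0))) (.node (.node (.leaf 6153) (.leaf 0)) (.node (.leaf 4805) (.leaf 0))))) (.node (.node (.node (.node (.leaf 13969) (.leaf 595)) (.node (.leaf 16213) (.leaf 0))) (.node (.node (.leaf 17489) (.leaf 0)) (.node (.leaf 9117) (.leaf 0)))) (.node (.node (.node (.leaf 3523) (.leaf 7501)) (.node (.leaf 5361) (.leaf 0))) (.node (.node (.leaf 10627) (.leaf 0)) (.node (.leaf 7531) (.leaf 0)))))) (.node (.node (.node (.node (.node (.leaf 19769) (.leaf 5612))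 (.node (.leaf 9328) (.leaf 0))) (.node (.node (.leaf 19917) (.leaf 0)) (.node (.leaf 9327) (.leaf 0)))) (.node (.node (.node (.leaf 19976) (.leaf 3868)) (.node (.leaf 14908) (.leaf 0))) (.node (.node (.leaf 5771) (.leaf 0)) (.node (.leaf 18663) (.leaf 0))))) (.node (.node (.node (.node (.leaf 3260) (.leaf 116)) (.node (.leaf 2188) (.leaf 0))) (.node (.node (.leaf 4059) (.leaf 0)) (.node (.leaf 9075) (.leaf 0)))) (.node (.node (.node (.leaf 5404) (.leaf 9707)) (.node (.leaf 13286) (.leaf 0))) (.node (.node (.leaf 10175) (.leaf 0)) (.node (.leaf 7889) (.leaf 0))))))))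

def omT117 : NT := .node (.node (.node (.node (.node (.node (.node (.node (.leaf 5066) (.leaf 5271)) (.node (.leaf 14291) (.leaf 0))) (.node (.node (.leaf 1665) (.leaf 0)) (.node (.leaf 5640) (.leaf 0)))) (.node (.node (.node (.leaf 19036) (.leaf 10459)) (.node (.leaf 3187) (.leaf 0))) (.node (.node (.leaf 6431) (.leaf 0)) (.node (.leaf 8503) (.leaf 0))))) (.node (.node (.node (.node (.leaf 2663) (.leaf 6446)) (.node (.leaf 20322) (.leaf 0))) (.node (.node (.leaf 16585) (.leaf 0)) (.node (.leaf 14251) (.leaf 0)))) (.node (.node (.node (.leaf 2976) (.leaf 9131)) (.node (.leaf 1005) (.leaf 0))) (.node (.node (.leaf 16763) (.leaf 0)) (.node (.leaf 14970) (.leaf 0)))))) (.node (.node (.node (.node (.node (.leaf 14360) (.leaf 15032)) (.node (.leaf 13260) (.leaf 0))) (.node (.node (.leaf 2742) (.leaf 0)) (.node (.leaf 1587) (.leaf 0)))) (.node (.node (.node (.leaf 15846) (.leaf 1425)) (.node (.leaf 4612) (.leaf 0))) (.node (.node (.leaf 18015) (.leaf 0)) (.node (.leaf 10380) (.leaf 0))))) (.node (.node (.node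 (.node (.leaf 13740) (.leaf 12789)) (.node (.leaf 7893) (.leaf 0))) (.node (.node (.leaf 15755) (.leaf 0)) (.node (.leaf 156) (.leaf 0)))) (.node (.node (.node (.leaf 8279) (.leaf 13443)) (.node (.leaf 13926) (.leaf 0))) (.node (.node (.leaf 20473) (.leaf 0)) (.node (.leaf 15976) (.leaf 0))))))) (.node (.node (.node (.node (.node (.node (.leaf 14022) (.leaf 10290)) (.node (.leaf 11934) (.leaf 0))) (.node (.node (.leaf 10642) (.leaf 0)) (.node (.leaf 18385) (.leaf 0)))) (.node (.node (.node (.leaf 11237) (.leaf 17880)) (.node (.leaf 3962) (.leaf 0))) (.node (.node (.leaf 12014) (.leaf 0)) (.node (.leaf 107) (.leaf 0))))) (.node (.node (.node (.node (.leaf 11022) (.leaf 8106)) (.node (.leaf 5885) (.leaf 0))) (.node (.node (.leaf 10748) (.leaf 0)) (.node (.leaf 12311) (.leaf 0)))) (.node (.node (.node (.leaf 11331) (.leaf 7272)) (.node (.leaf 14758) (.leaf 0))) (.node (.node (.leaf 4974) (.leaf 0)) (.node (.leaf 2171) (.leaf 0)))))) (.node (.node (.node (.node (.node (.leaf 5178) (.leaf 9202)) (.node (.leaf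 841) (.leaf 0))) (.node (.node (.leaf 17714) (.leaf 0)) (.node (.leaf 1325) (.leaf 0)))) (.node (.node (.node (.leaf 18387) (.leaf 6576)) (.node (.leaf 514) (.leaf 0))) (.node (.node (.leaf 18152) (.leaf 0)) (.node (.leaf 358) (.leaf 0))))) (.node (.node (.node (.node (.leaf 12833) (.leaf 12440)) (.node (.leaf 16938) (.leaf 0))) (.node (.node (.leaf 13597) (.leaf 0)) (.node (.leaf 7081) (.leaf 0)))) (.node (.node (.node (.leaf 3993) (.leaf 6961)) (.node (.leaf 5660) (.leaf 0))) (.node (.node (.leaf 9466) (.leaf 0)) (.node (.leaf 7517) (.leaf 0)))))))) (.node (.node (.node (.node (.node (.node (.node (.leaf 19588) (.leaf 19490)) (.node (.leaf 10842) (.leaf 0))) (.node (.node (.leaf 2633) (.leaf 0)) (.node (.leaf 9977) (.leaf 0)))) (.node (.node (.node (.leaf 17967) (.leaf 4058)) (.node (.leaf 12686) (.leaf 0))) (.node (.node (.leaf 5552) (.leaf 0)) (.node (.leaf 2325) (.leaf 0))))) (.node (.node (.node (.node (.leaf 4725) (.leaf 19691)) (.node (.leaf 13219) (.leaf 0))) (.node (.node (.leaf 3566) (.leaf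 0)) (.node (.leaf 15395) (.leaf 0)))) (.node (.node (.node (.leaf 4789) (.leaf 10402)) (.node (.leaf 16541) (.leaf 0))) (.node (.node (.leaf 4503) (.leaf 0)) (.node (.leaf 15845) (.leaf 0)))))) (.node (.node (.node (.node (.node (.leaf 19223) (.leaf 19456)) (.node (.leaf 1459) (.leaf 0))) (.node (.node (.leaf 10666) (.leaf 0)) (.node (.leaf 9112) (.leaf 0)))) (.node (.node (.node (.leaf 6427) (.leaf 2423)) (.node (.leaf 4857) (.leaf 0))) (.node (.node (.leaf 13884) (.leaf 0)) (.node (.leaf 3095) (.leaf 0))))) (.node (.node (.node (.node (.leaf 3171) (.leaf 10223)) (.node (.leaf 12955) (.leaf 0))) (.node (.node (.leaf 19904) (.leaf 0)) (.node (.leaf 13999) (.leaf 0)))) (.node (.node (.node (.leaf 10117) (.leaf 16892)) (.node (.leaf 9460) (.leaf 0))) (.node (.node (.leaf 9129) (.leaf 0)) (.node (.leaf 2880) (.leaf 0))))))) (.node (.node (.node (.node (.node (.node (.leaf 15914) (.leaf 12529)) (.node (.leaf 3641) (.leaf 0))) (.node (.node (.leaf 638) (.leaf 0)) (.node (.leaf 6104) (.leaf 0)))) (.node (.node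 (.node (.leaf 5194) (.leaf 4007)) (.node (.leaf 9179) (.leaf 0))) (.node (.node (.leaf 14572) (.leaf 0)) (.node (.leaf 5698) (.leaf 0))))) (.node (.node (.node (.node (.leaf 1618) (.leaf 4816)) (.node (.leaf 7429) (.leaf 0))) (.node (.node (.leaf 2055) (.leaf 0)) (.node (.leaf 9648) (.leaf 0)))) (.node (.node (.node (.leaf 5659) (.leaf 5936)) (.node (.leaf 8824) (.leaf 0))) (.node (.node (.leaf 12010) (.leaf 0)) (.node (.leaf 5372) (.leaf 0)))))) (.node (.node (.node (.node (.node (.leaf 3346) (.leaf 19216)) (.node (.leaf 15300) (.leaf 0))) (.node (.node (.leaf 7503) (.leaf 0)) (.node (.leaf 11165) (.leaf 0)))) (.node (.node (.node (.leaf 4408) (.leaf 14589)) (.node (.leaf 1415) (.leaf 0))) (.node (.node (.leaf 19120) (.leaf 0)) (.node (.leaf 5768) (.leaf 0))))) (.node (.node (.node (.node (.leaf 5481) (.leaf 9347)) (.node (.leaf 19178) (.leaf 0))) (.node (.node (.leaf 11418) (.leaf 0)) (.node (.leaf 2473) (.leaf 0)))) (.node (.node (.node (.leaf 8800) (.leaf 2210)) (.node (.leaf 7122) (.leaf 0))) (.node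 (.node (.leaf 12599) (.leaf 0)) (.node (.leaf 11884) (.leaf 0))))))))

def omT118 : NT := .node (.node (.node (.node (.node (.node (.node (.node (.leaf 15692) (.leaf 9173)) (.node (.leaf 5649) (.leaf 0))) (.node (.node (.leaf 13960) (.leaf 0)) (.node (.leaf 19009) (.leaf 0)))) (.node (.node (.node (.leaf 4419) (.leaf 588)) (.node (.leaf 18456) (.leaf 0))) (.node (.node (.leaf 6107) (.leaf 0)) (.node (.leaf 3158) (.leaf 0))))) (.node (.node (.node (.node (.leaf 19883) (.leaf 20253)) (.node (.leaf 15999) (.leaf 0))) (.node (.node (.leaf 12643) (.leaf 0)) (.node (.leaf 4128) (.leaf 0)))) (.node (.node (.node (.leaf 18022) (.leaf 10262)) (.node (.leaf 13430) (.leaf 0))) (.node (.node (.leaf 6175) (.leaf 0)) (.node (.leaf 16229) (.leaf 0)))))) (.node (.node (.node (.node (.node (.leaf 1029) (.leaf 3492)) (.node (.leaf 18120) (.leaf 0))) (.node (.node (.leaf 14466) (.leaf 0)) (.node (.leaf 5317) (.leaf 0)))) (.node (.node (.node (.leaf 19185) (.leaf 9469)) (.node (.leaf 5873) (.leaf 0))) (.node (.node (.leaf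 9975) (.leaf 0)) (.node (.leaf 3878) (.leaf 0))))) (.node (.node (.node (.node (.leaf 11012) (.leaf 7342)) (.node (.leaf 7089) (.leaf 0))) (.node (.node (.leaf 15150) (.leaf 0)) (.node (.leaf 18601) (.leaf 0)))) (.node (.node (.node (.leaf 3780) (.leaf 5497)) (.node (.leaf 11643) (.leaf 0))) (.node (.node (.leaf 18783) (.leaf 0)) (.node (.leaf 10065) (.leaf 0))))))) (.node (.node (.node (.node (.node (.node (.leaf 12427) (.leaf 4821)) (.node (.leaf 8132) (.leaf 0))) (.node (.node (.leaf 6439) (.leaf 0)) (.node (.leaf 13843) (.leaf 0)))) (.node (.node (.node (.leaf 110) (.leaf 19594)) (.node (.leaf 17117) (.leaf 0))) (.node (.node (.leaf 3261) (.leaf 0)) (.node (.leaf 19286) (.leaf 0))))) (.node (.node (.node (.node (.leaf 15375) (.leaf 1196)) (.node (.leaf 2849) (.leaf 0))) (.node (.node (.leaf 20211) (.leaf 0)) (.node (.leaf 8494) (.leaf 0)))) (.node (.node (.node (.leaf 7651) (.leaf 4476)) (.node (.leaf 688) (.leaf 0))) (.node (.node (.leaf 12234) (.leaf 0)) (.node (.leaf 14614) (.leaf 0)))))) (.node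 (.node (.node (.node (.node (.leaf 7523) (.leaf 18109)) (.node (.leaf 5832) (.leaf 0))) (.node (.node (.leaf 18480) (.leaf 0)) (.node (.leaf 6246) (.leaf 0)))) (.node (.node (.node (.leaf 2591) (.leaf 7803)) (.node (.leaf 13020) (.leaf 0))) (.node (.node (.leaf 9608) (.leaf 0)) (.node (.leaf 17159) (.leaf 0))))) (.node (.node (.node (.node (.leaf 18112) (.leaf 322)) (.node (.leaf 8547) (.leaf 0))) (.node (.node (.leaf 13634) (.leaf 0)) (.node (.leaf 1258) (.leaf 0)))) (.node (.node (.node (.leaf 18507) (.leaf 8879)) (.node (.leaf 14350) (.leaf 0))) (.node (.node (.leaf 11782) (.leaf 0)) (.node (.leaf 1000) (.leaf 0)))))))) (.node (.node (.node (.node (.node (.node (.node (.leaf 12745) (.leaf 3716)) (.node (.leaf 20458) (.leaf 0))) (.node (.node (.leaf 359) (.leaf 0)) (.node (.leaf 7078) (.leaf 0)))) (.node (.node (.node (.leaf 11511) (.leaf 2921)) (.node (.leaf 17331) (.leaf 0))) (.node (.node (.leaf 14016) (.leaf 0)) (.node (.leaf 17396) (.leaf 0))))) (.node (.node (.node (.node (.leaf 7805) (.leaf 9066))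 (.node (.leaf 19871) (.leaf 0))) (.node (.node (.leaf 6511) (.leaf 0)) (.node (.leaf 17380) (.leaf 0)))) (.node (.node (.node (.leaf 4045) (.leaf 8508)) (.node (.leaf 5485) (.leaf 0))) (.node (.node (.leaf 9681) (.leaf 0)) (.node (.leaf 14330) (.leaf 0)))))) (.node (.node (.node (.node (.node (.leaf 3793) (.leaf 13489)) (.node (.leaf 6342) (.leaf 0))) (.node (.node (.leaf 8688) (.leaf 0)) (.node (.leaf 2933) (.leaf 0)))) (.node (.node (.node (.leaf 9330) (.leaf 15157)) (.node (.leaf 13004) (.leaf 0))) (.node (.node (.leaf 3498) (.leaf 0)) (.node (.leaf 6148) (.leaf 0))))) (.node (.node (.node (.node (.leaf 14451) (.leaf 2084)) (.node (.leaf 4875) (.leaf 0))) (.node (.node (.leaf 8510) (.leaf 0)) (.node (.leaf 14879) (.leaf 0)))) (.node (.node (.node (.leaf 9637) (.leaf 18123)) (.node (.leaf 19809) (.leaf 0))) (.node (.node (.leaf 14794) (.leaf 0)) (.node (.leaf 18089) (.leaf 0))))))) (.node (.node (.node (.node (.node (.node (.leaf 12516) (.leaf 1776)) (.node (.leaf 2586) (.leaf 0))) (.node (.node (.leaf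 12032) (.leaf 0)) (.node (.leaf 3570) (.leaf 0)))) (.node (.node (.node (.leaf 8693) (.leaf 20041)) (.node (.leaf 6257) (.leaf 0))) (.node (.node (.leaf 959) (.leaf 0)) (.node (.leaf 8211) (.leaf 0))))) (.node (.node (.node (.node (.leaf 695) (.leaf 10376)) (.node (.leaf 3889) (.leaf 0))) (.node (.node (.leaf 2997) (.leaf 0)) (.node (.leaf 4019) (.leaf 0)))) (.node (.node (.node (.leaf 11441) (.leaf 12174)) (.node (.leaf 3408) (.leaf 0))) (.node (.node (.leaf 8677) (.leaf 0)) (.node (.leaf 1717) (.leaf 0)))))) (.node (.node (.node (.node (.node (.leaf 12213) (.leaf 5439)) (.node (.leaf 13375) (.leaf 0))) (.node (.node (.leaf 17330) (.leaf 0)) (.node (.leaf 16107) (.leaf 0)))) (.node (.node (.node (.leaf 5536) (.leaf 19024)) (.node (.leaf 17805) (.leaf 0))) (.node (.node (.leaf 9258) (.leaf 0)) (.node (.leaf 509) (.leaf 0))))) (.node (.node (.node (.node (.leaf 5375) (.leaf 3169)) (.node (.leaf 17582) (.leaf 0))) (.node (.node (.leaf 14296) (.leaf 0)) (.node (.leaf 13287) (.leaf 0)))) (.node (.node (.node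 (.leaf 8669) (.leaf 14434)) (.node (.leaf 983) (.leaf 0))) (.node (.node (.leaf 18550) (.leaf 0)) (.node (.leaf 12140) (.leaf 0))))))))

def omT119 : NT := .node (.node (.node (.node (.node (.node (.node (.node (.leaf 4144) (.leaf 11245)) (.node (.leaf 6259) (.leaf 0))) (.node (.node (.leaf 1365) (.leaf 0)) (.node (.leaf 6033) (.leaf 0)))) (.node (.node (.node (.leaf 7343) (.leaf 4048)) (.node (.leaf 15945) (.leaf 0))) (.node (.node (.leaf 1088) (.leaf 0)) (.node (.leaf 16793) (.leaf 0))))) (.node (.node (.node (.node (.leaf 8489) (.leaf 12294)) (.node (.leaf 14233) (.leaf 0))) (.node (.node (.leaf 19657) (.leaf 0)) (.node (.leaf 11479) (.leaf 0)))) (.node (.node (.node (.leaf 10128) (.leaf 18698)) (.node (.leaf 12153) (.leaf 0))) (.node (.node (.leaf 15825) (.leaf 0)) (.node (.leaf 14369) (.leaf 0)))))) (.node (.node (.node (.node (.node (.leaf 13222) (.leaf 15126)) (.node (.leaf 9335) (.leaf 0))) (.node (.node (.leaf 13368) (.leaf 0)) (.node (.leaf 20001) (.leaf 0)))) (.node (.node (.node (.leaf 2844)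 (.leaf 14215)) (.node (.leaf 2088) (.leaf 0))) (.node (.node (.leaf 6537) (.leaf 0)) (.node (.leaf 7426) (.leaf 0))))) (.node (.node (.node (.node (.leaf 11802) (.leaf 15879)) (.node (.leaf 13856) (.leaf 0))) (.node (.node (.leaf 4681) (.leaf 0)) (.node (.leaf 3611) (.leaf 0)))) (.node (.node (.node (.leaf 7457) (.leaf 166)) (.node (.leaf 2862) (.leaf 0))) (.node (.node (.leaf 2977) (.leaf 0)) (.node (.leaf 14828) (.leaf 0))))))) (.node (.node (.node (.node (.node (.node (.leaf 3479) (.leaf 15019)) (.node (.leaf 4495) (.leaf 0))) (.node (.node (.leaf 15172) (.leaf 0)) (.node (.leaf 2413) (.leaf 0)))) (.node (.node (.node (.leaf 11837) (.leaf 18867)) (.node (.leaf 13889) (.leaf 0))) (.node (.node (.leaf 4469) (.leaf 0)) (.node (.leaf 3848) (.leaf 0))))) (.node (.node (.node (.node (.leaf 8919) (.leaf 4397)) (.node (.leaf 10044) (.leaf 0))) (.node (.node (.leaf 9212) (.leaf 0)) (.node (.leaf 12665) (.leaf 0)))) (.node (.node (.node (.leaf 10584) (.leaf 8382)) (.node (.leaf 16020) (.leaf 0))) (.node (.node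 (.leaf 9273) (.leaf 0)) (.node (.leaf 9030) (.leaf 0)))))) (.node (.node (.node (.node (.node (.leaf 11423) (.leaf 9933)) (.node (.leaf 5184) (.leaf 0))) (.node (.node (.leaf 6082) (.leaf 0)) (.node (.leaf 14008) (.leaf 0)))) (.node (.node (.node (.leaf 7024) (.leaf 6019)) (.node (.leaf 5754) (.leaf 0))) (.node (.node (.leaf 8998) (.leaf 0)) (.node (.leaf 7764) (.leaf 0))))) (.node (.node (.node (.node (.leaf 17944) (.leaf 9195)) (.node (.leaf 7417) (.leaf 0))) (.node (.node (.leaf 13628) (.leaf 0)) (.node (.leaf 10460) (.leaf 0)))) (.node (.node (.node (.leaf 17127) (.leaf 6406)) (.node (.leaf 9278) (.leaf 0))) (.node (.node (.leaf 13198) (.leaf 0)) (.node (.leaf 8996) (.leaf 0)))))))) (.node (.node (.node (.node (.node (.node (.node (.leaf 6763) (.leaf 15380)) (.node (.leaf 8711) (.leaf 0))) (.node (.node (.leaf 17859) (.leaf 0)) (.node (.leaf 18081) (.leaf 0)))) (.node (.node (.node (.leaf 5294) (.leaf 6416)) (.node (.leaf 8981) (.leaf 0))) (.node (.node (.leaf 2047) (.leaf 0)) (.node (.leaf 17923)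 (.leaf 0))))) (.node (.node (.node (.node (.leaf 13568) (.leaf 4090)) (.node (.leaf 11150) (.leaf 0))) (.node (.node (.leaf 19417) (.leaf 0)) (.node (.leaf 18628) (.leaf 0)))) (.node (.node (.node (.leaf 9642) (.leaf 5036)) (.node (.leaf 7774) (.leaf 0))) (.node (.node (.leaf 1860) (.leaf 0)) (.node (.leaf 8046) (.leaf 0)))))) (.node (.node (.node (.node (.node (.leaf 11200) (.leaf 10615)) (.node (.leaf 12024) (.leaf 0))) (.node (.node (.leaf 938) (.leaf 0)) (.node (.leaf 4530) (.leaf 0)))) (.node (.node (.node (.leaf 13924) (.leaf 14532)) (.node (.leaf 7604) (.leaf 0))) (.node (.node (.leaf 9670) (.leaf 0)) (.node (.leaf 13407) (.leaf 0))))) (.node (.node (.node (.node (.leaf 19362) (.leaf 16720)) (.node (.leaf 1967) (.leaf 0))) (.node (.node (.leaf 3653) (.leaf 0)) (.node (.leaf 16916) (.leaf 0)))) (.node (.node (.node (.leaf 1546) (.leaf 4046)) (.node (.leaf 14174) (.leaf 0))) (.node (.node (.leaf 2129) (.leaf 0)) (.node (.leaf 15922) (.leaf 0))))))) (.node (.node (.node (.node (.node (.node (.leaf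 8646) (.leaf 4719)) (.node (.leaf 14010) (.leaf 0))) (.node (.node (.leaf 79) (.leaf 0)) (.node (.leaf 1569) (.leaf 0)))) (.node (.node (.node (.leaf 5692) (.leaf 6905)) (.node (.leaf 7848) (.leaf 0))) (.node (.node (.leaf 8050) (.leaf 0)) (.node (.leaf 2246) (.leaf 0))))) (.node (.node (.node (.node (.leaf 12666) (.leaf 15830)) (.node (.leaf 9498) (.leaf 0))) (.node (.node (.leaf 16948) (.leaf 0)) (.node (.leaf 18421) (.leaf 0)))) (.node (.node (.node (.leaf 5296) (.leaf 16577)) (.node (.leaf 18848) (.leaf 0))) (.node (.node (.leaf 17042) (.leaf 0)) (.node (.leaf 3746) (.leaf 0)))))) (.node (.node (.node (.node (.node (.leaf 13942) (.leaf 17825)) (.node (.leaf 4780) (.leaf 0))) (.node (.node (.leaf 18251) (.leaf 0)) (.node (.leaf 18433) (.leaf 0)))) (.node (.node (.node (.leaf 13137) (.leaf 19749)) (.node (.leaf 18379) (.leaf 0))) (.node (.node (.leaf 6661) (.leaf 0)) (.node (.leaf 859) (.leaf 0))))) (.node (.node (.node (.node (.leaf 15415) (.leaf 15120)) (.node (.leaf 2481) (.leaf 0))) (.node (.node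 (.leaf 14176) (.leaf 0)) (.node (.leaf 630) (.leaf 0)))) (.node (.node (.node (.leaf 864) (.leaf 10129)) (.node (.leaf 10956) (.leaf 0))) (.node (.node (.leaf 14538) (.leaf 0)) (.node (.leaf 8700) (.leaf 0))))))))

def omT120 : NT := .node (.node (.node (.node (.node (.node (.node (.node (.leaf 2715) (.leaf 12917)) (.node (.leaf 3963) (.leaf 0))) (.node (.node (.leaf 16778) (.leaf 0)) (.node (.leaf 18270) (.leaf 0)))) (.node (.node (.node (.leaf 6177) (.leaf 2952)) (.node (.leaf 1063) (.leaf 0))) (.node (.node (.leaf 13319) (.leaf 0)) (.node (.leaf 479) (.leaf 0))))) (.node (.node (.node (.node (.leaf 1518) (.leaf 19625)) (.node (.leaf 4531) (.leaf 0))) (.node (.node (.leaf 3381) (.leaf 0)) (.node (.leaf 1019) (.leaf 0)))) (.node (.node (.node (.leaf 6282) (.leaf 5852)) (.node (.leaf 17067) (.leaf 0))) (.node (.node (.leaf 2488) (.leaf 0)) (.node (.leaf 7331) (.leaf 0)))))) (.node (.node (.node (.node (.node (.leaf 6029) (.leaf 8186)) (.node (.leaf 1842) (.leaf 0))) (.node (.node (.leaf 7536) (.leaf 0))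 (.node (.leaf 12340) (.leaf 0)))) (.node (.node (.node (.leaf 14739) (.leaf 9026)) (.node (.leaf 6328) (.leaf 0))) (.node (.node (.leaf 8282) (.leaf 0)) (.node (.leaf 6815) (.leaf 0))))) (.node (.node (.node (.node (.leaf 19621) (.leaf 12192)) (.node (.leaf 7092) (.leaf 0))) (.node (.node (.leaf 20260) (.leaf 0)) (.node (.leaf 11160) (.leaf 0)))) (.node (.node (.node (.leaf 18420) (.leaf 19862)) (.node (.leaf 15579) (.leaf 0))) (.node (.node (.leaf 13389) (.leaf 0)) (.node (.leaf 5621) (.leaf 0))))))) (.node (.node (.node (.node (.node (.node (.leaf 2702) (.leaf 860)) (.node (.leaf 3505) (.leaf 0))) (.node (.node (.leaf 17647) (.leaf 0)) (.node (.leaf 7394) (.leaf 0)))) (.node (.node (.node (.leaf 16182) (.leaf 8675)) (.node (.leaf 18424) (.leaf 0))) (.node (.node (.leaf 1202) (.leaf 0)) (.node (.leaf 5826) (.leaf 0))))) (.node (.node (.node (.node (.leaf 8156) (.leaf 8963)) (.node (.leaf 5098) (.leaf 0))) (.node (.node (.leaf 12754) (.leaf 0)) (.node (.leaf 6217) (.leaf 0)))) (.node (.node (.node (.leaf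 19843) (.leaf 1447)) (.node (.leaf 8472) (.leaf 0))) (.node (.node (.leaf 19445) (.leaf 0)) (.node (.leaf 9113) (.leaf 0)))))) (.node (.node (.node (.node (.node (.leaf 19928) (.leaf 1604)) (.node (.leaf 3738) (.leaf 0))) (.node (.node (.leaf 12005) (.leaf 0)) (.node (.leaf 2611) (.leaf 0)))) (.node (.node (.node (.leaf 20021) (.leaf 9443)) (.node (.leaf 6861) (.leaf 0))) (.node (.node (.leaf 868) (.leaf 0)) (.node (.leaf 17989) (.leaf 0))))) (.node (.node (.node (.node (.leaf 10520) (.leaf 5423)) (.node (.leaf 13808) (.leaf 0))) (.node (.node (.leaf 15005) (.leaf 0)) (.node (.leaf 6600) (.leaf 0)))) (.node (.node (.node (.leaf 4613) (.leaf 18851)) (.node (.leaf 19157) (.leaf 0))) (.node (.node (.leaf 10014) (.leaf 0)) (.node (.leaf 5368) (.leaf 0)))))))) (.node (.node (.node (.node (.node (.node (.node (.leaf 13722) (.leaf 6195)) (.node (.leaf 11573) (.leaf 0))) (.node (.node (.leaf 13601) (.leaf 0)) (.node (.leaf 13483) (.leaf 0)))) (.node (.node (.node (.leaf 11293) (.leaf 10524)) (.node (.leaf 17948)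 (.leaf 0))) (.node (.node (.leaf 17200) (.leaf 0)) (.node (.leaf 13916) (.leaf 0))))) (.node (.node (.node (.node (.leaf 10669) (.leaf 14005)) (.node (.leaf 8039) (.leaf 0))) (.node (.node (.leaf 19668) (.leaf 0)) (.node (.leaf 2907) (.leaf 0)))) (.node (.node (.node (.leaf 19973) (.leaf 16589)) (.node (.leaf 5641) (.leaf 0))) (.node (.node (.leaf 1652) (.leaf 0)) (.node (.leaf 6276) (.leaf 0)))))) (.node (.node (.node (.node (.node (.leaf 14172) (.leaf 19263)) (.node (.leaf 13064) (.leaf 0))) (.node (.node (.leaf 3791) (.leaf 0)) (.node (.leaf 297) (.leaf 0)))) (.node (.node (.node (.leaf 15599) (.leaf 13412)) (.node (.leaf 5617) (.leaf 0))) (.node (.node (.leaf 14558) (.leaf 0)) (.node (.leaf 6557) (.leaf 0))))) (.node (.node (.node (.node (.leaf 3965) (.leaf 10120)) (.node (.leaf 19956) (.leaf 0))) (.node (.node (.leaf 14162) (.leaf 0)) (.node (.leaf 13043) (.leaf 0)))) (.node (.node (.node (.leaf 16139) (.leaf 12297)) (.node (.leaf 5908) (.leaf 0))) (.node (.node (.leaf 9656) (.leaf 0)) (.node (.leaf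 3849) (.leaf 0))))))) (.node (.node (.node (.node (.node (.node (.leaf 7616) (.leaf 12544)) (.node (.leaf 19542) (.leaf 0))) (.node (.node (.leaf 3081) (.leaf 0)) (.node (.leaf 3487) (.leaf 0)))) (.node (.node (.node (.leaf 12524) (.leaf 14419)) (.node (.leaf 427) (.leaf 0))) (.node (.node (.leaf 15163) (.leaf 0)) (.node (.leaf 17328) (.leaf 0))))) (.node (.node (.node (.node (.leaf 8726) (.leaf 12673)) (.node (.leaf 6009) (.leaf 0))) (.node (.node (.leaf 20377) (.leaf 0)) (.node (.leaf 15175) (.leaf 0)))) (.node (.node (.node (.leaf 15562) (.leaf 9919)) (.node (.leaf 19507) (.leaf 0))) (.node (.node (.leaf 18865) (.leaf 0)) (.node (.leaf 4308) (.leaf 0)))))) (.node (.node (.node (.node (.node (.leaf 10970) (.leaf 4068)) (.node (.leaf 20241) (.leaf 0))) (.node (.node (.leaf 152) (.leaf 0)) (.node (.leaf 706) (.leaf 0)))) (.node (.node (.node (.leaf 15756) (.leaf 2529)) (.node (.leaf 18142) (.leaf 0))) (.node (.node (.leaf 13735) (.leaf 0)) (.node (.leaf 10914) (.leaf 0))))) (.node (.node (.node (.node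 (.leaf 13812) (.leaf 4334)) (.node (.leaf 4114) (.leaf 0))) (.node (.node (.leaf 17490) (.leaf 0)) (.node (.leaf 8833) (.leaf 0)))) (.node (.node (.node (.leaf 15762) (.leaf 4743)) (.node (.leaf 6695) (.leaf 0))) (.node (.node (.leaf 2243) (.leaf 0)) (.node (.leaf 3375) (.leaf 0))))))))

def omT121 : NT := .node (.node (.node (.node (.node (.node (.node (.node (.leaf 13449) (.leaf 1292)) (.node (.leaf 3308) (.leaf 0))) (.node (.node (.leaf 381) (.leaf 0)) (.node (.leaf 20205) (.leaf 0)))) (.node (.node (.node (.leaf 13170) (.leaf 11807)) (.node (.leaf 17414) (.leaf 0))) (.node (.node (.leaf 8429) (.leaf 0)) (.node (.leaf 3226) (.leaf 0))))) (.node (.node (.node (.node (.leaf 17196) (.leaf 15195)) (.node (.leaf 15219) (.leaf 0))) (.node (.node (.leaf 14062) (.leaf 0)) (.node (.leaf 5477) (.leaf 0)))) (.node (.node (.node (.leaf 18036) (.leaf 9790)) (.node (.leaf 9447) (.leaf 0))) (.node (.node (.leaf 14427) (.leaf 0)) (.node (.leaf 12206) (.leaf 0)))))) (.node (.node (.node (.node (.node (.leaf 3852) (.leaf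 10174)) (.node (.leaf 4720) (.leaf 0))) (.node (.node (.leaf 6785) (.leaf 0)) (.node (.leaf 9588) (.leaf 0)))) (.node (.node (.node (.leaf 18407) (.leaf 20087)) (.node (.leaf 9449) (.leaf 0))) (.node (.node (.leaf 6213) (.leaf 0)) (.node (.leaf 4244) (.leaf 0))))) (.node (.node (.node (.node (.leaf 8084) (.leaf 5642)) (.node (.leaf 8400) (.leaf 0))) (.node (.node (.leaf 11076) (.leaf 0)) (.node (.leaf 12481) (.leaf 0)))) (.node (.node (.node (.leaf 13011) (.leaf 16744)) (.node (.leaf 15151) (.leaf 0))) (.node (.node (.leaf 17222) (.leaf 0)) (.node (.leaf 15528) (.leaf 0))))))) (.node (.node (.node (.node (.node (.node (.leaf 15083) (.leaf 3043)) (.node (.leaf 14772) (.leaf 0))) (.node (.node (.leaf 5437) (.leaf 0)) (.node (.leaf 16140) (.leaf 0)))) (.node (.node (.node (.leaf 5491) (.leaf 9726)) (.node (.leaf 3972) (.leaf 0))) (.node (.node (.leaf 6983) (.leaf 0)) (.node (.leaf 19378) (.leaf 0))))) (.node (.node (.node (.node (.leaf 17965) (.leaf 13202)) (.node (.leaf 16787) (.leaf 0))) (.node (.node (.leaf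 8348) (.leaf 0)) (.node (.leaf 18184) (.leaf 0)))) (.node (.node (.node (.leaf 4847) (.leaf 1300)) (.node (.leaf 368) (.leaf 0))) (.node (.node (.leaf 10680) (.leaf 0)) (.node (.leaf 989) (.leaf 0)))))) (.node (.node (.node (.node (.node (.leaf 2847) (.leaf 15529)) (.node (.leaf 16359) (.leaf 0))) (.node (.node (.leaf 6227) (.leaf 0)) (.node (.leaf 15809) (.leaf 0)))) (.node (.node (.node (.leaf 15726) (.leaf 14266)) (.node (.leaf 18530) (.leaf 0))) (.node (.node (.leaf 15963) (.leaf 0)) (.node (.leaf 10994) (.leaf 0))))) (.node (.node (.node (.node (.leaf 10734) (.leaf 14585)) (.node (.leaf 143) (.leaf 0))) (.node (.node (.leaf 11718) (.leaf 0)) (.node (.leaf 9437) (.leaf 0)))) (.node (.node (.node (.leaf 3590) (.leaf 13599)) (.node (.leaf 14004) (.leaf 0))) (.node (.node (.leaf 12177) (.leaf 0)) (.node (.leaf 13468) (.leaf 0)))))))) (.node (.node (.node (.node (.node (.node (.node (.leaf 7568) (.leaf 7553)) (.node (.leaf 18898) (.leaf 0))) (.node (.node (.leaf 18728) (.leaf 0)) (.node (.leaf 6330) (.leaf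 0)))) (.node (.node (.node (.leaf 14351) (.leaf 13516)) (.node (.leaf 3858) (.leaf 0))) (.node (.node (.leaf 19911) (.leaf 0)) (.node (.leaf 14333) (.leaf 0))))) (.node (.node (.node (.node (.leaf 8402) (.leaf 11426)) (.node (.leaf 16941) (.leaf 0))) (.node (.node (.leaf 17460) (.leaf 0)) (.node (.leaf 8355) (.leaf 0)))) (.node (.node (.node (.leaf 6603) (.leaf 4169)) (.node (.leaf 2020) (.leaf 0))) (.node (.node (.leaf 11547) (.leaf 0)) (.node (.leaf 19399) (.leaf 0)))))) (.node (.node (.node (.node (.node (.leaf 10236) (.leaf 19206)) (.node (.leaf 12828) (.leaf 0))) (.node (.node (.leaf 1179) (.leaf 0)) (.node (.leaf 7783) (.leaf 0)))) (.node (.node (.node (.leaf 14141) (.leaf 9096)) (.node (.leaf 10195) (.leaf 0))) (.node (.node (.leaf 20198) (.leaf 0)) (.node (.leaf 278) (.leaf 0))))) (.node (.node (.node (.node (.leaf 10034) (.leaf 6237)) (.node (.leaf 18842) (.leaf 0))) (.node (.node (.leaf 16525) (.leaf 0)) (.node (.leaf 19971) (.leaf 0)))) (.node (.node (.node (.leaf 4203) (.leaf 19045)) (.node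 (.leaf 4473) (.leaf 0))) (.node (.node (.leaf 4861) (.leaf 0)) (.node (.leaf 731) (.leaf 0))))))) (.node (.node (.node (.node (.node (.node (.leaf 17715) (.leaf 4494)) (.node (.leaf 4549) (.leaf 0))) (.node (.node (.leaf 4593) (.leaf 0)) (.node (.leaf 8915) (.leaf 0)))) (.node (.node (.node (.leaf 6334) (.leaf 1507)) (.node (.leaf 7171) (.leaf 0))) (.node (.node (.leaf 570) (.leaf 0)) (.node (.leaf 20370) (.leaf 0))))) (.node (.node (.node (.node (.leaf 942) (.leaf 883)) (.node (.leaf 12476) (.leaf 0))) (.node (.node (.leaf 14668) (.leaf 0)) (.node (.leaf 5666) (.leaf 0)))) (.node (.node (.node (.leaf 14957) (.leaf 1199)) (.node (.leaf 7276) (.leaf 0))) (.node (.node (.leaf 16044) (.leaf 0)) (.node (.leaf 867) (.leaf 0)))))) (.node (.node (.node (.node (.node (.leaf 11910) (.leaf 15156)) (.node (.leaf 534) (.leaf 0))) (.node (.node (.leaf 14621) (.leaf 0)) (.node (.leaf 12890) (.leaf 0)))) (.node (.node (.node (.leaf 9505) (.leaf 8164)) (.node (.leaf 4191) (.leaf 0))) (.node (.node (.leaf 14441) (.leaf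 0)) (.node (.leaf 6578) (.leaf 0))))) (.node (.node (.node (.node (.leaf 17432) (.leaf 19942)) (.node (.leaf 6333) (.leaf 0))) (.node (.node (.leaf 13882) (.leaf 0)) (.node (.leaf 16686) (.leaf 0)))) (.node (.node (.node (.leaf 3428) (.leaf 7205)) (.node (.leaf 18573) (.leaf 0))) (.node (.node (.leaf 9433) (.leaf 0)) (.node (.leaf 6324) (.leaf 0))))))))

def omT122 : NT := .node (.node (.node (.node (.node (.node (.node (.node (.leaf 14791) (.leaf 14784)) (.node (.leaf 18840) (.leaf 0))) (.node (.node (.leaf 798) (.leaf 0)) (.node (.leaf 19899) (.leaf 0)))) (.node (.node (.node (.leaf 3612) (.leaf 17309)) (.node (.leaf 6991) (.leaf 0))) (.node (.node (.leaf 1034) (.leaf 0)) (.node (.leaf 14087) (.leaf 0))))) (.node (.node (.node (.node (.leaf 16137) (.leaf 12621)) (.node (.leaf 14363) (.leaf 0))) (.node (.node (.leaf 17118) (.leaf 0)) (.node (.leaf 7450) (.leaf 0)))) (.node (.node (.node (.leaf 15508) (.leaf 10692)) (.node (.leaf 19169) (.leaf 0))) (.node (.node (.leaf 6544) (.leaf 0)) (.node (.leaf 1662)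 (.leaf 0)))))) (.node (.node (.node (.node (.node (.leaf 4095) (.leaf 10923)) (.node (.leaf 1735) (.leaf 0))) (.node (.node (.leaf 9660) (.leaf 0)) (.node (.leaf 5767) (.leaf 0)))) (.node (.node (.node (.leaf 4878) (.leaf 9198)) (.node (.leaf 3004) (.leaf 0))) (.node (.node (.leaf 14729) (.leaf 0)) (.node (.leaf 20067) (.leaf 0))))) (.node (.node (.node (.node (.leaf 18726) (.leaf 15980)) (.node (.leaf 13890) (.leaf 0))) (.node (.node (.leaf 9288) (.leaf 0)) (.node (.leaf 9154) (.leaf 0)))) (.node (.node (.node (.leaf 19890) (.leaf 8469)) (.node (.leaf 1883) (.leaf 0))) (.node (.node (.leaf 9284) (.leaf 0)) (.node (.leaf 19310) (.leaf 0))))))) (.node (.node (.node (.node (.node (.node (.leaf 4044) (.leaf 11637)) (.node (.leaf 18887) (.leaf 0))) (.node (.node (.leaf 1091) (.leaf 0)) (.node (.leaf 2510) (.leaf 0)))) (.node (.node (.node (.leaf 11957) (.leaf 10185)) (.node (.leaf 9709) (.leaf 0))) (.node (.node (.leaf 8449) (.leaf 0)) (.node (.leaf 9949) (.leaf 0))))) (.node (.node (.node (.node (.leaf 16878)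 (.leaf 18454)) (.node (.leaf 2527) (.leaf 0))) (.node (.node (.leaf 11376) (.leaf 0)) (.node (.leaf 7801) (.leaf 0)))) (.node (.node (.node (.leaf 89) (.leaf 7974)) (.node (.leaf 16628) (.leaf 0))) (.node (.node (.leaf 13838) (.leaf 0)) (.node (.leaf 1357) (.leaf 0)))))) (.node (.node (.node (.node (.node (.leaf 11510) (.leaf 8237)) (.node (.leaf 17071) (.leaf 0))) (.node (.node (.leaf 14084) (.leaf 0)) (.node (.leaf 3589) (.leaf 0)))) (.node (.node (.node (.leaf 19719) (.leaf 9699)) (.node (.leaf 11808) (.leaf 0))) (.node (.node (.leaf 9078) (.leaf 0)) (.node (.leaf 8038) (.leaf 0))))) (.node (.node (.node (.node (.leaf 18782) (.leaf 15461)) (.node (.leaf 5290) (.leaf 0))) (.node (.node (.leaf 16784) (.leaf 0)) (.node (.leaf 1161) (.leaf 0)))) (.node (.node (.node (.leaf 13435) (.leaf 12799)) (.node (.leaf 10757) (.leaf 0))) (.node (.node (.leaf 13556) (.leaf 0)) (.node (.leaf 9526) (.leaf 0)))))))) (.node (.node (.node (.node (.node (.node (.node (.leaf 12173) (.leaf 679)) (.node (.leaf 9545) (.leaf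 0))) (.node (.node (.leaf 7855) (.leaf 0)) (.node (.leaf 18801) (.leaf 0)))) (.node (.node (.node (.leaf 8210) (.leaf 5556)) (.node (.leaf 20042) (.leaf 0))) (.node (.node (.leaf 12932) (.leaf 0)) (.node (.leaf 19576) (.leaf 0))))) (.node (.node (.node (.node (.leaf 4959) (.leaf 9821)) (.node (.leaf 17243) (.leaf 0))) (.node (.node (.leaf 16421) (.leaf 0)) (.node (.leaf 10672) (.leaf 0)))) (.node (.node (.node (.leaf 10755) (.leaf 6260)) (.node (.leaf 11545) (.leaf 0))) (.node (.node (.leaf 13807) (.leaf 0)) (.node (.leaf 5794) (.leaf 0)))))) (.node (.node (.node (.node (.node (.leaf 19723) (.leaf 14313)) (.node (.leaf 12741) (.leaf 0))) (.node (.node (.leaf 12866) (.leaf 0)) (.node (.leaf 4569) (.leaf 0)))) (.node (.node (.node (.leaf 16947) (.leaf 13905)) (.node (.leaf 5693) (.leaf 0))) (.node (.node (.leaf 8401) (.leaf 0)) (.node (.leaf 18816) (.leaf 0))))) (.node (.node (.node (.node (.leaf 7839) (.leaf 14424)) (.node (.leaf 4145) (.leaf 0))) (.node (.node (.leaf 11113) (.leaf 0)) (.node (.leaf 10168)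 (.leaf 0)))) (.node (.node (.node (.leaf 17940) (.leaf 3813)) (.node (.leaf 19006) (.leaf 0))) (.node (.node (.leaf 902) (.leaf 0)) (.node (.leaf 2302) (.leaf 0))))))) (.node (.node (.node (.node (.node (.node (.leaf 15090) (.leaf 918)) (.node (.leaf 7660) (.leaf 0))) (.node (.node (.leaf 14947) (.leaf 0)) (.node (.leaf 1375) (.leaf 0)))) (.node (.node (.node (.leaf 551) (.leaf 11676)) (.node (.leaf 481) (.leaf 0))) (.node (.node (.leaf 4070) (.leaf 0)) (.node (.leaf 11125) (.leaf 0))))) (.node (.node (.node (.node (.leaf 1502) (.leaf 16321)) (.node (.leaf 15657) (.leaf 0))) (.node (.node (.leaf 1743) (.leaf 0)) (.node (.leaf 14669) (.leaf 0)))) (.node (.node (.node (.leaf 6515) (.leaf 13554)) (.node (.leaf 2154) (.leaf 0))) (.node (.node (.leaf 10253) (.leaf 0)) (.node (.leaf 5088) (.leaf 0)))))) (.node (.node (.node (.node (.node (.leaf 12345) (.leaf 14657)) (.node (.leaf 1104) (.leaf 0))) (.node (.node (.leaf 4429) (.leaf 0)) (.node (.leaf 12498) (.leaf 0)))) (.node (.node (.node (.leaf 8343) (.leaf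 1720)) (.node (.leaf 9610) (.leaf 0))) (.node (.node (.leaf 5323) (.leaf 0)) (.node (.leaf 7153) (.leaf 0))))) (.node (.node (.node (.node (.leaf 5744) (.leaf 3161)) (.node (.leaf 3922) (.leaf 0))) (.node (.node (.leaf 1901) (.leaf 0)) (.node (.leaf 12128) (.leaf 0)))) (.node (.node (.node (.leaf 20191) (.leaf 5859)) (.node (.leaf 9210) (.leaf 0))) (.node (.node (.leaf 9741) (.leaf 0)) (.node (.leaf 3591) (.leaf 0))))))))

def omT123 : NT := .node (.node (.node (.node (.node (.node (.node (.node (.leaf 6041) (.leaf 19870)) (.node (.leaf 18110) (.leaf 0))) (.node (.node (.leaf 14349) (.leaf 0)) (.node (.leaf 12218) (.leaf 0)))) (.node (.node (.node (.leaf 16817) (.leaf 12115)) (.node (.leaf 19678) (.leaf 0))) (.node (.node (.leaf 12217) (.leaf 0)) (.node (.leaf 4761) (.leaf 0))))) (.node (.node (.node (.node (.leaf 5610) (.leaf 1513)) (.node (.leaf 11997) (.leaf 0))) (.node (.node (.leaf 5389) (.leaf 0)) (.node (.leaf 16946) (.leaf 0)))) (.node (.node (.node (.leaf 11585) (.leaf 6055)) (.node (.leaf 17335)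 (.leaf 0))) (.node (.node (.leaf 3163) (.leaf 0)) (.node (.leaf 14425) (.leaf 0)))))) (.node (.node (.node (.node (.node (.leaf 7391) (.leaf 13813)) (.node (.leaf 20491) (.leaf 0))) (.node (.node (.leaf 6531) (.leaf 0)) (.node (.leaf 18476) (.leaf 0)))) (.node (.node (.node (.leaf 9282) (.leaf 1739)) (.node (.leaf 624) (.leaf 0))) (.node (.node (.leaf 6734) (.leaf 0)) (.node (.leaf 7978) (.leaf 0))))) (.node (.node (.node (.node (.leaf 8956) (.leaf 15958)) (.node (.leaf 14888) (.leaf 0))) (.node (.node (.leaf 6992) (.leaf 0)) (.node (.leaf 1087) (.leaf 0)))) (.node (.node (.node (.leaf 19650) (.leaf 1612)) (.node (.leaf 13223) (.leaf 0))) (.node (.node (.leaf 11662) (.leaf 0)) (.node (.leaf 3370) (.leaf 0))))))) (.node (.node (.node (.node (.node (.node (.leaf 8786) (.leaf 2540)) (.node (.leaf 9836) (.leaf 0))) (.node (.node (.leaf 13433) (.leaf 0)) (.node (.leaf 15472) (.leaf 0)))) (.node (.node (.node (.leaf 5740) (.leaf 16327)) (.node (.leaf 18985) (.leaf 0))) (.node (.node (.leaf 5979) (.leaf 0)) (.node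 (.leaf 19692) (.leaf 0))))) (.node (.node (.node (.node (.leaf 16363) (.leaf 8201)) (.node (.leaf 12082) (.leaf 0))) (.node (.node (.leaf 3783) (.leaf 0)) (.node (.leaf 16427) (.leaf 0)))) (.node (.node (.node (.leaf 6385) (.leaf 13310)) (.node (.leaf 13340) (.leaf 0))) (.node (.node (.leaf 14170) (.leaf 0)) (.node (.leaf 18618) (.leaf 0)))))) (.node (.node (.node (.node (.node (.leaf 8553) (.leaf 10202)) (.node (.leaf 19659) (.leaf 0))) (.node (.node (.leaf 13376) (.leaf 0)) (.node (.leaf 18095) (.leaf 0)))) (.node (.node (.node (.leaf 8567) (.leaf 15467)) (.node (.leaf 13846) (.leaf 0))) (.node (.node (.leaf 13252) (.leaf 0)) (.node (.leaf 324) (.leaf 0))))) (.node (.node (.node (.node (.leaf 16061) (.leaf 15852)) (.node (.leaf 15024) (.leaf 0))) (.node (.node (.leaf 19736) (.leaf 0)) (.node (.leaf 8010) (.leaf 0)))) (.node (.node (.node (.leaf 6247) (.leaf 17070)) (.node (.leaf 4013) (.leaf 0))) (.node (.node (.leaf 16587) (.leaf 0)) (.node (.leaf 4759) (.leaf 0)))))))) (.node (.node (.node (.node (.node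 (.node (.node (.leaf 10798) (.leaf 18931)) (.node (.leaf 18430) (.leaf 0))) (.node (.node (.leaf 11154) (.leaf 0)) (.node (.leaf 9645) (.leaf 0)))) (.node (.node (.node (.leaf 15201) (.leaf 7698)) (.node (.leaf 7766) (.leaf 0))) (.node (.node (.leaf 1817) (.leaf 0)) (.node (.leaf 1564) (.leaf 0))))) (.node (.node (.node (.node (.leaf 15050) (.leaf 16782)) (.node (.leaf 19440) (.leaf 0))) (.node (.node (.leaf 10273) (.leaf 0)) (.node (.leaf 4714) (.leaf 0)))) (.node (.node (.node (.leaf 10139) (.leaf 4554)) (.node (.leaf 6889) (.leaf 0))) (.node (.node (.leaf 4705) (.leaf 0)) (.node (.leaf 998) (.leaf 0)))))) (.node (.node (.node (.node (.node (.leaf 8984) (.leaf 1297)) (.node (.leaf 12146) (.leaf 0))) (.node (.node (.leaf 6430) (.leaf 0)) (.node (.leaf 4030) (.leaf 0)))) (.node (.node (.node (.leaf 11555) (.leaf 4664)) (.node (.leaf 16908) (.leaf 0))) (.node (.node (.leaf 19182) (.leaf 0)) (.node (.leaf 6938) (.leaf 0))))) (.node (.node (.node (.node (.leaf 10261) (.leaf 12305)) (.node (.leaf 9230) (.leaf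 0))) (.node (.node (.leaf 7749) (.leaf 0)) (.node (.leaf 18490) (.leaf 0)))) (.node (.node (.node (.leaf 8702) (.leaf 1963)) (.node (.leaf 15309) (.leaf 0))) (.node (.node (.leaf 7108) (.leaf 0)) (.node (.leaf 14196) (.leaf 0))))))) (.node (.node (.node (.node (.node (.node (.leaf 19124) (.leaf 8898)) (.node (.leaf 422) (.leaf 0))) (.node (.node (.leaf 3287) (.leaf 0)) (.node (.leaf 12334) (.leaf 0)))) (.node (.node (.node (.leaf 2328) (.leaf 18358)) (.node (.leaf 13206) (.leaf 0))) (.node (.node (.leaf 8649) (.leaf 0)) (.node (.leaf 301) (.leaf 0))))) (.node (.node (.node (.node (.leaf 15324) (.leaf 7773)) (.node (.leaf 10333) (.leaf 0))) (.node (.node (.leaf 2463) (.leaf 0)) (.node (.leaf 2464) (.leaf 0)))) (.node (.node (.node (.leaf 18830) (.leaf 17454)) (.node (.leaf 10061) (.leaf 0))) (.node (.node (.leaf 19765) (.leaf 0)) (.node (.leaf 15623) (.leaf 0)))))) (.node (.node (.node (.node (.node (.leaf 1137) (.leaf 18312)) (.node (.leaf 2181) (.leaf 0))) (.node (.node (.leaf 15960) (.leaf 0)) (.node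 (.leaf 14280) (.leaf 0)))) (.node (.node (.node (.leaf 17045) (.leaf 6801)) (.node (.leaf 19758) (.leaf 0))) (.node (.node (.leaf 4784) (.leaf 0)) (.node (.leaf 3478) (.leaf 0))))) (.node (.node (.node (.node (.leaf 13825) (.leaf 18606)) (.node (.leaf 7756) (.leaf 0))) (.node (.node (.leaf 7142) (.leaf 0)) (.node (.leaf 9350) (.leaf 0)))) (.node (.node (.node (.leaf 5516) (.leaf 6072)) (.node (.leaf 20502) (.leaf 0))) (.node (.node (.leaf 15268) (.leaf 0)) (.node (.leaf 4265) (.leaf 0))))))))

def omT124 : NT := .node (.node (.node (.node (.node (.node (.node (.node (.leaf 2321) (.leaf 6916)) (.node (.leaf 3697) (.leaf 0))) (.node (.node (.leaf 1640) (.leaf 0)) (.node (.leaf 9769) (.leaf 0)))) (.node (.node (.node (.leaf 14847) (.leaf 13447)) (.node (.leaf 14329) (.leaf 0))) (.node (.node (.leaf 13984) (.leaf 0)) (.node (.leaf 12684) (.leaf 0))))) (.node (.node (.node (.node (.leaf 3202) (.leaf 20437)) (.node (.leaf 16149) (.leaf 0))) (.node (.node (.leaf 699) (.leaf 0)) (.node (.leaf 2442) (.leaf 0))))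 (.node (.node (.node (.leaf 19427) (.leaf 7066)) (.node (.leaf 5539) (.leaf 0))) (.node (.node (.leaf 198) (.leaf 0)) (.node (.leaf 19470) (.leaf 0)))))) (.node (.node (.node (.node (.node (.leaf 17338) (.leaf 9688)) (.node (.leaf 6096) (.leaf 0))) (.node (.node (.leaf 3669) (.leaf 0)) (.node (.leaf 4561) (.leaf 0)))) (.node (.node (.node (.leaf 11639) (.leaf 5741)) (.node (.leaf 4243) (.leaf 0))) (.node (.node (.leaf 7182) (.leaf 0)) (.node (.leaf 14320) (.leaf 0))))) (.node (.node (.node (.node (.leaf 9782) (.leaf 18978)) (.node (.leaf 14147) (.leaf 0))) (.node (.node (.leaf 12204) (.leaf 0)) (.node (.leaf 7502) (.leaf 0)))) (.node (.node (.node (.leaf 5020) (.leaf 12072)) (.node (.leaf 10344) (.leaf 0))) (.node (.node (.leaf 11620) (.leaf 0)) (.node (.leaf 281) (.leaf 0))))))) (.node (.node (.node (.node (.node (.node (.leaf 8260) (.leaf 5635)) (.node (.leaf 4166) (.leaf 0))) (.node (.node (.leaf 2260) (.leaf 0)) (.node (.leaf 8542) (.leaf 0)))) (.node (.node (.node (.leaf 3196) (.leaf 907)) (.node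 (.leaf 10776) (.leaf 0))) (.node (.node (.leaf 455) (.leaf 0)) (.node (.leaf 9275) (.leaf 0))))) (.node (.node (.node (.node (.leaf 10010) (.leaf 14239)) (.node (.leaf 19859) (.leaf 0))) (.node (.node (.leaf 1946) (.leaf 0)) (.node (.leaf 6757) (.leaf 0)))) (.node (.node (.node (.leaf 12525) (.leaf 11755)) (.node (.leaf 7291) (.leaf 0))) (.node (.node (.leaf 18114) (.leaf 0)) (.node (.leaf 15524) (.leaf 0)))))) (.node (.node (.node (.node (.node (.leaf 13383) (.leaf 17634)) (.node (.leaf 17576) (.leaf 0))) (.node (.node (.leaf 14962) (.leaf 0)) (.node (.leaf 10183) (.leaf 0)))) (.node (.node (.node (.leaf 2775) (.leaf 16790)) (.node (.leaf 3444) (.leaf 0))) (.node (.node (.leaf 6647) (.leaf 0)) (.node (.leaf 11299) (.leaf 0))))) (.node (.node (.node (.node (.leaf 7824) (.leaf 16445)) (.node (.leaf 1738) (.leaf 0))) (.node (.node (.leaf 12124) (.leaf 0)) (.node (.leaf 4373) (.leaf 0)))) (.node (.node (.node (.leaf 2484) (.leaf 5183)) (.node (.leaf 20319) (.leaf 0))) (.node (.node (.leaf 11693) (.leaf 0))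 (.node (.leaf 7368) (.leaf 0)))))))) (.node (.node (.node (.node (.node (.node (.node (.leaf 6775) (.leaf 7736)) (.node (.leaf 13197) (.leaf 0))) (.node (.node (.leaf 4772) (.leaf 0)) (.node (.leaf 14279) (.leaf 0)))) (.node (.node (.node (.leaf 3442) (.leaf 8607)) (.node (.leaf 14726) (.leaf 0))) (.node (.node (.leaf 3798) (.leaf 0)) (.node (.leaf 18656) (.leaf 0))))) (.node (.node (.node (.node (.leaf 15385) (.leaf 7977)) (.node (.leaf 15801) (.leaf 0))) (.node (.node (.leaf 5) (.leaf 0)) (.node (.leaf 2599) (.leaf 0)))) (.node (.node (.node (.leaf 18173) (.leaf 7079)) (.node (.leaf 10758) (.leaf 0))) (.node (.node (.leaf 16148) (.leaf 0)) (.node (.leaf 398) (.leaf 0)))))) (.node (.node (.node (.node (.node (.leaf 19118) (.leaf 10365)) (.node (.leaf 8437) (.leaf 0))) (.node (.node (.leaf 10469) (.leaf 0)) (.node (.leaf 17002) (.leaf 0)))) (.node (.node (.node (.leaf 14339) (.leaf 17268)) (.node (.leaf 14246) (.leaf 0))) (.node (.node (.leaf 2724) (.leaf 0)) (.node (.leaf 18031) (.leaf 0))))) (.node (.node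 (.node (.node (.leaf 15554) (.leaf 16236)) (.node (.leaf 4623) (.leaf 0))) (.node (.node (.leaf 4727) (.leaf 0)) (.node (.leaf 4340) (.leaf 0)))) (.node (.node (.node (.leaf 11702) (.leaf 167)) (.node (.leaf 2038) (.leaf 0))) (.node (.node (.leaf 16045) (.leaf 0)) (.node (.leaf 19960) (.leaf 0))))))) (.node (.node (.node (.node (.node (.node (.leaf 4337) (.leaf 3621)) (.node (.leaf 19840) (.leaf 0))) (.node (.node (.leaf 19311) (.leaf 0)) (.node (.leaf 14397) (.leaf 0)))) (.node (.node (.node (.leaf 4427) (.leaf 15437)) (.node (.leaf 2267) (.leaf 0))) (.node (.node (.leaf 13902) (.leaf 0)) (.node (.leaf 854) (.leaf 0))))) (.node (.node (.node (.node (.leaf 13373) (.leaf 6358)) (.node (.leaf 17207) (.leaf 0))) (.node (.node (.leaf 10) (.leaf 0)) (.node (.leaf 11000) (.leaf 0)))) (.node (.node (.node (.leaf 19261) (.leaf 10077)) (.node (.leaf 4304) (.leaf 0))) (.node (.node (.leaf 15061) (.leaf 0)) (.node (.leaf 15079) (.leaf 0)))))) (.node (.node (.node (.node (.node (.leaf 13485) (.leaf 10812)) (.node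 (.leaf 19907) (.leaf 0))) (.node (.node (.leaf 3572) (.leaf 0)) (.node (.leaf 3835) (.leaf 0)))) (.node (.node (.node (.leaf 16633) (.leaf 5219)) (.node (.leaf 4829) (.leaf 0))) (.node (.node (.leaf 6773) (.leaf 0)) (.node (.leaf 3009) (.leaf 0))))) (.node (.node (.node (.node (.leaf 17219) (.leaf 5776)) (.node (.leaf 16495) (.leaf 0))) (.node (.node (.leaf 2748) (.leaf 0)) (.node (.leaf 16640) (.leaf 0)))) (.node (.node (.node (.leaf 17090) (.leaf 9391)) (.node (.leaf 16505) (.leaf 0))) (.node (.node (.leaf 12432) (.leaf 0)) (.node (.leaf 5738) (.leaf 0))))))))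

def omT125 : NT := .node (.node (.node (.node (.node (.node (.node (.node (.leaf 3626) (.leaf 12012)) (.node (.leaf 15713) (.leaf 0))) (.node (.node (.leaf 185) (.leaf 0)) (.node (.leaf 11563) (.leaf 0)))) (.node (.node (.node (.leaf 14527) (.leaf 8098)) (.node (.leaf 9597) (.leaf 0))) (.node (.node (.leaf 19849) (.leaf 0)) (.node (.leaf 7051) (.leaf 0))))) (.node (.node (.node (.node (.leaf 8505) (.leaf 9008)) (.node (.leaf 11321) (.leaf 0))) (.node (.node (.leaf 12928) (.leaf 0)) (.node (.leaf 6301) (.leaf 0)))) (.node (.node (.node (.leaf 5822) (.leaf 8110)) (.node (.leaf 19654) (.leaf 0))) (.node (.node (.leaf 16411) (.leaf 0)) (.node (.leaf 5691) (.leaf 0)))))) (.node (.node (.node (.node (.node (.leaf 5452) (.leaf 9861)) (.node (.leaf 14014) (.leaf 0))) (.node (.node (.leaf 13181) (.leaf 0)) (.node (.leaf 308) (.leaf 0)))) (.node (.node (.node (.leaf 15539) (.leaf 9280)) (.node (.leaf 18211) (.leaf 0))) (.node (.node (.leaf 10873) (.leaf 0)) (.node (.leaf 9365) (.leaf 0))))) (.node (.node (.node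 (.node (.leaf 4939) (.leaf 17903)) (.node (.leaf 13795) (.leaf 0))) (.node (.node (.leaf 8731) (.leaf 0)) (.node (.leaf 20123) (.leaf 0)))) (.node (.node (.node (.leaf 18521) (.leaf 11404)) (.node (.leaf 10250) (.leaf 0))) (.node (.node (.leaf 2468) (.leaf 0)) (.node (.leaf 18164) (.leaf 0))))))) (.node (.node (.node (.node (.node (.node (.leaf 2358) (.leaf 17996)) (.node (.leaf 18235) (.leaf 0))) (.node (.node (.leaf 10685) (.leaf 0)) (.node (.leaf 10890) (.leaf 0)))) (.node (.node (.node (.leaf 4149) (.leaf 8097)) (.node (.leaf 168) (.leaf 0))) (.node (.node (.leaf 11650) (.leaf 0)) (.node (.leaf 18075) (.leaf 0))))) (.node (.node (.node (.node (.leaf 10907) (.leaf 2578)) (.node (.leaf 15475) (.leaf 0))) (.node (.node (.leaf 2562) (.leaf 0)) (.node (.leaf 2109) (.leaf 0)))) (.node (.node (.node (.leaf 12661) (.leaf 4758)) (.node (.leaf 120) (.leaf 0))) (.node (.node (.leaf 5758) (.leaf 0)) (.node (.leaf 4482) (.leaf 0)))))) (.node (.node (.node (.node (.node (.leaf 7026) (.leaf 1768)) (.node (.leaf 137)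 (.leaf 0))) (.node (.node (.leaf 13931) (.leaf 0)) (.node (.leaf 13143) (.leaf 0)))) (.node (.node (.node (.leaf 11882) (.leaf 13162)) (.node (.leaf 6510) (.leaf 0))) (.node (.node (.leaf 6932) (.leaf 0)) (.node (.leaf 20287) (.leaf 0))))) (.node (.node (.node (.node (.leaf 9594) (.leaf 13606)) (.node (.leaf 5094) (.leaf 0))) (.node (.node (.leaf 6504) (.leaf 0)) (.node (.leaf 18225) (.leaf 0)))) (.node (.node (.node (.leaf 2563) (.leaf 10563)) (.node (.leaf 697) (.leaf 0))) (.node (.node (.leaf 18568) (.leaf 0)) (.node (.leaf 2744) (.leaf 0)))))))) (.node (.node (.node (.node (.node (.node (.node (.leaf 4345) (.leaf 9337)) (.node (.leaf 12560) (.leaf 0))) (.node (.node (.leaf 19059) (.leaf 0)) (.node (.leaf 3173) (.leaf 0)))) (.node (.node (.node (.leaf 9826) (.leaf 19554)) (.node (.leaf 1077) (.leaf 0))) (.node (.node (.leaf 12750) (.leaf 0)) (.node (.leaf 14242) (.leaf 0))))) (.node (.node (.node (.node (.leaf 11809) (.leaf 18991)) (.node (.leaf 14560) (.leaf 0))) (.node (.node (.leaf 2002) (.leaf 0))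 (.node (.leaf 8818) (.leaf 0)))) (.node (.node (.node (.leaf 16567) (.leaf 17285)) (.node (.leaf 3124) (.leaf 0))) (.node (.node (.leaf 9011) (.leaf 0)) (.node (.leaf 11740) (.leaf 0)))))) (.node (.node (.node (.node (.node (.leaf 17620) (.leaf 13816)) (.node (.leaf 18118) (.leaf 0))) (.node (.node (.leaf 10442) (.leaf 0)) (.node (.leaf 7671) (.leaf 0)))) (.node (.node (.node (.leaf 4485) (.leaf 17349)) (.node (.leaf 9366) (.leaf 0))) (.node (.node (.leaf 14037) (.leaf 0)) (.node (.leaf 9150) (.leaf 0))))) (.node (.node (.node (.node (.leaf 19089) (.leaf 19290)) (.node (.leaf 11104) (.leaf 0))) (.node (.node (.leaf 13209) (.leaf 0)) (.node (.leaf 15800) (.leaf 0)))) (.node (.node (.node (.leaf 9745) (.leaf 19072)) (.node (.leaf 15636) (.leaf 0))) (.node (.node (.leaf 903) (.leaf 0)) (.node (.leaf 3522) (.leaf 0))))))) (.node (.node (.node (.node (.node (.node (.leaf 10089) (.leaf 12521)) (.node (.leaf 856) (.leaf 0))) (.node (.node (.leaf 13632) (.leaf 0)) (.node (.leaf 3215) (.leaf 0)))) (.node (.node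 (.node (.leaf 472) (.leaf 6582)) (.node (.leaf 17202) (.leaf 0))) (.node (.node (.leaf 15006) (.leaf 0)) (.node (.leaf 16601) (.leaf 0))))) (.node (.node (.node (.node (.leaf 17345) (.leaf 15794)) (.node (.leaf 5319) (.leaf 0))) (.node (.node (.leaf 197) (.leaf 0)) (.node (.leaf 20164) (.leaf 0)))) (.node (.node (.node (.leaf 2653) (.leaf 11050)) (.node (.leaf 15580) (.leaf 0))) (.node (.node (.leaf 10986) (.leaf 0)) (.node (.leaf 18293) (.leaf 0)))))) (.node (.node (.node (.node (.node (.leaf 3198) (.leaf 16381)) (.node (.leaf 11288) (.leaf 0))) (.node (.node (.leaf 16142) (.leaf 0)) (.node (.leaf 12135) (.leaf 0)))) (.node (.node (.node (.leaf 14200) (.leaf 724)) (.node (.leaf 10101) (.leaf 0))) (.node (.node (.leaf 7606) (.leaf 0)) (.node (.leaf 20284) (.leaf 0))))) (.node (.node (.node (.node (.leaf 15737) (.leaf 12410)) (.node (.leaf 12411) (.leaf 0))) (.node (.node (.leaf 10731) (.leaf 0)) (.node (.leaf 10703) (.leaf 0)))) (.node (.node (.node (.leaf 4617) (.leaf 17764)) (.node (.leaf 294) (.leaf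 0))) (.node (.node (.leaf 4229) (.leaf 0)) (.node (.leaf 17865) (.leaf 0))))))))

def omT126 : NT := .node (.node (.node (.node (.node (.node (.node (.node (.leaf 14985) (.leaf 8410)) (.node (.leaf 10607) (.leaf 0))) (.node (.node (.leaf 6596) (.leaf 0)) (.node (.leaf 3389) (.leaf 0)))) (.node (.node (.node (.leaf 5304) (.leaf 10019)) (.node (.leaf 14312) (.leaf 0))) (.node (.node (.leaf 12691) (.leaf 0)) (.node (.leaf 7067) (.leaf 0))))) (.node (.node (.node (.node (.leaf 18630) (.leaf 16466)) (.node (.leaf 18675) (.leaf 0))) (.node (.node (.leaf 17116) (.leaf 0)) (.node (.leaf 16897) (.leaf 0)))) (.node (.node (.node (.leaf 4319) (.leaf 3107)) (.node (.leaf 13013) (.leaf 0))) (.node (.node (.leaf 5196) (.leaf 0)) (.node (.leaf 15106) (.leaf 0)))))) (.node (.node (.node (.node (.node (.leaf 1346) (.leaf 2612)) (.node (.leaf 11272) (.leaf 0))) (.node (.node (.leaf 13314) (.leaf 0)) (.node (.leaf 8031) (.leaf 0)))) (.node (.node (.node (.leaf 10515) (.leaf 4364)) (.node (.leaf 1887) (.leaf 0))) (.node (.node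 (.leaf 17670) (.leaf 0)) (.node (.leaf 14747) (.leaf 0))))) (.node (.node (.node (.node (.leaf 17160) (.leaf 7060)) (.node (.leaf 16484) (.leaf 0))) (.node (.node (.leaf 72) (.leaf 0)) (.node (.leaf 6465) (.leaf 0)))) (.node (.node (.node (.leaf 12185) (.leaf 16929)) (.node (.leaf 19067) (.leaf 0))) (.node (.node (.leaf 5736) (.leaf 0)) (.node (.leaf 309) (.leaf 0))))))) (.node (.node (.node (.node (.node (.node (.leaf 6533) (.leaf 5490)) (.node (.leaf 9686) (.leaf 0))) (.node (.node (.leaf 6627) (.leaf 0)) (.node (.leaf 5945) (.leaf 0)))) (.node (.node (.node (.leaf 9568) (.leaf 18974)) (.node (.leaf 13382) (.leaf 0))) (.node (.node (.leaf 15638) (.leaf 0)) (.node (.leaf 11201) (.leaf 0))))) (.node (.node (.node (.node (.leaf 14566) (.leaf 10300)) (.node (.leaf 4093) (.leaf 0))) (.node (.node (.leaf 20420) (.leaf 0)) (.node (.leaf 2840) (.leaf 0)))) (.node (.node (.node (.leaf 13081) (.leaf 7341)) (.node (.leaf 5971) (.leaf 0))) (.node (.node (.leaf 9344) (.leaf 0)) (.node (.leaf 18831) (.leaf 0))))))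 (.node (.node (.node (.node (.node (.leaf 15177) (.leaf 5622)) (.node (.leaf 5016) (.leaf 0))) (.node (.node (.leaf 16280) (.leaf 0)) (.node (.leaf 12182) (.leaf 0)))) (.node (.node (.node (.leaf 14039) (.leaf 13732)) (.node (.leaf 10204) (.leaf 0))) (.node (.node (.leaf 16545) (.leaf 0)) (.node (.leaf 2701) (.leaf 0))))) (.node (.node (.node (.node (.leaf 9178) (.leaf 15694)) (.node (.leaf 5978) (.leaf 0))) (.node (.node (.leaf 15162) (.leaf 0)) (.node (.leaf 17291) (.leaf 0)))) (.node (.node (.node (.leaf 13218) (.leaf 11286)) (.node (.leaf 4333) (.leaf 0))) (.node (.node (.leaf 15178) (.leaf 0)) (.node (.leaf 19545) (.leaf 0)))))))) (.node (.node (.node (.node (.node (.node (.node (.leaf 13358) (.leaf 1237)) (.node (.leaf 9701) (.leaf 0))) (.node (.node (.leaf 9105) (.leaf 0)) (.node (.leaf 18311) (.leaf 0)))) (.node (.node (.node (.leaf 18165) (.leaf 20045)) (.node (.leaf 13818) (.leaf 0))) (.node (.node (.leaf 16931) (.leaf 0)) (.node (.leaf 14163) (.leaf 0))))) (.node (.node (.node (.node (.leaf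 15728) (.leaf 19158)) (.node (.leaf 1942) (.leaf 0))) (.node (.node (.leaf 14627) (.leaf 0)) (.node (.leaf 18645) (.leaf 0)))) (.node (.node (.node (.leaf 5793) (.leaf 5153)) (.node (.leaf 8687) (.leaf 0))) (.node (.node (.leaf 7917) (.leaf 0)) (.node (.leaf 8765) (.leaf 0)))))) (.node (.node (.node (.node (.node (.leaf 19335) (.leaf 4108)) (.node (.leaf 11645) (.leaf 0))) (.node (.node (.leaf 11281) (.leaf 0)) (.node (.leaf 370) (.leaf 0)))) (.node (.node (.node (.leaf 15975) (.leaf 5625)) (.node (.leaf 11324) (.leaf 0))) (.node (.node (.leaf 9440) (.leaf 0)) (.node (.leaf 7608) (.leaf 0))))) (.node (.node (.node (.node (.leaf 2437) (.leaf 6498)) (.node (.leaf 16021) (.leaf 0))) (.node (.node (.leaf 13476) (.leaf 0)) (.node (.leaf 18057) (.leaf 0)))) (.node (.node (.node (.leaf 15635) (.leaf 18256)) (.node (.leaf 14984) (.leaf 0))) (.node (.node (.leaf 20246) (.leaf 0)) (.node (.leaf 8241) (.leaf 0))))))) (.node (.node (.node (.node (.node (.node (.leaf 11749) (.leaf 2889)) (.node (.leaf 14034) (.leaf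 0))) (.node (.node (.leaf 9250) (.leaf 0)) (.node (.leaf 7853) (.leaf 0)))) (.node (.node (.node (.leaf 12108) (.leaf 20301)) (.node (.leaf 3560) (.leaf 0))) (.node (.node (.leaf 5855) (.leaf 0)) (.node (.leaf 461) (.leaf 0))))) (.node (.node (.node (.node (.leaf 13457) (.leaf 694)) (.node (.leaf 19180) (.leaf 0))) (.node (.node (.leaf 6241) (.leaf 0)) (.node (.leaf 10837) (.leaf 0)))) (.node (.node (.node (.leaf 4642) (.leaf 7521)) (.node (.leaf 17592) (.leaf 0))) (.node (.node (.leaf 10090) (.leaf 0)) (.node (.leaf 1061) (.leaf 0)))))) (.node (.node (.node (.node (.node (.leaf 6146) (.leaf 19547)) (.node (.leaf 10979) (.leaf 0))) (.node (.node (.leaf 19644) (.leaf 0)) (.node (.leaf 15116) (.leaf 0)))) (.node (.node (.node (.leaf 17410) (.leaf 19754)) (.node (.leaf 1023) (.leaf 0))) (.node (.node (.leaf 14305) (.leaf 0)) (.node (.leaf 11145) (.leaf 0))))) (.node (.node (.node (.node (.leaf 3807) (.leaf 18671)) (.node (.leaf 9022) (.leaf 0))) (.node (.node (.leaf 14883) (.leaf 0)) (.node (.leaf 2007) (.leaf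 0)))) (.node (.node (.node (.leaf 11791) (.leaf 15888)) (.node (.leaf 12202) (.leaf 0))) (.node (.node (.leaf 9751) (.leaf 0)) (.node (.leaf 18104) (.leaf 0))))))))

def omT127 : NT := .node (.node (.node (.node (.node (.node (.node (.node (.leaf 9245) (.leaf 20509)) (.node (.leaf 6863) (.leaf 0))) (.node (.node (.leaf 5097) (.leaf 0)) (.node (.leaf 14159) (.leaf 0)))) (.node (.node (.node (.leaf 20308) (.leaf 17051)) (.node (.leaf 2738) (.leaf 0))) (.node (.node (.leaf 4279) (.leaf 0)) (.node (.leaf 11850) (.leaf 0))))) (.node (.node (.node (.node (.leaf 4915) (.leaf 2990)) (.node (.leaf 18916) (.leaf 0))) (.node (.node (.leaf 3409) (.leaf 0)) (.node (.leaf 3587) (.leaf 0)))) (.node (.node (.node (.leaf 17438) (.leaf 9264)) (.node (.leaf 8048) (.leaf 0))) (.node (.node (.leaf 14478) (.leaf 0)) (.node (.leaf 4670) (.leaf 0)))))) (.node (.node (.node (.node (.node (.leaf 255) (.leaf 5646)) (.node (.leaf 17020) (.leaf 0))) (.node (.node (.leaf 9902) (.leaf 0)) (.node (.leaf 12572) (.leaf 0)))) (.node (.node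 (.node (.leaf 5028) (.leaf 17752)) (.node (.leaf 18350) (.leaf 0))) (.node (.node (.leaf 20376) (.leaf 0)) (.node (.leaf 1411) (.leaf 0))))) (.node (.node (.node (.node (.leaf 19497) (.leaf 1734)) (.node (.leaf 8926) (.leaf 0))) (.node (.node (.leaf 7258) (.leaf 0)) (.node (.leaf 4230) (.leaf 0)))) (.node (.node (.node (.leaf 214) (.leaf 15364)) (.node (.leaf 17470) (.leaf 0))) (.node (.node (.leaf 15929) (.leaf 0)) (.node (.leaf 3549) (.leaf 0))))))) (.node (.node (.node (.node (.node (.node (.leaf 5310) (.leaf 4566)) (.node (.leaf 6974) (.leaf 0))) (.node (.node (.leaf 7735) (.leaf 0)) (.node (.leaf 19607) (.leaf 0)))) (.node (.node (.node (.leaf 16318) (.leaf 11963)) (.node (.leaf 7622) (.leaf 0))) (.node (.node (.leaf 11794) (.leaf 0)) (.node (.leaf 2298) (.leaf 0))))) (.node (.node (.node (.node (.leaf 14609) (.leaf 409)) (.node (.leaf 4370) (.leaf 0))) (.node (.node (.leaf 1192) (.leaf 0)) (.node (.leaf 16301) (.leaf 0)))) (.node (.node (.node (.leaf 9503) (.leaf 8212)) (.node (.leaf 19015) (.leaf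 0))) (.node (.node (.leaf 4742) (.leaf 0)) (.node (.leaf 17139) (.leaf 0)))))) (.node (.node (.node (.node (.node (.leaf 13707) (.leaf 2097)) (.node (.leaf 5619) (.leaf 0))) (.node (.node (.leaf 15283) (.leaf 0)) (.node (.leaf 18536) (.leaf 0)))) (.node (.node (.node (.leaf 12632) (.leaf 11698)) (.node (.leaf 4348) (.leaf 0))) (.node (.node (.leaf 10222) (.leaf 0)) (.node (.leaf 7854) (.leaf 0))))) (.node (.node (.node (.node (.leaf 14053) (.leaf 1035)) (.node (.leaf 14476) (.leaf 0))) (.node (.node (.leaf 6422) (.leaf 0)) (.node (.leaf 11544) (.leaf 0)))) (.node (.node (.node (.leaf 5778) (.leaf 5365)) (.node (.leaf 16339) (.leaf 0))) (.node (.node (.leaf 9886) (.leaf 0)) (.node (.leaf 9918) (.leaf 0)))))))) (.node (.node (.node (.node (.node (.node (.node (.leaf 14120) (.leaf 18002)) (.node (.leaf 8541) (.leaf 0))) (.node (.node (.leaf 8778) (.leaf 0)) (.node (.leaf 700) (.leaf 0)))) (.node (.node (.node (.leaf 4033) (.leaf 12130)) (.node (.leaf 14789) (.leaf 0))) (.node (.node (.leaf 3707) (.leaf 0))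 (.node (.leaf 13772) (.leaf 0))))) (.node (.node (.node (.node (.leaf 10610) (.leaf 2954)) (.node (.leaf 17641) (.leaf 0))) (.node (.node (.leaf 1886) (.leaf 0)) (.node (.leaf 12545) (.leaf 0)))) (.node (.node (.node (.leaf 11371) (.leaf 1439)) (.node (.leaf 20218) (.leaf 0))) (.node (.node (.leaf 19132) (.leaf 0)) (.node (.leaf 16762) (.leaf 0)))))) (.node (.node (.node (.node (.node (.leaf 9115) (.leaf 8605)) (.node (.leaf 19342) (.leaf 0))) (.node (.node (.leaf 13609) (.leaf 0)) (.node (.leaf 1473) (.leaf 0)))) (.node (.node (.node (.leaf 12030) (.leaf 20214)) (.node (.leaf 11854) (.leaf 0))) (.node (.node (.leaf 16442) (.leaf 0)) (.node (.leaf 16517) (.leaf 0))))) (.node (.node (.node (.node (.leaf 2375) (.leaf 12536)) (.node (.leaf 17409) (.leaf 0))) (.node (.node (.leaf 3168) (.leaf 0)) (.node (.leaf 15292) (.leaf 0)))) (.node (.node (.node (.leaf 14490) (.leaf 1752)) (.node (.leaf 19226) (.leaf 0))) (.node (.node (.leaf 10501) (.leaf 0)) (.node (.leaf 13958) (.leaf 0))))))) (.node (.node (.node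 (.node (.node (.node (.leaf 13743) (.leaf 1399)) (.node (.leaf 6855) (.leaf 0))) (.node (.node (.leaf 2930) (.leaf 0)) (.node (.leaf 12879) (.leaf 0)))) (.node (.node (.node (.leaf 20158) (.leaf 16113)) (.node (.leaf 988) (.leaf 0))) (.node (.node (.leaf 3436) (.leaf 0)) (.node (.leaf 14082) (.leaf 0))))) (.node (.node (.node (.node (.leaf 10762) (.leaf 12819)) (.node (.leaf 18278) (.leaf 0))) (.node (.node (.leaf 6001) (.leaf 0)) (.node (.leaf 12941) (.leaf 0)))) (.node (.node (.node (.leaf 5886) (.leaf 12227)) (.node (.leaf 12844) (.leaf 0))) (.node (.node (.leaf 4834) (.leaf 0)) (.node (.leaf 14422) (.leaf 0)))))) (.node (.node (.node (.node (.node (.leaf 19929) (.leaf 16806)) (.node (.leaf 4423) (.leaf 0))) (.node (.node (.leaf 1141) (.leaf 0)) (.node (.leaf 3651) (.leaf 0)))) (.node (.node (.node (.leaf 15703) (.leaf 17679)) (.node (.leaf 17875) (.leaf 0))) (.node (.node (.leaf 6315) (.leaf 0)) (.node (.leaf 11993) (.leaf 0))))) (.node (.node (.node (.node (.leaf 2499) (.leaf 14654)) (.node (.leaf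 3316) (.leaf 0))) (.node (.node (.leaf 5599) (.leaf 0)) (.node (.leaf 7577) (.leaf 0)))) (.node (.node (.node (.leaf 11190) (.leaf 4115)) (.node (.leaf 19082) (.leaf 0))) (.node (.node (.leaf 1174) (.leaf 0)) (.node (.leaf 19441) (.leaf 0))))))))

def omT : NT := .node (.node (.node (.node (.node (.node (.node (omT0) (omT64)) (.node (omT32) (omT96))) (.node (.node (omT16) (omT80)) (.node (omT48) (omT112)))) (.node (.node (.node (omT8) (omT72)) (.node (omT40) (omT104))) (.node (.node (omT24) (omT88)) (.node (omT56) (omT120))))) (.node (.node (.node (.node (omT4) (omT68)) (.node (omT36) (omT100))) (.node (.node (omT20) (omT84)) (.node (omT52) (omT116)))) (.node (.node (.node (omT12) (omT76)) (.node (omT44) (omT108))) (.node (.node (omT28) (omT92)) (.node (omT60) (omT124)))))) (.node (.node (.node (.node (.node (omT2) (omT66)) (.node (omT34) (omT98))) (.node (.node (omT18) (omT82)) (.node (omT50) (omT114)))) (.node (.node (.node (omT10) (omT74)) (.node (omT42) (omT106))) (.node (.node (omT26) (omT90)) (.node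 (omT58) (omT122))))) (.node (.node (.node (.node (omT6) (omT70)) (.node (omT38) (omT102))) (.node (.node (omT22) (omT86)) (.node (omT54) (omT118)))) (.node (.node (.node (omT14) (omT78)) (.node (omT46) (omT110))) (.node (.node (omT30) (omT94)) (.node (omT62) (omT126))))))) (.node (.node (.node (.node (.node (.node (omT1) (omT65)) (.node (omT33) (omT97))) (.node (.node (omT17) (omT81)) (.node (omT49) (omT113)))) (.node (.node (.node (omT9) (omT73)) (.node (omT41) (omT105))) (.node (.node (omT25) (omT89)) (.node (omT57) (omT121))))) (.node (.node (.node (.node (omT5) (omT69)) (.node (omT37) (omT101))) (.node (.node (omT21) (omT85)) (.node (omT53) (omT117)))) (.node (.node (.node (omT13) (omT77)) (.node (omT45) (omT109))) (.node (.node (omT29) (omT93)) (.node (omT61) (omT125)))))) (.node (.node (.node (.node (.node (omT3) (omT67)) (.node (omT35) (omT99))) (.node (.node (omT19) (omT83)) (.node (omT51) (omT115)))) (.node (.node (.node (omT11) (omT75)) (.node (omT43) (omT107))) (.node (.node (omT27) (omT91))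 (.node (omT59) (omT123))))) (.node (.node (.node (.node (omT7) (omT71)) (.node (omT39) (omT103))) (.node (.node (omT23) (omT87)) (.node (omT55) (omT119)))) (.node (.node (.node (omT15) (omT79)) (.node (omT47) (omT111))) (.node (.node (omT31) (omT95)) (.node (omT63) (omT127)))))))

end Cfsg.Agent.JankoThree.Main
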