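import Cfsg.Agent.JankoThree.MainDataA
import Cfsg.Agent.JankoThree.MainDataB
import Cfsg.Agent.JankoThree.MainDataC

/-! The certificate `Main`. -/

set_option autoImplicit false

namespace Cfsg.Agent.JankoThree.Main

/-- The certificate. -/
def cert : Cert where
  g0 := 89204341944359522210466083722669730918563842
  g1 := 8920333468782952511844587989092215563328421889
  w0 := [0, 0, 0, 0, 0, 0, 0, 0, 0, 0, 0, 0, 0, 0, 1, 0, 0, 0, 0, 0, 0, 0, 0, 0, 0, 0, 0, 0, 0, 0, 0, 0, 0, 0, 0, 0, 1, 0, 0, 0, 0, 0, 0, 0, 1, 0, 0, 0, 0, 0, 0, 0, 0, 0, 0, 0, 0, 0, 0, 0, 0, 0, 0, 0, 0, 0, 0, 0, 0, 0, 0, 0, 0, 0, 0, 0, 0, 0, 0, 0, 1, 0, 0, 0, 0, 0, 0, 0, 0, 0, 0, 0, 0, 0, 0, 1, 0, 0, 0, 0, 0, 0, 0, 0, 0, 0, 0, 0, 0, 0, 0, 0, 0, 0, 0, 0, 0, 1, 0, 0, 0, 1, 1, 0, 1, 0, 0, 0, 0,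 1, 0, 1, 1, 1, 1, 1, 0, 0, 0, 0, 1, 0, 1, 0, 0, 0, 0, 1]
  w1 := [0, 0, 0, 0, 0, 0, 0, 0, 0, 0, 0, 0, 0, 0, 0, 0, 0, 0, 0, 0, 0, 0, 0, 0, 0, 0, 0, 0, 1, 0, 0, 0, 0, 0, 0, 0, 0, 0, 0, 0, 0, 0, 0, 0, 0, 0, 0, 0, 0, 0, 0, 0, 0, 0, 0, 0, 0, 1, 0, 0, 0, 0, 0, 0, 0, 0, 0, 0, 0, 0, 0, 0, 1, 0, 0, 0, 0, 0, 0, 0, 1, 0, 0, 0, 0, 0, 0, 0, 0, 0, 0, 0, 0, 0, 0, 0, 0, 0, 0, 0, 0, 0, 1, 1, 1, 0, 0, 0, 0, 1, 1, 0, 0, 1, 0, 1, 1, 0, 0, 0, 1, 1, 1, 0, 0, 0, 1, 0, 1, 1, 0, 0, 0]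
  h0 := 822183967216962282184648768479563543013920639042
  h1 := 3415678194193511139187142666083648325627305725194
  v := 73
  N := 20520
  m := 7344
  M := mT
  H := hT
  E0 := e0T
  E1 := e1T
  HE0 := he0T
  HE1 := he1T
  P := pT
  HP := hpT
  K := kT
  OM := omT
  OH := ohT

end Cfsg.Agent.JankoThree.Main
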