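import Cfsg.Agent.JankoThree.Simple
import Cfsg.Prelude.Def_Classical

/-!
The group `threeJ3` preserves the Hermitian form and has determinant one.
-/

set_option autoImplicit false

namespace Cfsg.Agent.JankoThree

open Cfsg.Spor (F9)
open Matrix

/-- The conjugate of an exponent. -/
def optConj : Option (ZMod 3) → Option (ZMod 3)
  | none => none
  | some k => some (-k)

theorem inv_is_conj : (∀ z w : F9, cod (col invX (fi z)) (fi w) =
      optConj (cod (col C0.g0 (fi w)) (fi z))) ∧
    ∀ z w : F9, cod (col C0.g1 (fi z)) (fi w) = optConj (cod (col C0.g1 (fi w)) (fi z)) := by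
  decide +kernel

section

variable {F : Type*} [Field F] {ω : F}

theorem optVal_conj (hr : Root F ω) (o : Option (ZMod 3)) :
    optVal ω (optConj o) = (optVal ω o) ^ 2 := by
  obtain ⟨o0, o1, o2⟩ := omega_vals ω
  have hc := hr.cube
  rcases o with _ | k
  · simp [optConj, optVal]
  · have hall : ∀ c : ZMod 3, c = 0 ∨ c = 1 ∨ c = 2 := by decide
    simp only [optConj, optVal]
    rcases hall k with rfl | rfl | rfl
    · rw [neg_zero, o0, one_pow]
    · rw [show (-1 : ZMod 3) = 2 from by decide, o2, o1]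
    · rw [show (-2 : ZMod 3) = 1 from by decide, o1, o2]
      linear_combination -ω * hc

/-- The Hermitian form on columns. -/
def herm (u v : F9 → F) : F := ∑ z, u z * (v z) ^ 2

theorem add_sq (hr : Root F ω) (a b : F) : (a + b) ^ 2 = a ^ 2 + b ^ 2 := by
  linear_combination (a * b) * hr.char

theorem sum_sq {ι : Type*} (hr : Root F ω) (s : Finset ι) (f : ι → F) :
    (∑ i ∈ s, f i) ^ 2 = ∑ i ∈ s, (f i) ^ 2 := by
  classical
  induction s using Finset.induction with
  | empty => simp
  | insert a s ha ih => rw [Finset.sum_insert ha, Finset.sum_insert ha, add_sq hr, ih]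

theorem herm_of_conj (hr : Root F ω) {A B : Matrix F9 F9 F} (hB : B * A = 1)
    (hc : ∀ w z, B w z = (A z w) ^ 2) (u v : F9 → F) : herm (A *ᵥ u) (A *ᵥ v) = herm u v := by
  have hAB : ∀ a b, ∑ z, A z a * (A z b) ^ 2 = if a = b then 1 else 0 := by
    intro a b
    have h := congrFun (congrFun hB b) a
    rw [Matrix.mul_apply, Matrix.one_apply] at h
    simp only [hc] at h
    rw [Finset.sum_congr rfl (fun z _ => mul_comm (A z a) _), h]
    simp [eq_comm]
  unfold herm
  calc ∑ z, (A *ᵥ u) z * (A *ᵥ v) z ^ 2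
      = ∑ z, ∑ a, ∑ b, u a * v b ^ 2 * (A z a * A z b ^ 2) := by
        refine Finset.sum_congr rfl fun z _ => ?_
        simp only [Matrix.mulVec, dotProduct]
        rw [sum_sq hr, Finset.sum_mul_sum]
        refine Finset.sum_congr rfl fun a _ => Finset.sum_congr rfl fun b _ => ?_
        ring
    _ = ∑ a, ∑ b, ∑ z, u a * v b ^ 2 * (A z a * A z b ^ 2) := by
        rw [Finset.sum_comm]
        exact Finset.sum_congr rfl fun a _ => Finset.sum_comm
    _ = ∑ a, u a * v a ^ 2 := by
        simp only [← Finset.mul_sum, hAB, mul_ite, mul_one, mul_zero, Finset.sum_ite_eq,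
          Finset.mem_univ, if_true]

/-- The Hermitian form is preserved. -/
theorem herm_eq [Finite F] (hr : Root F ω) {g : GL F9 F} (hg : g ∈ Spor.threeJ3 F ω)
    (u v : F9 → F) :
    herm ((g : Matrix F9 F9 F) *ᵥ u) ((g : Matrix F9 F9 F) *ᵥ v) = herm u v := by
  suffices h : Spor.threeJ3 F ω ≤ preserving (Units.coeHom (Matrix F9 F9 F)) herm from h hg u v
  rw [threeJ3_eq hr, Subgroup.closure_le]
  rintro x (rfl | rfl)
  · intro a b
    refine herm_of_conj hr (aX hr).inv_mul (fun w z => ?_) a b
    change den ω invX w z = (den ω C0.g0 z w) ^ 2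
    simp only [den, Matrix.of_apply]
    rw [ent_cod hr, ent_cod hr, ← optVal_conj hr, inv_is_conj.1 z w]
  · intro a b
    refine herm_of_conj hr (aY hr).inv_mul (fun w z => ?_) a b
    change den ω C0.g1 w z = (den ω C0.g1 z w) ^ 2
    simp only [den, Matrix.of_apply]
    rw [ent_cod hr, ent_cod hr, ← optVal_conj hr, inv_is_conj.2 z w]

theorem pow_three_eq_one (hr : Root F ω) {a : F} (ha : a ≠ 0) : a ^ 3 = 1 := by
  have hc := hr.cube
  rcases hr.all a with rfl | rfl | rfl | rfl
  · exact absurd rfl ha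
  · exact one_pow 3
  · exact hc
  · rw [← pow_mul, mul_comm, pow_mul, hc, one_pow]

variable [Fintype F]

theorem det_eq_one (hr : Root F ω) {g : GL F9 F} (hg : g ∈ Spor.threeJ3 F ω) :
    (g : Matrix F9 F9 F).det = 1 := by
  obtain ⟨p, hp, hgen⟩ := exists_nineteen hr
  let φ : Spor.threeJ3 F ω →* F :=
    (Matrix.detMonoidHom).comp ((Units.coeHom (Matrix F9 F9 F)).comp (Spor.threeJ3 F ω).subtype)
  have hφ : ∀ x : Spor.threeJ3 F ω, φ x = ((x : GL F9 F) : Matrix F9 F9 F).det := fun x => by
    simp only [φ, MonoidHom.coe_comp, Function.comp_apply, Units.coeHom_apply, Subgroup.coe_subtype,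
      Matrix.coe_detMonoidHom]
  have h1 : ∀ k, φ (p k) = 1 := by
    intro k
    have hs := center_scalar hr (hp k).1
    have hne : ∀ x : Spor.threeJ3 F ω, φ x ≠ 0 := by
      intro x e
      have h := congrArg φ (mul_inv_cancel x)
      rw [map_mul, map_one, e, zero_mul] at h
      exact zero_ne_one h
    have h19 : φ (p k) ^ 19 = 1 := by
      rw [← map_pow, hφ, hs, Matrix.det_smul, Matrix.det_one, mul_one,
        show Fintype.card F9 = 3 * 3 by simp, pow_mul, pow_three_eq_one hr (pow_ne_zero 3 ?_)]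
      intro e
      rw [e, zero_smul] at hs
      refine hne (p k ^ 19) ?_
      rw [hφ, hs, Matrix.det_zero]
    have h3 := pow_three_eq_one hr (hne (p k))
    rw [show (19 : ℕ) = 3 * 6 + 1 from rfl, pow_add, pow_mul, h3, one_pow, one_mul, pow_one] at h19
    exact h19
  have hall : ∀ x : Spor.threeJ3 F ω, φ x = 1 := by
    intro x
    have hx : x ∈ Subgroup.closure (Set.range p) := hgen ▸ Subgroup.mem_top x
    induction hx using Subgroup.closure_induction with
    | mem y hy => obtain ⟨k, rfl⟩ := hy; exact h1 k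
    | one => exact map_one φ
    | mul a b _ _ ha hb => rw [map_mul, ha, hb, one_mul]
    | inv a _ ha =>
      have h := congrArg φ (mul_inv_cancel a)
      rwa [map_mul, ha, one_mul, map_one] at h
  have := hall ⟨g, hg⟩
  rwa [hφ] at this

/-- The enumeration of the nine points. -/
noncomputable def e9 : F9 ≃ Fin 9 :=
  Equiv.ofBijective (fun z => ⟨fi z, fi_lt z⟩)
    ⟨fun a b h => fi_inj a b (congrArg Fin.val h),
      fun i => by obtain ⟨z, hz⟩ := fi_surj i.1 i.2; exact ⟨z, Fin.ext hz⟩⟩

/-- The reindexed matrices. -/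
noncomputable def re9 (g : GL F9 F) : Matrix (Fin 9) (Fin 9) F :=
  Matrix.reindex e9 e9 (g : Matrix F9 F9 F)

theorem re9_mulVec (g : GL F9 F) (u : Fin 9 → F) :
    re9 g *ᵥ u = ((g : Matrix F9 F9 F) *ᵥ (u ∘ e9)) ∘ e9.symm := by
  rw [re9, Matrix.reindex_apply, Matrix.submatrix_mulVec_equiv]
  rfl

theorem re9_mem (hr : Root F ω) (g : Spor.threeJ3 F ω) :
    (⟨re9 g.1, by rw [re9, Matrix.det_reindex_self]; exact det_eq_one hr g.2⟩ :
      Matrix.SpecialLinearGroup (Fin 9) F) ∈ SU 9 F 2 := by
  intro u v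
  change hermForm 9 F 2 (re9 g.1 *ᵥ u) (re9 g.1 *ᵥ v) = hermForm 9 F 2 u v
  have key : ∀ a b : F9 → F, hermForm 9 F 2 (a ∘ e9.symm) (b ∘ e9.symm) = herm a b := fun a b =>
    Fintype.sum_equiv e9.symm _ _ fun i => rfl
  rw [re9_mulVec, re9_mulVec, key, herm_eq hr g.2, ← key]
  congr 1 <;> funext i <;> simp

/-- The embedding into the special unitary group. -/
noncomputable def toSU (hr : Root F ω) : Spor.threeJ3 F ω →* SU 9 F 2 where
  toFun g := ⟨_, re9_mem hr g⟩
  map_one' := by
    apply Subtype.ext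
    apply Subtype.ext
    simp [re9]
  map_mul' a b := by
    apply Subtype.ext
    apply Subtype.ext
    exact (Matrix.submatrix_mul_equiv _ _ _ e9.symm _).symm

theorem toSU_injective (hr : Root F ω) : Function.Injective (toSU hr) := by
  intro a b h
  have h' : re9 a.1 = re9 b.1 := congrArg (fun x : SU 9 F 2 => (x.1 : Matrix (Fin 9) (Fin 9) F)) h
  exact Subtype.ext (Units.ext ((Matrix.reindex e9 e9).injective h'))

/-- The number of vectors with a given sum of cubes. -/
noncomputable def cubeCount (F : Type*) [Field F] [Fintype F] (n : ℕ) (s : F) : ℕ := by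
  classical
  exact ∑ v : Fin n → F, if ∑ i, v i ^ 3 = s then 1 else 0

theorem cubeCount_succ (hr : Root F ω) (n : ℕ) (s : F) :
    cubeCount F (n + 1) s = cubeCount F n s + 3 * cubeCount F n (s + 1) := by
  classical
  have hstep : cubeCount F (n + 1) s = ∑ a : F, cubeCount F n (s + a ^ 3) := by
    unfold cubeCount
    rw [← Fintype.sum_prod_type']
    refine (Fintype.sum_equiv (Fin.consEquiv fun _ : Fin (n + 1) => F) _ _ fun p => ?_).symm
    simp only [Fin.consEquiv, Equiv.coe_fn_mk, Fin.sum_univ_succ, Fin.cons_zero, Fin.cons_succ]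
    refine if_congr ⟨fun h => ?_, fun h => ?_⟩ rfl rfl
    · rw [h]; linear_combination p.1 ^ 3 * hr.char
    · rw [← h]; linear_combination -(p.1 ^ 3) * hr.char
  rw [hstep, Fintype.sum_eq_add_sum_compl (0 : F)]
  rw [zero_pow (by norm_num), add_zero]
  congr 1
  rw [Finset.sum_congr rfl (g := fun _ => cubeCount F n (s + 1)) (fun a ha => by
    rw [pow_three_eq_one hr (by simpa using ha)])]
  rw [Finset.sum_const, smul_eq_mul]
  congr 1
  rw [Finset.card_compl, Finset.card_singleton]
  have hu : (Finset.univ : Finset F) = {0, 1, ω, ω ^ 2} := by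
    ext a
    simpa using hr.all a
  have h0 := hr.ne_zero
  have h1 := hr.ne_one
  have h2 : ω ^ 2 ≠ 1 := fun e => h0 (by linear_combination hr.sq - e - hr.char)
  have h3 : ω ^ 2 ≠ ω := fun e => h1 (mul_left_cancel₀ h0 (by linear_combination e))
  rw [← Finset.card_univ, hu, Finset.card_insert_of_notMem, Finset.card_insert_of_notMem,
    Finset.card_insert_of_notMem, Finset.card_singleton]
  · simpa using h3.symm
  · simp [h1.symm, h2.symm]
  · simp [h0.symm, (pow_ne_zero 2 h0).symm]

/-- The number of isotropic columns. -/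
theorem card_isotropic (hr : Root F ω) :
    Nat.card {v : F9 → F // ∑ z, v z ^ 3 = 0} = 130816 := by
  classical
  have hone : (1 : F) + 1 = 0 := hr.add_self 1
  have hcount : ∀ n : ℕ, (cubeCount F n 0 : ℤ) * 2 = 4 ^ n + (-2) ^ n ∧
      (cubeCount F n 1 : ℤ) * 2 = 4 ^ n - (-2) ^ n := by
    intro n
    induction n with
    | zero => simp [cubeCount]
    | succ n ih =>
      rw [cubeCount_succ hr, cubeCount_succ hr, zero_add, hone]
      push_cast
      constructor <;> rw [pow_succ, pow_succ] <;> linarith [ih.1, ih.2]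
  have h9 := (hcount 9).1
  have hc : cubeCount F 9 0 = 130816 := by norm_num at h9; omega
  have he : {v : F9 → F // ∑ z, v z ^ 3 = 0} ≃ {v : Fin 9 → F // ∑ i, v i ^ 3 = 0} :=
    (Equiv.arrowCongr e9 (Equiv.refl F)).subtypeEquiv fun v => by
      rw [Fintype.sum_equiv e9 (fun z => v z ^ 3) (fun i => (Equiv.arrowCongr e9 (Equiv.refl F) v) i ^ 3)
        (fun z => by simp)]
  rw [Nat.card_congr he, Nat.card_eq_fintype_card, Fintype.card_subtype, ← hc]
  unfold cubeCount
  rw [Finset.card_filter]

end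

end Cfsg.Agent.JankoThree
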