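import Cfsg.Agent.JankoThree.Involutions
import Cfsg.Agent.JankoThree.Unitary
import Cfsg.Prelude.Def_KGroupFacts

/-!
The outer automorphism group of the central quotient of `threeJ3` has order two.
-/

set_option autoImplicit false

namespace Cfsg.Agent.JankoThree

open Cfsg.Spor (F9)
open Matrix

namespace Inv

/-- The normalising element. -/
noncomputable def nM : ℕ := (extraRows.getD 0 (0, 0, 0)).1

/-- The twisted first generator. -/
noncomputable def sXM : ℕ := (extraRows.getD 1 (0, 0, 0)).1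

/-- The twisted second generator. -/
noncomputable def sYM : ℕ := (extraRows.getD 2 (0, 0, 0)).1

/-- A word in the element of order nineteen and the involution. -/
noncomputable def wordXY (w : List ℕ) : ℕ :=
  List.rec (motive := fun _ => ℕ) idM (fun a _ r => mmul (cond (Nat.beq a 0) xM (code y0Idx)) r) w

theorem aut_checks : (Nat.beq (powM xM 19) idM && !(Nat.beq xM idM) &&
    Nat.beq (mmul nM xM) (mmul (powM xM 4) nM) &&
    Nat.beq (mmul scalM (wordXY wordX)) Main.cert.g0 &&
    Nat.beq (mmul scalM (wordXY wordY)) Main.cert.g1 &&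
    Nat.beq (canon (iterV xM (code y0Idx) 4 73)) (canon 73) &&
    Nat.beq (canon (iterV (mmul xM xM) (code y0Idx) 3 73)) (canon 73) &&
    Nat.blt xM (2 ^ 162)) = true := by decide +kernel

theorem y0_orders : (Nat.beq (powM (mmul xM (code y0Idx)) 4) idM ||
    Nat.beq (powM (mmul xM (code y0Idx)) 4) scalM ||
    Nat.beq (powM (mmul xM (code y0Idx)) 4) (wvM scalM)) = true ∧
  (Nat.beq (powM (mmul (mmul xM xM) (code y0Idx)) 3) idM ||
    Nat.beq (powM (mmul (mmul xM xM) (code y0Idx)) 3) scalM ||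
    Nat.beq (powM (mmul (mmul xM xM) (code y0Idx)) 3) (wvM scalM)) = true := by decide +kernel

theorem perm_checks : Nat.beq (mmul permM permM) idM = true ∧
    ∀ w z : F9, (cod (col sXM (fi z)) (fi w) =
        optConj (cod (col Main.cert.g0 (fi (z.1, -z.2))) (fi (w.1, -w.2)))) ∧
      (cod (col sYM (fi z)) (fi w) =
        optConj (cod (col Main.cert.g1 (fi (z.1, -z.2))) (fi (w.1, -w.2)))) := by decide +kernel

theorem trace_x :
    List.rec (motive := fun _ => ℕ) 0 (fun i _ r => Nat.xor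
      (cond ((col xM i).testBit i) 1 0 + cond ((col xM i).testBit (i + 9)) 512 0) r)
      [0, 1, 2, 3, 4, 5, 6, 7, 8] = 513 := by
  decide +kernel

end Inv

section

variable {F : Type*} [Field F] [Fintype F] {ω : F}

/-- The value of an element. -/
abbrev val3 (g : Spor.threeJ3 F ω) : Matrix F9 F9 F := ((g : GL F9 F) : Matrix F9 F9 F)

theorem val3_pow (hr : Root F ω) {g : Spor.threeJ3 F ω} {A : ℕ} (h : val3 g = den ω A) (n : ℕ) :
    val3 (g ^ n) = den ω (powM A n) := by
  induction n with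
  | zero => rw [pow_zero]; exact Root.den_idM.symm
  | succ n ih =>
    rw [pow_succ']
    change val3 g * val3 (g ^ n) = den ω (mmul A (powM A n))
    rw [hr.den_mmul, h, ih]

theorem scalar_code (hr : Root F ω) {g : Spor.threeJ3 F ω} {n : ℕ} (h : val3 g = den ω n)
    (hn : n = idM ∨ n = scalM ∨ n = wvM scalM) : toJ3 ω g = 1 := by
  obtain ⟨c, hc⟩ := scalar_cases hr hn
  exact (QuotientGroup.eq_one_iff g).mpr (scalar_mem_center (c := c) (h.trans hc))

theorem exists_x (hr : Root F ω) : ∃ x : Spor.threeJ3 F ω, val3 x = den ω Inv.xM := by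
  obtain ⟨g, hg, e⟩ := Cert.word_den C0 hr (a0 := aX hr) (a1 := aY hr) rfl rfl Inv.xWord
  exact ⟨⟨g, by rw [threeJ3_eq hr]; exact hg⟩, e⟩

/-- The Galois conjugation of scalars. -/
noncomputable def frob (hr : Root F ω) : F →+* F where
  toFun a := a ^ 2
  map_one' := one_pow 2
  map_mul' a b := mul_pow a b 2
  map_zero' := zero_pow two_ne_zero
  map_add' a b := add_sq hr a b

/-- The permutation of the nine points. -/
def conj9 : Equiv.Perm F9 where
  toFun z := (z.1, -z.2)
  invFun z := (z.1, -z.2)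
  left_inv z := by simp
  right_inv z := by simp

/-- The semilinear automorphism of the matrix group. -/
noncomputable def twist (hr : Root F ω) : GL F9 F →* GL F9 F :=
  Units.map
    ((Matrix.reindexRingEquiv F conj9).toRingHom.comp (frob hr).mapMatrix).toMonoidHom

theorem twist_apply (hr : Root F ω) (g : GL F9 F) (w z : F9) :
    (twist hr g : Matrix F9 F9 F) w z =
      ((g : Matrix F9 F9 F) (w.1, -w.2) (z.1, -z.2)) ^ 2 := rfl

theorem twist_injective (hr : Root F ω) : Function.Injective (twist hr) := by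
  intro a b h
  apply Units.ext
  ext w z
  have e := congrArg (fun g : GL F9 F => (g : Matrix F9 F9 F) (w.1, -w.2) (z.1, -z.2)) h
  simp only [twist_apply, neg_neg, Prod.mk.eta] at e
  exact (frob hr).injective e

theorem twist_mem (hr : Root F ω) {g : GL F9 F} (hg : g ∈ Spor.threeJ3 F ω) :
    twist hr g ∈ Spor.threeJ3 F ω := by
  suffices h : Spor.threeJ3 F ω ≤ (Spor.threeJ3 F ω).comap (twist hr) from h hg
  conv_lhs => rw [threeJ3_eq hr]
  rw [Subgroup.closure_le]
  have key : ∀ (a : GL F9 F) (A : ℕ) (k : ℕ), k < 8 → (a : Matrix F9 F9 F) = den ω A →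
      (∀ w z : F9, cod (col (Inv.extraRows.getD k (0, 0, 0)).1 (fi z)) (fi w) =
        optConj (cod (col A (fi (z.1, -z.2))) (fi (w.1, -w.2)))) →
      a ∈ (Spor.threeJ3 F ω).comap (twist hr) := by
    intro a A k hk ha hA
    obtain ⟨u, hu⟩ := extra_mem hr hk
    rw [Subgroup.mem_comap, show twist hr a = (u : GL F9 F) from Units.ext ?_]
    · exact u.2
    · ext w z
      rw [twist_apply, ha, hu]
      simp only [den, Matrix.of_apply]
      rw [ent_cod hr, ent_cod hr, ← optVal_conj hr, ← hA w z]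
  rintro x (rfl | rfl)
  · exact key _ C0.g0 1 (by norm_num) rfl fun w z => (Inv.perm_checks.2 w z).1
  · exact key _ C0.g1 2 (by norm_num) rfl fun w z => (Inv.perm_checks.2 w z).2

/-- The twist on `threeJ3`. -/
noncomputable def twistG (hr : Root F ω) : MulAut (Spor.threeJ3 F ω) :=
  MulEquiv.ofBijective
    (((twist hr).comp (Spor.threeJ3 F ω).subtype).codRestrict (Spor.threeJ3 F ω)
      fun g => twist_mem hr g.2)
    (Finite.injective_iff_bijective.mp fun a b h =>
      Subtype.ext (twist_injective hr (congrArg Subtype.val h)))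

theorem twistG_center (hr : Root F ω) :
    (Subgroup.center (Spor.threeJ3 F ω)).map (twistG hr).toMonoidHom =
      Subgroup.center (Spor.threeJ3 F ω) := by
  refine le_antisymm ?_ fun y hy => ?_
  · rintro _ ⟨a, ha, rfl⟩
    rw [Subgroup.mem_center_iff]
    intro y
    obtain ⟨b, rfl⟩ := (twistG hr).surjective y
    exact ((map_mul (twistG hr) b a).symm.trans
      (congrArg (twistG hr) (Subgroup.mem_center_iff.mp ha b))).trans (map_mul (twistG hr) a b)
  · obtain ⟨a, rfl⟩ := (twistG hr).surjective y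
    refine ⟨a, Subgroup.mem_center_iff.mpr fun b => (twistG hr).injective ?_, rfl⟩
    rw [map_mul, map_mul]
    exact Subgroup.mem_center_iff.mp hy (twistG hr b)

/-- The twist on the quotient. -/
noncomputable def theta (hr : Root F ω) : MulAut (Spor.J3 F ω) :=
  QuotientGroup.congr _ _ (twistG hr) (twistG_center hr)

theorem theta_toJ3 (hr : Root F ω) (g : Spor.threeJ3 F ω) :
    theta hr (toJ3 ω g) = toJ3 ω (twistG hr g) := rfl

theorem trace_val (hr : Root F ω) {x : Spor.threeJ3 F ω} (hx : val3 x = den ω Inv.xM) :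
    (val3 x).trace = ω ^ 2 := by
  rw [hx, Matrix.trace]
  refine (Root.sum_fi (fun k => ent ω (col Inv.xM k) k)).trans ?_
  have h := Inv.trace_x
  have key : ∀ n : ℕ, ∀ i, i < 9 → ent ω n i =
      ent ω (cond (n.testBit i) 1 0 + cond (n.testBit (i + 9)) 512 0) 0 := by
    intro n i _
    cases hb : n.testBit i <;> cases hb' : n.testBit (i + 9) <;>
      simp [ent, hb, hb', show Nat.testBit 1 9 = false by decide,
        show Nat.testBit 512 0 = false by decide, show Nat.testBit 512 9 = true by decide,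
        show Nat.testBit 513 0 = true by decide, show Nat.testBit 513 9 = true by decide]
  rw [key _ 0 (by norm_num), key _ 1 (by norm_num), key _ 2 (by norm_num), key _ 3 (by norm_num),
    key _ 4 (by norm_num), key _ 5 (by norm_num), key _ 6 (by norm_num), key _ 7 (by norm_num),
    key _ 8 (by norm_num)]
  have h2 := congrArg (fun n => ent ω n 0) h
  simp only [show ∀ a b : ℕ, Nat.xor a b = a ^^^ b from fun a b => rfl, hr.ent_xor] at h2
  have h513 : ent ω 513 0 = ω ^ 2 := by
    simp [ent, Nat.testBit]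
    linear_combination -hr.sq + hr.char * (1 + ω)
  have h00 : ent ω 0 0 = 0 := by simp [ent]
  rw [← h513, ← h2, h00]
  ring

/-- The twist is not inner. -/
theorem theta_not_inner (hr : Root F ω) (r : Spor.J3 F ω) : MulAut.conj r ≠ theta hr := by
  obtain ⟨x, hx⟩ := exists_x hr
  intro e
  obtain ⟨R, rfl⟩ := QuotientGroup.mk'_surjective (Subgroup.center (Spor.threeJ3 F ω)) r
  have e1 : toJ3 ω (R * x * R⁻¹) = toJ3 ω (twistG hr x) := by
    rw [← theta_toJ3, ← e, map_mul, map_mul, map_inv]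
    rfl
  obtain ⟨c, hc, hceq⟩ : ∃ c ∈ Subgroup.center (Spor.threeJ3 F ω), twistG hr x = R * x * R⁻¹ * c :=
    ⟨(R * x * R⁻¹)⁻¹ * twistG hr x, QuotientGroup.eq.mp e1, by group⟩
  have h19 : x ^ 19 = 1 := by
    have h := Inv.aut_checks
    simp only [Bool.and_eq_true, Nat.beq_eq] at h
    refine Subtype.ext (Units.ext ?_)
    change val3 (x ^ 19) = _
    rw [val3_pow hr hx, h.1.1.1.1.1.1.1, Root.den_idM]
    rfl
  have hc1 : c = 1 := by
    have h3 : c ^ 3 = 1 := by
      have h := pow_card_eq_one' (x := (⟨c, hc⟩ : Subgroup.center (Spor.threeJ3 F ω)))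
      rw [card_center hr] at h
      exact congrArg Subtype.val h
    have h19' : c ^ 19 = 1 := by
      have e2 := congrArg (· ^ 19) hceq
      simp only [← map_pow, h19, map_one] at e2
      rw [Commute.mul_pow (Subgroup.mem_center_iff.mp hc _ : Commute (R * x * R⁻¹) c), conj_pow, h19,
        mul_one, mul_inv_cancel, one_mul] at e2
      exact e2.symm
    calc c = c ^ 19 * ((c ^ 3) ^ 6)⁻¹ := by
          rw [← pow_mul, eq_mul_inv_iff_mul_eq, ← pow_succ']
      _ = 1 := by rw [h19', h3, one_pow, inv_one, mul_one]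
  rw [hc1, mul_one] at hceq
  have ht : (val3 (twistG hr x)).trace = (val3 (R * x * R⁻¹)).trace :=
    congrArg (fun g : Spor.threeJ3 F ω => (val3 g).trace) hceq
  have hl : (val3 (twistG hr x)).trace = (val3 x).trace ^ 2 := by
    rw [Matrix.trace, Matrix.trace, sum_sq hr]
    exact Fintype.sum_equiv conj9 _ _ fun z => rfl
  have hr2 : (val3 (R * x * R⁻¹)).trace = (val3 x).trace := by
    change ((((R : GL F9 F) * (x : GL F9 F) * (R : GL F9 F)⁻¹ : GL F9 F)) : Matrix F9 F9 F).trace = _
    rw [Units.val_mul, Units.val_mul, Matrix.trace_units_conj]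
  rw [hl, hr2, trace_val hr hx] at ht
  have : ω ^ 2 * (ω ^ 2 - 1) = 0 := by linear_combination ht
  rcases mul_eq_zero.mp this with h | h
  · exact pow_ne_zero 2 hr.ne_zero h
  · exact hr.ne_zero (by linear_combination hr.sq - h - hr.char)

theorem index_x (hr : Root F ω) {x : Spor.threeJ3 F ω} (hx : val3 x = den ω Inv.xM) :
    orderOf (toJ3 ω x) = 19 := by
  have := Fact.mk (show Nat.Prime 19 by norm_num)
  have h := Inv.aut_checks
  simp only [Bool.and_eq_true, Nat.beq_eq, Nat.blt_eq, Bool.not_eq_true'] at h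
  refine orderOf_eq_prime ?_ fun e => ?_
  · rw [← map_pow]
    exact scalar_code hr (val3_pow hr hx 19) (Or.inl h.1.1.1.1.1.1.1)
  · have hcen : x ∈ Subgroup.center (Spor.threeJ3 F ω) := (QuotientGroup.eq_one_iff x).mp e
    have h3 : orderOf x ∣ 3 := by
      rw [← Subgroup.orderOf_mk x hcen]
      exact (orderOf_dvd_natCard _).trans (dvd_of_eq (card_center hr))
    have h19 : x ^ 19 = 1 := by
      refine Subtype.ext (Units.ext ?_)
      change val3 (x ^ 19) = _
      rw [val3_pow hr hx, h.1.1.1.1.1.1.1, Root.den_idM]; rfl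
    have h1 := Nat.dvd_gcd h3 (orderOf_dvd_of_pow_eq_one h19)
    norm_num at h1
    have hne := h.1.1.1.1.1.1.2
    have : Inv.xM = idM := hr.den_inj h.2 (by decide +kernel) (by rw [← hx, h1, Root.den_idM]; rfl)
    rw [this] at hne
    simp at hne

theorem imX_spec (hr : Root F ω) {x g : Spor.threeJ3 F ω} (hx : val3 x = den ω Inv.xM) {i : ℕ}
    (hi : i < Inv.cnt) (hg : val3 g = den ω (Inv.code i)) :
    Inv.imX i < Inv.cnt ∧ val3 (x * g * x⁻¹) = den ω (Inv.code (Inv.imX i)) := by
  have key : ∀ w : List ℕ,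
      (List.rec (motive := fun _ => ℕ) i (fun a _ r => cond (Nat.beq a 0) (Inv.im0 r) (Inv.im1 r)) w)
        < Inv.cnt ∧
      den ω (C0.word w) * den ω (Inv.code i) = den ω (Inv.code
        (List.rec (motive := fun _ => ℕ) i (fun a _ r => cond (Nat.beq a 0) (Inv.im0 r) (Inv.im1 r))
          w)) * den ω (C0.word w) := by
    intro w
    induction w with
    | nil => exact ⟨hi, by change den ω idM * _ = _ * den ω idM; rw [Root.den_idM, one_mul, mul_one]⟩
    | cons a w ih =>
      have hc := Inv.closB_ok _ ih.1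
      simp only [Inv.closB, Inv.edgeB, Bool.and_eq_true, Nat.blt_eq, Nat.beq_eq] at hc
      change cond (Nat.beq a 0) _ _ < _ ∧ den ω (mmul (cond (Nat.beq a 0) C0.g0 C0.g1) (C0.word w)) * _ =
        den ω (Inv.code (cond (Nat.beq a 0) _ _)) * den ω (mmul (cond (Nat.beq a 0) C0.g0 C0.g1) (C0.word w))
      rw [hr.den_mmul]
      cases Nat.beq a 0
      · refine ⟨hc.2.1, ?_⟩
        have e := congrArg (den ω) hc.2.2
        rw [hr.den_mmul, hr.den_mmul] at e
        rw [cond_false, cond_false, mul_assoc, ih.2, ← mul_assoc, ← mul_assoc]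
        exact congrArg (· * den ω (C0.word w)) e
      · refine ⟨hc.1.1, ?_⟩
        have e := congrArg (den ω) hc.1.2
        rw [hr.den_mmul, hr.den_mmul] at e
        rw [cond_true, cond_true, mul_assoc, ih.2, ← mul_assoc, ← mul_assoc]
        exact congrArg (· * den ω (C0.word w)) e
  obtain ⟨k1, k2⟩ := key Inv.xWord
  refine ⟨k1, ?_⟩
  change val3 x * val3 g * ((((x : GL F9 F)⁻¹) : GL F9 F) : Matrix F9 F9 F) = _
  rw [hx, hg]
  change den ω (C0.word Inv.xWord) * _ * _ = _
  rw [k2, mul_assoc, show den ω (C0.word Inv.xWord) = val3 x from hx.symm, ← Units.val_mul,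
    mul_inv_cancel, Units.val_one, mul_one]
  rfl

/-- The involution completing the pair is unique up to powers of the element of order nineteen. -/
theorem involution_unique (hr : Root F ω) {x y0 : Spor.threeJ3 F ω} (hx : val3 x = den ω Inv.xM)
    (hy : val3 y0 = den ω (Inv.code Inv.y0Idx)) {q : Spor.J3 F ω} (hq : orderOf q = 2)
    (h4 : (toJ3 ω x * q) ^ 4 = 1) (h3 : (toJ3 ω x * toJ3 ω x * q) ^ 3 = 1) :
    ∃ m : ℕ, q = toJ3 ω x ^ m * toJ3 ω y0 * (toJ3 ω x ^ m)⁻¹ := by
  obtain ⟨i, hi, g, hg, rfl⟩ := inTable_of_involution hr hq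
  induction hs : Inv.step i using Nat.strong_induction_on generalizing i g with
  | _ s ih =>
  have ht := Inv.treeB_ok i hi
  simp only [Inv.treeB, Bool.and_eq_true, Bool.or_eq_true, Nat.blt_eq, Nat.beq_eq] at ht
  rcases ht.2 with h0 | ⟨⟨hp, hstep⟩, he⟩
  · have hv := Inv.pickB_ok i hi
    simp only [Inv.pickB, Inv.verdB, Bool.or_eq_true, Bool.and_eq_true, Bool.not_eq_true',
      Nat.blt_eq, Nat.beq_eq, h0, lt_irrefl, false_or] at hv
    rcases hv with (rfl | ⟨-, hv⟩) | ⟨-, hv⟩
    · refine ⟨0, ?_⟩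
      rw [pow_zero, one_mul, inv_one, mul_one, show g = y0 from Subtype.ext (Units.ext (hg.trans hy.symm))]
    all_goals exfalso
    all_goals
      have key : ∀ (a : Spor.threeJ3 F ω) (A n : ℕ), val3 a = den ω A →
          toJ3 ω ((a * g) ^ n) = 1 → canon (Inv.iterV A (Inv.code i) n 73) = canon 73 := by
        intro a A n ha h1
        have hs := center_scalar hr ((QuotientGroup.eq_one_iff _).mp h1)
        have hiter : ∀ k, Inv.iterV A (Inv.code i) k 73 < 262144 ∧
            dvec ω (Inv.iterV A (Inv.code i) k 73) = val3 ((a * g) ^ k) *ᵥ dvec ω 73 := by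
          intro k
          induction k with
          | zero => exact ⟨by norm_num [Inv.iterV], by
              change dvec ω 73 = _
              rw [pow_zero]
              exact (Matrix.one_mulVec _).symm⟩
          | succ k ih =>
            refine ⟨app_lt _ _, ?_⟩
            change dvec ω (app A (app (Inv.code i) (Inv.iterV A (Inv.code i) k 73))) = _
            rw [hr.dvec_app, hr.dvec_app, ih.2, pow_succ', Matrix.mulVec_mulVec,
              Matrix.mulVec_mulVec]
            change _ = (val3 a * val3 g * val3 ((a * g) ^ k)) *ᵥ _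
            rw [ha, show val3 g = den ω (Inv.code i) from hg]
        obtain ⟨hlt, e⟩ := hiter n
        change _ = ((((a * g) ^ n : Spor.threeJ3 F ω) : GL F9 F) : Matrix F9 F9 F) *ᵥ _ at e
        rw [hs, Matrix.smul_mulVec, Matrix.one_mulVec] at e
        refine hr.canon_eq hlt (by norm_num) ?_ e
        intro h0
        have hu := congrArg (fun M : Matrix F9 F9 F => M 0 0)
          (Units.mul_inv (((a * g) ^ n : Spor.threeJ3 F ω) : GL F9 F))
        rw [show (((((a * g) ^ n : Spor.threeJ3 F ω)) : GL F9 F) : Matrix F9 F9 F) = 0 by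
          rw [hs, h0, zero_smul]] at hu
        simp at hu
    · have := key x Inv.xM 4 hx (by rw [map_pow, map_mul]; exact h4)
      simp [this] at hv
    · have := key (x * x) (mmul Inv.xM Inv.xM) 3
        (by change val3 x * val3 x = _; rw [hx, ← hr.den_mmul])
        (by rw [map_pow, map_mul, map_mul]; exact h3)
      simp [this] at hv
  · obtain ⟨g', hg'⟩ : ∃ g' : Spor.threeJ3 F ω, val3 g' = den ω (Inv.code (Inv.pred i)) := by
      obtain ⟨t, htb⟩ := exists_base hr
      obtain ⟨R, hR⟩ := table_conj hr htb _ hp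
      exact ⟨_, hR⟩
    obtain ⟨-, hconj⟩ := imX_spec hr hx hp hg'
    rw [he] at hconj
    have hgeq : g = x * g' * x⁻¹ := Subtype.ext (Units.ext (hg.trans hconj.symm))
    have hq' : toJ3 ω g = toJ3 ω x * toJ3 ω g' * (toJ3 ω x)⁻¹ := by
      rw [hgeq, map_mul, map_mul, map_inv]
    have e4 : (toJ3 ω x * toJ3 ω g') ^ 4 = 1 := by
      rw [hq', show toJ3 ω x * (toJ3 ω x * toJ3 ω g' * (toJ3 ω x)⁻¹) =
        toJ3 ω x * (toJ3 ω x * toJ3 ω g') * (toJ3 ω x)⁻¹ by group, conj_pow] at h4
      exact conj_eq_one_iff.mp h4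
    have e3 : (toJ3 ω x * toJ3 ω x * toJ3 ω g') ^ 3 = 1 := by
      rw [hq', show toJ3 ω x * toJ3 ω x * (toJ3 ω x * toJ3 ω g' * (toJ3 ω x)⁻¹) =
        toJ3 ω x * (toJ3 ω x * toJ3 ω x * toJ3 ω g') * (toJ3 ω x)⁻¹ by group, conj_pow] at h3
      exact conj_eq_one_iff.mp h3
    have hord : orderOf (toJ3 ω g') = 2 := by
      refine ((orderOf_injective (MulAut.conj (toJ3 ω x)).toMonoidHom
        (MulAut.conj (toJ3 ω x)).injective (toJ3 ω g')).symm.trans (Eq.trans ?_ hq))
      rw [hq']
      rfl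
    obtain ⟨m, hm⟩ := ih (Inv.step (Inv.pred i)) (by omega) _ hp g' hg' hord e4 e3 rfl
    refine ⟨m + 1, ?_⟩
    rw [hq', hm, pow_succ']
    group

theorem card_out_J3 (hr : Root F ω) : Nat.card (Out (Spor.J3 F ω)) = 2 := by
  obtain ⟨x, hx⟩ := exists_x hr
  obtain ⟨y0, hy⟩ : ∃ y : Spor.threeJ3 F ω, val3 y = den ω (Inv.code Inv.y0Idx) := by
    rw [← Inv.extra_len.2.2.1]
    exact extra_mem hr (by norm_num)
  obtain ⟨n, hn⟩ : ∃ n : Spor.threeJ3 F ω, val3 n = den ω Inv.nM := extra_mem hr (by norm_num)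
  have hck := Inv.aut_checks
  simp only [Bool.and_eq_true, Nat.beq_eq] at hck
  obtain ⟨⟨⟨⟨⟨⟨⟨-, -⟩, hnx⟩, hwX⟩, hwY⟩, -⟩, -⟩, -⟩ := hck
  set X := toJ3 ω x with hXdef
  set Y := toJ3 ω y0 with hYdef
  have hX19 : orderOf X = 19 := index_x hr hx
  have hy2 : y0 * y0 = 1 := by
    refine Subtype.ext (Units.ext ?_)
    change val3 y0 * val3 y0 = _
    rw [hy, ← hr.den_mmul, code_sq Inv.extra_len.2.2.2, Root.den_idM]; rfl
  have hscal : ∃ u : Spor.threeJ3 F ω, val3 u = den ω scalM ∧ toJ3 ω u = 1 := by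
    obtain ⟨u, hu, eu⟩ := exists_scalar hr
    have e : val3 ⟨u, hu⟩ = den ω scalM := by
      rw [scalM, den_wvM hr, Root.den_idM]; exact eu
    exact ⟨⟨u, hu⟩, e, scalar_code hr e (Or.inr (Or.inl rfl))⟩
  have hgen : Subgroup.closure ({X, Y} : Set (Spor.J3 F ω)) = ⊤ := by
    obtain ⟨u, hu, hu1⟩ := hscal
    have hword : ∀ w : List ℕ, ∃ g : Spor.threeJ3 F ω, val3 g = den ω (Inv.wordXY w) ∧
        toJ3 ω g ∈ Subgroup.closure ({X, Y} : Set (Spor.J3 F ω)) := by
      intro w
      induction w with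
      | nil => exact ⟨1, by rw [show Inv.wordXY [] = idM from rfl, Root.den_idM]; rfl,
          by rw [map_one]; exact one_mem _⟩
      | cons a w ih =>
        obtain ⟨g, hg, hgm⟩ := ih
        cases hb : Nat.beq a 0
        · refine ⟨y0 * g, ?_, by rw [map_mul]; exact mul_mem (Subgroup.subset_closure (by simp [Y])) hgm⟩
          change val3 y0 * val3 g = den ω (mmul (cond (Nat.beq a 0) _ _) (Inv.wordXY w))
          rw [hb, cond_false, hr.den_mmul, hy, hg]
        · refine ⟨x * g, ?_, by rw [map_mul]; exact mul_mem (Subgroup.subset_closure (by simp [X])) hgm⟩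
          change val3 x * val3 g = den ω (mmul (cond (Nat.beq a 0) _ _) (Inv.wordXY w))
          rw [hb, cond_true, hr.den_mmul, hx, hg]
    rw [eq_top_iff]
    intro q _
    obtain ⟨g, rfl⟩ := QuotientGroup.mk'_surjective (Subgroup.center (Spor.threeJ3 F ω)) q
    suffices h : Spor.threeJ3 F ω ≤
        ((Subgroup.closure ({X, Y} : Set (Spor.J3 F ω))).comap (toJ3 ω)).map
          (Spor.threeJ3 F ω).subtype by
      obtain ⟨g', hg', e⟩ := h g.2
      exact (Subtype.ext e : g' = g) ▸ hg'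
    conv_lhs => rw [threeJ3_eq hr]
    rw [Subgroup.closure_le]
    have key : ∀ (a : GL F9 F) (A : ℕ) (w : List ℕ), (a : Matrix F9 F9 F) = den ω A →
        mmul scalM (Inv.wordXY w) = A →
        a ∈ ((Subgroup.closure ({X, Y} : Set (Spor.J3 F ω))).comap (toJ3 ω)).map
          (Spor.threeJ3 F ω).subtype := by
      intro a A w ha hA
      obtain ⟨g, hg, hgm⟩ := hword w
      refine ⟨u * g, ?_, Units.ext ?_⟩
      · change toJ3 ω (u * g) ∈ Subgroup.closure ({X, Y} : Set (Spor.J3 F ω))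
        rw [map_mul, hu1, one_mul]; exact hgm
      · change val3 u * val3 g = (a : Matrix F9 F9 F)
        rw [hu, hg, ← hr.den_mmul, hA, ha]
    rintro a (rfl | rfl)
    · exact key _ C0.g0 _ rfl hwX
    · exact key _ C0.g1 _ rfl hwY
  have hY4 : (X * Y) ^ 4 = 1 ∧ (X * X * Y) ^ 3 = 1 := by
    have h := Inv.y0_orders
    simp only [Bool.or_eq_true, Nat.beq_eq] at h
    constructor
    · rw [hXdef, hYdef, ← map_mul, ← map_pow]
      refine scalar_code hr (val3_pow hr (A := mmul Inv.xM (Inv.code Inv.y0Idx)) ?_ 4) (or_assoc.mp h.1)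
      change val3 x * val3 y0 = _
      rw [hr.den_mmul, hx, hy]
    · rw [hXdef, hYdef, ← map_mul, ← map_mul, ← map_pow]
      refine scalar_code hr (val3_pow hr
        (A := mmul (mmul Inv.xM Inv.xM) (Inv.code Inv.y0Idx)) ?_ 3) (or_assoc.mp h.2)
      change val3 x * val3 x * val3 y0 = _
      rw [hr.den_mmul, hr.den_mmul, hx, hy]
  have hY2 : orderOf Y = 2 := by
    have := Fact.mk Nat.prime_two
    refine orderOf_eq_prime ?_ fun e => ?_
    · rw [hYdef, pow_two, ← map_mul, hy2, map_one]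
    · have hX4 := hY4.1
      rw [e, mul_one] at hX4
      have := orderOf_dvd_of_pow_eq_one hX4
      rw [hX19] at this
      norm_num at this
  -- automorphisms fixing `X` are inner
  have hfix : ∀ φ : MulAut (Spor.J3 F ω), φ X = X → φ ∈ Inn (Spor.J3 F ω) := by
    intro φ hφ
    obtain ⟨m, hm⟩ := involution_unique hr hx hy (q := φ Y)
      (by rw [MulEquiv.orderOf_eq, hY2])
      (by rw [← hXdef, ← hφ, ← map_mul, ← map_pow, hY4.1, map_one])
      (by rw [← hXdef, ← hφ, ← map_mul, ← map_mul, ← map_pow, hY4.2, map_one])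
    refine ⟨X ^ m, MulEquiv.toMonoidHom_injective (MonoidHom.eq_of_eqOn_dense hgen ?_)⟩
    rintro q (rfl | rfl)
    · change X ^ m * X * (X ^ m)⁻¹ = φ X
      rw [hφ, ((Commute.refl X).pow_left m).eq, mul_inv_cancel_right]
    · change X ^ m * Y * (X ^ m)⁻¹ = φ Y
      rw [hm]
  -- every automorphism can be corrected to send `X` to `X` or `X²`
  have hnorm : toJ3 ω n * X * (toJ3 ω n)⁻¹ = X ^ 4 := by
    rw [mul_inv_eq_iff_eq_mul, hXdef, ← map_pow, ← map_mul, ← map_mul]
    refine congrArg (toJ3 ω) (Subtype.ext (Units.ext ?_))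
    change val3 n * val3 x = val3 (x ^ 4) * val3 n
    rw [hn, hx, val3_pow hr hx, ← hr.den_mmul, ← hr.den_mmul, hnx]
  have hred : ∀ φ : MulAut (Spor.J3 F ω), ∃ r : Spor.J3 F ω, (MulAut.conj r * φ) X = X ∨
      (MulAut.conj r * φ) X = X ^ 2 := by
    intro φ
    have := Fact.mk (show Nat.Prime 19 by norm_num)
    have hord : orderOf (φ X) = 19 := by rw [MulEquiv.orderOf_eq, hX19]
    have hsyl : ∀ q : Spor.J3 F ω, orderOf q = 19 →
        ∃ P : Sylow 19 (Spor.J3 F ω), (P : Subgroup _) = Subgroup.zpowers q := by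
      intro q hq
      have h1 : IsPGroup 19 (Subgroup.zpowers q) :=
        IsPGroup.of_card (n := 1) (by rw [Nat.card_zpowers, hq, pow_one])
      obtain ⟨P, hP⟩ := h1.exists_le_sylow
      refine ⟨P, (Subgroup.eq_of_le_of_card_ge hP ?_).symm⟩
      rw [Nat.card_zpowers, hq, P.card_eq_multiplicity, card_J3 hr]
      calc 19 ^ (50232960 : ℕ).factorization 19 ≤ 19 ^ 1 := by
            refine Nat.pow_le_pow_right (by norm_num) ?_
            by_contra h
            have h2 : 19 ^ 2 ∣ 50232960 :=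
              (pow_dvd_pow 19 (by omega)).trans (Nat.ordProj_dvd 50232960 19)
            norm_num at h2
        _ = 19 := pow_one _
    obtain ⟨P, hP⟩ := hsyl X hX19
    obtain ⟨R, hR⟩ := hsyl _ hord
    obtain ⟨g, hg⟩ := MulAction.exists_smul_eq (Spor.J3 F ω) R P
    have hmem : g * φ X * g⁻¹ ∈ Subgroup.zpowers X := by
      rw [← hP, ← hg, Sylow.coe_subgroup_smul, hR]
      exact Subgroup.smul_mem_pointwise_smul _ (MulAut.conj g) _ (Subgroup.mem_zpowers _)
    obtain ⟨k, hk, e⟩ : ∃ k, k < 19 ∧ X ^ k = g * φ X * g⁻¹ := by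
      obtain ⟨k', e'⟩ := (isOfFinOrder_of_finite X).mem_powers_iff_mem_zpowers.mpr hmem
      exact ⟨k' % 19, Nat.mod_lt _ (by norm_num), by
        change X ^ k' = _ at e'
        rw [← e', ← hX19, pow_mod_orderOf]⟩
    have hconj : ∀ (j : ℕ) (k : ℕ),
        (toJ3 ω n) ^ j * X ^ k * ((toJ3 ω n) ^ j)⁻¹ = X ^ (4 ^ j * k) := by
      intro j
      induction j with
      | zero => intro k; simp
      | succ j ih =>
        intro k
        rw [pow_succ, show toJ3 ω n ^ j * toJ3 ω n * X ^ k * (toJ3 ω n ^ j * toJ3 ω n)⁻¹ =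
          toJ3 ω n ^ j * (toJ3 ω n * X ^ k * (toJ3 ω n)⁻¹) * (toJ3 ω n ^ j)⁻¹ by group,
          ← conj_pow, hnorm, ← pow_mul, ih, pow_succ, mul_assoc]
    have hfin : ∀ k : Fin 19, k.val ≠ 0 → ∃ j : Fin 9, 4 ^ j.val * k.val % 19 = 1 ∨
        4 ^ j.val * k.val % 19 = 2 := by decide +kernel
    have hk0 : k ≠ 0 := by
      rintro rfl
      have hc : orderOf (g * φ X * g⁻¹) = 19 := (orderOf_injective (MulAut.conj g).toMonoidHom
        (MulAut.conj g).injective _).trans hord
      rw [← e, pow_zero, orderOf_one] at hc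
      omega
    obtain ⟨j, hj⟩ := hfin ⟨k, hk⟩ hk0
    refine ⟨toJ3 ω n ^ (j : ℕ) * g, ?_⟩
    have hval : (MulAut.conj (toJ3 ω n ^ (j : ℕ) * g) * φ) X = X ^ (4 ^ (j : ℕ) * k % 19) := by
      change toJ3 ω n ^ (j : ℕ) * g * φ X * (toJ3 ω n ^ (j : ℕ) * g)⁻¹ = _
      rw [show toJ3 ω n ^ (j : ℕ) * g * φ X * (toJ3 ω n ^ (j : ℕ) * g)⁻¹ =
        toJ3 ω n ^ (j : ℕ) * (g * φ X * g⁻¹) * (toJ3 ω n ^ (j : ℕ))⁻¹ by group, ← e, hconj,
        ← hX19, pow_mod_orderOf]
    rcases hj with h | h
    · exact Or.inl (by rw [hval, h, pow_one])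
    · exact Or.inr (by rw [hval, h])
  have hθ : theta hr ∉ Inn (Spor.J3 F ω) := fun ⟨r, hr'⟩ => theta_not_inner hr r hr'
  have hinn : ∀ r, MulAut.conj r ∈ Inn (Spor.J3 F ω) := fun r => ⟨r, rfl⟩
  obtain ⟨r0, hr0⟩ := hred (theta hr)
  have hθ2 : (MulAut.conj r0 * theta hr) X = X ^ 2 := by
    refine hr0.resolve_left fun h => hθ ?_
    have := mul_mem (inv_mem (hinn r0)) (hfix _ h)
    rwa [inv_mul_cancel_left] at this
  have hall : ∀ φ : MulAut (Spor.J3 F ω),
      φ ∈ Inn (Spor.J3 F ω) ∨ (theta hr)⁻¹ * φ ∈ Inn (Spor.J3 F ω) := by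
    intro φ
    obtain ⟨r, h | h⟩ := hred φ
    · left
      have := mul_mem (inv_mem (hinn r)) (hfix _ h)
      rwa [inv_mul_cancel_left] at this
    · right
      set χ := MulAut.conj r0 * theta hr with hχ
      have hmem : χ⁻¹ * (MulAut.conj r * φ) ∈ Inn (Spor.J3 F ω) := by
        refine hfix _ ?_
        change χ.symm ((MulAut.conj r * φ) X) = X
        rw [h, ← hθ2, MulEquiv.symm_apply_apply]
      obtain ⟨s, hs⟩ := hmem
      refine ⟨(theta hr).symm (r⁻¹ * r0) * s, ?_⟩
      rw [map_mul, hs]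
      apply MulEquiv.ext
      intro q
      simp [χ, MulAut.mul_apply, mul_assoc]
  rw [show Out (Spor.J3 F ω) = (MulAut (Spor.J3 F ω) ⧸ Inn (Spor.J3 F ω)) from rfl,
    Nat.card_eq_two_iff]
  refine ⟨((1 : MulAut (Spor.J3 F ω)) : MulAut (Spor.J3 F ω) ⧸ Inn (Spor.J3 F ω)),
    ((theta hr : MulAut (Spor.J3 F ω)) : MulAut (Spor.J3 F ω) ⧸ Inn (Spor.J3 F ω)), ?_, ?_⟩
  · intro e
    rw [QuotientGroup.eq, inv_one, one_mul] at e
    exact hθ e
  · refine Set.eq_univ_of_forall fun q => ?_
    obtain ⟨φ, rfl⟩ := QuotientGroup.mk_surjective q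
    rcases hall φ with h | h
    · left
      rw [QuotientGroup.eq, mul_one]
      exact inv_mem h
    · right
      rw [Set.mem_singleton_iff, QuotientGroup.eq]
      have := inv_mem h
      rwa [_root_.mul_inv_rev, inv_inv] at this

end

end Cfsg.Agent.JankoThree
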