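import Cfsg.Agent.JankoThree.Orbit
import Cfsg.Agent.JankoThree.OrbIsoData
import Cfsg.Agent.JankoThree.MainData

/-! Checks of the orbit table `OrbIso`. -/

set_option autoImplicit false

namespace Cfsg.Agent.JankoThree.OrbIso

/-- The table. -/
noncomputable def orb : Orb := ⟨Main.cert.g0, Main.cert.g1, 43605, tabT⟩

theorem point_0 : allB 2000 (fun i => cond (Nat.blt (0 * 2000 + i) 43605) (orb.pointB (0 * 2000 + i)) true) = true := by
  decide +kernel

theorem point_1 : allB 2000 (fun i => cond (Nat.blt (1 * 2000 + i) 43605) (orb.pointB (1 * 2000 + i)) true) = true := by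
  decide +kernel

theorem point_2 : allB 2000 (fun i => cond (Nat.blt (2 * 2000 + i) 43605) (orb.pointB (2 * 2000 + i)) true) = true := by
  decide +kernel

theorem point_3 : allB 2000 (fun i => cond (Nat.blt (3 * 2000 + i) 43605) (orb.pointB (3 * 2000 + i)) true) = true := by
  decide +kernel

theorem point_4 : allB 2000 (fun i => cond (Nat.blt (4 * 2000 + i) 43605) (orb.pointB (4 * 2000 + i)) true) = true := by
  decide +kernel

theorem point_5 : allB 2000 (fun i => cond (Nat.blt (5 * 2000 + i) 43605) (orb.pointB (5 * 2000 + i)) true) = true := by
  decide +kernel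

theorem point_6 : allB 2000 (fun i => cond (Nat.blt (6 * 2000 + i) 43605) (orb.pointB (6 * 2000 + i)) true) = true := by
  decide +kernel

theorem point_7 : allB 2000 (fun i => cond (Nat.blt (7 * 2000 + i) 43605) (orb.pointB (7 * 2000 + i)) true) = true := by
  decide +kernel

theorem point_8 : allB 2000 (fun i => cond (Nat.blt (8 * 2000 + i) 43605) (orb.pointB (8 * 2000 + i)) true) = true := by
  decide +kernel

theorem point_9 : allB 2000 (fun i => cond (Nat.blt (9 * 2000 + i) 43605) (orb.pointB (9 * 2000 + i)) true) = true := by
  decide +kernel

theorem point_10 : allB 2000 (fun i => cond (Nat.blt (10 * 2000 + i) 43605) (orb.pointB (10 * 2000 + i)) true) = true := by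
  decide +kernel

theorem point_11 : allB 2000 (fun i => cond (Nat.blt (11 * 2000 + i) 43605) (orb.pointB (11 * 2000 + i)) true) = true := by
  decide +kernel

theorem point_12 : allB 2000 (fun i => cond (Nat.blt (12 * 2000 + i) 43605) (orb.pointB (12 * 2000 + i)) true) = true := by
  decide +kernel

theorem point_13 : allB 2000 (fun i => cond (Nat.blt (13 * 2000 + i) 43605) (orb.pointB (13 * 2000 + i)) true) = true := by
  decide +kernel

theorem point_14 : allB 2000 (fun i => cond (Nat.blt (14 * 2000 + i) 43605) (orb.pointB (14 * 2000 + i)) true) = true := by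
  decide +kernel

theorem point_15 : allB 2000 (fun i => cond (Nat.blt (15 * 2000 + i) 43605) (orb.pointB (15 * 2000 + i)) true) = true := by
  decide +kernel

theorem point_16 : allB 2000 (fun i => cond (Nat.blt (16 * 2000 + i) 43605) (orb.pointB (16 * 2000 + i)) true) = true := by
  decide +kernel

theorem point_17 : allB 2000 (fun i => cond (Nat.blt (17 * 2000 + i) 43605) (orb.pointB (17 * 2000 + i)) true) = true := by
  decide +kernel

theorem point_18 : allB 2000 (fun i => cond (Nat.blt (18 * 2000 + i) 43605) (orb.pointB (18 * 2000 + i)) true) = true := by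
  decide +kernel

theorem point_19 : allB 2000 (fun i => cond (Nat.blt (19 * 2000 + i) 43605) (orb.pointB (19 * 2000 + i)) true) = true := by
  decide +kernel

theorem point_20 : allB 2000 (fun i => cond (Nat.blt (20 * 2000 + i) 43605) (orb.pointB (20 * 2000 + i)) true) = true := by
  decide +kernel

theorem point_21 : allB 2000 (fun i => cond (Nat.blt (21 * 2000 + i) 43605) (orb.pointB (21 * 2000 + i)) true) = true := by
  decide +kernel

theorem valid : ∀ i < orb.N, orb.pointB i = true := by
  show ∀ i < 43605, orb.pointB i = true
  refine Cert.forall_of_blocks (b := 2000) (by norm_num) fun a ha => ?_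
  have : a < 22 := by omega
  interval_cases a
  · exact point_0
  · exact point_1
  · exact point_2
  · exact point_3
  · exact point_4
  · exact point_5
  · exact point_6
  · exact point_7
  · exact point_8
  · exact point_9
  · exact point_10
  · exact point_11
  · exact point_12
  · exact point_13
  · exact point_14
  · exact point_15
  · exact point_16
  · exact point_17
  · exact point_18
  · exact point_19
  · exact point_20
  · exact point_21

theorem key_zero : orb.key 0 = canon 72 := by decide +kernel

end Cfsg.Agent.JankoThree.OrbIso
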