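import Cfsg.Agent.JankoThree.Orbit
import Cfsg.Agent.JankoThree.OrbZeroData
import Cfsg.Agent.JankoThree.MainData

/-! Checks of the orbit table `OrbZero`. -/

set_option autoImplicit false

namespace Cfsg.Agent.JankoThree.OrbZero

/-- The table. -/
noncomputable def orb : Orb := ⟨Main.cert.g0, Main.cert.g1, 23256, tabT⟩

theorem point_0 : allB 2000 (fun i => cond (Nat.blt (0 * 2000 + i) 23256) (orb.pointB (0 * 2000 + i)) true) = true := by
  decide +kernel

theorem point_1 : allB 2000 (fun i => cond (Nat.blt (1 * 2000 + i) 23256) (orb.pointB (1 * 2000 + i)) true) = true := by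
  decide +kernel

theorem point_2 : allB 2000 (fun i => cond (Nat.blt (2 * 2000 + i) 23256) (orb.pointB (2 * 2000 + i)) true) = true := by
  decide +kernel

theorem point_3 : allB 2000 (fun i => cond (Nat.blt (3 * 2000 + i) 23256) (orb.pointB (3 * 2000 + i)) true) = true := by
  decide +kernel

theorem point_4 : allB 2000 (fun i => cond (Nat.blt (4 * 2000 + i) 23256) (orb.pointB (4 * 2000 + i)) true) = true := by
  decide +kernel

theorem point_5 : allB 2000 (fun i => cond (Nat.blt (5 * 2000 + i) 23256) (orb.pointB (5 * 2000 + i)) true) = true := by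
  decide +kernel

theorem point_6 : allB 2000 (fun i => cond (Nat.blt (6 * 2000 + i) 23256) (orb.pointB (6 * 2000 + i)) true) = true := by
  decide +kernel

theorem point_7 : allB 2000 (fun i => cond (Nat.blt (7 * 2000 + i) 23256) (orb.pointB (7 * 2000 + i)) true) = true := by
  decide +kernel

theorem point_8 : allB 2000 (fun i => cond (Nat.blt (8 * 2000 + i) 23256) (orb.pointB (8 * 2000 + i)) true) = true := by
  decide +kernel

theorem point_9 : allB 2000 (fun i => cond (Nat.blt (9 * 2000 + i) 23256) (orb.pointB (9 * 2000 + i)) true) = true := by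
  decide +kernel

theorem point_10 : allB 2000 (fun i => cond (Nat.blt (10 * 2000 + i) 23256) (orb.pointB (10 * 2000 + i)) true) = true := by
  decide +kernel

theorem point_11 : allB 2000 (fun i => cond (Nat.blt (11 * 2000 + i) 23256) (orb.pointB (11 * 2000 + i)) true) = true := by
  decide +kernel

theorem valid : ∀ i < orb.N, orb.pointB i = true := by
  show ∀ i < 23256, orb.pointB i = true
  refine Cert.forall_of_blocks (b := 2000) (by norm_num) fun a ha => ?_
  have : a < 12 := by omega
  interval_cases a
  · exact point_0
  · exact point_1
  · exact point_2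
  · exact point_3
  · exact point_4
  · exact point_5
  · exact point_6
  · exact point_7
  · exact point_8
  · exact point_9
  · exact point_10
  · exact point_11

theorem key_zero : orb.key 0 = canon 1 := by decide +kernel

end Cfsg.Agent.JankoThree.OrbZero
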