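import Cfsg.Agent.JankoThree.Cert

/-!
A certificate for one orbit of a two-generated matrix group on lines.
-/

set_option autoImplicit false

namespace Cfsg.Agent.JankoThree

open Cfsg.Spor (F9)
open Matrix

/-- An orbit table: each entry packs a key, two images, a parent and a position in the order. -/
structure Orb where
  /-- first generator -/
  g0 : ℕ
  /-- second generator -/
  g1 : ℕ
  /-- orbit length -/
  N : ℕ
  /-- the table -/
  T : NT

namespace Orb

variable (o : Orb)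

/-- The key. -/
noncomputable def key (i : ℕ) : ℕ := o.T.get i % 1048576

/-- The image by the first generator. -/
noncomputable def im0 (i : ℕ) : ℕ := o.T.get i / 2 ^ 20 % 1048576

/-- The image by the second generator. -/
noncomputable def im1 (i : ℕ) : ℕ := o.T.get i / 2 ^ 40 % 1048576

/-- The parent. -/
noncomputable def par (i : ℕ) : ℕ := o.T.get i / 2 ^ 60 % 1048576

/-- The sorting order. -/
noncomputable def ord (i : ℕ) : ℕ := o.T.get i / 2 ^ 80

/-- The check at one point. -/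
noncomputable def pointB (i : ℕ) : Bool :=
  Nat.blt (o.key i) 262144 && Nat.beq (canon (o.key i)) (o.key i) &&
  Nat.blt (o.im0 i) o.N && Nat.beq (canon (app o.g0 (o.key i))) (o.key (o.im0 i)) &&
  Nat.blt (o.im1 i) o.N && Nat.beq (canon (app o.g1 (o.key i))) (o.key (o.im1 i)) &&
  (Nat.beq i 0 || (Nat.blt (o.par i / 2) i &&
    Nat.beq (cond (Nat.beq (o.par i % 2) 0) (o.im0 (o.par i / 2)) (o.im1 (o.par i / 2))) i)) &&
  Nat.blt (o.ord i) o.N && (Nat.beq (i + 1) o.N || Nat.blt (o.key (o.ord i)) (o.key (o.ord (i + 1))))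

variable {F : Type*} [Field F] {ω : F} (hr : Root F ω) (hv : ∀ i < o.N, o.pointB i = true)
include hv

theorem spec {i : ℕ} (hi : i < o.N) : o.key i < 262144 ∧ canon (o.key i) = o.key i ∧
    o.im0 i < o.N ∧ canon (app o.g0 (o.key i)) = o.key (o.im0 i) ∧
    o.im1 i < o.N ∧ canon (app o.g1 (o.key i)) = o.key (o.im1 i) ∧
    (i ≠ 0 → o.par i / 2 < i ∧ (o.im0 (o.par i / 2) = i ∨ o.im1 (o.par i / 2) = i)) ∧
    o.ord i < o.N ∧ (i + 1 < o.N → o.key (o.ord i) < o.key (o.ord (i + 1))) := by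
  have h := hv i hi
  simp only [pointB, Bool.and_eq_true, Bool.or_eq_true, Nat.blt_eq, Nat.beq_eq] at h
  obtain ⟨⟨⟨⟨⟨⟨⟨⟨a, b⟩, c⟩, d⟩, e⟩, f⟩, g⟩, k⟩, l⟩ := h
  refine ⟨a, b, c, d, e, f, fun h0 => ?_, k, fun hn => l.resolve_left (by omega)⟩
  obtain ⟨hp, hq⟩ := g.resolve_left h0
  refine ⟨hp, ?_⟩
  cases hb : Nat.beq (o.par i % 2) 0 <;> simp only [hb, cond_true, cond_false] at hq
  · exact Or.inr hq
  · exact Or.inl hq

theorem key_inj {a b : ℕ} (ha : a < o.N) (hb : b < o.N) (e : o.key a = o.key b) : a = b :=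
  Cert.inj_of_sorted (o := o.ord) (f := o.key) (fun _ hi => (o.spec hv hi).2.2.2.2.2.2.2.1)
    (fun i hi => (o.spec hv (i := i) (by omega)).2.2.2.2.2.2.2.2 hi) a ha b hb e

include hr

theorem line_inj {a b : ℕ} (ha : a < o.N) (hb : b < o.N)
    (e : F ∙ dvec ω (o.key a) = F ∙ dvec ω (o.key b)) : a = b := by
  obtain ⟨la, ca, -⟩ := o.spec hv ha
  obtain ⟨lb, cb, -⟩ := o.spec hv hb
  obtain ⟨z, hz⟩ := (Submodule.span_singleton_eq_span_singleton).mp e
  refine o.key_inj hv ha hb ?_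
  rw [← ca, ← cb]
  exact (hr.canon_eq lb la (c := (z : F)) z.ne_zero hz.symm).symm

variable [Fintype F] {a0 a1 : GL F9 F} (h0 : (a0 : Matrix F9 F9 F) = den ω o.g0)
  (h1 : (a1 : Matrix F9 F9 F) = den ω o.g1)
include h0 h1

theorem image_mem (hN : 0 < o.N) {g : GL F9 F}
    (hg : g ∈ Subgroup.closure ({a0, a1} : Set (GL F9 F))) :
    ∀ i < o.N, ∃ j < o.N, ∃ t : F, t ≠ 0 ∧
      (g : Matrix F9 F9 F) *ᵥ dvec ω (o.key i) = t • dvec ω (o.key j) := by
  have step : ∀ (c : ℕ) (i j : ℕ), i < o.N → canon (app c (o.key i)) = o.key j →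
      ∃ t : F, t ≠ 0 ∧ den ω c *ᵥ dvec ω (o.key i) = t • dvec ω (o.key j) := by
    intro c i j _ e
    obtain ⟨-, t, ht, et⟩ := hr.canon_spec (app_lt c (o.key i))
    rw [e, hr.dvec_app] at et
    exact ⟨t⁻¹, inv_ne_zero ht, by rw [et, inv_smul_smul₀ ht]⟩
  induction hg using Subgroup.closure_induction with
  | mem x hx =>
    intro i hi
    obtain ⟨-, -, i0, e0, i1, e1, -⟩ := o.spec hv hi
    rcases hx with rfl | rfl
    · obtain ⟨t, ht, et⟩ := step o.g0 i _ hi e0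
      exact ⟨_, i0, t, ht, by rw [h0]; exact et⟩
    · obtain ⟨t, ht, et⟩ := step o.g1 i _ hi e1
      exact ⟨_, i1, t, ht, by rw [h1]; exact et⟩
  | one => exact fun i hi => ⟨i, hi, 1, one_ne_zero, by simp⟩
  | mul x y _ _ hx hy =>
    intro i hi
    obtain ⟨j, hj, t, ht, et⟩ := hy i hi
    obtain ⟨k, hk, s, hs, es⟩ := hx j hj
    exact ⟨k, hk, t * s, mul_ne_zero ht hs,
      by rw [Units.val_mul, ← Matrix.mulVec_mulVec, et, Matrix.mulVec_smul, es, smul_smul]⟩
  | inv x _ hx =>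
    have hfin : ∀ n : ℕ, ∀ i < o.N, ∃ j < o.N, ∃ t : F, t ≠ 0 ∧
        ((x ^ n : GL F9 F) : Matrix F9 F9 F) *ᵥ dvec ω (o.key i) = t • dvec ω (o.key j) := by
      intro n
      induction n with
      | zero => exact fun i hi => ⟨i, hi, 1, one_ne_zero, by simp⟩
      | succ n ih =>
        intro i hi
        obtain ⟨j, hj, t, ht, et⟩ := ih i hi
        obtain ⟨k, hk, s, hs, es⟩ := hx j hj
        exact ⟨k, hk, t * s, mul_ne_zero ht hs, by
          rw [pow_succ', Units.val_mul, ← Matrix.mulVec_mulVec, et, Matrix.mulVec_smul, es,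
            smul_smul]⟩
    rw [inv_eq_of_mul_eq_one_right (b := x ^ (orderOf x - 1)) (by
      rw [← pow_succ', Nat.sub_add_cancel (orderOf_pos x), pow_orderOf_eq_one])]
    exact hfin _

theorem exists_image : ∀ i, i < o.N → ∃ g ∈ Subgroup.closure ({a0, a1} : Set (GL F9 F)),
    ∃ t : F, t ≠ 0 ∧ (g : Matrix F9 F9 F) *ᵥ dvec ω (o.key 0) = t • dvec ω (o.key i) := by
  intro i
  induction i using Nat.strong_induction_on with
  | _ i ih =>
  intro hi
  rcases eq_or_ne i 0 with rfl | hne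
  · exact ⟨1, one_mem _, 1, one_ne_zero, by simp⟩
  obtain ⟨hp, hq⟩ := (o.spec hv hi).2.2.2.2.2.2.1 hne
  obtain ⟨g, hg, t, ht, et⟩ := ih _ hp (hp.trans hi)
  obtain ⟨-, -, -, e0, -, e1, -⟩ := o.spec hv (hp.trans hi)
  have step : ∀ (a : GL F9 F) (c : ℕ), a ∈ Subgroup.closure ({a0, a1} : Set (GL F9 F)) →
      (a : Matrix F9 F9 F) = den ω c → canon (app c (o.key (o.par i / 2))) = o.key i →
      ∃ g ∈ Subgroup.closure ({a0, a1} : Set (GL F9 F)),
        ∃ t : F, t ≠ 0 ∧ (g : Matrix F9 F9 F) *ᵥ dvec ω (o.key 0) = t • dvec ω (o.key i) := by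
    intro a c ha hc he
    obtain ⟨-, s, hs, es⟩ := hr.canon_spec (app_lt c (o.key (o.par i / 2)))
    rw [he, hr.dvec_app] at es
    exact ⟨a * g, mul_mem ha hg, t * s⁻¹, mul_ne_zero ht (inv_ne_zero hs), by
      rw [Units.val_mul, ← Matrix.mulVec_mulVec, et, Matrix.mulVec_smul, hc, es, smul_smul,
        mul_assoc, inv_mul_cancel₀ hs, mul_one]⟩
  rcases hq with hq | hq
  · exact step a0 o.g0 (Subgroup.subset_closure (by simp)) h0 (by rw [e0, hq])
  · exact step a1 o.g1 (Subgroup.subset_closure (by simp)) h1 (by rw [e1, hq])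

/-- The orbit on lines has exactly `N` members. -/
theorem ncard_orbit (hN : 0 < o.N) :
    {L : Submodule F (F9 → F) | ∃ g ∈ Subgroup.closure ({a0, a1} : Set (GL F9 F)),
      L = F ∙ ((g : Matrix F9 F9 F) *ᵥ dvec ω (o.key 0))}.ncard = o.N := by
  have hset : {L : Submodule F (F9 → F) | ∃ g ∈ Subgroup.closure ({a0, a1} : Set (GL F9 F)),
      L = F ∙ ((g : Matrix F9 F9 F) *ᵥ dvec ω (o.key 0))} =
      (fun i : ℕ => F ∙ dvec ω (o.key i)) '' Set.Iio o.N := by
    have hspan : ∀ (t : F) (x : F9 → F), t ≠ 0 → F ∙ (t • x) = F ∙ x := fun t x ht =>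
      Submodule.span_singleton_smul_eq (IsUnit.mk0 t ht) x
    ext L
    constructor
    · rintro ⟨g, hg, rfl⟩
      obtain ⟨j, hj, t, ht, et⟩ := o.image_mem hr hv h0 h1 hN hg 0 hN
      exact ⟨j, hj, by simp only [et, hspan _ _ ht]⟩
    · rintro ⟨i, hi, rfl⟩
      obtain ⟨g, hg, t, ht, et⟩ := o.exists_image hr hv h0 h1 i hi
      exact ⟨g, hg, by simp only [et, hspan _ _ ht]⟩
  rw [hset, Set.InjOn.ncard_image (s := Set.Iio o.N) (fun a ha b hb e => o.line_inj hr hv ha hb e),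
    Set.ncard_Iio_nat]

end Orb

end Cfsg.Agent.JankoThree
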