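import Cfsg.Agent.JankoThree.Unitary
import Cfsg.Agent.JankoThree.OrbZeroValid
import Cfsg.Agent.JankoThree.OrbIsoValid

/-!
The orbit of the first basis line and the orbit of the isotropic lines.
-/

set_option autoImplicit false

namespace Cfsg.Agent.JankoThree

open Cfsg.Spor (F9)
open Matrix

section

variable {F : Type*} [Field F] [Fintype F] {ω : F}

theorem span_canon (hr : Root F ω) {n : ℕ} (hn : n < 262144) :
    F ∙ dvec ω (canon n) = F ∙ dvec ω n := by
  obtain ⟨-, t, ht, et⟩ := hr.canon_spec hn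
  rw [et, Submodule.span_singleton_smul_eq (IsUnit.mk0 t ht)]

theorem dvec_one : dvec ω 1 = (Pi.single (0 : F9) (1 : F) : F9 → F) := by
  funext z
  have hz := fi_lt z
  by_cases h : z = 0
  · subst h
    simp [dvec, ent, fi, Nat.testBit_one_eq_true_iff_self_eq_zero]
  · have : fi z ≠ 0 := fun e => h (fi_inj z 0 (e.trans rfl))
    simp [dvec, ent, h, Nat.testBit_one_eq_true_iff_self_eq_zero, this]

theorem ncard_zero_orbit (hr : Root F ω) :
    {L : Submodule F (F9 → F) | ∃ g ∈ Spor.threeJ3 F ω,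
      L = F ∙ ((g : Matrix F9 F9 F) *ᵥ (Pi.single (0 : F9) (1 : F) : F9 → F))}.ncard = 23256 := by
  have hv := OrbZero.valid
  obtain ⟨-, t, ht, et⟩ := hr.canon_spec (show 1 < 262144 by norm_num)
  have key : ∀ g : GL F9 F, F ∙ ((g : Matrix F9 F9 F) *ᵥ (Pi.single (0 : F9) (1 : F) : F9 → F)) =
      F ∙ ((g : Matrix F9 F9 F) *ᵥ dvec ω (OrbZero.orb.key 0)) := by
    intro g
    rw [OrbZero.key_zero, et, Matrix.mulVec_smul, Submodule.span_singleton_smul_eq (IsUnit.mk0 t ht),
      dvec_one]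
  simp only [key]
  rw [threeJ3_eq hr]
  exact OrbZero.orb.ncard_orbit hr hv (a0 := aX hr) (a1 := aY hr) rfl rfl (by decide)

theorem herm_self (u : F9 → F) : herm u u = ∑ z, u z ^ 3 := by
  unfold herm
  exact Finset.sum_congr rfl fun z _ => by ring

theorem iso_zero (hr : Root F ω) : ∑ z, dvec ω 72 z ^ 3 = 0 := by
  refine (Root.sum_fi (fun k => ent ω 72 k ^ 3)).trans ?_
  simp [ent, Nat.testBit]
  linear_combination hr.char

/-- Every isotropic column lies on one of the 43605 lines of the orbit. -/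
theorem isotropic_line (hr : Root F ω) (v : F9 → F) (hv0 : v ≠ 0) (hv : ∑ z, v z ^ 3 = 0) :
    ∃ i < OrbIso.orb.N, ∃ c : F, c ≠ 0 ∧ v = c • dvec ω (OrbIso.orb.key i) := by
  classical
  let o := OrbIso.orb
  have hval := OrbIso.valid
  have hkey : ∀ i < o.N, ∑ z, dvec ω (o.key i) z ^ 3 = 0 ∧ dvec ω (o.key i) ≠ 0 := by
    intro i hi
    obtain ⟨g, hg, t, ht, et⟩ := o.exists_image hr hval (a0 := aX hr) (a1 := aY hr) rfl rfl i hi
    rw [← threeJ3_eq hr] at hg
    obtain ⟨-, s, hs, es⟩ := hr.canon_spec (show 72 < 262144 by norm_num)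
    rw [show o.key 0 = canon 72 from OrbIso.key_zero, es] at et
    have e1 : dvec ω (o.key i) = (t⁻¹ * s) • ((g : Matrix F9 F9 F) *ᵥ dvec ω 72) := by
      rw [mul_smul, ← Matrix.mulVec_smul, et, inv_smul_smul₀ ht]
    refine ⟨?_, ?_⟩
    · have h1 : ∑ z, ((g : Matrix F9 F9 F) *ᵥ dvec ω 72) z ^ 3 = 0 := by
        rw [← herm_self, herm_eq hr hg, herm_self, iso_zero hr]
      simp only [e1, Pi.smul_apply, smul_eq_mul, mul_pow, ← Finset.mul_sum, h1, mul_zero]
    · intro h0
      rw [e1, smul_eq_zero] at h0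
      have h2 := h0.resolve_left (mul_ne_zero (inv_ne_zero ht) hs)
      have h3 := congrArg (fun x => ((g⁻¹ : GL F9 F) : Matrix F9 F9 F) *ᵥ x) h2
      simp only [Matrix.mulVec_mulVec, ← Units.val_mul, inv_mul_cancel, Units.val_one,
        Matrix.one_mulVec, Matrix.mulVec_zero] at h3
      have h4 := congrFun h3 ((1 : ZMod 3), (0 : ZMod 3))
      simp [dvec, ent, fi, ZMod.val, show ((1 : ZMod 3) : Fin 3).val = 1 from rfl, Nat.testBit] at h4
  let cs : Fin 3 → F := ![1, ω, ω ^ 2]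
  have hcs : ∀ k, cs k ≠ 0 := by
    intro k
    fin_cases k
    · exact one_ne_zero
    · exact hr.ne_zero
    · exact pow_ne_zero 2 hr.ne_zero
  have hcinj : Function.Injective cs := by
    have h0 := hr.ne_zero
    have h1 := hr.ne_one
    have h2 : ω ^ 2 ≠ 1 := fun e => h0 (by linear_combination hr.sq - e - hr.char)
    have h3 : ω ^ 2 ≠ ω := fun e => h1 (mul_left_cancel₀ h0 (by linear_combination e))
    intro a b e
    fin_cases a <;> fin_cases b <;> first
      | rfl
      | (simp only [cs, Fin.isValue, Matrix.cons_val_zero, Matrix.cons_val_one, Matrix.cons_val,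
          Fin.zero_eta, Fin.mk_one, Fin.reduceFinMk] at e; first
          | exact absurd e h1 | exact absurd e.symm h1 | exact absurd e h2 | exact absurd e.symm h2
          | exact absurd e h3 | exact absurd e.symm h3)
  let f : Option (Fin o.N × Fin 3) → {w : F9 → F // ∑ z, w z ^ 3 = 0} := fun x =>
    match x with
    | none => ⟨0, by simp⟩
    | some p => ⟨cs p.2 • dvec ω (o.key p.1), by
        simp only [Pi.smul_apply, smul_eq_mul, mul_pow, ← Finset.mul_sum, (hkey p.1 p.1.2).1,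
          mul_zero]⟩
  have hfinj : Function.Injective f := by
    intro x y e
    rcases x with _ | p <;> rcases y with _ | q
    · rfl
    · exact absurd (congrArg Subtype.val e).symm
        (smul_ne_zero (hcs q.2) (hkey q.1 q.1.2).2)
    · exact absurd (congrArg Subtype.val e) (smul_ne_zero (hcs p.2) (hkey p.1 p.1.2).2)
    · have e' : cs p.2 • dvec ω (o.key p.1) = cs q.2 • dvec ω (o.key q.1) := congrArg Subtype.val e
      have hline : F ∙ dvec ω (o.key p.1) = F ∙ dvec ω (o.key q.1) := by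
        rw [← Submodule.span_singleton_smul_eq (IsUnit.mk0 _ (hcs p.2)), e',
          Submodule.span_singleton_smul_eq (IsUnit.mk0 _ (hcs q.2))]
      have hpq := Fin.ext (o.line_inj hr hval p.1.2 q.1.2 hline)
      rw [hpq] at e'
      have hk := smul_left_injective F (hkey q.1 q.1.2).2 e'
      rw [Prod.ext hpq (hcinj hk)]
  have hfsurj : Function.Surjective f := by
    refine (hfinj.bijective_of_nat_card_le ?_).2
    rw [card_isotropic hr, Nat.card_eq_fintype_card, Fintype.card_option, Fintype.card_prod,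
      Fintype.card_fin, Fintype.card_fin]
    have hN : o.N = 43605 := by simp [o, OrbIso.orb]
    omega
  obtain ⟨x, hx⟩ := hfsurj ⟨v, hv⟩
  rcases x with _ | p
  · exact absurd (congrArg Subtype.val hx).symm hv0
  · exact ⟨p.1, p.1.2, cs p.2, hcs p.2, (congrArg Subtype.val hx).symm⟩

theorem isotropic_orbit (hr : Root F ω) (v w : F9 → F) (hv0 : v ≠ 0) (hw0 : w ≠ 0)
    (hv : ∑ z, v z ^ 3 = 0) (hw : ∑ z, w z ^ 3 = 0) :
    ∃ g ∈ Spor.threeJ3 F ω, ∃ c : F, c ≠ 0 ∧ (g : Matrix F9 F9 F) *ᵥ v = c • w := by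
  obtain ⟨i, hi, a, ha, rfl⟩ := isotropic_line hr v hv0 hv
  obtain ⟨j, hj, b, hb, rfl⟩ := isotropic_line hr w hw0 hw
  obtain ⟨g, hg, t, ht, et⟩ :=
    OrbIso.orb.exists_image hr OrbIso.valid (a0 := aX hr) (a1 := aY hr) rfl rfl i hi
  obtain ⟨h, hh, s, hs, es⟩ :=
    OrbIso.orb.exists_image hr OrbIso.valid (a0 := aX hr) (a1 := aY hr) rfl rfl j hj
  refine ⟨h * g⁻¹, by rw [threeJ3_eq hr]; exact mul_mem hh (inv_mem hg), a * t⁻¹ * s * b⁻¹,
    mul_ne_zero (mul_ne_zero (mul_ne_zero ha (inv_ne_zero ht)) hs) (inv_ne_zero hb), ?_⟩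
  have hgi : ((g⁻¹ : GL F9 F) : Matrix F9 F9 F) *ᵥ dvec ω (OrbIso.orb.key i) =
      t⁻¹ • dvec ω (OrbIso.orb.key 0) := by
    rw [show dvec ω (OrbIso.orb.key i) =
        t⁻¹ • ((g : Matrix F9 F9 F) *ᵥ dvec ω (OrbIso.orb.key 0)) by rw [et, inv_smul_smul₀ ht],
      Matrix.mulVec_smul, Matrix.mulVec_mulVec, ← Units.val_mul, inv_mul_cancel, Units.val_one,
      Matrix.one_mulVec]
  rw [Units.val_mul, ← Matrix.mulVec_mulVec, Matrix.mulVec_smul, hgi, Matrix.mulVec_smul,
    Matrix.mulVec_smul, es, smul_smul, smul_smul, smul_smul]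
  congr 1
  field_simp

end

end Cfsg.Agent.JankoThree
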