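import Cfsg.Agent.JankoThree.SubData

/-! Checks of the certificate `Sub`. -/

set_option autoImplicit false

namespace Cfsg.Agent.JankoThree.Sub

theorem stab_0 : allB 36 (fun i => cond (Nat.blt (0 * 36 + i) 36) (cert.stabB (0 * 36 + i)) true) = true := by
  decide +kernel

theorem stab_ok : ∀ i < 36, cert.stabB i = true := by
  refine Cert.forall_of_blocks (b := 36) (by norm_num) fun a ha => ?_
  obtain rfl : a = 0 := by omega
  exact stab_0

theorem hpar_0 : allB 36 (fun i => cond (Nat.blt (0 * 36 + i) 36) (cert.hparB (0 * 36 + i)) true) = true := by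
  decide +kernel

theorem hpar_ok : ∀ i < 36, cert.hparB i = true := by
  refine Cert.forall_of_blocks (b := 36) (by norm_num) fun a ha => ?_
  obtain rfl : a = 0 := by omega
  exact hpar_0

theorem hsort_0 : allB 36 (fun i => cond (Nat.blt (0 * 36 + i) 36) (cert.hsortB (0 * 36 + i)) true) = true := by
  decide +kernel

theorem hsort_ok : ∀ i < 36, cert.hsortB i = true := by
  refine Cert.forall_of_blocks (b := 36) (by norm_num) fun a ha => ?_
  obtain rfl : a = 0 := by omega
  exact hsort_0

end Cfsg.Agent.JankoThree.Sub
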