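import Cfsg.Agent.JankoThree.SubCheckPoint
import Cfsg.Agent.JankoThree.SubCheckStab

/-! The certificate `Sub` is valid. -/

set_option autoImplicit false

namespace Cfsg.Agent.JankoThree.Sub

theorem base_ok : cert.baseB = true := by decide +kernel

theorem valid : cert.Valid where
  base := base_ok
  point := point_ok
  stab := stab_ok
  par := par_ok
  hpar := hpar_ok
  key := key_ok
  sort := sort_ok
  hsort := hsort_ok

end Cfsg.Agent.JankoThree.Sub
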