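import Cfsg.Agent.JankoThree.Simple
import Cfsg.Agent.JankoThree.SubValid
import Mathlib.GroupTheory.GroupAction.Quotient

/-!
A subgroup of index 6156 of the central quotient, and the action on its cosets.
-/

set_option autoImplicit false

namespace Cfsg.Agent.JankoThree

open Cfsg.Spor (F9)
open Matrix

/-- The certificate of the subgroup. -/
noncomputable abbrev C1 : Cert := Sub.cert

theorem sub_codes : (subData.getD 0 (0, 0, 0)).1 = C1.g0 ∧ (subData.getD 1 (0, 0, 0)).1 = C1.g1 ∧
    mmul (C1.M.get 0) (C1.H.get 29) = scalM ∧ C1.N * C1.m = 24480 := by decide +kernel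

section

variable {F : Type*} [Field F] [Fintype F] {ω : F}

theorem exists_subgroup (hr : Root F ω) :
    ∃ K : Subgroup (Spor.J3 F ω), Nat.card K = 8160 := by
  obtain ⟨c0, c1, csc, cnm⟩ := sub_codes
  have hl : subData.length = 2 := rfl
  have hrow : ∀ k < 2, subData.getD k (0, 0, 0) ∈ genData ++ subData ++ nineteenData := by
    intro k hk
    have hk' : k < subData.length := by omega
    rw [List.getD_eq_getElem _ _ hk']
    exact List.mem_append_left _ (List.mem_append_right _ (List.getElem_mem hk'))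
  obtain ⟨b0, hb0, e0⟩ := mem_threeJ3 hr (hrow 0 (by norm_num))
  obtain ⟨b1, hb1, e1⟩ := mem_threeJ3 hr (hrow 1 (by norm_num))
  rw [c0] at e0
  rw [c1] at e1
  let S : Subgroup (GL F9 F) := Subgroup.closure {b0, b1}
  have hSle : S ≤ Spor.threeJ3 F ω := by
    refine (Subgroup.closure_le _).mpr ?_
    rintro x (rfl | rfl) <;> assumption
  have hS : Nat.card S = 24480 := by
    rw [Cert.card_closure C1 Sub.valid hr e0 e1, cnm]
  let K0 : Subgroup (Spor.threeJ3 F ω) := S.subgroupOf (Spor.threeJ3 F ω)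
  have hK0 : Nat.card K0 = 24480 := by
    rw [Nat.card_congr (Subgroup.subgroupOfEquivOfLe hSle).toEquiv, hS]
  have hcen : Subgroup.center (Spor.threeJ3 F ω) ≤ K0 := by
    obtain ⟨a, ha, ea⟩ := C1.exists_mover Sub.valid hr e0 e1 0 (by decide)
    obtain ⟨b, hb, eb⟩ := C1.exists_stab Sub.valid hr e0 e1 29 (by decide)
    have hab : a * b ∈ S := mul_mem ha hb
    have hv : ((a * b : GL F9 F) : Matrix F9 F9 F) = ω • (1 : Matrix F9 F9 F) := by
      rw [Units.val_mul, ea, eb, ← hr.den_mmul, csc, scalM, den_wvM hr, Root.den_idM]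
    let u : Spor.threeJ3 F ω := ⟨a * b, hSle hab⟩
    have hu : u ∈ Subgroup.center (Spor.threeJ3 F ω) := scalar_mem_center (c := ω) hv
    have hne : u ≠ 1 := by
      intro e
      have h := congrArg (fun x : Spor.threeJ3 F ω => ((x : GL F9 F) : Matrix F9 F9 F) 0 0) e
      simp only [u] at h
      rw [hv] at h
      simp at h
      exact hr.ne_one h
    intro g hg
    have := Fact.mk Nat.prime_three
    have hz : Subgroup.zpowers (⟨u, hu⟩ : Subgroup.center (Spor.threeJ3 F ω)) = ⊤ :=
      zpowers_eq_top_of_prime_card (card_center hr) (fun e => hne (congrArg Subtype.val e))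
    obtain ⟨n, hn⟩ := Subgroup.mem_zpowers_iff.mp
      (hz ▸ Subgroup.mem_top (⟨g, hg⟩ : Subgroup.center (Spor.threeJ3 F ω)))
    rw [← show u ^ n = g from congrArg Subtype.val hn]
    exact zpow_mem (show u ∈ K0 from hab) n
  refine ⟨K0.map (QuotientGroup.mk' _), ?_⟩
  have hidx : (K0.map (QuotientGroup.mk' (Subgroup.center (Spor.threeJ3 F ω)))).index = K0.index :=
    Subgroup.index_map_eq _ (QuotientGroup.mk'_surjective _) (by rwa [QuotientGroup.ker_mk'])
  have h1 := Subgroup.card_mul_index (K0.map (QuotientGroup.mk' (Subgroup.center (Spor.threeJ3 F ω))))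
  have h2 := Subgroup.card_mul_index K0
  rw [hidx] at h1
  rw [hK0, card_threeJ3 hr] at h2
  have h6 : K0.index = 6156 := by omega
  rw [h6] at h1
  have hQ := card_J3 hr
  change Nat.card (Spor.threeJ3 F ω ⧸ Subgroup.center (Spor.threeJ3 F ω)) = 50232960 at hQ
  rw [hQ] at h1
  exact Nat.eq_of_mul_eq_mul_right (by norm_num : 0 < 6156) (h1.trans (by norm_num))

theorem exists_perm (hr : Root F ω) : ∃ H : Subgroup (Equiv.Perm (Fin 6156)),
    IsJ3 H ∧ MulAction.IsPretransitive H (Fin 6156) ∧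
      Nat.card (MulAction.stabilizer H (0 : Fin 6156)) = 8160 := by
  obtain ⟨K, hK⟩ := exists_subgroup hr
  have := isSimple_J3 hr
  have hQ := card_J3 hr
  have hn : Nat.card (Spor.J3 F ω ⧸ K) = 6156 := by
    have h := Subgroup.card_eq_card_quotient_mul_card_subgroup K
    rw [hQ, hK] at h
    omega
  have : Finite (Spor.J3 F ω ⧸ K) := Nat.finite_of_card_ne_zero (by omega)
  let e' := Finite.equivFinOfCardEq hn
  let e : Spor.J3 F ω ⧸ K ≃ Fin 6156 :=
    e'.trans (Equiv.swap (e' (QuotientGroup.mk 1)) 0)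
  let ψ : Spor.J3 F ω →* Equiv.Perm (Fin 6156) :=
    (e.permCongrHom.toMonoidHom).comp (MulAction.toPermHom (Spor.J3 F ω) (Spor.J3 F ω ⧸ K))
  have hψ : ∀ g x, ψ g (e x) = e (g • x) := fun g x => by
    simp [ψ, Equiv.permCongrHom, Equiv.permCongr_apply]
  have hinj : Function.Injective ψ := by
    rw [← MonoidHom.ker_eq_bot_iff]
    refine ((MonoidHom.normal_ker ψ).eq_bot_or_eq_top).resolve_right fun htop => ?_
    have hall : ∀ g : Spor.J3 F ω, g ∈ K := fun g => by
      have hg : ψ g = 1 := MonoidHom.mem_ker.mp (htop ▸ Subgroup.mem_top g)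
      have h := hψ g (QuotientGroup.mk 1)
      rw [hg, Equiv.Perm.one_apply] at h
      have h2 := e.injective h
      rw [MulAction.Quotient.smul_mk, smul_eq_mul, mul_one, QuotientGroup.eq] at h2
      simpa using h2
    have : Nat.card K = Nat.card (Spor.J3 F ω) :=
      Nat.card_congr (Equiv.subtypeUnivEquiv hall)
    omega
  let iso : Spor.J3 F ω ≃* ψ.range := MonoidHom.ofInjective hinj
  have hcard : Nat.card ψ.range = 50232960 := by rw [← Nat.card_congr iso.toEquiv, hQ]
  have htrans : MulAction.IsPretransitive ψ.range (Fin 6156) := ⟨fun a b => by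
    obtain ⟨g, hg⟩ := MulAction.exists_smul_eq (Spor.J3 F ω) (e.symm a) (e.symm b)
    refine ⟨⟨ψ g, g, rfl⟩, ?_⟩
    change ψ g a = b
    rw [← e.apply_symm_apply a, hψ, hg, e.apply_symm_apply]⟩
  refine ⟨ψ.range, ⟨iso.symm.isSimpleGroup, hcard⟩, htrans, ?_⟩
  have h := Subgroup.card_mul_index (MulAction.stabilizer ψ.range (0 : Fin 6156))
  rw [MulAction.index_stabilizer_of_transitive ψ.range (0 : Fin 6156), Nat.card_fin, hcard] at h
  omega

theorem exists_field : ∃ (F : Type) (_ : Field F) (_ : Fintype F) (ω : F),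
    Fintype.card F = 4 ∧ ω ^ 2 + ω + 1 = 0 := by
  have := Fact.mk Nat.prime_two
  letI : Fintype (GaloisField 2 2) := Fintype.ofFinite _
  have hc : Fintype.card (GaloisField 2 2) = 4 := by
    rw [← Nat.card_eq_fintype_card, GaloisField.card 2 2 (by norm_num)]; norm_num
  obtain ⟨a, ha0, ha1⟩ : ∃ a : GaloisField 2 2, a ≠ 0 ∧ a ≠ 1 := by
    classical
    obtain ⟨a, ha⟩ : (({0, 1} : Finset (GaloisField 2 2))ᶜ).Nonempty := by
      rw [← Finset.card_pos, Finset.card_compl, hc, Finset.card_pair zero_ne_one]; norm_num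
    exact ⟨a, by simp_all, by simp_all⟩
  refine ⟨GaloisField 2 2, inferInstance, inferInstance, a, hc, ?_⟩
  have h3 := FiniteField.pow_card_sub_one_eq_one a ha0
  rw [hc] at h3
  have : (a - 1) * (a ^ 2 + a + 1) = 0 := by linear_combination h3
  exact (mul_eq_zero.mp this).resolve_left (sub_ne_zero.mpr ha1)

end

end Cfsg.Agent.JankoThree
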