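import Cfsg.Agent.JankoThree.SubData

/-! Checks of the certificate `Sub`. -/

set_option autoImplicit false

namespace Cfsg.Agent.JankoThree.Sub

theorem point_0 : allB 680 (fun i => cond (Nat.blt (0 * 680 + i) 680) (cert.pointB (0 * 680 + i)) true) = true := by
  decide +kernel

theorem point_ok : ∀ i < 680, cert.pointB i = true := by
  refine Cert.forall_of_blocks (b := 680) (by norm_num) fun a ha => ?_
  obtain rfl : a = 0 := by omega
  exact point_0

theorem par_0 : allB 680 (fun i => cond (Nat.blt (0 * 680 + i) 680) (cert.parB (0 * 680 + i)) true) = true := by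
  decide +kernel

theorem par_ok : ∀ i < 680, cert.parB i = true := by
  refine Cert.forall_of_blocks (b := 680) (by norm_num) fun a ha => ?_
  obtain rfl : a = 0 := by omega
  exact par_0

theorem key_0 : allB 680 (fun i => cond (Nat.blt (0 * 680 + i) 680) (cert.keyB (0 * 680 + i)) true) = true := by
  decide +kernel

theorem key_ok : ∀ i < 680, cert.keyB i = true := by
  refine Cert.forall_of_blocks (b := 680) (by norm_num) fun a ha => ?_
  obtain rfl : a = 0 := by omega
  exact key_0

theorem sort_0 : allB 680 (fun i => cond (Nat.blt (0 * 680 + i) 680) (cert.sortB (0 * 680 + i)) true) = true := by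
  decide +kernel

theorem sort_ok : ∀ i < 680, cert.sortB i = true := by
  refine Cert.forall_of_blocks (b := 680) (by norm_num) fun a ha => ?_
  obtain rfl : a = 0 := by omega
  exact sort_0

end Cfsg.Agent.JankoThree.Sub
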