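import Cfsg.Agent.JankoThree.Cert

/-! Generated certificate tables (Sub, part B). -/

set_option autoImplicit false
set_option linter.all false

namespace Cfsg.Agent.JankoThree.Sub

def hT0 : NT := .node (.node (.node (.node (.node (.node (.leaf 5709001659880350221312270831439550521480314881) (.leaf 3612960373008389045570009286350873916009153544)) (.node (.leaf 2882806260781759643633397578674878336877893590983) (.leaf 0))) (.node (.node (.leaf 2889225133724080909311358211413331986483894258120) (.leaf 0)) (.node (.leaf 9290967177884513927834518167053341822650946571) (.leaf 0)))) (.node (.node (.node (.leaf 2581925889768010923125543394207398241690584162246) (.leaf 0)) (.node (.leaf 319976716317099243544792303751480279493773624449) (.leaf 0))) (.node (.node (.leaf 1849724334770791156553430171919373198391937143938) (.leaf 0)) (.node (.leaf 4749896551301998100770526602863185564411876344330) (.leaf 0))))) (.node (.node (.node (.node (.leaf 16476026657012009835658862988409801444008625677) (.leaf 2591921786254310869846894081058848623129079029187)) (.node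 (.leaf 4755605278013725974872924259194284650799851373067) (.leaf 0))) (.node (.node (.leaf 2755965771219443656584822745312248196568641149763) (.leaf 0)) (.node (.leaf 2023052586520968007315427434056650818882279539725) (.leaf 0)))) (.node (.node (.node (.leaf 2710016079510945113730547793903332945006491574210) (.leaf 0)) (.node (.leaf 91968333120671295895418142547611783440049636992) (.leaf 0))) (.node (.node (.leaf 183320542873564149920957637459678966452499056130) (.leaf 0)) (.node (.leaf 2654630459256383284162574487639083063556135983556) (.leaf 0)))))) (.node (.node (.node (.node (.node (.leaf 2926583860515587062210668111606829182082483492362) (.leaf 2928717851518619663533194936528489417519401533953)) (.node (.leaf 2585526567646304600177934601092219947194640505806) (.leaf 0))) (.node (.node (.leaf 2159715634858680131407461559491157090687735203470) (.leaf 0)) (.node (.leaf 320157877268573913622786579746330410741159231619) (.leaf 0)))) (.node (.node (.node (.leaf 228546443247169281329770439898941199337220277763) (.leaf 0)) (.node (.leaf 1055750917136279757462500375426738729989594946511)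 (.leaf 0))) (.node (.node (.leaf 108388830351345865172415681792756496945975300239) (.leaf 0)) (.node (.leaf 2923008849858739313311882665697049866997921219072) (.leaf 0))))) (.node (.node (.node (.node (.leaf 4759160686141234165950702052081470912346253694465) (.leaf 1836159066091803743565470802310595985698446119937)) (.node (.leaf 2797624492035087369702662342919087660054497169224) (.leaf 0))) (.node (.node (.leaf 244971845648121711042456440626267380033640435724) (.leaf 0)) (.node (.leaf 1866188363068864836088709508989153855039235068559) (.leaf 0)))) (.node (.node (.node (.leaf 1853336946521834025644084942693160044800979767434) (.leaf 0)) (.node (.leaf 745810127720751720646234641942926275037908929865) (.leaf 0))) (.node (.node (.leaf 137375394445751097382225220981724147572156465795) (.leaf 0)) (.node (.leaf 873146032529818842288784993931147022053879913933) (.leaf 0))))))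

def hT : NT := hT0

def he0T0 : NT := .node (.node (.node (.node (.node (.node (.leaf 1) (.leaf 19)) (.node (.leaf 6) (.leaf 0))) (.node (.node (.leaf 15) (.leaf 0)) (.node (.leaf 29) (.leaf 0)))) (.node (.node (.node (.leaf 8) (.leaf 0)) (.node (.leaf 27) (.leaf 0))) (.node (.node (.leaf 16) (.leaf 0)) (.node (.leaf 33) (.leaf 0))))) (.node (.node (.node (.node (.leaf 5) (.leaf 25)) (.node (.leaf 24) (.leaf 0))) (.node (.node (.leaf 2) (.leaf 0)) (.node (.leaf 32) (.leaf 0)))) (.node (.node (.node (.leaf 12) (.leaf 0)) (.node (.leaf 9) (.leaf 0))) (.node (.node (.leaf 23) (.leaf 0)) (.node (.leaf 20) (.leaf 0)))))) (.node (.node (.node (.node (.node (.leaf 3) (.leaf 35)) (.node (.leaf 22) (.leaf 0))) (.node (.node (.leaf 17) (.leaf 0)) (.node (.leaf 31) (.leaf 0)))) (.node (.node (.node (.leaf 10) (.leaf 0)) (.node (.leaf 7) (.leaf 0))) (.node (.node (.leaf 21) (.leaf 0)) (.node (.leaf 18) (.leaf 0))))) (.node (.node (.node (.node (.leaf 0) (.leaf 28)) (.node (.leaf 26) (.leaf 0))) (.node (.node (.leaf 14) (.leaf 0)) (.node (.leaf 30) (.leaf 0))))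 (.node (.node (.node (.leaf 13) (.leaf 0)) (.node (.leaf 11) (.leaf 0))) (.node (.node (.leaf 4) (.leaf 0)) (.node (.leaf 34) (.leaf 0))))))

def he0T : NT := he0T0

def he1T0 : NT := .node (.node (.node (.node (.node (.node (.leaf 2) (.leaf 15)) (.node (.leaf 25) (.leaf 0))) (.node (.node (.leaf 16) (.leaf 0)) (.node (.leaf 32) (.leaf 0)))) (.node (.node (.node (.leaf 9) (.leaf 0)) (.node (.leaf 28) (.leaf 0))) (.node (.node (.leaf 20) (.leaf 0)) (.node (.leaf 12) (.leaf 0))))) (.node (.node (.node (.node (.leaf 6) (.leaf 21)) (.node (.leaf 27) (.leaf 0))) (.node (.node (.leaf 18) (.leaf 0)) (.node (.leaf 33) (.leaf 0)))) (.node (.node (.node (.leaf 0) (.leaf 0)) (.node (.leaf 30) (.leaf 0))) (.node (.node (.leaf 3) (.leaf 0)) (.node (.leaf 13) (.leaf 0)))))) (.node (.node (.node (.node (.node (.leaf 4) (.leaf 17)) (.node (.leaf 26) (.leaf 0))) (.node (.node (.leaf 1) (.leaf 0)) (.node (.leaf 8) (.leaf 0)))) (.node (.node (.node (.leaf 11) (.leaf 0)) (.node (.leaf 29) (.leaf 0))) (.node (.node (.leaf 22) (.leaf 0)) (.node (.leaf 34) (.leaf 0)))))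 (.node (.node (.node (.node (.leaf 7) (.leaf 23)) (.node (.leaf 5) (.leaf 0))) (.node (.node (.leaf 19) (.leaf 0)) (.node (.leaf 10) (.leaf 0)))) (.node (.node (.node (.leaf 14) (.leaf 0)) (.node (.leaf 31) (.leaf 0))) (.node (.node (.leaf 24) (.leaf 0)) (.node (.leaf 35) (.leaf 0))))))

def he1T : NT := he1T0

def hpT0 : NT := .node (.node (.node (.node (.node (.node (.leaf 0) (.leaf 49)) (.node (.leaf 17) (.leaf 0))) (.node (.node (.leaf 8) (.leaf 0)) (.node (.leaf 31) (.leaf 0)))) (.node (.node (.node (.leaf 3) (.leaf 0)) (.node (.leaf 25) (.leaf 0))) (.node (.node (.leaf 12) (.leaf 0)) (.node (.leaf 41) (.leaf 0))))) (.node (.node (.node (.node (.leaf 1) (.leaf 59)) (.node (.leaf 21) (.leaf 0))) (.node (.node (.leaf 10) (.leaf 0)) (.node (.leaf 35) (.leaf 0)))) (.node (.node (.node (.leaf 5) (.leaf 0)) (.node (.leaf 27) (.leaf 0))) (.node (.node (.leaf 15) (.leaf 0)) (.node (.leaf 45) (.leaf 0)))))) (.node (.node (.node (.node (.node (.leaf 0) (.leaf 53)) (.node (.leaf 18) (.leaf 0))) (.node (.node (.leaf 9) (.leaf 0)) (.node (.leaf 33) (.leaf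 0)))) (.node (.node (.node (.leaf 4) (.leaf 0)) (.node (.leaf 26) (.leaf 0))) (.node (.node (.leaf 14) (.leaf 0)) (.node (.leaf 43) (.leaf 0))))) (.node (.node (.node (.node (.leaf 2) (.leaf 63)) (.node (.leaf 23) (.leaf 0))) (.node (.node (.leaf 11) (.leaf 0)) (.node (.leaf 37) (.leaf 0)))) (.node (.node (.node (.leaf 7) (.leaf 0)) (.node (.leaf 28) (.leaf 0))) (.node (.node (.leaf 16) (.leaf 0)) (.node (.leaf 47) (.leaf 0))))))

def hpT : NT := hpT0

def ohT0 : NT := .node (.node (.node (.node (.node (.node (.leaf 32) (.leaf 33)) (.node (.leaf 12) (.leaf 0))) (.node (.node (.leaf 5) (.leaf 0)) (.node (.leaf 30) (.leaf 0)))) (.node (.node (.node (.leaf 22) (.leaf 0)) (.node (.leaf 9) (.leaf 0))) (.node (.node (.leaf 23) (.leaf 0)) (.node (.leaf 16) (.leaf 0))))) (.node (.node (.node (.node (.leaf 24) (.leaf 18)) (.node (.leaf 27) (.leaf 0))) (.node (.node (.leaf 20) (.leaf 0)) (.node (.leaf 10) (.leaf 0)))) (.node (.node (.node (.leaf 15) (.leaf 0)) (.node (.leaf 17) (.leaf 0))) (.node (.node (.leaf 21) (.leaf 0)) (.node (.leaf 29) (.leaf 0))))))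 (.node (.node (.node (.node (.node (.leaf 0) (.leaf 28)) (.node (.leaf 7) (.leaf 0))) (.node (.node (.leaf 11) (.leaf 0)) (.node (.leaf 6) (.leaf 0)))) (.node (.node (.node (.leaf 13) (.leaf 0)) (.node (.leaf 4) (.leaf 0))) (.node (.node (.leaf 31) (.leaf 0)) (.node (.leaf 8) (.leaf 0))))) (.node (.node (.node (.node (.leaf 2) (.leaf 3)) (.node (.leaf 26) (.leaf 0))) (.node (.node (.leaf 25) (.leaf 0)) (.node (.leaf 19) (.leaf 0)))) (.node (.node (.node (.leaf 14) (.leaf 0)) (.node (.leaf 34) (.leaf 0))) (.node (.node (.leaf 35) (.leaf 0)) (.node (.leaf 1) (.leaf 0))))))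

def ohT : NT := ohT0

end Cfsg.Agent.JankoThree.Sub
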