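import Cfsg.Agent.JankoThree.Cert

/-! Generated certificate tables (Sub, part C). -/

set_option autoImplicit false
set_option linter.all false

namespace Cfsg.Agent.JankoThree.Sub

def e0T0 : NT := .node (.node (.node (.node (.node (.node (.node (.node (.leaf 8192) (.leaf 5226496)) (.node (.leaf 1400867) (.leaf 0))) (.node (.node (.leaf 1818624) (.leaf 5545984)) (.node (.leaf 253980) (.leaf 0)))) (.node (.node (.node (.leaf 974848) (.leaf 999425)) (.node (.leaf 3866624) (.leaf 0))) (.node (.node (.leaf 2596864) (.leaf 0)) (.node (.leaf 4784128) (.leaf 0))))) (.node (.node (.node (.node (.leaf 507904) (.leaf 5357568)) (.node (.leaf 3555328) (.leaf 0))) (.node (.node (.leaf 2220032) (.leaf 5464088)) (.node (.leaf 196637) (.leaf 0)))) (.node (.node (.node (.leaf 1409024) (.leaf 5414934)) (.node (.leaf 2490393) (.leaf 0))) (.node (.node (.leaf 2924544) (.leaf 0)) (.node (.leaf 4014098) (.leaf 0)))))) (.node (.node (.node (.node (.node (.leaf 262144) (.leaf 5283840)) (.node (.leaf 1433629) (.leaf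 0))) (.node (.node (.leaf 2023424) (.leaf 4497423)) (.node (.leaf 4489216) (.leaf 0)))) (.node (.node (.node (.leaf 1196032) (.leaf 516106)) (.node (.leaf 1499138) (.leaf 0))) (.node (.node (.leaf 2408452) (.leaf 0)) (.node (.leaf 1589255) (.leaf 0))))) (.node (.node (.node (.node (.leaf 720896) (.leaf 4898817)) (.node (.leaf 3719168) (.leaf 0))) (.node (.node (.leaf 2441216) (.leaf 0)) (.node (.leaf 4669440) (.leaf 0)))) (.node (.node (.node (.leaf 1605632) (.leaf 3530754)) (.node (.leaf 4227072) (.leaf 0))) (.node (.node (.leaf 2932740) (.leaf 0)) (.node (.leaf 5128192) (.leaf 0))))))) (.node (.node (.node (.node (.node (.node (.leaf 139264) (.leaf 5185568)) (.node (.leaf 3325952) (.leaf 0))) (.node (.node (.leaf 1925120) (.leaf 4046866)) (.node (.leaf 3932164) (.leaf 0)))) (.node (.node (.node (.leaf 1089536) (.leaf 3760150)) (.node (.leaf 1802269) (.leaf 0))) (.node (.node (.leaf 2678784) (.leaf 0)) (.node (.leaf 4866048) (.leaf 0))))) (.node (.node (.node (.node (.leaf 573440) (.leaf 4931604))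 (.node (.leaf 3645440) (.leaf 0))) (.node (.node (.leaf 2318336) (.leaf 0)) (.node (.leaf 1343498) (.leaf 0)))) (.node (.node (.node (.leaf 114703) (.leaf 4005900)) (.node (.leaf 4177920) (.leaf 0))) (.node (.node (.leaf 3031040) (.leaf 0)) (.node (.leaf 1769478) (.leaf 0)))))) (.node (.node (.node (.node (.node (.leaf 385024) (.leaf 5324800)) (.node (.leaf 3497984) (.leaf 0))) (.node (.node (.leaf 2129920) (.leaf 3981341)) (.node (.leaf 3432472) (.leaf 0)))) (.node (.node (.node (.leaf 1302528) (.leaf 3563543)) (.node (.leaf 4079616) (.leaf 0))) (.node (.node (.leaf 2826240) (.leaf 0)) (.node (.leaf 4554757) (.leaf 0))))) (.node (.node (.node (.node (.leaf 843776) (.leaf 2031642)) (.node (.leaf 3784704) (.leaf 0))) (.node (.node (.leaf 2359305) (.leaf 0)) (.node (.leaf 1105927) (.leaf 0)))) (.node (.node (.node (.leaf 1712128) (.leaf 2252810)) (.node (.leaf 4308992) (.leaf 0))) (.node (.node (.leaf 1687574) (.leaf 0)) (.node (.leaf 4415511) (.leaf 0)))))))) (.node (.node (.node (.node (.node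 (.node (.node (.leaf 73728) (.leaf 2203677)) (.node (.leaf 3284992) (.leaf 0))) (.node (.node (.leaf 237596) (.leaf 3858453)) (.node (.leaf 4390912) (.leaf 0)))) (.node (.node (.node (.leaf 983040) (.leaf 1916935)) (.node (.leaf 3792908) (.leaf 0))) (.node (.node (.leaf 2646016) (.leaf 0)) (.node (.leaf 4833280) (.leaf 0))))) (.node (.node (.node (.node (.leaf 565248) (.leaf 3604493)) (.node (.leaf 3596288) (.leaf 0))) (.node (.node (.leaf 2260992) (.leaf 4997150)) (.node (.leaf 483355) (.leaf 0)))) (.node (.node (.node (.leaf 761862) (.leaf 4988960)) (.node (.leaf 4145152) (.leaf 0))) (.node (.node (.leaf 2981888) (.leaf 0)) (.node (.leaf 5013504) (.leaf 0)))))) (.node (.node (.node (.node (.node (.leaf 319488) (.leaf 4030491)) (.node (.leaf 2760719) (.leaf 0))) (.node (.node (.leaf 2080768) (.leaf 2473992)) (.node (.leaf 393239) (.leaf 0)))) (.node (.node (.node (.leaf 819221) (.leaf 5488640)) (.node (.leaf 4038656) (.leaf 0))) (.node (.node (.leaf 2768896) (.leaf 0)) (.node (.leaf 4915200)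 (.leaf 0))))) (.node (.node (.node (.node (.leaf 786432) (.leaf 3153928)) (.node (.leaf 1613835) (.leaf 0))) (.node (.node (.leaf 65542) (.leaf 0)) (.node (.leaf 4694016) (.leaf 0)))) (.node (.node (.node (.leaf 1662976) (.leaf 2269191)) (.node (.leaf 3514371) (.leaf 0))) (.node (.node (.leaf 3129344) (.leaf 0)) (.node (.leaf 5152768) (.leaf 0))))))) (.node (.node (.node (.node (.node (.node (.leaf 204800) (.leaf 2326543)) (.node (.leaf 2973705) (.leaf 0))) (.node (.node (.leaf 1376290) (.leaf 5210113)) (.node (.leaf 2867226) (.leaf 0)))) (.node (.node (.node (.leaf 1138688) (.leaf 4653083)) (.node (.leaf 1843201) (.leaf 0))) (.node (.node (.leaf 2719744) (.leaf 0)) (.node (.leaf 4874240) (.leaf 0))))) (.node (.node (.node (.node (.leaf 671744) (.leaf 4857856)) (.node (.leaf 778246) (.leaf 0))) (.node (.node (.leaf 2383872) (.leaf 0)) (.node (.leaf 4366341) (.leaf 0)))) (.node (.node (.node (.leaf 1556480) (.leaf 622607)) (.node (.leaf 2375710) (.leaf 0))) (.node (.node (.leaf 3063808) (.leaf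 0)) (.node (.leaf 3481623) (.leaf 0)))))) (.node (.node (.node (.node (.node (.leaf 442368) (.leaf 1032205)) (.node (.leaf 3506176) (.leaf 0))) (.node (.node (.leaf 794632) (.leaf 5267490)) (.node (.leaf 901147) (.leaf 0)))) (.node (.node (.node (.leaf 180240) (.leaf 3006479)) (.node (.leaf 1097746) (.leaf 0))) (.node (.node (.leaf 2285576) (.leaf 0)) (.node (.leaf 4218899) (.leaf 0))))) (.node (.node (.node (.node (.leaf 909312) (.leaf 3842059)) (.node (.leaf 3833856) (.leaf 0))) (.node (.node (.leaf 2064408) (.leaf 0)) (.node (.leaf 4759552) (.leaf 0)))) (.node (.node (.node (.leaf 1761280) (.leaf 2940936)) (.node (.leaf 4325376) (.leaf 0))) (.node (.node (.leaf 3211264) (.leaf 0)) (.node (.leaf 5201920) (.leaf 0))))))))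

def e0T1 : NT := .node (.node (.node (.node (.node (.node (.node (.node (.leaf 24576) (.leaf 5234688)) (.node (.leaf 3252224) (.leaf 0))) (.node (.node (.leaf 1835008) (.leaf 589853)) (.node (.leaf 2523163) (.leaf 0)))) (.node (.node (.node (.leaf 991232) (.leaf 5472256)) (.node (.leaf 1294352) (.leaf 0))) (.node (.node (.leaf 2605056) (.leaf 0)) (.node (.leaf 4644872) (.leaf 0))))) (.node (.node (.node (.node (.leaf 524288) (.leaf 4841480)) (.node (.leaf 729112) (.leaf 0))) (.node (.node (.leaf 1581078) (.leaf 5169167)) (.node (.leaf 4603904) (.leaf 0)))) (.node (.node (.node (.leaf 1425408) (.leaf 4096021)) (.node (.leaf 4104192) (.leaf 0))) (.node (.node (.leaf 1253409) (.leaf 0)) (.node (.leaf 4947988) (.leaf 0)))))) (.node (.node (.node (.node (.node (.leaf 278528) (.leaf 1359906)) (.node (.leaf 3416064) (.leaf 0))) (.node (.node (.leaf 2039808) (.leaf 1327116)) (.node (.leaf 1703967) (.leaf 0)))) (.node (.node (.node (.leaf 1212416) (.leaf 3964946)) (.node (.leaf 131101) (.leaf 0)))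 (.node (.node (.leaf 2342942) (.leaf 0)) (.node (.leaf 638982) (.leaf 0))))) (.node (.node (.node (.node (.leaf 737280) (.leaf 3039243)) (.node (.leaf 745506) (.leaf 0))) (.node (.node (.leaf 2449408) (.leaf 0)) (.node (.leaf 4677632) (.leaf 0)))) (.node (.node (.node (.leaf 1622016) (.leaf 4735009)) (.node (.leaf 4235264) (.leaf 0))) (.node (.node (.leaf 3104768) (.leaf 0)) (.node (.leaf 5136384) (.leaf 0))))))) (.node (.node (.node (.node (.node (.node (.leaf 155648) (.leaf 5259264)) (.node (.leaf 3334144) (.leaf 0))) (.node (.node (.leaf 1941504) (.leaf 5554176)) (.node (.leaf 4431872) (.leaf 0)))) (.node (.node (.node (.leaf 868354) (.leaf 2301962)) (.node (.leaf 3940352) (.leaf 0))) (.node (.node (.leaf 2695168) (.leaf 0)) (.node (.leaf 4579335) (.leaf 0))))) (.node (.node (.node (.node (.leaf 630784) (.leaf 4800537)) (.node (.leaf 3653632) (.leaf 0))) (.node (.node (.leaf 2334720) (.leaf 0)) (.node (.leaf 4087813) (.leaf 0)))) (.node (.node (.node (.leaf 1531904) (.leaf 5087250)) (.node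 (.leaf 2916360) (.leaf 0))) (.node (.node (.leaf 3047424) (.leaf 0)) (.node (.leaf 3121157) (.leaf 0)))))) (.node (.node (.node (.node (.node (.leaf 401408) (.leaf 5341184)) (.node (.leaf 1237021) (.leaf 0))) (.node (.node (.leaf 2146304) (.leaf 2531362)) (.node (.leaf 532500) (.leaf 0)))) (.node (.node (.node (.leaf 1318912) (.leaf 3899421)) (.node (.leaf 221216) (.leaf 0))) (.node (.node (.leaf 2842624) (.leaf 0)) (.node (.leaf 2736157) (.leaf 0))))) (.node (.node (.node (.node (.leaf 860160) (.leaf 4612109)) (.node (.leaf 3801088) (.leaf 0))) (.node (.node (.leaf 1884183) (.leaf 0)) (.node (.leaf 1204256) (.leaf 0)))) (.node (.node (.node (.leaf 1146898) (.leaf 5349399)) (.node (.leaf 2424845) (.leaf 0))) (.node (.node (.leaf 3178496) (.leaf 0)) (.node (.leaf 4530195) (.leaf 0)))))))) (.node (.node (.node (.node (.node (.node (.node (.leaf 90112) (.leaf 3407896)) (.node (.leaf 2883616) (.leaf 0))) (.node (.node (.leaf 1875968) (.leaf 3473409)) (.node (.leaf 286739) (.leaf 0)))) (.node (.node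 (.node (.leaf 1048576) (.leaf 3751946)) (.node (.leaf 3907584) (.leaf 0))) (.node (.node (.leaf 1261593) (.leaf 0)) (.node (.leaf 2097175) (.leaf 0))))) (.node (.node (.node (.node (.leaf 581632) (.leaf 4349963)) (.node (.leaf 3612672) (.leaf 0))) (.node (.node (.leaf 2277376) (.leaf 3915809)) (.node (.leaf 4136974) (.leaf 0)))) (.node (.node (.node (.leaf 1482752) (.leaf 2711571)) (.node (.leaf 2179075) (.leaf 0))) (.node (.node (.leaf 2990080) (.leaf 0)) (.node (.leaf 5021696) (.leaf 0)))))) (.node (.node (.node (.node (.node (.leaf 335872) (.leaf 5275670)) (.node (.leaf 3465216) (.leaf 0))) (.node (.node (.leaf 32797) (.leaf 1679386)) (.node (.leaf 2588702) (.leaf 0)))) (.node (.node (.node (.leaf 1269760) (.leaf 1990683)) (.node (.leaf 3375133) (.leaf 0))) (.node (.node (.leaf 2777088) (.leaf 0)) (.node (.leaf 3268642) (.leaf 0))))) (.node (.node (.node (.node (.leaf 29) (.leaf 5439488)) (.node (.leaf 3743744) (.leaf 0))) (.node (.node (.leaf 81937) (.leaf 0)) (.node (.leaf 4710400) (.leaf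 0)))) (.node (.node (.node (.leaf 1671168) (.leaf 4980752)) (.node (.leaf 4268032) (.leaf 0))) (.node (.node (.leaf 3145728) (.leaf 0)) (.node (.leaf 2875393) (.leaf 0))))))) (.node (.node (.node (.node (.node (.node (.leaf 147460) (.leaf 3571745)) (.node (.leaf 1826831) (.leaf 0))) (.node (.node (.leaf 1982464) (.leaf 5496849)) (.node (.leaf 4456448) (.leaf 0)))) (.node (.node (.node (.leaf 1155072) (.leaf 1810460)) (.node (.leaf 3678211) (.leaf 0))) (.node (.node (.leaf 2048004) (.leaf 0)) (.node (.leaf 3391490) (.leaf 0))))) (.node (.node (.node (.node (.leaf 466955) (.leaf 4071427)) (.node (.leaf 3686400) (.leaf 0))) (.node (.node (.leaf 2400256) (.leaf 0)) (.node (.leaf 327686) (.leaf 0)))) (.node (.node (.node (.leaf 1572864) (.leaf 4522002)) (.node (.leaf 4202496) (.leaf 0))) (.node (.node (.leaf 3080192) (.leaf 0)) (.node (.leaf 5095424) (.leaf 0)))))) (.node (.node (.node (.node (.node (.leaf 458752) (.leaf 5316617)) (.node (.leaf 3522560) (.leaf 0))) (.node (.node (.leaf 2195456)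 (.leaf 3874833)) (.node (.leaf 4571136) (.leaf 0)))) (.node (.node (.node (.leaf 1310720) (.leaf 4907016)) (.node (.leaf 1163269) (.leaf 0))) (.node (.node (.leaf 851996) (.leaf 0)) (.node (.leaf 3293202) (.leaf 0))))) (.node (.node (.node (.node (.leaf 925696) (.leaf 5455872)) (.node (.leaf 3850240) (.leaf 0))) (.node (.node (.leaf 2564096) (.leaf 0)) (.node (.leaf 835606) (.leaf 0)))) (.node (.node (.node (.leaf 1777664) (.leaf 5292039)) (.node (.leaf 4333568) (.leaf 0))) (.node (.node (.leaf 1785882) (.leaf 0)) (.node (.leaf 1450004) (.leaf 0))))))))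

def e0T2 : NT := .node (.node (.node (.node (.node (.node (.node (.node (.leaf 40960) (.leaf 3637256)) (.node (.leaf 2072584) (.leaf 0))) (.node (.node (.leaf 1851392) (.leaf 1867810)) (.node (.leaf 4153369) (.leaf 0)))) (.node (.node (.node (.leaf 1007616) (.leaf 5046303)) (.node (.leaf 3883008) (.leaf 0))) (.node (.node (.leaf 2621440) (.leaf 0)) (.node (.leaf 4808704) (.leaf 0))))) (.node (.node (.node (.node (.leaf 540672) (.leaf 5242897)) (.node (.leaf 802850) (.leaf 0))) (.node (.node (.leaf 2236416) (.leaf 3055622)) (.node (.leaf 2629648) (.leaf 0)))) (.node (.node (.node (.leaf 1441792) (.leaf 499741)) (.node (.leaf 4120576) (.leaf 0))) (.node (.node (.leaf 2949120) (.leaf 0)) (.node (.leaf 3342364) (.leaf 0)))))) (.node (.node (.node (.node (.node (.leaf 294912) (.leaf 3620898)) (.node (.leaf 3424256) (.leaf 0))) (.node (.node (.leaf 2056192) (.leaf 5447712)) (.node (.leaf 4505600) (.leaf 0)))) (.node (.node (.node (.leaf 1228800) (.leaf 5480448)) (.node (.leaf 1515548) (.leaf 0)))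 (.node (.node (.leaf 1130525) (.leaf 0)) (.node (.leaf 1081378) (.leaf 0))))) (.node (.node (.node (.node (.leaf 753664) (.leaf 5431296)) (.node (.leaf 1736723) (.leaf 0))) (.node (.node (.leaf 2465792) (.leaf 0)) (.node (.leaf 4685824) (.leaf 0)))) (.node (.node (.node (.leaf 1638400) (.leaf 4751391)) (.node (.leaf 4243456) (.leaf 0))) (.node (.node (.leaf 2433026) (.leaf 0)) (.node (.leaf 2899994) (.leaf 0))))))) (.node (.node (.node (.node (.node (.node (.leaf 172032) (.leaf 2801666)) (.node (.leaf 3350528) (.leaf 0))) (.node (.node (.leaf 950285) (.leaf 1646626)) (.node (.leaf 3448840) (.leaf 0)))) (.node (.node (.node (.leaf 1114112) (.leaf 434205)) (.node (.leaf 2654226) (.leaf 0))) (.node (.node (.leaf 2703360) (.leaf 0)) (.node (.leaf 4628499) (.leaf 0))))) (.node (.node (.node (.node (.leaf 647168) (.leaf 5365783)) (.node (.leaf 3661824) (.leaf 0))) (.node (.node (.leaf 2351104) (.leaf 0)) (.node (.leaf 3366918) (.leaf 0)))) (.node (.node (.node (.leaf 1540096) (.leaf 2752535)) (.node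 (.leaf 4186112) (.leaf 0))) (.node (.node (.leaf 3022848) (.leaf 0)) (.node (.leaf 5062656) (.leaf 0)))))) (.node (.node (.node (.node (.node (.leaf 344064) (.leaf 3309586)) (.node (.leaf 3186700) (.leaf 0))) (.node (.node (.leaf 2162688) (.leaf 2498585)) (.node (.leaf 4546560) (.leaf 0)))) (.node (.node (.node (.leaf 1335296) (.leaf 2818058)) (.node (.leaf 3096593) (.leaf 0))) (.node (.node (.leaf 2859008) (.leaf 0)) (.node (.leaf 4562956) (.leaf 0))))) (.node (.node (.node (.node (.leaf 876544) (.leaf 4423686)) (.node (.leaf 3809280) (.leaf 0))) (.node (.node (.leaf 49181) (.leaf 0)) (.node (.leaf 4464671) (.leaf 0)))) (.node (.node (.node (.leaf 1728512) (.leaf 4923411)) (.node (.leaf 4317184) (.leaf 0))) (.node (.node (.leaf 1548321) (.leaf 0)) (.node (.leaf 5193728) (.leaf 0)))))))) (.node (.node (.node (.node (.node (.node (.node (.leaf 106496) (.leaf 1720341)) (.node (.leaf 3301376) (.leaf 0))) (.node (.node (.leaf 1892352) (.leaf 5505051)) (.node (.leaf 4407296) (.leaf 0)))) (.node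 (.node (.node (.leaf 1064960) (.leaf 5308448)) (.node (.leaf 3923968) (.leaf 0))) (.node (.node (.leaf 2662400) (.leaf 0)) (.node (.leaf 4849664) (.leaf 0))))) (.node (.node (.node (.node (.leaf 598016) (.leaf 4284419)) (.node (.leaf 3629056) (.leaf 0))) (.node (.node (.leaf 2293760) (.leaf 5562403)) (.node (.leaf 3203096) (.leaf 0)))) (.node (.node (.node (.leaf 16413) (.leaf 2228257)) (.node (.leaf 3358742) (.leaf 0))) (.node (.node (.leaf 2998272) (.leaf 0)) (.node (.leaf 5029888) (.leaf 0)))))) (.node (.node (.node (.node (.node (.leaf 352256) (.leaf 4964383)) (.node (.leaf 1933313) (.leaf 0))) (.node (.node (.leaf 2105344) (.leaf 4440091)) (.node (.leaf 2727943) (.leaf 0)))) (.node (.node (.node (.leaf 1277952) (.leaf 4972567)) (.node (.leaf 4055040) (.leaf 0))) (.node (.node (.leaf 2793472) (.leaf 0)) (.node (.leaf 4939776) (.leaf 0))))) (.node (.node (.node (.node (.leaf 811008) (.leaf 5423129)) (.node (.leaf 557091) (.leaf 0))) (.node (.node (.leaf 2506752) (.leaf 0)) (.node (.leaf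 4718592) (.leaf 0)))) (.node (.node (.node (.leaf 1630208) (.leaf 2850847)) (.node (.leaf 4276224) (.leaf 0))) (.node (.node (.leaf 1523719) (.leaf 0)) (.node (.leaf 5160960) (.leaf 0))))))) (.node (.node (.node (.node (.node (.node (.leaf 229376) (.leaf 4956191)) (.node (.leaf 3383296) (.leaf 0))) (.node (.node (.leaf 1998848) (.leaf 1859604)) (.node (.leaf 4472832) (.leaf 0)))) (.node (.node (.node (.leaf 1171456) (.leaf 4374536)) (.node (.leaf 311300) (.leaf 0))) (.node (.node (.leaf 2555936) (.leaf 0)) (.node (.leaf 4882432) (.leaf 0))))) (.node (.node (.node (.node (.leaf 696320) (.leaf 2187295)) (.node (.leaf 3702784) (.leaf 0))) (.node (.node (.leaf 2416640) (.leaf 0)) (.node (.leaf 450595) (.leaf 0)))) (.node (.node (.node (.leaf 688153) (.leaf 5398537)) (.node (.leaf 4210688) (.leaf 0))) (.node (.node (.leaf 98337) (.leaf 0)) (.node (.leaf 5103616) (.leaf 0)))))) (.node (.node (.node (.node (.node (.leaf 475136) (.leaf 3137557)) (.node (.leaf 3538944) (.leaf 0))) (.node (.node (.leaf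 376839) (.leaf 5406729)) (.node (.leaf 4587520) (.leaf 0)))) (.node (.node (.node (.leaf 1384448) (.leaf 5513216)) (.node (.leaf 3776533) (.leaf 0))) (.node (.node (.leaf 2891776) (.leaf 0)) (.node (.leaf 4112407) (.leaf 0))))) (.node (.node (.node (.node (.leaf 942080) (.leaf 417821)) (.node (.leaf 3547148) (.leaf 0))) (.node (.node (.leaf 2572288) (.leaf 0)) (.node (.leaf 4702217) (.leaf 0)))) (.node (.node (.node (.leaf 1794048) (.leaf 5529600)) (.node (.leaf 4341760) (.leaf 0))) (.node (.node (.leaf 3227648) (.leaf 0)) (.node (.leaf 4792355) (.leaf 0))))))))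

def e0T3 : NT := .node (.node (.node (.node (.node (.node (.node (.node (.leaf 57344) (.leaf 2392096)) (.node (.leaf 3276800) (.leaf 0))) (.node (.node (.leaf 1474595) (.leaf 4128797)) (.node (.leaf 4382720) (.leaf 0)))) (.node (.node (.node (.leaf 1024000) (.leaf 3997730)) (.node (.leaf 3244045) (.leaf 0))) (.node (.node (.leaf 2637824) (.leaf 0)) (.node (.leaf 4816896) (.leaf 0))))) (.node (.node (.node (.node (.leaf 548864) (.leaf 5373952)) (.node (.leaf 3579904) (.leaf 0))) (.node (.node (.leaf 2244608) (.leaf 1974282)) (.node (.leaf 4620288) (.leaf 0)))) (.node (.node (.node (.leaf 1458176) (.leaf 4251672)) (.node (.leaf 2613272) (.leaf 0))) (.node (.node (.leaf 2965504) (.leaf 0)) (.node (.leaf 1417248) (.leaf 0)))))) (.node (.node (.node (.node (.node (.leaf 303104) (.leaf 5300224)) (.node (.leaf 3440640) (.leaf 0))) (.node (.node (.leaf 270342) (.leaf 1466368)) (.node (.leaf 4513792) (.leaf 0)))) (.node (.node (.node (.leaf 1245184) (.leaf 5005331)) (.node (.leaf 4022272) (.leaf 0)))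 (.node (.node (.leaf 2686997) (.leaf 0)) (.node (.leaf 3260440) (.leaf 0))))) (.node (.node (.node (.node (.leaf 770048) (.leaf 4300828)) (.node (.leaf 3735552) (.leaf 0))) (.node (.node (.leaf 2482176) (.leaf 0)) (.node (.leaf 213021) (.leaf 0)))) (.node (.node (.node (.leaf 1654784) (.leaf 884766)) (.node (.leaf 4259840) (.leaf 0))) (.node (.node (.leaf 3112961) (.leaf 0)) (.node (.leaf 5120000) (.leaf 0))))))) (.node (.node (.node (.node (.node (.node (.leaf 188416) (.leaf 5251083)) (.node (.leaf 409624) (.leaf 0))) (.node (.node (.leaf 1966080) (.leaf 3219461)) (.node (.leaf 4448256) (.leaf 0)))) (.node (.node (.node (.leaf 1122304) (.leaf 4595716)) (.node (.leaf 3956736) (.leaf 0))) (.node (.node (.leaf 1753095) (.leaf 0)) (.node (.leaf 2957330) (.leaf 0))))) (.node (.node (.node (.node (.leaf 655360) (.leaf 5390336)) (.node (.leaf 360459) (.leaf 0))) (.node (.node (.leaf 2367488) (.leaf 0)) (.node (.leaf 4636672) (.leaf 0)))) (.node (.node (.node (.leaf 663557) (.leaf 1220639)) (.node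 (.leaf 2154529) (.leaf 0))) (.node (.node (.leaf 2015263) (.leaf 0)) (.node (.leaf 5070848) (.leaf 0)))))) (.node (.node (.node (.node (.node (.leaf 425984) (.leaf 3670035)) (.node (.leaf 679940) (.leaf 0))) (.node (.node (.leaf 2170880) (.leaf 4169759)) (.node (.leaf 1368068) (.leaf 0)))) (.node (.node (.node (.leaf 1351680) (.leaf 5054470)) (.node (.leaf 3588110) (.leaf 0))) (.node (.node (.leaf 2457627) (.leaf 0)) (.node (.leaf 2785293) (.leaf 0))))) (.node (.node (.node (.node (.leaf 892928) (.leaf 3891214)) (.node (.leaf 2834450) (.leaf 0))) (.node (.node (.leaf 2547712) (.leaf 0)) (.node (.leaf 1056775) (.leaf 0)))) (.node (.node (.node (.leaf 1744896) (.leaf 5521409)) (.node (.leaf 3727370) (.leaf 0))) (.node (.node (.leaf 3194880) (.leaf 0)) (.node (.leaf 712709) (.leaf 0)))))))) (.node (.node (.node (.node (.node (.node (.node (.leaf 122880) (.leaf 3088413)) (.node (.leaf 3317760) (.leaf 0))) (.node (.node (.leaf 1908736) (.leaf 4775946)) (.node (.leaf 3973136) (.leaf 0)))) (.node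 (.node (.node (.leaf 1073152) (.leaf 3817488)) (.node (.leaf 2539552) (.leaf 0))) (.node (.node (.leaf 2670592) (.leaf 0)) (.node (.leaf 1040385) (.leaf 0))))) (.node (.node (.node (.node (.leaf 606208) (.leaf 5144599)) (.node (.leaf 1015825) (.leaf 0))) (.node (.node (.leaf 2310144) (.leaf 2113539)) (.node (.leaf 2138132) (.leaf 0)))) (.node (.node (.node (.leaf 1507328) (.leaf 3457053)) (.node (.leaf 3170310) (.leaf 0))) (.node (.node (.leaf 3014656) (.leaf 0)) (.node (.leaf 5038080) (.leaf 0)))))) (.node (.node (.node (.node (.node (.leaf 368640) (.leaf 614428)) (.node (.leaf 3489792) (.leaf 0))) (.node (.node (.leaf 2121728) (.leaf 4743179)) (.node (.leaf 4538368) (.leaf 0)))) (.node (.node (.node (.leaf 1286144) (.leaf 966682)) (.node (.leaf 4063232) (.leaf 0))) (.node (.node (.leaf 2809856) (.leaf 0)) (.node (.leaf 917527) (.leaf 0))))) (.node (.node (.node (.node (.leaf 827392) (.leaf 1957906)) (.node (.leaf 3768320) (.leaf 0))) (.node (.node (.leaf 2514944) (.leaf 0)) (.node (.leaf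 4726784) (.leaf 0)))) (.node (.node (.node (.leaf 1695744) (.leaf 3694596)) (.node (.leaf 4292608) (.leaf 0))) (.node (.node (.leaf 3162112) (.leaf 0)) (.node (.leaf 5177344) (.leaf 0))))))) (.node (.node (.node (.node (.node (.node (.leaf 245760) (.leaf 5079052)) (.node (.leaf 3399680) (.leaf 0))) (.node (.node (.leaf 2007040) (.leaf 1949722)) (.node (.leaf 4481024) (.leaf 0)))) (.node (.node (.node (.leaf 1179648) (.leaf 5332996)) (.node (.leaf 3989504) (.leaf 0))) (.node (.node (.leaf 2744320) (.leaf 0)) (.node (.leaf 4890624) (.leaf 0))))) (.node (.node (.node (.node (.leaf 704512) (.leaf 1564692)) (.node (.leaf 3710976) (.leaf 0))) (.node (.node (.leaf 1490954) (.leaf 0)) (.node (.leaf 4661248) (.leaf 0)))) (.node (.node (.node (.leaf 1597440) (.leaf 4161543)) (.node (.leaf 4194304) (.leaf 0))) (.node (.node (.leaf 2088994) (.leaf 0)) (.node (.leaf 5111808) (.leaf 0)))))) (.node (.node (.node (.node (.node (.leaf 491520) (.leaf 3948554)) (.node (.leaf 933904) (.leaf 0))) (.node (.node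 (.leaf 2211840) (.leaf 4825093)) (.node (.leaf 1900559) (.leaf 0)))) (.node (.node (.node (.leaf 1392640) (.leaf 3072009)) (.node (.leaf 163873) (.leaf 0))) (.node (.node (.leaf 2908160) (.leaf 0)) (.node (.leaf 4399129) (.leaf 0))))) (.node (.node (.node (.node (.leaf 958464) (.leaf 5382155)) (.node (.leaf 3825664) (.leaf 0))) (.node (.node (.leaf 2580480) (.leaf 0)) (.node (.leaf 4767744) (.leaf 0)))) (.node (.node (.node (.leaf 1187863) (.leaf 5537792)) (.node (.leaf 4358144) (.leaf 0))) (.node (.node (.leaf 3235840) (.leaf 0)) (.node (.leaf 5218304) (.leaf 0))))))))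

def e0T : NT := .node (.node (e0T0) (e0T2)) (.node (e0T1) (e0T3))

def e1T0 : NT := .node (.node (.node (.node (.node (.node (.node (.node (.leaf 16384) (.leaf 303133)) (.node (.leaf 3047436) (.leaf 0))) (.node (.node (.leaf 1826816) (.leaf 2744335)) (.node (.leaf 2891785) (.leaf 0)))) (.node (.node (.node (.leaf 983040) (.leaf 4808729)) (.node (.leaf 3874816) (.leaf 0))) (.node (.node (.leaf 385046) (.leaf 0)) (.node (.leaf 4792320) (.leaf 0))))) (.node (.node (.node (.node (.leaf 516096) (.leaf 3850240)) (.node (.leaf 3563520) (.leaf 0))) (.node (.node (.leaf 40989) (.leaf 4874263)) (.node (.leaf 2949125) (.leaf 0)))) (.node (.node (.node (.leaf 1417216) (.leaf 5095424)) (.node (.leaf 1458211) (.leaf 0))) (.node (.node (.leaf 2932736) (.leaf 0)) (.node (.leaf 4120605) (.leaf 0)))))) (.node (.node (.node (.node (.node (.leaf 270336) (.leaf 4317187)) (.node (.leaf 3407872) (.leaf 0))) (.node (.node (.leaf 2031616) (.leaf 2056197)) (.node (.leaf 3498010) (.leaf 0)))) (.node (.node (.node (.leaf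 1204224) (.leaf 4603930)) (.node (.leaf 3997696) (.leaf 0))) (.node (.node (.leaf 2752512) (.leaf 0)) (.node (.leaf 4063264) (.leaf 0))))) (.node (.node (.node (.node (.leaf 729088) (.leaf 5414912)) (.node (.leaf 2506763) (.leaf 0))) (.node (.node (.leaf 2310177) (.leaf 0)) (.node (.leaf 4243478) (.leaf 0)))) (.node (.node (.node (.leaf 1613824) (.leaf 5390343)) (.node (.leaf 475141) (.leaf 0))) (.node (.node (.leaf 2162717) (.leaf 0)) (.node (.leaf 2351133) (.leaf 0))))))) (.node (.node (.node (.node (.node (.node (.leaf 147456) (.leaf 1777667)) (.node (.leaf 2965521) (.leaf 0))) (.node (.node (.leaf 1933312) (.leaf 2580515)) (.node (.leaf 1638416) (.leaf 0)))) (.node (.node (.node (.leaf 1097728) (.leaf 4890634)) (.node (.leaf 3145763) (.leaf 0))) (.node (.node (.leaf 2686976) (.leaf 0)) (.node (.leaf 4767763) (.leaf 0))))) (.node (.node (.node (.node (.leaf 622592) (.leaf 4505613)) (.node (.leaf 319492) (.leaf 0))) (.node (.node (.leaf 2326528) (.leaf 0)) (.node (.leaf 4038658) (.leaf 0))))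 (.node (.node (.node (.leaf 1523712) (.leaf 2998283)) (.node (.leaf 1695758) (.leaf 0))) (.node (.node (.leaf 3039232) (.leaf 0)) (.node (.leaf 5046272) (.leaf 0)))))) (.node (.node (.node (.node (.node (.leaf 393216) (.leaf 5332992)) (.node (.leaf 2195468) (.leaf 0))) (.node (.node (.leaf 2138112) (.leaf 5488659)) (.node (.leaf 1335304) (.leaf 0)))) (.node (.node (.node (.leaf 1310720) (.leaf 5234713)) (.node (.leaf 4087808) (.leaf 0))) (.node (.node (.leaf 2834432) (.leaf 0)) (.node (.leaf 4964352) (.leaf 0))))) (.node (.node (.node (.node (.leaf 851968) (.leaf 5070867)) (.node (.leaf 3792896) (.leaf 0))) (.node (.node (.leaf 2523136) (.leaf 0)) (.node (.leaf 4734976) (.leaf 0)))) (.node (.node (.node (.leaf 24605) (.leaf 3211268)) (.node (.leaf 2514977) (.leaf 0))) (.node (.node (.leaf 3170304) (.leaf 0)) (.node (.leaf 5152787) (.leaf 0)))))))) (.node (.node (.node (.node (.node (.node (.node (.leaf 81920) (.leaf 3596303)) (.node (.leaf 3293184) (.leaf 0))) (.node (.node (.leaf 1867776)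 (.leaf 1597457)) (.node (.leaf 507935) (.leaf 0)))) (.node (.node (.node (.leaf 1040384) (.leaf 4276224)) (.node (.leaf 3899392) (.leaf 0))) (.node (.node (.leaf 2654208) (.leaf 0)) (.node (.leaf 1245188) (.leaf 0))))) (.node (.node (.node (.node (.leaf 573440) (.leaf 548888)) (.node (.leaf 3604480) (.leaf 0))) (.node (.node (.leaf 2269184) (.leaf 3063814)) (.node (.leaf 2695188) (.leaf 0)))) (.node (.node (.node (.leaf 1474560) (.leaf 1138697)) (.node (.leaf 4153344) (.leaf 0))) (.node (.node (.leaf 2793506) (.leaf 0)) (.node (.leaf 827395) (.leaf 0)))))) (.node (.node (.node (.node (.node (.leaf 327680) (.leaf 909342)) (.node (.leaf 3457024) (.leaf 0))) (.node (.node (.leaf 2088960) (.leaf 5562368)) (.node (.leaf 2449438) (.leaf 0)))) (.node (.node (.node (.leaf 1261568) (.leaf 5496832)) (.node (.leaf 1392665) (.leaf 0))) (.node (.node (.leaf 1622047) (.leaf 0)) (.node (.leaf 4923392) (.leaf 0))))) (.node (.node (.node (.node (.leaf 794624) (.leaf 2809887)) (.node (.leaf 335888) (.leaf 0)))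 (.node (.node (.leaf 2490368) (.leaf 0)) (.node (.leaf 4702208) (.leaf 0)))) (.node (.node (.node (.leaf 73732) (.leaf 3883031)) (.node (.leaf 3710996) (.leaf 0))) (.node (.node (.leaf 3137536) (.leaf 0)) (.node (.leaf 5038087) (.leaf 0))))))) (.node (.node (.node (.node (.node (.node (.leaf 212992) (.leaf 3629069)) (.node (.leaf 204832) (.leaf 0))) (.node (.node (.leaf 1974272) (.leaf 958477)) (.node (.leaf 4382727) (.leaf 0)))) (.node (.node (.node (.leaf 1146880) (.leaf 4407311)) (.node (.leaf 3964928) (.leaf 0))) (.node (.node (.leaf 2727936) (.leaf 0)) (.node (.leaf 4390913) (.leaf 0))))) (.node (.node (.node (.node (.leaf 679936) (.leaf 5398528)) (.node (.leaf 2719761) (.leaf 0))) (.node (.node (.leaf 2392064) (.leaf 0)) (.node (.leaf 442402) (.leaf 0)))) (.node (.node (.node (.leaf 1564672) (.leaf 5160961)) (.node (.leaf 4194304) (.leaf 0))) (.node (.node (.leaf 3072000) (.leaf 0)) (.node (.leaf 5087232) (.leaf 0)))))) (.node (.node (.node (.node (.node (.leaf 450560) (.leaf 3334168))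 (.node (.leaf 3514368) (.leaf 0))) (.node (.node (.leaf 2187264) (.leaf 3686424)) (.node (.leaf 2572322) (.leaf 0)))) (.node (.node (.node (.leaf 1368064) (.leaf 1851398)) (.node (.leaf 2482202) (.leaf 0))) (.node (.node (.leaf 1196036) (.leaf 0)) (.node (.leaf 4980736) (.leaf 0))))) (.node (.node (.node (.node (.leaf 917504) (.leaf 5259279)) (.node (.leaf 3842048) (.leaf 0))) (.node (.node (.leaf 581667) (.leaf 0)) (.node (.leaf 1425418) (.leaf 0)))) (.node (.node (.node (.leaf 1769472) (.leaf 5472273)) (.node (.leaf 3178513) (.leaf 0))) (.node (.node (.leaf 3219456) (.leaf 0)) (.node (.leaf 2367492) (.leaf 0))))))))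

def e1T1 : NT := .node (.node (.node (.node (.node (.node (.node (.node (.leaf 32768) (.leaf 4620310)) (.node (.leaf 3260416) (.leaf 0))) (.node (.node (.leaf 1843200) (.leaf 4915228)) (.node (.leaf 4366336) (.leaf 0)))) (.node (.node (.node (.leaf 999424) (.leaf 5029906)) (.node (.leaf 3129347) (.leaf 0))) (.node (.node (.leaf 2613248) (.leaf 0)) (.node (.leaf 4800512) (.leaf 0))))) (.node (.node (.node (.node (.leaf 532480) (.leaf 5365760)) (.node (.leaf 3571712) (.leaf 0))) (.node (.node (.leaf 2228224) (.leaf 5554207)) (.node (.leaf 1114127) (.leaf 0)))) (.node (.node (.node (.leaf 1433600) (.leaf 5480458)) (.node (.leaf 4112384) (.leaf 0))) (.node (.node (.leaf 2940928) (.leaf 0)) (.node (.leaf 4988928) (.leaf 0)))))) (.node (.node (.node (.node (.node (.leaf 286720) (.leaf 3923994)) (.node (.leaf 2146323) (.leaf 0))) (.node (.node (.leaf 2048000) (.leaf 3907617)) (.node (.leaf 4497408) (.leaf 0)))) (.node (.node (.node (.leaf 1220608) (.leaf 5357597)) (.node (.leaf 4005888) (.leaf 0)))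 (.node (.node (.leaf 770052) (.leaf 0)) (.node (.leaf 4898816) (.leaf 0))))) (.node (.node (.node (.node (.leaf 745472) (.leaf 5423104)) (.node (.leaf 1671186) (.leaf 0))) (.node (.node (.leaf 2457600) (.leaf 0)) (.node (.leaf 3661853) (.leaf 0)))) (.node (.node (.node (.leaf 1630208) (.leaf 540701)) (.node (.leaf 155677) (.leaf 0))) (.node (.node (.leaf 3112960) (.leaf 0)) (.node (.leaf 3489804) (.leaf 0))))))) (.node (.node (.node (.node (.node (.node (.leaf 163840) (.leaf 4358154)) (.node (.leaf 3342336) (.leaf 0))) (.node (.node (.leaf 1949696) (.leaf 4456470)) (.node (.leaf 4440064) (.leaf 0)))) (.node (.node (.node (.leaf 1105920) (.leaf 4866077)) (.node (.leaf 3948544) (.leaf 0))) (.node (.node (.leaf 2564124) (.leaf 0)) (.node (.leaf 860175) (.leaf 0))))) (.node (.node (.node (.node (.leaf 638976) (.leaf 5382144)) (.node (.leaf 1179672) (.leaf 0))) (.node (.node (.leaf 2342912) (.leaf 0)) (.node (.leaf 811023) (.leaf 0)))) (.node (.node (.node (.leaf 458757) (.leaf 5062691)) (.node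 (.leaf 1171479) (.leaf 0))) (.node (.node (.leaf 2646024) (.leaf 0)) (.node (.leaf 5054464) (.leaf 0)))))) (.node (.node (.node (.node (.node (.leaf 409600) (.leaf 1212448)) (.node (.leaf 2080777) (.leaf 0))) (.node (.node (.leaf 2154496) (.leaf 2768904)) (.node (.leaf 2170894) (.leaf 0)))) (.node (.node (.node (.leaf 1327104) (.leaf 5136395)) (.node (.leaf 3465224) (.leaf 0))) (.node (.node (.leaf 2850816) (.leaf 0)) (.node (.leaf 3440656) (.leaf 0))))) (.node (.node (.node (.node (.leaf 868352) (.leaf 1228811)) (.node (.leaf 3719190) (.leaf 0))) (.node (.node (.leaf 2531328) (.leaf 0)) (.node (.leaf 4743168) (.leaf 0)))) (.node (.node (.node (.leaf 1720320) (.leaf 737305)) (.node (.leaf 2105361) (.leaf 0))) (.node (.node (.leaf 2981907) (.leaf 0)) (.node (.leaf 5185536) (.leaf 0)))))))) (.node (.node (.node (.node (.node (.node (.node (.leaf 98304) (.leaf 942098)) (.node (.leaf 753691) (.leaf 0))) (.node (.node (.leaf 1884160) (.leaf 3784714)) (.node (.leaf 4399104) (.leaf 0)))) (.node (.node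 (.node (.leaf 1056768) (.leaf 671749)) (.node (.leaf 3915776) (.leaf 0))) (.node (.node (.leaf 974866) (.leaf 0)) (.node (.leaf 4841472) (.leaf 0))))) (.node (.node (.node (.node (.leaf 589824) (.leaf 5283861)) (.node (.leaf 3620864) (.leaf 0))) (.node (.node (.leaf 2285568) (.leaf 1384468)) (.node (.leaf 4628480) (.leaf 0)))) (.node (.node (.node (.leaf 1490944) (.leaf 5341188)) (.node (.leaf 3506192) (.leaf 0))) (.node (.node (.leaf 1998854) (.leaf 0)) (.node (.leaf 4448266) (.leaf 0)))))) (.node (.node (.node (.node (.node (.leaf 344064) (.leaf 5316608)) (.node (.leaf 3473408) (.leaf 0))) (.node (.node (.leaf 2097152) (.leaf 5300226)) (.node (.leaf 3653659) (.leaf 0)))) (.node (.node (.node (.leaf 1064977) (.leaf 3743749)) (.node (.leaf 4046848) (.leaf 0))) (.node (.node (.leaf 2785280) (.leaf 0)) (.node (.leaf 4931584) (.leaf 0))))) (.node (.node (.node (.node (.leaf 802816) (.leaf 5447680)) (.node (.leaf 3751936) (.leaf 0))) (.node (.node (.leaf 2498560) (.leaf 0)) (.node (.leaf 4235269)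 (.leaf 0)))) (.node (.node (.node (.leaf 1679360) (.leaf 5128217)) (.node (.leaf 2842651) (.leaf 0))) (.node (.node (.leaf 696328) (.leaf 0)) (.node (.leaf 4431888) (.leaf 0))))))) (.node (.node (.node (.node (.node (.node (.leaf 221184) (.leaf 4513798)) (.node (.leaf 3375104) (.leaf 0))) (.node (.node (.leaf 1990656) (.leaf 1048595)) (.node (.leaf 4464640) (.leaf 0)))) (.node (.node (.node (.leaf 1163264) (.leaf 1818637)) (.node (.leaf 3973120) (.leaf 0))) (.node (.node (.leaf 2736128) (.leaf 0)) (.node (.leaf 4489238) (.leaf 0))))) (.node (.node (.node (.node (.leaf 688128) (.leaf 1761315)) (.node (.leaf 3694592) (.leaf 0))) (.node (.node (.leaf 2408448) (.leaf 0)) (.node (.leaf 4653056) (.leaf 0)))) (.node (.node (.node (.leaf 1581056) (.leaf 4538389)) (.node (.leaf 1007623) (.leaf 0))) (.node (.node (.leaf 524307) (.leaf 0)) (.node (.leaf 2129945) (.leaf 0)))))) (.node (.node (.node (.node (.node (.leaf 466944) (.leaf 1728518)) (.node (.leaf 3530752) (.leaf 0))) (.node (.node (.leaf 704530)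 (.leaf 3194907)) (.node (.leaf 4579328) (.leaf 0)))) (.node (.node (.node (.leaf 1376256) (.leaf 4833291)) (.node (.leaf 3252247) (.leaf 0))) (.node (.node (.leaf 2883584) (.leaf 0)) (.node (.leaf 2621453) (.leaf 0))))) (.node (.node (.node (.node (.leaf 933888) (.leaf 5464064)) (.node (.leaf 3858432) (.leaf 0))) (.node (.node (.leaf 172065) (.leaf 0)) (.node (.leaf 3522563) (.leaf 0)))) (.node (.node (.node (.leaf 1785856) (.leaf 2465803)) (.node (.leaf 3538954) (.leaf 0))) (.node (.node (.leaf 2334749) (.leaf 0)) (.node (.leaf 5210112) (.leaf 0))))))))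

def e1T2 : NT := .node (.node (.node (.node (.node (.node (.node (.node (.leaf 49152) (.leaf 3612697)) (.node (.leaf 3268608) (.leaf 0))) (.node (.node (.leaf 1859584) (.leaf 2400263)) (.node (.leaf 4374528) (.leaf 0)))) (.node (.node (.node (.leaf 1015808) (.leaf 1531916)) (.node (.leaf 3891200) (.leaf 0))) (.node (.node (.leaf 2629632) (.leaf 0)) (.node (.leaf 4145183) (.leaf 0))))) (.node (.node (.node (.node (.leaf 401416) (.leaf 3031061)) (.node (.leaf 876575) (.leaf 0))) (.node (.node (.leaf 1966087) (.leaf 5218331)) (.node (.leaf 4612096) (.leaf 0)))) (.node (.node (.node (.leaf 1449984) (.leaf 3325964)) (.node (.leaf 4128768) (.leaf 0))) (.node (.node (.leaf 2957312) (.leaf 0)) (.node (.leaf 4997120) (.leaf 0)))))) (.node (.node (.node (.node (.node (.leaf 229410) (.leaf 5292032)) (.node (.leaf 3432448) (.leaf 0))) (.node (.node (.leaf 2064384) (.leaf 4325386)) (.node (.leaf 2908177) (.leaf 0)))) (.node (.node (.node (.leaf 1236992) (.leaf 4661250)) (.node (.leaf 4014080) (.leaf 0)))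 (.node (.node (.leaf 2760704) (.leaf 0)) (.node (.leaf 4907008) (.leaf 0))))) (.node (.node (.node (.node (.leaf 761856) (.leaf 5324822)) (.node (.leaf 3727360) (.leaf 0))) (.node (.node (.leaf 2473984) (.leaf 0)) (.node (.leaf 2637834) (.leaf 0)))) (.node (.node (.node (.leaf 1646592) (.leaf 5521408)) (.node (.leaf 4251648) (.leaf 0))) (.node (.node (.leaf 1892386) (.leaf 0)) (.node (.leaf 5144576) (.leaf 0))))))) (.node (.node (.node (.node (.node (.node (.leaf 180224) (.leaf 5267456)) (.node (.leaf 3358720) (.leaf 0))) (.node (.node (.leaf 1957888) (.leaf 1409045)) (.node (.leaf 3235850) (.leaf 0)))) (.node (.node (.node (.leaf 425997) (.leaf 5455892)) (.node (.leaf 3424276) (.leaf 0))) (.node (.node (.leaf 2711552) (.leaf 0)) (.node (.leaf 3227652) (.leaf 0))))) (.node (.node (.node (.node (.leaf 29) (.leaf 2261020)) (.node (.leaf 3670016) (.leaf 0))) (.node (.node (.leaf 2359296) (.leaf 0)) (.node (.leaf 4571170) (.leaf 0)))) (.node (.node (.node (.leaf 1548288) (.leaf 5111838)) (.node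 (.leaf 188442) (.leaf 0))) (.node (.node (.leaf 786439) (.leaf 0)) (.node (.leaf 3350550) (.leaf 0)))))) (.node (.node (.node (.node (.node (.leaf 417792) (.leaf 4186136)) (.node (.leaf 2826247) (.leaf 0))) (.node (.node (.leaf 122894) (.leaf 5537823)) (.node (.leaf 4554752) (.leaf 0)))) (.node (.node (.node (.leaf 1343488) (.leaf 5505024)) (.node (.leaf 3285011) (.leaf 0))) (.node (.node (.leaf 2867200) (.leaf 0)) (.node (.leaf 4972544) (.leaf 0))))) (.node (.node (.node (.node (.leaf 884736) (.leaf 4784129)) (.node (.leaf 3817472) (.leaf 0))) (.node (.node (.leaf 2539520) (.leaf 0)) (.node (.leaf 4751360) (.leaf 0)))) (.node (.node (.node (.leaf 1736704) (.leaf 4177934)) (.node (.leaf 2121760) (.leaf 0))) (.node (.node (.leaf 3186688) (.leaf 0)) (.node (.leaf 5201920) (.leaf 0)))))))) (.node (.node (.node (.node (.node (.node (.node (.leaf 114688) (.leaf 5242880)) (.node (.leaf 3309568) (.leaf 0))) (.node (.node (.leaf 1900544) (.leaf 3801090)) (.node (.leaf 4415488) (.leaf 0)))) (.node (.node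 (.node (.leaf 8221) (.leaf 4677656)) (.node (.leaf 1540108) (.leaf 0))) (.node (.node (.leaf 1073166) (.leaf 0)) (.node (.leaf 368642) (.leaf 0))))) (.node (.node (.node (.node (.leaf 262157) (.leaf 1744910)) (.node (.leaf 1507359) (.leaf 0))) (.node (.node (.leaf 2301952) (.leaf 4202514)) (.node (.leaf 4259856) (.leaf 0)))) (.node (.node (.node (.leaf 1499136) (.leaf 4587537)) (.node (.leaf 4161536) (.leaf 0))) (.node (.node (.leaf 3006464) (.leaf 0)) (.node (.leaf 2662423) (.leaf 0)))))) (.node (.node (.node (.node (.node (.leaf 360448) (.leaf 4308994)) (.node (.leaf 3481600) (.leaf 0))) (.node (.node (.leaf 2113536) (.leaf 5545994)) (.node (.leaf 4530176) (.leaf 0)))) (.node (.node (.node (.leaf 892938) (.leaf 4227098)) (.node (.leaf 3399687) (.leaf 0))) (.node (.node (.leaf 2801664) (.leaf 0)) (.node (.leaf 4947968) (.leaf 0))))) (.node (.node (.node (.node (.leaf 819200) (.leaf 4939802)) (.node (.leaf 3760128) (.leaf 0))) (.node (.node (.leaf 106506) (.leaf 0)) (.node (.leaf 3416087) (.leaf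 0)))) (.node (.node (.node (.leaf 1687552) (.leaf 4546572)) (.node (.leaf 4284416) (.leaf 0))) (.node (.node (.leaf 3153920) (.leaf 0)) (.node (.leaf 5169152) (.leaf 0))))))) (.node (.node (.node (.node (.node (.node (.leaf 237568) (.leaf 5275648)) (.node (.leaf 3391488) (.leaf 0))) (.node (.node (.leaf 843803) (.leaf 2924545)) (.node (.leaf 3735574) (.leaf 0)))) (.node (.node (.node (.leaf 598042) (.leaf 2023448)) (.node (.leaf 3981312) (.leaf 0))) (.node (.node (.leaf 1556497) (.leaf 0)) (.node (.leaf 4055052) (.leaf 0))))) (.node (.node (.node (.node (.leaf 90119) (.leaf 5406720)) (.node (.leaf 1351685) (.leaf 0))) (.node (.node (.leaf 2424832) (.leaf 0)) (.node (.leaf 4210722) (.leaf 0)))) (.node (.node (.node (.leaf 1589248) (.leaf 4079641)) (.node (.leaf 4218880) (.leaf 0))) (.node (.node (.leaf 3088384) (.leaf 0)) (.node (.leaf 1875975) (.leaf 0)))))) (.node (.node (.node (.node (.node (.leaf 483328) (.leaf 2547720)) (.node (.leaf 3547136) (.leaf 0))) (.node (.node (.leaf 2203648) (.leaf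 5177349)) (.node (.leaf 4595712) (.leaf 0)))) (.node (.node (.node (.leaf 1122337) (.leaf 4710421)) (.node (.leaf 352273) (.leaf 0))) (.node (.node (.leaf 2899968) (.leaf 0)) (.node (.leaf 4718614) (.leaf 0))))) (.node (.node (.node (.node (.leaf 950272) (.leaf 2277404)) (.node (.leaf 1572880) (.leaf 0))) (.node (.node (.leaf 1982471) (.leaf 0)) (.node (.leaf 2318340) (.leaf 0)))) (.node (.node (.node (.leaf 1802240) (.leaf 647191)) (.node (.leaf 4349952) (.leaf 0))) (.node (.node (.leaf 1441821) (.leaf 0)) (.node (.leaf 4726792) (.leaf 0))))))))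

def e1T3 : NT := .node (.node (.node (.node (.node (.node (.node (.node (.leaf 65536) (.leaf 491543)) (.node (.leaf 2416655) (.leaf 0))) (.node (.node (.leaf 925719) (.leaf 4694035)) (.node (.leaf 4292615) (.leaf 0)))) (.node (.node (.node (.leaf 1032192) (.leaf 3555355)) (.node (.leaf 3809302) (.leaf 0))) (.node (.node (.leaf 1925127) (.leaf 0)) (.node (.leaf 4825088) (.leaf 0))))) (.node (.node (.node (.node (.leaf 557056) (.leaf 4759567)) (.node (.leaf 3588096) (.leaf 0))) (.node (.node (.leaf 2252800) (.leaf 1908750)) (.node (.leaf 1269768) (.leaf 0)))) (.node (.node (.node (.leaf 1466368) (.leaf 3301401)) (.node (.leaf 4136960) (.leaf 0))) (.node (.node (.leaf 2973696) (.leaf 0)) (.node (.leaf 5005312) (.leaf 0)))))) (.node (.node (.node (.node (.node (.leaf 311296) (.leaf 5308416)) (.node (.leaf 3448832) (.leaf 0))) (.node (.node (.leaf 2072576) (.leaf 3833866)) (.node (.leaf 4521984) (.leaf 0)))) (.node (.node (.node (.leaf 1253376) (.leaf 2220066)) (.node (.leaf 4030464) (.leaf 0)))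 (.node (.node (.leaf 655394) (.leaf 0)) (.node (.leaf 245789) (.leaf 0))))) (.node (.node (.node (.node (.leaf 778240) (.leaf 5193733)) (.node (.leaf 3645473) (.leaf 0))) (.node (.node (.leaf 1835028) (.leaf 0)) (.node (.leaf 3956768) (.leaf 0)))) (.node (.node (.node (.leaf 1155092) (.leaf 2244617)) (.node (.leaf 1662998) (.leaf 0))) (.node (.node (.leaf 3121152) (.leaf 0)) (.node (.leaf 3317767) (.leaf 0))))))) (.node (.node (.node (.node (.node (.node (.leaf 196608) (.leaf 2236421)) (.node (.leaf 3366912) (.leaf 0))) (.node (.node (.leaf 1794081) (.leaf 5529624)) (.node (.leaf 4333574) (.leaf 0)))) (.node (.node (.node (.leaf 1130496) (.leaf 5021728)) (.node (.leaf 2383881) (.leaf 0))) (.node (.node (.leaf 1302530) (.leaf 0)) (.node (.leaf 4669469) (.leaf 0))))) (.node (.node (.node (.node (.leaf 663552) (.leaf 2007048)) (.node (.leaf 3678208) (.leaf 0))) (.node (.node (.leaf 2375680) (.leaf 0)) (.node (.leaf 4644864) (.leaf 0)))) (.node (.node (.node (.leaf 720906) (.leaf 2293764)) (.node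 (.leaf 3104791) (.leaf 0))) (.node (.node (.leaf 3055616) (.leaf 0)) (.node (.leaf 5079040) (.leaf 0)))))) (.node (.node (.node (.node (.node (.leaf 434176) (.leaf 5349376)) (.node (.leaf 1277953) (.leaf 0))) (.node (.node (.leaf 2179072) (.leaf 5103636)) (.node (.leaf 4562944) (.leaf 0)))) (.node (.node (.node (.leaf 1359872) (.leaf 4104204)) (.node (.leaf 4096000) (.leaf 0))) (.node (.node (.leaf 2875392) (.leaf 0)) (.node (.leaf 3080218) (.leaf 0))))) (.node (.node (.node (.node (.leaf 901120) (.leaf 1712141)) (.node (.leaf 3825664) (.leaf 0))) (.node (.node (.leaf 2555904) (.leaf 0)) (.node (.leaf 606212) (.leaf 0)))) (.node (.node (.node (.leaf 1753088) (.leaf 565277)) (.node (.leaf 4022277) (.leaf 0))) (.node (.node (.leaf 3203072) (.leaf 0)) (.node (.leaf 3940361) (.leaf 0)))))))) (.node (.node (.node (.node (.node (.node (.node (.leaf 131072) (.leaf 5251072)) (.node (.leaf 294945) (.leaf 0))) (.node (.node (.leaf 1916928) (.leaf 2703387)) (.node (.leaf 4423680) (.leaf 0)))) (.node (.node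 (.node (.leaf 1081344) (.leaf 2211867)) (.node (.leaf 3932160) (.leaf 0))) (.node (.node (.leaf 57373) (.leaf 0)) (.node (.leaf 4857856) (.leaf 0))))) (.node (.node (.node (.node (.leaf 614400) (.leaf 1654798)) (.node (.leaf 3637248) (.leaf 0))) (.node (.node (.leaf 1286156) (.leaf 5513219)) (.node (.leaf 278536) (.leaf 0)))) (.node (.node (.node (.leaf 1515520) (.leaf 3162133)) (.node (.leaf 4169728) (.leaf 0))) (.node (.node (.leaf 3022848) (.leaf 0)) (.node (.leaf 4472862) (.leaf 0)))))) (.node (.node (.node (.node (.node (.leaf 376832) (.leaf 5226515)) (.node (.leaf 139272) (.leaf 0))) (.node (.node (.leaf 1482778) (.leaf 1605648)) (.node (.leaf 2678808) (.leaf 0)))) (.node (.node (.node (.leaf 1294336) (.leaf 2605080)) (.node (.leaf 4071424) (.leaf 0))) (.node (.node (.leaf 2818048) (.leaf 0)) (.node (.leaf 4956160) (.leaf 0))))) (.node (.node (.node (.node (.leaf 835584) (.leaf 4816909)) (.node (.leaf 3776512) (.leaf 0))) (.node (.node (.leaf 1941519) (.leaf 0)) (.node (.leaf 3768330)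 (.leaf 0)))) (.node (.node (.node (.leaf 1703936) (.leaf 5439511)) (.node (.leaf 4300800) (.leaf 0))) (.node (.node (.leaf 1318947) (.leaf 0)) (.node (.leaf 4882464) (.leaf 0))))))) (.node (.node (.node (.node (.node (.node (.leaf 253952) (.leaf 991232)) (.node (.leaf 3014675) (.leaf 0))) (.node (.node (.leaf 2015232) (.leaf 4268040)) (.node (.leaf 3383314) (.leaf 0)))) (.node (.node (.node (.leaf 1187840) (.leaf 1024017)) (.node (.leaf 3579910) (.leaf 0))) (.node (.node (.leaf 2596872) (.leaf 0)) (.node (.leaf 4849672) (.leaf 0))))) (.node (.node (.node (.node (.leaf 712704) (.leaf 2441232)) (.node (.leaf 2777100) (.leaf 0))) (.node (.node (.leaf 2433024) (.leaf 0)) (.node (.leaf 4636679) (.leaf 0)))) (.node (.node (.node (.leaf 1089555) (.leaf 4685831)) (.node (.leaf 2859020) (.leaf 0))) (.node (.node (.leaf 3096576) (.leaf 0)) (.node (.leaf 5120000) (.leaf 0)))))) (.node (.node (.node (.node (.node (.leaf 499712) (.leaf 4481032)) (.node (.leaf 2990093) (.leaf 0))) (.node (.node (.leaf 2039836)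 (.leaf 5373963)) (.node (.leaf 4341780) (.leaf 0)))) (.node (.node (.node (.leaf 1400832) (.leaf 5431313)) (.node (.leaf 3276801) (.leaf 0))) (.node (.node (.leaf 2916352) (.leaf 0)) (.node (.leaf 630801) (.leaf 0))))) (.node (.node (.node (.node (.leaf 966656) (.leaf 3989529)) (.node (.leaf 3702804) (.leaf 0))) (.node (.node (.leaf 2588672) (.leaf 0)) (.node (.leaf 4775936) (.leaf 0)))) (.node (.node (.node (.leaf 1810432) (.leaf 3866650)) (.node (.leaf 2670618) (.leaf 0))) (.node (.node (.leaf 3244032) (.leaf 0)) (.node (.leaf 5013528) (.leaf 0))))))))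

def e1T : NT := .node (.node (e1T0) (e1T2)) (.node (e1T1) (e1T3))

def pT0 : NT := .node (.node (.node (.node (.node (.node (.node (.node (.leaf 0) (.leaf 729)) (.node (.leaf 299) (.leaf 0))) (.node (.node (.leaf 138) (.leaf 1037)) (.node (.leaf 490) (.leaf 0)))) (.node (.node (.node (.leaf 66) (.leaf 876)) (.node (.leaf 388) (.leaf 0))) (.node (.node (.leaf 218) (.leaf 0)) (.node (.leaf 597) (.leaf 0))))) (.node (.node (.node (.node (.leaf 32) (.leaf 794)) (.node (.leaf 341) (.leaf 0))) (.node (.node (.leaf 177) (.leaf 1205)) (.node (.leaf 545) (.leaf 0)))) (.node (.node (.node (.leaf 104) (.leaf 953)) (.node (.leaf 443) (.leaf 0))) (.node (.node (.leaf 258) (.leaf 0)) (.node (.leaf 655) (.leaf 0)))))) (.node (.node (.node (.node (.node (.leaf 15) (.leaf 760)) (.node (.leaf 323) (.leaf 0))) (.node (.node (.leaf 158) (.leaf 1094)) (.node (.leaf 518) (.leaf 0)))) (.node (.node (.node (.leaf 86) (.leaf 908)) (.node (.leaf 417) (.leaf 0))) (.node (.node (.leaf 239) (.leaf 0)) (.node (.leaf 626)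 (.leaf 0))))) (.node (.node (.node (.node (.leaf 49) (.leaf 828)) (.node (.leaf 361) (.leaf 0))) (.node (.node (.leaf 196) (.leaf 0)) (.node (.leaf 572) (.leaf 0)))) (.node (.node (.node (.leaf 121) (.leaf 990)) (.node (.leaf 462) (.leaf 0))) (.node (.node (.leaf 278) (.leaf 0)) (.node (.leaf 686) (.leaf 0))))))) (.node (.node (.node (.node (.node (.node (.leaf 7) (.leaf 742)) (.node (.leaf 308) (.leaf 0))) (.node (.node (.leaf 148) (.leaf 1063)) (.node (.leaf 504) (.leaf 0)))) (.node (.node (.node (.leaf 75) (.leaf 896)) (.node (.leaf 401) (.leaf 0))) (.node (.node (.leaf 228) (.leaf 0)) (.node (.leaf 614) (.leaf 0))))) (.node (.node (.node (.node (.leaf 41) (.leaf 807)) (.node (.leaf 349) (.leaf 0))) (.node (.node (.leaf 187) (.leaf 0)) (.node (.leaf 555) (.leaf 0)))) (.node (.node (.node (.leaf 113) (.leaf 977)) (.node (.leaf 452) (.leaf 0))) (.node (.node (.leaf 269) (.leaf 0)) (.node (.leaf 673) (.leaf 0)))))) (.node (.node (.node (.node (.node (.leaf 23) (.leaf 776)) (.node (.leaf 332)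 (.leaf 0))) (.node (.node (.leaf 166) (.leaf 1130)) (.node (.leaf 531) (.leaf 0)))) (.node (.node (.node (.leaf 96) (.leaf 936)) (.node (.leaf 431) (.leaf 0))) (.node (.node (.leaf 249) (.leaf 0)) (.node (.leaf 640) (.leaf 0))))) (.node (.node (.node (.node (.leaf 58) (.leaf 859)) (.node (.leaf 375) (.leaf 0))) (.node (.node (.leaf 206) (.leaf 0)) (.node (.leaf 585) (.leaf 0)))) (.node (.node (.node (.leaf 129) (.leaf 1006)) (.node (.leaf 474) (.leaf 0))) (.node (.node (.leaf 289) (.leaf 0)) (.node (.leaf 709) (.leaf 0)))))))) (.node (.node (.node (.node (.node (.node (.node (.leaf 3) (.leaf 736)) (.node (.leaf 304) (.leaf 0))) (.node (.node (.leaf 143) (.leaf 1053)) (.node (.leaf 498) (.leaf 0)))) (.node (.node (.node (.leaf 71) (.leaf 885)) (.node (.leaf 393) (.leaf 0))) (.node (.node (.leaf 224) (.leaf 0)) (.node (.leaf 604) (.leaf 0))))) (.node (.node (.node (.node (.leaf 36) (.leaf 800)) (.node (.leaf 345) (.leaf 0))) (.node (.node (.leaf 181) (.leaf 1278)) (.node (.leaf 550) (.leaf 0))))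 (.node (.node (.node (.leaf 109) (.leaf 968)) (.node (.leaf 447) (.leaf 0))) (.node (.node (.leaf 265) (.leaf 0)) (.node (.leaf 665) (.leaf 0)))))) (.node (.node (.node (.node (.node (.leaf 19) (.leaf 766)) (.node (.leaf 328) (.leaf 0))) (.node (.node (.leaf 162) (.leaf 1117)) (.node (.leaf 525) (.leaf 0)))) (.node (.node (.node (.leaf 91) (.leaf 924)) (.node (.leaf 427) (.leaf 0))) (.node (.node (.leaf 245) (.leaf 0)) (.node (.leaf 632) (.leaf 0))))) (.node (.node (.node (.node (.leaf 54) (.leaf 838)) (.node (.leaf 369) (.leaf 0))) (.node (.node (.leaf 201) (.leaf 0)) (.node (.leaf 579) (.leaf 0)))) (.node (.node (.node (.leaf 125) (.leaf 997)) (.node (.leaf 466) (.leaf 0))) (.node (.node (.leaf 284) (.leaf 0)) (.node (.leaf 695) (.leaf 0))))))) (.node (.node (.node (.node (.node (.node (.leaf 11) (.leaf 750)) (.node (.leaf 314) (.leaf 0))) (.node (.node (.leaf 153) (.leaf 1074)) (.node (.leaf 511) (.leaf 0)))) (.node (.node (.node (.leaf 81) (.leaf 902)) (.node (.leaf 408) (.leaf 0))) (.node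 (.node (.leaf 234) (.leaf 0)) (.node (.leaf 622) (.leaf 0))))) (.node (.node (.node (.node (.leaf 45) (.leaf 821)) (.node (.leaf 355) (.leaf 0))) (.node (.node (.leaf 192) (.leaf 0)) (.node (.leaf 568) (.leaf 0)))) (.node (.node (.node (.leaf 117) (.leaf 983)) (.node (.leaf 456) (.leaf 0))) (.node (.node (.leaf 273) (.leaf 0)) (.node (.leaf 679) (.leaf 0)))))) (.node (.node (.node (.node (.node (.leaf 28) (.leaf 783)) (.node (.leaf 337) (.leaf 0))) (.node (.node (.leaf 172) (.leaf 1154)) (.node (.leaf 539) (.leaf 0)))) (.node (.node (.node (.leaf 100) (.leaf 941)) (.node (.leaf 435) (.leaf 0))) (.node (.node (.leaf 253) (.leaf 0)) (.node (.leaf 649) (.leaf 0))))) (.node (.node (.node (.node (.leaf 62) (.leaf 868)) (.node (.leaf 383) (.leaf 0))) (.node (.node (.leaf 212) (.leaf 0)) (.node (.leaf 591) (.leaf 0)))) (.node (.node (.node (.leaf 133) (.leaf 1019)) (.node (.leaf 483) (.leaf 0))) (.node (.node (.leaf 293) (.leaf 0)) (.node (.leaf 717) (.leaf 0))))))))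

def pT1 : NT := .node (.node (.node (.node (.node (.node (.node (.node (.leaf 0) (.leaf 730)) (.node (.leaf 300) (.leaf 0))) (.node (.node (.leaf 139) (.leaf 1039)) (.node (.leaf 493) (.leaf 0)))) (.node (.node (.node (.leaf 67) (.leaf 878)) (.node (.leaf 389) (.leaf 0))) (.node (.node (.leaf 219) (.leaf 0)) (.node (.leaf 599) (.leaf 0))))) (.node (.node (.node (.node (.leaf 33) (.leaf 795)) (.node (.leaf 342) (.leaf 0))) (.node (.node (.leaf 178) (.leaf 1212)) (.node (.leaf 546) (.leaf 0)))) (.node (.node (.node (.leaf 105) (.leaf 963)) (.node (.leaf 444) (.leaf 0))) (.node (.node (.leaf 259) (.leaf 0)) (.node (.leaf 658) (.leaf 0)))))) (.node (.node (.node (.node (.node (.leaf 16) (.leaf 762)) (.node (.leaf 324) (.leaf 0))) (.node (.node (.leaf 159) (.leaf 1107)) (.node (.leaf 520) (.leaf 0)))) (.node (.node (.node (.leaf 87) (.leaf 911)) (.node (.leaf 421) (.leaf 0))) (.node (.node (.leaf 240) (.leaf 0)) (.node (.leaf 628) (.leaf 0))))) (.node (.node (.node (.node (.leaf 50) (.leaf 829))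 (.node (.leaf 363) (.leaf 0))) (.node (.node (.leaf 197) (.leaf 0)) (.node (.leaf 573) (.leaf 0)))) (.node (.node (.node (.leaf 122) (.leaf 991)) (.node (.leaf 463) (.leaf 0))) (.node (.node (.leaf 281) (.leaf 0)) (.node (.leaf 687) (.leaf 0))))))) (.node (.node (.node (.node (.node (.node (.leaf 8) (.leaf 746)) (.node (.leaf 310) (.leaf 0))) (.node (.node (.leaf 150) (.leaf 1067)) (.node (.leaf 505) (.leaf 0)))) (.node (.node (.node (.leaf 76) (.leaf 897)) (.node (.leaf 402) (.leaf 0))) (.node (.node (.leaf 229) (.leaf 0)) (.node (.leaf 618) (.leaf 0))))) (.node (.node (.node (.node (.leaf 42) (.leaf 813)) (.node (.leaf 351) (.leaf 0))) (.node (.node (.leaf 188) (.leaf 0)) (.node (.leaf 557) (.leaf 0)))) (.node (.node (.node (.leaf 114) (.leaf 979)) (.node (.leaf 453) (.leaf 0))) (.node (.node (.leaf 270) (.leaf 0)) (.node (.leaf 675) (.leaf 0)))))) (.node (.node (.node (.node (.node (.leaf 24) (.leaf 779)) (.node (.leaf 333) (.leaf 0))) (.node (.node (.leaf 167) (.leaf 1131)) (.node (.leaf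 532) (.leaf 0)))) (.node (.node (.node (.leaf 97) (.leaf 937)) (.node (.leaf 432) (.leaf 0))) (.node (.node (.leaf 250) (.leaf 0)) (.node (.leaf 641) (.leaf 0))))) (.node (.node (.node (.node (.leaf 59) (.leaf 862)) (.node (.leaf 378) (.leaf 0))) (.node (.node (.leaf 207) (.leaf 0)) (.node (.leaf 586) (.leaf 0)))) (.node (.node (.node (.leaf 130) (.leaf 1011)) (.node (.leaf 477) (.leaf 0))) (.node (.node (.leaf 290) (.leaf 0)) (.node (.leaf 711) (.leaf 0)))))))) (.node (.node (.node (.node (.node (.node (.node (.leaf 4) (.leaf 738)) (.node (.leaf 305) (.leaf 0))) (.node (.node (.leaf 144) (.leaf 1056)) (.node (.leaf 501) (.leaf 0)))) (.node (.node (.node (.leaf 72) (.leaf 888)) (.node (.leaf 396) (.leaf 0))) (.node (.node (.leaf 225) (.leaf 0)) (.node (.leaf 606) (.leaf 0))))) (.node (.node (.node (.node (.leaf 38) (.leaf 803)) (.node (.leaf 346) (.leaf 0))) (.node (.node (.leaf 182) (.leaf 1280)) (.node (.leaf 551) (.leaf 0)))) (.node (.node (.node (.leaf 110) (.leaf 970)) (.node (.leaf 448)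 (.leaf 0))) (.node (.node (.leaf 266) (.leaf 0)) (.node (.leaf 667) (.leaf 0)))))) (.node (.node (.node (.node (.node (.leaf 20) (.leaf 771)) (.node (.leaf 329) (.leaf 0))) (.node (.node (.leaf 163) (.leaf 1121)) (.node (.leaf 526) (.leaf 0)))) (.node (.node (.node (.leaf 92) (.leaf 926)) (.node (.leaf 428) (.leaf 0))) (.node (.node (.leaf 246) (.leaf 0)) (.node (.leaf 633) (.leaf 0))))) (.node (.node (.node (.node (.leaf 55) (.leaf 843)) (.node (.leaf 371) (.leaf 0))) (.node (.node (.leaf 202) (.leaf 0)) (.node (.leaf 582) (.leaf 0)))) (.node (.node (.node (.leaf 126) (.leaf 1000)) (.node (.leaf 471) (.leaf 0))) (.node (.node (.leaf 286) (.leaf 0)) (.node (.leaf 706) (.leaf 0))))))) (.node (.node (.node (.node (.node (.node (.leaf 12) (.leaf 751)) (.node (.leaf 317) (.leaf 0))) (.node (.node (.leaf 154) (.leaf 1079)) (.node (.leaf 514) (.leaf 0)))) (.node (.node (.node (.leaf 82) (.leaf 903)) (.node (.leaf 409) (.leaf 0))) (.node (.node (.leaf 235) (.leaf 0)) (.node (.leaf 623) (.leaf 0)))))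 (.node (.node (.node (.node (.leaf 46) (.leaf 823)) (.node (.leaf 356) (.leaf 0))) (.node (.node (.leaf 193) (.leaf 0)) (.node (.leaf 569) (.leaf 0)))) (.node (.node (.node (.leaf 118) (.leaf 985)) (.node (.leaf 458) (.leaf 0))) (.node (.node (.leaf 274) (.leaf 0)) (.node (.leaf 680) (.leaf 0)))))) (.node (.node (.node (.node (.node (.leaf 29) (.leaf 786)) (.node (.leaf 338) (.leaf 0))) (.node (.node (.leaf 174) (.leaf 1188)) (.node (.leaf 540) (.leaf 0)))) (.node (.node (.node (.leaf 101) (.leaf 943)) (.node (.leaf 436) (.leaf 0))) (.node (.node (.leaf 255) (.leaf 0)) (.node (.leaf 650) (.leaf 0))))) (.node (.node (.node (.node (.leaf 63) (.leaf 872)) (.node (.leaf 384) (.leaf 0))) (.node (.node (.leaf 213) (.leaf 0)) (.node (.leaf 592) (.leaf 0)))) (.node (.node (.node (.leaf 134) (.leaf 1022)) (.node (.leaf 487) (.leaf 0))) (.node (.node (.leaf 295) (.leaf 0)) (.node (.leaf 719) (.leaf 0))))))))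

def pT2 : NT := .node (.node (.node (.node (.node (.node (.node (.node (.leaf 1) (.leaf 732)) (.node (.leaf 301) (.leaf 0))) (.node (.node (.leaf 140) (.leaf 1042)) (.node (.leaf 494) (.leaf 0)))) (.node (.node (.node (.leaf 68) (.leaf 881)) (.node (.leaf 390) (.leaf 0))) (.node (.node (.leaf 221) (.leaf 0)) (.node (.leaf 602) (.leaf 0))))) (.node (.node (.node (.node (.leaf 34) (.leaf 796)) (.node (.leaf 343) (.leaf 0))) (.node (.node (.leaf 179) (.leaf 1253)) (.node (.leaf 548) (.leaf 0)))) (.node (.node (.node (.leaf 107) (.leaf 965)) (.node (.leaf 445) (.leaf 0))) (.node (.node (.leaf 260) (.leaf 0)) (.node (.leaf 659) (.leaf 0)))))) (.node (.node (.node (.node (.node (.leaf 17) (.leaf 764)) (.node (.leaf 326) (.leaf 0))) (.node (.node (.leaf 160) (.leaf 1110)) (.node (.leaf 521) (.leaf 0)))) (.node (.node (.node (.leaf 88) (.leaf 912)) (.node (.leaf 424) (.leaf 0))) (.node (.node (.leaf 243) (.leaf 0)) (.node (.leaf 629) (.leaf 0))))) (.node (.node (.node (.node (.leaf 51) (.leaf 834))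 (.node (.leaf 364) (.leaf 0))) (.node (.node (.leaf 198) (.leaf 0)) (.node (.leaf 576) (.leaf 0)))) (.node (.node (.node (.leaf 123) (.leaf 992)) (.node (.leaf 464) (.leaf 0))) (.node (.node (.leaf 282) (.leaf 0)) (.node (.leaf 688) (.leaf 0))))))) (.node (.node (.node (.node (.node (.node (.leaf 9) (.leaf 748)) (.node (.leaf 311) (.leaf 0))) (.node (.node (.leaf 151) (.leaf 1072)) (.node (.leaf 508) (.leaf 0)))) (.node (.node (.node (.leaf 78) (.leaf 899)) (.node (.leaf 404) (.leaf 0))) (.node (.node (.leaf 230) (.leaf 0)) (.node (.leaf 619) (.leaf 0))))) (.node (.node (.node (.node (.leaf 43) (.leaf 814)) (.node (.leaf 352) (.leaf 0))) (.node (.node (.leaf 190) (.leaf 0)) (.node (.leaf 558) (.leaf 0)))) (.node (.node (.node (.leaf 115) (.leaf 980)) (.node (.leaf 454) (.leaf 0))) (.node (.node (.leaf 271) (.leaf 0)) (.node (.leaf 677) (.leaf 0)))))) (.node (.node (.node (.node (.node (.leaf 25) (.leaf 780)) (.node (.leaf 334) (.leaf 0))) (.node (.node (.leaf 169) (.leaf 1146)) (.node (.leaf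 533) (.leaf 0)))) (.node (.node (.node (.leaf 98) (.leaf 939)) (.node (.leaf 433) (.leaf 0))) (.node (.node (.leaf 251) (.leaf 0)) (.node (.leaf 644) (.leaf 0))))) (.node (.node (.node (.node (.leaf 60) (.leaf 864)) (.node (.leaf 380) (.leaf 0))) (.node (.node (.leaf 209) (.leaf 0)) (.node (.leaf 587) (.leaf 0)))) (.node (.node (.node (.leaf 131) (.leaf 1012)) (.node (.leaf 479) (.leaf 0))) (.node (.node (.leaf 291) (.leaf 0)) (.node (.leaf 712) (.leaf 0)))))))) (.node (.node (.node (.node (.node (.node (.node (.leaf 5) (.leaf 740)) (.node (.leaf 306) (.leaf 0))) (.node (.node (.leaf 145) (.leaf 1061)) (.node (.leaf 502) (.leaf 0)))) (.node (.node (.node (.leaf 73) (.leaf 894)) (.node (.leaf 398) (.leaf 0))) (.node (.node (.leaf 226) (.leaf 0)) (.node (.leaf 608) (.leaf 0))))) (.node (.node (.node (.node (.leaf 39) (.leaf 804)) (.node (.leaf 347) (.leaf 0))) (.node (.node (.leaf 183) (.leaf 1298)) (.node (.leaf 553) (.leaf 0)))) (.node (.node (.node (.leaf 111) (.leaf 972)) (.node (.leaf 449)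 (.leaf 0))) (.node (.node (.leaf 267) (.leaf 0)) (.node (.leaf 669) (.leaf 0)))))) (.node (.node (.node (.node (.node (.leaf 21) (.leaf 773)) (.node (.leaf 330) (.leaf 0))) (.node (.node (.leaf 164) (.leaf 1123)) (.node (.leaf 528) (.leaf 0)))) (.node (.node (.node (.leaf 94) (.leaf 931)) (.node (.leaf 429) (.leaf 0))) (.node (.node (.leaf 247) (.leaf 0)) (.node (.leaf 634) (.leaf 0))))) (.node (.node (.node (.node (.leaf 56) (.leaf 854)) (.node (.leaf 373) (.leaf 0))) (.node (.node (.leaf 203) (.leaf 0)) (.node (.leaf 583) (.leaf 0)))) (.node (.node (.node (.leaf 127) (.leaf 1004)) (.node (.leaf 472) (.leaf 0))) (.node (.node (.leaf 287) (.leaf 0)) (.node (.leaf 707) (.leaf 0))))))) (.node (.node (.node (.node (.node (.node (.leaf 13) (.leaf 752)) (.node (.leaf 318) (.leaf 0))) (.node (.node (.leaf 155) (.leaf 1088)) (.node (.leaf 515) (.leaf 0)))) (.node (.node (.node (.leaf 83) (.leaf 904)) (.node (.leaf 411) (.leaf 0))) (.node (.node (.leaf 237) (.leaf 0)) (.node (.leaf 624) (.leaf 0)))))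 (.node (.node (.node (.node (.leaf 47) (.leaf 826)) (.node (.leaf 357) (.leaf 0))) (.node (.node (.leaf 194) (.leaf 0)) (.node (.leaf 570) (.leaf 0)))) (.node (.node (.node (.leaf 119) (.leaf 986)) (.node (.leaf 460) (.leaf 0))) (.node (.node (.leaf 275) (.leaf 0)) (.node (.leaf 683) (.leaf 0)))))) (.node (.node (.node (.node (.node (.leaf 30) (.leaf 787)) (.node (.leaf 339) (.leaf 0))) (.node (.node (.leaf 175) (.leaf 1192)) (.node (.leaf 541) (.leaf 0)))) (.node (.node (.node (.leaf 102) (.leaf 945)) (.node (.leaf 437) (.leaf 0))) (.node (.node (.leaf 256) (.leaf 0)) (.node (.leaf 651) (.leaf 0))))) (.node (.node (.node (.node (.leaf 64) (.leaf 873)) (.node (.leaf 386) (.leaf 0))) (.node (.node (.leaf 216) (.leaf 0)) (.node (.leaf 594) (.leaf 0)))) (.node (.node (.node (.leaf 135) (.leaf 1024)) (.node (.leaf 488) (.leaf 0))) (.node (.node (.leaf 296) (.leaf 0)) (.node (.leaf 720) (.leaf 0))))))))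

def pT3 : NT := .node (.node (.node (.node (.node (.node (.node (.node (.leaf 2) (.leaf 733)) (.node (.leaf 302) (.leaf 0))) (.node (.node (.leaf 142) (.leaf 1045)) (.node (.leaf 497) (.leaf 0)))) (.node (.node (.node (.leaf 70) (.leaf 883)) (.node (.leaf 392) (.leaf 0))) (.node (.node (.leaf 222) (.leaf 0)) (.node (.leaf 603) (.leaf 0))))) (.node (.node (.node (.node (.leaf 35) (.leaf 798)) (.node (.leaf 344) (.leaf 0))) (.node (.node (.leaf 180) (.leaf 1276)) (.node (.leaf 549) (.leaf 0)))) (.node (.node (.node (.leaf 108) (.leaf 967)) (.node (.leaf 446) (.leaf 0))) (.node (.node (.leaf 261) (.leaf 0)) (.node (.leaf 662) (.leaf 0)))))) (.node (.node (.node (.node (.node (.leaf 18) (.leaf 765)) (.node (.leaf 327) (.leaf 0))) (.node (.node (.leaf 161) (.leaf 1113)) (.node (.leaf 524) (.leaf 0)))) (.node (.node (.node (.leaf 89) (.leaf 920)) (.node (.leaf 426) (.leaf 0))) (.node (.node (.leaf 244) (.leaf 0)) (.node (.leaf 631) (.leaf 0))))) (.node (.node (.node (.node (.leaf 53) (.leaf 837))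 (.node (.leaf 366) (.leaf 0))) (.node (.node (.leaf 199) (.leaf 0)) (.node (.leaf 577) (.leaf 0)))) (.node (.node (.node (.leaf 124) (.leaf 994)) (.node (.leaf 465) (.leaf 0))) (.node (.node (.leaf 283) (.leaf 0)) (.node (.leaf 689) (.leaf 0))))))) (.node (.node (.node (.node (.node (.node (.leaf 10) (.leaf 749)) (.node (.leaf 313) (.leaf 0))) (.node (.node (.leaf 152) (.leaf 1073)) (.node (.leaf 510) (.leaf 0)))) (.node (.node (.node (.leaf 79) (.leaf 900)) (.node (.leaf 405) (.leaf 0))) (.node (.node (.leaf 232) (.leaf 0)) (.node (.leaf 621) (.leaf 0))))) (.node (.node (.node (.node (.leaf 44) (.leaf 820)) (.node (.leaf 354) (.leaf 0))) (.node (.node (.leaf 191) (.leaf 0)) (.node (.leaf 560) (.leaf 0)))) (.node (.node (.node (.leaf 116) (.leaf 982)) (.node (.leaf 455) (.leaf 0))) (.node (.node (.leaf 272) (.leaf 0)) (.node (.leaf 678) (.leaf 0)))))) (.node (.node (.node (.node (.node (.leaf 27) (.leaf 781)) (.node (.leaf 336) (.leaf 0))) (.node (.node (.leaf 170) (.leaf 1147)) (.node (.leaf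 535) (.leaf 0)))) (.node (.node (.node (.leaf 99) (.leaf 940)) (.node (.leaf 434) (.leaf 0))) (.node (.node (.leaf 252) (.leaf 0)) (.node (.leaf 645) (.leaf 0))))) (.node (.node (.node (.node (.leaf 61) (.leaf 866)) (.node (.leaf 382) (.leaf 0))) (.node (.node (.leaf 210) (.leaf 0)) (.node (.leaf 588) (.leaf 0)))) (.node (.node (.node (.leaf 132) (.leaf 1013)) (.node (.leaf 482) (.leaf 0))) (.node (.node (.leaf 292) (.leaf 0)) (.node (.leaf 713) (.leaf 0)))))))) (.node (.node (.node (.node (.node (.node (.node (.leaf 6) (.leaf 741)) (.node (.leaf 307) (.leaf 0))) (.node (.node (.leaf 147) (.leaf 1062)) (.node (.leaf 503) (.leaf 0)))) (.node (.node (.node (.leaf 74) (.leaf 895)) (.node (.leaf 400) (.leaf 0))) (.node (.node (.leaf 227) (.leaf 0)) (.node (.leaf 613) (.leaf 0))))) (.node (.node (.node (.node (.leaf 40) (.leaf 806)) (.node (.leaf 348) (.leaf 0))) (.node (.node (.leaf 185) (.leaf 1321)) (.node (.leaf 554) (.leaf 0)))) (.node (.node (.node (.leaf 112) (.leaf 974)) (.node (.leaf 451)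 (.leaf 0))) (.node (.node (.leaf 268) (.leaf 0)) (.node (.leaf 670) (.leaf 0)))))) (.node (.node (.node (.node (.node (.leaf 22) (.leaf 774)) (.node (.leaf 331) (.leaf 0))) (.node (.node (.leaf 165) (.leaf 1124)) (.node (.leaf 530) (.leaf 0)))) (.node (.node (.node (.leaf 95) (.leaf 933)) (.node (.leaf 430) (.leaf 0))) (.node (.node (.leaf 248) (.leaf 0)) (.node (.leaf 635) (.leaf 0))))) (.node (.node (.node (.node (.leaf 57) (.leaf 855)) (.node (.leaf 374) (.leaf 0))) (.node (.node (.leaf 205) (.leaf 0)) (.node (.leaf 584) (.leaf 0)))) (.node (.node (.node (.leaf 128) (.leaf 1005)) (.node (.leaf 473) (.leaf 0))) (.node (.node (.leaf 288) (.leaf 0)) (.node (.leaf 708) (.leaf 0))))))) (.node (.node (.node (.node (.node (.node (.leaf 14) (.leaf 756)) (.node (.leaf 320) (.leaf 0))) (.node (.node (.leaf 156) (.leaf 1091)) (.node (.leaf 517) (.leaf 0)))) (.node (.node (.node (.leaf 84) (.leaf 907)) (.node (.leaf 414) (.leaf 0))) (.node (.node (.leaf 238) (.leaf 0)) (.node (.leaf 625) (.leaf 0)))))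 (.node (.node (.node (.node (.leaf 48) (.leaf 827)) (.node (.leaf 358) (.leaf 0))) (.node (.node (.leaf 195) (.leaf 0)) (.node (.leaf 571) (.leaf 0)))) (.node (.node (.node (.leaf 120) (.leaf 988)) (.node (.leaf 461) (.leaf 0))) (.node (.node (.leaf 277) (.leaf 0)) (.node (.leaf 684) (.leaf 0)))))) (.node (.node (.node (.node (.node (.leaf 31) (.leaf 790)) (.node (.leaf 340) (.leaf 0))) (.node (.node (.leaf 176) (.leaf 1193)) (.node (.leaf 542) (.leaf 0)))) (.node (.node (.node (.leaf 103) (.leaf 949)) (.node (.leaf 439) (.leaf 0))) (.node (.node (.leaf 257) (.leaf 0)) (.node (.leaf 652) (.leaf 0))))) (.node (.node (.node (.node (.leaf 65) (.leaf 874)) (.node (.leaf 387) (.leaf 0))) (.node (.node (.leaf 217) (.leaf 0)) (.node (.leaf 596) (.leaf 0)))) (.node (.node (.node (.leaf 137) (.leaf 1026)) (.node (.leaf 489) (.leaf 0))) (.node (.node (.leaf 297) (.leaf 0)) (.node (.leaf 724) (.leaf 0))))))))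

def pT : NT := .node (.node (pT0) (pT2)) (.node (pT1) (pT3))

def kT0 : NT := .node (.node (.node (.node (.node (.node (.node (.node (.leaf 81155) (.leaf 54094)) (.node (.leaf 123800) (.leaf 0))) (.node (.node (.leaf 82176) (.leaf 70484)) (.node (.leaf 95575) (.leaf 0)))) (.node (.node (.node (.leaf 34984) (.leaf 25504)) (.node (.leaf 122864) (.leaf 0))) (.node (.node (.leaf 103735) (.leaf 0)) (.node (.leaf 38191) (.leaf 0))))) (.node (.node (.node (.node (.leaf 71054) (.leaf 102841)) (.node (.leaf 11530) (.leaf 0))) (.node (.node (.leaf 114671) (.leaf 55714)) (.node (.leaf 119098) (.leaf 0)))) (.node (.node (.node (.leaf 129292) (.leaf 32912)) (.node (.leaf 2069) (.leaf 0))) (.node (.node (.leaf 63841) (.leaf 0)) (.node (.leaf 32946) (.leaf 0)))))) (.node (.node (.node (.node (.node (.leaf 2208) (.leaf 23376)) (.node (.leaf 13345) (.leaf 0))) (.node (.node (.leaf 75539) (.leaf 10839)) (.node (.leaf 9959) (.leaf 0)))) (.node (.node (.node (.leaf 33198) (.leaf 68091)) (.node (.leaf 23764) (.leaf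 0))) (.node (.node (.leaf 61842) (.leaf 0)) (.node (.leaf 4871) (.leaf 0))))) (.node (.node (.node (.node (.leaf 79255) (.leaf 42333)) (.node (.leaf 124278) (.leaf 0))) (.node (.node (.leaf 88455) (.leaf 0)) (.node (.leaf 100132) (.leaf 0)))) (.node (.node (.node (.leaf 63296) (.leaf 5527)) (.node (.leaf 72012) (.leaf 0))) (.node (.node (.leaf 90391) (.leaf 0)) (.node (.leaf 109902) (.leaf 0))))))) (.node (.node (.node (.node (.node (.node (.leaf 27444) (.leaf 82865)) (.node (.leaf 75102) (.leaf 0))) (.node (.node (.leaf 4799) (.leaf 28105)) (.node (.leaf 59655) (.leaf 0)))) (.node (.node (.node (.leaf 29899) (.leaf 21755)) (.node (.leaf 5234) (.leaf 0))) (.node (.node (.leaf 122873) (.leaf 0)) (.node (.leaf 42833) (.leaf 0))))) (.node (.node (.node (.node (.leaf 10408) (.leaf 41800)) (.node (.leaf 26801) (.leaf 0))) (.node (.node (.leaf 125807) (.leaf 0)) (.node (.leaf 5294) (.leaf 0)))) (.node (.node (.node (.leaf 60324) (.leaf 49987)) (.node (.leaf 14955) (.leaf 0))) (.node (.node (.leaf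 92072) (.leaf 0)) (.node (.leaf 117737) (.leaf 0)))))) (.node (.node (.node (.node (.node (.leaf 25982) (.leaf 64945)) (.node (.leaf 2649) (.leaf 0))) (.node (.node (.leaf 75701) (.leaf 29303)) (.node (.leaf 25039) (.leaf 0)))) (.node (.node (.node (.leaf 71089) (.leaf 46567)) (.node (.leaf 906) (.leaf 0))) (.node (.node (.leaf 92089) (.leaf 0)) (.node (.leaf 68588) (.leaf 0))))) (.node (.node (.node (.node (.leaf 88888) (.leaf 75551)) (.node (.leaf 32751) (.leaf 0))) (.node (.node (.leaf 79725) (.leaf 0)) (.node (.leaf 40803) (.leaf 0)))) (.node (.node (.node (.leaf 26487) (.leaf 41266)) (.node (.leaf 57098) (.leaf 0))) (.node (.node (.leaf 96246) (.leaf 0)) (.node (.leaf 110407) (.leaf 0)))))))) (.node (.node (.node (.node (.node (.node (.node (.leaf 126858) (.leaf 16081)) (.node (.leaf 109473) (.leaf 0))) (.node (.node (.leaf 23979) (.leaf 64854)) (.node (.leaf 59721) (.leaf 0)))) (.node (.node (.node (.leaf 8574) (.leaf 67919)) (.node (.leaf 20974) (.leaf 0))) (.node (.node (.leaf 12791)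 (.leaf 0)) (.node (.leaf 110009) (.leaf 0))))) (.node (.node (.node (.node (.leaf 2726) (.leaf 124926)) (.node (.leaf 64450) (.leaf 0))) (.node (.node (.leaf 13251) (.leaf 118714)) (.node (.leaf 52555) (.leaf 0)))) (.node (.node (.node (.leaf 44381) (.leaf 39853)) (.node (.leaf 59725) (.leaf 0))) (.node (.node (.leaf 19099) (.leaf 0)) (.node (.leaf 17585) (.leaf 0)))))) (.node (.node (.node (.node (.node (.leaf 12511) (.leaf 41144)) (.node (.leaf 19931) (.leaf 0))) (.node (.node (.leaf 42165) (.leaf 115584)) (.node (.leaf 48968) (.leaf 0)))) (.node (.node (.node (.leaf 108001) (.leaf 124223)) (.node (.leaf 116211) (.leaf 0))) (.node (.node (.leaf 87499) (.leaf 0)) (.node (.leaf 51951) (.leaf 0))))) (.node (.node (.node (.node (.leaf 53917) (.leaf 27769)) (.node (.leaf 126732) (.leaf 0))) (.node (.node (.leaf 64361) (.leaf 0)) (.node (.leaf 62612) (.leaf 0)))) (.node (.node (.node (.leaf 28940) (.leaf 63888)) (.node (.leaf 89060) (.leaf 0))) (.node (.node (.leaf 6971) (.leaf 0)) (.node (.leaf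 46492) (.leaf 0))))))) (.node (.node (.node (.node (.node (.node (.leaf 35276) (.leaf 33521)) (.node (.leaf 86362) (.leaf 0))) (.node (.node (.leaf 112999) (.leaf 8927)) (.node (.leaf 61707) (.leaf 0)))) (.node (.node (.node (.leaf 30318) (.leaf 97227)) (.node (.leaf 1817) (.leaf 0))) (.node (.node (.leaf 51535) (.leaf 0)) (.node (.leaf 48473) (.leaf 0))))) (.node (.node (.node (.node (.leaf 86490) (.leaf 80156)) (.node (.leaf 80375) (.leaf 0))) (.node (.node (.leaf 19116) (.leaf 0)) (.node (.leaf 29842) (.leaf 0)))) (.node (.node (.node (.leaf 127404) (.leaf 115526)) (.node (.leaf 67968) (.leaf 0))) (.node (.node (.leaf 60707) (.leaf 0)) (.node (.leaf 121654) (.leaf 0)))))) (.node (.node (.node (.node (.node (.leaf 128879) (.leaf 15577)) (.node (.leaf 36818) (.leaf 0))) (.node (.node (.leaf 67040) (.leaf 58022)) (.node (.leaf 79250) (.leaf 0)))) (.node (.node (.node (.leaf 578) (.leaf 97584)) (.node (.leaf 37673) (.leaf 0))) (.node (.node (.leaf 26452) (.leaf 0)) (.node (.leaf 21913) (.leaf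 0))))) (.node (.node (.node (.node (.leaf 13722) (.leaf 58177)) (.node (.leaf 103344) (.leaf 0))) (.node (.node (.leaf 100312) (.leaf 0)) (.node (.leaf 23293) (.leaf 0)))) (.node (.node (.node (.leaf 13689) (.leaf 58765)) (.node (.leaf 31653) (.leaf 0))) (.node (.node (.leaf 45810) (.leaf 0)) (.node (.leaf 67358) (.leaf 0))))))))

def kT1 : NT := .node (.node (.node (.node (.node (.node (.node (.node (.leaf 968) (.leaf 34776)) (.node (.leaf 2758) (.leaf 0))) (.node (.node (.leaf 47457) (.leaf 42295)) (.node (.leaf 37545) (.leaf 0)))) (.node (.node (.node (.leaf 17383) (.leaf 17401)) (.node (.leaf 21414) (.leaf 0))) (.node (.node (.leaf 52037) (.leaf 0)) (.node (.leaf 14555) (.leaf 0))))) (.node (.node (.node (.node (.leaf 25256) (.leaf 3387)) (.node (.leaf 30554) (.leaf 0))) (.node (.node (.leaf 41213) (.leaf 55728)) (.node (.leaf 89429) (.leaf 0)))) (.node (.node (.node (.leaf 72000) (.leaf 27725)) (.node (.leaf 52218) (.leaf 0))) (.node (.node (.leaf 18514) (.leaf 0)) (.node (.leaf 18702)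 (.leaf 0)))))) (.node (.node (.node (.node (.node (.leaf 97615) (.leaf 8242)) (.node (.leaf 15655) (.leaf 0))) (.node (.node (.leaf 64660) (.leaf 129870)) (.node (.leaf 54776) (.leaf 0)))) (.node (.node (.node (.leaf 62308) (.leaf 63850)) (.node (.leaf 127913) (.leaf 0))) (.node (.node (.leaf 64189) (.leaf 0)) (.node (.leaf 28529) (.leaf 0))))) (.node (.node (.node (.node (.leaf 51983) (.leaf 54045)) (.node (.leaf 24804) (.leaf 0))) (.node (.node (.leaf 65442) (.leaf 0)) (.node (.leaf 69503) (.leaf 0)))) (.node (.node (.node (.leaf 66973) (.leaf 3138)) (.node (.leaf 90030) (.leaf 0))) (.node (.node (.leaf 54992) (.leaf 0)) (.node (.leaf 118145) (.leaf 0))))))) (.node (.node (.node (.node (.node (.node (.leaf 62903) (.leaf 53158)) (.node (.leaf 95198) (.leaf 0))) (.node (.node (.leaf 18327) (.leaf 23449)) (.node (.leaf 46056) (.leaf 0)))) (.node (.node (.node (.leaf 2568) (.leaf 128312)) (.node (.leaf 50000) (.leaf 0))) (.node (.node (.leaf 30183) (.leaf 0)) (.node (.leaf 47455) (.leaf 0)))))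 (.node (.node (.node (.node (.leaf 57684) (.leaf 62718)) (.node (.leaf 31024) (.leaf 0))) (.node (.node (.leaf 51531) (.leaf 0)) (.node (.leaf 46252) (.leaf 0)))) (.node (.node (.node (.leaf 13977) (.leaf 49540)) (.node (.leaf 9632) (.leaf 0))) (.node (.node (.leaf 10440) (.leaf 0)) (.node (.leaf 32227) (.leaf 0)))))) (.node (.node (.node (.node (.node (.leaf 10665) (.leaf 88951)) (.node (.leaf 56785) (.leaf 0))) (.node (.node (.leaf 61948) (.leaf 27992)) (.node (.leaf 20628) (.leaf 0)))) (.node (.node (.node (.leaf 64293) (.leaf 17568)) (.node (.leaf 120314) (.leaf 0))) (.node (.node (.leaf 47902) (.leaf 0)) (.node (.leaf 44209) (.leaf 0))))) (.node (.node (.node (.node (.leaf 16846) (.leaf 86859)) (.node (.leaf 29784) (.leaf 0))) (.node (.node (.leaf 95550) (.leaf 0)) (.node (.leaf 84410) (.leaf 0)))) (.node (.node (.node (.leaf 59559) (.leaf 89007)) (.node (.leaf 83275) (.leaf 0))) (.node (.node (.leaf 71034) (.leaf 0)) (.node (.leaf 13996) (.leaf 0)))))))) (.node (.node (.node (.node (.node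 (.node (.node (.leaf 31046) (.leaf 48300)) (.node (.leaf 102218) (.leaf 0))) (.node (.node (.leaf 55486) (.leaf 116616)) (.node (.leaf 58677) (.leaf 0)))) (.node (.node (.node (.leaf 3852) (.leaf 51120)) (.node (.leaf 100264) (.leaf 0))) (.node (.node (.leaf 118152) (.leaf 0)) (.node (.leaf 86374) (.leaf 0))))) (.node (.node (.node (.node (.leaf 13029) (.leaf 51644)) (.node (.leaf 65841) (.leaf 0))) (.node (.node (.leaf 66395) (.leaf 72161)) (.node (.leaf 81773) (.leaf 0)))) (.node (.node (.node (.leaf 88984) (.leaf 42728)) (.node (.leaf 115605) (.leaf 0))) (.node (.node (.leaf 117563) (.leaf 0)) (.node (.leaf 56016) (.leaf 0)))))) (.node (.node (.node (.node (.node (.leaf 77751) (.leaf 28500)) (.node (.leaf 76575) (.leaf 0))) (.node (.node (.leaf 15084) (.leaf 109334)) (.node (.leaf 41222) (.leaf 0)))) (.node (.node (.node (.leaf 32003) (.leaf 99291)) (.node (.leaf 111506) (.leaf 0))) (.node (.node (.leaf 73672) (.leaf 0)) (.node (.leaf 38881) (.leaf 0))))) (.node (.node (.node (.node (.leaf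 296) (.leaf 90617)) (.node (.leaf 108505) (.leaf 0))) (.node (.node (.leaf 35563) (.leaf 0)) (.node (.leaf 43840) (.leaf 0)))) (.node (.node (.node (.leaf 60153) (.leaf 109365)) (.node (.leaf 45050) (.leaf 0))) (.node (.node (.leaf 54440) (.leaf 0)) (.node (.leaf 86489) (.leaf 0))))))) (.node (.node (.node (.node (.node (.node (.leaf 120628) (.leaf 12190)) (.node (.leaf 53429) (.leaf 0))) (.node (.node (.leaf 102665) (.leaf 43336)) (.node (.leaf 10682) (.leaf 0)))) (.node (.node (.node (.leaf 47520) (.leaf 48858)) (.node (.leaf 5045) (.leaf 0))) (.node (.node (.leaf 10718) (.leaf 0)) (.node (.leaf 63908) (.leaf 0))))) (.node (.node (.node (.node (.leaf 12188) (.leaf 108336)) (.node (.leaf 25292) (.leaf 0))) (.node (.node (.leaf 46984) (.leaf 0)) (.node (.leaf 95607) (.leaf 0)))) (.node (.node (.node (.leaf 90586) (.leaf 123689)) (.node (.leaf 5321) (.leaf 0))) (.node (.node (.leaf 8598) (.leaf 0)) (.node (.leaf 76201) (.leaf 0)))))) (.node (.node (.node (.node (.node (.leaf 67562) (.leaf 20135))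 (.node (.leaf 6067) (.leaf 0))) (.node (.node (.leaf 50049) (.leaf 30716)) (.node (.leaf 30108) (.leaf 0)))) (.node (.node (.node (.leaf 24261) (.leaf 46542)) (.node (.leaf 29991) (.leaf 0))) (.node (.node (.leaf 17309) (.leaf 0)) (.node (.leaf 22786) (.leaf 0))))) (.node (.node (.node (.node (.leaf 116713) (.leaf 22123)) (.node (.leaf 44711) (.leaf 0))) (.node (.node (.leaf 52877) (.leaf 0)) (.node (.leaf 36522) (.leaf 0)))) (.node (.node (.node (.leaf 45782) (.leaf 102155)) (.node (.leaf 33409) (.leaf 0))) (.node (.node (.leaf 36720) (.leaf 0)) (.node (.leaf 100326) (.leaf 0))))))))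

def kT2 : NT := .node (.node (.node (.node (.node (.node (.node (.node (.leaf 5623) (.leaf 110572)) (.node (.leaf 41450) (.leaf 0))) (.node (.node (.leaf 107982) (.leaf 19551)) (.node (.leaf 72643) (.leaf 0)))) (.node (.node (.node (.leaf 47920) (.leaf 23699)) (.node (.leaf 67982) (.leaf 0))) (.node (.node (.leaf 106756) (.leaf 0)) (.node (.leaf 88558) (.leaf 0))))) (.node (.node (.node (.node (.leaf 84864) (.leaf 125793)) (.node (.leaf 71111) (.leaf 0))) (.node (.node (.leaf 65836) (.leaf 15709)) (.node (.leaf 127372) (.leaf 0)))) (.node (.node (.node (.leaf 65874) (.leaf 108465)) (.node (.leaf 49405) (.leaf 0))) (.node (.node (.leaf 71137) (.leaf 0)) (.node (.leaf 77704) (.leaf 0)))))) (.node (.node (.node (.node (.node (.leaf 52591) (.leaf 54654)) (.node (.leaf 8882) (.leaf 0))) (.node (.node (.leaf 4143) (.leaf 27866)) (.node (.leaf 28284) (.leaf 0)))) (.node (.node (.node (.leaf 128279) (.leaf 120801)) (.node (.leaf 117101) (.leaf 0))) (.node (.node (.leaf 78609) (.leaf 0)) (.node (.leaf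 36207) (.leaf 0))))) (.node (.node (.node (.node (.leaf 99165) (.leaf 69607)) (.node (.leaf 90881) (.leaf 0))) (.node (.node (.leaf 121842) (.leaf 0)) (.node (.leaf 90438) (.leaf 0)))) (.node (.node (.node (.leaf 125240) (.leaf 118631)) (.node (.leaf 114089) (.leaf 0))) (.node (.node (.leaf 2025) (.leaf 0)) (.node (.leaf 89479) (.leaf 0))))))) (.node (.node (.node (.node (.node (.node (.leaf 18658) (.leaf 71079)) (.node (.leaf 15001) (.leaf 0))) (.node (.node (.leaf 80272) (.leaf 96001)) (.node (.leaf 4410) (.leaf 0)))) (.node (.node (.node (.leaf 96177) (.leaf 97706)) (.node (.leaf 24752) (.leaf 0))) (.node (.node (.leaf 115149) (.leaf 0)) (.node (.leaf 70432) (.leaf 0))))) (.node (.node (.node (.node (.leaf 16505) (.leaf 105423)) (.node (.leaf 109021) (.leaf 0))) (.node (.node (.leaf 106957) (.leaf 0)) (.node (.leaf 87995) (.leaf 0)))) (.node (.node (.node (.leaf 27216) (.leaf 1885)) (.node (.leaf 101330) (.leaf 0))) (.node (.node (.leaf 97204) (.leaf 0)) (.node (.leaf 119614) (.leaf 0))))))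 (.node (.node (.node (.node (.node (.leaf 39351) (.leaf 106770)) (.node (.leaf 94029) (.leaf 0))) (.node (.node (.leaf 12074) (.leaf 892)) (.node (.leaf 49946) (.leaf 0)))) (.node (.node (.node (.leaf 77732) (.leaf 47815)) (.node (.leaf 36753) (.leaf 0))) (.node (.node (.leaf 17599) (.leaf 0)) (.node (.leaf 15133) (.leaf 0))))) (.node (.node (.node (.node (.leaf 8040) (.leaf 41268)) (.node (.leaf 108350) (.leaf 0))) (.node (.node (.leaf 15834) (.leaf 0)) (.node (.leaf 36657) (.leaf 0)))) (.node (.node (.node (.leaf 102333) (.leaf 69043)) (.node (.leaf 82179) (.leaf 0))) (.node (.node (.leaf 59342) (.leaf 0)) (.node (.leaf 878) (.leaf 0)))))))) (.node (.node (.node (.node (.node (.node (.node (.leaf 54931) (.leaf 32560)) (.node (.leaf 51482) (.leaf 0))) (.node (.node (.leaf 72170) (.leaf 86434)) (.node (.leaf 43154) (.leaf 0)))) (.node (.node (.node (.leaf 4599) (.leaf 44499)) (.node (.leaf 6874) (.leaf 0))) (.node (.node (.leaf 14582) (.leaf 0)) (.node (.leaf 29263) (.leaf 0))))) (.node (.node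 (.node (.node (.leaf 3130) (.leaf 22499)) (.node (.leaf 81167) (.leaf 0))) (.node (.node (.leaf 120641) (.leaf 109959)) (.node (.leaf 75536) (.leaf 0)))) (.node (.node (.node (.leaf 21092) (.leaf 85456)) (.node (.leaf 18810) (.leaf 0))) (.node (.node (.leaf 124323) (.leaf 0)) (.node (.leaf 47079) (.leaf 0)))))) (.node (.node (.node (.node (.node (.leaf 4873) (.leaf 2113)) (.node (.leaf 15229) (.leaf 0))) (.node (.node (.leaf 67001) (.leaf 48512)) (.node (.leaf 64329) (.leaf 0)))) (.node (.node (.node (.leaf 21898) (.leaf 51707)) (.node (.leaf 19265) (.leaf 0))) (.node (.node (.leaf 9796) (.leaf 0)) (.node (.leaf 25176) (.leaf 0))))) (.node (.node (.node (.node (.leaf 72478) (.leaf 119587)) (.node (.leaf 36154) (.leaf 0))) (.node (.node (.leaf 102224) (.leaf 0)) (.node (.leaf 14974) (.leaf 0)))) (.node (.node (.node (.leaf 60911) (.leaf 11472)) (.node (.leaf 48976) (.leaf 0))) (.node (.node (.leaf 60886) (.leaf 0)) (.node (.leaf 20880) (.leaf 0))))))) (.node (.node (.node (.node (.node (.node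 (.leaf 118653) (.leaf 58161)) (.node (.leaf 13296) (.leaf 0))) (.node (.node (.leaf 69452) (.leaf 67033)) (.node (.leaf 101702) (.leaf 0)))) (.node (.node (.node (.leaf 121736) (.leaf 69084)) (.node (.leaf 129396) (.leaf 0))) (.node (.node (.leaf 66365) (.leaf 0)) (.node (.leaf 25397) (.leaf 0))))) (.node (.node (.node (.node (.leaf 30025) (.leaf 51088)) (.node (.leaf 112572) (.leaf 0))) (.node (.node (.leaf 62284) (.leaf 0)) (.node (.leaf 34072) (.leaf 0)))) (.node (.node (.node (.leaf 29329) (.leaf 108450)) (.node (.leaf 9445) (.leaf 0))) (.node (.node (.leaf 33732) (.leaf 0)) (.node (.leaf 38289) (.leaf 0)))))) (.node (.node (.node (.node (.node (.leaf 109462) (.leaf 93025)) (.node (.leaf 11) (.leaf 0))) (.node (.node (.leaf 108424) (.leaf 11113)) (.node (.leaf 74105) (.leaf 0)))) (.node (.node (.node (.leaf 10415) (.leaf 12471)) (.node (.leaf 2977) (.leaf 0))) (.node (.node (.leaf 7621) (.leaf 0)) (.node (.leaf 29310) (.leaf 0))))) (.node (.node (.node (.node (.leaf 39575) (.leaf 58815))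 (.node (.leaf 61614) (.leaf 0))) (.node (.node (.leaf 19719) (.leaf 0)) (.node (.leaf 77578) (.leaf 0)))) (.node (.node (.node (.leaf 17308) (.leaf 56710)) (.node (.leaf 72540) (.leaf 0))) (.node (.node (.leaf 78668) (.leaf 0)) (.node (.leaf 92626) (.leaf 0))))))))

def kT3 : NT := .node (.node (.node (.node (.node (.node (.node (.node (.leaf 6430) (.leaf 60741)) (.node (.leaf 93991) (.leaf 0))) (.node (.node (.leaf 65817) (.leaf 105814)) (.node (.leaf 50093) (.leaf 0)))) (.node (.node (.node (.leaf 104198) (.leaf 9706)) (.node (.leaf 8859) (.leaf 0))) (.node (.node (.leaf 32442) (.leaf 0)) (.node (.leaf 76661) (.leaf 0))))) (.node (.node (.node (.node (.leaf 85503) (.leaf 102732)) (.node (.leaf 4979) (.leaf 0))) (.node (.node (.leaf 32995) (.leaf 66905)) (.node (.leaf 56708) (.leaf 0)))) (.node (.node (.node (.leaf 41948) (.leaf 120142)) (.node (.leaf 52397) (.leaf 0))) (.node (.node (.leaf 11376) (.leaf 0)) (.node (.leaf 122649) (.leaf 0)))))) (.node (.node (.node (.node (.node (.leaf 73502)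 (.leaf 90473)) (.node (.leaf 29900) (.leaf 0))) (.node (.node (.leaf 13563) (.leaf 24829)) (.node (.leaf 110066) (.leaf 0)))) (.node (.node (.node (.leaf 31456) (.leaf 55953)) (.node (.leaf 125238) (.leaf 0))) (.node (.node (.leaf 59562) (.leaf 0)) (.node (.leaf 771) (.leaf 0))))) (.node (.node (.node (.node (.leaf 94578) (.leaf 36112)) (.node (.leaf 57607) (.leaf 0))) (.node (.node (.leaf 108512) (.leaf 0)) (.node (.leaf 58854) (.leaf 0)))) (.node (.node (.node (.leaf 25171) (.leaf 51549)) (.node (.leaf 50039) (.leaf 0))) (.node (.node (.leaf 64224) (.leaf 0)) (.node (.leaf 100184) (.leaf 0))))))) (.node (.node (.node (.node (.node (.node (.leaf 61731) (.leaf 36837)) (.node (.leaf 552) (.leaf 0))) (.node (.node (.leaf 79307) (.leaf 29770)) (.node (.leaf 124736) (.leaf 0)))) (.node (.node (.node (.leaf 31366) (.leaf 100120)) (.node (.leaf 33703) (.leaf 0))) (.node (.node (.leaf 5652) (.leaf 0)) (.node (.leaf 3954) (.leaf 0))))) (.node (.node (.node (.node (.leaf 11860) (.leaf 51922)) (.node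 (.leaf 127271) (.leaf 0))) (.node (.node (.leaf 4313) (.leaf 0)) (.node (.leaf 24346) (.leaf 0)))) (.node (.node (.node (.leaf 487) (.leaf 22492)) (.node (.leaf 115617) (.leaf 0))) (.node (.node (.leaf 58123) (.leaf 0)) (.node (.leaf 36216) (.leaf 0)))))) (.node (.node (.node (.node (.node (.leaf 63809) (.leaf 81)) (.node (.leaf 100122) (.leaf 0))) (.node (.node (.leaf 32365) (.leaf 104255)) (.node (.leaf 48516) (.leaf 0)))) (.node (.node (.node (.leaf 58755) (.leaf 21998)) (.node (.leaf 51103) (.leaf 0))) (.node (.node (.leaf 3393) (.leaf 0)) (.node (.leaf 12133) (.leaf 0))))) (.node (.node (.node (.node (.leaf 22719) (.leaf 9084)) (.node (.leaf 55669) (.leaf 0))) (.node (.node (.leaf 12976) (.leaf 0)) (.node (.leaf 23222) (.leaf 0)))) (.node (.node (.node (.leaf 96187) (.leaf 38730)) (.node (.leaf 36057) (.leaf 0))) (.node (.node (.leaf 4728) (.leaf 0)) (.node (.leaf 76644) (.leaf 0)))))))) (.node (.node (.node (.node (.node (.node (.node (.leaf 108294) (.leaf 126814)) (.node (.leaf 61281)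 (.leaf 0))) (.node (.node (.leaf 9454) (.leaf 77274)) (.node (.leaf 111555) (.leaf 0)))) (.node (.node (.node (.leaf 16176) (.leaf 75616)) (.node (.leaf 126363) (.leaf 0))) (.node (.node (.leaf 57694) (.leaf 0)) (.node (.leaf 14519) (.leaf 0))))) (.node (.node (.node (.node (.leaf 2953) (.leaf 53731)) (.node (.leaf 14212) (.leaf 0))) (.node (.node (.leaf 107381) (.leaf 5845)) (.node (.leaf 81891) (.leaf 0)))) (.node (.node (.node (.leaf 74208) (.leaf 111945)) (.node (.leaf 104733) (.leaf 0))) (.node (.node (.leaf 128346) (.leaf 0)) (.node (.leaf 37802) (.leaf 0)))))) (.node (.node (.node (.node (.node (.leaf 102344) (.leaf 81175)) (.node (.leaf 29646) (.leaf 0))) (.node (.node (.leaf 36506) (.leaf 72007)) (.node (.leaf 79742) (.leaf 0)))) (.node (.node (.node (.leaf 122284) (.leaf 78209)) (.node (.leaf 27922) (.leaf 0))) (.node (.node (.leaf 50965) (.leaf 0)) (.node (.leaf 22947) (.leaf 0))))) (.node (.node (.node (.node (.leaf 63202) (.leaf 80821)) (.node (.leaf 103899) (.leaf 0))) (.node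 (.node (.leaf 20713) (.leaf 0)) (.node (.leaf 37833) (.leaf 0)))) (.node (.node (.node (.leaf 73586) (.leaf 113986)) (.node (.leaf 58736) (.leaf 0))) (.node (.node (.leaf 15711) (.leaf 0)) (.node (.leaf 78270) (.leaf 0))))))) (.node (.node (.node (.node (.node (.node (.leaf 37606) (.leaf 39564)) (.node (.leaf 73624) (.leaf 0))) (.node (.node (.leaf 105470) (.leaf 36862)) (.node (.leaf 50592) (.leaf 0)))) (.node (.node (.node (.leaf 3849) (.leaf 125802)) (.node (.leaf 53972) (.leaf 0))) (.node (.node (.leaf 33561) (.leaf 0)) (.node (.leaf 57556) (.leaf 0))))) (.node (.node (.node (.node (.leaf 20299) (.leaf 10744)) (.node (.leaf 57001) (.leaf 0))) (.node (.node (.leaf 14) (.leaf 0)) (.node (.leaf 71139) (.leaf 0)))) (.node (.node (.node (.leaf 114678) (.leaf 98677)) (.node (.leaf 9365) (.leaf 0))) (.node (.node (.leaf 28083) (.leaf 0)) (.node (.leaf 64495) (.leaf 0)))))) (.node (.node (.node (.node (.node (.leaf 16820) (.leaf 129303)) (.node (.leaf 89587) (.leaf 0))) (.node (.node (.leaf 118147)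 (.leaf 21373)) (.node (.leaf 62147) (.leaf 0)))) (.node (.node (.node (.leaf 71990) (.leaf 28907)) (.node (.leaf 74607) (.leaf 0))) (.node (.node (.leaf 88928) (.leaf 0)) (.node (.leaf 57740) (.leaf 0))))) (.node (.node (.node (.node (.leaf 22101) (.leaf 86464)) (.node (.leaf 122) (.leaf 0))) (.node (.node (.leaf 54560) (.leaf 0)) (.node (.leaf 54652) (.leaf 0)))) (.node (.node (.node (.leaf 105436) (.leaf 15092)) (.node (.leaf 101823) (.leaf 0))) (.node (.node (.leaf 75738) (.leaf 0)) (.node (.leaf 28959) (.leaf 0))))))))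

def kT : NT := .node (.node (kT0) (kT2)) (.node (kT1) (kT3))

def omT0 : NT := .node (.node (.node (.node (.node (.node (.node (.node (.leaf 286) (.leaf 501)) (.node (.leaf 448) (.leaf 0))) (.node (.node (.leaf 225) (.leaf 611)) (.node (.leaf 236) (.leaf 0)))) (.node (.node (.node (.leaf 135) (.leaf 316)) (.node (.leaf 581) (.leaf 0))) (.node (.node (.leaf 465) (.leaf 0)) (.node (.leaf 226) (.leaf 0))))) (.node (.node (.node (.node (.leaf 146) (.leaf 384)) (.node (.leaf 393) (.leaf 0))) (.node (.node (.leaf 528) (.leaf 82)) (.node (.leaf 536) (.leaf 0)))) (.node (.node (.node (.leaf 60) (.leaf 403)) (.node (.leaf 672) (.leaf 0))) (.node (.node (.leaf 608) (.leaf 0)) (.node (.leaf 90) (.leaf 0)))))) (.node (.node (.node (.node (.node (.leaf 352) (.leaf 369)) (.node (.leaf 99) (.leaf 0))) (.node (.node (.leaf 102) (.leaf 230)) (.node (.leaf 55) (.leaf 0)))) (.node (.node (.node (.leaf 288) (.leaf 7)) (.node (.leaf 521) (.leaf 0))) (.node (.node (.leaf 413) (.leaf 0)) (.node (.leaf 103) (.leaf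 0))))) (.node (.node (.node (.node (.leaf 679) (.leaf 432)) (.node (.leaf 411) (.leaf 0))) (.node (.node (.leaf 576) (.leaf 0)) (.node (.leaf 364) (.leaf 0)))) (.node (.node (.node (.leaf 674) (.leaf 363)) (.node (.leaf 526) (.leaf 0))) (.node (.node (.leaf 310) (.leaf 0)) (.node (.leaf 294) (.leaf 0))))))) (.node (.node (.node (.node (.node (.node (.leaf 467) (.leaf 223)) (.node (.leaf 440) (.leaf 0))) (.node (.node (.leaf 190) (.leaf 87)) (.node (.leaf 208) (.leaf 0)))) (.node (.node (.node (.leaf 25) (.leaf 143)) (.node (.leaf 468) (.leaf 0))) (.node (.node (.leaf 279) (.leaf 0)) (.node (.leaf 54) (.leaf 0))))) (.node (.node (.node (.node (.leaf 291) (.leaf 604)) (.node (.leaf 129) (.leaf 0))) (.node (.node (.leaf 305) (.leaf 0)) (.node (.leaf 675) (.leaf 0)))) (.node (.node (.node (.leaf 438) (.leaf 631)) (.node (.leaf 376) (.leaf 0))) (.node (.node (.leaf 238) (.leaf 0)) (.node (.leaf 139) (.leaf 0)))))) (.node (.node (.node (.node (.node (.leaf 350) (.leaf 216)) (.node (.leaf 437) (.leaf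 0))) (.node (.node (.leaf 573) (.leaf 327)) (.node (.leaf 243) (.leaf 0)))) (.node (.node (.node (.leaf 196) (.leaf 298)) (.node (.leaf 191) (.leaf 0))) (.node (.node (.leaf 83) (.leaf 0)) (.node (.leaf 255) (.leaf 0))))) (.node (.node (.node (.node (.leaf 68) (.leaf 637)) (.node (.leaf 329) (.leaf 0))) (.node (.node (.leaf 564) (.leaf 0)) (.node (.leaf 562) (.leaf 0)))) (.node (.node (.node (.leaf 126) (.leaf 159)) (.node (.leaf 250) (.leaf 0))) (.node (.node (.leaf 284) (.leaf 0)) (.node (.leaf 441) (.leaf 0)))))))) (.node (.node (.node (.node (.node (.node (.node (.leaf 53) (.leaf 426)) (.node (.leaf 26) (.leaf 0))) (.node (.node (.leaf 228) (.leaf 594)) (.node (.leaf 263) (.leaf 0)))) (.node (.node (.node (.leaf 400) (.leaf 667)) (.node (.leaf 627) (.leaf 0))) (.node (.node (.leaf 454) (.leaf 0)) (.node (.leaf 663) (.leaf 0))))) (.node (.node (.node (.node (.leaf 251) (.leaf 123)) (.node (.leaf 600) (.leaf 0))) (.node (.node (.leaf 132) (.leaf 96)) (.node (.leaf 293) (.leaf 0)))) (.node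 (.node (.node (.leaf 455) (.leaf 391)) (.node (.leaf 419) (.leaf 0))) (.node (.node (.leaf 381) (.leaf 0)) (.node (.leaf 210) (.leaf 0)))))) (.node (.node (.node (.node (.node (.leaf 280) (.leaf 109)) (.node (.leaf 613) (.leaf 0))) (.node (.node (.leaf 86) (.leaf 114)) (.node (.leaf 593) (.leaf 0)))) (.node (.node (.node (.leaf 45) (.leaf 622)) (.node (.leaf 335) (.leaf 0))) (.node (.node (.leaf 669) (.leaf 0)) (.node (.leaf 144) (.leaf 0))))) (.node (.node (.node (.node (.leaf 244) (.leaf 509)) (.node (.leaf 354) (.leaf 0))) (.node (.node (.leaf 296) (.leaf 0)) (.node (.leaf 634) (.leaf 0)))) (.node (.node (.node (.leaf 71) (.leaf 338)) (.node (.leaf 91) (.leaf 0))) (.node (.node (.leaf 445) (.leaf 0)) (.node (.leaf 128) (.leaf 0))))))) (.node (.node (.node (.node (.node (.node (.leaf 1) (.leaf 372)) (.node (.leaf 632) (.leaf 0))) (.node (.node (.leaf 409) (.leaf 621)) (.node (.leaf 81) (.leaf 0)))) (.node (.node (.node (.leaf 656) (.leaf 170)) (.node (.leaf 355) (.leaf 0))) (.node (.node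 (.leaf 72) (.leaf 0)) (.node (.leaf 119) (.leaf 0))))) (.node (.node (.node (.node (.leaf 365) (.leaf 50)) (.node (.leaf 66) (.leaf 0))) (.node (.node (.leaf 470) (.leaf 0)) (.node (.leaf 156) (.leaf 0)))) (.node (.node (.node (.leaf 474) (.leaf 202)) (.node (.leaf 199) (.leaf 0))) (.node (.node (.leaf 12) (.leaf 0)) (.node (.leaf 138) (.leaf 0)))))) (.node (.node (.node (.node (.node (.leaf 219) (.leaf 282)) (.node (.leaf 317) (.leaf 0))) (.node (.node (.leaf 477) (.leaf 299)) (.node (.leaf 292) (.leaf 0)))) (.node (.node (.node (.leaf 270) (.leaf 260)) (.node (.leaf 6) (.leaf 0))) (.node (.node (.leaf 155) (.leaf 0)) (.node (.leaf 451) (.leaf 0))))) (.node (.node (.node (.node (.leaf 652) (.leaf 23)) (.node (.leaf 399) (.leaf 0))) (.node (.node (.leaf 239) (.leaf 0)) (.node (.leaf 32) (.leaf 0)))) (.node (.node (.node (.leaf 601) (.leaf 676)) (.node (.leaf 388) (.leaf 0))) (.node (.node (.leaf 15) (.leaf 0)) (.node (.leaf 268) (.leaf 0))))))))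

def omT1 : NT := .node (.node (.node (.node (.node (.node (.node (.node (.leaf 175) (.leaf 44)) (.node (.leaf 494) (.leaf 0))) (.node (.node (.leaf 10) (.leaf 345)) (.node (.leaf 515) (.leaf 0)))) (.node (.node (.node (.leaf 361) (.leaf 192)) (.node (.leaf 262) (.leaf 0))) (.node (.node (.leaf 607) (.leaf 0)) (.node (.leaf 431) (.leaf 0))))) (.node (.node (.node (.node (.leaf 171) (.leaf 429)) (.node (.leaf 425) (.leaf 0))) (.node (.node (.leaf 649) (.leaf 585)) (.node (.leaf 177) (.leaf 0)))) (.node (.node (.node (.leaf 105) (.leaf 504)) (.node (.leaf 673) (.leaf 0))) (.node (.node (.leaf 480) (.leaf 0)) (.node (.leaf 21) (.leaf 0)))))) (.node (.node (.node (.node (.node (.leaf 534) (.leaf 240)) (.node (.leaf 148) (.leaf 0))) (.node (.node (.leaf 671) (.leaf 395)) (.node (.leaf 112) (.leaf 0)))) (.node (.node (.node (.leaf 43) (.leaf 557)) (.node (.leaf 269) (.leaf 0))) (.node (.node (.leaf 201) (.leaf 0)) (.node (.leaf 351) (.leaf 0))))) (.node (.node (.node (.node (.leaf 285) (.leaf 499))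 (.node (.leaf 589) (.leaf 0))) (.node (.node (.leaf 24) (.leaf 0)) (.node (.leaf 322) (.leaf 0)))) (.node (.node (.node (.leaf 247) (.leaf 340)) (.node (.leaf 572) (.leaf 0))) (.node (.node (.leaf 466) (.leaf 0)) (.node (.leaf 535) (.leaf 0))))))) (.node (.node (.node (.node (.node (.node (.leaf 506) (.leaf 537)) (.node (.leaf 532) (.leaf 0))) (.node (.node (.leaf 276) (.leaf 483)) (.node (.leaf 153) (.leaf 0)))) (.node (.node (.node (.leaf 397) (.leaf 643)) (.node (.leaf 49) (.leaf 0))) (.node (.node (.leaf 651) (.leaf 0)) (.node (.leaf 382) (.leaf 0))))) (.node (.node (.node (.node (.leaf 333) (.leaf 17)) (.node (.leaf 77) (.leaf 0))) (.node (.node (.leaf 659) (.leaf 0)) (.node (.leaf 113) (.leaf 0)))) (.node (.node (.node (.leaf 266) (.leaf 370)) (.node (.leaf 463) (.leaf 0))) (.node (.node (.leaf 430) (.leaf 0)) (.node (.leaf 184) (.leaf 0)))))) (.node (.node (.node (.node (.node (.leaf 38) (.leaf 510)) (.node (.leaf 473) (.leaf 0))) (.node (.node (.leaf 619) (.leaf 308)) (.node (.leaf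 89) (.leaf 0)))) (.node (.node (.node (.leaf 187) (.leaf 661)) (.node (.leaf 447) (.leaf 0))) (.node (.node (.leaf 380) (.leaf 0)) (.node (.leaf 493) (.leaf 0))))) (.node (.node (.node (.node (.leaf 237) (.leaf 261)) (.node (.leaf 371) (.leaf 0))) (.node (.node (.leaf 658) (.leaf 0)) (.node (.leaf 458) (.leaf 0)))) (.node (.node (.node (.leaf 221) (.leaf 197)) (.node (.leaf 121) (.leaf 0))) (.node (.node (.leaf 523) (.leaf 0)) (.node (.leaf 34) (.leaf 0)))))))) (.node (.node (.node (.node (.node (.node (.node (.leaf 107) (.leaf 176)) (.node (.leaf 527) (.leaf 0))) (.node (.node (.leaf 172) (.leaf 492)) (.node (.leaf 318) (.leaf 0)))) (.node (.node (.node (.leaf 40) (.leaf 359)) (.node (.leaf 549) (.leaf 0))) (.node (.node (.leaf 664) (.leaf 0)) (.node (.leaf 368) (.leaf 0))))) (.node (.node (.node (.node (.leaf 136) (.leaf 248)) (.node (.leaf 173) (.leaf 0))) (.node (.node (.leaf 93) (.leaf 543)) (.node (.leaf 98) (.leaf 0)))) (.node (.node (.node (.leaf 449) (.leaf 615)) (.node (.leaf 638)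 (.leaf 0))) (.node (.node (.leaf 524) (.leaf 0)) (.node (.leaf 254) (.leaf 0)))))) (.node (.node (.node (.node (.node (.leaf 36) (.leaf 565)) (.node (.leaf 456) (.leaf 0))) (.node (.node (.leaf 476) (.leaf 546)) (.node (.leaf 628) (.leaf 0)))) (.node (.node (.node (.leaf 525) (.leaf 610)) (.node (.leaf 561) (.leaf 0))) (.node (.node (.leaf 297) (.leaf 0)) (.node (.leaf 568) (.leaf 0))))) (.node (.node (.node (.node (.leaf 222) (.leaf 362)) (.node (.leaf 617) (.leaf 0))) (.node (.node (.leaf 106) (.leaf 0)) (.node (.leaf 590) (.leaf 0)))) (.node (.node (.node (.leaf 42) (.leaf 229)) (.node (.leaf 636) (.leaf 0))) (.node (.node (.leaf 442) (.leaf 0)) (.node (.leaf 378) (.leaf 0))))))) (.node (.node (.node (.node (.node (.node (.leaf 332) (.leaf 417)) (.node (.leaf 570) (.leaf 0))) (.node (.node (.leaf 183) (.leaf 256)) (.node (.leaf 436) (.leaf 0)))) (.node (.node (.node (.leaf 670) (.leaf 167)) (.node (.leaf 420) (.leaf 0))) (.node (.node (.leaf 275) (.leaf 0)) (.node (.leaf 271) (.leaf 0)))))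 (.node (.node (.node (.node (.leaf 624) (.leaf 597)) (.node (.leaf 517) (.leaf 0))) (.node (.node (.leaf 33) (.leaf 0)) (.node (.leaf 508) (.leaf 0)))) (.node (.node (.node (.leaf 278) (.leaf 620)) (.node (.leaf 479) (.leaf 0))) (.node (.node (.leaf 181) (.leaf 0)) (.node (.leaf 300) (.leaf 0)))))) (.node (.node (.node (.node (.node (.leaf 79) (.leaf 51)) (.node (.leaf 373) (.leaf 0))) (.node (.node (.leaf 471) (.leaf 418)) (.node (.leaf 495) (.leaf 0)))) (.node (.node (.node (.leaf 272) (.leaf 496)) (.node (.leaf 241) (.leaf 0))) (.node (.node (.leaf 195) (.leaf 0)) (.node (.leaf 647) (.leaf 0))))) (.node (.node (.node (.node (.leaf 571) (.leaf 141)) (.node (.leaf 215) (.leaf 0))) (.node (.node (.leaf 648) (.leaf 0)) (.node (.leaf 522) (.leaf 0)))) (.node (.node (.node (.leaf 484) (.leaf 416)) (.node (.leaf 356) (.leaf 0))) (.node (.node (.leaf 348) (.leaf 0)) (.node (.leaf 453) (.leaf 0))))))))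

def omT2 : NT := .node (.node (.node (.node (.node (.node (.node (.node (.leaf 539) (.leaf 569)) (.node (.leaf 635) (.leaf 0))) (.node (.node (.leaf 481) (.leaf 13)) (.node (.leaf 246) (.leaf 0)))) (.node (.node (.node (.leaf 579) (.leaf 311)) (.node (.leaf 169) (.leaf 0))) (.node (.node (.leaf 116) (.leaf 0)) (.node (.leaf 95) (.leaf 0))))) (.node (.node (.node (.node (.leaf 394) (.leaf 650)) (.node (.leaf 500) (.leaf 0))) (.node (.node (.leaf 578) (.leaf 231)) (.node (.leaf 131) (.leaf 0)))) (.node (.node (.node (.leaf 505) (.leaf 514)) (.node (.leaf 595) (.leaf 0))) (.node (.node (.leaf 163) (.leaf 0)) (.node (.leaf 599) (.leaf 0)))))) (.node (.node (.node (.node (.node (.leaf 16) (.leaf 434)) (.node (.leaf 641) (.leaf 0))) (.node (.node (.leaf 321) (.leaf 548)) (.node (.leaf 27) (.leaf 0)))) (.node (.node (.node (.leaf 154) (.leaf 314)) (.node (.leaf 551) (.leaf 0))) (.node (.node (.leaf 76) (.leaf 0)) (.node (.leaf 264) (.leaf 0))))) (.node (.node (.node (.node (.leaf 3) (.leaf 325))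 (.node (.leaf 404) (.leaf 0))) (.node (.node (.leaf 220) (.leaf 0)) (.node (.leaf 592) (.leaf 0)))) (.node (.node (.node (.leaf 186) (.leaf 645)) (.node (.leaf 389) (.leaf 0))) (.node (.node (.leaf 491) (.leaf 0)) (.node (.leaf 421) (.leaf 0))))))) (.node (.node (.node (.node (.node (.node (.leaf 666) (.leaf 101)) (.node (.leaf 161) (.leaf 0))) (.node (.node (.leaf 541) (.leaf 320)) (.node (.leaf 415) (.leaf 0)))) (.node (.node (.node (.leaf 205) (.leaf 194)) (.node (.leaf 193) (.leaf 0))) (.node (.node (.leaf 313) (.leaf 0)) (.node (.leaf 386) (.leaf 0))))) (.node (.node (.node (.node (.leaf 328) (.leaf 586)) (.node (.leaf 602) (.leaf 0))) (.node (.node (.leaf 408) (.leaf 0)) (.node (.leaf 150) (.leaf 0)))) (.node (.node (.node (.leaf 149) (.leaf 160)) (.node (.leaf 307) (.leaf 0))) (.node (.node (.leaf 513) (.leaf 0)) (.node (.leaf 407) (.leaf 0)))))) (.node (.node (.node (.node (.node (.leaf 625) (.leaf 542)) (.node (.leaf 100) (.leaf 0))) (.node (.node (.leaf 550) (.leaf 519)) (.node (.leaf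 406) (.leaf 0)))) (.node (.node (.node (.leaf 37) (.leaf 629)) (.node (.leaf 530) (.leaf 0))) (.node (.node (.leaf 85) (.leaf 0)) (.node (.leaf 277) (.leaf 0))))) (.node (.node (.node (.node (.leaf 323) (.leaf 182)) (.node (.leaf 157) (.leaf 0))) (.node (.node (.leaf 343) (.leaf 0)) (.node (.leaf 640) (.leaf 0)))) (.node (.node (.node (.leaf 65) (.leaf 626)) (.node (.leaf 211) (.leaf 0))) (.node (.node (.leaf 655) (.leaf 0)) (.node (.leaf 614) (.leaf 0)))))))) (.node (.node (.node (.node (.node (.node (.node (.leaf 267) (.leaf 450)) (.node (.leaf 62) (.leaf 0))) (.node (.node (.leaf 342) (.leaf 78)) (.node (.leaf 396) (.leaf 0)))) (.node (.node (.node (.leaf 94) (.leaf 554)) (.node (.leaf 598) (.leaf 0))) (.node (.node (.leaf 478) (.leaf 0)) (.node (.leaf 677) (.leaf 0))))) (.node (.node (.node (.node (.leaf 464) (.leaf 234)) (.node (.leaf 486) (.leaf 0))) (.node (.node (.leaf 427) (.leaf 334)) (.node (.leaf 206) (.leaf 0)))) (.node (.node (.node (.leaf 198) (.leaf 302)) (.node (.leaf 281)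 (.leaf 0))) (.node (.node (.leaf 207) (.leaf 0)) (.node (.leaf 412) (.leaf 0)))))) (.node (.node (.node (.node (.node (.leaf 257) (.leaf 306)) (.node (.leaf 390) (.leaf 0))) (.node (.node (.leaf 603) (.leaf 591)) (.node (.leaf 461) (.leaf 0)))) (.node (.node (.node (.leaf 606) (.leaf 309)) (.node (.leaf 512) (.leaf 0))) (.node (.node (.leaf 5) (.leaf 0)) (.node (.leaf 583) (.leaf 0))))) (.node (.node (.node (.node (.leaf 58) (.leaf 398)) (.node (.leaf 410) (.leaf 0))) (.node (.node (.leaf 8) (.leaf 0)) (.node (.leaf 142) (.leaf 0)))) (.node (.node (.node (.leaf 31) (.leaf 488)) (.node (.leaf 574) (.leaf 0))) (.node (.node (.leaf 253) (.leaf 0)) (.node (.leaf 520) (.leaf 0))))))) (.node (.node (.node (.node (.node (.node (.leaf 618) (.leaf 498)) (.node (.leaf 258) (.leaf 0))) (.node (.node (.leaf 502) (.leaf 596)) (.node (.leaf 553) (.leaf 0)))) (.node (.node (.node (.leaf 227) (.leaf 130)) (.node (.leaf 18) (.leaf 0))) (.node (.node (.leaf 349) (.leaf 0)) (.node (.leaf 213) (.leaf 0))))) (.node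 (.node (.node (.node (.leaf 2) (.leaf 587)) (.node (.leaf 460) (.leaf 0))) (.node (.node (.leaf 301) (.leaf 0)) (.node (.leaf 29) (.leaf 0)))) (.node (.node (.node (.leaf 540) (.leaf 660)) (.node (.leaf 668) (.leaf 0))) (.node (.node (.leaf 379) (.leaf 0)) (.node (.leaf 567) (.leaf 0)))))) (.node (.node (.node (.node (.node (.leaf 69) (.leaf 265)) (.node (.leaf 125) (.leaf 0))) (.node (.node (.leaf 443) (.leaf 108)) (.node (.leaf 145) (.leaf 0)))) (.node (.node (.node (.leaf 147) (.leaf 678)) (.node (.leaf 133) (.leaf 0))) (.node (.node (.leaf 518) (.leaf 0)) (.node (.leaf 446) (.leaf 0))))) (.node (.node (.node (.node (.leaf 367) (.leaf 547)) (.node (.leaf 558) (.leaf 0))) (.node (.node (.leaf 402) (.leaf 0)) (.node (.leaf 88) (.leaf 0)))) (.node (.node (.node (.leaf 218) (.leaf 566)) (.node (.leaf 117) (.leaf 0))) (.node (.node (.leaf 487) (.leaf 0)) (.node (.leaf 646) (.leaf 0))))))))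

def omT3 : NT := .node (.node (.node (.node (.node (.node (.node (.node (.leaf 319) (.leaf 212)) (.node (.leaf 469) (.leaf 0))) (.node (.node (.leaf 358) (.leaf 166)) (.node (.leaf 118) (.leaf 0)))) (.node (.node (.node (.leaf 214) (.leaf 67)) (.node (.leaf 204) (.leaf 0))) (.node (.node (.leaf 511) (.leaf 0)) (.node (.leaf 97) (.leaf 0))))) (.node (.node (.node (.node (.leaf 70) (.leaf 74)) (.node (.leaf 605) (.leaf 0))) (.node (.node (.leaf 336) (.leaf 28)) (.node (.leaf 162) (.leaf 0)))) (.node (.node (.node (.leaf 295) (.leaf 341)) (.node (.leaf 485) (.leaf 0))) (.node (.node (.leaf 80) (.leaf 0)) (.node (.leaf 503) (.leaf 0)))))) (.node (.node (.node (.node (.node (.leaf 73) (.leaf 531)) (.node (.leaf 560) (.leaf 0))) (.node (.node (.leaf 584) (.leaf 339)) (.node (.leaf 224) (.leaf 0)))) (.node (.node (.node (.leaf 475) (.leaf 158)) (.node (.leaf 52) (.leaf 0))) (.node (.node (.leaf 289) (.leaf 0)) (.node (.leaf 422) (.leaf 0))))) (.node (.node (.node (.node (.leaf 326) (.leaf 188)) (.node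 (.leaf 374) (.leaf 0))) (.node (.node (.leaf 120) (.leaf 0)) (.node (.leaf 472) (.leaf 0)))) (.node (.node (.node (.leaf 516) (.leaf 61)) (.node (.leaf 375) (.leaf 0))) (.node (.node (.leaf 151) (.leaf 0)) (.node (.leaf 423) (.leaf 0))))))) (.node (.node (.node (.node (.node (.node (.leaf 344) (.leaf 633)) (.node (.leaf 405) (.leaf 0))) (.node (.node (.leaf 47) (.leaf 200)) (.node (.leaf 174) (.leaf 0)))) (.node (.node (.node (.leaf 559) (.leaf 538)) (.node (.leaf 353) (.leaf 0))) (.node (.node (.leaf 428) (.leaf 0)) (.node (.leaf 19) (.leaf 0))))) (.node (.node (.node (.node (.leaf 424) (.leaf 623)) (.node (.leaf 217) (.leaf 0))) (.node (.node (.leaf 115) (.leaf 0)) (.node (.leaf 654) (.leaf 0)))) (.node (.node (.node (.leaf 639) (.leaf 111)) (.node (.leaf 41) (.leaf 0))) (.node (.node (.leaf 64) (.leaf 0)) (.node (.leaf 556) (.leaf 0)))))) (.node (.node (.node (.node (.node (.leaf 545) (.leaf 259)) (.node (.leaf 582) (.leaf 0))) (.node (.node (.leaf 59) (.leaf 4)) (.node (.leaf 180) (.leaf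 0)))) (.node (.node (.node (.leaf 164) (.leaf 30)) (.node (.leaf 401) (.leaf 0))) (.node (.node (.leaf 489) (.leaf 0)) (.node (.leaf 507) (.leaf 0))))) (.node (.node (.node (.node (.leaf 274) (.leaf 122)) (.node (.leaf 387) (.leaf 0))) (.node (.node (.leaf 665) (.leaf 0)) (.node (.leaf 249) (.leaf 0)))) (.node (.node (.node (.leaf 577) (.leaf 14)) (.node (.leaf 392) (.leaf 0))) (.node (.node (.leaf 385) (.leaf 0)) (.node (.leaf 35) (.leaf 0)))))))) (.node (.node (.node (.node (.node (.node (.node (.leaf 92) (.leaf 56)) (.node (.leaf 612) (.leaf 0))) (.node (.node (.leaf 642) (.leaf 178)) (.node (.leaf 11) (.leaf 0)))) (.node (.node (.node (.leaf 233) (.leaf 127)) (.node (.leaf 555) (.leaf 0))) (.node (.node (.leaf 110) (.leaf 0)) (.node (.leaf 134) (.leaf 0))))) (.node (.node (.node (.node (.leaf 22) (.leaf 588)) (.node (.leaf 457) (.leaf 0))) (.node (.node (.leaf 330) (.leaf 657)) (.node (.leaf 165) (.leaf 0)))) (.node (.node (.node (.leaf 360) (.leaf 140)) (.node (.leaf 303) (.leaf 0))) (.node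 (.node (.leaf 331) (.leaf 0)) (.node (.leaf 48) (.leaf 0)))))) (.node (.node (.node (.node (.node (.leaf 39) (.leaf 232)) (.node (.leaf 653) (.leaf 0))) (.node (.node (.leaf 63) (.leaf 168)) (.node (.leaf 209) (.leaf 0)))) (.node (.node (.node (.leaf 20) (.leaf 179)) (.node (.leaf 245) (.leaf 0))) (.node (.node (.leaf 75) (.leaf 0)) (.node (.leaf 152) (.leaf 0))))) (.node (.node (.node (.node (.leaf 529) (.leaf 383)) (.node (.leaf 616) (.leaf 0))) (.node (.node (.leaf 609) (.leaf 0)) (.node (.leaf 433) (.leaf 0)))) (.node (.node (.node (.leaf 57) (.leaf 497)) (.node (.leaf 435) (.leaf 0))) (.node (.node (.leaf 346) (.leaf 0)) (.node (.leaf 377) (.leaf 0))))))) (.node (.node (.node (.node (.node (.node (.leaf 242) (.leaf 287)) (.node (.leaf 552) (.leaf 0))) (.node (.node (.leaf 324) (.leaf 304)) (.node (.leaf 9) (.leaf 0)))) (.node (.node (.node (.leaf 630) (.leaf 84)) (.node (.leaf 189) (.leaf 0))) (.node (.node (.leaf 46) (.leaf 0)) (.node (.leaf 414) (.leaf 0))))) (.node (.node (.node (.node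 (.leaf 203) (.leaf 283)) (.node (.leaf 662) (.leaf 0))) (.node (.node (.leaf 462) (.leaf 0)) (.node (.leaf 580) (.leaf 0)))) (.node (.node (.node (.leaf 273) (.leaf 357)) (.node (.leaf 235) (.leaf 0))) (.node (.node (.leaf 563) (.leaf 0)) (.node (.leaf 0) (.leaf 0)))))) (.node (.node (.node (.node (.node (.leaf 459) (.leaf 185)) (.node (.leaf 252) (.leaf 0))) (.node (.node (.leaf 444) (.leaf 337)) (.node (.leaf 644) (.leaf 0)))) (.node (.node (.node (.leaf 124) (.leaf 452)) (.node (.leaf 315) (.leaf 0))) (.node (.node (.leaf 312) (.leaf 0)) (.node (.leaf 482) (.leaf 0))))) (.node (.node (.node (.node (.leaf 366) (.leaf 544)) (.node (.leaf 347) (.leaf 0))) (.node (.node (.leaf 533) (.leaf 0)) (.node (.leaf 290) (.leaf 0)))) (.node (.node (.node (.leaf 137) (.leaf 490)) (.node (.leaf 104) (.leaf 0))) (.node (.node (.leaf 439) (.leaf 0)) (.node (.leaf 575) (.leaf 0))))))))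

def omT : NT := .node (.node (omT0) (omT2)) (.node (omT1) (omT3))

end Cfsg.Agent.JankoThree.Sub
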