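import Cfsg.Agent.JankoThree.SubDataA
import Cfsg.Agent.JankoThree.SubDataB
import Cfsg.Agent.JankoThree.SubDataC

/-! The certificate `Sub`. -/

set_option autoImplicit false

namespace Cfsg.Agent.JankoThree.Sub

/-- The certificate. -/
def cert : Cert where
  g0 := 1097911479164289843899444600941992332934524248370
  g1 := 5833065151644200361296222935067751177600849702721
  w0 := [0, 0, 0, 0, 0, 1, 1, 0, 0, 0, 0, 1, 0, 1]
  w1 := [1, 1, 1, 1, 0, 0, 1, 0, 0, 1, 0]
  h0 := 2926583860515587062210668111606829182082483492362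
  h1 := 16476026657012009835658862988409801444008625677
  v := 133021
  N := 680
  m := 36
  M := mT
  H := hT
  E0 := e0T
  E1 := e1T
  HE0 := he0T
  HE1 := he1T
  P := pT
  HP := hpT
  K := kT
  OM := omT
  OH := ohT

end Cfsg.Agent.JankoThree.Sub
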